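import Cfsg.Statements.S3875
import Cfsg.Agent.H60.PClosedMin
import Cfsg.Agent.Linear.Simple
import Cfsg.Agent.Linear.Order

set_option autoImplicit false
open Cfsg

namespace Cfsg.Agent.S3875

open Cfsg in
theorem not_closed_of_simple {H : Type*} [Group H] [Finite H] [IsSimpleGroup H] {p : ℕ}
    [Fact p.Prime] (hp : p ∣ Nat.card H) (hlt : ∀ P : Sylow p H, Nat.card P < Nat.card H) :
    ¬ IsPClosed p H := by
  intro h
  obtain ⟨P⟩ : Nonempty (Sylow p H) := inferInstance
  rcases (h P).eq_bot_or_eq_top with hb | ht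
  · have := P.dvd_card_of_dvd_card hp
    rw [hb, Subgroup.card_bot] at this
    exact (Fact.out : p.Prime).one_lt.ne' (Nat.dvd_one.1 this)
  · have := hlt P
    rw [ht, Subgroup.card_top] at this
    exact lt_irrefl _ this

/-- The affine group of a field with a unit of prime order. -/
theorem exists_affine {F : Type} [Field F] [Finite F] (p : ℕ) [hp : Fact p.Prime] (u : Fˣ)
    (hu : orderOf u = p) (hF : ¬ p ∣ Nat.card F) :
    ∃ (H : Type) (_ : Group H) (_ : Finite H),
      Nat.card H = p * Nat.card F ∧ ¬ Cfsg.IsPClosed p H := by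
  classical
  let φ : Subgroup.zpowers u →* MulAut (Multiplicative F) :=
    { toFun := fun a =>
        { toFun := fun x => Multiplicative.ofAdd (((a : Fˣ) : F) * x.toAdd)
          invFun := fun x => Multiplicative.ofAdd ((((a : Fˣ)⁻¹ : Fˣ) : F) * x.toAdd)
          left_inv := fun x => by simp
          right_inv := fun x => by simp
          map_mul' := fun x y => by simp [mul_add] }
      map_one' := by ext x; simp
      map_mul' := fun a b => by ext x; simp [mul_assoc] }
  haveI : Finite (Multiplicative F ⋊[φ] Subgroup.zpowers u) :=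
    Finite.of_equiv _ SemidirectProduct.equivProd.symm
  have hcard : Nat.card (Multiplicative F ⋊[φ] Subgroup.zpowers u) = p * Nat.card F := by
    rw [SemidirectProduct.card, Nat.card_zpowers, hu, mul_comm]
    rfl
  refine ⟨_, inferInstance, inferInstance, hcard, fun hcl => ?_⟩
  set P0 := (SemidirectProduct.inr : Subgroup.zpowers u →* Multiplicative F ⋊[φ] _).range with hP0
  have hc0 : Nat.card P0 = p := by
    rw [← Nat.card_congr (MonoidHom.ofInjective SemidirectProduct.inr_injective).toEquiv,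
      Nat.card_zpowers, hu]
  obtain ⟨S, hS⟩ := (IsPGroup.of_card (n := 1) (p := p) (by rw [hc0, pow_one])).exists_le_sylow
    (P := P0)
  have hSe : P0 = S := Subgroup.eq_of_le_of_card_ge hS (by
    rw [hc0, S.card_eq_multiplicity, hcard,
      Nat.factorization_mul hp.out.ne_zero Nat.card_pos.ne', Finsupp.add_apply,
      hp.out.factorization_self, Nat.factorization_eq_zero_of_not_dvd hF]
    simp)
  haveI hn : P0.Normal := hSe ▸ hcl S
  let a : Subgroup.zpowers u := ⟨u, Subgroup.mem_zpowers u⟩
  have h := hn.conj_mem (SemidirectProduct.inr a) ⟨a, rfl⟩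
    (SemidirectProduct.inl (Multiplicative.ofAdd 1))
  obtain ⟨b, hb⟩ := h
  have hl := congrArg (fun z => Multiplicative.toAdd (SemidirectProduct.left z)) hb
  simp [φ, a] at hl
  have hu1 : u = 1 := by
    refine Units.ext ?_
    rw [Units.val_one]
    linear_combination hl
  rw [hu1, orderOf_one] at hu
  exact hp.out.one_lt.ne hu

/-- Let p be an odd prime and let m be the least prime power congruent to 1 modulo p. Then the least order of a finite group whose Sylow p-subgroups are not normal is the smaller of p · m and p(p² − 1)/2: every finite group whose Sylow p-subgroups are not normal has at least that order, and some group of exactly that order has non-normal Sylow p-subgroups. -/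
theorem result (p : ℕ) [Fact p.Prime] (hp : p ≠ 2) (m : ℕ) (hm : IsPrimePow m) (hm1 : m % p = 1)
    (hleast : ∀ k : ℕ, IsPrimePow k → k % p = 1 → m ≤ k) :
    (∀ (H : Type) [Group H] [Finite H], ¬ Cfsg.IsPClosed p H → min (p * m) (p * (p ^ 2 - 1) / 2) ≤ Nat.card H) ∧
      ∃ (H : Type) (_ : Group H) (_ : Finite H), Nat.card H = min (p * m) (p * (p ^ 2 - 1) / 2) ∧ ¬ Cfsg.IsPClosed p H := by
  have hp' : p.Prime := Fact.out
  refine ⟨fun H _ _ h => H60.PClosedMin.card_bound hp m hleast _ H rfl h, ?_⟩
  obtain ⟨r, k, hr, hk, rfl⟩ := hm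
  haveI : Fact r.Prime := ⟨hr.nat_prime⟩
  by_cases hle : p * r ^ k ≤ p * (p ^ 2 - 1) / 2
  · rw [min_eq_left hle]
    letI : Fintype (GaloisField r k) := Fintype.ofFinite _
    have hF : Nat.card (GaloisField r k) = r ^ k := GaloisField.card r k hk.ne'
    have hne : r ^ k ≠ 1 := fun h => by rw [h] at hle; exact (Nat.one_lt_pow hk.ne' hr.nat_prime.one_lt).ne' h
    have hdvd : p ∣ Nat.card (GaloisField r k)ˣ := by
      rw [Nat.card_units, hF]
      exact (Nat.modEq_iff_dvd' (Nat.one_le_pow _ _ hr.nat_prime.pos)).1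
        (show 1 ≡ r ^ k [MOD p] by rw [Nat.ModEq, hm1, Nat.mod_eq_of_lt hp'.one_lt])
    obtain ⟨u, hu⟩ := exists_prime_orderOf_dvd_card' p hdvd
    obtain ⟨H, i1, i2, h1, h2⟩ := exists_affine p u hu (by
      rw [hF]; intro h
      rw [Nat.mod_eq_zero_of_dvd h] at hm1 <;> omega)
    exact ⟨H, i1, i2, by rw [h1, hF], h2⟩
  · rw [min_eq_right (le_of_not_ge hle)]
    obtain ⟨j, hj⟩ : ∃ j, p = 2 * j + 1 := hp'.eq_two_or_odd'.resolve_left hp
    have hp5 : 4 ≤ p := by
      by_contra h
      have h3 : p = 3 := by have := hp'.two_le; omega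
      subst h3
      have : r ^ k ≤ 4 := hleast 4 ⟨2, 2, Nat.prime_two.prime, by norm_num, rfl⟩ rfl
      norm_num at hle
      omega
    haveI : NeZero p := ⟨hp'.ne_zero⟩
    have hsimp : IsSimpleGroup (Matrix.ProjectiveSpecialLinearGroup (Fin 2) (ZMod p)) :=
      Linear.isSimpleGroup_PSL_fin le_rfl fun _ => by rw [Nat.card_zmod]; omega
    have hc := Linear.card_PSL_two_mul (F := ZMod p)
    have hg : Nat.gcd 2 (p - 1) = 2 := Nat.gcd_eq_left ⟨j, by omega⟩
    rw [ZMod.card, hg] at hc
    have hcard : Nat.card (Matrix.ProjectiveSpecialLinearGroup (Fin 2) (ZMod p)) =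
        p * (p ^ 2 - 1) / 2 := by omega
    refine ⟨_, inferInstance, inferInstance, hcard, ?_⟩
    set H := Matrix.ProjectiveSpecialLinearGroup (Fin 2) (ZMod p)
    have hpd : p ^ 2 - 1 = 2 * (2 * j ^ 2 + 2 * j) := by rw [hj]; ring_nf; omega
    have hcard' : Nat.card H = p * (2 * j ^ 2 + 2 * j) := by
      rw [hpd, show p * (2 * (2 * j ^ 2 + 2 * j)) = 2 * (p * (2 * j ^ 2 + 2 * j)) by ring] at hcard
      omega
    refine not_closed_of_simple ⟨_, hcard'⟩ fun P => lt_of_le_of_ne
      (Subgroup.card_le_card_group _) fun h => ?_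
    obtain ⟨i, hi⟩ := IsPGroup.iff_card.1 P.isPGroup'
    rw [h, hcard'] at hi
    have h2 : 2 ∣ p ^ i := by
      rw [← hi]
      exact ⟨p * (j ^ 2 + j), by ring⟩
    have := Nat.prime_two.dvd_of_dvd_pow h2
    omega

end Cfsg.Agent.S3875
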