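import Cfsg.Statements.S3878
import Cfsg.Agent.Linear.Dickson.Orders
import Cfsg.Agent.Linear.Simple

set_option autoImplicit false
open Cfsg

namespace Cfsg.Agent.S3878
/-- No fourth power of a prime divides 12, 24 or 60. -/
theorem small {p n : ℕ} (hp : p.Prime) (hp16 : 16 ≤ p ^ 4) (h : p ^ 4 ∣ n)
    (hn : n ∣ 24 ∨ n ∣ 60) : False := by
  have h' : p ^ 4 ∣ 120 := by
    rcases hn with hn | hn
    · exact (h.trans hn).trans (by norm_num)
    · exact (h.trans hn).trans (by norm_num)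
  have hp4 : p < 4 := by
    by_contra hc
    have := Nat.le_of_dvd (by norm_num) h'
    have : 4 ^ 4 ≤ p ^ 4 := Nat.pow_le_pow_left (by omega) 4
    omega
  have := hp.two_le
  interval_cases p <;> norm_num at h'

/-- If `π` contains at most one prime, π-subgroups are p-groups. -/
theorem sylow_case {π : Set ℕ} (h : ∀ p q : ℕ, p.Prime → q.Prime → p ∈ π → q ∈ π → p = q)
    (G : Type) [Group G] [Finite G] : Cfsg.IsEPiGroup π G ∧ Cfsg.IsDPiGroup π G := by
  by_cases hex : ∃ p, p.Prime ∧ p ∈ π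
  · obtain ⟨p, hp, hpπ⟩ := hex
    have := Fact.mk hp
    have key : ∀ H : Subgroup G, Cfsg.IsPiSubgroup π H → IsPGroup p H := by
      intro H hH
      refine IsPGroup.of_card (n := (Nat.card H).primeFactorsList.length) ?_
      exact Nat.eq_prime_pow_of_unique_prime_dvd Nat.card_pos.ne'
        (fun {d} hd hdd => h d p hd hp (hH d hd hdd) hpπ)
    have key' : ∀ P : Sylow p G, Cfsg.IsPiSubgroup π (P : Subgroup G) := by
      intro P r hr hd
      obtain ⟨k, hk⟩ := IsPGroup.iff_card.mp P.isPGroup'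
      rw [hk] at hd
      exact (Nat.prime_dvd_prime_iff_eq hr hp).mp (hr.dvd_of_dvd_pow hd) ▸ hpπ
    refine ⟨?_, ?_⟩
    · obtain ⟨P⟩ : Nonempty (Sylow p G) := inferInstance
      refine ⟨(P : Subgroup G), key' P, fun r hr hrπ => ?_⟩
      obtain rfl := h r p hr hp hrπ hpπ
      exact P.not_dvd_index
    · intro H K hH hK
      obtain ⟨P, hP⟩ := (key H hH.1).exists_le_sylow
      obtain ⟨Q, hQ⟩ := (key K hK.1).exists_le_sylow
      have eH := le_antisymm (hH.2 (key' P) hP) hP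
      have eK := le_antisymm (hK.2 (key' Q) hQ) hQ
      obtain ⟨g, hg⟩ := MulAction.exists_smul_eq G P Q
      exact ⟨g, by rw [← eH, ← eK, ← hg]; rfl⟩
  · push_neg at hex
    have key : ∀ H : Subgroup G, Cfsg.IsPiSubgroup π H → H = ⊥ := by
      intro H hH
      refine Subgroup.eq_bot_of_card_eq _ ?_
      by_contra hne
      obtain ⟨r, hr, hd⟩ := Nat.exists_prime_and_dvd hne
      exact hex r hr (hH r hr hd)
    refine ⟨⟨⊥, fun r hr hd => ?_, fun r hr hrπ => absurd hrπ (hex r hr)⟩, fun H K hH hK => ?_⟩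
    · rw [Subgroup.card_bot] at hd
      exact absurd hd hr.not_dvd_one
    · exact ⟨1, by rw [key H hH.1, key K hK.1]; simp⟩

/-- If `π` contains all primes, the whole group is the Hall π-subgroup. -/
theorem all_case {π : Set ℕ} (h : ∀ p : ℕ, p.Prime → p ∈ π) (G : Type) [Group G] [Finite G] :
    Cfsg.IsEPiGroup π G ∧ Cfsg.IsDPiGroup π G := by
  refine ⟨⟨⊤, fun r hr _ => h r hr, fun r hr _ hd => ?_⟩, fun H K hH hK => ?_⟩
  · rw [Subgroup.index_top] at hd
    exact hr.not_dvd_one hd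
  · refine ⟨1, ?_⟩
    have e1 : H = ⊤ := top_le_iff.mp (hH.2 (fun r hr _ => h r hr) le_top)
    have e2 : K = ⊤ := top_le_iff.mp (hK.2 (fun r hr _ => h r hr) le_top)
    subst e1 e2
    simp

/-- A D-group is an E-group. -/
theorem epi_of_dpi {π : Set ℕ} (G : Type) [Group G] [Finite G] (h : Cfsg.IsDPiGroup π G) :
    Cfsg.IsEPiGroup π G := by
  have hbot : Cfsg.IsPiSubgroup π (⊥ : Subgroup G) := fun r hr hd => by
    rw [Subgroup.card_bot] at hd
    exact absurd hd hr.not_dvd_one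
  obtain ⟨H, -, hH⟩ := Finite.exists_le_maximal (p := Cfsg.IsPiSubgroup π) hbot
  refine ⟨H, hH.1, fun p hp hpπ hd => ?_⟩
  have := Fact.mk hp
  let P : Sylow p G := Classical.arbitrary _
  have hP : Cfsg.IsPiSubgroup π (P : Subgroup G) := fun r hr hd => by
    obtain ⟨k, hk⟩ := IsPGroup.iff_card.mp P.isPGroup'
    rw [hk] at hd
    exact (Nat.prime_dvd_prime_iff_eq hr hp).mp (hr.dvd_of_dvd_pow hd) ▸ hpπ
  obtain ⟨K, hPK, hK⟩ := Finite.exists_le_maximal (p := Cfsg.IsPiSubgroup π) hP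
  obtain ⟨g, hg⟩ := h H K hH hK
  have hi : H.index = K.index := by
    have h1 := H.card_mul_index
    have h2 := K.card_mul_index
    rw [hg, Subgroup.card_map_of_injective (MulAut.conj g).injective, ← hg, ← h1] at h2
    exact (Nat.eq_of_mul_eq_mul_left Nat.card_pos h2).symm
  exact P.not_dvd_index ((hi ▸ hd).trans (Subgroup.index_dvd_of_le hPK))

open Matrix Cfsg.Agent.Linear in
/-- A projective special linear group of degree two without Hall π-subgroup. -/
theorem exists_no_hall {π : Set ℕ} {p q r : ℕ} (hp : p.Prime) (hq : q.Prime) (hr : r.Prime)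
    (hpπ : p ∈ π) (hqπ : q ∈ π) (hrπ : r ∉ π) (hpq : p ≠ q) (hq2 : q ≠ 2) :
    ∃ (G : Type) (_ : Group G), Finite G ∧ ¬ Cfsg.IsEPiGroup π G := by
  have hcop : (2 ^ 5 * p ^ 5 * r).Coprime q := by
    have h1 : Nat.Coprime 2 q := (Nat.coprime_primes Nat.prime_two hq).mpr hq2.symm
    have h2 : Nat.Coprime p q := (Nat.coprime_primes hp hq).mpr hpq
    have h3 : Nat.Coprime r q := (Nat.coprime_primes hr hq).mpr fun h => hrπ (h ▸ hqπ)
    exact ((h1.pow_left 5).mul_left (h2.pow_left 5)).mul_left h3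
  obtain ⟨a, ha1, ha2⟩ := Nat.chineseRemainder hcop 1 (q - 1)
  have hN : 2 ^ 5 * p ^ 5 * r * q ≠ 0 := by simp [hp.ne_zero, hq.ne_zero, hr.ne_zero]
  have hac : a.Coprime (2 ^ 5 * p ^ 5 * r * q) := by
    refine Nat.Coprime.mul_right ?_ ?_
    · rw [Nat.Coprime, ha1.gcd_eq, Nat.gcd_one_left]
    · rw [Nat.Coprime, ha2.gcd_eq]
      exact (Nat.Coprime.symm ((hq.coprime_iff_not_dvd).mpr fun h => by
        have := Nat.le_of_dvd (by have := hq.two_le; omega) h
        have := hq.two_le; omega))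
  obtain ⟨l, hl5, hl, hla⟩ := Nat.forall_exists_prime_gt_and_modEq 5 hN hac
  have hl1 : 2 ^ 5 * p ^ 5 * r ∣ l - 1 :=
    (Nat.modEq_iff_dvd' (by omega)).mp ((hla.of_dvd (dvd_mul_right _ q)).trans ha1).symm
  have hlq : q ∣ l + 1 := by
    have h : (l + 1) % q = 0 := by
      have h' : l + 1 ≡ q - 1 + 1 [MOD q] :=
        ((hla.of_dvd (dvd_mul_left q _)).trans ha2).add_right 1
      rw [h', Nat.sub_add_cancel hq.one_le, Nat.mod_self]
    exact Nat.dvd_of_mod_eq_zero h
  have : Fact l.Prime := ⟨hl⟩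
  refine ⟨Matrix.ProjectiveSpecialLinearGroup (Fin 2) (ZMod l), inferInstance, inferInstance, ?_⟩
  rintro ⟨H, hH, hHi⟩
  have hF : Fintype.card (ZMod l) = l := ZMod.card l
  have hodd : l % 2 = 1 := Nat.odd_iff.mp (hl.odd_of_ne_two (by omega))
  have hgcd : Nat.gcd 2 (l - 1) = 2 := Nat.gcd_eq_left (Nat.dvd_of_mod_eq_zero (by omega))
  -- the order of the group
  have hG : ∀ (K : Type) [Field K] [Fintype K], Fintype.card K = l →
      Nat.card (Matrix.ProjectiveSpecialLinearGroup (Fin 2) K) = l * ((l - 1) / 2) * (l + 1) := by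
    intro K _ _ hK
    have h := Linear.card_PSL_two_mul (F := K)
    rw [hK, hgcd] at h
    have h2 : l ^ 2 - 1 = (l + 1) * (l - 1) := Nat.sq_sub_sq l 1
    have h3 : l - 1 = 2 * ((l - 1) / 2) := by omega
    rw [h2] at h
    apply Nat.eq_of_mul_eq_mul_left two_pos
    rw [h]
    nth_rewrite 1 [h3]
    ring
  have hhalf : p ^ 4 ∣ (l - 1) / 2 ∧ r ∣ (l - 1) / 2 := by
    obtain ⟨c, hc⟩ := hl1
    rw [hc, show 2 ^ 5 * p ^ 5 * r * c / 2 = 2 ^ 4 * p ^ 5 * r * c by
      rw [show 2 ^ 5 * p ^ 5 * r * c = 2 * (2 ^ 4 * p ^ 5 * r * c) by ring]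
      exact Nat.mul_div_cancel_left _ two_pos]
    exact ⟨⟨2 ^ 4 * p * r * c, by ring⟩, ⟨2 ^ 4 * p ^ 5 * c, by ring⟩⟩
  have hpH : p ^ 4 ∣ Nat.card H := by
    have h1 : p ^ 4 ∣ Nat.card H * H.index := by
      rw [H.card_mul_index, hG _ hF]
      exact dvd_mul_of_dvd_left (dvd_mul_of_dvd_right hhalf.1 _) _
    exact ((hp.coprime_iff_not_dvd.mpr (hHi p hp hpπ)).pow_left 4).dvd_of_dvd_mul_right h1
  have hqH : q ∣ Nat.card H := by
    have h1 : q ∣ Nat.card H * H.index := by
      rw [H.card_mul_index, hG _ hF]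
      exact dvd_mul_of_dvd_right hlq _
    exact ((hq.coprime_iff_not_dvd.mpr (hHi q hq hqπ))).dvd_of_dvd_mul_right h1
  have hrH : ¬ r ∣ Nat.card H := fun h => hrπ (hH r hr h)
  have hp16 : 16 ≤ p ^ 4 := by
    calc 16 = 2 ^ 4 := rfl
      _ ≤ p ^ 4 := Nat.pow_le_pow_left hp.two_le 4
  rcases Linear.Dickson.concl hF l H with ⟨k, hk, hd⟩ | ⟨P, K, hK, ⟨e⟩⟩ | ⟨⟨e⟩⟩ | ⟨⟨e⟩⟩ | ⟨⟨e⟩⟩ |
    ⟨K, iK, iK', m, hm, hiso⟩
  · -- cyclic or dihedral
    have hdvd : Nat.card H ∣ 2 * k := by
      rcases hd with ⟨-, h⟩ | ⟨⟨e⟩⟩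
      · exact h ▸ dvd_mul_left k 2
      · rw [Nat.card_congr e.toEquiv, DihedralGroup.nat_card]
    rw [hgcd] at hk
    rcases hk with hk | hk
    · have h1 : p ^ 4 ∣ l + 1 := (hpH.trans hdvd).trans (by
        refine (Nat.mul_dvd_mul_left 2 hk).trans ?_
        rw [Nat.mul_div_cancel' (Nat.dvd_of_mod_eq_zero (by omega))])
      have h2 : p ^ 4 ∣ l - 1 := hhalf.1.trans (Nat.div_dvd_of_dvd (Nat.dvd_of_mod_eq_zero (by omega)))
      have h3 := Nat.le_of_dvd (by omega) (Nat.dvd_sub h1 h2)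
      omega
    · have h1 : q ∣ l - 1 := (hqH.trans hdvd).trans (by
        refine (Nat.mul_dvd_mul_left 2 hk).trans ?_
        rw [Nat.mul_div_cancel' (Nat.dvd_of_mod_eq_zero (by omega))])
      have h3 := Nat.le_of_dvd (by omega) (Nat.dvd_sub hlq h1)
      exact hq2 (le_antisymm (by omega) hq.two_le)
  · -- inside the normaliser of a Sylow subgroup
    set N := Subgroup.normalizer
      ((P : Subgroup (Matrix.ProjectiveSpecialLinearGroup (Fin 2) (ZMod l))) :
        Set (Matrix.ProjectiveSpecialLinearGroup (Fin 2) (ZMod l))) with hN'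
    have hqN : q ∣ Nat.card N :=
      (hqH.trans (dvd_of_eq (Nat.card_congr e.toEquiv))).trans (Subgroup.card_dvd_of_le hK)
    obtain ⟨P0, hP0⟩ := Linear.Dickson.exists_sylow_borel (F := ZMod l) l
    have hidx : N.index = (Subgroup.normalizer
        ((P0 : Subgroup (Matrix.ProjectiveSpecialLinearGroup (Fin 2) (ZMod l))) :
          Set (Matrix.ProjectiveSpecialLinearGroup (Fin 2) (ZMod l)))).index := by
      exact P.card_eq_index_normalizer.symm.trans P0.card_eq_index_normalizer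
    have hb : Nat.card (Linear.Dickson.borel (ZMod l)) = l * ((l - 1) / 2) := by
      have h := Linear.Dickson.card_borel (F := ZMod l)
      rw [hF, hgcd] at h
      apply Nat.eq_of_mul_eq_mul_left two_pos
      rw [h]
      nth_rewrite 1 [show l - 1 = 2 * ((l - 1) / 2) by omega]
      ring
    have hidxb : (Linear.Dickson.borel (ZMod l)).index = l + 1 := by
      apply Nat.eq_of_mul_eq_mul_left (Nat.card_pos (α := Linear.Dickson.borel (ZMod l)))
      rw [Subgroup.card_mul_index, hb, hG _ hF]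
    have hdiv : N.index ∣ l + 1 := hidx ▸ hidxb ▸ Subgroup.index_dvd_of_le hP0
    have hne : N.index ≠ l + 1 := fun he => by
      have h := N.card_mul_index
      rw [he, hG _ hF] at h
      have hc := Nat.eq_of_mul_eq_mul_right (Nat.succ_pos l) h
      rw [hc] at hqN
      rcases hq.dvd_mul.mp hqN with h1 | h1
      · have := (Nat.prime_dvd_prime_iff_eq hq hl).mp h1
        exact hl.not_dvd_one ((Nat.dvd_add_right dvd_rfl).mp (this ▸ hlq))
      · have h3 := Nat.le_of_dvd (by omega)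
          (Nat.dvd_sub hlq (h1.trans (Nat.div_dvd_of_dvd (Nat.dvd_of_mod_eq_zero (by omega)))))
        exact hq2 (le_antisymm (by omega) hq.two_le)
    have hlt : N.index < l + 1 := lt_of_le_of_ne (Nat.le_of_dvd (by omega) hdiv) hne
    have hone : N.index = 1 := by
      have h1 := card_sylow_modEq_one l (Matrix.ProjectiveSpecialLinearGroup (Fin 2) (ZMod l))
      rw [show Nat.card (Sylow l (Matrix.ProjectiveSpecialLinearGroup (Fin 2) (ZMod l))) = N.index from P.card_eq_index_normalizer] at h1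
      have h2 : N.index ≠ l := fun h => by
        rw [h] at hdiv
        exact hl.not_dvd_one ((Nat.dvd_add_right dvd_rfl).mp hdiv)
      have h3 : N.index < l := by omega
      rw [Nat.ModEq, Nat.mod_eq_of_lt h3, Nat.mod_eq_of_lt (by omega)] at h1
      exact h1
    have := Linear.isSimpleGroup_PSL_fin (F := ZMod l) (n := 2) le_rfl
      (fun _ => by rw [Nat.card_eq_fintype_card, hF]; omega)
    have hn : (P : Subgroup (Matrix.ProjectiveSpecialLinearGroup (Fin 2) (ZMod l))).Normal :=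
      Subgroup.normalizer_eq_top_iff.mp (Subgroup.index_eq_one.mp (hN' ▸ hone))
    obtain ⟨j, hj⟩ := IsPGroup.iff_card.mp P.isPGroup'
    rcases hn.eq_bot_or_eq_top with h | h
    · have h1 := P.not_dvd_index
      rw [h, Subgroup.index_bot, hG _ hF] at h1
      exact h1 (dvd_mul_of_dvd_left (dvd_mul_right _ _) _)
    · rw [h, Subgroup.card_top, hG _ hF] at hj
      have h1 : p ∣ l ^ j := hj ▸ ((dvd_pow_self p (by norm_num : (4 : ℕ) ≠ 0)).trans hhalf.1).trans
        ((dvd_mul_left _ l).trans (dvd_mul_right _ _))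
      have h2 := (Nat.prime_dvd_prime_iff_eq hp hl).mp (hp.dvd_of_dvd_pow h1)
      have h4 := Nat.le_of_dvd (by omega) hhalf.1
      have h5 : p ≤ p ^ 4 := Nat.le_self_pow (by norm_num) p
      omega
  · rw [Nat.card_congr e.toEquiv] at hpH
    rw [nat_card_alternatingGroup, Nat.card_fin] at hpH
    exact small hp hp16 hpH (by decide)
  · rw [Nat.card_congr e.toEquiv, Nat.card_perm, Nat.card_fin] at hpH
    exact small hp hp16 hpH (by decide)
  · rw [Nat.card_congr e.toEquiv, nat_card_alternatingGroup, Nat.card_fin] at hpH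
    exact small hp hp16 hpH (by decide)
  · have hKl : Fintype.card K = l := by
      have hm1 : m = 1 := by
        rcases m with _ | _ | m
        · rw [pow_zero] at hm; omega
        · rfl
        · exact absurd (hm ▸ hl) (Nat.Prime.not_prime_pow (by omega))
      rwa [hm1, pow_one] at hm
    apply hrH
    rcases hiso with ⟨⟨e⟩⟩ | ⟨⟨e⟩⟩
    · rw [Nat.card_congr e.toEquiv, hG K hKl]
      exact dvd_mul_of_dvd_left (dvd_mul_of_dvd_right hhalf.2 _) _
    · rw [Nat.card_congr e.toEquiv, Linear.card_PGL_eq, Linear.card_SL_two, hKl]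
      refine dvd_mul_of_dvd_right ?_ _
      rw [show l ^ 2 - 1 = (l + 1) * (l - 1) from Nat.sq_sub_sq l 1]
      exact dvd_mul_of_dvd_right
        (hhalf.2.trans (Nat.div_dvd_of_dvd (Nat.dvd_of_mod_eq_zero (by omega)))) _

/-- For a set of primes π the following are equivalent: every finite group has a Hall π-subgroup; in every finite group the maximal π-subgroups are pairwise conjugate; π contains at most one prime or contains every prime. -/
theorem result (π : Set ℕ) :
    ((∀ (G : Type) [Group G] [Finite G], Cfsg.IsEPiGroup π G) ↔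
      ((∀ p q : ℕ, p.Prime → q.Prime → p ∈ π → q ∈ π → p = q) ∨ ∀ p : ℕ, p.Prime → p ∈ π)) ∧
    ((∀ (G : Type) [Group G] [Finite G], Cfsg.IsDPiGroup π G) ↔
      ((∀ p q : ℕ, p.Prime → q.Prime → p ∈ π → q ∈ π → p = q) ∨ ∀ p : ℕ, p.Prime → p ∈ π)) := by
  have hex : ¬ ((∀ p q : ℕ, p.Prime → q.Prime → p ∈ π → q ∈ π → p = q) ∨ ∀ p : ℕ, p.Prime → p ∈ π) →
      ∃ (G : Type) (_ : Group G), Finite G ∧ ¬ Cfsg.IsEPiGroup π G := by
    intro hn
    push_neg at hn
    obtain ⟨⟨p, q, hp, hq, hpπ, hqπ, hne⟩, r, hr, hrπ⟩ := hn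
    rcases eq_or_ne q 2 with rfl | hq2
    · exact exists_no_hall hq hp hr hqπ hpπ hrπ hne.symm hne
    · exact exists_no_hall hp hq hr hpπ hqπ hrπ hne hq2
  refine ⟨⟨fun h => ?_, fun h G _ _ => ?_⟩, ⟨fun h => ?_, fun h G _ _ => ?_⟩⟩
  · by_contra hn
    obtain ⟨G, iG, hfin, hG⟩ := hex hn
    exact hG (h G)
  · rcases h with h | h
    · exact (sylow_case h G).1
    · exact (all_case h G).1
  · by_contra hn
    obtain ⟨G, iG, hfin, hG⟩ := hex hn
    exact hG (epi_of_dpi G (h G))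
  · rcases h with h | h
    · exact (sylow_case h G).2
    · exact (all_case h G).2

end Cfsg.Agent.S3878
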