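import Cfsg.Statements.S3881
import Cfsg.Agent.H73.Metacyclic

set_option autoImplicit false
open Cfsg

namespace Cfsg.Agent.S3881

/-- Let p be an odd prime and G a finite metacyclic p-group (G has a cyclic normal subgroup with cyclic quotient). Suppose G is non-abelian with |G'| = p^n. Then for 1 ≤ i ≤ n the number of elements of G whose conjugacy class has exactly p^i elements is |Z(G)| · (p^(2i) − p^(2i−2)). -/
theorem result {G : Type*} [Group G] [Finite G] {p : ℕ} [Fact p.Prime] (hp : p ≠ 2) (hG : IsPGroup p G) (hmc : Cfsg.IsMetacyclic G) (n : ℕ) (hn : n ≠ 0) (hGn : Nat.card ↥(commutator G) = p ^ n) (i : ℕ) (hi : 1 ≤ i) (hin : i ≤ n) :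
    Nat.card {g : G // (Subgroup.centralizer ({g} : Set G)).index = p ^ i} =
      Nat.card ↥(Subgroup.center G) * (p ^ (2 * i) - p ^ (2 * i - 2)) := by
  classical
  obtain ⟨D⟩ := H73.exists_metaData hp hG hmc
  obtain rfl := D.n_eq hGn
  have hpp := (Fact.out : p.Prime)
  have hA := D.card_index_le hin
  have hB := D.card_index_le (i := i - 1) (by omega)
  let f : G → ℕ := fun g => (Subgroup.centralizer ({g} : Set G)).index
  have hpow : ∀ g : G, ∃ k, f g = p ^ k := fun g => hG.index _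
  have key : {g : G | f g = p ^ i} = {g : G | f g ≤ p ^ i} \ {g : G | f g ≤ p ^ (i - 1)} := by
    ext g
    obtain ⟨k, hk⟩ := hpow g
    simp only [Set.mem_ofPred_eq, Set.mem_sdiff, hk, Nat.pow_le_pow_iff_right hpp.one_lt,
      (Nat.pow_right_injective hpp.two_le).eq_iff]
    omega
  have hsub : {g : G | f g ≤ p ^ (i - 1)} ⊆ {g : G | f g ≤ p ^ i} := fun g hg =>
    le_trans hg (Nat.pow_le_pow_right hpp.pos (Nat.sub_le i 1))
  show Nat.card ↥{g : G | f g = p ^ i} = _
  rw [key, Nat.card_coe_set_eq, Set.ncard_sdiff hsub, ← Nat.card_coe_set_eq, ← Nat.card_coe_set_eq]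
  show Nat.card {g : G // f g ≤ p ^ i} - Nat.card {g : G // f g ≤ p ^ (i - 1)} = _
  rw [hA, hB, ← Nat.mul_sub, show 2 * (i - 1) = 2 * i - 2 by omega]

end Cfsg.Agent.S3881
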