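import Cfsg.Statements.S3883
import Cfsg.Agent.H73.Metacyclic

set_option autoImplicit false
open Cfsg

namespace Cfsg.Agent.S3883

/-- Let p be an odd prime and G a finite metacyclic p-group (G has a cyclic normal subgroup with cyclic quotient). Suppose G is non-abelian. Then an element g of G lies outside the Frattini subgroup if and only if its centralizer C_G(g) is abelian. -/
theorem result {G : Type*} [Group G] [Finite G] {p : ℕ} [Fact p.Prime] (hp : p ≠ 2) (hG : IsPGroup p G) (hmc : Cfsg.IsMetacyclic G) (hna : ¬ IsMulCommutative G) (g : G) :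
    g ∉ frattini G ↔ IsMulCommutative ↥(Subgroup.centralizer ({g} : Set G)) := by
  obtain ⟨D⟩ := H73.exists_metaData hp hG hmc
  have hpp := (Fact.out : p.Prime)
  have hn : 1 ≤ D.n := by
    by_contra h0
    apply hna
    have h1 := D.center_index
    rw [show 2 * D.n = 0 by omega, pow_zero, Subgroup.index_eq_one] at h1
    exact ⟨⟨fun a b => (Subgroup.mem_center_iff.mp (h1 ▸ Subgroup.mem_top b)) a⟩⟩
  have hord : addOrderOf (D.psi g) ∣ p ^ D.n := by
    rw [addOrderOf_dvd_iff_nsmul_eq_zero, H73.nsmul_pow_eq_zero_iff le_rfl, Nat.sub_self, H73.mem_box]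
    simp
  rw [D.frattini_mem_iff hn, D.comm_centralizer_iff, H73.mem_box_iff_addOrderOf hn]
  obtain ⟨k, hk, he⟩ := (Nat.dvd_prime_pow hpp).mp hord
  rw [he, Nat.pow_le_pow_iff_right hpp.one_lt, (Nat.pow_right_injective hpp.two_le).eq_iff]
  omega

end Cfsg.Agent.S3883
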