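import Cfsg.Statements.S3887
import Cfsg.Agent.H73.Metacyclic

set_option autoImplicit false
open Cfsg

namespace Cfsg.Agent.S3887

/-- Let p be an odd prime and G a finite metacyclic p-group (G has a cyclic normal subgroup with cyclic quotient). Then a subgroup R of G maximizes |R| · |C_G(R)| over all subgroups of G if and only if R contains the center of G. -/
theorem result {G : Type*} [Group G] [Finite G] {p : ℕ} [Fact p.Prime] (hp : p ≠ 2) (hG : IsPGroup p G) (hmc : Cfsg.IsMetacyclic G) (R : Subgroup G) : Cfsg.IsCentralizerLarge R ↔ Subgroup.center G ≤ R := by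
  obtain ⟨D⟩ := H73.exists_metaData hp hG hmc
  have key : ∀ R : Subgroup G, Nat.card ↥R * Nat.card ↥(Subgroup.centralizer (R : Set G)) =
      Nat.card ↥(R ⊓ Subgroup.center G : Subgroup G) * Nat.card G := by
    intro R
    rw [D.card_eq R, mul_assoc, mul_comm (Nat.card ↥(D.img R)), D.card_centralizer]
  have hmax : Cfsg.maxCentralizerProduct G = Nat.card ↥(Subgroup.center G) * Nat.card G := by
    apply le_antisymm
    · refine csSup_le' ?_
      rintro k ⟨R, rfl⟩
      rw [key]
      exact Nat.mul_le_mul_right _ (Subgroup.card_le_of_le inf_le_right)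
    · refine le_csSup ⟨Nat.card ↥(Subgroup.center G) * Nat.card G, ?_⟩ ⟨⊤, ?_⟩
      · rintro k ⟨R, rfl⟩
        rw [key]
        exact Nat.mul_le_mul_right _ (Subgroup.card_le_of_le inf_le_right)
      · rw [key, top_inf_eq]
  unfold Cfsg.IsCentralizerLarge
  rw [hmax, key, Nat.mul_left_inj Nat.card_pos.ne']
  refine ⟨fun h => ?_, fun h => by rw [inf_eq_right.mpr h]⟩
  exact inf_eq_right.mp (Subgroup.eq_of_le_of_card_ge inf_le_right h.ge)

end Cfsg.Agent.S3887
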