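import Cfsg.Statements.S3889


set_option autoImplicit false
open Cfsg

namespace Cfsg.Agent.S3889

/-- A finite abelian group that is the union of a family of proper subgroups any two of which intersect trivially is elementary abelian: its exponent is a prime. -/
theorem result {G : Type*} [CommGroup G] [Finite G] (𝓑 : Set (Subgroup G)) (hprop : ∀ B ∈ 𝓑, B ≠ ⊤)
    (hcov : ∀ g : G, ∃ B ∈ 𝓑, g ∈ B) (hdisj : ∀ B ∈ 𝓑, ∀ C ∈ 𝓑, B ≠ C → B ⊓ C = ⊥) :
    (Monoid.exponent G).Prime := by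
  classical
  have key : ∀ B ∈ 𝓑, ∀ x ∈ B, x ≠ 1 → ∀ y, y ∉ B → orderOf y = orderOf x := by
    intro B hB x hx hx1 y hy
    obtain ⟨C, hC, hyC⟩ := hcov y
    obtain ⟨D, hD, hxyD⟩ := hcov (x * y)
    have hBC : B ≠ C := fun h => hy (h ▸ hyC)
    have hDB : D ≠ B := fun h => hy (by
      have h2 := mul_mem (inv_mem hx) (h ▸ hxyD : x * y ∈ B)
      rwa [inv_mul_cancel_left] at h2)
    have hDC : D ≠ C := fun h => by
      have hxC : x ∈ C := by simpa using mul_mem (h ▸ hxyD : x * y ∈ C) (inv_mem hyC)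
      exact hx1 (Subgroup.mem_bot.mp (hdisj B hB C hC hBC ▸ ⟨hx, hxC⟩))
    refine dvd_antisymm ?_ ?_
    · rw [orderOf_dvd_iff_pow_eq_one, ← Subgroup.mem_bot, ← hdisj D hD C hC hDC]
      refine ⟨?_, pow_mem hyC _⟩
      have := pow_mem hxyD (orderOf x)
      rwa [mul_pow, pow_orderOf_eq_one, one_mul] at this
    · rw [orderOf_dvd_iff_pow_eq_one, ← Subgroup.mem_bot, ← hdisj D hD B hB hDB]
      refine ⟨?_, pow_mem hx _⟩
      have := pow_mem hxyD (orderOf y)
      rwa [mul_pow, pow_orderOf_eq_one, mul_one] at this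
  have hnt : Nontrivial G := by
    obtain ⟨B, hB, -⟩ := hcov 1
    obtain ⟨y, -, hy⟩ := SetLike.exists_of_lt (hprop B hB).lt_top
    exact ⟨⟨y, 1, fun h => hy (h ▸ one_mem B)⟩⟩
  obtain ⟨x, hx1⟩ := exists_ne (1 : G)
  obtain ⟨B, hB, hxB⟩ := hcov x
  obtain ⟨y, -, hy⟩ := SetLike.exists_of_lt (hprop B hB).lt_top
  have hox : orderOf x ≠ 1 := fun h => hx1 (orderOf_eq_one_iff.mp h)
  set p := (orderOf x).minFac
  have hp : p.Prime := Nat.minFac_prime hox
  have hall : ∀ z : G, z ≠ 1 → orderOf z = p := by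
    have hw : orderOf (x ^ (orderOf x / p)) = p :=
      orderOf_pow_orderOf_div (orderOf_pos x).ne' (Nat.minFac_dvd _)
    have hw1 : x ^ (orderOf x / p) ≠ 1 := fun h => hp.ne_one (by rw [← hw, h, orderOf_one])
    have hyp : orderOf y = p := hw ▸ key B hB _ (pow_mem hxB _) hw1 y hy
    intro z hz
    by_cases hzB : z ∈ B
    · rw [← key B hB z hzB hz y hy, hyp]
    · rw [key B hB _ (pow_mem hxB _) hw1 z hzB, hw]
  have : Monoid.exponent G = p := by
    refine dvd_antisymm (Monoid.exponent_dvd_of_forall_pow_eq_one fun z => ?_) ?_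
    · rcases eq_or_ne z 1 with rfl | hz
      · simp
      · exact hall z hz ▸ pow_orderOf_eq_one z
    · exact hall x hx1 ▸ Monoid.order_dvd_exponent x
  exact this ▸ hp

end Cfsg.Agent.S3889
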