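import Cfsg.Statements.S3892
import Cfsg.Agent.H73.NilCover

set_option autoImplicit false
open Cfsg

namespace Cfsg.Agent.S3892

open Cfsg.Agent.H73

/-- A nilpotent subgroup containing an element of prime order `p` centralises it, if `p ^ 2` does
not divide the group order. -/
theorem le_centralizer {G : Type*} [Group G] [Finite G] {p : ℕ} [Fact p.Prime]
    (hp : ¬ p ^ 2 ∣ Nat.card G) {A : Subgroup G} (hA : Group.IsNilpotent A) {x : G}
    (hx : orderOf x = p) (hxA : x ∈ A) : A ≤ Subgroup.centralizer {x} := by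
  obtain ⟨z, hzc, hz⟩ := exists_central_orderOf (r := p) hA (x := (⟨x, hxA⟩ : A))
    (by rw [Subgroup.orderOf_mk]; exact hx)
  have hpp : p.Prime := Fact.out
  have hmem : (⟨x, hxA⟩ : A) ∈ Subgroup.zpowers z := by
    set X : A := ⟨x, hxA⟩
    have hX : orderOf X = p := by rw [Subgroup.orderOf_mk]; exact hx
    have hpz : IsPGroup p (Subgroup.zpowers z) :=
      IsPGroup.of_card (n := 1) (by rw [pow_one, Nat.card_zpowers, hz])
    have hpx : IsPGroup p (Subgroup.zpowers X) :=
      IsPGroup.of_card (n := 1) (by rw [pow_one, Nat.card_zpowers, hX])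
    obtain ⟨P, hP⟩ := hpz.exists_le_sylow
    obtain ⟨Q, hQ⟩ := hpx.exists_le_sylow
    have hPn : (P : Subgroup A).Normal :=
      ((Group.isNilpotent_of_finite_tfae (G := A)).out 0 3 rfl rfl).mp hA p inferInstance P
    have : Unique (Sylow p A) := Sylow.unique_of_normal P hPn
    rw [Subsingleton.elim Q P] at hQ
    obtain ⟨k, hk⟩ := IsPGroup.iff_card.mp P.isPGroup'
    have hdvd : p ^ k ∣ Nat.card G :=
      hk ▸ (Subgroup.card_subgroup_dvd_card _).trans (Subgroup.card_subgroup_dvd_card A)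
    have hk1 : k ≤ 1 := by
      by_contra h
      exact hp ((pow_dvd_pow p (by omega)).trans hdvd)
    have heq : Subgroup.zpowers z = (P : Subgroup A) := by
      refine Subgroup.eq_of_le_of_card_ge hP ?_
      rw [hk, Nat.card_zpowers, hz]
      calc p ^ k ≤ p ^ 1 := Nat.pow_le_pow_right hpp.pos hk1
        _ = p := pow_one p
    rw [heq]
    exact hQ (Subgroup.mem_zpowers _)
  have hXc : (⟨x, hxA⟩ : A) ∈ Subgroup.center A := Subgroup.zpowers_le.mpr hzc hmem
  intro a ha
  rw [Subgroup.mem_centralizer_singleton_iff]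
  exact congrArg Subtype.val (Subgroup.mem_center_iff.mp hXc ⟨a, ha⟩)

/-- Two non-commuting elements of prime order, each Sylow, with centralisers in one proper
subgroup: no nilpotent minimal cover. -/
theorem no_cover {G : Type*} [Group G] [Finite G] {p : ℕ} [Fact p.Prime]
    (hp : ¬ p ^ 2 ∣ Nat.card G) {x y : G} (hx : orderOf x = p) (hy : orderOf y = p)
    (hne : x * y ≠ y * x) (M : Subgroup G) (hM : M ≠ ⊤)
    (hxM : ∀ g, g * x = x * g → g ∈ M) (hyM : ∀ g, g * y = y * g → g ∈ M) :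
    ¬ ∃ 𝓐 : Finset (Subgroup G), IsCov 𝓐 ∧ (∀ 𝓑 : Finset (Subgroup G), IsCov 𝓑 →
      𝓐.card ≤ 𝓑.card) ∧ (∀ A ∈ 𝓐, Group.IsNilpotent A) := by
  rintro ⟨𝓐, hcov, hmin, hnil⟩
  obtain ⟨A, hA, hxA⟩ := hcov.2 x
  obtain ⟨B, hB, hyB⟩ := hcov.2 y
  have hAc := le_centralizer hp (hnil A hA) hx hxA
  have hBc := le_centralizer hp (hnil B hB) hy hyB
  refine hcov.two_in_one hmin hA hB ?_
    (fun g hg => hxM g (Subgroup.mem_centralizer_singleton_iff.mp (hAc hg)))
    (fun g hg => hyM g (Subgroup.mem_centralizer_singleton_iff.mp (hBc hg))) hM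
  rintro rfl
  exact hne (Subgroup.mem_centralizer_singleton_iff.mp (hAc hyB)).symm

theorem sq_not_dvd_factorial {p : ℕ} (hp : p.Prime) : ∀ n, n < 2 * p → ¬ p ^ 2 ∣ Nat.factorial n := by
  intro n
  induction n with
  | zero =>
    intro _ h
    have := Nat.le_of_dvd (by simp) h
    have := hp.two_le
    simp at *
    nlinarith
  | succ m ih =>
    intro hm h
    rw [Nat.factorial_succ] at h
    by_cases hd : p ∣ m + 1
    · obtain ⟨c, hc⟩ := hd
      have hc1 : c = 1 := by
        rcases c with _ | _ | c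
        · omega
        · rfl
        · exfalso; nlinarith [hp.two_le]
      subst hc1
      rw [mul_one] at hc
      rw [hc, sq] at h
      have h2 := Nat.dvd_of_mul_dvd_mul_left hp.pos h
      have := (Nat.Prime.dvd_factorial hp).mp h2
      omega
    · exact ih (by omega)
        ((Nat.Coprime.dvd_mul_left ((hp.coprime_iff_not_dvd.mpr hd).pow_left 2)).mp h)

/-- Setwise stabiliser of the first `p` points. -/
def initStab (n p : ℕ) : Subgroup (Equiv.Perm (Fin n)) where
  carrier := {g | ∀ i, (g i).val < p ↔ i.val < p}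
  one_mem' := fun i => Iff.rfl
  mul_mem' := fun {a b} ha hb i => by rw [Equiv.Perm.mul_apply, ha, hb]
  inv_mem' := fun {a} ha i => by
    have := ha (a⁻¹ i)
    rw [show a (a⁻¹ i) = i from a.apply_symm_apply i] at this
    exact this.symm

section Small

/-- (0 1 2 3 4). -/
def c5 : Equiv.Perm (Fin 5) := finRotate 5

theorem A5 : ¬ ∃ 𝓐 : Finset (Subgroup ↥(alternatingGroup (Fin 5))), IsCov 𝓐 ∧
    (∀ 𝓑 : Finset (Subgroup ↥(alternatingGroup (Fin 5))), IsCov 𝓑 → 𝓐.card ≤ 𝓑.card) ∧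
    (∀ A ∈ 𝓐, Group.IsNilpotent A) := by
  have : Fact (Nat.Prime 3) := ⟨Nat.prime_three⟩
  let x : Equiv.Perm (Fin 5) := Equiv.swap 0 1 * Equiv.swap 1 2
  let y : Equiv.Perm (Fin 5) := Equiv.swap 0 1 * Equiv.swap 1 3
  have hx : x ∈ alternatingGroup (Fin 5) := by rw [Equiv.Perm.mem_alternatingGroup]; decide
  have hy : y ∈ alternatingGroup (Fin 5) := by rw [Equiv.Perm.mem_alternatingGroup]; decide
  refine no_cover (p := 3) ?_ (x := ⟨x, hx⟩) (y := ⟨y, hy⟩) ?_ ?_ ?_
    ((MulAction.stabilizer (Equiv.Perm (Fin 5)) (4 : Fin 5)).subgroupOf (alternatingGroup (Fin 5))) ?_ ?_ ?_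
  · rw [nat_card_alternatingGroup, Nat.card_fin]; decide
  · rw [Subgroup.orderOf_mk]; exact orderOf_eq_prime (by decide) (by decide)
  · rw [Subgroup.orderOf_mk]; exact orderOf_eq_prime (by decide) (by decide)
  · intro h; exact absurd (congrArg Subtype.val h) (by decide : x * y ≠ y * x)
  · intro h
    have hm : (⟨Equiv.swap 0 4 * Equiv.swap 1 2, by
        rw [Equiv.Perm.mem_alternatingGroup]; decide⟩ : alternatingGroup (Fin 5)) ∈
        (MulAction.stabilizer (Equiv.Perm (Fin 5)) (4 : Fin 5)).subgroupOf _ :=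
      h ▸ Subgroup.mem_top _
    exact absurd hm (by simp [Subgroup.mem_subgroupOf, MulAction.mem_stabilizer_iff]; decide)
  · rintro ⟨g, hg⟩ h
    have hd : ∀ g : Equiv.Perm (Fin 5), Equiv.Perm.sign g = 1 → g * x = x * g → g 4 = 4 := by
      decide +kernel
    simpa [Subgroup.mem_subgroupOf, MulAction.mem_stabilizer_iff] using
      hd g (Equiv.Perm.mem_alternatingGroup.mp hg) (congrArg Subtype.val h)
  · rintro ⟨g, hg⟩ h
    have hd : ∀ g : Equiv.Perm (Fin 5), Equiv.Perm.sign g = 1 → g * y = y * g → g 4 = 4 := by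
      decide +kernel
    simpa [Subgroup.mem_subgroupOf, MulAction.mem_stabilizer_iff] using
      hd g (Equiv.Perm.mem_alternatingGroup.mp hg) (congrArg Subtype.val h)

theorem S5 : ¬ ∃ 𝓐 : Finset (Subgroup (Equiv.Perm (Fin 5))), IsCov 𝓐 ∧
    (∀ 𝓑 : Finset (Subgroup (Equiv.Perm (Fin 5))), IsCov 𝓑 → 𝓐.card ≤ 𝓑.card) ∧
    (∀ A ∈ 𝓐, Group.IsNilpotent A) := by
  have : Fact (Nat.Prime 5) := ⟨Nat.prime_five⟩
  refine no_cover (p := 5) ?_ (x := c5) (y := Equiv.swap 0 1 * c5 * Equiv.swap 0 1) ?_ ?_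
    (by decide) (alternatingGroup (Fin 5)) ?_ ?_ ?_
  · rw [Nat.card_perm, Nat.card_fin]; decide
  · exact orderOf_eq_prime (by decide) (by decide)
  · exact orderOf_eq_prime (by decide) (by decide)
  · intro h
    have hm : (Equiv.swap 0 1 : Equiv.Perm (Fin 5)) ∈ alternatingGroup (Fin 5) :=
      h ▸ Subgroup.mem_top _
    rw [Equiv.Perm.mem_alternatingGroup] at hm
    exact absurd hm (by decide)
  · have hd : ∀ g : Equiv.Perm (Fin 5), g * c5 = c5 * g → Equiv.Perm.sign g = 1 := by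
      decide +kernel
    exact fun g h => Equiv.Perm.mem_alternatingGroup.mpr (hd g h)
  · have hd : ∀ g : Equiv.Perm (Fin 5), g * (Equiv.swap 0 1 * c5 * Equiv.swap 0 1) =
        (Equiv.swap 0 1 * c5 * Equiv.swap 0 1) * g → Equiv.Perm.sign g = 1 := by
      decide +kernel
    exact fun g h => Equiv.Perm.mem_alternatingGroup.mpr (hd g h)

theorem S4 : ¬ ∃ 𝓐 : Finset (Subgroup (Equiv.Perm (Fin 4))), IsCov 𝓐 ∧
    (∀ 𝓑 : Finset (Subgroup (Equiv.Perm (Fin 4))), IsCov 𝓑 → 𝓐.card ≤ 𝓑.card) ∧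
    (∀ A ∈ 𝓐, Group.IsNilpotent A) := by
  have : Fact (Nat.Prime 3) := ⟨Nat.prime_three⟩
  refine no_cover (p := 3) ?_ (x := Equiv.swap 0 1 * Equiv.swap 1 2)
    (y := Equiv.swap 0 1 * Equiv.swap 1 3) ?_ ?_ (by decide) (alternatingGroup (Fin 4)) ?_ ?_ ?_
  · rw [Nat.card_perm, Nat.card_fin]; decide
  · exact orderOf_eq_prime (by decide) (by decide)
  · exact orderOf_eq_prime (by decide) (by decide)
  · intro h
    have hm : (Equiv.swap 0 1 : Equiv.Perm (Fin 4)) ∈ alternatingGroup (Fin 4) :=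
      h ▸ Subgroup.mem_top _
    rw [Equiv.Perm.mem_alternatingGroup] at hm
    exact absurd hm (by decide)
  · have hd : ∀ g : Equiv.Perm (Fin 4), g * (Equiv.swap 0 1 * Equiv.swap 1 2) =
        (Equiv.swap 0 1 * Equiv.swap 1 2) * g → Equiv.Perm.sign g = 1 := by
      decide +kernel
    exact fun g h => Equiv.Perm.mem_alternatingGroup.mpr (hd g h)
  · have hd : ∀ g : Equiv.Perm (Fin 4), g * (Equiv.swap 0 1 * Equiv.swap 1 3) =
        (Equiv.swap 0 1 * Equiv.swap 1 3) * g → Equiv.Perm.sign g = 1 := by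
      decide +kernel
    exact fun g h => Equiv.Perm.mem_alternatingGroup.mpr (hd g h)

end Small

/-- The data for degree at least six. -/
theorem large_data {n : ℕ} (hn : 6 ≤ n) : ∃ p : ℕ, p.Prime ∧ ¬ p ^ 2 ∣ Nat.factorial n ∧
    ∃ x y t : Equiv.Perm (Fin n), Equiv.Perm.sign x = 1 ∧ Equiv.Perm.sign y = 1 ∧
      Equiv.Perm.sign t = 1 ∧ orderOf x = p ∧ orderOf y = p ∧ x * y ≠ y * x ∧ t ∉ initStab n p ∧
      (∀ g, g * x = x * g → g ∈ initStab n p) ∧ (∀ g, g * y = y * g → g ∈ initStab n p) := by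
  obtain ⟨p, hp, hlt, hle⟩ := Nat.exists_prime_lt_and_le_two_mul (n / 2) (by omega)
  have hp5 : 5 ≤ p := by
    rcases lt_or_ge p 5 with h | h
    · interval_cases p
      all_goals first | omega | exact absurd hp (by decide)
    · exact h
  have hpn : p < n := by
    rcases Nat.lt_or_ge p n with h | h
    · exact h
    · exfalso
      have : p = n := by omega
      have he : 2 ∣ n := by omega
      exact absurd ((Nat.prime_dvd_prime_iff_eq Nat.prime_two hp).mp (this ▸ he)) (by omega)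
  have : NeZero n := ⟨by omega⟩
  let i : Fin n := ⟨p - 1, by omega⟩
  let x : Equiv.Perm (Fin n) := Fin.cycleRange i
  have hi0 : i ≠ 0 := fun h => by
    have := congrArg Fin.val h
    simp [i] at this
    omega
  let a : Fin n := ⟨0, by omega⟩
  let b : Fin n := ⟨1, by omega⟩
  let τ : Equiv.Perm (Fin n) := Equiv.swap a b
  have hx : orderOf x = p := by
    rw [← Equiv.Perm.lcm_cycleType, Fin.cycleType_cycleRange hi0]
    simp [i]
    omega
  have hxs : Equiv.Perm.sign x = 1 := by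
    rw [Fin.sign_cycleRange]
    have : Even (p - 1) := by
      rcases hp.eq_two_or_odd' with h | h
      · omega
      · obtain ⟨k, hk⟩ := h; exact ⟨k, by omega⟩
    exact this.neg_one_pow
  have hmoved : ∀ j : Fin n, x j ≠ j ↔ j.val < p := by
    intro j
    constructor
    · intro h
      by_contra hc
      exact h (Fin.cycleRange_of_gt (show i.val < j.val by simp [i]; omega))
    · intro h heq
      have h' := congrArg Fin.val heq
      rcases Nat.lt_or_ge j.val (p - 1) with hj | hj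
      · rw [Fin.coe_cycleRange_of_lt (show j < i from hj)] at h'
        omega
      · have hji : j = i := Fin.ext (by simp [i]; omega)
        subst hji
        rw [Fin.cycleRange_self] at h'
        simp [i] at h'
        omega
  have hmovedy : ∀ j : Fin n, (τ * x * τ⁻¹) j ≠ j ↔ j.val < p := by
    intro j
    have h1 : (τ * x * τ⁻¹) j ≠ j ↔ x (τ⁻¹ j) ≠ τ⁻¹ j := by
      rw [Equiv.Perm.mul_apply, Equiv.Perm.mul_apply, not_iff_not]
      exact (Equiv.apply_eq_iff_eq_symm_apply τ).trans Iff.rfl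
    rw [h1, hmoved]
    simp only [τ, Equiv.swap_inv, Equiv.swap_apply_def]
    split_ifs with e1 e2
    · subst e1; simp [a, b]; omega
    · subst e2; simp [a, b]; omega
    · rfl
  have hpres : ∀ z : Equiv.Perm (Fin n), (∀ j, z j ≠ j ↔ j.val < p) →
      ∀ g, g * z = z * g → g ∈ initStab n p := by
    intro z hz g hg j
    rw [← hz, ← hz, not_iff_not]
    have h := congrArg (fun f : Equiv.Perm (Fin n) => f j) hg
    simp only [Equiv.Perm.mul_apply] at h
    exact ⟨fun e => g.injective (by rw [h, e]), fun e => by rw [← h, e]⟩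
  refine ⟨p, hp, sq_not_dvd_factorial hp n (by omega), x, τ * x * τ⁻¹,
    Equiv.swap a ⟨p, hpn⟩ * Equiv.swap b ⟨2, by omega⟩, hxs, ?_, ?_, hx, ?_, ?_, ?_, hpres x hmoved,
    hpres _ hmovedy⟩
  · simp [hxs, map_mul, map_inv]
  · rw [map_mul, Equiv.Perm.sign_swap, Equiv.Perm.sign_swap]
    · decide
    · intro h; simpa [b] using congrArg Fin.val h
    · intro h; have := congrArg Fin.val h; simp [a] at this; omega
  · rw [show τ * x * τ⁻¹ = MulAut.conj τ x from rfl, MulEquiv.orderOf_eq, hx]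
  · intro h
    have h0 := congrArg (fun f : Equiv.Perm (Fin n) => (f a).val) h
    simp only [Equiv.Perm.mul_apply] at h0
    have hxa : x a = b := Fin.ext
      ((Fin.coe_cycleRange_of_lt (show a < i by simp [a, i, Fin.lt_def]; omega)).trans
        (by simp [a, b]))
    have hxb : x b = ⟨2, by omega⟩ := Fin.ext (by
      simp [x, Fin.coe_cycleRange_of_lt (show b < i by simp [b, i, Fin.lt_def]; omega), b])
    have hxc : x ⟨2, by omega⟩ = ⟨3, by omega⟩ := Fin.ext (by
      simp [x, Fin.coe_cycleRange_of_lt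
        (show (⟨2, by omega⟩ : Fin n) < i by simp [i, Fin.lt_def]; omega)])
    have ta : τ⁻¹ a = b := by simp [τ]
    have tb : τ⁻¹ b = a := by simp [τ]
    have t2 : τ ⟨2, by omega⟩ = ⟨2, by omega⟩ :=
      Equiv.swap_apply_of_ne_of_ne (by simp [a, Fin.ext_iff]) (by simp [b, Fin.ext_iff])
    rw [ta, hxb, t2, hxc, hxa, tb, hxa, show τ b = a by simp [τ]] at h0
    simp [a] at h0
  · intro h
    have h1 := h a
    have e : Equiv.swap b (⟨2, by omega⟩ : Fin n) a = a :=
      Equiv.swap_apply_of_ne_of_ne (fun e => by simpa [a, b] using congrArg Fin.val e)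
        (fun e => by simpa [a] using congrArg Fin.val e)
    rw [Equiv.Perm.mul_apply, e, Equiv.swap_apply_left] at h1
    simp [a] at h1
    omega

/-- A cover of a group is a finite set of proper subgroups whose union is the whole group; it is minimal when no cover has fewer members, and nilpotent when all its members are nilpotent. The alternating groups of degree at least 5 and the symmetric groups of degree at least 4 have no nilpotent minimal cover. -/
theorem result (n : ℕ) :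
    (5 ≤ n → ¬ ∃ 𝓐 : Finset (Subgroup ↥(alternatingGroup (Fin n))), ((∀ A ∈ 𝓐, A ≠ ⊤) ∧ (∀ g : ↥(alternatingGroup (Fin n)), ∃ A ∈ 𝓐, g ∈ A)) ∧ (∀ 𝓑 : Finset (Subgroup ↥(alternatingGroup (Fin n))), (∀ A ∈ 𝓑, A ≠ ⊤) ∧ (∀ g : ↥(alternatingGroup (Fin n)), ∃ A ∈ 𝓑, g ∈ A) → 𝓐.card ≤ 𝓑.card) ∧ (∀ A ∈ 𝓐, Group.IsNilpotent ↥A)) ∧
    (4 ≤ n → ¬ ∃ 𝓐 : Finset (Subgroup (Equiv.Perm (Fin n))), ((∀ A ∈ 𝓐, A ≠ ⊤) ∧ (∀ g : (Equiv.Perm (Fin n)), ∃ A ∈ 𝓐, g ∈ A)) ∧ (∀ 𝓑 : Finset (Subgroup (Equiv.Perm (Fin n))), (∀ A ∈ 𝓑, A ≠ ⊤) ∧ (∀ g : (Equiv.Perm (Fin n)), ∃ A ∈ 𝓑, g ∈ A) → 𝓐.card ≤ 𝓑.card) ∧ (∀ A ∈ 𝓐, Group.IsNilpotent ↥A)) := by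
  rcases Nat.lt_or_ge n 6 with hn | hn
  · refine ⟨fun h => ?_, fun h => ?_⟩
    · obtain rfl : n = 5 := by omega
      exact A5
    · obtain rfl | rfl : n = 4 ∨ n = 5 := by omega
      · exact S4
      · exact S5
  · obtain ⟨p, hp, hsq, x, y, t, hxs, hys, hts, hx, hy, hne, ht, hgx, hgy⟩ := large_data hn
    have := Fact.mk hp
    refine ⟨fun _ => ?_, fun _ => ?_⟩
    · refine no_cover (p := p) (fun h => hsq (h.trans ?_)) (x := ⟨x, Equiv.Perm.mem_alternatingGroup.mpr hxs⟩)
        (y := ⟨y, Equiv.Perm.mem_alternatingGroup.mpr hys⟩) (by rw [Subgroup.orderOf_mk]; exact hx)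
        (by rw [Subgroup.orderOf_mk]; exact hy) (fun h => hne (congrArg Subtype.val h))
        ((initStab n p).subgroupOf (alternatingGroup (Fin n))) ?_
        (fun g h => hgx g.1 (congrArg Subtype.val h)) (fun g h => hgy g.1 (congrArg Subtype.val h))
      · exact (Subgroup.card_subgroup_dvd_card _).trans (by rw [Nat.card_perm, Nat.card_fin])
      · intro h
        have hm : (⟨t, Equiv.Perm.mem_alternatingGroup.mpr hts⟩ : alternatingGroup (Fin n)) ∈
            (initStab n p).subgroupOf (alternatingGroup (Fin n)) := h ▸ Subgroup.mem_top _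
        exact ht hm
    · exact no_cover (p := p) (by rwa [Nat.card_perm, Nat.card_fin]) hx hy hne (initStab n p)
        (fun h => ht (h ▸ Subgroup.mem_top _)) hgx hgy

end Cfsg.Agent.S3892
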