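import Cfsg.Statements.S3898
import Cfsg.Agent.H73.ClassBound

set_option autoImplicit false
open Cfsg

namespace Cfsg.Agent.S3898

/-- Let π be a finite set of primes containing 2 and G a finite group. Write k_π(G) for the number of conjugacy classes of G consisting of π-elements (elements all of whose order's prime divisors lie in π) and |G|_π for the π-part of the order of G. If k_π(G) > |G|_π/2, then G has a normal π-complement (a normal subgroup of order prime to π whose index is a π-number) and an abelian Hall subgroup for the set of odd primes in π. -/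
theorem result {G : Type*} [Group G] [Finite G] (π : Finset ℕ) (hπ : ∀ r ∈ π, r.Prime) (h2 : 2 ∈ π)
    (hk : π.prod (fun r => r ^ (Nat.card G).factorization r) < 2 * Nat.card {c : ConjClasses G // ∀ x ∈ c.carrier, ∀ r : ℕ, r.Prime → r ∣ orderOf x → r ∈ π}) :
    (∃ N : Subgroup G, N.Normal ∧ (∀ r : ℕ, r.Prime → r ∣ Nat.card ↥N → r ∉ π) ∧ ∀ r : ℕ, r.Prime → r ∣ N.index → r ∈ π) ∧ ∃ H : Subgroup G, Cfsg.IsPiHall ((↑π : Set ℕ) \ {2}) H ∧ IsMulCommutative ↥H := by
  classical
  set K := pResidual 2 G with hK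
  have hk' : H73.piProd π (Nat.card G) < 2 * H73.piClassCount (↑π : Set ℕ) G := hk
  rw [H73.piProd_erase h2] at hk'
  set π₀ := π.erase 2 with hπ₀d
  have hπ₀ : ∀ r ∈ π₀, r.Prime := fun r hr => hπ r (Finset.mem_of_mem_erase hr)
  have hn : HasNormalPComplement 2 G := by
    by_contra hn
    have h3 := H73.two_le_half hn (default : Sylow 2 G)
    rw [(default : Sylow 2 G).card_eq_multiplicity] at h3
    have hle := H73.piClassCount_le_sylow_mul hπ h2 G
    have h4 := Nat.mul_le_mul_right (H73.piProd π₀ (Nat.card G)) h3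
    nlinarith
  have h2K : ¬ 2 ∣ Nat.card ↥K := Fusion.hasNormalPComplement_iff_pResidual.mp hn
  have hKodd : Odd (Nat.card ↥K) := Nat.odd_iff.mpr (by omega)
  have hmem : ∀ x : G, H73.PiElem (↑π₀ : Set ℕ) x → x ∈ K := fun x hx =>
    (Fusion.mem_pResidual_iff_of_hasNormalPComplement hn).mpr
      (Nat.coprime_of_dvd fun r hr h1 h1' => by
        have := hx r hr h1
        rw [(Nat.prime_dvd_prime_iff_eq hr Nat.prime_two).mp h1'] at this
        simp [π₀] at this)
  have hkK : H73.piClassCount (↑π : Set ℕ) G ≤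
      H73.piClassCount (↑π₀ : Set ℕ) ↥K * 2 ^ (Nat.card G).factorization 2 := by
    have e1 : (↑π : Set ℕ) ∩ ↑π₀ = ↑π₀ := Set.inter_eq_right.mpr (by simp [π₀])
    have e2 : (↑π : Set ℕ) \ ↑π₀ = {2} := by
      ext x
      simp only [π₀, Finset.coe_erase, Set.mem_sdiff, Finset.mem_coe, Set.mem_singleton_iff]
      exact ⟨fun h => by by_contra hne; exact h.2 ⟨h.1, hne⟩, fun h => ⟨h ▸ h2, fun h' => h'.2 h⟩⟩
    have := H73.piClassCount_le_mul (G := G) (↑π : Set ℕ) (↑π₀ : Set ℕ)
      (2 ^ (Nat.card G).factorization 2) fun x _ => by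
        rw [e2]
        refine (H73.piClassCount_le_sylow (default : Sylow 2 _)).trans ?_
        rw [(default : Sylow 2 _).card_eq_multiplicity]
        exact Nat.pow_le_pow_right two_pos
          ((Nat.factorization_le_iff_dvd Nat.card_pos.ne' Nat.card_pos.ne').mpr
            (Subgroup.card_subgroup_dvd_card _) 2)
    rw [e1] at this
    exact this.trans (Nat.mul_le_mul_right _ (H73.piClassCount_le_of_subgroup K hmem))
  have hkey : H73.piProd π₀ (Nat.card ↥K) < 2 * H73.piClassCount (↑π₀ : Set ℕ) ↥K := by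
    have h5 := H73.piProd_mono hπ₀ Nat.card_pos.ne' (Subgroup.card_subgroup_dvd_card K)
    refine h5.trans_lt ?_
    by_contra hcon
    have h6 := Nat.mul_le_mul_left (2 ^ (Nat.card G).factorization 2) (Nat.le_of_not_lt hcon)
    nlinarith
  obtain ⟨N, hN, h1, h2', H, ⟨hH1, hH2⟩, hab⟩ :=
      H73.exists_complement_hall hπ₀ (K := ↥K) (fun r _ hr P => by
    have hr2 : r ≠ 2 := (Finset.mem_erase.mp hr).1
    refine H73.good_of_many_odd_order hKodd hr2 P ?_
    have hle := H73.piClassCount_le_sylow_mul hπ₀ hr ↥K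
    rw [H73.piProd_erase hr, ← P.card_eq_multiplicity] at hkey
    by_contra hcon
    have h6 := Nat.mul_le_mul_right (H73.piProd (π₀.erase r) (Nat.card ↥K)) (Nat.le_of_not_lt hcon)
    nlinarith)
  have hidx : ∀ r : ℕ, r.Prime → r ∣ K.index → r = 2 := by
    intro r hr hd
    obtain ⟨k, hk⟩ := IsPGroup.iff_card.mp (Fusion.isPGroup_quotient_pResidual (p := 2) (G := G))
    rw [Subgroup.index_eq_card, hk] at hd
    exact (Nat.prime_dvd_prime_iff_eq hr Nat.prime_two).mp (hr.dvd_of_dvd_pow hd)
  refine ⟨⟨N.map K.subtype, inferInstance, ?_, ?_⟩, H.map K.subtype, ⟨?_, ?_⟩, ?_⟩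
  · intro r hr hd hmem
    rw [Subgroup.card_map_of_injective K.subtype_injective] at hd
    by_cases hr2 : r = 2
    · subst hr2
      exact h2K (hd.trans (Subgroup.card_subgroup_dvd_card N))
    · exact h1 r hr hd (Finset.mem_erase.mpr ⟨hr2, hmem⟩)
  · intro r hr hd
    rw [Subgroup.index_map_subtype] at hd
    rcases hr.dvd_mul.mp hd with h | h
    · exact Finset.mem_of_mem_erase (h2' r hr h)
    · exact (hidx r hr h).symm ▸ h2
  · intro r hr hd
    rw [Subgroup.card_map_of_injective K.subtype_injective] at hd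
    have := hH1 r hr hd
    simp [π₀] at this ⊢
    exact this
  · intro r hr hmem hd
    rw [Subgroup.index_map_subtype] at hd
    rcases hr.dvd_mul.mp hd with h | h
    · exact hH2 r hr (by simp [π₀] at hmem ⊢; exact hmem) h
    · exact hmem.2 (hidx r hr h)
  · have := hab
    exact Subgroup.map_isMulCommutative _ _

end Cfsg.Agent.S3898
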