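import Cfsg.Statements.S3899
import Cfsg.Agent.H73.ClassBound

set_option autoImplicit false
open Cfsg

namespace Cfsg.Agent.S3899

/-- Let π be a finite non-empty set of odd primes with smallest member p and G a finite group. Write k_π(G) for the number of conjugacy classes of G consisting of π-elements (elements all of whose order's prime divisors lie in π) and |G|_π for the π-part of the order of G. If k_π(G) > (p + 1)|G|_π/(2p), then G has a normal π-complement (a normal subgroup of order prime to π whose index is a π-number) and an abelian Hall π-subgroup. -/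
theorem result {G : Type*} [Group G] [Finite G] (π : Finset ℕ) (hπ : ∀ r ∈ π, r.Prime) (h2 : 2 ∉ π) (p : ℕ) (hp : p ∈ π)
    (hmin : ∀ r ∈ π, p ≤ r) (hk : (p + 1) * π.prod (fun r => r ^ (Nat.card G).factorization r) < 2 * p * Nat.card {c : ConjClasses G // ∀ x ∈ c.carrier, ∀ r : ℕ, r.Prime → r ∣ orderOf x → r ∈ π}) :
    (∃ N : Subgroup G, N.Normal ∧ (∀ r : ℕ, r.Prime → r ∣ Nat.card ↥N → r ∉ π) ∧ ∀ r : ℕ, r.Prime → r ∣ N.index → r ∈ π) ∧ ∃ H : Subgroup G, Cfsg.IsPiHall (↑π : Set ℕ) H ∧ IsMulCommutative ↥H := by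
  classical
  obtain ⟨N, hN, h1, h2', H, hH, hab⟩ := H73.exists_complement_hall hπ (K := G) (fun r _ hr P => by
    have hr2 : r ≠ 2 := fun h => h2 (h ▸ hr)
    refine H73.good_of_many_odd hr2 P ?_
    have hle := H73.piClassCount_le_sylow_mul hπ hr G
    have hk' : (p + 1) * H73.piProd π (Nat.card G) < 2 * p * H73.piClassCount (↑π : Set ℕ) G := hk
    rw [H73.piProd_erase hr, ← P.card_eq_multiplicity] at hk'
    have h3 : (p + 1) * Nat.card ↥(P : Subgroup G) < 2 * p * H73.piClassCount {r} G :=
      Nat.lt_of_mul_lt_mul_right (a := H73.piProd (π.erase r) (Nat.card G)) (by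
        rw [mul_assoc, mul_assoc]
        exact hk'.trans_le (by simp only [mul_assoc]; exact Nat.mul_le_mul_left 2 (Nat.mul_le_mul_left p hle)))
    have hrp := hmin r hr
    have hp0 := (hπ p hp).pos
    nlinarith)
  exact ⟨⟨N, inferInstance, h1, h2'⟩, H, hH, hab⟩

end Cfsg.Agent.S3899
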