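import Cfsg.Statements.S3903
-- import your own Cfsg.Agent.* helpers here

set_option autoImplicit false
open Cfsg

namespace Cfsg.Agent.S3903

set_option linter.style.haveILetI false
set_option linter.unusedSectionVars false

open Subgroup

section
variable {G : Type*} [Group G] [Finite G]

theorem exists_isPGroup_centralizer (N : Subgroup G)
    (h : ∀ x : G, x ∉ N → IsPrimePow (orderOf x)) (x : G) (hx : x ∉ N) :
    ∃ p k : ℕ, p.Prime ∧ 0 < k ∧ orderOf x = p ^ k ∧
      IsPGroup p ↥(centralizer ({x} : Set G)) := by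
  obtain ⟨p, k, hp, hk, he⟩ := (isPrimePow_nat_iff _).mp (h x hx)
  haveI := Fact.mk hp
  refine ⟨p, k, hp, hk, he.symm, ?_⟩
  refine IsPGroup.of_card (n := (Nat.card ↥(centralizer ({x} : Set G))).primeFactorsList.length) ?_
  apply Nat.eq_prime_pow_of_unique_prime_dvd Nat.card_pos.ne'
  intro r hr hrd
  haveI := Fact.mk hr
  by_contra hne
  obtain ⟨y, hy⟩ := exists_prime_orderOf_dvd_card' r hrd
  have hyo : orderOf (y : G) = r := by rw [Subgroup.orderOf_coe, hy]
  have hc : Commute x (y : G) := Subgroup.mem_centralizer_singleton_iff.mp y.2 |>.symm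
  have hcop : (orderOf x).Coprime (orderOf (y : G)) := by
    rw [← he, hyo]
    exact Nat.Coprime.pow_left k ((Nat.coprime_primes hp hr).mpr (Ne.symm hne))
  have hz : x * (y : G) ∉ N := by
    intro hz
    have h1 : x ^ r ∈ N := by
      have h2 := N.pow_mem hz r
      have h3 : (y : G) ^ r = 1 := hyo ▸ pow_orderOf_eq_one (y : G)
      rwa [hc.mul_pow, h3, mul_one] at h2
    rw [hyo] at hcop
    obtain ⟨m, hm⟩ := exists_pow_eq_self_of_coprime hcop.symm
    exact hx (hm ▸ N.pow_mem h1 m)
  obtain ⟨q, m, hq, -, hm⟩ := (isPrimePow_nat_iff _).mp (h _ hz)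
  rw [hc.orderOf_mul_eq_mul_orderOf_of_coprime hcop, ← he, hyo] at hm
  have hpq : p = q := (Nat.prime_dvd_prime_iff_eq hp hq).mp
    (hp.dvd_of_dvd_pow (n := m) (hm ▸ Dvd.dvd.mul_right (dvd_pow_self p hk.ne') r))
  have hrq : r = q := (Nat.prime_dvd_prime_iff_eq hr hq).mp
    (hr.dvd_of_dvd_pow (n := m) (hm ▸ Dvd.intro_left _ rfl))
  exact hne (hrq.trans hpq.symm)

theorem isSolvable_of_coatom_normal (M : Subgroup G) [M.Normal] (hM : IsCoatom M)
    (hs : Group.IsSolvable ↥M) : Group.IsSolvable G := by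
  haveI : Group.IsSolvable (G ⧸ M) := by
    obtain ⟨g, -, hg⟩ := SetLike.exists_of_lt hM.lt_top
    have hlt : M < M ⊔ zpowers g :=
      lt_of_le_of_ne le_sup_left fun e => hg (e ▸ mem_sup_right (mem_zpowers g))
    have htop : zpowers (QuotientGroup.mk' M g) = ⊤ := by
      rw [← MonoidHom.map_zpowers, ← Subgroup.map_top_of_surjective _ (QuotientGroup.mk'_surjective M),
        ← hM.2 _ hlt, Subgroup.map_sup, QuotientGroup.map_mk'_self, bot_sup_eq]
    apply Group.isSolvable_of_comm
    intro a b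
    obtain ⟨i, rfl⟩ := mem_zpowers_iff.mp (htop ▸ mem_top a)
    obtain ⟨j, rfl⟩ := mem_zpowers_iff.mp (htop ▸ mem_top b)
    rw [← zpow_add, ← zpow_add, add_comm]
  exact (Group.isSolvable_iff_subgroup_quotient M).mpr ⟨hs, inferInstance⟩

theorem count_ineq {Nc i w a b c : ℕ} (hb : 1 < b) (hab : a ≤ b)
    (hNc : Nc * b = c) (h : c - Nc ≤ i * (w * a - w)) : c ≤ i * (w * a) := by
  obtain ⟨b, rfl⟩ : ∃ b', b = b' + 1 := ⟨b - 1, by omega⟩
  subst hNc
  rw [mul_add_one, Nat.add_sub_cancel] at h
  rcases Nat.eq_zero_or_pos a with rfl | ha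
  · simp at h
    rcases h with rfl | h
    · simp
    · omega
  obtain ⟨a, rfl⟩ : ∃ a', a = a' + 1 := ⟨a - 1, by omega⟩
  rw [mul_add_one w a, Nat.add_sub_cancel] at h
  have hab' : a ≤ b := by omega
  have h2 : b * (Nc * (b + 1)) ≤ b * (i * (w * (a + 1))) := by
    calc b * (Nc * (b + 1)) = (Nc * b) * (b + 1) := by ring
    _ ≤ (i * (w * a)) * (b + 1) := Nat.mul_le_mul_right _ h
    _ ≤ b * (i * (w * (a + 1))) := by nlinarith [Nat.mul_le_mul_left (i * w) hab']
  exact Nat.le_of_mul_le_mul_left h2 (by omega)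

/-- A finite group with a maximal subgroup that is an abelian Sylow subgroup is solvable. -/
theorem isSolvable_of_abelian_sylow_coatom {p : ℕ} [Fact p.Prime] (P : Sylow p G)
    (hP : IsCoatom (P : Subgroup G)) (hab : (P : Subgroup G) ≤ centralizer ((P : Subgroup G) : Set G)) :
    Group.IsSolvable G := by
  haveI hPs : Group.IsSolvable ↥(P : Subgroup G) := by
    haveI := P.isPGroup'.isNilpotent
    infer_instance
  by_cases hn : (P : Subgroup G).Normal
  · exact isSolvable_of_coatom_normal _ hP hPs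
  have hN : normalizer ((P : Subgroup G) : Set G) = P := by
    rcases (le_normalizer (H := (P : Subgroup G))).eq_or_lt with h | h
    · exact h.symm
    · exact absurd (normalizer_eq_top_iff.mp (hP.2 _ h)) hn
  obtain ⟨K, hKn, hK⟩ : ∃ K : Subgroup G, K.Normal ∧ K.IsComplement' (P : Subgroup G) :=
    ⟨_, inferInstance, MonoidHom.ker_transferSylow_isComplement' P (hN.le.trans hab)⟩
  have hpK : ¬ p ∣ Nat.card ↥K := hK.index_eq_card ▸ P.not_dvd_index
  haveI : Group.IsNilpotent ↥K := by
    refine (Group.isNilpotent_of_finite_tfae.out 0 3 rfl rfl).mpr ?_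
    intro q hq Q
    set Q0 : Subgroup G := (Q : Subgroup ↥K).map K.subtype with hQ0
    have hsup := Sylow.normalizer_sup_eq_top Q
    have hd : Nat.card ↥(P : Subgroup G) ∣ Nat.card ↥(normalizer (Q0 : Set G)) := by
      rw [← hK.symm.index_eq_card, index_eq_card, ← Subgroup.card_top (G := G ⧸ K),
        ← Subgroup.map_top_of_surjective _ (QuotientGroup.mk'_surjective K),
        ← hsup, Subgroup.map_sup, QuotientGroup.map_mk'_self, sup_bot_eq]
      exact card_map_dvd _ _
    obtain ⟨n, hn⟩ := IsPGroup.iff_card.mp P.isPGroup'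
    obtain ⟨R, hR⟩ := Sylow.exists_subgroup_card_pow_prime p (hn ▸ hd)
    set R0 : Subgroup G := R.map (normalizer (Q0 : Set G)).subtype
    have hR0 : Nat.card ↥R0 = p ^ n := by
      rw [Subgroup.card_map_of_injective (Subgroup.subtype_injective _), hR]
    have hR0f : Nat.card ↥R0 = p ^ (Nat.card G).factorization p := by
      rw [hR0, ← hn, P.card_eq_multiplicity]
    obtain ⟨g, hg⟩ := MulAction.exists_smul_eq G P (Sylow.ofCard R0 hR0f)
    have hR0c : IsCoatom R0 := by
      have : R0 = (P : Subgroup G).map (MulAut.conj g).toMonoidHom := by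
        have h1 := congrArg (fun S : Sylow p G => (S : Subgroup G)) hg
        simp only [Sylow.coe_ofCard, Sylow.coe_subgroup_smul] at h1
        exact h1.symm
      rw [this]
      exact ((MulAut.conj g).mapSubgroup.isCoatom_iff _).mpr hP
    have hle : R0 ≤ normalizer (Q0 : Set G) := map_subtype_le R
    rcases hle.eq_or_lt with h | h
    · have h1 : Nat.card ↥Q0 ∣ p ^ n := hR0 ▸ card_dvd_of_le (h ▸ le_normalizer)
      have h2 : Nat.card ↥Q0 ∣ Nat.card ↥K := card_dvd_of_le (map_subtype_le _)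
      have h3 : Nat.card ↥Q0 = 1 := Nat.eq_one_of_dvd_coprimes
        (Nat.Coprime.pow_left n (((Fact.out : p.Prime).coprime_iff_not_dvd).mpr hpK)) h1 h2
      rw [Subgroup.card_map_of_injective (Subgroup.subtype_injective _), Subgroup.card_eq_one] at h3
      rw [h3]
      infer_instance
    · have hn0 : Q0.Normal := normalizer_eq_top_iff.mp (hR0c.2 _ h)
      have := hn0.subgroupOf K
      rwa [hQ0, Subgroup.subgroupOf, comap_map_eq_self_of_injective K.subtype_injective] at this
  haveI : Group.IsSolvable (G ⧸ K) := by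
    have hKP : IsPGroup p (G ⧸ K) := by
      obtain ⟨n, hn⟩ := IsPGroup.iff_card.mp P.isPGroup'
      exact IsPGroup.of_card (n := n) (by rw [← index_eq_card, hK.symm.index_eq_card, hn])
    haveI := hKP.isNilpotent
    infer_instance
  exact (Group.isSolvable_iff_subgroup_quotient K).mpr ⟨inferInstance, inferInstance⟩

theorem isSolvable_of_normal (N : Subgroup G) [N.Normal] (hN : N ≠ ⊤)
    (h : ∀ x : G, x ∉ N → IsPrimePow (orderOf x) ∧ IsCoatom (centralizer ({x} : Set G))) :
    Group.IsSolvable ↥N := by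
  obtain ⟨x, -, hx⟩ := SetLike.exists_of_lt hN.lt_top
  obtain ⟨p, k, hp, hk, hxo, hM⟩ := exists_isPGroup_centralizer N (fun y hy => (h y hy).1) x hx
  haveI := Fact.mk hp
  have hMc := (h x hx).2
  set M := centralizer ({x} : Set G) with hMdef
  by_cases hle : N ≤ M
  · haveI := (hM.to_le hle).isNilpotent
    infer_instance
  suffices Group.IsSolvable G from inferInstance
  obtain ⟨P, hP⟩ := hM.exists_le_sylow
  rcases hP.eq_or_lt with hPM | hPM
  swap
  · have hPt : (P : Subgroup G) = ⊤ := hMc.2 _ hPM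
    have : IsPGroup p G := by
      intro g
      obtain ⟨j, hj⟩ := P.isPGroup' ⟨g, hPt ▸ mem_top g⟩
      exact ⟨j, by simpa using congrArg Subtype.val hj⟩
    haveI := this.isNilpotent
    infer_instance
  have hMN : M ⊔ N = ⊤ := hMc.2 _ (lt_of_le_of_ne le_sup_left fun e => hle (e.symm ▸ le_sup_right))
  have hq : IsPGroup p (G ⧸ N) := by
    have : M.map (QuotientGroup.mk' N) = ⊤ := by
      rw [← Subgroup.map_top_of_surjective _ (QuotientGroup.mk'_surjective N), ← hMN,
        Subgroup.map_sup, QuotientGroup.map_mk'_self, sup_bot_eq]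
    have h2 : IsPGroup p ↥(⊤ : Subgroup (G ⧸ N)) := this ▸ hM.map (QuotientGroup.mk' N)
    exact h2.of_equiv Subgroup.topEquiv
  have hsyl : ∀ y : G, y ∉ N → (P : Subgroup G) ≠ ⊤ → ∃ Q : Sylow p G, (Q : Subgroup G) = centralizer ({y} : Set G) := by
    intro y hy hPtop
    obtain ⟨r, j, hr, hj, hyo, hC⟩ := exists_isPGroup_centralizer N (fun z hz => (h z hz).1) y hy
    obtain ⟨i, hi⟩ := IsPGroup.iff_orderOf.mp hq (QuotientGroup.mk' N y)
    have hi0 : i ≠ 0 := by
      rintro rfl
      rw [pow_zero, orderOf_eq_one_iff] at hi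
      exact hy ((QuotientGroup.eq_one_iff y).mp hi)
    have hpr : p = r := (Nat.prime_dvd_prime_iff_eq hp hr).mp (hp.dvd_of_dvd_pow (n := j) (by
      rw [← hyo]
      exact ((dvd_pow_self p hi0).trans (hi ▸ orderOf_map_dvd _ y))))
    subst hpr
    obtain ⟨Q, hQ⟩ := hC.exists_le_sylow
    refine ⟨Q, ((hQ.eq_or_lt).resolve_right fun hlt => ?_).symm⟩
    have hQt : (Q : Subgroup G) = ⊤ := (h y hy).2.2 _ hlt
    apply hPtop
    apply Subgroup.eq_top_of_card_eq
    rw [P.card_eq_multiplicity, ← Q.card_eq_multiplicity, hQt, card_top]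
  have hPtop : (P : Subgroup G) ≠ ⊤ := hPM ▸ hMc.1
  set T : Subgroup G := (P : Subgroup G) ⊓ centralizer ((P : Subgroup G) : Set G) with hT
  have hsur : Function.Surjective (fun cz : (G ⧸ (P : Subgroup G)) × ((N.subgroupOf T : Set ↥T)ᶜ : Set ↥T) =>
      (⟨cz.1.out * (cz.2.1 : G) * cz.1.out⁻¹, by
        intro hmem
        apply cz.2.2
        rw [SetLike.mem_coe, Subgroup.mem_subgroupOf]
        have := (inferInstance : N.Normal).conj_mem _ hmem cz.1.out⁻¹
        simpa [mul_assoc] using this⟩ : ((N : Set G)ᶜ : Set G))) := by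
    rintro ⟨y, hy⟩
    obtain ⟨Q, hQ⟩ := hsyl y hy hPtop
    obtain ⟨g, hg⟩ := MulAction.exists_smul_eq G P Q
    set c : G ⧸ (P : Subgroup G) := QuotientGroup.mk g
    obtain ⟨π, hπ⟩ := QuotientGroup.mk_out_eq_mul (P : Subgroup G) g
    have hQ' : ∀ a : G, a ∈ centralizer ({y} : Set G) ↔ c.out⁻¹ * a * c.out ∈ (P : Subgroup G) := by
      intro a
      rw [← hQ, ← hg, Sylow.coe_subgroup_smul, Subgroup.mem_pointwise_smul_iff_inv_smul_mem]
      rw [show c.out = g * (π : G) from hπ]
      have : (g * (π : G))⁻¹ * a * (g * (π : G)) = (π : G)⁻¹ * ((MulAut.conj g)⁻¹ • a) * π := by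
        simp [mul_assoc]
      rw [this, Subgroup.mul_mem_cancel_right _ π.2, Subgroup.mul_mem_cancel_left _ (inv_mem π.2)]
    have hzT : c.out⁻¹ * y * c.out ∈ T := by
      refine ⟨(hQ' y).mp (mem_centralizer_singleton_iff.mpr rfl), ?_⟩
      change _ ∈ centralizer _
      rw [mem_centralizer_iff]
      intro w hw
      have h1 : c.out * w * c.out⁻¹ ∈ centralizer ({y} : Set G) :=
        (hQ' _).mpr (by simp only [mul_assoc, inv_mul_cancel_left, inv_mul_cancel, mul_one]; exact hw)
      have h2 := mem_centralizer_singleton_iff.mp h1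
      calc w * (c.out⁻¹ * y * c.out) = c.out⁻¹ * ((c.out * w * c.out⁻¹) * y) * c.out := by group
      _ = c.out⁻¹ * (y * (c.out * w * c.out⁻¹)) * c.out := by rw [h2]
      _ = c.out⁻¹ * y * c.out * w := by group
    refine ⟨⟨c, ⟨⟨_, hzT⟩, ?_⟩⟩, ?_⟩
    · intro hmem
      apply hy
      rw [SetLike.mem_coe, Subgroup.mem_subgroupOf] at hmem
      have := (inferInstance : N.Normal).conj_mem _ hmem c.out
      simpa [mul_assoc] using this
    · apply Subtype.ext
      simp [mul_assoc]
  have hcount := Nat.card_le_card_of_surjective _ hsur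
  rw [Nat.card_prod, Nat.card_coe_set_eq, Nat.card_coe_set_eq, Set.ncard_compl, Set.ncard_compl,
    ← index_eq_card] at hcount
  simp only [SetLike.coe_sort_coe, ← Nat.card_coe_set_eq] at hcount
  have hb : 1 < N.index := one_lt_index_of_ne_top hN
  have hab : (N.subgroupOf T).index ≤ N.index :=
    Nat.le_of_dvd (by omega) (relIndex_dvd_index_of_normal N T)
  rw [← (N.subgroupOf T).card_mul_index] at hcount
  have hfin := count_ineq hb hab N.card_mul_index hcount
  rw [(N.subgroupOf T).card_mul_index, ← (P : Subgroup G).card_mul_index,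
    mul_comm] at hfin
  have hTP : T = P := Subgroup.eq_of_le_of_card_ge inf_le_left
    (Nat.le_of_mul_le_mul_left hfin (Nat.pos_of_ne_zero index_ne_zero_of_finite))
  exact isSolvable_of_abelian_sylow_coatom P (hPM ▸ hMc) (fun a ha => (hTP.symm ▸ ha : a ∈ T).2)

end

/-- Let N be a proper normal subgroup of the finite group G such that every element x of G outside N has prime power order and has centralizer C_G(x) a maximal subgroup of G. Then N is solvable. -/
theorem result {G : Type*} [Group G] [Finite G] (N : Subgroup G) [N.Normal] (hN : N ≠ ⊤)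
    (h : ∀ x : G, x ∉ N → IsPrimePow (orderOf x) ∧ IsCoatom (Subgroup.centralizer ({x} : Set G))) : Group.IsSolvable ↥N := by
  exact isSolvable_of_normal N hN h

end Cfsg.Agent.S3903
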