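import Cfsg.Statements.S3904
import Cfsg.Agent.H73.MaxCentralizerQuot

set_option autoImplicit false
open Cfsg

namespace Cfsg.Agent.S3904

/-- Let G be a non-abelian finite group in which the centralizer of every non-central element is a maximal subgroup. Then G/Z(G) is either an elementary abelian p-group for some prime p, or a minimal non-abelian group (non-abelian with all proper subgroups abelian) of order p^a · q for distinct primes p, q with a normal Sylow p-subgroup. -/
theorem result {G : Type*} [Group G] [Finite G] (hna : ¬ IsMulCommutative G)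
    (h : ∀ x : G, x ∉ Subgroup.center G → IsCoatom (Subgroup.centralizer ({x} : Set G))) :
    (∃ p : ℕ, p.Prime ∧ Cfsg.IsElementaryAbelian p (⊤ : Subgroup (G ⧸ Subgroup.center G))) ∨
    (¬ IsMulCommutative (G ⧸ Subgroup.center G) ∧ (∀ H : Subgroup (G ⧸ Subgroup.center G), H ≠ ⊤ → IsMulCommutative ↥H) ∧
      ∃ p q a : ℕ, p.Prime ∧ q.Prime ∧ p ≠ q ∧ Nat.card (G ⧸ Subgroup.center G) = p ^ a * q ∧
        ∀ P : Subgroup (G ⧸ Subgroup.center G), Nat.card ↥P = p ^ a → P.Normal) := by
  have hncomm : ∀ x : G, x ∉ Subgroup.center G → Subgroup.centralizer ({x} : Set G) ≠ ⊤ :=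
    fun x hx => (h x hx).1
  have H : H73.MaxCen.Hyp G := by
    refine ⟨fun x k hk => ?_, fun x hx K hK _ => (h x hx).le_iff.mp hK |>.symm⟩
    have hx : x ∉ Subgroup.center G := fun hx => hk (Subgroup.pow_mem _ hx k)
    have hle : Subgroup.centralizer ({x} : Set G) ≤ Subgroup.centralizer ({x ^ k} : Set G) := by
      intro g hg
      rw [Subgroup.mem_centralizer_singleton_iff] at hg ⊢
      exact ((show Commute g x from hg).pow_right k).eq
    exact ((h x hx).le_iff.mp hle).resolve_left (hncomm _ hk)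
  rcases H73.MaxCen.main H with ⟨p, hp, hel⟩ | ⟨p, q, T, hp, hq, hpq, hTn, hZ, hv, hidx, hexp, hcen⟩
  · exact Or.inl ⟨p, hp, H73.MaxCen.elementary_quot hel⟩
  obtain ⟨hn, hK, hcyc, hF⟩ := H73.MaxCen.quot_data hp hq hpq hZ hv hidx hexp hcen
  set π := QuotientGroup.mk' (Subgroup.center G) with hπ
  obtain ⟨e, he⟩ : ∃ e : G, e ∉ T := by
    by_contra hall
    push_neg at hall
    rw [show T = ⊤ from (Subgroup.eq_top_iff' T).mpr hall, Subgroup.index_top] at hidx
    exact hq.one_lt.ne hidx
  obtain ⟨hC, hcard, hker, hfree⟩ := hF e he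
  have := Fact.mk hp
  have hTi : (T.map π).index = q := by
    rw [Subgroup.index_map, MonoidHom.range_eq_top.mpr (QuotientGroup.mk'_surjective _),
      Subgroup.index_top, mul_one, QuotientGroup.ker_mk', sup_eq_left.mpr hZ, hidx]
  have hTp : IsPGroup p (T.map π) := fun a => ⟨1, Subtype.ext (by
    rw [pow_one]; exact hK.2 a.1 a.2)⟩
  obtain ⟨a, ha⟩ := IsPGroup.iff_card.mp hTp
  refine Or.inr ⟨fun hcomm => ?_, fun U hU => ?_, p, q, a, hp, hq, hpq, ?_, fun P hP => ?_⟩
  · obtain ⟨v, hvT, hvc⟩ := hv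
    exact hvc ((QuotientGroup.eq_one_iff v).mp
      (hfree v hvT (hcomm.is_comm.comm _ _)))
  · by_cases hle : U.comap π ≤ T
    · refine ⟨⟨fun x y => Subtype.ext ?_⟩⟩
      have hUT : U ≤ T.map π := by
        rw [← Subgroup.map_comap_eq_self_of_surjective (QuotientGroup.mk'_surjective _) U]
        exact Subgroup.map_mono hle
      exact congrArg (fun z : T.map π => (z : G ⧸ Subgroup.center G)) (hK.1.is_comm.comm ⟨x.1, hUT x.2⟩ ⟨y.1, hUT y.2⟩)
    · obtain ⟨f, hfU, hfT⟩ := SetLike.not_le_iff_exists.mp hle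
      have hle' : H73.MaxCen.cen f ≤ U.comap π := fun c hc => by
        obtain ⟨i, hi⟩ := hcyc f hfT c hc
        rw [Subgroup.mem_comap, hi]
        exact U.zpow_mem hfU i
      have hfnc : f ∉ Subgroup.center G := fun hf => hfT (hZ hf)
      rcases (h f hfnc).le_iff.mp hle' with heq | heq
      · refine absurd ?_ hU
        rw [← Subgroup.map_comap_eq_self_of_surjective (QuotientGroup.mk'_surjective _) U, heq,
          Subgroup.map_top_of_surjective _ (QuotientGroup.mk'_surjective _)]
      · refine ⟨⟨fun x y => Subtype.ext ?_⟩⟩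
        have hx : ∀ z ∈ U, ∃ i : ℤ, z = π f ^ i := fun z hz => by
          obtain ⟨w, rfl⟩ := QuotientGroup.mk'_surjective _ z
          exact hcyc f hfT w (heq.le (Subgroup.mem_comap.mpr hz))
        obtain ⟨i, hi⟩ := hx x.1 x.2
        obtain ⟨j, hj⟩ := hx y.1 y.2
        rw [Subgroup.coe_mul, Subgroup.coe_mul, hi, hj]
        exact (Commute.refl (π f)).zpow_zpow i j
  · rw [← Subgroup.card_mul_index (T.map π), hTi, ha]
  · have hsub : P ≤ T.map π := fun x hx => by
      rw [← QuotientGroup.eq_one_iff, ← orderOf_eq_one_iff]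
      refine Nat.eq_one_of_dvd_coprimes (((Nat.coprime_primes hp hq).mpr hpq).pow_left a) ?_ ?_
      · exact ((orderOf_map_dvd (QuotientGroup.mk' (T.map π)) x).trans
          (P.orderOf_dvd_natCard hx)).trans (dvd_of_eq hP)
      · exact (orderOf_dvd_natCard _).trans (dvd_of_eq ((Subgroup.index_eq_card _).symm.trans hTi))
    rw [Subgroup.eq_of_le_of_card_ge hsub (by rw [ha, hP])]
    exact hn

end Cfsg.Agent.S3904
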