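import Cfsg.Statements.S3905
import Cfsg.Agent.H73.MaxCentralizerQuot

set_option autoImplicit false
open Cfsg

namespace Cfsg.Agent.S3905

/-- Let N be a normal subgroup of the finite group G such that for every element x of N outside the center of N the centralizer C_G(x) is a maximal subgroup of G. Then N/Z(N) is either an elementary abelian p-group for some prime p, or a Frobenius group whose kernel is an elementary abelian normal subgroup and whose complement has prime order. -/
theorem result {G : Type*} [Group G] [Finite G] (N : Subgroup G) [N.Normal]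
    (h : ∀ x : G, x ∈ N → x ∉ Subgroup.centralizer (N : Set G) → IsCoatom (Subgroup.centralizer ({x} : Set G))) :
    (∃ p : ℕ, p.Prime ∧ Cfsg.IsElementaryAbelian p (⊤ : Subgroup (↥N ⧸ Subgroup.center ↥N))) ∨
    (∃ (Q K : Subgroup (↥N ⧸ Subgroup.center ↥N)) (p : ℕ), p.Prime ∧ Cfsg.IsFrobeniusComplement Q ∧ (Nat.card ↥Q).Prime ∧
      K.Normal ∧ (K : Set (↥N ⧸ Subgroup.center ↥N)) = Cfsg.frobeniusKernel Q ∧ Cfsg.IsElementaryAbelian p K) := by
  have H := H73.MaxCen.hyp_of_normal N h
  rcases H73.MaxCen.main H with ⟨p, hp, hel⟩ | ⟨p, q, T, hp, hq, hpq, hTn, hZ, hv, hidx, hexp, hcen⟩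
  · exact Or.inl ⟨p, hp, H73.MaxCen.elementary_quot hel⟩
  · obtain ⟨hn, hK, -, hF⟩ := H73.MaxCen.quot_data hp hq hpq hZ hv hidx hexp hcen
    obtain ⟨e, he⟩ : ∃ e : ↥N, e ∉ T := by
      by_contra hall
      push_neg at hall
      rw [show T = ⊤ from (Subgroup.eq_top_iff' T).mpr hall, Subgroup.index_top] at hidx
      exact hq.one_lt.ne hidx
    obtain ⟨hC, hcard, hker, -⟩ := hF e he
    exact Or.inr ⟨_, _, p, hp, hC, hcard.symm ▸ hq, hn, hker, hK⟩

end Cfsg.Agent.S3905
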