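import Cfsg.Statements.S3910
import Cfsg.Agent.H73.AbelianRank

set_option autoImplicit false
open Cfsg

namespace Cfsg.Agent.S3910

/-- A finite nilpotent group in which any two abelian subgroups of the same order are conjugate is cyclic. -/
theorem result {G : Type*} [Group G] [Finite G] (hB : ∀ A B : Subgroup G, IsMulCommutative ↥A → IsMulCommutative ↥B → Nat.card ↥A = Nat.card ↥B → ∃ g : G, B = A.map (MulAut.conj g).toMonoidHom) (hnil : Group.IsNilpotent G) : IsCyclic G := by
  classical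
  have := hnil
  have hmax : ∀ p : ℕ, ∃ x : G, (∃ k, orderOf x = p ^ k) ∧
      ∀ y : G, (∃ k, orderOf y = p ^ k) → orderOf y ≤ orderOf x := by
    intro p
    have : Nonempty {g : G // ∃ k, orderOf g = p ^ k} := ⟨⟨1, 0, by simp⟩⟩
    obtain ⟨⟨x, hx⟩, hm⟩ := Finite.exists_max
      (fun g : {g : G // ∃ k, orderOf g = p ^ k} => orderOf (g : G))
    exact ⟨x, hx, fun y hy => hm ⟨y, hy⟩⟩
  choose x hx hxmax using hmax
  set S : Set G := {g | ∃ p : ℕ, p.Prime ∧ g = x p} with hS
  have hcomm : ∀ a ∈ S, ∀ b ∈ S, a * b = b * a := by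
    rintro _ ⟨p, hp, rfl⟩ _ ⟨q, hq, rfl⟩
    rcases eq_or_ne p q with rfl | hpq
    · rfl
    have := Fact.mk hp
    have := Fact.mk hq
    obtain ⟨k, hk⟩ := hx p
    obtain ⟨l, hl⟩ := hx q
    obtain ⟨P, hP⟩ := (IsPGroup.of_card (G := ↥(Subgroup.zpowers (x p))) (p := p) (n := k)
      (by rw [Nat.card_zpowers, hk])).exists_le_sylow
    obtain ⟨Q, hQ⟩ := (IsPGroup.of_card (G := ↥(Subgroup.zpowers (x q))) (p := q) (n := l)
      (by rw [Nat.card_zpowers, hl])).exists_le_sylow
    have h4 := ((Group.isNilpotent_of_finite_tfae (G := G)).out 0 3).mp hnil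
    have hPn : (P : Subgroup G).Normal := h4 p inferInstance P
    have hQn : (Q : Subgroup G).Normal := h4 q inferInstance Q
    exact Subgroup.commute_of_normal_of_disjoint _ _ hPn hQn
      (IsPGroup.disjoint_of_ne p q hpq _ _ P.isPGroup' Q.isPGroup') _ _
      (hP (Subgroup.mem_zpowers _)) (hQ (Subgroup.mem_zpowers _))
  have hK : Subgroup.closure S = ⊤ := by
    rcases eq_top_or_exists_le_coatom (Subgroup.closure S) with h | ⟨M, hM, hle⟩
    · exact h
    exfalso
    have hMn : M.Normal :=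
      Subgroup.NormalizerCondition.normal_of_coatom M Group.normalizerCondition_of_isNilpotent hM
    apply hM.1
    refine Subgroup.eq_top_of_card_eq M (Nat.dvd_antisymm (Subgroup.card_subgroup_dvd_card M) ?_)
    rw [Nat.dvd_iff_prime_pow_dvd_dvd]
    intro p k hp hpk
    have := Fact.mk hp
    obtain ⟨E, hE⟩ := Sylow.exists_subgroup_card_pow_prime p hpk
    refine hE ▸ Subgroup.card_dvd_of_le fun y hy => ?_
    have hyo : orderOf y ∣ p ^ k := by
      rw [← Subgroup.orderOf_mk y hy, ← hE]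
      exact orderOf_dvd_natCard _
    obtain ⟨j, -, hj⟩ := (Nat.dvd_prime_pow hp).mp hyo
    obtain ⟨m, hm⟩ := hx p
    have hjm : j ≤ m := (Nat.pow_le_pow_iff_right hp.one_lt).mp (hj ▸ hm ▸ hxmax p y ⟨j, hj⟩)
    obtain ⟨g, hg⟩ := hB (Subgroup.zpowers (x p ^ (orderOf (x p) / p ^ j))) (Subgroup.zpowers y)
      inferInstance inferInstance (by
        rw [Nat.card_zpowers, Nat.card_zpowers, hj,
          orderOf_pow_orderOf_div (orderOf_pos _).ne' (hm ▸ pow_dvd_pow p hjm)])
    obtain ⟨z, hz, hzy⟩ : y ∈ (Subgroup.zpowers (x p ^ (orderOf (x p) / p ^ j))).map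
        (MulAut.conj g).toMonoidHom := hg ▸ Subgroup.mem_zpowers y
    rw [← hzy]
    refine hMn.conj_mem z (Subgroup.zpowers_le.mpr ?_ hz) g
    exact pow_mem (hle (Subgroup.subset_closure ⟨p, hp, rfl⟩)) _
  have hab : ∀ a b : G, a * b = b * a := by
    intro a b
    have hc := Subgroup.isMulCommutative_closure hcomm
    have ha : a ∈ Subgroup.closure S := hK ▸ Subgroup.mem_top a
    have hb : b ∈ Subgroup.closure S := hK ▸ Subgroup.mem_top b
    exact congrArg Subtype.val (hc.is_comm.comm (⟨a, ha⟩ : ↥(Subgroup.closure S)) ⟨b, hb⟩)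
  let _ : CommGroup G := { (inferInstance : Group G) with mul_comm := hab }
  by_contra hnc
  obtain ⟨p, z, y, hp, hz, hy, hyz⟩ := H73.exists_independent_of_not_cyclic hnc
  obtain ⟨g, hg⟩ := hB (Subgroup.zpowers z) (Subgroup.zpowers y) inferInstance inferInstance
    (by rw [Nat.card_zpowers, Nat.card_zpowers, hz, hy])
  apply hyz
  obtain ⟨w, hw, hwy⟩ : y ∈ (Subgroup.zpowers z).map (MulAut.conj g).toMonoidHom :=
    hg ▸ Subgroup.mem_zpowers y
  have : y = w := by
    rw [← hwy]
    show g * w * g⁻¹ = w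
    rw [hab g w, mul_inv_cancel_right]
  exact this ▸ hw

end Cfsg.Agent.S3910
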