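import Cfsg.Statements.S3917
import Cfsg.Agent.H73.AbelianRank

set_option autoImplicit false
open Cfsg

namespace Cfsg.Agent.S3917

/-- Say that a group has self-centralizing non-cyclic subgroups when every non-cyclic subgroup H satisfies C_G(H) ≤ H. A finite abelian group with self-centralizing non-cyclic subgroups is cyclic or elementary abelian of order p² for a prime p. -/
theorem result {G : Type*} [CommGroup G] [Finite G] (hX : (∀ H : Subgroup G, ¬ IsCyclic ↥H → Subgroup.centralizer (H : Set G) ≤ H)) :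
    IsCyclic G ∨ ∃ p : ℕ, p.Prime ∧ Nat.card G = p ^ 2 ∧ Monoid.exponent G = p := by
  by_cases hc : IsCyclic G
  · exact Or.inl hc
  right
  obtain ⟨p, z, y, hp, hz, hy, hyz⟩ := H73.exists_independent_of_not_cyclic hc
  set E : Subgroup G := Subgroup.zpowers z ⊔ Subgroup.zpowers y with hEdef
  have hEp : ∀ a ∈ E, a ^ p = 1 := by
    intro a ha
    have hle : E ≤ (powMonoidHom p : G →* G).ker := by
      refine sup_le ?_ ?_ <;> rw [Subgroup.zpowers_le]
      · show z ^ p = 1
        rw [← hz, pow_orderOf_eq_one]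
      · show y ^ p = 1
        rw [← hy, pow_orderOf_eq_one]
    exact hle ha
  have hnc : ¬ IsCyclic ↥E := by
    intro hcyc
    obtain ⟨g, hg⟩ := hcyc.exists_generator
    obtain ⟨i, hi⟩ := hg ⟨z, Subgroup.mem_sup_left (Subgroup.mem_zpowers z)⟩
    obtain ⟨k, hk⟩ := hg ⟨y, Subgroup.mem_sup_right (Subgroup.mem_zpowers y)⟩
    have hi' : (g : G) ^ i = z := congrArg Subtype.val hi
    have hk' : (g : G) ^ k = y := congrArg Subtype.val hk
    have hz1 : z ≠ 1 := fun h => hp.ne_one (by rw [← hz, h, orderOf_one])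
    have hgp : orderOf (g : G) = p := by
      rcases (Nat.dvd_prime hp).mp (orderOf_dvd_iff_pow_eq_one.mpr (hEp _ g.2)) with h | h
      · exact absurd (by rw [← hi', orderOf_eq_one_iff.mp h, one_zpow]) hz1
      · exact h
    have heq : Subgroup.zpowers z = Subgroup.zpowers (g : G) :=
      Subgroup.eq_of_le_of_card_ge (Subgroup.zpowers_le.mpr ⟨i, hi'⟩)
        (by rw [Nat.card_zpowers, Nat.card_zpowers, hz, hgp])
    exact hyz (heq ▸ ⟨k, hk'⟩)
  have hEtop : E = ⊤ := by
    refine top_le_iff.mp (le_trans ?_ (hX E hnc))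
    intro a _
    exact Subgroup.mem_centralizer_iff.mpr fun b _ => mul_comm b a
  have hall : ∀ a : G, a ^ p = 1 := fun a => hEp a (hEtop ▸ Subgroup.mem_top a)
  have hexp : Monoid.exponent G = p := by
    refine dvd_antisymm (Monoid.exponent_dvd_of_forall_pow_eq_one hall) ?_
    exact hz ▸ Monoid.order_dvd_exponent z
  refine ⟨p, hp, ?_, hexp⟩
  set f := (Subgroup.zpowers z).subtype.coprod (Subgroup.zpowers y).subtype
  have hsurj : Function.Surjective f := by
    rw [← MonoidHom.range_eq_top, MonoidHom.range_eq_map, ← hEtop]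
    apply le_antisymm
    · rintro _ ⟨⟨a, b⟩, -, rfl⟩
      exact mul_mem (Subgroup.mem_sup_left a.2) (Subgroup.mem_sup_right b.2)
    · refine sup_le ?_ ?_ <;> rw [Subgroup.zpowers_le]
      · exact ⟨(⟨z, Subgroup.mem_zpowers z⟩, 1), Subgroup.mem_top _, by simp [f]⟩
      · exact ⟨(1, ⟨y, Subgroup.mem_zpowers y⟩), Subgroup.mem_top _, by simp [f]⟩
  have hdvd : Nat.card G ∣ p ^ 2 := by
    have := Subgroup.card_dvd_of_surjective f hsurj
    rwa [Nat.card_prod, Nat.card_zpowers, Nat.card_zpowers, hz, hy, ← sq] at this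
  obtain ⟨k, hk2, hk⟩ := (Nat.dvd_prime_pow hp).mp hdvd
  have hgt : p < Nat.card G := by
    by_contra hle
    have htop : Subgroup.zpowers z = ⊤ :=
      Subgroup.eq_top_of_card_eq _ (le_antisymm (Subgroup.card_le_card_group _)
        (by rw [Nat.card_zpowers, hz]; omega))
    exact hyz (htop ▸ Subgroup.mem_top y)
  rcases k with _ | _ | _ | k
  · rw [hk] at hgt; simp at hgt; have := hp.two_le; omega
  · rw [hk, pow_one] at hgt; omega
  · exact hk
  · omega

end Cfsg.Agent.S3917
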