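import Cfsg.Statements.S3918
import Cfsg.Agent.PGroups.CyclicMaximal
-- import your own Cfsg.Agent.* helpers here

set_option autoImplicit false
open Cfsg

namespace Cfsg.Agent.S3918

open Subgroup

/-- Say that a group has self-centralizing non-cyclic subgroups when every non-cyclic subgroup H satisfies C_G(H) ≤ H. For an odd prime p, a finite non-abelian p-group has self-centralizing non-cyclic subgroups if and only if it has order p³. -/
theorem result {G : Type*} [Group G] [Finite G] {p : ℕ} [Fact p.Prime] (hp : p ≠ 2) (hG : IsPGroup p G) (hna : ¬ IsMulCommutative G) :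
    (∀ H : Subgroup G, ¬ IsCyclic ↥H → Subgroup.centralizer (H : Set G) ≤ H) ↔ Nat.card G = p ^ 3 := by
  have hnc : ¬ IsCyclic G := fun h => hna (by haveI := h; infer_instance)
  have hzne : center G ≠ ⊤ := fun h => hna ⟨⟨fun a b =>
    Subgroup.mem_center_iff.mp (h ▸ mem_top b) a⟩⟩
  constructor
  · intro hsc
    obtain ⟨E, hEn, hE, hEe, hEc⟩ := PGroups.exists_normal_elementary_sq hG hp hnc
    haveI := hEn
    have hEcyc : ¬ IsCyclic E := fun h => by
      haveI := h
      obtain ⟨g, hg⟩ := IsCyclic.exists_ofOrder_eq_natCard (α := E)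
      have h1 : orderOf g ∣ p := orderOf_dvd_of_pow_eq_one (Subtype.ext (hEe g g.2))
      rw [hg, hEc] at h1
      have h2 := Nat.le_of_dvd (Fact.out : p.Prime).pos h1
      nlinarith [(Fact.out : p.Prime).two_le]
    have hCE : centralizer (E : Set G) = E := le_antisymm (hsc E hEcyc) fun a ha =>
      Subgroup.mem_centralizer_iff.mpr fun g hg => PGroups.comm_of_isMulCommutative hE hg ha
    have hle := PGroups.index_centralizer_le hG 2 E hEc
    rw [hCE, Nat.choose_self, pow_one] at hle
    obtain ⟨n, hn⟩ := IsPGroup.iff_card.mp hG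
    have h1 := E.card_mul_index
    rw [hEc, hn] at h1
    have h2 : p ^ n ≤ p ^ 3 := by rw [← h1, pow_succ p 2]; exact Nat.mul_le_mul_left _ hle
    have hn3 := (Nat.pow_le_pow_iff_right (Fact.out : p.Prime).one_lt).mp h2
    have hn3' : 3 ≤ n := by
      by_contra h
      rcases (show n = 0 ∨ n = 1 ∨ n = 2 by omega) with rfl | rfl | rfl
      · rw [pow_zero] at hn
        haveI := (Nat.card_eq_one_iff_unique.mp hn).1
        exact hna ⟨⟨fun a b => Subsingleton.elim _ _⟩⟩
      · rw [pow_one] at hn; exact hnc (isCyclic_of_prime_card hn)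
      · exact hna (IsPGroup.isMulCommutative_of_card_eq_prime_sq hn)
    rw [hn, le_antisymm hn3 hn3']
  · intro hcard H hH x hx
    obtain ⟨i, hi, hHi⟩ := (Nat.dvd_prime_pow (Fact.out : p.Prime)).mp (hcard ▸ H.card_subgroup_dvd_card)
    have hi2 : 2 ≤ i := by
      by_contra h
      rcases (show i = 0 ∨ i = 1 by omega) with rfl | rfl
      · rw [pow_zero] at hHi
        haveI := (Nat.card_eq_one_iff_unique.mp hHi).1
        exact hH isCyclic_of_subsingleton
      · rw [pow_one] at hHi; exact hH (isCyclic_of_prime_card hHi)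
    rcases (show i = 2 ∨ i = 3 by omega) with rfl | rfl
    · haveI := PGroups.normal_of_index_eq hG (M := H) (by
        have h1 := H.card_mul_index
        rw [hHi, hcard, pow_succ p 2] at h1
        exact Nat.eq_of_mul_eq_mul_left (by rw [← hHi]; exact Nat.card_pos) h1)
      by_contra hxH
      have hgen := PGroups.sup_zpowers_eq_top hG (C := H) (by
        have h1 := H.card_mul_index
        rw [hHi, hcard, pow_succ p 2] at h1
        exact Nat.eq_of_mul_eq_mul_left (by rw [← hHi]; exact Nat.card_pos) h1) hxH
      have hab := PGroups.isMulCommutative_sup_zpowers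
        (IsPGroup.isMulCommutative_of_card_eq_prime_sq hHi) hx
      rw [hgen] at hab
      exact hna ⟨⟨fun a b => PGroups.comm_of_isMulCommutative hab (mem_top a) (mem_top b)⟩⟩
    · exact (Subgroup.eq_top_of_card_eq H (hHi.trans hcard.symm)).symm ▸ mem_top x

end Cfsg.Agent.S3918
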