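import Cfsg.Statements.S3919
import Cfsg.Agent.PGroups.Taussky
-- import your own Cfsg.Agent.* helpers here

set_option autoImplicit false
open Cfsg

namespace Cfsg.Agent.S3919

open Subgroup

/-- Say that a group has self-centralizing non-cyclic subgroups when every non-cyclic subgroup H satisfies C_G(H) ≤ H. A finite non-abelian 2-group G of order 2^n has self-centralizing non-cyclic subgroups if and only if G has nilpotency class n − 1 (that is, G is dihedral, semidihedral or generalized quaternion). -/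
theorem result {G : Type*} [Group G] [Finite G] (hna : ¬ IsMulCommutative G) (n : ℕ) (hG : Nat.card G = 2 ^ n) :
    (∀ H : Subgroup G, ¬ IsCyclic ↥H → Subgroup.centralizer (H : Set G) ≤ H) ↔ (⊤ : Subgroup G).lowerCentralSeries (n - 2) ≠ ⊥ := by
  haveI : Fact (Nat.Prime 2) := ⟨Nat.prime_two⟩
  have hGp := IsPGroup.of_card hG
  haveI := hGp.isNilpotent
  have hn3 : 3 ≤ n := by
    by_contra h
    rcases (show n = 0 ∨ n = 1 ∨ n = 2 by omega) with rfl | rfl | rfl
    · rw [pow_zero] at hG
      haveI := (Nat.card_eq_one_iff_unique.mp hG).1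
      exact hna ⟨⟨fun a b => Subsingleton.elim _ _⟩⟩
    · rw [pow_one] at hG; haveI := isCyclic_of_prime_card hG; exact hna inferInstance
    · exact hna (IsPGroup.isMulCommutative_of_card_eq_prime_sq hG)
  have hclass : (⊤ : Subgroup G).lowerCentralSeries (n - 2) ≠ ⊥ ↔ Group.nilpotencyClass G = n - 1 := by
    rw [ne_eq, Subgroup.lowerCentralSeries_eq_bot_iff_nilpotencyClass_le]
    have := PGroups.nilpotencyClass_le (p := 2) n G (by omega) hG
    omega
  rw [hclass]
  have hnc : ¬ IsCyclic G := fun h => hna (by haveI := h; infer_instance)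
  constructor
  · intro hsc
    obtain ⟨z, -, hzc, hz⟩ := PGroups.exists_mem_center_orderOf_eq hGp (⊤ : Subgroup G) (by
      haveI : Nontrivial G := Finite.one_lt_card_iff_nontrivial.mp
        (hG ▸ Nat.one_lt_pow (by omega) one_lt_two)
      exact top_ne_bot)
    have hz2 : z ^ 2 = 1 := hz ▸ pow_orderOf_eq_one z
    by_cases hinv : ∃ a : G, a ^ 2 = 1 ∧ a ∉ zpowers z
    · obtain ⟨a, ha2, haz⟩ := hinv
      haveI := PGroups.normal_of_le_center (zpowers_le.mpr hzc)
      have hE : Nat.card ↑(zpowers z ⊔ zpowers a : Subgroup G) = 2 ^ 2 := by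
        rw [PGroups.card_sup_zpowers (p := 2) _ haz (ha2 ▸ one_mem _), Nat.card_zpowers, hz]
        norm_num
      have hEab : IsMulCommutative ↑(zpowers z ⊔ zpowers a : Subgroup G) :=
        IsPGroup.isMulCommutative_of_card_eq_prime_sq hE
      have hEc : ¬ IsCyclic ↑(zpowers z ⊔ zpowers a : Subgroup G) := fun h =>
        haz (PGroups.eq_of_sq_eq_one h (Subgroup.mem_sup_left (mem_zpowers z))
          (Subgroup.mem_sup_right (mem_zpowers a)) hz2 ha2 (fun h => by rw [h, orderOf_one] at hz; omega)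
          (fun h => haz (h ▸ one_mem _)) ▸ mem_zpowers z)
      exact PGroups.nilpotencyClass_of_self_centralizing n G hG _ hE (le_antisymm (hsc _ hEc) fun g hg =>
        Subgroup.mem_centralizer_iff.mpr fun k hk => PGroups.comm_of_isMulCommutative hEab hk hg)
    · push Not at hinv
      obtain ⟨k, c, y, hk, hcard, hy, hcase⟩ := PGroups.structure_of_normal_abelian_cyclic hGp hnc
        fun A _ hA => PGroups.isCyclic_of_small_omega (p := 2) hGp hA (zpowers z) (fun a _ ha => hinv a ha)
          (by rw [Nat.card_zpowers, hz])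
      have hnk : n = k + 1 := Nat.pow_right_injective le_rfl (hG.symm.trans hcard)
      have hzy : ∀ h : y ^ 2 = 1, 2 ≤ k → False := fun h2 hk2 => by
        have hy1 : y ≠ 1 := fun h => hy (h ▸ one_mem _)
        have hd : c ^ 2 ^ (k - 1) ≠ 1 := fun h => by
          have := orderOf_dvd_of_pow_eq_one h
          rw [hk, Nat.pow_dvd_pow_iff_le_right one_lt_two] at this
          omega
        have hd2 : (c ^ 2 ^ (k - 1)) ^ 2 = 1 := by
          rw [← pow_mul, ← pow_succ, Nat.sub_add_cancel (by omega), ← hk, pow_orderOf_eq_one]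
        exact hy (PGroups.eq_of_sq_eq_one (inferInstance : IsCyclic (zpowers z)) (hinv y h2) (hinv _ hd2)
          h2 hd2 hy1 hd ▸ pow_mem (mem_zpowers c) _)
      rcases hcase with ⟨h3, -, h2⟩ | ⟨h3, h1, h2⟩ | ⟨h3, -, h2⟩
      · exact (hzy h2 (by omega)).elim
      swap
      · exact (hzy h2 (by omega)).elim
      have hidx : (zpowers c).index = 2 := by
        have e := (zpowers c).card_mul_index
        rw [Nat.card_zpowers, hk, hcard, pow_succ] at e
        exact Nat.eq_of_mul_eq_mul_left (by positivity) e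
      refine PGroups.maxClass_of_index_commutator n G hn3 hG ?_
      have hzne : center G ≠ ⊤ := fun h => hna ⟨⟨fun a b => Subgroup.mem_center_iff.mp (h ▸ mem_top b) a⟩⟩
      have e1 := PGroups.card_commutator_mul_card_center hGp (M := zpowers c) inferInstance hidx hzne
      have hZ : center G ≤ zpowers z := fun g hg => by
        by_cases hgc : g ∈ zpowers c
        · obtain ⟨j, rfl⟩ := Subgroup.mem_zpowers_iff.mp hgc
          refine hinv _ ?_
          have e : y * c ^ j * y⁻¹ = c ^ j := by
            rw [Subgroup.mem_center_iff.mp hg y, mul_inv_cancel_right]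
          rw [← conj_zpow, h1, inv_zpow, inv_eq_iff_mul_eq_one] at e
          rw [sq]; exact e
        · exfalso
          have hyg : y⁻¹ * g ∈ zpowers c := (Subgroup.mul_mem_iff_of_index_two hidx).mpr (by simp [hy, hgc])
          obtain ⟨j, hj⟩ := Subgroup.mem_zpowers_iff.mp hyg
          have e : c * (y * c ^ j) = y * c ^ j * c := by
            rw [hj, mul_inv_cancel_left]; exact Subgroup.mem_center_iff.mp hg c
          have e2 : c * y = y * c := by
            have e5 : c * y * c ^ j = y * c * c ^ j := by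
              rw [mul_assoc c, e, mul_assoc y, mul_assoc y, (Commute.self_zpow c j).eq]
            exact mul_right_cancel e5
          have e3 : y * c * y⁻¹ = c := by rw [← e2, mul_inv_cancel_right]
          rw [h1, inv_eq_iff_mul_eq_one, ← sq] at e3
          have := orderOf_le_of_pow_eq_one two_pos e3
          rw [hk] at this
          have : 2 ^ 2 ≤ 2 ^ k := Nat.pow_le_pow_right two_pos h3
          omega
      have hZc : Nat.card (center G) = 2 := by
        refine le_antisymm ((Subgroup.card_le_of_le hZ).trans (by rw [Nat.card_zpowers, hz])) ?_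
        haveI : Nontrivial G := Finite.one_lt_card_iff_nontrivial.mp
          (hG ▸ Nat.one_lt_pow (by omega) one_lt_two)
        exact Nat.le_of_dvd Nat.card_pos (PGroups.dvd_card_of_ne_bot hGp hGp.bot_lt_center.ne')
      rw [hZc, Nat.card_zpowers, hk] at e1
      have e4 := (commutator G).card_mul_index
      rw [hcard, pow_succ, ← e1, mul_assoc (Nat.card (commutator G)) 2 2] at e4
      exact Nat.eq_of_mul_eq_mul_left Nat.card_pos e4
  · intro hc H hH x hx
    obtain ⟨c, y, hk, hy, hcase, -⟩ := PGroups.maxClass_two hn3 hG hc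
    obtain ⟨hZ, -, -⟩ := PGroups.card_center_of_maxClass hn3 hG hc
    have hidx : (zpowers c).index = 2 := by
      have h1 := (zpowers c).card_mul_index
      rw [Nat.card_zpowers, hk, hG] at h1
      nth_rw 2 [show n = (n - 1) + 1 by omega] at h1
      rw [pow_succ] at h1
      exact Nat.eq_of_mul_eq_mul_left (by positivity) h1
    haveI : (zpowers c).Normal := PGroups.normal_of_index_eq hGp hidx
    -- the action of `y` on `⟨c⟩`
    obtain ⟨r, hr, hr2⟩ : ∃ r : ℤ, y * c * y⁻¹ = c ^ r ∧ ∃ t : ℤ, r = -1 + (2 : ℤ) ^ (n - 2) * t ∧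
        (n = 3 → t = 0) := by
      rcases hcase with ⟨h1, -⟩ | ⟨h4, h1, -⟩
      · exact ⟨-1, by rw [h1, zpow_neg_one], 0, by ring, fun _ => rfl⟩
      · refine ⟨((2 ^ (n - 2) - 1 : ℕ) : ℤ), by rw [zpow_natCast]; exact h1, 1, ?_, fun h => absurd h (by omega)⟩
        rw [Nat.cast_sub Nat.one_le_two_pow]; push_cast; ring
    obtain ⟨t, rfl, ht⟩ := hr2
    -- an element of `⟨c⟩` commuting with `y` squares to `1`
    have hfix : ∀ j : ℤ, y * c ^ j * y⁻¹ = c ^ j → (c ^ j) ^ 2 = 1 := by
      intro j hj
      rw [← conj_zpow, hr, ← zpow_mul, PGroups.zpow_eq_zpow_iff_dvd hk] at hj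
      push_cast at hj
      rw [← zpow_natCast, ← zpow_mul, PGroups.zpow_eq_one_iff_dvd hk]
      push_cast
      obtain ⟨l, rfl⟩ : ∃ l, n = l + 3 := ⟨n - 3, by omega⟩
      rw [show l + 3 - 1 = l + 2 by omega] at hj ⊢
      rw [show l + 3 - 2 = l + 1 by omega] at hj
      rw [show j - (-1 + (2 : ℤ) ^ (l + 1) * t) * j = 2 * (j * (1 - 2 ^ l * t)) by ring, pow_succ',
        mul_dvd_mul_iff_left (by norm_num : (2 : ℤ) ≠ 0)] at hj
      rw [pow_succ', mul_comm j 2, mul_dvd_mul_iff_left (by norm_num : (2 : ℤ) ≠ 0)]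
      refine IsCoprime.dvd_of_dvd_mul_right (IsCoprime.pow_left ?_) hj
      rcases Nat.eq_zero_or_pos l with rfl | hl
      · rw [ht rfl]; exact ⟨0, 1, by ring⟩
      · obtain ⟨i, rfl⟩ : ∃ i, l = i + 1 := ⟨l - 1, by omega⟩
        exact ⟨2 ^ i * t, 1, by ring⟩
    obtain ⟨h, hhH, hhc⟩ : ∃ h ∈ H, h ∉ zpowers c := by
      by_contra hall
      push Not at hall
      exact hH (Subgroup.isCyclic_of_le (hall : H ≤ zpowers c))
    obtain ⟨i, hi⟩ := Subgroup.mem_zpowers_iff.mp
      (((Subgroup.mul_mem_iff_of_index_two hidx).mpr (by simp [hy, hhc])) : y⁻¹ * h ∈ zpowers c)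
    have hhi : h = y * c ^ i := by rw [hi, mul_inv_cancel_left]
    have hconj : ∀ j : ℤ, h * c ^ j * h⁻¹ = y * c ^ j * y⁻¹ := fun j => by rw [hhi]; group
    -- `H` meets `⟨c⟩` nontrivially
    obtain ⟨w, hwH, hwc, hw⟩ : ∃ w, w ∈ H ∧ w ∈ zpowers c ∧ orderOf w = 2 := by
      have hne : H ⊓ zpowers c ≠ ⊥ := by
        intro hbot
        apply hH
        have h1 := Subgroup.relIndex_dvd_index_of_normal (zpowers c) H
        rw [hidx, ← Subgroup.inf_relIndex_right, inf_comm, hbot, Subgroup.relIndex_bot_left] at h1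
        rcases (Nat.dvd_prime Nat.prime_two).mp h1 with h2 | h2
        · exact absurd (Subgroup.card_eq_one.mp h2) (fun e => hhc (Subgroup.mem_bot.mp (e ▸ hhH) ▸ one_mem _))
        · exact isCyclic_of_prime_card h2
      obtain ⟨w, hw, hwo⟩ := PGroups.exists_orderOf_eq hGp hne
      exact ⟨w, hw.1, hw.2, hwo⟩
    have hinH : ∀ g ∈ zpowers c, h * g = g * h → g ∈ H := by
      intro g hg hcomm
      obtain ⟨j, rfl⟩ := Subgroup.mem_zpowers_iff.mp hg
      have hg2 := hfix j (by rw [← hconj, hcomm, mul_inv_cancel_right])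
      by_cases hg1 : c ^ j = 1
      · rw [hg1]; exact one_mem _
      · rw [PGroups.eq_of_sq_eq_one (inferInstance : IsCyclic (zpowers c)) (zpow_mem_zpowers c j) hwc hg2
          (hw ▸ pow_orderOf_eq_one w) hg1 (fun e => by rw [e, orderOf_one] at hw; omega)]
        exact hwH
    have hxh : h * x = x * h := Subgroup.mem_centralizer_iff.mp hx h hhH
    by_cases hxc : x ∈ zpowers c
    · exact hinH x hxc hxh
    · have hmem : h⁻¹ * x ∈ zpowers c := (Subgroup.mul_mem_iff_of_index_two hidx).mpr (by simp [hhc, hxc])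
      have h1 := hinH _ hmem (by rw [mul_inv_cancel_left, mul_assoc, ← hxh, inv_mul_cancel_left])
      simpa using H.mul_mem hhH h1

end Cfsg.Agent.S3919
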