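import Cfsg.Statements.S3920


set_option autoImplicit false
open Cfsg

namespace Cfsg.Agent.S3920

/-- Say that a group has self-centralizing non-cyclic subgroups when every non-cyclic subgroup H satisfies C_G(H) ≤ H. For n ≥ 3, the dihedral group of order 2n has self-centralizing non-cyclic subgroups if and only if n is odd or a power of 2. -/
theorem result (n : ℕ) (hn : 3 ≤ n) : (∀ H : Subgroup (DihedralGroup n), ¬ IsCyclic ↥H → Subgroup.centralizer (H : Set (DihedralGroup n)) ≤ H) ↔ (Odd n ∨ ∃ k : ℕ, n = 2 ^ k) := by
  have : NeZero n := ⟨by omega⟩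
  constructor
  · intro hX
    rcases Nat.even_or_odd n with he | ho
    · right
      obtain ⟨e, m, hm, hnm⟩ := Nat.exists_eq_two_pow_mul_odd (by omega : n ≠ 0)
      by_contra hpow
      have hm1 : m ≠ 1 := fun h => hpow ⟨e, by rw [hnm, h, mul_one]⟩
      have he0 : e ≠ 0 := by
        rintro rfl
        rw [pow_zero, one_mul] at hnm
        exact Nat.not_even_iff_odd.mpr hm (hnm ▸ he)
      set φ := ZMod.castHom (⟨m, hnm⟩ : 2 ^ e ∣ n) (ZMod (2 ^ e))
      let H : Subgroup (DihedralGroup n) :=
        { carrier := {g | match g with | .r i => φ i = 0 | .sr i => φ i = 0}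
          one_mem' := map_zero φ
          mul_mem' := fun {a b} ha hb => by
            cases a <;> cases b <;>
              simp only [Set.mem_ofPred_eq, DihedralGroup.r_mul_r, DihedralGroup.r_mul_sr,
                DihedralGroup.sr_mul_r, DihedralGroup.sr_mul_sr] at ha hb ⊢ <;>
              simp [ha, hb]
          inv_mem' := fun {a} ha => by
            cases a <;>
              simp only [Set.mem_ofPred_eq, DihedralGroup.inv_r, DihedralGroup.inv_sr] at ha ⊢ <;>
              simp [ha] }
      have hr : DihedralGroup.r ((2 ^ e : ℕ) : ZMod n) ∈ H := by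
        show φ ((2 ^ e : ℕ) : ZMod n) = 0
        rw [map_natCast, ZMod.natCast_self]
      have hs : DihedralGroup.sr (0 : ZMod n) ∈ H := map_zero φ
      have h2e : 0 < 2 ^ e := Nat.two_pow_pos e
      have hm3 : 3 ≤ m := by obtain ⟨t, rfl⟩ := hm; omega
      have hnc : ¬ IsCyclic ↥H := by
        intro hc
        let _ := hc.commGroup
        have h := congrArg Subtype.val (mul_comm (⟨_, hr⟩ : ↥H) ⟨_, hs⟩)
        simp only [Subgroup.coe_mul, DihedralGroup.r_mul_sr, DihedralGroup.sr_mul_r,
          DihedralGroup.sr.injEq, zero_sub, zero_add, neg_eq_iff_add_eq_zero] at h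
        rw [← Nat.cast_add, ZMod.natCast_eq_zero_iff] at h
        have := Nat.le_of_dvd (by omega) h
        nlinarith
      obtain ⟨t, ht⟩ : ∃ t, e = t + 1 := ⟨e - 1, by omega⟩
      have hz : ((2 ^ t * m : ℕ) : ZMod n) + ((2 ^ t * m : ℕ) : ZMod n) = 0 := by
        rw [← Nat.cast_add, ← two_mul, ← mul_assoc, ← pow_succ', ← ht, ← hnm, ZMod.natCast_self]
      have hmem : DihedralGroup.r ((2 ^ t * m : ℕ) : ZMod n) ∈
          Subgroup.centralizer (H : Set (DihedralGroup n)) := by
        rw [Subgroup.mem_centralizer_iff]
        intro g _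
        cases g with
        | r j => simp [add_comm]
        | sr j =>
          simp only [DihedralGroup.r_mul_sr, DihedralGroup.sr_mul_r, DihedralGroup.sr.injEq]
          linear_combination hz
      have h0 : φ ((2 ^ t * m : ℕ) : ZMod n) = 0 := hX H hnc hmem
      rw [map_natCast, ZMod.natCast_eq_zero_iff, ht, pow_succ] at h0
      have := Nat.dvd_of_mul_dvd_mul_left (Nat.two_pow_pos t) h0
      exact Nat.not_even_iff_odd.mpr hm (even_iff_two_dvd.mpr this)
    · exact Or.inl ho
  · intro hn' H hnc g hg
    rw [Subgroup.mem_centralizer_iff] at hg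
    obtain ⟨i, hi⟩ : ∃ i, DihedralGroup.sr i ∈ H := by
      by_contra hno
      push Not at hno
      apply hnc
      have hle : H ≤ Subgroup.zpowers (DihedralGroup.r (1 : ZMod n)) := fun x hx => by
        cases x with
        | r j => exact ⟨(j.val : ℤ), by simp⟩
        | sr j => exact absurd hx (hno j)
      exact isCyclic_of_injective (Subgroup.inclusion hle) (Subgroup.inclusion_injective hle)
    obtain ⟨k, hk, hk0⟩ : ∃ k, DihedralGroup.r k ∈ H ∧ k ≠ 0 := by
      by_contra hno
      push Not at hno
      apply hnc
      have hle : H ≤ Subgroup.zpowers (DihedralGroup.sr i) := fun x hx => by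
        cases x with
        | r j => rw [hno j hx, DihedralGroup.r_zero]; exact one_mem _
        | sr j =>
          have h := hno _ (DihedralGroup.sr_mul_sr i j ▸ mul_mem hi hx)
          exact sub_eq_zero.mp h ▸ Subgroup.mem_zpowers _
      exact isCyclic_of_injective (Subgroup.inclusion hle) (Subgroup.inclusion_injective hle)
    have key : ∀ j : ZMod n, j + j = 0 → DihedralGroup.r j ∈ H := by
      intro j hj
      rcases eq_or_ne j 0 with rfl | hj0
      · exact one_mem H
      rcases hn' with ho | ⟨e, rfl⟩
      · exfalso
        apply hj0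
        have hu : IsUnit ((2 : ℕ) : ZMod n) :=
          (ZMod.isUnit_iff_coprime 2 n).mpr (Nat.coprime_two_left.mpr ho)
        exact hu.mul_right_eq_zero.mp (by rw [Nat.cast_two, two_mul]; exact hj)
      · -- `j` is the unique element of order `2` of the cyclic group of rotations
        set x := DihedralGroup.r k
        obtain ⟨a, -, hao⟩ := (Nat.dvd_prime_pow Nat.prime_two).mp
          (show orderOf x ∣ 2 ^ e by
            rw [DihedralGroup.orderOf_r]; exact Nat.div_dvd_of_dvd (Nat.gcd_dvd_left _ _))
        have ha0 : a ≠ 0 := by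
          rintro rfl
          rw [pow_zero, orderOf_eq_one_iff, DihedralGroup.one_def] at hao
          exact hk0 (DihedralGroup.r.inj hao)
        have h2 : orderOf (x ^ (orderOf x / 2)) = 2 :=
          orderOf_pow_orderOf_div (orderOf_pos x).ne' (hao ▸ dvd_pow_self 2 ha0)
        rw [DihedralGroup.r_pow] at h2
        have hhalf : ∀ c : ZMod (2 ^ e), c + c = 0 → c ≠ 0 → c.val * 2 = 2 ^ e := by
          intro c hc hc0
          have h1 : c = -c := eq_neg_of_add_eq_zero_left hc
          have h3 := congrArg ZMod.val h1
          rw [ZMod.neg_val, if_neg hc0] at h3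
          have := ZMod.val_lt c
          omega
        set c := k * ((orderOf x / 2 : ℕ) : ZMod (2 ^ e))
        have hc0 : c ≠ 0 := by
          intro h; rw [h, DihedralGroup.r_zero, orderOf_one] at h2; omega
        have hc : c + c = 0 := by
          have := h2 ▸ pow_orderOf_eq_one (DihedralGroup.r c)
          rw [DihedralGroup.r_pow, DihedralGroup.one_def] at this
          have := DihedralGroup.r.inj this
          linear_combination this
        have hjc : j = c := ZMod.val_injective _ (by
          have := hhalf j hj hj0
          have := hhalf c hc hc0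
          omega)
        rw [hjc, ← DihedralGroup.r_pow]
        exact pow_mem hk _
    cases g with
    | r j =>
      refine key j ?_
      have h := hg _ hi
      simp only [DihedralGroup.r_mul_sr, DihedralGroup.sr_mul_r, DihedralGroup.sr.injEq] at h
      linear_combination h
    | sr j =>
      have h := hg _ hi
      simp only [DihedralGroup.sr_mul_sr, DihedralGroup.r.injEq] at h
      have hd : DihedralGroup.r (j - i) ∈ H := key _ (by linear_combination h)
      have := mul_mem hi hd
      rwa [DihedralGroup.sr_mul_r, add_sub_cancel] at this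

end Cfsg.Agent.S3920
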