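import Cfsg.Statements.S3933
import Cfsg.Agent.S0144
import Mathlib.GroupTheory.Sylow
import Mathlib.GroupTheory.Solvable
import Mathlib.Algebra.IsPrimePow

set_option autoImplicit false
set_option linter.unusedSectionVars false
set_option linter.style.haveILetI false
open Cfsg

namespace Cfsg.Agent.S3933

open Subgroup

/-- The hypothesis: every Sylow number is `1` or a prime power. -/
def SylowNumbersPP (G : Type*) [Group G] : Prop :=
  ∀ (r : ℕ) [Fact r.Prime], Nat.card (Sylow r G) = 1 ∨ IsPrimePow (Nat.card (Sylow r G))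

theorem pp_of_dvd {a b : ℕ} (h : a = 1 ∨ IsPrimePow a) (hb : b ∣ a) : b = 1 ∨ IsPrimePow b := by
  rcases eq_or_ne b 1 with h1 | h1
  · exact Or.inl h1
  · rcases h with rfl | h
    · exact Or.inl (Nat.dvd_one.mp hb)
    · exact Or.inr (h.dvd hb h1)

variable {G : Type*} [Group G] [Finite G]

theorem relIndex_normal_eq_index (M N : Subgroup G) [N.Normal] (h : M ⊔ N = ⊤) :
    M.relIndex N = M.index := by
  have hcard : Nat.card ↥(M ⊓ N : Subgroup G) * N.relIndex M = Nat.card ↥M := by
    rw [← inf_relIndex_right N, inf_comm N, ← relIndex_bot_left, ← relIndex_bot_left (H := M),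
      relIndex_mul_relIndex _ _ _ bot_le inf_le_left]
  have hcard2 : Nat.card ↥(M ⊓ N : Subgroup G) * M.relIndex N = Nat.card ↥N := by
    rw [← inf_relIndex_right M, ← relIndex_bot_left, ← relIndex_bot_left (H := N),
      relIndex_mul_relIndex _ _ _ bot_le inf_le_right]
  have hN : Nat.card ↥N * N.relIndex M = Nat.card G := by
    rw [← relIndex_sup_right, h, relIndex_top_right, card_mul_index]
  have := M.card_mul_index
  rw [← hcard, ← hN, ← hcard2] at this
  have h0 : 0 < Nat.card ↥(M ⊓ N : Subgroup G) * N.relIndex M := by rw [hcard]; exact Nat.card_pos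
  nlinarith

theorem card_sylow_quotient_dvd (N : Subgroup G) [N.Normal] (r : ℕ) [Fact r.Prime] :
    Nat.card (Sylow r (G ⧸ N)) ∣ Nat.card (Sylow r G) := by
  set P : Sylow r G := default
  have hπ := QuotientGroup.mk'_surjective N
  set P' := P.mapSurjective hπ
  rw [P.card_eq_index_normalizer, P'.card_eq_index_normalizer]
  have h : (normalizer ((P : Subgroup G) : Set G)).map (QuotientGroup.mk' N) ≤
      normalizer ((P' : Subgroup (G ⧸ N)) : Set (G ⧸ N)) := by
    rw [Sylow.coe_mapSurjective]
    exact le_normalizer_map _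
  exact (index_dvd_of_le h).trans (index_map_dvd _ hπ)

theorem card_sylow_normal_dvd (N : Subgroup G) [N.Normal] (r : ℕ) [Fact r.Prime] :
    Nat.card (Sylow r ↥N) ∣ Nat.card (Sylow r G) := by
  set R : Sylow r ↥N := default
  obtain ⟨S, hS⟩ := (R.isPGroup'.map N.subtype).exists_le_sylow
  have hRS : (R : Subgroup ↥N).map N.subtype = (S : Subgroup G) ⊓ N := by
    refine le_antisymm (le_inf hS (map_subtype_le _)) ?_
    have h1 : IsPGroup r ↥(((S : Subgroup G) ⊓ N).subgroupOf N) :=
      (S.isPGroup'.to_le inf_le_left).comap_subtype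
    have h2 : ((S : Subgroup G) ⊓ N).subgroupOf N = R :=
      R.is_maximal' h1 fun x hx => ⟨hS ⟨x, hx, rfl⟩, x.2⟩
    rw [← h2, subgroupOf_map_subtype]
    exact le_inf le_rfl inf_le_right
  rw [R.card_eq_index_normalizer, S.card_eq_index_normalizer]
  have hsup := Sylow.normalizer_sup_eq_top R
  set M := normalizer (((R : Subgroup ↥N).map N.subtype : Subgroup G) : Set G) with hM
  have h1 : M.subgroupOf N ≤ normalizer ((R : Subgroup ↥N) : Set ↥N) := by
    intro x hx
    rw [mem_normalizer_iff]
    intro y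
    have := (mem_normalizer_iff.mp (show (x : G) ∈ M from hx) (y : G))
    simp only [Subgroup.mem_map, Subgroup.coe_subtype] at this
    constructor
    · intro hy
      obtain ⟨z, hz, hzy⟩ := this.mp ⟨y, hy, rfl⟩
      rwa [show x * y * x⁻¹ = z from Subtype.ext (by simpa using hzy.symm)]
    · intro hy
      obtain ⟨z, hz, hzy⟩ := this.mpr ⟨x * y * x⁻¹, hy, by simp⟩
      rwa [show y = z from Subtype.ext hzy.symm]
  refine (index_dvd_of_le h1).trans ?_
  rw [show (M.subgroupOf N).index = M.relIndex N from rfl, relIndex_normal_eq_index M N hsup]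
  refine index_dvd_of_le ?_
  intro x hx
  rw [hM, hRS, mem_normalizer_iff]
  intro y
  simp only [mem_inf]
  exact and_congr (mem_normalizer_iff.mp hx y)
    ⟨fun h => (inferInstance : N.Normal).conj_mem y h x, fun h => by
      simpa [mul_assoc] using (inferInstance : N.Normal).conj_mem _ h x⁻¹⟩

theorem exists_mul_of_coprime_index (A B : Subgroup G) (h : A.index.Coprime B.index) (g : G) :
    ∃ a ∈ A, ∃ b ∈ B, g = a * b := by
  have h1 : B.index ∣ B.relIndex A := by
    have e1 : (A ⊓ B).index = B.relIndex A * A.index := by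
      rw [← relIndex_mul_index (inf_le_left : A ⊓ B ≤ A), inf_comm, inf_relIndex_right]
    exact h.symm.dvd_of_dvd_mul_right (e1 ▸ index_dvd_of_le (inf_le_right : A ⊓ B ≤ B))
  let f : ↥A ⧸ B.subgroupOf A → G ⧸ B := Quotient.map' (fun a : ↥A => (a : G)) (by
    intro a b hab
    rw [QuotientGroup.leftRel_apply] at hab ⊢
    exact hab)
  have hf : Function.Injective f := by
    intro x y
    refine Quotient.inductionOn₂' x y fun a b hab => ?_
    apply Quotient.sound'
    rw [QuotientGroup.leftRel_apply]
    have := Quotient.exact' hab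
    rwa [QuotientGroup.leftRel_apply] at this
  have hbij : Function.Bijective f :=
    hf.bijective_of_nat_card_le (by
      rw [← index_eq_card, ← index_eq_card]
      exact Nat.le_of_dvd (Nat.pos_of_ne_zero index_ne_zero_of_finite) h1)
  obtain ⟨x, hx⟩ := hbij.2 (QuotientGroup.mk g)
  obtain ⟨a, rfl⟩ := Quotient.mk''_surjective x
  have hx' : (a : G)⁻¹ * g ∈ B := QuotientGroup.eq.mp hx
  exact ⟨a, a.2, _, hx', by group⟩

theorem no_pair [IsSimpleGroup G] {s q : ℕ} [Fact s.Prime] [Fact q.Prime] {fs fq : ℕ}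
    (hfs : fs.Prime) (hfq : fq.Prime) (hne : fs ≠ fq) (hsq : fs ≠ q) (hqG : q ∣ Nat.card G)
    {ks kq : ℕ} (hks : ks ≠ 0) (hs : Nat.card (Sylow s G) = fs ^ ks)
    (hq : Nat.card (Sylow q G) = fq ^ kq) : False := by
  set S : Sylow s G := default
  rw [S.card_eq_index_normalizer] at hs
  set NS := normalizer ((S : Subgroup G) : Set G) with hNS
  replace hs : NS.index = fs ^ ks := hs
  have hnd : ¬ q ∣ NS.index := by
    rw [hs]
    intro hd
    exact hsq ((Nat.prime_dvd_prime_iff_eq Fact.out hfs).mp ((Fact.out : q.Prime).dvd_of_dvd_pow hd)).symm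
  have hd : q ^ (Nat.card G).factorization q ∣ Nat.card ↥NS := by
    have := Nat.ordProj_dvd (Nat.card G) q
    rw [← NS.card_mul_index] at this
    refine (Nat.Coprime.dvd_mul_right ?_).mp (by rwa [NS.card_mul_index] at this ⊢)
    exact (((Fact.out : q.Prime).coprime_iff_not_dvd).mpr hnd).pow_left _
  obtain ⟨Q0, hQ0⟩ := Sylow.exists_subgroup_card_pow_prime q hd
  set Q : Subgroup G := Q0.map NS.subtype
  have hQ : Nat.card ↥Q = q ^ (Nat.card G).factorization q := by
    rw [Subgroup.card_map_of_injective NS.subtype_injective, hQ0]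
  set QS := Sylow.ofCard Q hQ
  rw [QS.card_eq_index_normalizer] at hq
  replace hq : (normalizer (Q : Set G)).index = fq ^ kq := hq
  have hle : normalClosure (Q : Set G) ≤ NS := by
    apply (closure_le _).mpr
    intro x hx
    obtain ⟨z, hz, hzx⟩ := Group.mem_conjugatesOfSet_iff.mp hx
    obtain ⟨g, rfl⟩ := isConj_iff.mp hzx
    obtain ⟨a, ha, b, hb, rfl⟩ := exists_mul_of_coprime_index NS (normalizer (Q : Set G))
      (by rw [hs, hq]; exact Nat.Coprime.pow _ _ ((Nat.coprime_primes hfs hfq).mpr hne)) g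
    rw [SetLike.mem_coe, show a * b * z * (a * b)⁻¹ = a * (b * z * b⁻¹) * a⁻¹ from by group]
    exact mul_mem (mul_mem ha (map_subtype_le Q0 ((mem_normalizer_iff.mp hb z).mp hz))) (inv_mem ha)
  rcases (normalClosure_normal (s := (Q : Set G))).eq_bot_or_eq_top with h | h
  · have h1 : Q = ⊥ := le_bot_iff.mp (h ▸ le_normalClosure)
    rw [h1, card_bot] at hQ
    have := (Fact.out : q.Prime).factorization_pos_of_dvd Nat.card_pos.ne' hqG
    exact absurd hQ.symm (Nat.one_lt_pow this.ne' (Fact.out : q.Prime).one_lt).ne'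
  · rw [h, top_le_iff] at hle
    rw [hle, index_top] at hs
    exact (Nat.one_lt_pow hks hfs.one_lt).ne hs

theorem simple_case [IsSimpleGroup G]
    (pq : ∀ p q a b : ℕ, p.Prime → q.Prime → Nat.card G = p ^ a * q ^ b → Group.IsSolvable G)
    (h : SylowNumbersPP G) : Group.IsSolvable G := by
  classical
  by_cases hn : ∃ (r : ℕ) (_ : Fact r.Prime), r ∣ Nat.card G ∧ Nat.card (Sylow r G) = 1
  · obtain ⟨r, hr, hrd, h1⟩ := hn
    haveI : Subsingleton (Sylow r G) := (Nat.card_eq_one_iff_unique.mp h1).1
    set P : Sylow r G := default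
    haveI hP : (P : Subgroup G).Normal := by
      rw [← normalizer_eq_top_iff, ← index_eq_one]
      exact P.card_eq_index_normalizer.symm.trans h1
    have : (P : Subgroup G) = ⊤ := hP.eq_bot_or_eq_top.resolve_left (P.ne_bot_of_dvd_card hrd)
    have hG : IsPGroup r G := (this ▸ P.isPGroup' : IsPGroup r ↥(⊤ : Subgroup G)).of_equiv topEquiv
    haveI := hG.isNilpotent
    infer_instance
  have hf : ∀ r ∈ (Nat.card G).primeFactors, ∃ f k : ℕ, f.Prime ∧ k ≠ 0 ∧ f ≠ r ∧
      f ∈ (Nat.card G).primeFactors ∧ ∀ [Fact r.Prime], Nat.card (Sylow r G) = f ^ k := by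
    intro r hr
    haveI := Fact.mk (Nat.prime_of_mem_primeFactors hr)
    have h1 : Nat.card (Sylow r G) ≠ 1 := fun h1 =>
      hn ⟨r, inferInstance, Nat.dvd_of_mem_primeFactors hr, h1⟩
    obtain ⟨f, k, hf, hk, he⟩ := (isPrimePow_nat_iff _).mp ((h r).resolve_left h1)
    refine ⟨f, k, hf, hk.ne', ?_, Nat.mem_primeFactors.mpr ⟨hf, ?_, Nat.card_pos.ne'⟩, fun {_} => he.symm⟩
    · rintro rfl
      have := not_dvd_card_sylow f G
      exact this (he ▸ dvd_pow_self f hk.ne')
    · refine (he ▸ dvd_pow_self f hk.ne').trans ?_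
      rw [(default : Sylow r G).card_eq_index_normalizer]
      exact index_dvd_card _
  choose! f k hfp hk0 hfne hfmem hcard using hf
  by_cases h3 : 2 < (Nat.card G).primeFactors.card
  · exfalso
    have key : ∀ s ∈ (Nat.card G).primeFactors, ∀ q ∈ (Nat.card G).primeFactors,
        f s ≠ f q → f s = q := by
      intro s hs q hq hne
      by_contra hsq
      haveI := Fact.mk (Nat.prime_of_mem_primeFactors hs)
      haveI := Fact.mk (Nat.prime_of_mem_primeFactors hq)
      exact no_pair (hfp s hs) (hfp q hq) hne hsq (Nat.dvd_of_mem_primeFactors hq) (hk0 s hs)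
        (hcard s hs) (hcard q hq)
    obtain ⟨s, hs⟩ := Finset.card_pos.mp (by omega : 0 < (Nat.card G).primeFactors.card)
    have hfs := hfmem s hs
    obtain ⟨w, hw, hws, hwf⟩ : ∃ w ∈ (Nat.card G).primeFactors, w ≠ s ∧ w ≠ f s := by
      by_contra hno
      push Not at hno
      have : (Nat.card G).primeFactors ⊆ {s, f s} := fun w hw => by
        rw [Finset.mem_insert, Finset.mem_singleton]
        exact (em (w = s)).imp id (hno w hw)
      have := (Finset.card_le_card this).trans Finset.card_le_two
      omega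
    have e : f (f s) ≠ f s := fun e => hfne (f s) hfs e
    have e2 := key (f s) hfs s hs e
    rcases eq_or_ne (f w) (f s) with hw' | hw'
    · have h4 := key w hw (f s) hfs (hw' ▸ e.symm)
      have h5 := key (f s) hfs w hw (by rw [hw']; exact e)
      exact hws (h5.symm.trans e2)
    · exact hwf (key s hs w hw hw'.symm).symm
  · set T := (Nat.card G).primeFactors with hT
    have hprod := Nat.prod_factorization_pow_eq_self (n := Nat.card G) Nat.card_pos.ne'
    rcases (show T.card = 0 ∨ T.card = 1 ∨ T.card = 2 by omega) with h0 | h1 | h2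
    · have hG : Nat.card G = 1 := by
        rcases Nat.primeFactors_eq_empty.mp (Finset.card_eq_zero.mp h0) with h | h
        · exact absurd h Nat.card_pos.ne'
        · exact h
      exact pq 2 2 0 0 Nat.prime_two Nat.prime_two (by simp [hG])
    · obtain ⟨r, hr⟩ := Finset.card_eq_one.mp h1
      obtain ⟨j, hj⟩ : ∃ j, Nat.card G = r ^ j := ⟨_, Nat.eq_prime_pow_of_unique_prime_dvd
        Nat.card_pos.ne' fun hd hdv => by
          have : _ ∈ T := Nat.mem_primeFactors.mpr ⟨hd, hdv, Nat.card_pos.ne'⟩
          rwa [hr, Finset.mem_singleton] at this⟩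
      have hr' : r.Prime := Nat.prime_of_mem_primeFactors (show r ∈ T by simp [hr])
      exact pq r r j 0 hr' hr' (by simp [hj])
    · obtain ⟨r, s, hrs, hT2⟩ := Finset.card_eq_two.mp h2
      have hr' : r.Prime := Nat.prime_of_mem_primeFactors (show r ∈ T by simp [hT2])
      have hs' : s.Prime := Nat.prime_of_mem_primeFactors (show s ∈ T by simp [hT2])
      refine pq r s ((Nat.card G).factorization r) ((Nat.card G).factorization s) hr' hs' (hprod.symm.trans ?_)
      rw [Finsupp.prod, Nat.support_factorization, ← hT, hT2, Finset.prod_pair hrs]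

universe u

theorem isSolvable_of_pp
    (pq : ∀ (H : Type u) [Group H] [Finite H] (p q a b : ℕ), p.Prime → q.Prime →
      Nat.card H = p ^ a * q ^ b → Group.IsSolvable H)
    (n : ℕ) : ∀ (H : Type u) [Group H] [Finite H], Nat.card H ≤ n → SylowNumbersPP H →
      Group.IsSolvable H := by
  induction n with
  | zero => intro H _ _ hn _; exact absurd hn (by have := Nat.card_pos (α := H); omega)
  | succ n ih =>
    intro H _ _ hn h
    by_cases hN : ∃ N : Subgroup H, N.Normal ∧ N ≠ ⊥ ∧ N ≠ ⊤
    · obtain ⟨N, hNn, hb, ht⟩ := hN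
      have h1 := N.one_lt_card_iff_ne_bot.mpr hb
      have h2 := one_lt_index_of_ne_top ht
      have h3 := N.card_mul_index
      refine (Group.isSolvable_iff_subgroup_quotient N).mpr ⟨ih ↥N (by nlinarith) ?_, ih (H ⧸ N)
        (by rw [← index_eq_card]; nlinarith) ?_⟩
      · intro r _
        exact pp_of_dvd (h r) (card_sylow_normal_dvd N r)
      · intro r _
        exact pp_of_dvd (h r) (card_sylow_quotient_dvd N r)
    · rcases subsingleton_or_nontrivial H with hs | hs
      · infer_instance
      push Not at hN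
      haveI : IsSimpleGroup H :=
        ⟨fun N hNn => or_iff_not_imp_left.mpr fun hb => hN N hNn hb⟩
      exact simple_case (pq H) h

/-- If for every prime r the number of Sylow r-subgroups of the finite group G is a prime power or 1, then G is solvable. -/
theorem result {G : Type*} [Group G] [Finite G] (h : ∀ (r : ℕ) [Fact r.Prime], Nat.card (Sylow r G) = 1 ∨ IsPrimePow (Nat.card (Sylow r G))) :
    Group.IsSolvable G := by
  exact isSolvable_of_pp (fun H _ _ p q a b hp hq hc => Cfsg.Agent.S0144.result (G := H) p q a b hp hq hc) _ G le_rfl h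

end Cfsg.Agent.S3933
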