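import Cfsg.Statements.S3937
import Cfsg.Agent.H78.Zipper
import Cfsg.Agent.Components.Fitting

set_option autoImplicit false
open Cfsg

namespace Cfsg.Agent.S3937

open Subgroup in
/-- a left Engel element generates a subnormal subgroup -/
theorem engel_isSubnormal (n : ℕ) : ∀ {G : Type*} [Group G] [Finite G], Nat.card G = n → ∀ g : G,
    (∀ x : G, ∃ k : ℕ, (fun a => a * g * a⁻¹ * g⁻¹)^[k] x = 1) → (zpowers g).IsSubnormal := by
  induction n using Nat.strong_induction_on with
  | _ n ih =>
    intro G _ _ hn g h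
    by_contra hS
    have hsub : ∀ H : Subgroup G, zpowers g ≤ H → H ≠ ⊤ → ((zpowers g).subgroupOf H).IsSubnormal := by
      intro H hgH hH
      have hmem : g ∈ H := hgH (mem_zpowers g)
      have hlt : Nat.card H < n := hn ▸ lt_of_le_of_ne (card_le_card_group H)
        fun he => hH (eq_top_of_card_eq H he)
      have := ih _ hlt (G := ↥H) rfl ⟨g, hmem⟩ (fun x => by
        obtain ⟨k, hk⟩ := h x
        refine ⟨k, Subtype.ext ?_⟩
        rw [← Function.Semiconj.iterate_right (f := (Subtype.val : ↥H → G))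
          (ga := fun a : ↥H => a * ⟨g, hmem⟩ * a⁻¹ * ⟨g, hmem⟩⁻¹)
          (gb := fun a : G => a * g * a⁻¹ * g⁻¹) (fun a => rfl) k x] at hk
        exact hk)
      convert this
      ext ⟨y, hy⟩
      simp only [mem_subgroupOf, mem_zpowers_iff]
      exact ⟨fun ⟨k, hk⟩ => ⟨k, Subtype.ext (by simpa using hk)⟩,
        fun ⟨k, hk⟩ => ⟨k, by simpa using congrArg Subtype.val hk⟩⟩
    obtain ⟨M, hM, hgM, huniq⟩ := H78.zipper hS hsub
    have hMn : ¬ M.Normal := fun hn' => hS (IsSubnormal.trans hgM (hsub M hgM hM.1) hn'.isSubnormal)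
    have hNM : normalizer (M : Set G) = M := by
      refine ((hM.le_iff).mp le_normalizer).resolve_left fun hN => hMn ?_
      exact normalizer_eq_top_iff.mp hN
    apply hM.1
    rw [eq_top_iff]
    intro x _
    obtain ⟨k, hk⟩ := h x
    induction k generalizing x with
    | zero =>
      have hx : x = 1 := hk
      exact hx ▸ one_mem M
    | succ k ihk =>
      rw [Function.iterate_succ_apply] at hk
      have h1 := mul_mem (ihk trivial hk) (hgM (mem_zpowers g))
      rw [inv_mul_cancel_right] at h1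
      set K : Subgroup G := M.comap (MulAut.conj x).toMonoidHom with hK
      have hKco : IsCoatom K := ((MulEquiv.comapSubgroup (MulAut.conj x)).isCoatom_iff M).mpr hM
      have hgK : zpowers g ≤ K := zpowers_le.mpr h1
      have hKM : K = M := huniq K hKco hgK
      rw [← hNM, mem_normalizer_iff]
      intro y
      conv_lhs => rw [← hKM]
      rfl

theorem engel_mem_fitting {G : Type*} [Group G] [Finite G] (g : G)
    (h : ∀ x : G, ∃ k : ℕ, (fun a => a * g * a⁻¹ * g⁻¹)^[k] x = 1) : g ∈ Cfsg.fittingSubgroup G :=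
  Components.subnormal_nilpotent_le_fitting (engel_isSubnormal _ rfl g h)
    (@CommGroup.isNilpotent _ IsCyclic.commGroup)
    (Subgroup.mem_zpowers g)

/-- Baer's characterization of the Fitting subgroup: in a finite group G, an element g lies in the Fitting subgroup if and only if g is a left Engel element, that is, for every x there is n with [x, g, g, …, g] = 1 (n entries g, [a, b] = aba⁻¹b⁻¹). -/
theorem result {G : Type*} [Group G] [Finite G] (g : G) :
    g ∈ Cfsg.fittingSubgroup G ↔ ∀ x : G, ∃ n : ℕ, (List.replicate n g).foldl (fun a b => a * b * a⁻¹ * b⁻¹) x = 1 := by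
  have hit : ∀ (x : G) (n : ℕ), (List.replicate n g).foldl (fun a b => a * b * a⁻¹ * b⁻¹) x
      = (fun a => a * g * a⁻¹ * g⁻¹)^[n] x := by
    intro x n
    induction n generalizing x with
    | zero => rfl
    | succ n ih => rw [List.replicate_succ, List.foldl_cons, ih, Function.iterate_succ_apply]
  simp only [hit]
  refine ⟨fun hg x => ?_, fun h => engel_mem_fitting g h⟩
  set F : Subgroup G := Cfsg.fittingSubgroup G
  have hlcs : ∀ i, ∃ y : F, y ∈ Subgroup.lowerCentralSeries ⊤ i ∧
      ((fun a => a * g * a⁻¹ * g⁻¹)^[i + 1] x) = (y : G) := by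
    intro i
    induction i with
    | zero =>
      refine ⟨⟨x * g * x⁻¹ * g⁻¹, mul_mem ?_ (inv_mem hg)⟩, by simp, rfl⟩
      exact (inferInstance : F.Normal).conj_mem g hg x
    | succ i ih =>
      obtain ⟨y, hy, hyx⟩ := ih
      refine ⟨y * ⟨g, hg⟩ * y⁻¹ * ⟨g, hg⟩⁻¹, ?_, ?_⟩
      · rw [← commutatorElement_def, Subgroup.lowerCentralSeries_succ]
        exact Subgroup.commutator_mem_commutator hy (Subgroup.mem_top _)
      · rw [Function.iterate_succ_apply', hyx]
        rfl
  obtain ⟨n, hn⟩ := Subgroup.nilpotent_iff_lowerCentralSeries.mp (inferInstance : Group.IsNilpotent F)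
  obtain ⟨y, hy, hyx⟩ := hlcs n
  refine ⟨n + 1, ?_⟩
  rw [hn, Subgroup.mem_bot] at hy
  rw [hyx, hy, Subgroup.coe_one]

end Cfsg.Agent.S3937
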