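import Cfsg.Statements.S3939
import Cfsg.Agent.Thompson.BaerSuzuki
import Cfsg.Agent.H25.Transfer
import Cfsg.Agent.Components.Fitting

set_option autoImplicit false
open Cfsg

namespace Cfsg.Agent.S3939

open Subgroup
open scoped commutatorElement

variable {G : Type*} [Group G] [Finite G]

/-- a `p`-element all of whose pairs generate nilpotent subgroups is hypercentral -/
theorem hyper_of_pElem {p : ℕ} [Fact p.Prime] (g : G) (hgp : ∃ k, orderOf g = p ^ k)
    (h : ∀ x : G, Group.IsNilpotent ↥(closure ({x, g} : Set G))) :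
    g ∈ ⨆ n : ℕ, Subgroup.upperCentralSeries G n := by
  have hcop : ∀ x : G, (orderOf x).Coprime p → g * x = x * g := by
    intro x hx
    have := h x
    obtain ⟨k, hk⟩ := hgp
    have hc := H25.commute_of_coprime_orderOf (G := ↥(closure ({x, g} : Set G)))
      ⟨g, subset_closure (by simp)⟩ ⟨x, subset_closure (by simp)⟩ (by
        rw [Subgroup.orderOf_mk, Subgroup.orderOf_mk, hk]
        exact Nat.Coprime.pow_left k hx.symm)
    exact congrArg Subtype.val hc
  obtain ⟨N, hNn, hNp, hgN⟩ := Thompson.baer_suzuki (p := p) (x := g) (fun x => by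
    set K := closure ({x, g} : Set G) with hK
    have := h x
    have hgK : g ∈ K := subset_closure (by simp)
    have hxK : x ∈ K := subset_closure (by simp)
    obtain ⟨P⟩ : Nonempty (Sylow p K) := inferInstance
    have hin : ∀ u : K, (∃ k, orderOf u = p ^ k) → u ∈ (P : Subgroup K) := by
      rintro u ⟨k, hk⟩
      obtain ⟨Q, hQ⟩ := (IsPGroup.of_card (G := ↥(zpowers u)) (p := p) (n := k)
        (by rw [Nat.card_zpowers, hk])).exists_le_sylow
      have hn : (P : Subgroup K).Normal := inferInstance
      have := Sylow.unique_of_normal P hn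
      exact Subsingleton.elim Q P ▸ hQ (mem_zpowers u)
    refine (P.isPGroup'.map K.subtype).to_le ((closure_le _).mpr ?_)
    rintro y (rfl | rfl)
    · exact ⟨⟨y, hgK⟩, hin _ (by simpa using hgp), rfl⟩
    · refine ⟨⟨x * g * x⁻¹, mul_mem (mul_mem hxK hgK) (inv_mem hxK)⟩, hin _ ?_, rfl⟩
      rw [Subgroup.orderOf_mk]
      have : x * g * x⁻¹ = MulAut.conj x g := rfl
      rwa [this, MulEquiv.orderOf_eq])
  obtain ⟨P, hP⟩ := hNp.exists_le_sylow
  have hstep : ∀ i, ∀ w ∈ N, (∀ x : G, (orderOf x).Coprime p → w * x = x * w) →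
      ∀ hw : w ∈ (P : Subgroup G), (⟨w, hw⟩ : ↥(P : Subgroup G)) ∈ Subgroup.upperCentralSeries ↥(P : Subgroup G) i →
      w ∈ Subgroup.upperCentralSeries G i := by
    intro i
    induction i with
    | zero =>
      intro w _ _ hw h0
      rw [Subgroup.upperCentralSeries_zero, mem_bot] at h0 ⊢
      exact congrArg Subtype.val h0
    | succ i ih =>
      intro w hwN hwc hw hmem
      set S : Subgroup G := (centralizer ({QuotientGroup.mk' (Subgroup.upperCentralSeries G i) w} :
        Set (G ⧸ Subgroup.upperCentralSeries G i))).comap (QuotientGroup.mk' _) with hS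
      have hSiff : ∀ y : G, y ∈ S ↔ ⁅w, y⁆ ∈ Subgroup.upperCentralSeries G i := fun y => by
        rw [hS, mem_comap, mem_centralizer_singleton_iff,
          ← QuotientGroup.eq_one_iff (N := Subgroup.upperCentralSeries G i), ← QuotientGroup.mk'_apply,
          map_commutatorElement, commutatorElement_eq_one_iff_mul_comm]
        exact eq_comm
      have hcompS : ∀ y : G, (orderOf y).Coprime p → y ∈ S := fun y hy => by
        rw [hSiff, commutatorElement_eq_one_iff_mul_comm.mpr (hwc y hy)]
        exact one_mem _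
      have hPS : (P : Subgroup G) ≤ S := fun y hy => by
        rw [hSiff]
        have hwyN : ⁅w, y⁆ ∈ N := by
          rw [commutatorElement_def, mul_assoc, mul_assoc, ← mul_assoc y]
          exact mul_mem hwN (hNn.conj_mem _ (inv_mem hwN) y)
        refine ih _ hwyN (fun x hx => ?_) (hP hwyN) (hmem ⟨y, hy⟩)
        have h1 : Commute w x := hwc x hx
        have h2 : Commute (y * w⁻¹ * y⁻¹) x := by
          have hord : (orderOf (y⁻¹ * x * y)).Coprime p := by
            have : y⁻¹ * x * y = MulAut.conj y⁻¹ x := by simp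
            rwa [this, MulEquiv.orderOf_eq]
          have h3 := (Commute.inv_left (show Commute w (y⁻¹ * x * y) from hwc _ hord)).map
            (MulAut.conj y).toMonoidHom
          simpa [mul_assoc] using h3
        rw [show ⁅w, y⁆ = w * (y * w⁻¹ * y⁻¹) by rw [commutatorElement_def]; group]
        exact (h1.mul_left h2).eq
      have hST : S = ⊤ := Components.eq_top_of_forall_sylow S fun q _ => by
        rcases eq_or_ne q p with rfl | hqp
        · exact ⟨P, hPS⟩
        obtain ⟨Q⟩ : Nonempty (Sylow q G) := inferInstance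
        refine ⟨Q, fun y hy => hcompS y ?_⟩
        obtain ⟨k, hk⟩ := IsPGroup.iff_orderOf.mp Q.isPGroup' ⟨y, hy⟩
        rw [Subgroup.orderOf_mk] at hk
        exact hk ▸ Nat.Coprime.pow_left k ((Nat.coprime_primes Fact.out Fact.out).mpr hqp)
      intro y
      exact (hSiff y).mp (hST ▸ mem_top y)
  have := P.isPGroup'.isNilpotent
  obtain ⟨⟨n, hn⟩⟩ := this
  exact mem_iSup_of_mem n (hstep n g hgN hcop (hP hgN) (hn ▸ mem_top _))

theorem hyper_of_nilpotent_pairs (g : G)
    (h : ∀ x : G, Group.IsNilpotent ↥(closure ({x, g} : Set G))) :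
    g ∈ ⨆ n : ℕ, Subgroup.upperCentralSeries G n := by
  obtain ⟨N, hN⟩ : ∃ N, (⨆ n : ℕ, Subgroup.upperCentralSeries G n) = Subgroup.upperCentralSeries G N :=
    ⟨_, WellFoundedGT.iSup_eq_monotonicSequenceLimit ⟨_, Subgroup.upperCentralSeries_mono G⟩⟩
  rw [hN, ← QuotientGroup.eq_one_iff (N := Subgroup.upperCentralSeries G N), ← orderOf_eq_one_iff]
  by_contra hne
  obtain ⟨p, hp, hpd⟩ := Nat.exists_prime_and_dvd hne
  have := Fact.mk hp
  set d := orderOf g / p ^ (orderOf g).factorization p
  have hd : g ^ d ∈ Subgroup.upperCentralSeries G N := by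
    rw [← hN]
    refine hyper_of_pElem (p := p) _ ⟨_, orderOf_pow_orderOf_div (orderOf_pos g).ne'
      (Nat.ordProj_dvd _ _)⟩ fun x => ?_
    have := h x
    have hle : closure ({x, g ^ d} : Set G) ≤ closure ({x, g} : Set G) := by
      rw [closure_le]
      rintro y (rfl | rfl)
      · exact subset_closure (by simp)
      · exact pow_mem (subset_closure (by simp)) _
    exact Group.nilpotent_of_mulEquiv (subgroupOfEquivOfLe hle)
  rw [← QuotientGroup.eq_one_iff (N := Subgroup.upperCentralSeries G N), QuotientGroup.mk_pow,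
    ← orderOf_dvd_iff_pow_eq_one] at hd
  exact Nat.not_dvd_ordCompl hp (orderOf_pos g).ne' (hpd.trans hd)

/-- In a finite group G the set of elements g such that the subgroup generated by g and x is nilpotent for every x ∈ G is exactly the hypercenter of G (the last term of the upper central series). -/
theorem result {G : Type*} [Group G] [Finite G] (g : G) :
    (∀ x : G, Group.IsNilpotent ↥(Subgroup.closure ({x, g} : Set G))) ↔ g ∈ ⨆ n : ℕ, Subgroup.upperCentralSeries G n := by
  have hdir : Directed (· ≤ ·) (Subgroup.upperCentralSeries G) :=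
    (Subgroup.upperCentralSeries_mono G).directed_le
  refine ⟨fun h => ?_, fun hg x => ?_⟩
  · exact hyper_of_nilpotent_pairs g h
  obtain ⟨n, hn⟩ := (Subgroup.mem_iSup_of_directed hdir).mp hg
  set K : Subgroup G := Subgroup.closure ({x, g} : Set G)
  have hxK : x ∈ K := Subgroup.subset_closure (by simp)
  have hgK : g ∈ K := Subgroup.subset_closure (by simp)
  have hmem : ∀ i, ∀ a : K, (a : G) ∈ Subgroup.upperCentralSeries G i →
      a ∈ Subgroup.upperCentralSeries K i := by
    intro i
    induction i with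
    | zero =>
      intro a ha
      rw [Subgroup.upperCentralSeries_zero, Subgroup.mem_bot] at ha ⊢
      exact Subtype.ext ha
    | succ i ih => exact fun a ha b => ih _ (ha b)
  set Z := Subgroup.upperCentralSeries K n
  refine ⟨⟨n + 1, ?_⟩⟩
  rw [eq_top_iff]
  intro a _ b
  show ⁅a, b⁆ ∈ Z
  rw [← QuotientGroup.eq_one_iff (N := Z), ← QuotientGroup.mk'_apply, map_commutatorElement,
    commutatorElement_eq_one_iff_mul_comm]
  have hle : (⊤ : Subgroup K) ≤ (Subgroup.zpowers (QuotientGroup.mk' Z ⟨x, hxK⟩)).comap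
      (QuotientGroup.mk' Z) := by
    rw [← Subgroup.closure_closure_coe_preimage (k := ({x, g} : Set G)), Subgroup.closure_le]
    rintro ⟨y, hyK⟩ hy
    rcases (show y = x ∨ y = g from hy) with rfl | rfl
    · exact Subgroup.mem_zpowers _
    · show QuotientGroup.mk' Z ⟨y, hyK⟩ ∈ Subgroup.zpowers _
      rw [show QuotientGroup.mk' Z ⟨y, hyK⟩ = 1 from
        (QuotientGroup.eq_one_iff _).mpr (hmem n ⟨y, hyK⟩ hn)]
      exact one_mem _
  obtain ⟨i, hi⟩ := Subgroup.mem_zpowers_iff.mp (hle (Subgroup.mem_top a))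
  obtain ⟨j, hj⟩ := Subgroup.mem_zpowers_iff.mp (hle (Subgroup.mem_top b))
  rw [← hi, ← hj]
  exact (Commute.zpow_zpow_self _ i j).eq

end Cfsg.Agent.S3939
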