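import Cfsg.Statements.S3940
import Cfsg.Agent.H36.NilPPrime.CaseOne
import Cfsg.Agent.H36.NilPPrime.CaseTwo

set_option autoImplicit false
open Cfsg

namespace Cfsg.Agent.S3940

/-- Let p > 3 be a prime and G a finite group in which every subgroup of order prime to p is nilpotent. Then G is solvable. -/
theorem result {G : Type*} [Group G] [Finite G] (p : ℕ) (hp : p.Prime) (hp3 : 3 < p)
    (h : ∀ H : Subgroup G, (Nat.card ↥H).Coprime p → Group.IsNilpotent ↥H) : Group.IsSolvable G := by
  have : Fact p.Prime := ⟨hp⟩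
  refine H36.NilPPrime.isSolvable_of_hyp_of_no_min p hp3 (fun X _ _ hm => ?_) (Nat.card G) G rfl h
  obtain ⟨S⟩ : Nonempty (Sylow 2 X) := inferInstance
  obtain ⟨A, hA⟩ := hm.exists_closed8 S
  obtain ⟨M, hM⟩ := hm.exists_over hA
  exact H36.NilPPrime.Over.false_of_pCore_ne_bot hA hM hm
    (H36.NilPPrime.Over.pCore_ne_bot hA hM hm)

end Cfsg.Agent.S3940
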