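import Cfsg.Statements.S3941


set_option autoImplicit false
open Cfsg

namespace Cfsg.Agent.S3941

/-- Let n ≥ 5 and p an odd prime with p ≤ n, and suppose that every proper subgroup of the alternating group of degree n whose order is divisible by p has a normal Sylow p-subgroup. Then n = p. -/
theorem result (n p : ℕ) (hn : 5 ≤ n) [Fact p.Prime] (hp : p ≠ 2) (hpn : p ≤ n)
    (h : ∀ H : Subgroup ↥(alternatingGroup (Fin n)), H ≠ ⊤ → p ∣ Nat.card ↥H → Cfsg.IsPClosed p ↥H) : n = p := by
  classical
  by_contra hne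
  have hlt : p < n := lt_of_le_of_ne hpn (Ne.symm hne)
  have hpp : p.Prime := Fact.out
  have hp3 : 3 ≤ p := by have := hpp.two_le; omega
  have : NeZero n := ⟨by omega⟩
  let l : Fin n := ⟨n - 1, by omega⟩
  let a : Fin n := ⟨0, by omega⟩
  let b : Fin n := ⟨1, by omega⟩
  let c : Fin n := ⟨2, by omega⟩
  let d : Fin n := ⟨3, by omega⟩
  have hab : a ≠ b := by simp [a, b, Fin.ext_iff]
  have hac : a ≠ c := by simp [a, c, Fin.ext_iff]
  have had : a ≠ d := by simp [a, d, Fin.ext_iff]
  have hbc : b ≠ c := by simp [b, c, Fin.ext_iff]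
  have hbd : b ≠ d := by simp [b, d, Fin.ext_iff]
  have hcd : c ≠ d := by simp [c, d, Fin.ext_iff]
  have hal : l ≠ a := by simp [a, l, Fin.ext_iff]; omega
  have hbl : l ≠ b := by simp [b, l, Fin.ext_iff]; omega
  have hcl : l ≠ c := by simp [c, l, Fin.ext_iff]; omega
  have hdl : l ≠ d := by simp [d, l, Fin.ext_iff]; omega
  let H : Subgroup ↥(alternatingGroup (Fin n)) :=
    (MulAction.stabilizer (Equiv.Perm (Fin n)) l).subgroupOf (alternatingGroup (Fin n))
  have hmem : ∀ g : ↥(alternatingGroup (Fin n)), g ∈ H ↔ (g : Equiv.Perm (Fin n)) l = l := fun g => by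
    simp [H, Subgroup.mem_subgroupOf, MulAction.mem_stabilizer_iff]
  have ev : ∀ x y z : Fin n, x ≠ y → x ≠ z →
      Equiv.swap x y * Equiv.swap x z ∈ alternatingGroup (Fin n) := fun x y z hxy hxz => by
    rw [Equiv.Perm.mem_alternatingGroup, map_mul, Equiv.Perm.sign_swap hxy, Equiv.Perm.sign_swap hxz]
    decide
  have hH : H ≠ ⊤ := fun ht => by
    have := (hmem ⟨_, ev a l b hal.symm hab⟩).mp (ht ▸ Subgroup.mem_top _)
    simp only [Equiv.Perm.mul_apply] at this
    rw [Equiv.swap_apply_of_ne_of_ne hal hbl, Equiv.swap_apply_right] at this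
    exact hal this.symm
  let i : Fin n := ⟨p - 1, by omega⟩
  have hi0 : i ≠ 0 := fun h => by
    have := congrArg Fin.val h
    simp [i] at this
    omega
  have hs : Fin.cycleRange i ∈ alternatingGroup (Fin n) := by
    rw [Equiv.Perm.mem_alternatingGroup, Fin.sign_cycleRange]
    have : Even (p - 1) := by
      rcases hpp.eq_two_or_odd' with h | h
      · omega
      · obtain ⟨k, hk⟩ := h; exact ⟨k, by omega⟩
    exact this.neg_one_pow
  have hso : orderOf (Fin.cycleRange i) = p := by
    rw [← Equiv.Perm.lcm_cycleType, Fin.cycleType_cycleRange hi0]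
    simp [i]
    omega
  let S : H := ⟨⟨_, hs⟩, (hmem _).mpr (Fin.cycleRange_of_gt
    (show i.val < l.val by simp [i, l]; omega))⟩
  have hSo : orderOf S = p := by rw [Subgroup.orderOf_mk, Subgroup.orderOf_mk, hso]
  have hdvd : p ∣ Nat.card H := hSo ▸ orderOf_dvd_natCard S
  let P : Sylow p H := Classical.arbitrary _
  have hPn : (P : Subgroup H).Normal := h H hH hdvd P
  have : Unique (Sylow p H) := Sylow.unique_of_normal P hPn
  have hin : ∀ x : H, orderOf x = p → x ∈ (P : Subgroup H) := by
    intro x hx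
    obtain ⟨Q, hQ⟩ := (IsPGroup.of_card (n := 1) (by rw [pow_one, Nat.card_zpowers, hx]) :
      IsPGroup p (Subgroup.zpowers x)).exists_le_sylow
    rw [Subsingleton.elim Q P] at hQ
    exact hQ (Subgroup.mem_zpowers x)
  have hord : ∀ q : ℕ, q.Prime → ∀ x : H, x ∈ (P : Subgroup H) → orderOf x = q → q = p := by
    intro q hq x hx hxq
    obtain ⟨k, hk⟩ := IsPGroup.iff_orderOf.mp P.isPGroup' ⟨x, hx⟩
    rw [Subgroup.orderOf_mk, hxq] at hk
    exact (Nat.prime_dvd_prime_iff_eq hq hpp).mp (hq.dvd_of_dvd_pow hk.dvd)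
  rcases eq_or_lt_of_le hp3 with h3 | h5
  · have h3x : ∀ x y : Fin n, b ≠ x → b ≠ y → x ≠ y →
        orderOf (Equiv.swap b x * Equiv.swap b y) = p := fun x y hx hy hxy =>
      h3 ▸ (Equiv.Perm.isThreeCycle_swap_mul_swap_same hx hy hxy).orderOf
    let X : H := ⟨⟨_, ev b a c hab.symm hbc⟩, (hmem _).mpr (by
      simp [Equiv.swap_apply_of_ne_of_ne, hbl, hal, hcl])⟩
    let Y : H := ⟨⟨_, ev b a d hab.symm hbd⟩, (hmem _).mpr (by
      simp [Equiv.swap_apply_of_ne_of_ne, hbl, hal, hdl])⟩
    have hXY : X * Y ∈ (P : Subgroup H) := Subgroup.mul_mem _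
      (hin X (by rw [Subgroup.orderOf_mk, Subgroup.orderOf_mk]; exact h3x a c hab.symm hbc hac))
      (hin Y (by rw [Subgroup.orderOf_mk, Subgroup.orderOf_mk]; exact h3x a d hab.symm hbd had))
    have hval : ((X * Y : H) : Equiv.Perm (Fin n)) = Equiv.swap a c * Equiv.swap b d := by
      change Equiv.swap b a * Equiv.swap b c * (Equiv.swap b a * Equiv.swap b d) = _
      have e : Equiv.swap a c = Equiv.swap b a * Equiv.swap b c * Equiv.swap b a := by
        conv_lhs => rw [← Equiv.swap_apply_left b a,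
          ← Equiv.swap_apply_of_ne_of_ne (a := b) (b := a) hbc.symm hac.symm]
        rw [Equiv.swap_apply_apply, Equiv.swap_inv]
      rw [e, mul_assoc _ (Equiv.swap b a) (Equiv.swap b d)]
    have h2 : orderOf (X * Y) = 2 := by
      rw [← Subgroup.orderOf_coe, ← Subgroup.orderOf_coe, hval]
      refine orderOf_eq_prime ?_ ?_
      · have e : Equiv.swap b d = Equiv.swap a c * Equiv.swap b d * Equiv.swap a c := by
          conv_lhs => rw [← Equiv.swap_apply_of_ne_of_ne (a := a) (b := c) hab.symm hbc,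
            ← Equiv.swap_apply_of_ne_of_ne (a := a) (b := c) had.symm hcd.symm]
          rw [Equiv.swap_apply_apply, Equiv.swap_inv]
        rw [sq, ← mul_assoc, ← e, Equiv.swap_mul_self]
      · intro e
        have := congrArg (fun f : Equiv.Perm (Fin n) => f b) e
        simp [Equiv.swap_apply_of_ne_of_ne, hab.symm, hbc, had.symm, hcd.symm] at this
        exact hbd this.symm
    exact hp (hord 2 Nat.prime_two _ hXY h2).symm
  · have h5' : 5 ≤ p := by
      rcases lt_or_ge p 5 with h | h
      · have h4 : p = 4 := by omega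
        exact absurd (h4 ▸ hpp : Nat.Prime 4) (by decide)
      · exact h
    let T : H := ⟨⟨_, ev b a c hab.symm hbc⟩, (hmem _).mpr (by
      simp [Equiv.swap_apply_of_ne_of_ne, hbl, hal, hcl])⟩
    have hT : T * S * T⁻¹ * S⁻¹ ∈ (P : Subgroup H) := Subgroup.mul_mem _
      (hPn.conj_mem S (hin S hSo) T) (Subgroup.inv_mem _ (hin S hSo))
    have hmap : ∀ (j k : Fin n), j.val < p - 1 → j.val + 1 = k.val → Fin.cycleRange i j = k :=
      fun j k hj hk => Fin.ext ((Fin.coe_cycleRange_of_lt (show j < i from hj)).trans hk)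
    have hval : ((T * S * T⁻¹ * S⁻¹ : H) : Equiv.Perm (Fin n)) =
        Equiv.swap b a * Equiv.swap b d := by
      change Equiv.swap b a * Equiv.swap b c * Fin.cycleRange i *
        (Equiv.swap b a * Equiv.swap b c)⁻¹ * (Fin.cycleRange i)⁻¹ = _
      rw [mul_inv_rev, Equiv.swap_inv, Equiv.swap_inv]
      have e : Fin.cycleRange i * (Equiv.swap b c * Equiv.swap b a) * (Fin.cycleRange i)⁻¹ =
          Equiv.swap c d * Equiv.swap c b := by
        have h1 : Fin.cycleRange i * Equiv.swap b c * (Fin.cycleRange i)⁻¹ = Equiv.swap c d := by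
          rw [← Equiv.swap_apply_apply, hmap b c (by simp [b]; omega) rfl,
            hmap c d (by simp [c]; omega) rfl]
        have h2 : Fin.cycleRange i * Equiv.swap b a * (Fin.cycleRange i)⁻¹ = Equiv.swap c b := by
          rw [← Equiv.swap_apply_apply, hmap b c (by simp [b]; omega) rfl,
            hmap a b (by simp [a]; omega) rfl]
        rw [← h1, ← h2, conj_mul]
      have e' : Equiv.swap b a * Equiv.swap b c * Fin.cycleRange i *
          (Equiv.swap b c * Equiv.swap b a) * (Fin.cycleRange i)⁻¹ =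
          Equiv.swap b a * Equiv.swap b c * (Equiv.swap c d * Equiv.swap c b) := by
        rw [← e]; simp [mul_assoc]
      rw [e', mul_assoc]
      congr 1
      have e2 : Equiv.swap b d = Equiv.swap b c * Equiv.swap c d * Equiv.swap b c := by
        conv_lhs => rw [← Equiv.swap_apply_right b c,
          ← Equiv.swap_apply_of_ne_of_ne (a := b) (b := c) hbd.symm hcd.symm]
        rw [Equiv.swap_apply_apply, Equiv.swap_inv]
      rw [e2, Equiv.swap_comm c b, mul_assoc]
    have h3' : orderOf (T * S * T⁻¹ * S⁻¹) = 3 := by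
      rw [← Subgroup.orderOf_coe, ← Subgroup.orderOf_coe, hval]
      exact (Equiv.Perm.isThreeCycle_swap_mul_swap_same hab.symm hbd had).orderOf
    have := hord 3 Nat.prime_three _ hT h3'
    omega

end Cfsg.Agent.S3941
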