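import Cfsg.Statements.S3946
import Cfsg.Agent.H77.Hughes
import Cfsg.Agent.H77.GT
import Mathlib.GroupTheory.SemidirectProduct

set_option autoImplicit false
open Cfsg

namespace Cfsg.Agent.S3946

/-- Call an automorphism α of order n of a group G splitting when x · α(x) · α²(x) ⋯ α^(n−1)(x) = 1 for every x ∈ G. A finite group admitting a splitting automorphism of prime order is nilpotent (this contains the case of a fixed-point-free automorphism of prime order). -/
theorem result {G : Type*} [Group G] [Finite G] (α : MulAut G) (hp : (orderOf α).Prime)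
    (hsplit : ∀ x : G, (((List.range (orderOf α)).map (fun i : ℕ => (α ^ i) x)).prod = 1)) : Group.IsNilpotent G := by
  classical
  set p := orderOf α with hpdef
  let S := G ⋊[(Subgroup.zpowers α).subtype] ↥(Subgroup.zpowers α)
  have : Finite (MulAut G) :=
    Finite.of_injective (fun f : MulAut G => (f : G → G)) DFunLike.coe_injective
  have : Finite S := Finite.of_equiv _ SemidirectProduct.equivProd.symm
  let a : ↥(Subgroup.zpowers α) := ⟨α, Subgroup.mem_zpowers α⟩
  have hao : orderOf a = p := (Subgroup.orderOf_coe a).symm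
  have hpow : ∀ (x : G) (n : ℕ), ((⟨x, a⟩ : S) ^ n).left =
      ((List.range n).map (fun i : ℕ => (α ^ i) x)).prod ∧ ((⟨x, a⟩ : S) ^ n).right = a ^ n := by
    intro x n
    induction n with
    | zero => exact ⟨by simp, by simp⟩
    | succ n ih =>
      rw [pow_succ, SemidirectProduct.mul_left, SemidirectProduct.mul_right, ih.1, ih.2,
        List.range_succ, List.map_append, List.prod_append, pow_succ]
      exact ⟨by simp [a], rfl⟩
  have hone : ∀ x : G, (⟨x, a⟩ : S) ^ p = 1 := by
    intro x
    refine SemidirectProduct.ext ?_ ?_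
    · rw [(hpow x p).1, hsplit x, SemidirectProduct.one_left]
    · rw [(hpow x p).2, ← hao, pow_orderOf_eq_one, SemidirectProduct.one_right]
  set H : Subgroup S := (SemidirectProduct.inl : G →* S).range
  have hHn : H.Normal := by
    show (SemidirectProduct.inl : G →* S).range.Normal
    rw [SemidirectProduct.range_inl_eq_ker_rightHom]
    infer_instance
  have hidx : H.index = p := by
    show (SemidirectProduct.inl : G →* S).range.index = p
    rw [SemidirectProduct.range_inl_eq_ker_rightHom, Subgroup.index_ker,
      MonoidHom.range_eq_top.mpr SemidirectProduct.rightHom_surjective, Subgroup.card_top,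
      Nat.card_zpowers]
  have hsp : ∀ g : S, g ∉ H → g ^ p = 1 := by
    intro g hg
    have hb : g.right ≠ 1 := by
      intro h
      exact hg ⟨g.left, SemidirectProduct.ext rfl h.symm⟩
    obtain ⟨k, hk : α ^ k = (g.right : MulAut G)⟩ := mem_powers_iff_mem_zpowers.mpr g.right.2
    have hk' : a ^ k = g.right := Subtype.ext hk
    have hcop : Nat.Coprime k p := by
      rw [Nat.coprime_comm, hp.coprime_iff_not_dvd]
      intro hd
      apply hb
      rw [← hk', ← hao] at *
      exact orderOf_dvd_iff_pow_eq_one.mp hd
    obtain ⟨j, hj⟩ : ∃ j, k * j ≡ 1 [MOD p] :=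
      let ⟨y, hy⟩ := Nat.exists_mul_mod_eq_one_of_coprime hcop hp.one_lt
      ⟨y, by rw [Nat.ModEq, hy.2, Nat.mod_eq_of_lt hp.one_lt]⟩
    let F : G → G := fun x => ((⟨x, a⟩ : S) ^ k).left
    have hinj : Function.Injective F := by
      intro x y hxy
      have h1 : (⟨x, a⟩ : S) ^ k = (⟨y, a⟩ : S) ^ k :=
        SemidirectProduct.ext hxy (by rw [(hpow x k).2, (hpow y k).2])
      have h2 := congrArg (fun s : S => s ^ j) h1
      simp only [← pow_mul] at h2
      rw [← Nat.mod_add_div (k * j) p, pow_add, pow_add, pow_mul, pow_mul, hone, hone, one_pow,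
        mul_one, mul_one, hj, Nat.mod_eq_of_lt hp.one_lt, pow_one, pow_one] at h2
      exact congrArg (fun s : S => s.left) h2
    obtain ⟨x, hx⟩ := Finite.surjective_of_injective hinj g.left
    have hg' : g = (⟨x, a⟩ : S) ^ k :=
      SemidirectProduct.ext hx.symm (by rw [(hpow x k).2, hk'])
    rw [hg', ← pow_mul, mul_comm, pow_mul, hone, one_pow]
  have hnil := H77.nilpotent_of_split H77.gtHyp hp H hHn hidx hsp
  exact H77.isNilpotent_of_injective (SemidirectProduct.inl : G →* S).rangeRestrict
    (fun x y h => SemidirectProduct.inl_injective (congrArg Subtype.val h))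

end Cfsg.Agent.S3946
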