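import Cfsg.Statements.S3952
import Cfsg.Agent.H74.SchurFree
import Cfsg.Agent.H81.Central
import Mathlib

set_option autoImplicit false
open Cfsg Cfsg.Agent.CharBasic Cfsg.Agent.H81
open scoped IsMulCommutative

namespace Cfsg.Agent.S3952

/-- If `A` is the Schur multiplier of the finite group `Q`, then the square of the exponent of `A` divides the order of `Q`. -/
theorem result {Q : Type*} [Group Q] [Finite Q] {A : Type*} [CommGroup A] (hA : Cfsg.HasSchurMultiplier Q A) : Monoid.exponent A ^ 2 ∣ Nat.card Q := by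
  classical
  obtain ⟨⟨Γ, iG, iF, σ, hσ, ⟨eA⟩⟩, -⟩ := id hA
  letI : Fintype Γ := Fintype.ofFinite Γ
  set Z := σ.ker with hZ
  letI : Fintype Z := Fintype.ofFinite Z
  have : IsMulCommutative Z :=
    ⟨⟨fun a b => Subtype.ext (Subgroup.mem_center_iff.1 (hσ.2.1 b.2) (a : Γ))⟩⟩
  rw [← Monoid.exponent_eq_of_mulEquiv eA]
  obtain ⟨z₀, hz₀⟩ := Monoid.exists_orderOf_eq_exponent (G := Z) Monoid.ExponentExists.of_finite
  set e := Monoid.exponent Z
  have he0 : NeZero e := ⟨by rw [← hz₀]; exact (orderOf_pos z₀).ne'⟩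
  obtain ⟨lam, hlam⟩ : ∃ lam : Z →* ℂˣ, orderOf (lam z₀) = e := by
    have h1 : Nat.card (Subgroup.zpowers z₀) = Nat.card (rootsOfUnity e ℂ) := by
      rw [Nat.card_zpowers, hz₀, HasEnoughRootsOfUnity.natCard_rootsOfUnity ℂ e]
    let f := mulEquivOfCyclicCardEq h1
    obtain ⟨lam, hl⟩ := MonoidHom.domRestrict_surjective (G := Z) ℂ (Subgroup.zpowers z₀)
      ((rootsOfUnity e ℂ).subtype.comp f.toMonoidHom)
    refine ⟨lam, ?_⟩
    have h2 : lam z₀ = ((f ⟨z₀, Subgroup.mem_zpowers z₀⟩ : rootsOfUnity e ℂ) : ℂˣ) :=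
      DFunLike.congr_fun hl ⟨z₀, Subgroup.mem_zpowers z₀⟩
    rw [h2, Subgroup.orderOf_coe, MulEquiv.orderOf_eq, Subgroup.orderOf_mk, hz₀]
  let I := Finset.univ.filter fun χ : Cfsg.IrrCharacter Γ =>
    ∀ w : Z, (χ : Γ → ℂ) w = (lam w : ℂ) * (χ : Γ → ℂ) 1
  have key : ∀ χ : Cfsg.IrrCharacter Γ, ∃ n : ℕ, (χ : Γ → ℂ) 1 = n ∧
      (χ ∈ I → e ∣ n) ∧ ∑ w : Z, (χ : Γ → ℂ) w * ((lam w)⁻¹ : ℂˣ) =
        if χ ∈ I then (Nat.card Z : ℂ) * n else 0 := by
    rintro ⟨χ, hχ⟩
    obtain ⟨ω, hω, -⟩ := exists_centralHom Z hσ.2.1 hχ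
    obtain ⟨n, ρ, hρ, rfl⟩ := id hχ
    have h1 : ρ.character 1 = n := by
      rw [Representation.char_one]; simp
    have hn0 : (n : ℂ) ≠ 0 := h1 ▸ IsIrr.one_ne_zero hχ
    have hω1 : ∀ w : Z, ρ.character w = ω w * n := fun w => by
      simpa [h1] using hω w 1
    refine ⟨n, h1, fun hI => ?_, ?_⟩
    · simp only [I, Finset.mem_filter, Finset.mem_univ, true_and] at hI
      have hs : ∃ c : ℂ, ρ (z₀ : Γ) = c • LinearMap.id :=
        schur_scalar ρ (ρ z₀) fun g => by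
          rw [← map_mul, ← map_mul, Subgroup.mem_center_iff.1 (hσ.2.1 z₀.2) g]
      obtain ⟨c, hc⟩ := hs
      have hc' : c = (lam z₀ : ℂ) := by
        have h3 : ρ.character (z₀ : Γ) = c * n := by
          rw [Representation.character, hc, map_smul, smul_eq_mul, LinearMap.trace_id]
          simp
        rw [hI z₀, h1] at h3
        exact (mul_right_cancel₀ hn0 h3).symm
      have hdet : LinearMap.det (ρ (z₀ : Γ)) = 1 := by
        have h4 : ((LinearMap.det.comp ρ).toHomUnits) (z₀ : Γ) = 1 :=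
          Abelianization.commutator_subset_ker _ (hσ.2.2 z₀.2)
        simpa using congrArg Units.val h4
      rw [hc, LinearMap.det_smul, LinearMap.det_id, mul_one, hc'] at hdet
      rw [← hlam, orderOf_dvd_iff_pow_eq_one]
      apply Units.ext
      simpa using hdet
    · let θ : Z →* ℂ := ω * ((Units.coeHom ℂ).comp lam⁻¹)
      have hθ : ∀ w, θ w = ω w * ((lam w)⁻¹ : ℂˣ) := fun w => rfl
      have hiff : θ = 1 ↔ (⟨ρ.character, hχ⟩ : Cfsg.IrrCharacter Γ) ∈ I := by
        simp only [I, Finset.mem_filter, Finset.mem_univ, true_and, DFunLike.ext_iff, hθ,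
          MonoidHom.one_apply, hω1, h1]
        refine forall_congr' fun w => ?_
        rw [Units.val_inv_eq_inv_val, mul_inv_eq_one₀ (lam w).ne_zero, mul_left_inj' hn0]
      calc ∑ w : Z, ρ.character w * ((lam w)⁻¹ : ℂˣ) = ∑ w : Z, (n : ℂ) * θ w :=
            Finset.sum_congr rfl fun w _ => by rw [hω1, hθ]; ring
        _ = (n : ℂ) * ∑ w : Z, θ w := (Finset.mul_sum _ _ _).symm
        _ = _ := by
          rw [sum_hom_units θ]
          by_cases h : θ = 1
          · rw [if_pos h, if_pos (hiff.1 h), Nat.card_eq_fintype_card]; ring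
          · rw [if_neg h, if_neg (mt hiff.2 h)]; simp
  choose d hd hdvd hsum using key
  have h2 : (Nat.card Z : ℂ) * ∑ χ ∈ I, (d χ : ℂ) ^ 2 = Nat.card Γ := by
    calc (Nat.card Z : ℂ) * ∑ χ ∈ I, (d χ : ℂ) ^ 2
        = ∑ χ : Cfsg.IrrCharacter Γ,
            (χ : Γ → ℂ) 1 * ∑ w : Z, (χ : Γ → ℂ) w * ((lam w)⁻¹ : ℂˣ) := by
          simp only [hsum, hd, mul_ite, mul_zero, Finset.sum_ite_mem, Finset.univ_inter,
            Finset.mul_sum]
          exact Finset.sum_congr rfl fun χ _ => by ring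
      _ = ∑ w : Z, (∑ χ : Cfsg.IrrCharacter Γ, (χ : Γ → ℂ) 1 * (χ : Γ → ℂ) w) *
            ((lam w)⁻¹ : ℂˣ) := by
          simp only [Finset.mul_sum, Finset.sum_mul, mul_assoc]
          exact Finset.sum_comm
      _ = Nat.card Γ := by
          simp only [sum_degree_mul_apply]
          rw [Finset.sum_eq_single (1 : Z)]
          · simp
          · intro w _ hw
            rw [if_neg (fun h : (w : Γ) = 1 => hw (Subtype.ext h)), zero_mul]
          · simp
  have h3 : Nat.card Γ = Nat.card Z * Nat.card Q := by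
    rw [← Subgroup.card_mul_index Z, hZ, Subgroup.index_ker, MonoidHom.range_eq_top.2 hσ.1,
      Subgroup.card_top]
  rw [h3] at h2
  have h4 : ∑ χ ∈ I, d χ ^ 2 = Nat.card Q := by
    rw [← Nat.cast_inj (R := ℂ)]
    push_cast at h2 ⊢
    exact mul_left_cancel₀ (Nat.cast_ne_zero.2 Nat.card_pos.ne') h2
  rw [← h4]
  exact Finset.dvd_sum fun χ hχ => pow_dvd_pow_of_dvd (hdvd χ hχ) 2

end Cfsg.Agent.S3952
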