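import Cfsg.Statements.S3953
import Cfsg.Agent.H74.SchurTransfer

set_option autoImplicit false
open Cfsg Cfsg.Agent.H74.Schur
open scoped IsMulCommutative

namespace Cfsg.Agent.S3953

/-- Let `P` be a Sylow `p`-subgroup of the finite group `G`, let `A` be the Schur multiplier of `G` and `B` that of `P`. Then the `p`-primary component of `A` is isomorphic to a direct factor of `B`: there are subgroups `C` and `D` of `B` meeting trivially and generating `B`, with `C` isomorphic to the `p`-primary component of `A`. -/
theorem result {G : Type*} [Group G] [Finite G] (p : ℕ) [Fact p.Prime] (P : Sylow p G) {A B : Type*} [CommGroup A] [CommGroup B] (hA : Cfsg.HasSchurMultiplier G A) (hB : Cfsg.HasSchurMultiplier P B) : ∃ C D : Subgroup B, C ⊓ D = ⊥ ∧ C ⊔ D = ⊤ ∧ Nonempty (CommGroup.primaryComponent A p ≃* C) := by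
  classical
  let π := FreeGroup.lift (id : G → G)
  have hπ : Function.Surjective π := freeGroup_lift_id_surjective
  let H := (P : Subgroup G).comap π
  have hidx : H.index = (P : Subgroup G).index := Subgroup.index_comap_of_surjective _ hπ
  haveI : H.FiniteIndex := ⟨by rw [hidx]; exact (P : Subgroup G).index_ne_zero_of_finite⟩
  letI : Fintype (FreeGroup G ⧸ H) := Subgroup.fintypeQuotientOfFiniteIndex
  have hπP : Function.Surjective (resPres π (P : Subgroup G)) := fun y => by
    obtain ⟨g, hg⟩ := hπ y
    exact ⟨⟨g, show π g ∈ (P : Subgroup G) by rw [hg]; exact y.2⟩, Subtype.ext hg⟩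
  obtain ⟨e1⟩ := mulEquiv_mult π hπ hA
  obtain ⟨e2⟩ := mulEquiv_mult (FreeGroup.lift (id : P → P)) freeGroup_lift_id_surjective hB
  obtain ⟨e3⟩ := nonempty_mult_equiv (resPres π (P : Subgroup G))
    (FreeGroup.lift (id : P → P)) hπP freeGroup_lift_id_surjective
  let eB := e3.trans e2
  haveI : Finite (mult π) := commGroup_finite_mult π
  haveI : Finite A := Finite.of_equiv _ e1.toEquiv
  let τ₀ : mult π →* mult (resPres π (P : Subgroup G)) :=
    ((cextHom _).ker.subtype.comp ((normBar π (P : Subgroup G)).comp
      (Subgroup.inclusion (mult_le_ker π)))).codRestrict _ fun a =>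
        Subgroup.mem_inf.2 ⟨(normBar π (P : Subgroup G) _).2, normBar_mem_commutator π _ _ a.2.2⟩
  let i₀ : mult (resPres π (P : Subgroup G)) →* mult π :=
    ((cores π (P : Subgroup G)).comp (mult _).subtype).codRestrict _ fun y => by
      show cores π (P : Subgroup G) (y : CExt _) ∈ mult π
      refine Subgroup.mem_inf.2 ⟨?_, map_commutator_le (cores π (P : Subgroup G)) ⟨_, y.2.2, rfl⟩⟩
      obtain ⟨e, he, -⟩ := y
      induction e using QuotientGroup.induction_on with
      | H h => exact congrArg Subtype.val (he : resPres π (P : Subgroup G) h = 1)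
  refine exists_direct_factor p
    ((e1.toMonoidHom.comp i₀).comp eB.symm.toMonoidHom)
    ((eB.toMonoidHom.comp τ₀).comp e1.symm.toMonoidHom)
    (m := H.index) (hidx ▸ P.not_dvd_index) fun a => ?_
  show e1 (i₀ (eB.symm (eB (τ₀ (e1.symm a))))) = a ^ H.index
  rw [eB.symm_apply_apply]
  have h : i₀ (τ₀ (e1.symm a)) = e1.symm a ^ H.index :=
    Subtype.ext (cores_normBar π (P : Subgroup G) _)
  rw [h, map_pow, e1.apply_symm_apply]

end Cfsg.Agent.S3953
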