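import Cfsg.Statements.S3954
import Cfsg.Agent.H74.SchurApps
import Mathlib

set_option autoImplicit false
open Cfsg Cfsg.Agent.H74.Schur
open scoped IsMulCommutative

namespace Cfsg.Agent.S3954

/-- Let `U` be a subgroup of index `m` in the finite group `G`, let `A` be the Schur multiplier of `G` and `B` that of `U`. Then the subgroup of `m`-th powers of `A` is isomorphic to a subgroup of `B`. -/
theorem result {G : Type*} [Group G] [Finite G] (U : Subgroup G) {A B : Type*} [CommGroup A] [CommGroup B] (hA : Cfsg.HasSchurMultiplier G A) (hB : Cfsg.HasSchurMultiplier U B) : ∃ C : Subgroup B, Nonempty ((powMonoidHom U.index : A →* A).range ≃* C) := by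
  classical
  obtain ⟨⟨Γ, iG, iF, σ, hσ, ⟨eA⟩⟩, -⟩ := id hA
  set Ũ : Subgroup Γ := U.comap σ with hŨ
  let σU : Ũ →* U := σ.subgroupComap U
  have hσUs : Function.Surjective σU := by
    intro u
    obtain ⟨g, hg⟩ := hσ.1 u
    exact ⟨⟨g, show σ g ∈ U by rw [hg]; exact u.2⟩, Subtype.ext hg⟩
  have hσUc : σU.ker ≤ Subgroup.center Ũ := by
    intro z hz
    rw [Subgroup.mem_center_iff]
    intro g
    exact Subtype.ext (Subgroup.mem_center_iff.1 (hσ.2.1 (congrArg Subtype.val hz : σ z = 1)) g)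
  let π := FreeGroup.lift (id : U → U)
  have hπ : Function.Surjective π := freeGroup_lift_id_surjective
  obtain ⟨φ, hφ⟩ := exists_lift (π := π) σU hσUs hσUc
  have hcom := commutator_le_map_cext hπ hσUc hφ
  -- the transfer
  have hpow : ∀ z : Γ, z ∈ σ.ker → ∃ h : z ^ U.index ∈ Ũ, (⟨_, h⟩ : Ũ) ∈ commutator Ũ := by
    intro z hz
    have key : ∀ (k : ℕ) (g₀ : Γ), g₀⁻¹ * z ^ k * g₀ ∈ Ũ → g₀⁻¹ * z ^ k * g₀ = z ^ k := by
      intro k g₀ _
      have := Subgroup.mem_center_iff.1 (pow_mem (hσ.2.1 hz) k) g₀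
      rw [mul_assoc, ← this, inv_mul_cancel_left]
    have hidx : Ũ.index = U.index := Subgroup.index_comap_of_surjective U hσ.1
    have h := MonoidHom.transfer_eq_pow (Abelianization.of (G := Ũ)) z key
    have hmem : z ^ U.index ∈ Ũ := by
      show σ (z ^ U.index) ∈ U
      rw [map_pow, MonoidHom.mem_ker.1 hz, one_pow]
      exact one_mem U
    refine ⟨hmem, ?_⟩
    rw [← Abelianization.ker_of, MonoidHom.mem_ker]
    have h1 : MonoidHom.transfer (Abelianization.of (G := Ũ)) z = 1 :=
      Abelianization.commutator_subset_ker _ (hσ.2.2 hz)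
    rw [h1] at h
    rw [h]
    congr 2
    rw [hidx]
  -- the image of the multiplier of `U`
  let f : mult π →* Γ := (Ũ.subtype.comp φ).comp (mult π).subtype
  have hrange : ∀ z : Γ, z ∈ σ.ker → z ^ U.index ∈ f.range := by
    intro z hz
    obtain ⟨hm, hc⟩ := hpow z hz
    obtain ⟨e, he, hez⟩ := hcom hc
    refine ⟨⟨e, Subgroup.mem_inf.2 ⟨?_, he⟩⟩, congrArg Subtype.val hez⟩
    rw [MonoidHom.mem_ker, ← hφ, MonoidHom.comp_apply, hez]
    exact Subtype.ext (show σ (z ^ U.index) = 1 by rw [map_pow, MonoidHom.mem_ker.1 hz, one_pow])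
  have : IsMulCommutative f.range := ⟨⟨by
    rintro ⟨_, a, rfl⟩ ⟨_, b, rfl⟩
    exact Subtype.ext (show f a * f b = f b * f a by rw [← map_mul, ← map_mul, mul_comm])⟩⟩
  have := commGroup_finite_mult π
  obtain ⟨g, hg⟩ := exists_injective_of_surjective f.rangeRestrict f.rangeRestrict_surjective
  obtain ⟨eB⟩ := mulEquiv_mult π hπ hB
  let h : (powMonoidHom U.index : A →* A).range →* f.range :=
    MonoidHom.mk' (fun a => ⟨((eA.symm a : σ.ker) : Γ), by
      obtain ⟨_, b, rfl⟩ := a
      show ((eA.symm (b ^ U.index) : σ.ker) : Γ) ∈ f.range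
      rw [map_pow]
      simpa using hrange _ (eA.symm b).2⟩) (fun a b => Subtype.ext (by simp))
  have hinj : Function.Injective ((eB.toMonoidHom.comp g).comp h) := by
    refine eB.injective.comp (hg.comp fun a b hab => ?_)
    exact Subtype.ext (eA.symm.injective (Subtype.ext (congrArg Subtype.val hab :)))
  exact ⟨_, ⟨MonoidHom.ofInjective hinj⟩⟩

end Cfsg.Agent.S3954
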