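import Cfsg.Statements.S3956
import Cfsg.Agent.H74.SchurLift

set_option autoImplicit false
universe u v
open Cfsg

namespace Cfsg.Agent.S3956

/-- Let `σ : Γ →* Q` be a finite stem extension of the finite group `Q` such that every homomorphism from `Q` to the quotient of `GL n ℂ` by its centre, for every `n`, lifts along `σ` to a homomorphism `Γ →* GL n ℂ`. Then `σ` is a Schur covering group of `Q`: for every finite stem extension `τ : Δ →* Q` with `Δ` in the same universe as `Q`, the kernel of `τ` is a homomorphic image of the kernel of `σ`. -/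
theorem result {Q : Type u} [Group Q] [Finite Q] {Γ : Type v} [Group Γ] [Finite Γ] (σ : Γ →* Q) (hσ : Cfsg.IsStemExtension σ) (hlift : ∀ (n : ℕ) (γ : Q →* (GL (Fin n) ℂ ⧸ Subgroup.center (GL (Fin n) ℂ))), ∃ ρ : Γ →* GL (Fin n) ℂ, (QuotientGroup.mk' (Subgroup.center (GL (Fin n) ℂ))).comp ρ = γ.comp σ) (Δ : Type u) [Group Δ] [Finite Δ] (τ : Δ →* Q) (hτ : Cfsg.IsStemExtension τ) : ∃ π : σ.ker →* τ.ker, Function.Surjective π := by
  have hπ : Function.Surjective (FreeGroup.lift (id : Q → Q)) :=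
    Cfsg.Agent.H74.Schur.freeGroup_lift_id_surjective
  obtain ⟨S, hS, σ₀, β, hσ₀, hfin, ⟨e⟩, hβ, hβσ⟩ :=
    Cfsg.Agent.H74.Schur.exists_cover_over (FreeGroup.lift (id : Q → Q)) hπ σ hσ
  haveI := hS
  haveI := hfin
  obtain ⟨f, hf⟩ := Cfsg.Agent.H74.Schur.exists_surjective_mult hπ hτ
  have hmem : ∀ z : σ₀.ker, β z ∈ σ.ker := fun z => by
    rw [MonoidHom.mem_ker, ← MonoidHom.comp_apply, hβσ]; exact z.2
  let g : σ₀.ker →* σ.ker := (β.comp σ₀.ker.subtype).codRestrict σ.ker hmem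
  have hg : Function.Bijective g := by
    refine ⟨(injective_iff_map_eq_one g).2 fun z hz => Subtype.ext ?_, fun y => ?_⟩
    · exact Cfsg.Agent.H74.Schur.eq_one_of_lifts hσ₀ β hβσ hlift z.2 (congrArg Subtype.val hz)
    · obtain ⟨x, hx⟩ := hβ y
      refine ⟨⟨x, ?_⟩, Subtype.ext hx⟩
      rw [MonoidHom.mem_ker, ← hβσ, MonoidHom.comp_apply, hx]
      exact y.2
  exact ⟨f.comp (e.symm.toMonoidHom.comp (MulEquiv.ofBijective g hg).symm.toMonoidHom),
    hf.comp (e.symm.surjective.comp (MulEquiv.ofBijective g hg).symm.surjective)⟩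

end Cfsg.Agent.S3956
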