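import Cfsg.Statements.S3963
import Cfsg.Agent.H74.SchurMeta
import Mathlib.GroupTheory.SpecificGroups.Quaternion
import Mathlib.Tactic.Linarith

set_option autoImplicit false
open Cfsg

namespace Cfsg.Agent.S3963

/-- For every `n ≥ 1` the dicyclic (generalized quaternion) group of order `4 n` has trivial Schur multiplier. -/
theorem result (n : ℕ) [NeZero n] : Cfsg.HasCyclicSchurMultiplier (QuaternionGroup n) 1 := by
  refine Cfsg.Agent.H74.Schur.hasCyclicSchurMultiplier_one fun Δ _ _ σ hσ => ?_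
  obtain ⟨a, ha⟩ := hσ.1 (QuaternionGroup.a 1)
  obtain ⟨b, hb⟩ := hσ.1 (QuaternionGroup.xa 0)
  have hrel : σ b * σ a * (σ b)⁻¹ = σ a ^ (-1 : ℤ) := by
    rw [ha, hb, zpow_neg_one, mul_inv_eq_iff_eq_mul, eq_inv_mul_iff_mul_eq]
    simp
  have hgen : Subgroup.closure ({σ a, σ b} : Set (QuaternionGroup n)) = ⊤ := by
    rw [ha, hb, eq_top_iff]
    rintro (i | i) -
    · rw [← ZMod.natCast_zmod_val i, ← QuaternionGroup.a_one_pow]
      exact pow_mem (Subgroup.subset_closure (Set.mem_insert _ _)) _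
    · have : QuaternionGroup.xa i = QuaternionGroup.xa (0 : ZMod (2 * n)) * QuaternionGroup.a 1 ^ i.val := by
        rw [QuaternionGroup.a_one_pow, QuaternionGroup.xa_mul_a, zero_add, ZMod.natCast_zmod_val]
      rw [this]
      exact mul_mem (Subgroup.subset_closure (Set.mem_insert_of_mem _ rfl))
        (pow_mem (Subgroup.subset_closure (Set.mem_insert _ _)) _)
  have hc : (b * a * b⁻¹ * a⁻¹) ^ n = 1 :=
    (Cfsg.Agent.H74.Schur.c_pow_rel hσ hrel (n := 2) (t := n) (by
      rw [ha, hb, pow_two, QuaternionGroup.a_one_pow]; simp)).1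
  rw [eq_bot_iff]
  intro z hz
  obtain ⟨k, rfl, hk⟩ := Cfsg.Agent.H74.Schur.ker_mem inferInstance hσ hgen hrel hz
  rw [ha, QuaternionGroup.orderOf_a_one] at hk
  obtain ⟨j, hj⟩ := hk
  have hk' : k = (n : ℤ) * (-j) := by push_cast at hj; linarith
  rw [Subgroup.mem_bot, hk', zpow_mul, zpow_natCast, hc, one_zpow]

end Cfsg.Agent.S3963
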