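import Cfsg.Statements.S3964
import Cfsg.Agent.H74.DihedralStem
import Mathlib.RingTheory.Coprime.Lemmas

set_option autoImplicit false
open Cfsg

namespace Cfsg.Agent.S3964

/-- For odd `n` the dihedral group of order `2 n` has trivial Schur multiplier. -/
theorem result (n : ℕ) (hn : Odd n) : Cfsg.HasCyclicSchurMultiplier (DihedralGroup n) 1 := by
  haveI : NeZero n := ⟨by rintro rfl; simp at hn⟩
  refine Cfsg.Agent.H74.Schur.hasCyclicSchurMultiplier_one fun Δ _ _ σ hσ => ?_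
  obtain ⟨c, hc, hk⟩ := Cfsg.Agent.H74.Schur.dihedral_stem σ hσ
  rw [eq_bot_iff]
  intro z hz
  obtain ⟨k, rfl, hk2⟩ := hk z hz
  have hcop : IsCoprime (n : ℤ) 2 := by
    have : Nat.Coprime n 2 := (Nat.coprime_two_right).2 hn
    exact_mod_cast this.isCoprime
  obtain ⟨j, hj⟩ := hcop.dvd_of_dvd_mul_left hk2
  rw [Subgroup.mem_bot, hj, zpow_mul, zpow_natCast, hc, one_zpow]

end Cfsg.Agent.S3964
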