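import Cfsg.Statements.S3966
import Mathlib.GroupTheory.SpecificGroups.Quaternion
import Mathlib.Tactic.LinearCombination

set_option autoImplicit false
open Cfsg

namespace Cfsg.Agent.S3966

/-- For even `n ≥ 2` the dicyclic group of order `4 n` is a stem extension of the dihedral group of order `2 n` with kernel of order `2`: there is a surjective homomorphism `QuaternionGroup n →* DihedralGroup n` whose kernel is central, lies in the commutator subgroup and has two elements. Together with the order of the multiplier this exhibits the dicyclic group as a Schur covering group of the dihedral group. -/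
theorem result (n : ℕ) [NeZero n] (hn : Even n) : ∃ σ : QuaternionGroup n →* DihedralGroup n, Cfsg.IsStemExtension σ ∧ Nat.card σ.ker = 2 := by
  obtain ⟨r, hr⟩ := hn
  let f : ZMod (2 * n) →+* ZMod n := ZMod.castHom (dvd_mul_left n 2) (ZMod n)
  have hfn : f (n : ZMod (2 * n)) = 0 := by rw [map_natCast, ZMod.natCast_self]
  let σ : QuaternionGroup n →* DihedralGroup n :=
    { toFun := fun x => match x with
        | QuaternionGroup.a i => DihedralGroup.r (f i)
        | QuaternionGroup.xa i => DihedralGroup.sr (f i)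
      map_one' := by
        show DihedralGroup.r (f 0) = _
        rw [map_zero]; rfl
      map_mul' := by
        rintro (i | i) (j | j) <;> simp [map_sub, map_add, hfn] }
  have hfsurj : Function.Surjective f := ZMod.ringHom_surjective f
  have hker : ∀ x, σ x = 1 ↔ ∃ i, f i = 0 ∧ x = QuaternionGroup.a i := by
    rintro (i | i)
    · simp only [σ, MonoidHom.coe_mk, OneHom.coe_mk, DihedralGroup.one_def, DihedralGroup.r.injEq, -DihedralGroup.r_zero]
      exact ⟨fun h => ⟨i, h, rfl⟩, fun ⟨j, h, e⟩ => by cases e; exact h⟩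
    · simp [σ, DihedralGroup.one_def, -DihedralGroup.r_zero]
  have hf0 : ∀ i : ZMod (2 * n), f i = 0 → i = 0 ∨ i = (n : ZMod (2 * n)) := by
    intro i hi
    have hlt : i.val < 2 * n := ZMod.val_lt i
    have hd : n ∣ i.val := by
      rw [← ZMod.natCast_eq_zero_iff, ← map_natCast f, ZMod.natCast_zmod_val]; exact hi
    obtain ⟨c, hc⟩ := hd
    have hn0 : 0 < n := Nat.pos_of_ne_zero (NeZero.ne n)
    have hc2 : c < 2 := by
      by_contra hcon
      push Not at hcon
      have : n * 2 ≤ n * c := Nat.mul_le_mul_left n hcon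
      omega
    rw [← ZMod.natCast_zmod_val i, hc]
    interval_cases c <;> simp
  refine ⟨σ, ⟨?_, ?_, ?_⟩, ?_⟩
  · rintro (i | i)
    · obtain ⟨j, rfl⟩ := hfsurj i
      exact ⟨QuaternionGroup.a j, rfl⟩
    · obtain ⟨j, rfl⟩ := hfsurj i
      exact ⟨QuaternionGroup.xa j, rfl⟩
  · intro x hx
    obtain ⟨i, hi, rfl⟩ := (hker x).1 hx
    rw [Subgroup.mem_center_iff]
    have h2 : i + i = 0 := by
      rcases hf0 i hi with rfl | rfl
      · simp
      · rw [← Nat.cast_add, show n + n = 2 * n by ring, ZMod.natCast_self]
    have hneg : -i = i := neg_eq_of_add_eq_zero_left h2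
    rintro (j | j)
    · simp [add_comm]
    · simp only [QuaternionGroup.a_mul_xa, QuaternionGroup.xa_mul_a, QuaternionGroup.xa.injEq]
      rw [sub_eq_add_neg, hneg]
  · intro x hx
    obtain ⟨i, hi, rfl⟩ := (hker x).1 hx
    rcases hf0 i hi with rfl | rfl
    · exact one_mem _
    · rw [commutator_def]
      have hc : (QuaternionGroup.xa (0 : ZMod (2 * n)) : QuaternionGroup n) * QuaternionGroup.a (-(r : ZMod (2 * n))) * (QuaternionGroup.xa 0)⁻¹ * (QuaternionGroup.a (-(r : ZMod (2 * n))))⁻¹ =
          QuaternionGroup.a (n : ZMod (2 * n)) := by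
        have hinv : ∀ j : ZMod (2 * n), (QuaternionGroup.a j)⁻¹ = QuaternionGroup.a (-j) :=
          fun j => inv_eq_of_mul_eq_one_right (by simp [QuaternionGroup.one_def, -QuaternionGroup.a_zero])
        have hxinv : (QuaternionGroup.xa (0 : ZMod (2 * n)))⁻¹ = QuaternionGroup.xa (n : ZMod (2 * n)) :=
          inv_eq_of_mul_eq_one_right (by
            simp [QuaternionGroup.one_def, -QuaternionGroup.a_zero, ← Nat.cast_add, show n + n = 2 * n by ring, ZMod.natCast_self])
        have h2n : (n : ZMod (2 * n)) + n = 0 := by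
          rw [← Nat.cast_add, show n + n = 2 * n by ring, ZMod.natCast_self]
        rw [hinv, hxinv]
        simp only [QuaternionGroup.xa_mul_a, QuaternionGroup.xa_mul_xa, QuaternionGroup.a_mul_a,
          QuaternionGroup.a.injEq]
        have hrz : (n : ZMod (2 * n)) = r + r := by rw [← Nat.cast_add, ← hr]
        linear_combination h2n - hrz
      rw [← hc]
      exact Subgroup.commutator_mem_commutator (Subgroup.mem_top _) (Subgroup.mem_top _)
  · have hne : (0 : ZMod (2 * n)) ≠ (n : ZMod (2 * n)) := by
      intro h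
      have := (ZMod.natCast_eq_zero_iff n (2 * n)).1 h.symm
      have := Nat.le_of_dvd (Nat.pos_of_ne_zero (NeZero.ne n)) this
      have := Nat.pos_of_ne_zero (NeZero.ne n)
      omega
    rw [Nat.card_eq_two_iff]
    refine ⟨⟨1, one_mem _⟩, ⟨QuaternionGroup.a (n : ZMod (2 * n)), (hker _).2 ⟨_, hfn, rfl⟩⟩, ?_, ?_⟩
    · intro h
      have h' := congrArg Subtype.val h
      simp only [QuaternionGroup.one_def, QuaternionGroup.a.injEq] at h'
      exact hne h'
    · rw [Set.eq_univ_iff_forall]
      rintro ⟨x, hx⟩
      obtain ⟨i, hi, rfl⟩ := (hker x).1 hx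
      rcases hf0 i hi with rfl | rfl
      · exact Or.inl (Subtype.ext rfl)
      · exact Or.inr rfl

end Cfsg.Agent.S3966
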