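import Cfsg.Statements.S3965
import Cfsg.Agent.H74.DihedralStem
import Cfsg.Agent.S3966
import Mathlib.Tactic.Linarith

set_option autoImplicit false
open Cfsg

namespace Cfsg.Agent.S3965

/-- For even `n ≥ 2` the dihedral group of order `2 n` has Schur multiplier cyclic of order `2`. -/
theorem result (n : ℕ) [NeZero n] (hn : Even n) : Cfsg.HasCyclicSchurMultiplier (DihedralGroup n) 2 := by
  haveI : Fact (Nat.Prime 2) := ⟨Nat.prime_two⟩
  obtain ⟨σ, hσ, hcard⟩ := Cfsg.Agent.S3966.result n hn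
  refine ⟨⟨QuaternionGroup n, inferInstance, inferInstance, σ, hσ,
    ⟨mulEquivOfPrimeCardEq (p := 2) hcard (by simp)⟩⟩, fun Δ _ _ τ hτ => ?_⟩
  obtain ⟨c, hc, hk⟩ := Cfsg.Agent.H74.Schur.dihedral_stem τ hτ
  obtain ⟨r, rfl⟩ := hn
  refine Cfsg.Agent.H74.Schur.exists_surjective_of_le_zpowers (d := c ^ r) (fun z hz => ?_) ?_
  · obtain ⟨k, rfl, j, hj⟩ := hk z hz
    refine Subgroup.mem_zpowers_iff.2 ⟨j, ?_⟩
    have hk' : k = (r : ℤ) * j := by push_cast at hj; linarith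
    rw [hk', zpow_mul, zpow_natCast]
  · rw [← pow_mul, show r * 2 = r + r by ring, hc]

end Cfsg.Agent.S3965
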