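import Cfsg.Statements.S3967
import Cfsg.Agent.H74.MetaModel
import Mathlib

set_option autoImplicit false
open Cfsg Cfsg.Agent.H74

namespace Cfsg.Agent.S3967

/-- Let `m, n ≥ 1`, `r ≥ 1` with `r ^ n ≡ 1 (mod m)`, and `l` a natural number; put `d = gcd(m, r - 1)`, `t = m l / d` and `h = d · gcd(m, 1 + r + ⋯ + r^(n-1)) / m`. The group presented by generators `a, b` and relations `a ^ m = 1`, `b ^ n = a ^ t`, `b a b⁻¹ = a ^ r` (a metacyclic group of order `m n`) has Schur multiplier cyclic of order `gcd(l, h)`. -/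
theorem result (m n r l : ℕ) (hm : 0 < m) (hn : 0 < n) (hr : 0 < r) (hrn : r ^ n ≡ 1 [MOD m]) : Cfsg.HasCyclicSchurMultiplier (PresentedGroup ({FreeGroup.of true ^ m, (FreeGroup.of false) ^ n * (FreeGroup.of true ^ (m * l / Nat.gcd m (r - 1)))⁻¹, FreeGroup.of false * FreeGroup.of true * (FreeGroup.of false)⁻¹ * (FreeGroup.of true ^ r)⁻¹} : Set (FreeGroup Bool))) (Nat.gcd l (Nat.gcd m (r - 1) * Nat.gcd m (∑ i ∈ Finset.range n, r ^ i) / m)) := by
  set d := Nat.gcd m (r - 1) with hd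
  set S := ∑ i ∈ Finset.range n, r ^ i with hS
  set g := Nat.gcd m S with hg
  have hd0 : 0 < d := Nat.gcd_pos_of_pos_left _ hm
  obtain ⟨u, hu⟩ : d ∣ m := Nat.gcd_dvd_left _ _
  obtain ⟨v, hv⟩ : d ∣ r - 1 := Nat.gcd_dvd_right _ _
  have hr1 : ((r : ℤ) - 1) = d * v := by
    have h1 : ((r - 1 : ℕ) : ℤ) = (r : ℤ) - 1 := by omega
    rw [← h1, hv]; push_cast; ring
  have hgeom : (r : ℤ) ^ n - 1 = (S : ℤ) * ((r : ℤ) - 1) := by
    rw [hS]; push_cast; exact (geom_sum_mul _ _).symm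
  have hmS : (m : ℤ) ∣ (S : ℤ) * ((r : ℤ) - 1) := by
    rw [← hgeom]
    have := Nat.modEq_iff_dvd.1 hrn.symm
    push_cast at this
    exact this
  have huS : u ∣ S := by
    have h1 : (d : ℤ) * u ∣ (d : ℤ) * ((S : ℤ) * v) := by
      have : (m : ℤ) = (d : ℤ) * u := by exact_mod_cast hu
      rw [← this, mul_left_comm, ← hr1]
      exact hmS
    have h2 : u ∣ S * v := by
      have := Int.dvd_of_mul_dvd_mul_left (by exact_mod_cast hd0.ne') h1
      exact_mod_cast this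
    have hco : Nat.Coprime u v := by
      have hu0 : u = m / d := by rw [hu, Nat.mul_div_cancel_left _ hd0]
      have hv0 : v = (r - 1) / d := by rw [hv, Nat.mul_div_cancel_left _ hd0]
      rw [hu0, hv0]
      exact Nat.coprime_div_gcd_div_gcd hd0
    exact hco.dvd_of_dvd_mul_right h2
  have hu0 : 0 < u := by
    rcases Nat.eq_zero_or_pos u with h | h
    · rw [h, mul_zero] at hu; omega
    · exact h
  obtain ⟨h, hgh⟩ : u ∣ g := Nat.dvd_gcd ⟨d, by rw [hu]; ring⟩ huS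
  have hh : d * g / m = h := by
    rw [hgh, hu, ← mul_assoc, Nat.mul_div_cancel_left _ (Nat.mul_pos hd0 hu0)]
  have ht : m * l / d = u * l := by rw [hu, mul_assoc, Nat.mul_div_cancel_left _ hd0]
  rw [hh, ht]
  set e := Nat.gcd l h with he
  have he0 : 0 < e := by
    refine Nat.gcd_pos_of_pos_right _ ?_
    rcases Nat.eq_zero_or_pos h with h1 | h1
    · rw [h1, mul_zero] at hgh
      have := Nat.gcd_pos_of_pos_left S hm
      omega
    · exact h1
  have hed : (e : ℤ) ∣ (d : ℤ) := by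
    have : u * h ∣ u * d := hgh ▸ (show g ∣ u * d by rw [mul_comm, ← hu]; exact Nat.gcd_dvd_left _ _)
    exact_mod_cast (Nat.gcd_dvd_right l h).trans (Nat.dvd_of_mul_dvd_mul_left hu0 this)
  obtain ⟨S', hS'⟩ := huS
  have heS : (e : ℤ) ∣ (S' : ℤ) := by
    have : u * h ∣ u * S' := hgh ▸ hS' ▸ Nat.gcd_dvd_right m S
    exact_mod_cast (Nat.gcd_dvd_right l h).trans (Nat.dvd_of_mul_dvd_mul_left hu0 this)
  have hel : (e : ℤ) ∣ (l : ℤ) := by exact_mod_cast Nat.gcd_dvd_left l h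
  obtain ⟨i, w, hiw⟩ : ∃ i w : ℤ, i * v + w * u = 1 := by
    have hu' : u = m / d := by rw [hu, Nat.mul_div_cancel_left _ hd0]
    have hv' : v = (r - 1) / d := by rw [hv, Nat.mul_div_cancel_left _ hd0]
    have hco : Nat.Coprime v u := by rw [hu', hv']; exact (Nat.coprime_div_gcd_div_gcd hd0).symm
    obtain ⟨i, w, h1⟩ := Nat.isCoprime_iff_coprime.2 hco
    exact ⟨i, w, h1⟩
  have hm' : (m : ℤ) = (d : ℤ) * u := by exact_mod_cast hu
  have hSz : (∑ j ∈ Finset.range n, (r : ℤ) ^ j) = (u : ℤ) * S' := by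
    have : (S : ℤ) = (u : ℤ) * S' := by exact_mod_cast hS'
    rw [← this, hS]; push_cast; rfl
  let P : MetaModel.Data :=
    { m := m, n := n, r := r, e := e, i := i, w := w, t := u * l, u := u
      hm := hm, hn := hn, he := he0
      hdef := by
        have : i * ((r : ℤ) - 1) + w * m = d := by
          rw [hr1, hm']; linear_combination (d : ℤ) * hiw
        rw [this]; exact hed
      hpow := ⟨(S' : ℤ) * v, by
          rw [hgeom, hm', hr1, show (S : ℤ) = (u : ℤ) * S' from by exact_mod_cast hS']; ring, by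
          have : i * ((S' : ℤ) * v) + w * ∑ j ∈ Finset.range n, (r : ℤ) ^ j = S' := by
            rw [hSz]; linear_combination (S' : ℤ) * hiw
          rw [this]; exact heS⟩
      hfix := ⟨(v : ℤ) * l, by rw [hm', hr1]; push_cast; ring, by
          have : i * ((v : ℤ) * l) + w * ((u * l : ℕ) : ℤ) = l := by
            push_cast; linear_combination (l : ℤ) * hiw
          rw [this]; exact hel⟩
      hstem := ⟨(v : ℤ), by rw [hm', hr1]; ring, by rw [hiw, sub_self]; exact dvd_zero _⟩ }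
  obtain ⟨Γ, iΓ, fΓ, σ, hσ, hk, hord⟩ := MetaModel.exists_stem P
  refine ⟨⟨Γ, iΓ, fΓ, σ, hσ, hk⟩, fun Δ iΔ fΔ τ hτ => ?_⟩
  obtain ⟨a, ha⟩ := hτ.1 (PresentedGroup.of (rels := MetaModel.metaRels P) true)
  obtain ⟨b, hb⟩ := hτ.1 (PresentedGroup.of (rels := MetaModel.metaRels P) false)
  have hgen : Subgroup.closure ({τ a, τ b} : Set _) = ⊤ := by
    rw [ha, hb]; exact MetaModel.closure_pair P
  have hrel : τ b * τ a * (τ b)⁻¹ = τ a ^ (r : ℤ) := by
    rw [ha, hb, zpow_natCast]; exact MetaModel.rel_ab P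
  set c := b * a * b⁻¹ * a⁻¹ with hc
  have hcm : c ^ (m : ℤ) = 1 := by
    rw [zpow_natCast]; exact Schur.c_pow_order hτ hrel (by rw [ha]; exact MetaModel.rel_a P)
  obtain ⟨hct, hcS⟩ := Schur.c_pow_rel hτ hrel (n := n) (t := u * l)
    (by rw [ha, hb]; exact MetaModel.rel_b P)
  have hcg : c ^ (g : ℤ) = 1 := by
    rw [← orderOf_dvd_iff_zpow_eq_one] at hcm hcS ⊢
    rw [show ((g : ℕ) : ℤ) = Int.gcd (m : ℤ) (∑ j ∈ Finset.range n, (r : ℤ) ^ j) by
      rw [hg, hS, show (∑ j ∈ Finset.range n, (r : ℤ) ^ j) = ((∑ j ∈ Finset.range n, r ^ j : ℕ) : ℤ) by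
        push_cast; rfl, Int.gcd_natCast_natCast]]
    exact Int.dvd_coe_gcd hcm hcS
  have hord' : (c ^ u) ^ e = 1 := by
    have h1 : (c ^ u) ^ l = 1 := by rw [← pow_mul]; exact hct
    have h2 : (c ^ u) ^ h = 1 := by rw [← pow_mul, ← hgh, ← zpow_natCast]; exact hcg
    rw [← orderOf_dvd_iff_pow_eq_one] at h1 h2 ⊢
    exact Nat.dvd_gcd h1 h2
  refine Schur.exists_surjective_of_le_zpowers (d := c ^ u) (fun z hz => ?_) hord'
  obtain ⟨k, rfl, hkd⟩ := Schur.ker_mem fΔ hτ hgen hrel hz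
  rw [ha, hord, hr1] at hkd
  change (m : ℤ) ∣ _ at hkd
  rw [hm', mul_assoc] at hkd
  have hk2 : (u : ℤ) ∣ v * k := Int.dvd_of_mul_dvd_mul_left (by exact_mod_cast hd0.ne') hkd
  have hco : IsCoprime (u : ℤ) (v : ℤ) := ⟨w, i, by linear_combination hiw⟩
  obtain ⟨j, rfl⟩ := hco.dvd_of_dvd_mul_left hk2
  rw [zpow_mul, zpow_natCast]
  exact zpow_mem (Subgroup.mem_zpowers _) _

end Cfsg.Agent.S3967
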