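import Cfsg.Statements.S3970
import Cfsg.Agent.Fusion.Complements

set_option autoImplicit false
open Cfsg

namespace Cfsg.Agent.S3970

/-- Let `G` be a finite group such that for every prime `p` dividing its order, other than the largest such prime, the Sylow `p`-subgroups are abelian and generated by at most two elements, and suppose `12` does not divide the order of `G`. Then `G` is solvable. In particular a group of cube-free order not divisible by `12` is solvable. -/
theorem result {G : Type*} [Group G] [Finite G] (h : ∀ p : ℕ, p.Prime → p ∣ Nat.card G → (∃ q : ℕ, q.Prime ∧ q ∣ Nat.card G ∧ p < q) → ∀ P : Sylow p G, IsMulCommutative (P : Subgroup G) ∧ Group.rank (P : Subgroup G) ≤ 2) (h12 : ¬ 12 ∣ Nat.card G) : Group.IsSolvable G := by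
  suffices H : ∀ (n : ℕ) (K : Subgroup G), Nat.card K = n →
      (∀ p : ℕ, p.Prime → p ∣ Nat.card K → (∃ q : ℕ, q.Prime ∧ q ∣ Nat.card K ∧ p < q) →
        ∀ P : Sylow p G, ∃ _ : IsMulCommutative (P : Subgroup G),
          Nat.card (Fusion.omegaAb p (P : Subgroup G)) ≤ p ^ 2) → Group.IsSolvable K by
    haveI := H _ ⊤ rfl (fun p hp hpG hq P => by
      haveI : Fact p.Prime := ⟨hp⟩
      rw [Subgroup.card_top] at hpG hq
      obtain ⟨hab, hr⟩ := h p hp hpG hq P
      exact ⟨hab, (Nat.le_of_dvd (Nat.pow_pos hp.pos) Fusion.card_omegaAb_dvd).trans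
        (Nat.pow_le_pow_right hp.pos hr)⟩)
    exact solvable_of_surjective (f := (Subgroup.topEquiv (G := G)).toMonoidHom)
      (Subgroup.topEquiv (G := G)).surjective
  intro n
  induction n using Nat.strong_induction_on with
  | _ n ih =>
  intro K hn hK
  subst hn
  by_cases h1 : Nat.card K = 1
  · haveI := (Nat.card_eq_one_iff_unique.mp h1).1
    infer_instance
  set p := (Nat.card K).minFac with hpdef
  have hp : p.Prime := Nat.minFac_prime h1
  haveI : Fact p.Prime := ⟨hp⟩
  have hpK : p ∣ Nat.card K := Nat.minFac_dvd _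
  by_cases hq : ∃ q : ℕ, q.Prime ∧ q ∣ Nat.card K ∧ p < q
  swap
  · have hpg : IsPGroup p K := by
      refine IsPGroup.of_card (n := (Nat.card K).primeFactorsList.length) ?_
      refine Nat.eq_prime_pow_of_unique_prime_dvd Nat.card_pos.ne' fun {q} hq' hqd => ?_
      refine le_antisymm (le_of_not_gt fun hlt => hq ⟨q, hq', hqd, hlt⟩)
        (Nat.minFac_le_of_dvd hq'.two_le hqd)
    haveI := hpg.isNilpotent
    infer_instance
  obtain ⟨R⟩ : Nonempty (Sylow p K) := inferInstance
  obtain ⟨P, hP⟩ := (R.isPGroup'.map K.subtype).exists_le_sylow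
  obtain ⟨hab, hcard⟩ := hK p hp hpK hq P
  have hN : Cfsg.HasNormalPComplement p K := by
    haveI : IsMulCommutative (R : Subgroup K) := by
      refine ⟨⟨fun a b => Subtype.ext (Subtype.ext ?_)⟩⟩
      have := congrArg Subtype.val (mul_comm' (⟨((a : K) : G), hP ⟨a, a.2, rfl⟩⟩ : (P : Subgroup G))
        ⟨((b : K) : G), hP ⟨b, b.2, rfl⟩⟩)
      simpa using this
    obtain ⟨k, hk⟩ := IsPGroup.iff_card.mp R.isPGroup'
    by_cases hk1 : k ≤ 1
    · refine Fusion.hasNormalPComplement_of_abelian_small R (r := 1) ?_ ?_
      · refine (Subgroup.card_le_of_le Fusion.omegaAb_le).trans ?_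
        rw [hk]
        exact Nat.pow_le_pow_right hp.pos hk1
      · intro t ht htp htK i hi1 hi2 htd
        interval_cases i
        rw [pow_one] at htd
        have := Nat.le_of_dvd (by have := hp.two_le; omega) htd
        have := Nat.minFac_le_of_dvd ht.two_le htK
        omega
    refine Fusion.hasNormalPComplement_of_abelian_small R (r := 2) ?_ ?_
    · refine le_trans ?_ hcard
      rw [← Subgroup.card_map_of_injective K.subtype_injective]
      refine Subgroup.card_le_of_le ?_
      rintro _ ⟨x, hx, rfl⟩
      obtain ⟨hx1, hx2⟩ := Fusion.mem_omegaAb.mp hx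
      exact Fusion.mem_omegaAb.mpr ⟨hP ⟨x, hx1, rfl⟩, congrArg Subtype.val hx2⟩
    · intro s hs hsp hsK i hi1 hi2 hsd
      have hps : p < s := lt_of_le_of_ne (Nat.minFac_le_of_dvd hs.two_le hsK) (Ne.symm hsp)
      have hp2 := hp.two_le
      interval_cases i
      · rw [pow_one] at hsd
        have := Nat.le_of_dvd (by omega) hsd
        omega
      · rw [show p ^ 2 - 1 = (p + 1) * (p - 1) by rw [← Nat.sq_sub_sq, one_pow]] at hsd
        rcases hs.dvd_mul.mp hsd with h3 | h3
        · have hs1 : s = p + 1 := by
            have := Nat.le_of_dvd (by omega) h3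
            omega
          have hp22 : p = 2 := by
            rcases hp.eq_two_or_odd' with h4 | h4
            · exact h4
            · exfalso
              have h5 : Even s := hs1 ▸ h4.add_one
              have := hs.even_iff.mp h5
              omega
          apply h12
          have h6 : 4 ∣ Nat.card G := by
            refine dvd_trans ?_ ((R : Subgroup K).card_subgroup_dvd_card.trans
              K.card_subgroup_dvd_card)
            rw [hk, hp22]
            exact (show 4 = 2 ^ 2 from rfl) ▸ Nat.pow_dvd_pow 2 (by omega)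
          exact Nat.Coprime.mul_dvd_of_dvd_of_dvd (m := 4) (n := 3) (by norm_num) h6
            ((show s = 3 by omega) ▸ hsK.trans K.card_subgroup_dvd_card)
        · have := Nat.le_of_dvd (by omega) h3
          omega
  set N := Cfsg.pResidual p K with hNdef
  haveI : Group.IsSolvable (K ⧸ N) := by
    haveI := (Fusion.isPGroup_quotient_pResidual (p := p) (G := K)).isNilpotent
    infer_instance
  have hNlt : Nat.card (N.map K.subtype) < Nat.card K := by
    rw [Subgroup.card_map_of_injective K.subtype_injective]
    refine lt_of_le_of_ne N.card_le_card_group fun he => ?_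
    exact Fusion.hasNormalPComplement_iff_pResidual.mp hN (he.symm ▸ hpK)
  have hNsub : ∀ q, q ∣ Nat.card (N.map K.subtype) → q ∣ Nat.card K := fun q hq' =>
    hq'.trans (Subgroup.card_dvd_of_le (Subgroup.map_subtype_le N))
  haveI := ih _ hNlt (N.map K.subtype) rfl (fun q hq' hqd ⟨t, ht, htd, hlt⟩ P =>
    hK q hq' (hNsub q hqd) ⟨t, ht, hNsub t htd, hlt⟩ P)
  haveI : Group.IsSolvable N := solvable_of_surjective
    (f := (N.equivMapOfInjective K.subtype K.subtype_injective).symm.toMonoidHom)
    (N.equivMapOfInjective K.subtype K.subtype_injective).symm.surjective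
  exact solvable_of_ker_le_range N.subtype (QuotientGroup.mk' N) (by simp)

end Cfsg.Agent.S3970
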