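import Cfsg.Statements.S3971
import Cfsg.Agent.Fusion.Complements
import Cfsg.Agent.Coprime.Centralize
import Cfsg.Agent.PGroups.Basic

set_option autoImplicit false
open Cfsg

namespace Cfsg.Agent.S3971

/-- Let `G` be a finite group of order `2 ^ a * n` with `n` odd and not divisible by `3`, and suppose `G` has an element of order `2 ^ (a - 1)` (so a Sylow `2`-subgroup has a cyclic subgroup of index at most `2`). Then `G` has a normal subgroup of order `n`. -/
theorem result {G : Type*} [Group G] [Finite G] (a n : ℕ) (hG : Nat.card G = 2 ^ a * n) (hn : Odd n) (h3 : ¬ 3 ∣ n) (hx : ∃ x : G, orderOf x = 2 ^ (a - 1)) : ∃ N : Subgroup G, N.Normal ∧ Nat.card N = n := by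
  haveI : Fact (Nat.Prime 2) := ⟨Nat.prime_two⟩
  obtain ⟨x, hx⟩ := hx
  have hxp : IsPGroup 2 (Subgroup.zpowers x) :=
    IsPGroup.of_card (n := a - 1) (by rw [Nat.card_zpowers, hx])
  obtain ⟨P, hxP⟩ := hxp.exists_le_sylow
  have hn2 : ¬ 2 ∣ n := hn.not_two_dvd_nat
  have hPcard : Nat.card (P : Subgroup G) = 2 ^ a := by
    rw [P.card_eq_multiplicity, hG]
    congr 1
    have hn0 : n ≠ 0 := fun h => hn2 (h ▸ dvd_zero 2)
    rw [Nat.factorization_mul (pow_ne_zero a two_ne_zero) hn0, Finsupp.add_apply,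
      Nat.prime_two.factorization_pow, Finsupp.single_eq_same,
      Nat.factorization_eq_zero_of_not_dvd hn2, add_zero]
  have hnpc : Cfsg.HasNormalPComplement 2 G := by
    refine (Fusion.frobenius_criterion P).mpr fun Q hQ g hg hgp => ?_
    have hQp : IsPGroup 2 Q := P.isPGroup'.to_le hQ
    set Φ := frattini Q
    -- a cyclic subgroup of index at most two
    set D := (Subgroup.zpowers x).subgroupOf Q
    have hD2 : D.index ≤ 2 := by
      have h1 : (Subgroup.zpowers x).relIndex Q ≤ (Subgroup.zpowers x).relIndex (P : Subgroup G) :=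
        Subgroup.relIndex_le_of_le_right hQ Subgroup.index_ne_zero_of_finite
      refine le_trans h1 ?_
      have h2 := Subgroup.relIndex_mul_relIndex ⊥ (Subgroup.zpowers x) (P : Subgroup G) bot_le hxP
      rw [Subgroup.relIndex_bot_left, Subgroup.relIndex_bot_left, hPcard, Nat.card_zpowers, hx] at h2
      rcases Nat.eq_zero_or_pos a with ha | ha
      · subst ha; rw [Nat.zero_sub, pow_zero, one_mul] at h2; omega
      · have h3 : (Subgroup.zpowers x).relIndex (P : Subgroup G) = 2 := by
          refine Nat.eq_of_mul_eq_mul_left (Nat.two_pow_pos (a - 1)) ?_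
          rw [h2, ← pow_succ]; congr 1; omega
        omega
    haveI : IsCyclic D := isCyclic_of_injective
      ((Q.subtype.comp D.subtype).codRestrict (Subgroup.zpowers x) fun d => d.2)
      (fun u v huv => Subtype.ext (Subtype.ext (congrArg Subtype.val huv :)))
    obtain ⟨d, hd⟩ := IsCyclic.exists_generator (α := D)
    have hsq : ∀ y : Q ⧸ Φ, y * y = 1 := by
      intro y
      obtain ⟨y, rfl⟩ := QuotientGroup.mk'_surjective Φ y
      rw [← map_mul, ← sq]
      exact (QuotientGroup.eq_one_iff _).mpr (PGroups.pow_mem_frattini hQp y)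
    obtain ⟨t, ht⟩ : ∃ t : Q, ∀ y : Q, y ∈ D ∨ t⁻¹ * y ∈ D := by
      by_cases hall : ∀ y : Q, y ∈ D
      · exact ⟨1, fun y => Or.inl (hall y)⟩
      simp only [not_forall] at hall
      obtain ⟨t, ht⟩ := hall
      have hD : D.index = 2 := by
        have h4 : D.index ≠ 1 := fun h5 => ht (by
          rw [Subgroup.index_eq_one.mp h5]; exact Subgroup.mem_top t)
        have h5 : D.index ≠ 0 := Subgroup.index_ne_zero_of_finite
        omega
      refine ⟨t, fun y => ?_⟩
      by_cases hy : y ∈ D
      · exact Or.inl hy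
      · right
        rw [Subgroup.mul_mem_iff_of_index_two hD, inv_mem_iff]
        exact iff_of_false ht hy
    have hcard : Nat.card (Q ⧸ Φ) ≤ 4 := by
      refine le_trans (Nat.card_le_card_of_surjective
        (fun e : Bool × Bool => (if e.1 then (QuotientGroup.mk' Φ t) else 1) *
          (if e.2 then QuotientGroup.mk' Φ (d : Q) else 1)) fun y => ?_) (by simp)
      obtain ⟨y, rfl⟩ := QuotientGroup.mk'_surjective Φ y
      have hDim : ∀ z ∈ D, ∃ e : Bool, (if e then QuotientGroup.mk' Φ (d : Q) else 1) =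
          QuotientGroup.mk' Φ z := by
        intro z hz
        obtain ⟨k, hk⟩ := hd ⟨z, hz⟩
        have hkz : z = (d : Q) ^ k := (congrArg Subtype.val hk).symm
        have h2 : (QuotientGroup.mk' Φ (d : Q)) ^ (2 : ℤ) = 1 := by
          rw [zpow_two]; exact hsq _
        rcases Int.even_or_odd' k with ⟨j, rfl | rfl⟩
        · refine ⟨false, ?_⟩
          rw [hkz, map_zpow, zpow_mul, h2, one_zpow]; simp
        · refine ⟨true, ?_⟩
          rw [hkz, map_zpow, zpow_add, zpow_mul, h2, one_zpow, one_mul, zpow_one]; simp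
      rcases ht y with hy | hy
      · obtain ⟨e, he⟩ := hDim y hy
        exact ⟨(false, e), by simpa using he⟩
      · obtain ⟨e, he⟩ := hDim _ hy
        refine ⟨(true, e), ?_⟩
        simp only [if_true]
        rw [he, map_mul, map_inv, mul_inv_cancel_left]
    have hfix : ∀ (b : MulAut Q) (z : Q), z ∈ Φ ↔ b z ∈ Φ := fun b z =>
      ((SetLike.ext_iff.mp ((inferInstance : Φ.Characteristic).fixed b)) z).symm
    let F : MulAut Q →* Equiv.Perm (Q ⧸ Φ) :=
      { toFun := fun b => Quotient.congr b.toEquiv fun u v => by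
          rw [QuotientGroup.leftRel_apply, QuotientGroup.leftRel_apply, hfix b]
          simp
        map_one' := Equiv.ext fun y => Quotient.inductionOn' y fun z => rfl
        map_mul' := fun b c => Equiv.ext fun y => Quotient.inductionOn' y fun z => rfl }
    set α := H62.conjAut Q hg
    have hσ : F α = 1 := by
      rw [← orderOf_eq_one_iff]
      have hα : orderOf (F α) ∣ orderOf g :=
        (orderOf_map_dvd F α).trans (orderOf_dvd_of_pow_eq_one (H62.conjAut_pow_orderOf Q hg))
      have h24 : orderOf (F α) ∣ 24 := by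
        refine dvd_trans (orderOf_dvd_natCard _) ?_
        rw [Nat.card_perm]
        exact (Nat.factorial_dvd_factorial hcard).trans (by rfl)
      have hg3 : (orderOf g).Coprime 3 := by
        refine Nat.Coprime.coprime_dvd_left ?_ (Nat.prime_three.coprime_iff_not_dvd.mpr h3).symm
        exact (hgp.pow_right a).dvd_of_dvd_mul_left (hG ▸ orderOf_dvd_natCard g)
      exact Nat.eq_one_of_dvd_coprimes ((hgp.pow_right 3).mul_right hg3) hα h24
    refine Coprime.le_centralizer_of_frattini (A := Subgroup.zpowers g)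
      (Subgroup.zpowers_le.mpr hg) ?_ ?_ (Subgroup.mem_zpowers g)
    · obtain ⟨k, hk⟩ := IsPGroup.iff_card.mp (hQp.to_subgroup (frattini Q))
      rw [Nat.card_zpowers, hk]
      exact hgp.pow_right k
    · rintro _ ⟨j, rfl⟩ k hk
      have h5 : F (α ^ j) = 1 := by rw [map_zpow, hσ, one_zpow]
      have h6 : ((α ^ j) ⟨k, hk⟩ : Q ⧸ Φ) = ((⟨k, hk⟩ : Q) : Q ⧸ Φ) :=
        DFunLike.congr_fun h5 ((⟨k, hk⟩ : Q) : Q ⧸ Φ)
      have hmem : g ^ j ∈ Subgroup.normalizer (Q : Set G) := zpow_mem hg j
      have h7 : α ^ j = H62.conjAut Q hmem := by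
        change (Q.normalizerMonoidHom ⟨g, hg⟩) ^ j = Q.normalizerMonoidHom ⟨g ^ j, hmem⟩
        rw [← map_zpow]
        rfl
      rw [h7, QuotientGroup.eq_iff_div_mem, div_eq_mul_inv] at h6
      exact ⟨_, h6, by simp [H62.conjAut_coe]⟩
  obtain ⟨N, hN, hc⟩ := (Fusion.hasNormalPComplement_iff_exists P).mp hnpc
  refine ⟨N, hN, Nat.eq_of_mul_eq_mul_right (Nat.two_pow_pos a) ?_⟩
  rw [mul_comm n, ← hG, ← hc.card_mul_card, hPcard]

end Cfsg.Agent.S3971
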