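import Cfsg.Statements.S3973
import Cfsg.Agent.H74.SchurFree
import Mathlib

set_option autoImplicit false
open Cfsg Cfsg.Agent.H74.Schur
open scoped IsMulCommutative

namespace Cfsg.Agent.S3973

/-- If a finite group is presented by `n` generators and a finite set of `r` relators, then its Schur multiplier can be generated by `r - n` elements. In particular a finite group with a presentation having as many relators as generators has trivial Schur multiplier. -/
theorem result (n : ℕ) (rels : Finset (FreeGroup (Fin n))) [Finite (PresentedGroup (rels : Set (FreeGroup (Fin n))))] {A : Type*} [CommGroup A] [Finite A] (hA : Cfsg.HasSchurMultiplier (PresentedGroup (rels : Set (FreeGroup (Fin n)))) A) : Group.rank A ≤ rels.card - n := by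
  classical
  set π := PresentedGroup.mk (rels : Set (FreeGroup (Fin n))) with hπd
  have hπ : Function.Surjective π := PresentedGroup.mk_surjective _
  have hK : ∀ x ∈ (cextHom π).ker, x ∈ Subgroup.closure
      ((QuotientGroup.mk : FreeGroup (Fin n) → CExt π) '' (rels : Set (FreeGroup (Fin n)))) := by
    intro e he
    induction e using QuotientGroup.induction_on with
    | H x =>
      have hx : x ∈ Subgroup.normalClosure (rels : Set (FreeGroup (Fin n))) :=
        (QuotientGroup.eq_one_iff x).1 he
      let W := Subgroup.closure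
        ((QuotientGroup.mk : FreeGroup (Fin n) → CExt π) '' (rels : Set (FreeGroup (Fin n))))
      have hW : W ≤ (cextHom π).ker := by
        rw [Subgroup.closure_le]
        rintro _ ⟨r, hr, rfl⟩
        show cextHom π (QuotientGroup.mk r) = 1
        rw [cextHom_mk]
        exact (QuotientGroup.eq_one_iff r).2 (Subgroup.subset_normalClosure hr)
      have : W.Normal := normal_of_le_ker W hW
      exact Subgroup.normalClosure_le_normal (N := W.comap (QuotientGroup.mk' _))
        (fun r hr => Subgroup.subset_closure ⟨r, hr, rfl⟩) hx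
  let T := Additive (cextHom π).ker
  let fl : T →ₗ[ℤ] (Fin n →₀ ℤ) := (AddMonoidHom.mk'
      (fun a => Multiplicative.toAdd (cextExp π ((Additive.toMul (a : T) : (cextHom π).ker) : CExt π)))
      fun a b => by simp [T]).toIntLinearMap
  let gen : rels → T := fun r => Additive.ofMul
    ⟨QuotientGroup.mk (r : FreeGroup (Fin n)),
      (QuotientGroup.eq_one_iff _).2 (Subgroup.subset_normalClosure r.2)⟩
  let g : (rels → ℤ) →ₗ[ℤ] T := (Pi.basisFun ℤ rels).constr ℤ gen
  have hg : Function.Surjective g := by
    intro t
    suffices ∀ x ∈ Subgroup.closure ((QuotientGroup.mk : FreeGroup (Fin n) → CExt π) ''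
        (rels : Set (FreeGroup (Fin n)))), ∃ v, ((Additive.toMul (g v) : (cextHom π).ker) : CExt π) = x by
      obtain ⟨v, hv⟩ := this _ (hK _ (Additive.toMul t).2)
      exact ⟨v, Subtype.ext hv⟩
    intro x hx
    induction hx using Subgroup.closure_induction with
    | mem x hx =>
      obtain ⟨r, hr, rfl⟩ := hx
      refine ⟨Pi.basisFun ℤ rels ⟨r, hr⟩, ?_⟩
      simp only [g, Module.Basis.constr_basis]
      rfl
    | one => exact ⟨0, by rw [map_zero]; rfl⟩
    | mul a b _ _ ha hb =>
      obtain ⟨v, rfl⟩ := ha; obtain ⟨w, rfl⟩ := hb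
      exact ⟨v + w, by rw [map_add]; rfl⟩
    | inv a _ ha =>
      obtain ⟨v, rfl⟩ := ha
      exact ⟨-v, by rw [map_neg]; rfl⟩
  let h := fl.comp g
  -- the image has full rank
  obtain ⟨N, hN0, hN⟩ : ∃ N : ℕ, N ≠ 0 ∧ ∀ x, ((N : ℤ) • x) ∈ LinearMap.range h := by
    refine ⟨Nat.card (PresentedGroup (rels : Set (FreeGroup (Fin n)))), Nat.card_pos.ne', fun x => ?_⟩
    induction x using Finsupp.induction_linear with
    | zero => simp
    | add a b ha hb => rw [smul_add]; exact add_mem ha hb
    | single i c =>
      obtain ⟨v, hv⟩ := hg (Additive.ofMul ⟨QuotientGroup.mk (FreeGroup.of i) ^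
        Nat.card (PresentedGroup (rels : Set (FreeGroup (Fin n)))), by
          rw [MonoidHom.mem_ker, map_pow]; exact pow_card_eq_one'⟩)
      refine ⟨c • v, ?_⟩
      rw [LinearMap.map_smul]
      simp only [h, LinearMap.comp_apply, hv]
      simp [fl, cextExp, expSum, T]
      exact mul_comm _ _
  have hrank : n ≤ Module.finrank ℤ (LinearMap.range h) := by
    have hinj : Function.Injective ((((N : ℤ) • (LinearMap.id : (Fin n →₀ ℤ) →ₗ[ℤ] Fin n →₀ ℤ))).codRestrict
        (LinearMap.range h) hN) := by
      intro a b hab
      exact smul_right_injective _ (Nat.cast_ne_zero.2 hN0 : (N : ℤ) ≠ 0) (congrArg Subtype.val hab)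
    simpa [Module.finrank_finsupp_self] using LinearMap.finrank_le_finrank_of_injective hinj
  have hker : Module.finrank ℤ (LinearMap.ker h) ≤ rels.card - n := by
    have h1 := Submodule.finrank_quotient_add_finrank (LinearMap.ker h)
    rw [h.quotKerEquivRange.finrank_eq, Module.finrank_fintype_fun_eq_card, Fintype.card_coe] at h1
    omega
  have : Finite (PresentedGroup (rels : Set (FreeGroup (Fin n)))) := inferInstance
  let b := Module.finBasis ℤ (LinearMap.ker h)
  have hmem : ∀ v : LinearMap.ker h, ((Additive.toMul (g v) : (cextHom π).ker) : CExt π) ∈ mult π := by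
    intro v
    refine Subgroup.mem_inf.2 ⟨(Additive.toMul (g v)).2, (cextExp_eq_one_iff π _).1 ?_⟩
    exact congrArg Multiplicative.ofAdd (LinearMap.mem_ker.1 v.2)
  let gM : LinearMap.ker h →+ Additive (mult π) :=
    AddMonoidHom.mk' (fun v => Additive.ofMul ⟨((Additive.toMul (g v) : (cextHom π).ker) : CExt π), hmem v⟩)
      (fun v w => by
        apply Additive.toMul.injective
        apply Subtype.ext
        simp [T])
  have := commGroup_finite_mult π
  have hM : Group.rank (mult π) ≤ rels.card - n := by
    refine le_trans (Group.rank_le (S := Finset.univ.image fun i => Additive.toMul (gM (b i))) ?_)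
      (le_trans (Finset.card_image_le) (by simpa using hker))
    rw [eq_top_iff]
    intro m _
    obtain ⟨v, hv⟩ := hg (Additive.ofMul ⟨m, mult_le_ker π m.2⟩)
    have hvk : v ∈ LinearMap.ker h := by
      rw [LinearMap.mem_ker, LinearMap.comp_apply, hv]
      exact congrArg Multiplicative.toAdd ((cextExp_eq_one_iff π _).2 (Subgroup.mem_inf.1 m.2).2)
    have hm : gM.toIntLinearMap ⟨v, hvk⟩ = Additive.ofMul m := by
      apply Additive.toMul.injective
      apply Subtype.ext
      show ((Additive.toMul (g v) : (cextHom π).ker) : CExt π) = (m : CExt π)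
      rw [hv]; rfl
    rw [← b.sum_repr ⟨v, hvk⟩, map_sum] at hm
    have hm' := congrArg Additive.toMul hm
    rw [toMul_sum, toMul_ofMul] at hm'
    rw [← hm']
    refine Subgroup.prod_mem _ fun i _ => ?_
    rw [map_zsmul, toMul_zsmul]
    exact Subgroup.zpow_mem _ (Subgroup.subset_closure (by simp)) _
  obtain ⟨e⟩ := mulEquiv_mult π hπ hA
  exact (Group.rank_le_of_surjective e.toMonoidHom e.surjective).trans hM

end Cfsg.Agent.S3973
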