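import Cfsg.Statements.S3977
import Cfsg.Agent.PGroups.TwoGroups
-- import your own Cfsg.Agent.* helpers here

set_option autoImplicit false
open Cfsg

namespace Cfsg.Agent.S3977

open Subgroup

/-- Let `p` be a prime and `G` a group of order `p ^ m` which has exactly one subgroup of order `p ^ s`, where `1 ≤ s < m`, and where `s ≥ 2` if `p = 2`. Then `G` is cyclic. (For `p = 2` and `s = 1` the generalized quaternion groups also occur; that case is the classical criterion for a unique involution.) -/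
theorem result {G : Type*} [Group G] [Finite G] (p m s : ℕ) (hp : p.Prime) (hG : Nat.card G = p ^ m) (hs : 1 ≤ s) (hsm : s < m) (h2 : p ≠ 2 ∨ 2 ≤ s) (huniq : ∀ H K : Subgroup G, Nat.card H = p ^ s → Nat.card K = p ^ s → H = K) : IsCyclic G := by
  haveI := Fact.mk hp
  have hGp := IsPGroup.of_card hG
  obtain ⟨H, hH⟩ := Sylow.exists_subgroup_card_pow_prime p (G := G) (n := s)
    (hG ▸ pow_dvd_pow p hsm.le)
  have hsmall : ∀ x : G, orderOf x ≤ p ^ s → x ∈ H := by
    intro x hx
    obtain ⟨i, hi⟩ := IsPGroup.iff_orderOf.mp hGp x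
    have his : i ≤ s := (Nat.pow_le_pow_iff_right hp.one_lt).mp (hi ▸ hx)
    obtain ⟨K, hK, hxK⟩ := Sylow.exists_subgroup_card_pow_prime_le p (n := i) (m := s)
      (hG ▸ pow_dvd_pow p hsm.le) (zpowers x) (by rw [Nat.card_zpowers, hi]) his
    exact huniq K H hK hH ▸ hxK (mem_zpowers x)
  have hHne : H ≠ ⊤ := fun h => by
    rw [h, Subgroup.card_top, hG] at hH
    exact absurd (Nat.pow_right_injective hp.two_le hH) hsm.ne'
  obtain ⟨x, hx⟩ : ∃ x, x ∉ H := by
    by_contra hall; push Not at hall; exact hHne (eq_top_iff.mpr fun y _ => hall y)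
  obtain ⟨i, hi⟩ := IsPGroup.iff_orderOf.mp hGp x
  have hsi : s < i := by
    by_contra hle
    exact hx (hsmall x (hi ▸ Nat.pow_le_pow_right hp.pos (by omega)))
  have hHx : H ≤ zpowers x := by
    have hord : orderOf (x ^ p ^ (i - s)) = p ^ s := by
      rw [orderOf_pow, hi, Nat.gcd_eq_right (pow_dvd_pow p (Nat.sub_le i s)),
        Nat.pow_div (Nat.sub_le i s) hp.pos, Nat.sub_sub_self hsi.le]
    rw [← huniq (zpowers (x ^ p ^ (i - s))) H (by rw [Nat.card_zpowers, hord]) hH]
    exact zpowers_le.mpr (pow_mem (mem_zpowers x) _)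
  haveI : IsCyclic H := Subgroup.isCyclic_of_le hHx
  haveI : Nontrivial G := Finite.one_lt_card_iff_nontrivial.mp (hG ▸ Nat.one_lt_pow (by omega) hp.one_lt)
  obtain ⟨z, -, hz⟩ := PGroups.exists_orderOf_eq hGp (H := ⊤) top_ne_bot
  have hW : ∀ a : G, a ^ p = 1 → a ∈ zpowers z := by
    intro a ha
    by_cases ha1 : a = 1
    · exact ha1 ▸ one_mem _
    have hps : p ≤ p ^ s := Nat.le_self_pow (by omega) p
    have hao : orderOf a = p := orderOf_eq_prime ha ha1
    obtain ⟨g, hg⟩ := IsCyclic.exists_generator (α := H)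
    classical
    haveI := Fintype.ofFinite H
    by_contra hna
    have hle := IsCyclic.card_pow_eq_one_le (α := H) hp.pos
    have hsub : insert ⟨a, hsmall a (hao ▸ hps)⟩
        ((Finset.range p).image fun j => (⟨z, hsmall z (hz ▸ hps)⟩ : H) ^ j) ⊆ ({y | y ^ p = 1} : Finset H) := by
      intro y hy
      simp only [Finset.mem_insert, Finset.mem_image, Finset.mem_range] at hy
      simp only [Finset.mem_filter, Finset.mem_univ, true_and]
      rcases hy with rfl | ⟨j, -, rfl⟩
      · exact Subtype.ext ha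
      · rw [← pow_mul, mul_comm, pow_mul,
          show (⟨z, hsmall z (hz ▸ hps)⟩ : H) ^ p = 1 from Subtype.ext (hz ▸ pow_orderOf_eq_one z), one_pow]
    have hc := (Finset.card_le_card hsub).trans hle
    rw [Finset.card_insert_of_notMem, Finset.card_image_of_injOn, Finset.card_range] at hc
    · omega
    · intro j hj k hk hjk
      have : z ^ j = z ^ k := congrArg Subtype.val hjk
      exact pow_injOn_Iio_orderOf (by simpa [hz] using hj) (by simpa [hz] using hk) this
    · simp only [Finset.mem_image, Finset.mem_range, not_exists, not_and]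
      intro j _ hj
      exact hna ⟨(j : ℤ), by
        simpa [zpow_natCast] using (congrArg Subtype.val hj : ((⟨z, hsmall z (hz ▸ hps)⟩ : H) ^ j : H).1 = a)⟩
  have hz' : Nat.card (zpowers z) = p := by rw [Nat.card_zpowers, hz]
  by_contra hnc
  by_cases hp2 : p = 2
  swap
  · obtain ⟨A, -, hA, hAe, hAc⟩ := PGroups.exists_normal_elementary_sq hGp hp2 hnc
    have := Subgroup.card_le_of_le (fun a ha => hW a (hAe a ha) : A ≤ zpowers z)
    rw [hAc, hz', sq] at this
    nlinarith [hp.two_le]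
  subst hp2
  obtain ⟨k, c, y, hc, hcard, hy, hcase⟩ := PGroups.structure_of_normal_abelian_cyclic hGp hnc
    fun A _ hA => PGroups.isCyclic_of_small_omega hGp hA (zpowers z) (fun a _ ha => hW a ha) hz'.le
  have hs2 : 2 ≤ s := h2.resolve_left (by simp)
  have hs4 : 4 ≤ 2 ^ s := le_trans (by norm_num) (Nat.pow_le_pow_right two_pos hs2)
  have hk : 2 ≤ k := by rcases hcase with ⟨h, -⟩ | ⟨h, -⟩ | ⟨h, -⟩ <;> omega
  have hy4 : orderOf y ≤ 4 := by
    refine orderOf_le_of_pow_eq_one (by norm_num) ?_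
    rw [show (4 : ℕ) = 2 * 2 from rfl, pow_mul]
    rcases hcase with ⟨-, -, h⟩ | ⟨-, -, h⟩ | ⟨-, -, h⟩ <;> rw [h]
    · simp
    · rw [← pow_mul, ← pow_succ, Nat.sub_add_cancel (by omega), ← hc, pow_orderOf_eq_one]
    · simp
  have hyH : y ∈ H := hsmall y (hy4.trans hs4)
  have hd : c ^ 2 ^ (k - 2) ∈ H := hsmall _ (by
    rw [orderOf_pow, hc, Nat.gcd_eq_right (pow_dvd_pow 2 (Nat.sub_le k 2)), Nat.pow_div (Nat.sub_le k 2) two_pos,
      Nat.sub_sub_self hk]
    exact le_trans (by norm_num) hs4)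
  have hcomm : y * c ^ 2 ^ (k - 2) * y⁻¹ = c ^ 2 ^ (k - 2) := by
    rw [PGroups.comm_of_isMulCommutative (inferInstance : IsMulCommutative H) hyH hd, mul_inv_cancel_right]
  have hinv : y * c ^ 2 ^ (k - 2) * y⁻¹ = (c ^ 2 ^ (k - 2))⁻¹ := by
    rcases hcase with ⟨-, h, -⟩ | ⟨-, h, -⟩ | ⟨h3, h, -⟩ <;> rw [← conj_pow, h]
    · rw [inv_pow]
    · rw [inv_pow]
    · obtain ⟨l, rfl⟩ : ∃ l, k = l + 3 := ⟨k - 3, by omega⟩
      rw [show l + 3 - 2 = l + 1 by omega, show l + 3 - 1 = l + 2 by omega, ← pow_mul,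
        eq_inv_iff_mul_eq_one, ← pow_add, ← orderOf_dvd_iff_pow_eq_one, hc]
      refine ⟨2 ^ l, ?_⟩
      have : 1 ≤ 2 ^ (l + 2) := Nat.one_le_two_pow
      zify [this]
      ring
  rw [hcomm, eq_inv_iff_mul_eq_one, ← pow_add, ← orderOf_dvd_iff_pow_eq_one, hc, ← two_mul, ← pow_succ',
    Nat.pow_dvd_pow_iff_le_right one_lt_two] at hinv
  omega

end Cfsg.Agent.S3977
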