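import Cfsg.Statements.S3978
import Cfsg.Agent.H74.SchurLift

set_option autoImplicit false
open Cfsg

namespace Cfsg.Agent.S3978

/-- A finite group `Q` has trivial Schur multiplier if and only if, for every `n`, every homomorphism from `Q` to the projective general linear group (the quotient of `GL n ℂ` by its centre) lifts to a homomorphism into `GL n ℂ`. -/
theorem result {Q : Type*} [Group Q] [Finite Q] : Cfsg.HasCyclicSchurMultiplier Q 1 ↔ ∀ (n : ℕ) (γ : Q →* (GL (Fin n) ℂ ⧸ Subgroup.center (GL (Fin n) ℂ))), ∃ ρ : Q →* GL (Fin n) ℂ, (QuotientGroup.mk' (Subgroup.center (GL (Fin n) ℂ))).comp ρ = γ := by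
  constructor
  · intro h n γ
    haveI : Subsingleton (MonoidHom.id Q).ker :=
      ⟨fun a b => Subtype.ext ((show (a : Q) = 1 from a.2).trans (show (b : Q) = 1 from b.2).symm)⟩
    haveI : Subsingleton (Multiplicative (ZMod 1)) := inferInstanceAs (Subsingleton (Fin 1))
    haveI : Unique (MonoidHom.id Q).ker := uniqueOfSubsingleton 1
    haveI : Unique (Multiplicative (ZMod 1)) := uniqueOfSubsingleton 1
    obtain ⟨ρ, hρ⟩ := Cfsg.Agent.H74.Schur.exists_projective_lift h (MonoidHom.id Q)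
      Cfsg.Agent.H74.Schur.isStemExtension_id ⟨MulEquiv.ofUnique⟩ n γ
    exact ⟨ρ, hρ.trans (MonoidHom.comp_id γ)⟩
  · intro h
    refine Cfsg.Agent.H74.Schur.hasCyclicSchurMultiplier_one fun Δ _ _ σ hσ => ?_
    rw [eq_bot_iff]
    intro z hz
    exact Cfsg.Agent.H74.Schur.eq_one_of_lifts hσ σ (MonoidHom.id_comp σ)
      (fun n γ => by
        obtain ⟨ρ, hρ⟩ := h n γ
        exact ⟨ρ, by rw [hρ, MonoidHom.comp_id]⟩) hz hz

end Cfsg.Agent.S3978
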