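import Cfsg.Statements.S3980
import Cfsg.Agent.H74.SchurApps
import Mathlib.GroupTheory.NoncommCoprod
-- import your own Cfsg.Agent.* helpers here

set_option autoImplicit false
universe u v w
open Cfsg

namespace Cfsg.Agent.S3980


open Cfsg.Agent.H74.Schur
open scoped IsMulCommutative commutatorElement

/-- In a central extension, the multiplier maps onto `ker ⊓ commutator`. -/
theorem exists_hom_range_eq {Q : Type*} [Group Q] [Finite Q] {A : Type*} [CommGroup A]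
    (hA : Cfsg.HasSchurMultiplier Q A) {Δ : Type*} [Group Δ] (τ : Δ →* Q)
    (hs : Function.Surjective τ) (hc : τ.ker ≤ Subgroup.center Δ) :
    ∃ f : A →* Δ, f.range = τ.ker ⊓ commutator Δ := by
  let π := FreeGroup.lift (id : Q → Q)
  have hπ : Function.Surjective π := freeGroup_lift_id_surjective
  obtain ⟨φ, hφ⟩ := exists_lift (π := π) τ hs hc
  obtain ⟨e⟩ := mulEquiv_mult π hπ hA
  refine ⟨(φ.comp (mult π).subtype).comp e.symm.toMonoidHom, ?_⟩
  ext z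
  constructor
  · rintro ⟨a, rfl⟩
    obtain ⟨h1, h2⟩ := (e.symm a).2
    refine ⟨?_, ?_⟩
    · show τ (φ _) = 1
      rw [← MonoidHom.comp_apply, hφ]
      exact h1
    · exact (Subgroup.map_commutator _ _ φ).le.trans (Subgroup.commutator_mono le_top le_top)
        (Subgroup.mem_map_of_mem φ h2)
  · rintro ⟨hz1, hz2⟩
    obtain ⟨c, hc1, rfl⟩ := commutator_le_map_cext hπ hc hφ hz2
    have hc2 : cextHom π c = 1 := by rw [← hφ]; exact hz1
    exact ⟨e ⟨c, hc2, hc1⟩, by simp⟩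

/-- Commutators between a central extension and a group centralising it modulo the centre. -/
theorem commutatorElement_pow_eq_one {Q : Type*} [Group Q] [Finite Q] {Γ : Type*} [Group Γ]
    (P : Subgroup Γ) (τ : P →* Q) (hs : Function.Surjective τ)
    (hc : ∀ z : P, τ z = 1 → (z : Γ) ∈ Subgroup.center Γ) (y : Γ)
    (hy : ∀ x : P, ⁅(x : Γ), y⁆ ∈ Subgroup.center Γ) (x : P) :
    ⁅(x : Γ), y⁆ ^ Nat.card (Abelianization Q) = 1 := by
  let h : P →* Subgroup.center Γ := MonoidHom.mk' (fun x => ⟨⁅(x : Γ), y⁆, hy x⟩) (fun a b => by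
    apply Subtype.ext
    show ⁅(a : Γ) * (b : Γ), y⁆ = ⁅(a : Γ), y⁆ * ⁅(b : Γ), y⁆
    have hb := Subgroup.mem_center_iff.1 (hy b)
    calc ⁅(a : Γ) * (b : Γ), y⁆ = ((a : Γ) * ⁅(b : Γ), y⁆) * ((a : Γ)⁻¹ * ⁅(a : Γ), y⁆) := by
          simp only [commutatorElement_def]; group
      _ = (⁅(b : Γ), y⁆ * (a : Γ)) * ((a : Γ)⁻¹ * ⁅(a : Γ), y⁆) := by rw [hb]
      _ = ⁅(b : Γ), y⁆ * ⁅(a : Γ), y⁆ := by group
      _ = ⁅(a : Γ), y⁆ * ⁅(b : Γ), y⁆ := (hb _).symm)
  have hmem : Abelianization.of (τ x) ^ Nat.card (Abelianization Q) = 1 := pow_card_eq_one'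
  rw [← map_pow, ← map_pow, ← MonoidHom.mem_ker, Abelianization.ker_of] at hmem
  rw [← map_commutator_of_surjective τ hs] at hmem
  obtain ⟨c, hc', hcx⟩ := hmem
  have hk : c⁻¹ * x ^ Nat.card (Abelianization Q) ∈ h.ker := by
    rw [MonoidHom.mem_ker]
    apply Subtype.ext
    show ⁅((c⁻¹ * x ^ Nat.card (Abelianization Q) : P) : Γ), y⁆ = 1
    refine commutatorElement_eq_one_iff_mul_comm.2 ?_
    refine ((Subgroup.mem_center_iff.1 (hc _ ?_)) y).symm
    rw [map_mul, map_inv, hcx, inv_mul_cancel]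
  have hcm : c ∈ h.ker := Abelianization.commutator_subset_ker h hc'
  have hx : x ^ Nat.card (Abelianization Q) ∈ h.ker := by
    simpa using mul_mem hcm hk
  rw [MonoidHom.mem_ker, map_pow] at hx
  exact congrArg Subtype.val hx

/-- Let `Q₁` and `Q₂` be finite groups whose commutator quotients have coprime orders, with Schur multipliers `A` and `B`. Then the Schur multiplier of `Q₁ × Q₂` is isomorphic to `A × B`. -/
theorem result {Q₁ : Type u} {Q₂ : Type v} [Group Q₁] [Group Q₂] [Finite Q₁] [Finite Q₂] {A B : Type w} [CommGroup A] [CommGroup B] (hA : Cfsg.HasSchurMultiplier Q₁ A) (hB : Cfsg.HasSchurMultiplier Q₂ B) (hcop : Nat.Coprime (Nat.card (Abelianization Q₁)) (Nat.card (Abelianization Q₂))) : Cfsg.HasSchurMultiplier (Q₁ × Q₂) (A × B) := by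
  classical
  refine ⟨?_, ?_⟩
  · obtain ⟨Γ₁, _, _, σ₁, h₁, ⟨e₁⟩⟩ := hA.1
    obtain ⟨Γ₂, _, _, σ₂, h₂, ⟨e₂⟩⟩ := hB.1
    refine ⟨Γ₁ × Γ₂, inferInstance, inferInstance, σ₁.prodMap σ₂,
      ⟨Function.Surjective.prodMap h₁.1 h₂.1, ?_, ?_⟩,
      ⟨((MulEquiv.subgroupCongr (MonoidHom.ker_prodMap σ₁ σ₂)).trans
        (Subgroup.prodEquiv _ _)).trans (e₁.prodCongr e₂)⟩⟩
    · rintro ⟨a, b⟩ hz
      have hz' : σ₁ a = 1 ∧ σ₂ b = 1 := Prod.mk.injEq .. ▸ (hz : (σ₁ a, σ₂ b) = 1)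
      rw [Subgroup.mem_center_iff]
      exact fun g => Prod.ext (Subgroup.mem_center_iff.1 (h₁.2.1 hz'.1) g.1)
        (Subgroup.mem_center_iff.1 (h₂.2.1 hz'.2) g.2)
    · rintro ⟨a, b⟩ hz
      have hz' : σ₁ a = 1 ∧ σ₂ b = 1 := Prod.mk.injEq .. ▸ (hz : (σ₁ a, σ₂ b) = 1)
      have ha := (Subgroup.map_commutator _ _ (MonoidHom.inl Γ₁ Γ₂)).le.trans
        (Subgroup.commutator_mono le_top le_top) (Subgroup.mem_map_of_mem _ (h₁.2.2 hz'.1))
      have hb := (Subgroup.map_commutator _ _ (MonoidHom.inr Γ₁ Γ₂)).le.trans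
        (Subgroup.commutator_mono le_top le_top) (Subgroup.mem_map_of_mem _ (h₂.2.2 hz'.2))
      have hab := mul_mem ha hb
      rw [commutator_def]; simpa using hab
  · intro Γ _ _ σ hσ
    let p₁ : Γ →* Q₁ := (MonoidHom.fst Q₁ Q₂).comp σ
    let p₂ : Γ →* Q₂ := (MonoidHom.snd Q₁ Q₂).comp σ
    let P₁ : Subgroup Γ := p₂.ker
    let P₂ : Subgroup Γ := p₁.ker
    let τ₁ : P₁ →* Q₁ := p₁.comp P₁.subtype
    let τ₂ : P₂ →* Q₂ := p₂.comp P₂.subtype
    have hs₁ : Function.Surjective τ₁ := fun q => by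
      obtain ⟨g, hg⟩ := hσ.1 (q, 1)
      exact ⟨⟨g, show (σ g).2 = 1 by rw [hg]⟩, show (σ g).1 = q by rw [hg]⟩
    have hs₂ : Function.Surjective τ₂ := fun q => by
      obtain ⟨g, hg⟩ := hσ.1 (1, q)
      exact ⟨⟨g, show (σ g).1 = 1 by rw [hg]⟩, show (σ g).2 = q by rw [hg]⟩
    have hk₁ : ∀ z : P₁, τ₁ z = 1 → (z : Γ) ∈ σ.ker := fun z hz => Prod.ext hz z.2
    have hk₂ : ∀ z : P₂, τ₂ z = 1 → (z : Γ) ∈ σ.ker := fun z hz => Prod.ext z.2 hz
    have hker : ∀ (x : P₁) (y : P₂), ⁅(x : Γ), (y : Γ)⁆ ∈ σ.ker := by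
      intro x y
      have hx : (σ x).2 = 1 := x.2
      have hy : (σ y).1 = 1 := y.2
      rw [MonoidHom.mem_ker, map_commutatorElement]
      apply Prod.ext <;> simp [commutatorElement_def, hx, hy]
    have hcomm : ∀ (x : P₁) (y : P₂), (x : Γ) * y = y * x := by
      intro x y
      rw [← commutatorElement_eq_one_iff_mul_comm]
      have h1 := commutatorElement_pow_eq_one P₁ τ₁ hs₁ (fun z hz => hσ.2.1 (hk₁ z hz)) y
        (fun x => hσ.2.1 (hker x y)) x
      have h2 := commutatorElement_pow_eq_one P₂ τ₂ hs₂ (fun z hz => hσ.2.1 (hk₂ z hz)) x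
        (fun y => by
          rw [← commutatorElement_inv]
          exact inv_mem (hσ.2.1 (hker x y))) y
      rw [← commutatorElement_inv, inv_pow, inv_eq_one] at h2
      rw [← orderOf_eq_one_iff]
      exact Nat.eq_one_of_dvd_coprimes hcop (orderOf_dvd_of_pow_eq_one h1)
        (orderOf_dvd_of_pow_eq_one h2)
    let m : P₁ × P₂ →* Γ := P₁.subtype.noncommCoprod P₂.subtype hcomm
    have hm : Function.Surjective m := by
      intro g
      obtain ⟨a, ha⟩ := hσ.1 ((σ g).1, 1)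
      have ha2 : a ∈ P₁ := show (σ a).2 = 1 by rw [ha]
      have hb : a⁻¹ * g ∈ P₂ := show (σ (a⁻¹ * g)).1 = 1 by simp [ha]
      exact ⟨(⟨a, ha2⟩, ⟨a⁻¹ * g, hb⟩), show a * (a⁻¹ * g) = g from mul_inv_cancel_left a g⟩
    obtain ⟨f₁, hf₁⟩ := exists_hom_range_eq hA τ₁ hs₁ (fun z hz =>
      Subgroup.mem_center_iff.2 fun g => Subtype.ext (Subgroup.mem_center_iff.1 (hσ.2.1 (hk₁ z hz)) g))
    obtain ⟨f₂, hf₂⟩ := exists_hom_range_eq hB τ₂ hs₂ (fun z hz =>
      Subgroup.mem_center_iff.2 fun g => Subtype.ext (Subgroup.mem_center_iff.1 (hσ.2.1 (hk₂ z hz)) g))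
    have hF : ∀ ab : A × B, m (f₁.prodMap f₂ ab) ∈ σ.ker := by
      rintro ⟨a, b⟩
      show ((f₁ a : Γ) * (f₂ b : Γ)) ∈ σ.ker
      exact mul_mem (hk₁ _ ((hf₁.le ⟨a, rfl⟩).1)) (hk₂ _ ((hf₂.le ⟨b, rfl⟩).1))
    refine ⟨(m.comp (f₁.prodMap f₂)).codRestrict σ.ker hF, ?_⟩
    intro z
    have hz := hσ.2.2 z.2
    rw [← map_commutator_of_surjective m hm] at hz
    obtain ⟨⟨a, b⟩, hab, habz⟩ := hz
    have ha : a ∈ commutator P₁ := by
      have := Subgroup.mem_map_of_mem (MonoidHom.fst P₁ P₂) hab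
      exact (Subgroup.map_commutator _ _ _).le.trans (Subgroup.commutator_mono le_top le_top) this
    have hb : b ∈ commutator P₂ := by
      have := Subgroup.mem_map_of_mem (MonoidHom.snd P₁ P₂) hab
      exact (Subgroup.map_commutator _ _ _).le.trans (Subgroup.commutator_mono le_top le_top) this
    have hσz : σ (a : Γ) * σ (b : Γ) = 1 := by
      rw [← map_mul]
      have habz' : (a : Γ) * (b : Γ) = z := habz
      rw [habz']; exact z.2
    have hat : τ₁ a = 1 := by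
      have h := congrArg Prod.fst hσz
      have hb1 : (σ (b : Γ)).1 = 1 := b.2
      show (σ (a : Γ)).1 = 1
      simpa [hb1] using h
    have hbt : τ₂ b = 1 := by
      have h := congrArg Prod.snd hσz
      have ha1 : (σ (a : Γ)).2 = 1 := a.2
      show (σ (b : Γ)).2 = 1
      simpa [ha1] using h
    obtain ⟨α, hα⟩ := hf₁.ge ⟨hat, ha⟩
    obtain ⟨β, hβ⟩ := hf₂.ge ⟨hbt, hb⟩
    refine ⟨(α, β), Subtype.ext ?_⟩
    show m (f₁ α, f₂ β) = z
    rw [hα, hβ]
    exact habz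

end Cfsg.Agent.S3980
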