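import Cfsg.Statements.S3981
import Cfsg.Agent.H74.LocalTI

set_option autoImplicit false
open Cfsg Cfsg.Agent.H74

namespace Cfsg.Agent.S3981

/-- Let p be an odd prime, Q a p-subgroup of the finite group G and y an involution normalizing Q. Then Q is maximal among the p-subgroups of G normalized by y if and only if the image of y in N_G(Q) ⧸ Q neither inverts nor centralizes any element of order p there; the latter is phrased inside N_G(Q): for every x in N_G(Q) outside Q with x ^ p ∈ Q, neither y x y⁻¹ x nor y x y⁻¹ x⁻¹ lies in Q. -/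
theorem result {G : Type*} [Group G] [Finite G] (p : ℕ) [Fact p.Prime] (hp2 : p ≠ 2) (Q : Subgroup G) (hQ : IsPGroup p ↥Q) (y : G) (hy : orderOf y = 2) (hyQ : y ∈ Subgroup.normalizer (Q : Set G)) : (∀ R : Subgroup G, IsPGroup p ↥R → Q ≤ R → y ∈ Subgroup.normalizer (R : Set G) → R = Q) ↔ ∀ x : G, x ∈ Subgroup.normalizer (Q : Set G) → x ∉ Q → x ^ p ∈ Q → (y * x * y⁻¹ * x ∉ Q ∧ y * x * y⁻¹ * x⁻¹ ∉ Q) := by
  classical
  have hp : p.Prime := Fact.out
  set N := Subgroup.normalizer (Q : Set G) with hN
  have hQN : Q ≤ N := Subgroup.le_normalizer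
  have hy2 : y * y = 1 := by rw [← sq, ← hy, pow_orderOf_eq_one]
  set π := QuotientGroup.mk' (Q.subgroupOf N) with hπ
  constructor
  · intro hmax x hx hxQ hxp
    have key : y * x * y⁻¹ ∈ Q ⊔ Subgroup.zpowers x → False := by
      intro h
      apply hxQ
      have hR : IsPGroup p ↥(Q ⊔ Subgroup.zpowers x) := isPGroup_sup_zpowers p Q hQ x hx hxp
      have hy' : y ∈ Subgroup.normalizer ((Q ⊔ Subgroup.zpowers x : Subgroup G) : Set G) := by
        apply mem_normalizer_of_conj fun z hz => ?_
        have hle : Q ⊔ Subgroup.zpowers x ≤ (Q ⊔ Subgroup.zpowers x).comap (MulAut.conj y).toMonoidHom := by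
          refine sup_le (fun q hq => ?_) ((Subgroup.zpowers_le).2 (by simpa using h))
          exact Subgroup.mem_sup_left ((Subgroup.mem_normalizer_iff.1 hyQ q).1 hq)
        simpa using hle hz
      rw [← hmax _ hR le_sup_left hy']
      exact Subgroup.mem_sup_right (Subgroup.mem_zpowers x)
    have hb : ∀ u, y * x * y⁻¹ * u ∈ Q → u ∈ Subgroup.zpowers x → False := fun u h hu =>
      key (by
        have := mul_mem (Subgroup.mem_sup_left h : _ ∈ Q ⊔ Subgroup.zpowers x)
          (inv_mem (Subgroup.mem_sup_right hu))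
        simpa using this)
    exact ⟨fun h => hb x h (Subgroup.mem_zpowers x),
      fun h => hb x⁻¹ h (inv_mem (Subgroup.mem_zpowers x))⟩
  · intro hno R hR hQR hyR
    by_contra hne
    have hlt : Q.subgroupOf R < Subgroup.normalizer ((Q.subgroupOf R : Subgroup R) : Set R) := by
      have := hR.isNilpotent
      apply Group.normalizerCondition_of_isNilpotent
      rw [lt_top_iff_ne_top, Ne, Subgroup.subgroupOf_eq_top]
      exact fun h => hne (le_antisymm h hQR)
    obtain ⟨r, hr, hrQ⟩ := SetLike.exists_of_lt hlt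
    have hrN : (r : G) ∈ N := by
      apply mem_normalizer_of_conj fun z hz => ?_
      exact (Subgroup.mem_normalizer_iff.1 hr ⟨z, hQR hz⟩).1 hz
    set T : Subgroup (N ⧸ Q.subgroupOf N) := (R.subgroupOf N).map π with hT
    have hTp : IsPGroup p ↥T := ((hR.comap_of_injective _ N.subtype_injective)).map π
    have hmk : ∀ v : N, π v = 1 ↔ (v : G) ∈ Q := fun v => QuotientGroup.eq_one_iff v
    have : Nontrivial T := by
      refine ⟨⟨⟨π ⟨r, hrN⟩, _, r.2, rfl⟩, 1, fun h => hrQ ?_⟩⟩
      exact (hmk _).1 (congrArg Subtype.val h)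
    have := hTp.center_nontrivial
    obtain ⟨c, hc⟩ := exists_prime_orderOf_dvd_card' (G := Subgroup.center T) p
      (by obtain ⟨n, hn, hcard⟩ := (hTp.to_subgroup (Subgroup.center T)).nontrivial_iff_card.1 this
          rw [hcard]; exact dvd_pow_self p hn.ne')
    obtain ⟨v, hvR, hv⟩ := ((c : T) : N ⧸ Q.subgroupOf N) |> fun _ => (c : T).2
    set yN : N := ⟨y, hyQ⟩
    have hv'R : yN * v * yN⁻¹ ∈ R.subgroupOf N := (Subgroup.mem_normalizer_iff.1 hyR v).1 hvR
    have hcomm : Commute (π v) (π (yN * v * yN⁻¹)) := by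
      have := congrArg Subtype.val ((Subgroup.mem_center_iff.1 c.2) ⟨_, _, hv'R, rfl⟩)
      simp only [Subgroup.coe_mul] at this
      rw [← hv] at this
      exact this.symm
    have hc1 : (π v) ^ p = 1 := by
      have := congrArg (fun t : Subgroup.center T => ((t : T) : N ⧸ Q.subgroupOf N)) (hc ▸ pow_orderOf_eq_one c)
      simpa [hv] using this
    have hvQ : (v : G) ∉ Q := by
      intro h
      have h1 : ((c : T) : N ⧸ Q.subgroupOf N) = 1 := by rw [← hv]; exact (hmk v).2 h
      have : c = 1 := by apply Subtype.ext; apply Subtype.ext; simpa using h1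
      rw [this, orderOf_one] at hc
      exact hp.ne_one hc.symm
    have hvp : (v : G) ^ p ∈ Q := by
      have := (hmk (v ^ p)).1 (by rw [map_pow]; exact hc1)
      simpa using this
    set w : N := v * (yN * v * yN⁻¹) with hw
    by_cases hwQ : (w : G) ∈ Q
    · refine (hno v v.2 hvQ hvp).1 ?_
      have h1 := (hmk w).2 hwQ
      rw [hw, map_mul, hcomm.eq, ← map_mul] at h1
      simpa [yN, mul_assoc] using (hmk _).1 h1
    · have hwp : (w : G) ^ p ∈ Q := by
        have h1 : π (w ^ p) = 1 := by
          rw [map_pow, hw, map_mul, hcomm.mul_pow, hc1, one_mul, map_mul, map_mul, map_inv, conj_pow, hc1]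
          simp
        simpa using (hmk _).1 h1
      refine (hno w w.2 hwQ hwp).2 ?_
      have h2 : yN * w * yN⁻¹ * w⁻¹ = yN * v * yN⁻¹ * v * (yN * v * yN⁻¹)⁻¹ * v⁻¹ := by
        have hyy : yN * yN = 1 := Subtype.ext hy2
        have hyi : yN⁻¹ = yN := inv_eq_of_mul_eq_one_right hyy
        rw [hw]; simp only [mul_assoc, hyi]
        rw [show ∀ t : N, yN * (yN * t) = t from fun t => by rw [← mul_assoc, hyy, one_mul]]
        simp [mul_assoc, hyi, hyy]
      have h3 : π (yN * v * yN⁻¹ * v * (yN * v * yN⁻¹)⁻¹ * v⁻¹) = 1 := by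
        have hab : ∀ a b : N, Commute (π a) (π b) → π (a * b * a⁻¹ * b⁻¹) = 1 := by
          intro a b h
          simp [map_mul, h.eq]
        exact hab _ _ hcomm.symm
      rw [← h2] at h3
      simpa [yN] using (hmk _).1 h3

end Cfsg.Agent.S3981
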