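import Cfsg.Statements.S3982
import Cfsg.Agent.H74.LocalTI

set_option autoImplicit false
open Cfsg Cfsg.Agent.H74

namespace Cfsg.Agent.S3982

/-- Let p be an odd prime and G a finite group of even order divisible by p in which the centralizer of every non-identity p-element has odd order. If some nontrivial p-subgroup of G has a normalizer of even order, then the normalizer of every Sylow p-subgroup of G has even order. -/
theorem result {G : Type*} [Group G] [Finite G] (p : ℕ) [Fact p.Prime] (hp2 : p ≠ 2) (hpG : p ∣ Nat.card G) (h2G : 2 ∣ Nat.card G) (hC : ∀ g : G, g ≠ 1 → (∃ k : ℕ, orderOf g = p ^ k) → Odd (Nat.card ↥(Subgroup.centralizer ({g} : Set G)))) (Q : Subgroup G) (hQ : IsPGroup p ↥Q) (hQ1 : Q ≠ ⊥) (hev : Even (Nat.card ↥(Subgroup.normalizer (Q : Set G)))) (P : Sylow p G) : Even (Nat.card ↥(Subgroup.normalizer ((P : Subgroup G) : Set G))) := by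
  classical
  have hp : p.Prime := Fact.out
  let 𝒮 : Set (Subgroup G) :=
    {R | IsPGroup p R ∧ Q ≤ R ∧ Even (Nat.card ↥(Subgroup.normalizer (R : Set G)))}
  obtain ⟨R, hRm⟩ := (Set.toFinite 𝒮).exists_maximal ⟨Q, hQ, le_rfl, hev⟩
  obtain ⟨hR, hQR, hRev⟩ := hRm.prop
  suffices hsyl : ∀ T : Sylow p G, R ≤ (T : Subgroup G) → R = (T : Subgroup G) by
    obtain ⟨T, hT⟩ := hR.exists_le_sylow
    obtain ⟨g, rfl⟩ := MulAction.exists_smul_eq G T P
    have := hsyl T hT
    rw [show ((g • T : Sylow p G) : Subgroup G) = (T : Subgroup G).map (MulAut.conj g).toMonoidHom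
      from rfl, ← Subgroup.map_equiv_normalizer_eq (T : Subgroup G) (MulAut.conj g),
      Subgroup.card_map_of_injective (MulAut.conj g).injective, ← this]
    exact hRev
  intro T hRT
  by_contra hne
  set N := Subgroup.normalizer (R : Set G) with hN
  have : Fact (Nat.Prime 2) := ⟨Nat.prime_two⟩
  obtain ⟨t, ht⟩ := exists_prime_orderOf_dvd_card' 2 (even_iff_two_dvd.1 hRev)
  let φ : N →* MulAut R := R.normalizerMonoidHom
  have hφ : ∀ (u : N) (r : R), ((φ u r : R) : G) = (u : G) * r * (u : G)⁻¹ := fun _ _ => rfl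
  have hR1 : R ≠ ⊥ := fun h => hQ1 (le_bot_iff.1 (h ▸ hQR))
  have hfix : ∀ r : R, φ t r = r → r = 1 := by
    intro r hr
    by_contra hr1
    obtain ⟨k, hk⟩ := IsPGroup.iff_orderOf.1 hR r
    have hodd := hC r (by simpa using hr1) ⟨k, by rw [← hk, Subgroup.orderOf_coe]⟩
    have hmem : (t : G) ∈ Subgroup.centralizer ({(r : G)} : Set G) := by
      rw [Subgroup.mem_centralizer_singleton_iff]
      have := congrArg Subtype.val hr
      rw [hφ] at this
      exact mul_inv_eq_iff_eq_mul.1 this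
    have h2 := orderOf_dvd_natCard (⟨(t : G), hmem⟩ : Subgroup.centralizer ({(r : G)} : Set G))
    rw [Subgroup.orderOf_mk, Subgroup.orderOf_coe, ht] at h2
    exact (Nat.not_even_iff_odd.2 hodd) (even_iff_two_dvd.2 h2)
  have hinv : ∀ r : R, φ t r = r⁻¹ := by
    have h1 : MonoidHom.FixedPointFree (φ t).toMonoidHom := hfix
    have h2 : Function.Involutive (φ t).toMonoidHom := by
      intro r
      have : φ t * φ t = 1 := by rw [← map_mul, ← sq, ← ht, pow_orderOf_eq_one, map_one]
      exact congrArg (fun e : MulAut R => e r) this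
    exact fun r => congrFun (h1.coe_eq_inv_of_involutive h2) r
  have hcentral : ∀ u : N, φ t * φ u = φ u * φ t := by
    intro u; ext r
    simp [hinv]
  -- a Sylow subgroup of `N` strictly above `R`
  have hlt : R.subgroupOf (T : Subgroup G) <
      Subgroup.normalizer ((R.subgroupOf (T : Subgroup G) : Subgroup T) : Set T) := by
    have := T.isPGroup'.isNilpotent
    apply Group.normalizerCondition_of_isNilpotent
    rw [lt_top_iff_ne_top, Ne, Subgroup.subgroupOf_eq_top]
    exact fun h => hne (le_antisymm hRT h)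
  obtain ⟨s, hs, hsR⟩ := SetLike.exists_of_lt hlt
  have hsN : (s : G) ∈ N := by
    apply mem_normalizer_of_conj fun z hz => ?_
    exact (Subgroup.mem_normalizer_iff.1 hs ⟨z, hRT hz⟩).1 hz
  set T' : Subgroup N := (T : Subgroup G).subgroupOf N with hT'
  have hT'p : IsPGroup p T' := T.isPGroup'.comap_of_injective _ N.subtype_injective
  obtain ⟨S, hS⟩ := hT'p.exists_le_sylow
  -- `K` is the preimage of the image of `S`: odd order, normalized by `t`
  set K : Subgroup N := ((S : Subgroup N).map φ).comap φ with hK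
  have hSK : (S : Subgroup N) ≤ K := Subgroup.le_comap_map _ _
  have hker : Odd (Nat.card φ.ker) := by
    obtain ⟨r, hr, hr1⟩ := (Subgroup.bot_or_exists_ne_one R).resolve_left hR1
    obtain ⟨k, hk⟩ := IsPGroup.iff_orderOf.1 hR ⟨r, hr⟩
    refine (hC r hr1 ⟨k, by rw [← hk, Subgroup.orderOf_mk]⟩).of_dvd_nat ?_
    have hmem : ∀ u : φ.ker, ((u : N) : G) ∈ Subgroup.centralizer ({r} : Set G) := by
      intro u
      rw [Subgroup.mem_centralizer_singleton_iff]
      have := congrArg (fun e : MulAut R => ((e ⟨r, hr⟩ : R) : G)) (MonoidHom.mem_ker.1 u.2)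
      simp only [hφ, MulAut.one_apply] at this
      exact mul_inv_eq_iff_eq_mul.1 this
    let f : φ.ker →* ↥(Subgroup.centralizer ({r} : Set G)) :=
      { toFun := fun u => ⟨((u : N) : G), hmem u⟩, map_one' := rfl, map_mul' := fun _ _ => rfl }
    exact Subgroup.card_dvd_of_injective f (fun a b h => Subtype.ext (Subtype.ext
      (congrArg (fun c : ↥(Subgroup.centralizer ({r} : Set G)) => (c : G)) h)))
  have hKodd : Odd (Nat.card K) := by
    have hkerK : φ.ker ≤ K := Subgroup.ker_le_comap _ _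
    rw [← Subgroup.relIndex_bot_left, ← Subgroup.relIndex_mul_relIndex ⊥ φ.ker K bot_le hkerK,
      Subgroup.relIndex_bot_left, Nat.odd_mul]
    refine ⟨hker, ?_⟩
    have h1 : φ.ker.relIndex K = Nat.card ((S : Subgroup N).map φ) := by
      rw [Subgroup.relIndex_ker, hK, Subgroup.map_comap_eq,
        inf_eq_right.2 (Subgroup.map_le_range _ _)]
    rw [h1]
    obtain ⟨k, hk⟩ := (S.isPGroup'.map φ).exists_card_eq
    rw [hk]
    exact (hp.odd_of_ne_two hp2).pow
  have hKt : ∀ v ∈ K, t * v * t⁻¹ ∈ K := by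
    intro v hv
    rw [hK, Subgroup.mem_comap, map_mul, map_mul, map_inv, hcentral, mul_inv_cancel_right]
    exact hv
  have htN : t ∈ Subgroup.normalizer (K : Set N) := mem_normalizer_of_conj hKt
  have hSt : ((t • S : Sylow p N) : Subgroup N) ≤ K := by
    intro v hv
    rw [Sylow.coe_subgroup_smul, Subgroup.mem_pointwise_smul_iff_inv_smul_mem] at hv
    have := hKt _ (hSK (by simpa [MulAut.smul_def] using hv : t⁻¹ * v * t ∈ (S : Subgroup N)))
    simpa [mul_assoc] using this
  obtain ⟨k, hk⟩ := MulAction.exists_smul_eq K (S.subtype hSK) ((t • S).subtype hSt)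
  rw [Sylow.smul_subtype] at hk
  have hk' : (k : N) • S = t • S := Sylow.subtype_injective hk
  set w : N := (k : N)⁻¹ * t with hw
  have hwS : w ∈ Subgroup.normalizer ((S : Subgroup N) : Set N) := by
    refine Sylow.smul_eq_iff_mem_normalizer.1 (?_ : w • S = S)
    rw [hw, mul_smul, ← hk', inv_smul_smul]
  have hwev : Even (orderOf w) := by
    by_contra hc
    rw [Nat.not_even_iff_odd] at hc
    obtain ⟨j, hj⟩ := hc
    have hpow : ∀ i : ℕ, ∃ v ∈ K, w ^ i = v * t ^ i := by
      intro i
      induction i with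
      | zero => exact ⟨1, one_mem _, by simp⟩
      | succ i ih =>
        obtain ⟨v, hv, hvi⟩ := ih
        refine ⟨v * (t ^ i * (k : N)⁻¹ * (t ^ i)⁻¹), mul_mem hv ?_, ?_⟩
        · exact (Subgroup.mem_normalizer_iff.1 (pow_mem htN i) _).1 (inv_mem k.2)
        · rw [pow_succ, hvi, hw, pow_succ]; group
    obtain ⟨v, hv, hvj⟩ := hpow (orderOf w)
    rw [pow_orderOf_eq_one, hj, pow_succ, pow_mul, show t ^ 2 = 1 by rw [← ht, pow_orderOf_eq_one],
      one_pow, one_mul] at hvj
    have htK : t ∈ K := by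
      rw [eq_inv_of_mul_eq_one_right hvj.symm]
      exact inv_mem hv
    have h2 := orderOf_dvd_natCard (⟨t, htK⟩ : K)
    rw [Subgroup.orderOf_mk, ht] at h2
    exact (Nat.not_even_iff_odd.2 hKodd) (even_iff_two_dvd.2 h2)
  set S' : Subgroup G := (S : Subgroup N).map N.subtype with hS'
  have hRS' : R ≤ S' := fun r hr => ⟨⟨r, Subgroup.le_normalizer hr⟩, hS (hRT hr), rfl⟩
  have hmem : S' ∈ 𝒮 := by
    refine ⟨S.isPGroup'.map _, hQR.trans hRS', even_iff_two_dvd.2 ?_⟩
    refine (even_iff_two_dvd.1 hwev).trans ?_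
    rw [← Subgroup.orderOf_coe]
    have : (w : G) ∈ Subgroup.normalizer (S' : Set G) :=
      Subgroup.le_normalizer_map N.subtype ⟨w, hwS, rfl⟩
    exact Subgroup.orderOf_dvd_natCard _ this
  exact hsR (hRm.le_of_ge hmem hRS' ⟨⟨s, hsN⟩, hS s.2, rfl⟩)

end Cfsg.Agent.S3982
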