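import Cfsg.Statements.S3983
import Mathlib

set_option autoImplicit false
open scoped Pointwise
open Cfsg

namespace Cfsg.Agent.S3983

/-- Let P be a Sylow p-subgroup of the finite group G that meets each conjugate g P g⁻¹ with g outside N_G(P) trivially, and let U be a subgroup of G of order divisible by p. Then a Sylow p-subgroup Q of U has the same property inside U: Q meets each conjugate u Q u⁻¹ with u ∈ U outside N_U(Q) trivially. -/
theorem result {G : Type*} [Group G] [Finite G] (p : ℕ) [Fact p.Prime] (P : Sylow p G) (hTI : ∀ g : G, g ∉ Subgroup.normalizer ((P : Subgroup G) : Set G) → (P : Subgroup G) ⊓ (MulAut.conj g • (P : Subgroup G)) = ⊥) (U : Subgroup G) (hU : p ∣ Nat.card ↥U) (Q : Sylow p ↥U) : ∀ u : ↥U, u ∉ Subgroup.normalizer ((Q : Subgroup ↥U) : Set ↥U) → (Q : Subgroup ↥U) ⊓ (MulAut.conj u • (Q : Subgroup ↥U)) = ⊥ := by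
  intro u hu
  obtain ⟨R, hR⟩ := (Q.isPGroup'.map U.subtype).exists_le_sylow
  obtain ⟨g, hg⟩ := MulAction.exists_smul_eq G P R
  have hTIR : ∀ x : G, x ∉ Subgroup.normalizer ((R : Subgroup G) : Set G) →
      (R : Subgroup G) ⊓ (MulAut.conj x • (R : Subgroup G)) = ⊥ := by
    intro x hx
    have hgR : (R : Subgroup G) = MulAut.conj g • (P : Subgroup G) := by
      rw [← hg, Sylow.coe_subgroup_smul]
    have hy : g⁻¹ * x * g ∉ Subgroup.normalizer ((P : Subgroup G) : Set G) := fun hy => by
      apply hx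
      refine Sylow.smul_eq_iff_mem_normalizer.1 ?_
      replace hy := Sylow.smul_eq_iff_mem_normalizer.2 hy
      rw [← hg, ← mul_smul]
      have : x * g = g * (g⁻¹ * x * g) := by group
      rw [this, mul_smul, hy]
    have h := congrArg (fun K : Subgroup G => MulAut.conj g • K) (hTI _ hy)
    simp only [Subgroup.smul_inf, Subgroup.smul_bot] at h
    have e : MulAut.conj g • MulAut.conj (g⁻¹ * x * g) • (P : Subgroup G) =
        MulAut.conj x • MulAut.conj g • (P : Subgroup G) := by
      rw [smul_smul, smul_smul, ← map_mul, ← map_mul,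
        show g * (g⁻¹ * x * g) = x * g by group]
    rw [e, ← hgR] at h
    exact h
  by_contra hne
  obtain ⟨⟨v, hv⟩, hv1⟩ := exists_ne_one_of_ne_bot hne
  obtain ⟨hvQ, hvu⟩ := hv
  apply hu
  by_cases huR : (u : G) ∈ Subgroup.normalizer ((R : Subgroup G) : Set G)
  · have hQ : (Q : Subgroup ↥U) = (R : Subgroup G).comap U.subtype := by
      refine (Q.is_maximal' ?_ (Subgroup.map_le_iff_le_comap.1 hR)).symm
      exact R.isPGroup'.comap_of_injective _ U.subtype_injective
    rw [Subgroup.mem_normalizer_iff] at huR ⊢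
    intro z
    rw [hQ]
    exact huR (z : G)
  · exfalso
    have hvR : (v : G) ∈ (R : Subgroup G) := hR ⟨v, hvQ, rfl⟩
    have hvR' : (v : G) ∈ MulAut.conj (u : G) • (R : Subgroup G) := by
      have hvu' := Subgroup.mem_pointwise_smul_iff_inv_smul_mem.1 hvu
      refine Subgroup.mem_pointwise_smul_iff_inv_smul_mem.2 ?_
      have : ((MulAut.conj (u : G))⁻¹ • (v : G)) = (((MulAut.conj u)⁻¹ • v : ↥U) : G) := by simp
      rw [this]
      exact hR ⟨_, hvu', rfl⟩
    have h := hTIR _ huR
    have h2 : (v : G) ∈ (⊥ : Subgroup G) := h ▸ ⟨hvR, hvR'⟩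
    exact hv1 (Subtype.ext (Subtype.ext h2))
where
  exists_ne_one_of_ne_bot {H : Type _} [Group H] {K : Subgroup H} (h : K ≠ ⊥) : ∃ v : K, v ≠ 1 := by
    by_contra hc
    push Not at hc
    exact h ((Subgroup.eq_bot_iff_forall K).2 fun x hx => congrArg Subtype.val (hc ⟨x, hx⟩))

end Cfsg.Agent.S3983
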