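import Cfsg.Statements.S3984
import Cfsg.Agent.H74.LocalTI

set_option autoImplicit false
open scoped Pointwise
open Cfsg Cfsg.Agent.H74

namespace Cfsg.Agent.S3984

/-- Let P be a Sylow p-subgroup of the finite group G that meets each conjugate g P g⁻¹ with g outside N_G(P) trivially, and let N be a normal subgroup of G of order prime to p. Then every Sylow p-subgroup Q of G ⧸ N meets each conjugate x Q x⁻¹ with x outside its normalizer trivially. -/
theorem result {G : Type*} [Group G] [Finite G] (p : ℕ) [Fact p.Prime] (P : Sylow p G) (hTI : ∀ g : G, g ∉ Subgroup.normalizer ((P : Subgroup G) : Set G) → (P : Subgroup G) ⊓ (MulAut.conj g • (P : Subgroup G)) = ⊥) (N : Subgroup G) [N.Normal] (hN : (Nat.card ↥N).Coprime p) (Q : Sylow p (G ⧸ N)) : ∀ x : G ⧸ N, x ∉ Subgroup.normalizer ((Q : Subgroup (G ⧸ N)) : Set (G ⧸ N)) → (Q : Subgroup (G ⧸ N)) ⊓ (MulAut.conj x • (Q : Subgroup (G ⧸ N))) = ⊥ := by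
  classical
  obtain ⟨P', rfl⟩ := Sylow.mapSurjective_surjective (QuotientGroup.mk'_surjective N) p Q
  obtain ⟨g₀, rfl⟩ := MulAction.exists_smul_eq G P P'
  intro x hx
  rw [Subgroup.eq_bot_iff_forall]
  intro q hq0
  obtain ⟨hq1, hq2⟩ := Subgroup.mem_inf.1 hq0
  by_contra hq
  rw [Sylow.coe_mapSurjective] at hq1 hq2 hx
  obtain ⟨g, rfl⟩ := QuotientGroup.mk'_surjective N x
  set R : Subgroup G := ((g₀ • P : Sylow p G) : Subgroup G) with hR
  have hTI' : ∀ h : G, h ∉ Subgroup.normalizer (R : Set G) → R ⊓ MulAut.conj h • R = ⊥ := by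
    intro h hh
    have hh' : g₀⁻¹ * h * g₀ ∉ Subgroup.normalizer ((P : Subgroup G) : Set G) := by
      intro hc; apply hh
      replace hc := Sylow.smul_eq_iff_mem_normalizer.2 hc
      refine Sylow.smul_eq_iff_mem_normalizer.1 (?_ : h • (g₀ • P) = g₀ • P)
      calc h • g₀ • P = g₀ • (g₀⁻¹ * h * g₀) • P := by
            rw [smul_smul, smul_smul]; congr 1; group
        _ = g₀ • P := by rw [hc]
    have := hTI _ hh'
    rw [hR, Sylow.coe_subgroup_smul]
    apply_fun (fun H => MulAut.conj g₀ • H) at this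
    rw [Subgroup.smul_inf, Subgroup.smul_bot, smul_smul, ← map_mul] at this
    rw [smul_smul, ← map_mul]
    convert this using 4
    group
  obtain ⟨a, ha, rfl⟩ := hq1
  have hq2' : ∃ b ∈ R, QuotientGroup.mk' N a = QuotientGroup.mk' N (g * b * g⁻¹) := by
    rw [Subgroup.mem_pointwise_smul_iff_inv_smul_mem] at hq2
    obtain ⟨b, hb, hbe⟩ := hq2
    refine ⟨b, hb, ?_⟩
    simp only [map_inv, MulAut.smul_def, MulAut.inv_apply, MulAut.conj_symm_apply] at hbe
    simp only [map_mul, map_inv]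
    rw [hbe]; group
  obtain ⟨b, hb, hab⟩ := hq2'
  -- work inside K = (g R g⁻¹) N
  set S : Sylow p G := g • (g₀ • P) with hS
  have hSR : ∀ z, z ∈ (S : Subgroup G) ↔ g⁻¹ * z * g ∈ R := by
    intro z
    rw [hS, Sylow.coe_subgroup_smul, Subgroup.mem_pointwise_smul_iff_inv_smul_mem, ← hR]
    simp [MulAut.smul_def]
  set K : Subgroup G := (S : Subgroup G) ⊔ N with hK
  have haK : a ∈ K := by
    have : (g * b * g⁻¹)⁻¹ * a ∈ N := QuotientGroup.eq.1 hab.symm
    have h2 : g * b * g⁻¹ ∈ (S : Subgroup G) := by rw [hSR]; simpa [mul_assoc] using hb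
    have := mul_mem (Subgroup.mem_sup_left h2 : _ ∈ K) (Subgroup.mem_sup_right this : _ ∈ K)
    simpa only [mul_inv_cancel_left] using this
  have hpa : IsPGroup p ↥(Subgroup.zpowers (⟨a, haK⟩ : K)) := by
    have h1 : IsPGroup p ↥(R.subgroupOf K) :=
      ((g₀ • P).isPGroup').comap_of_injective _ K.subtype_injective
    exact h1.to_le (by rw [Subgroup.zpowers_le]; exact ha)
  obtain ⟨T, hT⟩ := hpa.exists_le_sylow
  obtain ⟨k, hk⟩ := MulAction.exists_smul_eq K (S.subtype (le_sup_left : _ ≤ K)) T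
  have hka : (k⁻¹ * ⟨a, haK⟩ * k : K) ∈ (S : Subgroup G).subgroupOf K := by
    have h1 : (⟨a, haK⟩ : K) ∈ (T : Subgroup K) := hT (Subgroup.mem_zpowers _)
    rw [← hk, Sylow.coe_subgroup_smul, Subgroup.mem_pointwise_smul_iff_inv_smul_mem] at h1
    simpa [MulAut.smul_def] using h1
  obtain ⟨s, hs, n, hn, hsn⟩ : ∃ s ∈ (S : Subgroup G), ∃ n ∈ N, (k : G) = n * s := by
    have h : (k : G) ∈ N ⊔ (S : Subgroup G) := (sup_comm (S : Subgroup G) N).le k.2
    rw [← SetLike.mem_coe, Subgroup.normal_mul N (S : Subgroup G)] at h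
    obtain ⟨n, hn, s, hs, h⟩ := h
    exact ⟨s, hs, n, hn, h.symm⟩
  have h3 : n⁻¹ * a * n ∈ (S : Subgroup G) := by
    have h1 : (k : G)⁻¹ * a * k ∈ (S : Subgroup G) := hka
    have := mul_mem (mul_mem hs h1) (inv_mem hs)
    rw [hsn] at this
    simpa [mul_assoc] using this
  have h4 : n * g ∈ Subgroup.normalizer (R : Set G) := by
    by_contra hc
    have h5 : a ∈ R ⊓ MulAut.conj (n * g) • R := by
      refine Subgroup.mem_inf.2 ⟨ha, ?_⟩
      rw [Subgroup.mem_pointwise_smul_iff_inv_smul_mem]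
      rw [hSR] at h3
      simpa [MulAut.smul_def, mul_assoc] using h3
    rw [hTI' _ hc, Subgroup.mem_bot] at h5
    exact hq (by simp [h5])
  apply hx
  have h6 : QuotientGroup.mk' N g = QuotientGroup.mk' N (n * g) := by
    rw [map_mul, (QuotientGroup.eq_one_iff n).2 hn |> fun h => (show QuotientGroup.mk' N n = 1 from h), one_mul]
  rw [h6]
  exact Subgroup.le_normalizer_map _ ⟨n * g, h4, rfl⟩

end Cfsg.Agent.S3984
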