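import Cfsg.Statements.S3985
import Cfsg.Agent.H74.LocalTI

set_option autoImplicit false
open scoped Pointwise
open Cfsg Cfsg.Agent.H74

namespace Cfsg.Agent.S3985

/-- Let P be a cyclic Sylow p-subgroup of the finite group G. Then P meets each conjugate g P g⁻¹ with g outside N_G(P) trivially if and only if P is weakly self-centralizing: C_G(x) = C_G(P) for every non-identity x ∈ P. -/
theorem result {G : Type*} [Group G] [Finite G] (p : ℕ) [Fact p.Prime] (P : Sylow p G) (hcyc : IsCyclic ↥(P : Subgroup G)) : (∀ g : G, g ∉ Subgroup.normalizer ((P : Subgroup G) : Set G) → (P : Subgroup G) ⊓ (MulAut.conj g • (P : Subgroup G)) = ⊥) ↔ ∀ x : G, x ∈ (P : Subgroup G) → x ≠ 1 → Subgroup.centralizer ({x} : Set G) = Subgroup.centralizer ((P : Subgroup G) : Set G) := by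
  classical
  have hp : p.Prime := Fact.out
  have hPp : IsPGroup p ↥(P : Subgroup G) := P.isPGroup'
  have : IsMulCommutative ↥(P : Subgroup G) := IsCyclic.commutative
  have hPC : (P : Subgroup G) ≤ Subgroup.centralizer ((P : Subgroup G) : Set G) :=
    Subgroup.le_centralizer _
  constructor
  · intro hTI x hx hx1
    refine le_antisymm ?_ (Subgroup.centralizer_le (Set.singleton_subset_iff.2 hx))
    intro g hg
    rw [Subgroup.mem_centralizer_singleton_iff] at hg
    have hN : g ∈ Subgroup.normalizer ((P : Subgroup G) : Set G) := by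
      by_contra hc
      have : x ∈ (P : Subgroup G) ⊓ MulAut.conj g • (P : Subgroup G) := by
        refine Subgroup.mem_inf.2 ⟨hx, ?_⟩
        rw [Subgroup.mem_pointwise_smul_iff_inv_smul_mem]
        simpa [MulAut.smul_def, mul_assoc, ← hg] using hx
      rw [hTI g hc, Subgroup.mem_bot] at this
      exact hx1 this
    exact fix_all p P hcyc g hN x hx hx1 hg
  · intro hW g hg
    rw [Subgroup.eq_bot_iff_forall]
    intro z hz0
    obtain ⟨hz, hz'⟩ := Subgroup.mem_inf.1 hz0
    by_contra hz1
    apply hg
    rw [Subgroup.mem_pointwise_smul_iff_inv_smul_mem] at hz'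
    replace hz' : g⁻¹ * z * g ∈ (P : Subgroup G) := by simpa [MulAut.smul_def] using hz'
    have hw1 : g⁻¹ * z * g ≠ 1 := by
      intro h; apply hz1
      calc z = g * (g⁻¹ * z * g) * g⁻¹ := by group
        _ = 1 := by simp [h]
    set C := Subgroup.centralizer ((P : Subgroup G) : Set G) with hC
    have hgC : ∀ c : G, c ∈ C → g * c * g⁻¹ ∈ C := by
      intro c hc
      rw [← hW z hz hz1, Subgroup.mem_centralizer_singleton_iff]
      rw [← hW _ hz' hw1, Subgroup.mem_centralizer_singleton_iff] at hc
      calc g * c * g⁻¹ * z = g * (c * (g⁻¹ * z * g)) * g⁻¹ := by group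
        _ = g * ((g⁻¹ * z * g) * c) * g⁻¹ := by rw [hc]
        _ = z * (g * c * g⁻¹) := by group
    have hle : MulAut.conj g • (P : Subgroup G) ≤ C := by
      intro y hy
      rw [Subgroup.mem_pointwise_smul_iff_inv_smul_mem] at hy
      have := hgC _ (hPC (by simpa [MulAut.smul_def] using hy) : g⁻¹ * y * g ∈ C)
      simpa [mul_assoc] using this
    have hle2 : MulAut.conj g • (P : Subgroup G) ≤ Subgroup.normalizer ((P : Subgroup G) : Set G) := by
      refine hle.trans ?_
      rw [hC]; intro c hc
      rw [Subgroup.mem_normalizer_iff]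
      intro y
      rw [Subgroup.mem_centralizer_iff] at hc
      constructor
      · intro hy
        have := hc y hy
        simpa [← this] using hy
      · intro hy
        have := hc _ hy
        have h2 : c * y * c⁻¹ = y := by
          have h3 : c * y * c⁻¹ = c * (c * y * c⁻¹) * c⁻¹ := by rw [← this]; group
          have h4 := congrArg (fun t => c⁻¹ * t * c) h3
          simp [mul_assoc] at h4
          simpa [mul_assoc] using h4.symm
        rwa [h2] at hy
    have hq : IsPGroup p ↥(MulAut.conj g • (P : Subgroup G)) := (g • P).isPGroup'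
    have := hq.inf_normalizer_sylow P
    have h6 : MulAut.conj g • (P : Subgroup G) ≤ (P : Subgroup G) := fun u hu =>
      (Subgroup.mem_inf.1 (this.le (Subgroup.mem_inf.2 ⟨hu, hle2 hu⟩))).2
    have h5 : g • P = P := Sylow.ext ((g • P).is_maximal' P.isPGroup' h6).symm
    exact Sylow.smul_eq_iff_mem_normalizer.1 h5

end Cfsg.Agent.S3985
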