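-- Statement S3989: products of classes of p-elements and prime power p'-elements being classes
-- forces p-solvability.
import Cfsg.Statements.S3989
import Cfsg.Agent.Cores.PSolvable
import Cfsg.Agent.Fusion.Frobenius
import Cfsg.Agent.Hall.MinimalNormal

set_option autoImplicit false
open Cfsg

namespace Cfsg.Agent.S3989

open Subgroup
open scoped Pointwise

/-- A subgroup containing all prime power elements of `⟨g⟩` contains `g`. -/
theorem mem_of_prime_power_mem {G : Type*} [Group G] [Finite G] (C : Subgroup G) (g : G)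
    (h : ∀ (k : ℕ) (q b : ℕ), q.Prime → q ∣ orderOf g → orderOf (g ^ k) = q ^ b → g ^ k ∈ C) :
    g ∈ C := by
  generalize hn : orderOf g = n at h
  induction n using Nat.strong_induction_on generalizing g with
  | _ n ih =>
    rcases eq_or_ne n 1 with rfl | h1
    · rw [orderOf_eq_one_iff.mp hn]; exact one_mem C
    obtain ⟨q, hq, hqn⟩ := Nat.exists_prime_and_dvd h1
    have hn0 : n ≠ 0 := hn ▸ (orderOf_pos g).ne'
    obtain ⟨v, m, hm, hnm⟩ := Nat.exists_eq_pow_mul_and_not_dvd hn0 q hq.ne_one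
    have hm0 : m ≠ 0 := by rintro rfl; exact hm (dvd_zero q)
    have h1' : g ^ m ∈ C := by
      refine h m q v hq hqn ?_
      rw [orderOf_pow' g hm0, hn, hnm, Nat.gcd_mul_left_left,
        Nat.mul_div_cancel _ (Nat.pos_of_ne_zero hm0)]
    have hord : orderOf (g ^ q ^ v) = m := by
      rw [orderOf_pow' g (pow_ne_zero v hq.ne_zero), hn, hnm, Nat.gcd_mul_right_left,
        Nat.mul_div_cancel_left _ (pow_pos hq.pos v)]
    have hlt : m < n := by
      have hv : v ≠ 0 := by
        rintro rfl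
        exact hm (by simpa [hnm] using hqn)
      rw [hnm]
      exact lt_mul_left (Nat.pos_of_ne_zero hm0) (Nat.one_lt_pow hv hq.one_lt)
    have h2' : g ^ q ^ v ∈ C := by
      refine ih m hlt (g ^ q ^ v) hord fun k r b hr hrd hk => ?_
      rw [← pow_mul] at hk ⊢
      exact h _ r b hr (hrd.trans (hnm ▸ dvd_mul_left m _)) hk
    have hco : Nat.Coprime (q ^ v) m := Nat.Coprime.pow_left v (hq.coprime_iff_not_dvd.mpr hm)
    have hb := Nat.gcd_eq_gcd_ab (q ^ v) m
    rw [hco.gcd_eq_one] at hb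
    have : g = (g ^ q ^ v) ^ (Nat.gcdA (q ^ v) m) * (g ^ m) ^ (Nat.gcdB (q ^ v) m) := by
      rw [← zpow_natCast g (q ^ v), ← zpow_natCast g m, ← zpow_mul, ← zpow_mul, ← zpow_add, ← hb,
        Nat.cast_one, zpow_one]
    rw [this]
    exact mul_mem (zpow_mem h2' _) (zpow_mem h1' _)

/-- The hypothesis forces a nontrivial `p`- or `p'`-core. -/
theorem core_ne_bot {G : Type*} [Group G] [Finite G] [Nontrivial G] (p : ℕ) [hp : Fact p.Prime]
    (h : ∀ x y : G, (∃ a : ℕ, orderOf x = p ^ a) →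
      (∃ q b : ℕ, q.Prime ∧ q ≠ p ∧ orderOf y = q ^ b) →
      ∀ z : G, IsConj (x * y) z ↔ ∃ a b : G, z = a * x * a⁻¹ * (b * y * b⁻¹)) :
    pCore p G ≠ ⊥ ∨ pPrimeCore p G ≠ ⊥ := by
  obtain ⟨M, hMn, hM, -, hmin⟩ :=
    Hall.exists_minimal_normal_le (⊤ : Subgroup G) top_ne_bot
  by_cases hpM : p ∣ Nat.card M
  swap
  · right
    intro hb
    apply hM
    rw [eq_bot_iff, ← hb]
    exact le_sSup ⟨hMn, ((hp.out.coprime_iff_not_dvd).mpr hpM).symm⟩
  left
  obtain ⟨P⟩ : Nonempty (Sylow p M) := inferInstance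
  by_cases hc : ∀ Q : Subgroup M, Q ≤ (P : Subgroup M) →
      ∀ g ∈ normalizer (Q : Set M), Nat.Coprime (orderOf g) p → g ∈ centralizer (Q : Set M)
  · -- a normal `p`-complement of a minimal normal subgroup is trivial
    obtain ⟨K, hKn, hK⟩ :=
      (Fusion.hasNormalPComplement_iff_exists P).mp ((Fusion.frobenius_criterion P).mpr hc)
    have hcard := hK.card_mul_card
    obtain ⟨e, he⟩ := P.isPGroup'.exists_card_eq
    have hKco : (Nat.card K).Coprime p := by
      refine Nat.Coprime.symm (hp.out.coprime_iff_not_dvd.mpr ?_)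
      rw [← hK.index_eq_card]
      exact P.not_dvd_index
    have hKle : K ≤ pPrimeCore p M := le_sSup ⟨hKn, hKco⟩
    haveI : (pPrimeCore p M).Characteristic := inferInstance
    have hmapn : ((pPrimeCore p M).map M.subtype).Normal :=
      haveI := hMn; inferInstance
    rcases hmin _ hmapn (map_subtype_le _) with hb | ht
    · have hKb : K = ⊥ := by
        rw [map_eq_bot_iff_of_injective _ M.subtype_injective] at hb
        exact le_bot_iff.mp (hb ▸ hKle)
      intro hb'
      apply hM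
      rw [eq_bot_iff, ← hb']
      refine le_sSup ⟨hMn, IsPGroup.of_card (n := e) ?_⟩
      rw [← hcard, hKb, Subgroup.card_bot, one_mul, he]
    · exfalso
      have h1 : Nat.card ((pPrimeCore p M).map M.subtype) = Nat.card (pPrimeCore p M) :=
        Subgroup.card_map_of_injective M.subtype_injective
      rw [ht] at h1
      have h2 : (Nat.card (pPrimeCore p M)).Coprime p := Cores.coprime_card_pPrimeCore
      rw [← h1] at h2
      exact (hp.out.coprime_iff_not_dvd.mp h2.symm) hpM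
  exfalso
  push Not at hc
  obtain ⟨Q, hQP, g, hgN, hgp, hgC⟩ := hc
  obtain ⟨k, q, b, hq, hqg, hord, hkC⟩ : ∃ k q b : ℕ, q.Prime ∧ q ∣ orderOf g ∧
      orderOf (g ^ k) = q ^ b ∧ g ^ k ∉ centralizer (Q : Set M) := by
    by_contra hne
    push Not at hne
    exact hgC (mem_of_prime_power_mem _ g hne)
  have hqp : q ≠ p := by
    rintro rfl
    exact (hq.coprime_iff_not_dvd.mp hgp.symm) hqg
  set y : M := g ^ k with hy
  have hyN : y ∈ normalizer (Q : Set M) := pow_mem hgN k
  rw [mem_centralizer_iff] at hkC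
  push Not at hkC
  obtain ⟨v, hv, hvy⟩ := hkC
  -- `x = [v, y]` is a nontrivial `p`-element with `x y` conjugate to `y`
  set x : M := v * (y * v⁻¹ * y⁻¹) with hx
  have hxQ : x ∈ Q := mul_mem hv ((mem_normalizer_iff.mp hyN v⁻¹).mp (inv_mem hv))
  obtain ⟨a, ha⟩ : ∃ a : ℕ, orderOf (x : G) = p ^ a := by
    rw [Subgroup.orderOf_coe]
    obtain ⟨a, ha⟩ := (IsPGroup.iff_orderOf.mp P.isPGroup') ⟨x, hQP hxQ⟩
    exact ⟨a, by rw [← ha]; exact (Subgroup.orderOf_mk x _).symm⟩
  have hyo : orderOf (y : G) = q ^ b := by rw [Subgroup.orderOf_coe]; exact hord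
  have hxy : IsConj ((x : G) * (y : G)) (y : G) := by
    refine (isConj_iff.mpr ⟨((v : M) : G)⁻¹, ?_⟩)
    simp only [hx, Subgroup.coe_mul, Subgroup.coe_inv]
    group
  have H := h (x : G) (y : G) ⟨a, ha⟩ ⟨q, b, hq, hqp, hyo⟩
  -- the class of `y` is stable under left multiplication by the normal closure of `x`
  set C : Set G := {z | IsConj (y : G) z} with hC
  have hstab : normalClosure {(x : G)} ≤ MulAction.stabilizer G C := by
    refine (Subgroup.closure_le _).mpr ?_
    intro m hm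
    rw [Group.mem_conjugatesOfSet_iff] at hm
    obtain ⟨x', hx', hm⟩ := hm
    rw [Set.mem_singleton_iff] at hx'
    subst hx'
    obtain ⟨c, hc⟩ := isConj_iff.mp hm
    rw [SetLike.mem_coe, MulAction.mem_stabilizer_iff]
    refine Set.eq_of_subset_of_ncard_le ?_ (le_of_eq ?_) (Set.toFinite _)
    · rintro _ ⟨z, hz, rfl⟩
      obtain ⟨d, hd⟩ := isConj_iff.mp hz
      exact hxy.symm.trans ((H _).mpr ⟨c, d, by rw [hc, hd]; rfl⟩)
    · exact (Set.ncard_image_of_injective C (mul_right_injective m)).symm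
  have hxM : normalClosure {(x : G)} ≤ M := by
    haveI := hMn
    exact normalClosure_le_normal (by simp)
  have hx1 : (x : G) ≠ 1 := by
    intro h1
    apply hvy
    have h1' : x = 1 := Subtype.ext h1
    rw [hx] at h1'
    calc v * y = (v * (y * v⁻¹ * y⁻¹)) * (y * v) := by group
      _ = y * v := by rw [h1', one_mul]
  rcases hmin _ normalClosure_normal hxM with hb | ht
  · exact hx1 (Subgroup.mem_bot.mp (hb ▸ subset_normalClosure (Set.mem_singleton _)))
  · have hyM : (y : G)⁻¹ ∈ MulAction.stabilizer G C := hstab (by rw [ht]; exact inv_mem y.2)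
    have hyC : (y : G) ∈ C := IsConj.refl _
    have h1C : ((y : G)⁻¹ * (y : G)) ∈ C := by
      rw [MulAction.mem_stabilizer_iff] at hyM
      rw [← hyM]
      exact ⟨(y : G), hyC, rfl⟩
    rw [inv_mul_cancel, hC, Set.mem_ofPred_eq, isConj_one_left] at h1C
    apply hvy
    rw [show y = 1 from Subtype.ext h1C, mul_one, one_mul]

/-- Let p be a prime and G a finite group such that for every element x of p-power order and every element y whose order is a power of a prime other than p, the conjugacy class of x y is the set of all products of a conjugate of x with a conjugate of y. Then G is p-solvable. -/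
theorem result {G : Type*} [Group G] [Finite G] (p : ℕ) [Fact p.Prime] (h : ∀ x y : G, (∃ a : ℕ, orderOf x = p ^ a) → (∃ q b : ℕ, q.Prime ∧ q ≠ p ∧ orderOf y = q ^ b) → ∀ z : G, IsConj (x * y) z ↔ ∃ a b : G, z = a * x * a⁻¹ * (b * y * b⁻¹)) : Cfsg.IsPSolvable p G := by
  rw [Cores.isPSolvable_iff]
  intro N _ hN
  haveI : Nontrivial (G ⧸ N) := QuotientGroup.nontrivial_iff.mpr hN
  refine core_ne_bot p ?_
  -- prime power elements lift
  have lift : ∀ (r : ℕ), r.Prime → ∀ (u : G ⧸ N), (∃ a, orderOf u = r ^ a) →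
      ∃ w : G, (w : G ⧸ N) = u ∧ ∃ a, orderOf w = r ^ a := by
    intro r hr u ⟨a, ha⟩
    obtain ⟨w, rfl⟩ := QuotientGroup.mk_surjective u
    obtain ⟨v, m, hm, hnm⟩ :=
      Nat.exists_eq_pow_mul_and_not_dvd (orderOf_pos w).ne' r hr.ne_one
    have hm0 : m ≠ 0 := by rintro rfl; exact hm (dvd_zero r)
    have hco : Nat.Coprime m (r ^ a) := (Nat.Coprime.pow_left a (hr.coprime_iff_not_dvd.mpr hm)).symm
    obtain ⟨c, hc⟩ := exists_pow_eq_self_of_coprime (x := (w : G ⧸ N)) (by rw [ha]; exact hco)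
    refine ⟨(w ^ m) ^ c, by simpa using hc, ?_⟩
    have : orderOf (w ^ m) = r ^ v := by
      rw [orderOf_pow' w hm0, hnm, Nat.gcd_mul_left_left,
        Nat.mul_div_cancel _ (Nat.pos_of_ne_zero hm0)]
    obtain ⟨j, -, hj⟩ := (Nat.dvd_prime_pow hr).mp (this ▸ orderOf_pow_dvd c)
    exact ⟨j, hj⟩
  intro x y hx hy z
  obtain ⟨q, b, hq, hqp, hyo⟩ := hy
  obtain ⟨x, rfl, hx'⟩ := lift p (Fact.out) x hx
  obtain ⟨y, rfl, ⟨b', hy'⟩⟩ := lift q hq y ⟨b, hyo⟩
  have H := h x y hx' ⟨q, b', hq, hqp, hy'⟩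
  constructor
  · intro hz
    obtain ⟨c, hc⟩ := isConj_iff.mp hz
    obtain ⟨c, rfl⟩ := QuotientGroup.mk_surjective c
    obtain ⟨a, d, had⟩ := (H (c * (x * y) * c⁻¹)).mp (isConj_iff.mpr ⟨c, rfl⟩)
    refine ⟨a, d, ?_⟩
    rw [← hc]
    exact congrArg (fun t : G => (t : G ⧸ N)) had
  · rintro ⟨a, d, rfl⟩
    obtain ⟨a, rfl⟩ := QuotientGroup.mk_surjective a
    obtain ⟨d, rfl⟩ := QuotientGroup.mk_surjective d
    exact ((QuotientGroup.mk' N).map_isConj ((H _).mpr ⟨a, d, rfl⟩))

end Cfsg.Agent.S3989
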