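import Cfsg.Statements.S3992
import Cfsg.Agent.H74.EPPO
import Cfsg.Agent.S1475

set_option autoImplicit false
open Cfsg Cfsg.Agent Cfsg.Agent.H74.EPPO

namespace Cfsg.Agent.S3992

/-- Let G be a finite non-solvable group in which every element has prime-power order, and let R be its largest solvable normal subgroup. Then R is a p-group for some prime p; G/R has a non-abelian simple normal subgroup contained in every nontrivial normal subgroup of G/R (its unique minimal normal subgroup); and the order of every solvable subgroup of G has at most two prime divisors. -/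
theorem result {G : Type*} [Group G] [Finite G] (hns : ¬ Group.IsSolvable G) (hpp : ∀ g : G, g ≠ 1 → IsPrimePow (orderOf g))
    (R : Subgroup G) [R.Normal] (hRs : Group.IsSolvable ↥R) (hRmax : ∀ N : Subgroup G, N.Normal → Group.IsSolvable ↥N → N ≤ R) :
    (∃ p : ℕ, p.Prime ∧ IsPGroup p ↥R) ∧
      (∃ M : Subgroup (G ⧸ R), M.Normal ∧ IsSimpleGroup ↥M ∧ ¬ IsMulCommutative ↥M ∧
        ∀ N : Subgroup (G ⧸ R), N.Normal → N ≠ ⊥ → M ≤ N) ∧
      ∀ H : Subgroup G, Group.IsSolvable ↥H → (Nat.card ↥H).primeFactors.card ≤ 2 := by
  refine ⟨⟨2, Nat.prime_two, isPGroup_two_of_solvable hns hpp R hRs⟩, ?_, fun H hH => ?_⟩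
  · have hrad : ∀ N : Subgroup (G ⧸ R), N.Normal → Group.IsSolvable N → N = ⊥ := by
      intro N hN hNs
      have hle : R ≤ N.comap (QuotientGroup.mk' R) :=
        (QuotientGroup.ker_mk' R).symm.le.trans (Subgroup.ker_le_comap _ _)
      haveI := hNs
      haveI := hRs
      have hs : Group.IsSolvable (N.comap (QuotientGroup.mk' R)) :=
        solvable_of_ker_le_range (Subgroup.inclusion hle) ((QuotientGroup.mk' R).subgroupComap N)
          (fun x hx => ⟨⟨(x : G), (QuotientGroup.eq_one_iff (x : G)).1 (congrArg Subtype.val hx)⟩,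
            Subtype.ext rfl⟩)
      have h2 := hRmax _ (hN.comap _) hs
      rw [eq_bot_iff]
      intro q hq
      obtain ⟨g, rfl⟩ := QuotientGroup.mk'_surjective R q
      exact Subgroup.mem_bot.2 ((QuotientGroup.eq_one_iff g).2 (h2 hq))
    haveI : Nontrivial (G ⧸ R) := by
      rw [← not_subsingleton_iff_nontrivial]
      intro h
      exact hns (isSolvable_of_quotient R hRs inferInstance)
    exact exists_simple_minimal (eppo_quotient hpp R) hrad
  · haveI := hH
    refine S1475.result fun g => ?_
    by_cases hg : g = 1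
    · exact Or.inr hg
    · refine Or.inl ?_
      rw [← Subgroup.orderOf_coe]
      exact hpp _ fun h => hg (Subtype.ext h)

end Cfsg.Agent.S3992
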