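import Cfsg.Statements.S3995
import Mathlib
import Cfsg.Agent.H84.FrobeniusCount
import Cfsg.Agent.PGroups.TwoGroups

/-!
# Groups whose element-order counts take two values
-/

set_option autoImplicit false
set_option linter.style.haveILetI false
open Cfsg

namespace Cfsg.Agent.S3995

open Subgroup Finset

section
variable {G : Type*} [Group G] [Finite G]

/-- Number of elements of order `m`. -/
noncomputable def cnt (G : Type*) [Group G] (m : ℕ) : ℕ := Nat.card {g : G // orderOf g = m}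

theorem cnt_one : cnt G 1 = 1 := by
  have h : Unique {g : G // orderOf g = 1} :=
    { default := ⟨1, orderOf_one⟩
      uniq := fun g => Subtype.ext (orderOf_eq_one_iff.1 g.2) }
  exact Nat.card_unique

/-- `#{g ^ p ^ (k+1) = 1}` splits by exact order. -/
theorem card_pow_succ {p : ℕ} (hp : p.Prime) (k : ℕ) :
    Nat.card {g : G // g ^ p ^ (k + 1) = 1} =
      Nat.card {g : G // g ^ p ^ k = 1} + cnt G (p ^ (k + 1)) := by
  classical
  haveI := Fintype.ofFinite G
  simp only [cnt, Nat.card_eq_fintype_card, Fintype.card_subtype]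
  rw [← card_union_of_disjoint]
  · congr 1
    ext g
    simp only [mem_filter, mem_univ, true_and, mem_union, ← orderOf_dvd_iff_pow_eq_one,
      Nat.dvd_prime_pow hp]
    constructor
    · rintro ⟨i, hi, h⟩
      rcases Nat.lt_or_ge i (k + 1) with h' | h'
      · exact Or.inl ⟨i, by omega, h⟩
      · exact Or.inr (by rw [h, le_antisymm hi h'])
    · rintro (⟨i, hi, h⟩ | h)
      · exact ⟨i, by omega, h⟩
      · exact ⟨k + 1, le_rfl, h⟩
  · rw [disjoint_filter]
    intro g _ h1 h2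
    have h := Nat.le_of_dvd (pow_pos hp.pos k) (h2 ▸ orderOf_dvd_of_pow_eq_one h1)
    exact absurd h (not_le.2 (Nat.pow_lt_pow_right hp.one_lt (Nat.lt_succ_self k)))

theorem dvd_card_pow {d : ℕ} (hd : d ∣ Nat.card G) : d ∣ Nat.card {g : G // g ^ d = 1} := by
  have h := H84.gcd_dvd_card_pow_eq_one (G := G) d
  rwa [Nat.gcd_eq_left hd] at h

theorem card_pow_prime {p : ℕ} (hp : p.Prime) :
    Nat.card {g : G // g ^ p = 1} = 1 + cnt G p := by
  have h := card_pow_succ (G := G) hp 0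
  have h1 : Nat.card {g : G // g ^ p ^ 0 = 1} = 1 := by
    rw [← cnt_one (G := G), cnt]
    exact Nat.card_congr (Equiv.subtypeEquivRight fun g => by simp [orderOf_eq_one_iff])
  rw [h1] at h
  simpa using h

theorem dvd_cnt_sq {p : ℕ} (hp : p.Prime) (hd : p ^ 2 ∣ Nat.card G) : p ∣ cnt G (p ^ 2) := by
  have h := card_pow_succ (G := G) hp 1
  rw [pow_one, show (1 : ℕ) + 1 = 2 from rfl] at h
  have h2 : p ∣ Nat.card {g : G // g ^ p ^ 2 = 1} :=
    (dvd_pow_self p two_ne_zero).trans (dvd_card_pow hd)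
  rw [h] at h2
  exact (Nat.dvd_add_right (dvd_card_pow ((dvd_pow_self p two_ne_zero).trans hd))).1 h2

theorem exists_orderOf_of_dvd {g : G} {d : ℕ} (hd : d ∣ orderOf g) : ∃ x : G, orderOf x = d :=
  ⟨g ^ (orderOf g / d), orderOf_pow_orderOf_div (orderOf_pos g).ne' hd⟩

/-- The set of element orders. -/
noncomputable def ords (G : Type*) [Group G] [Finite G] : Finset ℕ :=
  (Set.finite_range (orderOf : G → ℕ)).toFinset

theorem mem_ords {m : ℕ} : m ∈ ords G ↔ ∃ g : G, orderOf g = m := by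
  simp [ords]

theorem card_eq_sum : Nat.card G = ∑ m ∈ ords G, cnt G m := by
  classical
  haveI := Fintype.ofFinite G
  rw [Nat.card_eq_fintype_card, ← Finset.card_univ,
    card_eq_sum_card_fiberwise (f := fun g : G => orderOf g) (t := ords G)
      (fun g _ => mem_ords.2 ⟨g, rfl⟩)]
  refine sum_congr rfl fun m _ => ?_
  rw [cnt, Nat.card_eq_fintype_card, Fintype.card_subtype]

/-- Squarefree numbers with prime factors in `P` that are not `1`. -/
theorem card_squarefree_le (P : Finset ℕ) (A : Finset ℕ)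
    (hA : ∀ a ∈ A, a ≠ 1 ∧ Squarefree a ∧ a.primeFactors ⊆ P) : A.card + 1 ≤ 2 ^ P.card := by
  classical
  rw [← card_powerset]
  have h : A.image Nat.primeFactors ⊆ P.powerset.erase ∅ := by
    intro s hs
    obtain ⟨a, ha, rfl⟩ := mem_image.1 hs
    obtain ⟨h1, h2, h3⟩ := hA a ha
    refine mem_erase.2 ⟨?_, mem_powerset.2 h3⟩
    intro he
    rcases Nat.primeFactors_eq_empty.1 he with h0 | h0
    · exact not_squarefree_zero (h0 ▸ h2)
    · exact h1 h0
  have h' := card_le_card h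
  rw [card_erase_of_mem (empty_mem_powerset P), card_image_of_injOn] at h'
  · have := (nonempty_iff_ne_empty.2 (ne_of_mem_of_not_mem' (empty_mem_powerset P) (by simp))).card_pos
    omega
  · intro a ha b hb hab
    rw [← Nat.prod_primeFactors_of_squarefree (hA a ha).2.1,
      ← Nat.prod_primeFactors_of_squarefree (hA b hb).2.1]
    exact congrArg (fun s : Finset ℕ => ∏ p ∈ s, p) hab

theorem prod_dvd_of_forall {P : Finset ℕ} (hP : ∀ p ∈ P, p.Prime) {x : ℤ}
    (hx : ∀ p ∈ P, (p : ℤ) ∣ x) : ((∏ p ∈ P, p : ℕ) : ℤ) ∣ x := by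
  rw [Int.natCast_dvd]
  exact Finset.prod_primes_dvd _ (fun p hp => (hP p hp).prime)
    (fun p hp => Int.natCast_dvd.1 (hx p hp))

theorem three_mul_five_pow_le {P : Finset ℕ} (hP : ∀ p ∈ P, p.Prime ∧ p ≠ 2) (hne : P.Nonempty) :
    3 * 5 ^ (P.card - 1) ≤ ∏ p ∈ P, p := by
  classical
  obtain ⟨q, hq, hqmin⟩ := P.exists_min_image id hne
  have h3 : 3 ≤ q := by
    have := (hP q hq).1.two_le; have := (hP q hq).2; omega
  rw [← Finset.mul_prod_erase P _ hq, ← Finset.card_erase_of_mem hq]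
  refine Nat.mul_le_mul h3 (Finset.pow_card_le_prod _ _ _ fun p hp => ?_)
  obtain ⟨hpq, hpP⟩ := mem_erase.1 hp
  have h1 : q ≤ p := hqmin p hpP
  have h2 := (hP p hpP).1
  rcases Nat.lt_or_ge p 5 with h | h
  · have h4 : p = 4 := by omega
    subst h4
    exact absurd h2 (by decide)
  · exact h

theorem arith_bound (r : ℕ) : 3 * 2 ^ (r + 1) < 3 * 5 ^ r + 4 := by
  induction r with
  | zero => norm_num
  | succ r ih => rw [pow_succ, pow_succ 5]; have := Nat.two_pow_pos r; omega

theorem squarefree_two_part {m : ℕ} (hm : m ≠ 0) (h8 : ¬ 8 ∣ m)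
    (hsq : ∀ p : ℕ, p.Prime → p ≠ 2 → ¬ p ^ 2 ∣ m) :
    ∃ i, i ≤ 2 ∧ ∃ d, Odd d ∧ Squarefree d ∧ m = 2 ^ i * d := by
  obtain ⟨i, d, hd, rfl⟩ := Nat.exists_eq_two_pow_mul_odd hm
  refine ⟨i, ?_, d, hd, ?_, rfl⟩
  · by_contra h
    exact h8 ((show 8 ∣ 2 ^ i from by
      rw [show (8 : ℕ) = 2 ^ 3 from rfl]; exact Nat.pow_dvd_pow 2 (by omega)).trans (dvd_mul_right _ _))
  · rw [Nat.squarefree_iff_prime_squarefree]
    intro p hp hpd
    have hp2 : p ≠ 2 := by
      rintro rfl
      exact (Nat.not_even_iff_odd.2 hd) (even_iff_two_dvd.2 ((dvd_mul_right 2 2).trans hpd))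
    exact hsq p hp hp2 (by rw [pow_two]; exact hpd.trans (dvd_mul_left d _))

end

section Main
variable {G : Type*} [Group G] [Finite G] {n : ℕ}

/-- Elementary consequence of all orders in `K` having count `n`. -/
theorem sum_split (h : ∀ m ∈ ords G, cnt G m = 1 ∨ cnt G m = n) (S : Finset ℕ) (hS : S ⊆ ords G)
    (h1 : ∀ m ∈ S, cnt G m = 1) (hn' : ∀ m ∈ ords G, m ∉ S → cnt G m = n) :
    Nat.card G = S.card + (ords G \ S).card * n := by
  rw [card_eq_sum, ← sum_sdiff hS, add_comm]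
  congr 1
  · rw [sum_congr rfl h1, sum_const, smul_eq_mul, mul_one]
  · rw [sum_congr rfl (fun m hm => hn' m (mem_sdiff.1 hm).1 (mem_sdiff.1 hm).2), sum_const, smul_eq_mul]

theorem caseA (hn0 : n ≠ 0) (hn1 : n ≠ 1) (hn' : ∀ m ∈ ords G, m ≠ 1 → cnt G m = n)
    (hne : ∃ m ∈ ords G, m ≠ 1) :
    ∃ p : ℕ, p.Prime ∧ IsPGroup p G ∧ 3 ≤ Nat.card G ∧ Monoid.exponent G = p := by
  classical
  have h1mem : 1 ∈ ords G := mem_ords.2 ⟨1, orderOf_one⟩
  have hsum : Nat.card G = 1 + ((ords G).erase 1).card * n := by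
    rw [card_eq_sum, ← add_sum_erase _ _ h1mem, cnt_one,
      sum_congr rfl (fun m hm => hn' m (mem_erase.1 hm).2 (mem_erase.1 hm).1), sum_const, smul_eq_mul]
  set k := ((ords G).erase 1).card with hk
  set P := (Nat.card G).primeFactors with hP
  have hk1 : 1 ≤ k := by
    obtain ⟨m, hm, hm1⟩ := hne
    exact card_pos.2 ⟨m, mem_erase.2 ⟨hm1, hm⟩⟩
  have hmemp : ∀ p ∈ P, p ∈ ords G := by
    intro p hp
    haveI := Fact.mk (Nat.prime_of_mem_primeFactors hp)
    exact mem_ords.2 (exists_prime_orderOf_dvd_card' p (Nat.dvd_of_mem_primeFactors hp))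
  have hpn : ∀ p ∈ P, p ∣ 1 + n := by
    intro p hp
    have hpp := Nat.prime_of_mem_primeFactors hp
    have h := dvd_card_pow (G := G) (Nat.dvd_of_mem_primeFactors hp)
    rwa [card_pow_prime hpp, hn' p (hmemp p hp) hpp.ne_one] at h
  have hsf : ∀ m ∈ (ords G).erase 1, m ≠ 1 ∧ Squarefree m ∧ m.primeFactors ⊆ P := by
    intro m hm
    obtain ⟨hm1, hm'⟩ := mem_erase.1 hm
    obtain ⟨g, rfl⟩ := mem_ords.1 hm'
    refine ⟨hm1, ?_, Nat.primeFactors_mono (orderOf_dvd_natCard g) Nat.card_pos.ne'⟩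
    rw [Nat.squarefree_iff_prime_squarefree]
    intro p hp hpd
    rw [← pow_two] at hpd
    obtain ⟨x, hx⟩ := exists_orderOf_of_dvd hpd
    have hd : p ^ 2 ∣ Nat.card G := hx ▸ orderOf_dvd_natCard x
    have hp2 : p ^ 2 ≠ 1 := (Nat.one_lt_pow two_ne_zero hp.one_lt).ne'
    have h := dvd_cnt_sq hp hd
    rw [hn' _ (mem_ords.2 ⟨x, hx⟩) hp2] at h
    have hpP : p ∈ P := Nat.mem_primeFactors.2
      ⟨hp, (dvd_pow_self p two_ne_zero).trans hd, Nat.card_pos.ne'⟩
    exact hp.not_dvd_one ((Nat.dvd_add_left h).1 (hpn p hpP))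
  have hkle : k + 1 ≤ 2 ^ P.card := card_squarefree_le P _ hsf
  have hdiv : ((∏ p ∈ P, p : ℕ) : ℤ) ∣ (k : ℤ) - 1 := by
    refine prod_dvd_of_forall (fun p hp => Nat.prime_of_mem_primeFactors hp) (fun p hp => ?_)
    have h1 : (p : ℤ) ∣ ((1 + k * n : ℕ) : ℤ) :=
      Int.natCast_dvd_natCast.2 (hsum ▸ Nat.dvd_of_mem_primeFactors hp)
    have h2 : (p : ℤ) ∣ ((1 + n : ℕ) : ℤ) := Int.natCast_dvd_natCast.2 (hpn p hp)
    have h3 := dvd_sub (h2.mul_left (k : ℤ)) h1
    have e : (k : ℤ) * ((1 + n : ℕ) : ℤ) - ((1 + k * n : ℕ) : ℤ) = (k : ℤ) - 1 := by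
      push_cast; ring
    rwa [e] at h3
  have hkone : k = 1 := by
    by_contra hk'
    have h1 : 2 ^ P.card ≤ ∏ p ∈ P, p :=
      Finset.pow_card_le_prod _ _ _ fun p hp => (Nat.prime_of_mem_primeFactors hp).two_le
    have h2 := Int.le_of_dvd (by omega) hdiv
    omega
  obtain ⟨q, hq⟩ := Finset.card_eq_one.1 (hk ▸ hkone)
  have hall : ∀ g : G, g ≠ 1 → orderOf g = q := by
    intro g hg
    have h : orderOf g ∈ (ords G).erase 1 :=
      mem_erase.2 ⟨fun h => hg (orderOf_eq_one_iff.1 h), mem_ords.2 ⟨g, rfl⟩⟩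
    rw [hq, mem_singleton] at h
    exact h
  have hcard : Nat.card G = 1 + n := by rw [hsum, hkone, one_mul]
  obtain ⟨p, hp, hpd⟩ := Nat.exists_prime_and_dvd (n := Nat.card G) (by omega)
  haveI := Fact.mk hp
  obtain ⟨x, hx⟩ := exists_prime_orderOf_dvd_card' p hpd
  have hpq : p = q := by
    rw [← hx]; exact hall x (fun h => hp.ne_one (by rw [← hx, h, orderOf_one]))
  subst hpq
  have hpow : ∀ g : G, g ^ p = 1 := fun g => by
    by_cases hg : g = 1
    · rw [hg, one_pow]
    · rw [← hall g hg, pow_orderOf_eq_one]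
  refine ⟨p, hp, fun g => ⟨1, by rw [pow_one]; exact hpow g⟩, by omega, ?_⟩
  exact Nat.dvd_antisymm (Monoid.exponent_dvd_of_forall_pow_eq_one hpow)
    (hx ▸ Monoid.order_dvd_exponent x)

/-- A 2-group of exponent dividing 4 with a unique involution and more than two elements. -/
theorem small_two_group {z : G} (hz : z ≠ 1) (hz2 : z * z = 1)
    (huniq : ∀ g : G, g * g = 1 → g = 1 ∨ g = z) (hsq : ∀ g : G, g * g = 1 ∨ g * g = z)
    {x : G} (hx1 : x ≠ 1) (hxz : x ≠ z) :
    Nonempty (G ≃* QuaternionGroup 2) ∨ (IsCyclic G ∧ Nat.card G = 4) := by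
  classical
  haveI := Fintype.ofFinite G
  have hsqz : ∀ g : G, g ≠ 1 → g ≠ z → g * g = z := fun g h1 h2 =>
    (hsq g).resolve_left fun h => (huniq g h).elim h1 h2
  have hzc : ∀ g : G, g * z = z * g := by
    intro g
    have h : (g * z * g⁻¹) * (g * z * g⁻¹) = 1 := by
      rw [show (g * z * g⁻¹) * (g * z * g⁻¹) = g * (z * z) * g⁻¹ by group, hz2]; group
    rcases huniq _ h with h | h
    · exact absurd (by
        calc z = g⁻¹ * (g * z * g⁻¹) * g := by group
          _ = 1 := by rw [h]; group) hz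
    · calc g * z = (g * z * g⁻¹) * g := by group
        _ = z * g := by rw [h]
  have hinv : ∀ g : G, g ≠ 1 → g ≠ z → g⁻¹ = g * z := by
    intro g h1 h2
    apply inv_eq_of_mul_eq_one_right
    rw [← mul_assoc, hsqz g h1 h2, hz2]
  have hanti : ∀ a b : G, a ≠ 1 → a ≠ z → b ≠ 1 → b ≠ z → b ≠ a → b ≠ a * z → b * a = a * b * z := by
    intro a b ha1 haz hb1 hbz hba hbaz
    have hab1 : a * b ≠ 1 := fun h => hbaz (by rw [← hinv a ha1 haz]; exact (inv_eq_of_mul_eq_one_right h).symm)
    have habz : a * b ≠ z := fun h => hba (by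
      rw [← hsqz a ha1 haz] at h; exact mul_left_cancel h)
    have h := hsqz _ hab1 habz
    calc b * a = a⁻¹ * (a * b * (a * b)) * b⁻¹ := by group
      _ = a * z * z * (b * z) := by rw [h, hinv a ha1 haz, hinv b hb1 hbz]
      _ = a * b * z := by rw [mul_assoc a z z, hz2, mul_one, mul_assoc]
  have hordx : orderOf x = 4 := by
    refine orderOf_eq_prime_pow (p := 2) (n := 1) ?_ ?_
    · rw [pow_one, pow_two, hsqz x hx1 hxz]; exact hz
    · rw [show 2 ^ (1 + 1) = 2 * 2 from rfl, pow_mul, pow_two, pow_two, hsqz x hx1 hxz, hz2]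
  by_cases hy : ∀ g : G, g = 1 ∨ g = z ∨ g = x ∨ g = x * z
  · right
    have hle : Fintype.card G ≤ 4 := by
      rw [← Finset.card_univ]
      refine le_trans (card_le_card (fun g _ => ?_)) (Finset.card_le_four (a := (1 : G)) (b := z) (c := x) (d := x * z))
      simpa using hy g
    have h4 : 4 ≤ Fintype.card G := hordx ▸ orderOf_le_card_univ
    have hc : Nat.card G = 4 := by rw [Nat.card_eq_fintype_card]; omega
    exact ⟨isCyclic_of_orderOf_eq_card x (by rw [hordx, hc]), hc⟩
  · left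
    push Not at hy
    obtain ⟨y, hy1, hyz, hyx, hyxz⟩ := hy
    have hyxa := hanti x y hx1 hxz hy1 hyz hyx hyxz
    have hxy1 : x * y ≠ 1 := fun h => hyxz (by rw [← hinv x hx1 hxz]; exact (inv_eq_of_mul_eq_one_right h).symm)
    have hxyz : x * y ≠ z := fun h => hyx (by rw [← hsqz x hx1 hxz] at h; exact mul_left_cancel h)
    have hall : ∀ w : G, w = 1 ∨ w = z ∨ w = x ∨ w = x * z ∨ w = y ∨ w = y * z ∨
        w = x * y ∨ w = x * y * z := by
      intro w
      by_contra hw
      push Not at hw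
      obtain ⟨hw1, hwz, hwx, hwxz, hwy, hwyz, hwxy, hwxyz⟩ := hw
      have e1 := hanti x w hx1 hxz hw1 hwz hwx hwxz
      have e2 := hanti y w hy1 hyz hw1 hwz hwy hwyz
      have e3 := hanti (x * y) w hxy1 hxyz hw1 hwz hwxy hwxyz
      have e4 : w * (x * y) = x * y * w := by
        calc w * (x * y) = (w * x) * y := (mul_assoc _ _ _).symm
          _ = x * w * (z * y) := by rw [e1, mul_assoc]
          _ = x * (w * y) * z := by rw [← hzc y]; simp only [mul_assoc]
          _ = x * y * w * (z * z) := by rw [e2]; simp only [mul_assoc]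
          _ = x * y * w := by rw [hz2, mul_one]
      rw [e4, left_eq_mul] at e3
      exact hz e3
    have hzp : zpowers x ≤ (⊤ : Subgroup G) := le_top
    have hyn : y ∉ zpowers x := by
      intro h
      obtain ⟨i, hi⟩ := Subgroup.mem_zpowers_iff.1 h
      have hcomm : x * y = y * x := by rw [← hi]; exact (Commute.self_zpow x i).eq
      rw [hyxa, left_eq_mul] at hcomm
      exact hz hcomm
    have hconj : y * x * y⁻¹ = x⁻¹ := by
      rw [hinv x hx1 hxz, hyxa, mul_assoc x y z, hzc y, ← mul_assoc]; group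
    have hle : Fintype.card G ≤ 8 := by
      rw [← Finset.card_univ]
      refine le_trans (card_le_card (t := {1, z, x, x * z, y, y * z, x * y, x * y * z}) (fun g _ => ?_)) ?_
      · simpa using hall g
      · repeat (refine le_trans (card_insert_le _ _) (Nat.add_le_add_right ?_ 1))
        simp
    have h4 : 4 ∣ Fintype.card G := hordx ▸ orderOf_dvd_card
    have h5 : Fintype.card G ≠ 4 := by
      intro h
      apply hyn
      have : zpowers x = ⊤ := Subgroup.eq_top_of_card_eq _ (by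
        rw [Nat.card_zpowers, hordx, Nat.card_eq_fintype_card, h])
      rw [this]; exact Subgroup.mem_top y
    have hpos := Fintype.card_pos (α := G)
    refine PGroups.nonempty_mulEquiv_quaternion (n := 2) (by rw [hordx]) hyn ?_ hconj ?_
    · rw [pow_two, pow_two, hsqz y hy1 hyz, hsqz x hx1 hxz]
    · rw [Nat.card_eq_fintype_card]; omega

theorem type_zero_copy {S : Type*} [Group S] [Finite S] :
    ∃ (P : Type) (_ : Group P) (_ : Finite P), Nonempty (S ≃* P) := by
  let f : S ≃* Shrink.{0} S := Shrink.mulEquiv.symm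
  have : Finite (Shrink.{0} S) := Finite.of_equiv S f.toEquiv
  exact ⟨Shrink.{0} S, inferInstance, inferInstance, ⟨f⟩⟩

theorem result {G : Type*} [Group G] [Finite G] (n : ℕ) (hn : n ≠ 1) (h : ((fun m : ℕ => Nat.card {g : G // orderOf g = m}) '' Set.range (orderOf : G → ℕ)) = {1, n}) :
    (∃ p : ℕ, p.Prime ∧ IsPGroup p G ∧ 3 ≤ Nat.card G ∧ Monoid.exponent G = p) ∨
      Nonempty (G ≃* QuaternionGroup 2) ∨ (IsCyclic G ∧ Nat.card G = 4) ∨
      (∃ (p : ℕ) (P : Type) (_ : Group P) (_ : Finite P), p.Prime ∧ p ≠ 2 ∧ IsPGroup p P ∧ Monoid.exponent P = p ∧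
        Nonempty (G ≃* Multiplicative (ZMod 2) × P)) := by
  classical
  have hv : ∀ m ∈ ords G, cnt G m = 1 ∨ cnt G m = n := by
    intro m hm
    have : cnt G m ∈ ({1, n} : Set ℕ) := h ▸ ⟨m, mem_ords.1 hm, rfl⟩
    simpa using this
  obtain ⟨m₀, hm₀, hm₀n⟩ : n ∈ ((fun m : ℕ => Nat.card {g : G // orderOf g = m}) '' Set.range (orderOf : G → ℕ)) :=
    h ▸ Or.inr rfl
  have hm₀' : m₀ ∈ ords G := mem_ords.2 hm₀
  have hm₀c : cnt G m₀ = n := hm₀n
  have hn0 : n ≠ 0 := by
    obtain ⟨g, hg⟩ := hm₀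
    rw [← hm₀c, cnt]
    haveI : Nonempty {g : G // orderOf g = m₀} := ⟨⟨g, hg⟩⟩
    exact Nat.card_pos.ne'
  have hm₀1 : m₀ ≠ 1 := fun e => hn (by rw [← hm₀c, e, cnt_one])
  have hone : ∀ m ∈ ords G, cnt G m = 1 → m ≤ 2 := by
    intro m hm h1
    obtain ⟨g, rfl⟩ := mem_ords.1 hm
    have : Subsingleton {x : G // orderOf x = orderOf g} := (Nat.card_eq_one_iff_unique.1 h1).1
    have e : g⁻¹ = g := congrArg Subtype.val
      (Subsingleton.elim (α := {x : G // orderOf x = orderOf g}) ⟨g⁻¹, orderOf_inv g⟩ ⟨g, rfl⟩)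
    exact Nat.le_of_dvd two_pos (orderOf_dvd_of_pow_eq_one (by rw [pow_two]; nth_rewrite 1 [← e]; exact inv_mul_cancel g))
  by_cases hA : ∀ m ∈ ords G, m ≠ 1 → cnt G m = n
  · exact Or.inl (caseA hn0 hn hA ⟨m₀, hm₀', hm₀1⟩)
  right
  push Not at hA
  obtain ⟨m₂, hm₂, hm₂1, hm₂n⟩ := hA
  have hc2' := (hv m₂ hm₂).resolve_right hm₂n
  have hm2eq : m₂ = 2 := by
    have h1 := hone m₂ hm₂ hc2'
    obtain ⟨g, hg⟩ := mem_ords.1 hm₂
    have h2 := orderOf_pos g
    omega
  subst hm2eq
  obtain ⟨z, hzo⟩ := mem_ords.1 hm₂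
  have hz : z ≠ 1 := fun e => by rw [e, orderOf_one] at hzo; omega
  have hz2 : z * z = 1 := by rw [← pow_two, ← hzo, pow_orderOf_eq_one]
  have huniq : ∀ g : G, g * g = 1 → g = 1 ∨ g = z := by
    intro g hg
    by_cases hg1 : g = 1
    · exact Or.inl hg1
    right
    have hgo : orderOf g = 2 := orderOf_eq_prime (by rw [pow_two, hg]) hg1
    have : Subsingleton {x : G // orderOf x = 2} := (Nat.card_eq_one_iff_unique.1 hc2').1
    exact congrArg Subtype.val (Subsingleton.elim (α := {x : G // orderOf x = 2}) ⟨g, hgo⟩ ⟨z, hzo⟩)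
  have hzc : ∀ g : G, g * z = z * g := by
    intro g
    rcases huniq (g * z * g⁻¹) (by
      rw [show (g * z * g⁻¹) * (g * z * g⁻¹) = g * (z * z) * g⁻¹ by group, hz2]; group) with e | e
    · exact absurd (by
        calc z = g⁻¹ * (g * z * g⁻¹) * g := by group
          _ = 1 := by rw [e]; group) hz
    · calc g * z = (g * z * g⁻¹) * g := by group
        _ = z * g := by rw [e]
  have hcn : ∀ m ∈ ords G, m ≠ 1 → m ≠ 2 → cnt G m = n := by
    intro m hm h1 h2
    refine (hv m hm).resolve_left fun h' => ?_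
    have := hone m hm h'
    obtain ⟨g, hg⟩ := mem_ords.1 hm
    have := orderOf_pos g
    omega
  set B := ords G \ {1, 2} with hB
  have hsum : Nat.card G = 2 + B.card * n := by
    have h12 : ({1, 2} : Finset ℕ) ⊆ ords G := by
      intro m hm
      rcases mem_insert.1 hm with rfl | hm
      · exact mem_ords.2 ⟨1, orderOf_one⟩
      · rw [mem_singleton.1 hm]; exact hm₂
    rw [sum_split hv {1, 2} h12 ?_ ?_, card_pair (by norm_num)]
    · intro m hm
      rcases mem_insert.1 hm with rfl | hm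
      · exact cnt_one
      · rw [mem_singleton.1 hm]; exact hc2'
    · intro m hm hm'
      simp only [mem_insert, mem_singleton, not_or] at hm'
      exact hcn m hm hm'.1 hm'.2
  set P := (Nat.card G).primeFactors.erase 2 with hP
  have hPp : ∀ p ∈ P, p.Prime ∧ p ≠ 2 ∧ p ∣ Nat.card G := fun p hp =>
    ⟨Nat.prime_of_mem_primeFactors (mem_erase.1 hp).2, (mem_erase.1 hp).1,
      Nat.dvd_of_mem_primeFactors (mem_erase.1 hp).2⟩
  have hpn : ∀ p ∈ P, p ∣ 1 + n := by
    intro p hp
    obtain ⟨hpp, hp2, hpd⟩ := hPp p hp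
    haveI := Fact.mk hpp
    have h := dvd_card_pow (G := G) hpd
    rwa [card_pow_prime hpp,
      hcn p (mem_ords.2 (exists_prime_orderOf_dvd_card' p hpd)) hpp.ne_one hp2] at h
  have hodd2 : ∀ p ∈ P, ∀ g : G, ¬ p ^ 2 ∣ orderOf g := by
    intro p hp g hd
    obtain ⟨hpp, hp2, hpd⟩ := hPp p hp
    obtain ⟨x, hx⟩ := exists_orderOf_of_dvd hd
    have h' := dvd_cnt_sq hpp (hx ▸ orderOf_dvd_natCard x : p ^ 2 ∣ Nat.card G)
    rw [hcn _ (mem_ords.2 ⟨x, hx⟩) (Nat.one_lt_pow two_ne_zero hpp.one_lt).ne'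
      (fun e => hp2 ((Nat.prime_dvd_prime_iff_eq hpp Nat.prime_two).1 (e ▸ dvd_pow_self p two_ne_zero)))] at h'
    exact hpp.not_dvd_one ((Nat.dvd_add_left h').1 (hpn p hp))
  have hmod : ∀ p ∈ P, (p : ℤ) ∣ (B.card : ℤ) - 2 := by
    intro p hp
    have h1 : (p : ℤ) ∣ ((2 + B.card * n : ℕ) : ℤ) := Int.natCast_dvd_natCast.2 (hsum ▸ (hPp p hp).2.2)
    have h2 : (p : ℤ) ∣ ((1 + n : ℕ) : ℤ) := Int.natCast_dvd_natCast.2 (hpn p hp)
    have h3 := dvd_sub (h2.mul_left (B.card : ℤ)) h1
    have e : (B.card : ℤ) * ((1 + n : ℕ) : ℤ) - ((2 + B.card * n : ℕ) : ℤ) = (B.card : ℤ) - 2 := by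
      push_cast; ring
    rwa [e] at h3
  -- elements of order four
  have h4n : ∀ g : G, orderOf g = 4 → 4 ∣ 2 + n ∧ 4 ∣ Nat.card G := by
    intro g hg
    have hd : 4 ∣ Nat.card G := hg ▸ orderOf_dvd_natCard g
    refine ⟨?_, hd⟩
    have h1 := dvd_card_pow (G := G) hd
    have h2 := card_pow_succ (G := G) Nat.prime_two 1
    rw [show (2 : ℕ) ^ (1 + 1) = 4 from rfl, pow_one, card_pow_prime Nat.prime_two, hc2',
      hcn 4 (mem_ords.2 ⟨g, hg⟩) (by norm_num) (by norm_num)] at h2
    rwa [h2] at h1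
  have h8 : ∀ g : G, ¬ 8 ∣ orderOf g := by
    intro g hd
    obtain ⟨x, hx⟩ := exists_orderOf_of_dvd hd
    obtain ⟨y, hy⟩ := exists_orderOf_of_dvd (g := x) (d := 4) (by rw [hx]; norm_num)
    have h1 := (h4n y hy).1
    have hd8 : 8 ∣ Nat.card G := hx ▸ orderOf_dvd_natCard x
    have h2 := card_pow_succ (G := G) Nat.prime_two 2
    rw [show (2 : ℕ) ^ (2 + 1) = 8 from rfl, show (2 : ℕ) ^ 2 = 4 from rfl,
      hcn 8 (mem_ords.2 ⟨x, hx⟩) (by norm_num) (by norm_num)] at h2
    have h3 := dvd_card_pow (G := G) (h4n y hy).2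
    have h5 : 4 ∣ Nat.card {g : G // g ^ 8 = 1} := (by norm_num : 4 ∣ 8).trans (dvd_card_pow hd8)
    omega
  have hdec : ∀ g : G, ∃ i, i ≤ 2 ∧ ∃ d, Odd d ∧ Squarefree d ∧ d.primeFactors ⊆ P ∧ orderOf g = 2 ^ i * d := by
    intro g
    have hsq : ∀ p : ℕ, p.Prime → p ≠ 2 → ¬ p ^ 2 ∣ orderOf g := by
      intro p hp hp2 hd
      exact hodd2 p (mem_erase.2 ⟨hp2, Nat.mem_primeFactors.2
        ⟨hp, ((dvd_pow_self p two_ne_zero).trans hd).trans (orderOf_dvd_natCard g),
          Nat.card_pos.ne'⟩⟩) g hd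
    obtain ⟨i, hi, d, hd, hds, he⟩ := squarefree_two_part (orderOf_pos g).ne' (h8 g) hsq
    refine ⟨i, hi, d, hd, hds, fun p hp => ?_, he⟩
    have hpd := Nat.dvd_of_mem_primeFactors hp
    refine mem_erase.2 ⟨fun e => ?_, Nat.mem_primeFactors.2 ⟨Nat.prime_of_mem_primeFactors hp,
      (hpd.trans (he ▸ dvd_mul_left d (2 ^ i))).trans (orderOf_dvd_natCard g), Nat.card_pos.ne'⟩⟩
    exact (Nat.not_even_iff_odd.2 hd) (even_iff_two_dvd.2 (e ▸ hpd))
  have hQ : ((∏ p ∈ P, p : ℕ) : ℤ) ∣ (B.card : ℤ) - 2 :=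
    prod_dvd_of_forall (fun p hp => (hPp p hp).1) hmod
  -- the odd orders
  set A := (ords G).filter (fun m => m ≠ 1 ∧ Odd m) with hAdef
  have hAle : A.card + 1 ≤ 2 ^ P.card := by
    refine card_squarefree_le P A fun m hm => ?_
    obtain ⟨hm', hm1, hmo⟩ := mem_filter.1 hm
    obtain ⟨g, rfl⟩ := mem_ords.1 hm'
    obtain ⟨i, hi, d, hd, hds, hdP, he⟩ := hdec g
    have : i = 0 := by
      by_contra hi0
      exact (Nat.not_even_iff_odd.2 hmo) (even_iff_two_dvd.2 (he ▸ (dvd_pow_self 2 hi0).mul_right d))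
    rw [this, pow_zero, one_mul] at he
    exact ⟨hm1, he ▸ hds, he ▸ hdP⟩
  set A4 := (ords G).filter (fun m => 4 ∣ m) with hA4def
  have hA4le : A4.card ≤ A.card + 1 := by
    have hsub : A4 ⊆ (insert 1 A).image (fun d => 4 * d) := by
      intro m hm
      obtain ⟨hm', hm4⟩ := mem_filter.1 hm
      obtain ⟨g, rfl⟩ := mem_ords.1 hm'
      obtain ⟨d, hd⟩ := hm4
      refine mem_image.2 ⟨d, ?_, hd.symm⟩
      obtain ⟨x, hx⟩ := exists_orderOf_of_dvd (g := g) (d := d) (hd ▸ dvd_mul_left d 4)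
      by_cases hd1 : d = 1
      · rw [hd1]; exact mem_insert_self _ _
      refine mem_insert_of_mem (mem_filter.2 ⟨mem_ords.2 ⟨x, hx⟩, hd1, ?_⟩)
      rw [← Nat.not_even_iff_odd, even_iff_two_dvd]
      rintro ⟨e, rfl⟩
      exact h8 g ⟨e, by rw [hd]; ring⟩
    refine (card_le_card hsub).trans (card_image_le.trans (card_insert_le _ _))
  have hBeq : B.card = 2 * A.card + A4.card := by
    have hB' : B = A ∪ A.image (fun d => 2 * d) ∪ A4 := by
      ext m
      simp only [hB, hAdef, hA4def, mem_sdiff, mem_insert, mem_singleton, mem_union, mem_filter, mem_image,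
        not_or]
      constructor
      · rintro ⟨hm, hm1, hm2⟩
        rcases Nat.even_or_odd m with he | ho
        · by_cases h4 : 4 ∣ m
          · exact Or.inr ⟨hm, h4⟩
          obtain ⟨d, rfl⟩ := even_iff_two_dvd.1 he
          obtain ⟨g, hg⟩ := mem_ords.1 hm
          refine Or.inl (Or.inr ⟨d, ⟨mem_ords.2 (exists_orderOf_of_dvd (g := g) (hg ▸ dvd_mul_left d 2)),
            by omega, ?_⟩, rfl⟩)
          rw [← Nat.not_even_iff_odd, even_iff_two_dvd]
          rintro ⟨e, rfl⟩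
          exact h4 ⟨e, by ring⟩
        · exact Or.inl (Or.inl ⟨hm, hm1, ho⟩)
      · rintro ((⟨hm, hm1, ho⟩ | ⟨d, ⟨hd, hd1, ho⟩, rfl⟩) | ⟨hm, h4⟩)
        · exact ⟨hm, hm1, fun e => by rw [e] at ho; exact absurd ho (by decide)⟩
        · obtain ⟨g, hg⟩ := mem_ords.1 hd
          refine ⟨mem_ords.2 ⟨z * g, ?_⟩, by omega, by omega⟩
          rw [Commute.orderOf_mul_eq_mul_orderOf_of_coprime (hzc g).symm, hzo, hg]
          rw [hzo, hg]
          exact Nat.coprime_two_left.2 ho
        · exact ⟨hm, by omega, by omega⟩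
    rw [hB', card_union_of_disjoint, card_union_of_disjoint, card_image_of_injective]
    · ring
    · intro a b e; simpa using e
    · rw [disjoint_left]
      intro m hm hm'
      obtain ⟨d, -, rfl⟩ := mem_image.1 hm'
      exact (Nat.not_even_iff_odd.2 (mem_filter.1 hm).2.2) (even_two_mul d)
    · rw [disjoint_left]
      intro m hm hm'
      have h4 : 4 ∣ m := (mem_filter.1 hm').2
      rcases mem_union.1 hm with hm | hm
      · exact (Nat.not_even_iff_odd.2 (mem_filter.1 hm).2.2) (even_iff_two_dvd.2 ((by norm_num : 2 ∣ 4).trans h4))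
      · obtain ⟨d, hd, rfl⟩ := mem_image.1 hm
        have ho := Nat.odd_iff.1 (mem_filter.1 hd).2.2
        omega
  have hBpos : 0 < B.card := by
    refine card_pos.2 ⟨m₀, mem_sdiff.2 ⟨hm₀', ?_⟩⟩
    simp only [mem_insert, mem_singleton, not_or]
    exact ⟨hm₀1, fun e => hn (by rw [← hm₀c, e, hc2'])⟩
  by_cases h4e : ∃ g : G, orderOf g = 4
  · -- a 2-group
    obtain ⟨x, hx⟩ := h4e
    obtain ⟨h42, h4G⟩ := h4n x hx
    have hkodd : Odd B.card := by
      rw [hsum] at h4G
      by_contra hk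
      obtain ⟨j, hj⟩ := even_iff_two_dvd.1 (Nat.not_odd_iff_even.1 hk)
      have h2n : 2 ∣ n := by omega
      obtain ⟨l, rfl⟩ := h2n
      have e : 2 + B.card * (2 * l) = 2 + 4 * (j * l) := by rw [hj]; ring
      rw [e] at h4G
      omega
    have hPe : P = ∅ := by
      rw [← not_nonempty_iff_eq_empty]
      intro hPne
      have h1 := three_mul_five_pow_le (fun p hp => ⟨(hPp p hp).1, (hPp p hp).2.1⟩) hPne
      have h2 := arith_bound (P.card - 1)
      rw [show P.card - 1 + 1 = P.card from by have := hPne.card_pos; omega] at h2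
      have h3 : 3 ≤ ∏ p ∈ P, p := le_trans (by nlinarith [Nat.pow_pos (n := P.card - 1) (show 0 < 5 by norm_num)]) h1
      obtain ⟨j, hj⟩ := hkodd
      rcases eq_or_ne j 0 with hj0 | hj0
      · have hQ' : ((∏ p ∈ P, p : ℕ) : ℤ) ∣ 2 - (B.card : ℤ) := by
          rw [← neg_sub, dvd_neg]; exact hQ
        have h5 := Int.le_of_dvd (by omega : (0 : ℤ) < 2 - (B.card : ℤ)) hQ'
        omega
      · have h5 := Int.le_of_dvd (by omega : (0 : ℤ) < (B.card : ℤ) - 2) hQ
        omega
    have hpow : ∀ g : G, g ^ 4 = 1 := by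
      intro g
      obtain ⟨i, hi, d, hd, hds, hdP, he⟩ := hdec g
      rw [hPe, subset_empty, Nat.primeFactors_eq_empty] at hdP
      rcases hdP with h0 | h1
      · exact absurd (h0 ▸ hd) (by decide)
      · rw [h1, mul_one] at he
        rw [← orderOf_dvd_iff_pow_eq_one, he]
        exact Nat.pow_dvd_pow 2 hi
    have hsqall : ∀ g : G, g * g = 1 ∨ g * g = z := fun g => huniq _ (by
      rw [← hpow g]; simp only [pow_succ, pow_zero, one_mul, mul_assoc])
    have hx1 : x ≠ 1 := fun e => by rw [e, orderOf_one] at hx; omega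
    have hxz : x ≠ z := fun e => by rw [e, hzo] at hx; omega
    rcases small_two_group hz hz2 huniq hsqall hx1 hxz with hq | hq
    · exact Or.inl hq
    · exact Or.inr (Or.inl hq)
  · -- C₂ × P
    have hA40 : A4.card = 0 := by
      rw [card_eq_zero, ← not_nonempty_iff_eq_empty]
      rintro ⟨m, hm⟩
      obtain ⟨hm', hm4⟩ := mem_filter.1 hm
      obtain ⟨g, rfl⟩ := mem_ords.1 hm'
      exact h4e (exists_orderOf_of_dvd hm4)
    have hPne : P.Nonempty := by
      rw [nonempty_iff_ne_empty]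
      intro e
      rw [e, card_empty] at hAle
      omega
    have hQ1 : ((∏ p ∈ P, p : ℕ) : ℤ) ∣ (A.card : ℤ) - 1 := by
      have hcop : IsCoprime ((∏ p ∈ P, p : ℕ) : ℤ) 2 := by
        rw [show (2 : ℤ) = ((2 : ℕ) : ℤ) from rfl, Int.isCoprime_iff_nat_coprime, Int.natAbs_natCast,
          Int.natAbs_natCast]
        exact Nat.Coprime.prod_left fun p hp =>
          (Nat.coprime_primes (hPp p hp).1 Nat.prime_two).2 (hPp p hp).2.1
      apply hcop.dvd_of_dvd_mul_left
      have e : (2 : ℤ) * ((A.card : ℤ) - 1) = (B.card : ℤ) - 2 := by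
        rw [hBeq, hA40]; push_cast; ring
      rw [e]; exact hQ
    have hA1 : A.card = 1 := by
      by_contra hne
      have h1 : 2 ^ P.card ≤ ∏ p ∈ P, p :=
        Finset.pow_card_le_prod _ _ _ fun p hp => (hPp p hp).1.two_le
      have h2 := Int.le_of_dvd (by omega) hQ1
      omega
    obtain ⟨p, hp⟩ := hPne
    obtain ⟨hpp, hp2, hpd⟩ := hPp p hp
    haveI := Fact.mk hpp
    obtain ⟨q, hq⟩ := Finset.card_eq_one.1 hA1
    have hpA : p ∈ A := mem_filter.2 ⟨mem_ords.2 (exists_prime_orderOf_dvd_card' p hpd), hpp.ne_one,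
      hpp.odd_of_ne_two hp2⟩
    rw [hq, mem_singleton] at hpA
    subst hpA
    have hord : ∀ g : G, orderOf g = 1 ∨ orderOf g = 2 ∨ orderOf g = p ∨ orderOf g = 2 * p := by
      intro g
      obtain ⟨i, hi, d, hd, -, -, he⟩ := hdec g
      have hi2 : i < 2 := by
        by_contra h'
        exact h4e (exists_orderOf_of_dvd (g := g) (d := 4) (he ▸ Dvd.dvd.mul_right
          (show 2 ^ 2 ∣ 2 ^ i from Nat.pow_dvd_pow 2 (by omega)) d))
      have hdp : d = 1 ∨ d = p := by
        by_cases hd1 : d = 1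
        · exact Or.inl hd1
        right
        have : d ∈ A := mem_filter.2
          ⟨mem_ords.2 (exists_orderOf_of_dvd (g := g) (he ▸ dvd_mul_left d _)), hd1, hd⟩
        rwa [hq, mem_singleton] at this
      interval_cases i <;> rcases hdp with rfl | rfl <;> simp_all
    obtain ⟨S⟩ := (inferInstance : Nonempty (Sylow p G))
    set T : Subgroup G := ↑S with hT
    have hTp : IsPGroup p T := S.isPGroup'
    have hpowT : ∀ s : T, s ^ p = 1 := by
      intro s
      rw [← orderOf_dvd_iff_pow_eq_one]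
      obtain ⟨k, hk⟩ := (IsPGroup.iff_orderOf).1 hTp s
      have hs := hord (s : G)
      rw [Subgroup.orderOf_coe, hk] at hs
      rcases hs with e | e | e | e
      · rw [hk, e]; exact one_dvd _
      · rcases eq_or_ne k 0 with rfl | hk0
        · simp at e
        · exact absurd ((Nat.prime_dvd_prime_iff_eq hpp Nat.prime_two).1 (e ▸ dvd_pow_self p hk0)) hp2
      · rw [hk, e]
      · rcases eq_or_ne k 0 with rfl | hk0
        · rw [hk, pow_zero]; exact one_dvd _
        · have h2 : 2 ∣ p ^ k := e ▸ dvd_mul_right 2 p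
          exact absurd ((Nat.prime_dvd_prime_iff_eq Nat.prime_two hpp).1
            (Nat.prime_two.dvd_of_dvd_pow h2)).symm hp2
    -- the index of the Sylow subgroup is two
    have hidx : T.index = 2 := by
      have hnp : ¬ p ∣ T.index := S.not_dvd_index
      have h2sq : ¬ 4 ∣ Nat.card G := by
        intro h4
        rw [hsum, hBeq, hA40, hA1] at h4
        -- an element set of fourth roots
        have h1 := dvd_card_pow (G := G) (show 4 ∣ Nat.card G by rw [hsum, hBeq, hA40, hA1]; exact h4)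
        have h2 : Nat.card {g : G // g ^ 4 = 1} = 2 := by
          rw [show (4 : ℕ) = 2 ^ (1 + 1) from rfl, card_pow_succ Nat.prime_two 1, pow_one,
            card_pow_prime Nat.prime_two, hc2']
          have : cnt G (2 ^ (1 + 1)) = 0 := by
            rw [cnt]
            have : IsEmpty {g : G // orderOf g = 2 ^ (1 + 1)} := ⟨fun g => h4e ⟨g.1, g.2⟩⟩
            exact Nat.card_of_isEmpty
          rw [this]
        rw [h2] at h1
        omega
      refine Nat.dvd_antisymm ?_ ?_
      · -- all prime divisors of the index are two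
        have hd : T.index ∣ Nat.card G := T.index_dvd_card
        rw [← Nat.prod_primeFactors_of_squarefree (n := T.index)]
        · refine (Finset.prod_dvd_prod_of_subset _ {2} _ fun r hr => ?_).trans (by simp)
          rw [mem_singleton]
          by_contra hr2
          have hrp := Nat.prime_of_mem_primeFactors hr
          haveI := Fact.mk hrp
          have hrd := (Nat.dvd_of_mem_primeFactors hr).trans hd
          have : r ∈ A := mem_filter.2 ⟨mem_ords.2 (exists_prime_orderOf_dvd_card' r hrd), hrp.ne_one,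
            hrp.odd_of_ne_two hr2⟩
          rw [hq, mem_singleton] at this
          exact hnp (this ▸ Nat.dvd_of_mem_primeFactors hr)
        · rw [Nat.squarefree_iff_prime_squarefree]
          intro r hrp hr
          by_cases hr2 : r = 2
          · subst hr2; exact h2sq (hr.trans hd)
          haveI := Fact.mk hrp
          have hrd := ((dvd_mul_right r r).trans hr).trans hd
          have : r ∈ A := mem_filter.2 ⟨mem_ords.2 (exists_prime_orderOf_dvd_card' r hrd), hrp.ne_one,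
            hrp.odd_of_ne_two hr2⟩
          rw [hq, mem_singleton] at this
          exact hnp (this ▸ (dvd_mul_right r r).trans hr)
      · obtain ⟨k, hk⟩ := hTp.exists_card_eq
        have h2 : 2 ∣ Nat.card G := hzo ▸ orderOf_dvd_natCard z
        rw [← T.card_mul_index, hk] at h2
        exact ((Nat.coprime_primes Nat.prime_two hpp).2 (Ne.symm hp2)).pow_right k |>.dvd_of_dvd_mul_left h2
    have hzT : z ∉ T := by
      intro hzT
      have h' := hpowT ⟨z, hzT⟩
      have h'' : orderOf z ∣ p := orderOf_dvd_of_pow_eq_one (congrArg Subtype.val h')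
      rw [hzo] at h''
      exact hp2 ((Nat.prime_dvd_prime_iff_eq Nat.prime_two hpp).1 h'').symm
    let Z : Subgroup G := zpowers z
    have hZcard : Nat.card Z = 2 := by rw [Nat.card_zpowers, hzo]
    have hcomm : ∀ (a : Z) (b : T), Commute (a : G) b := by
      intro a b
      obtain ⟨i, hi⟩ := Subgroup.mem_zpowers_iff.1 a.2
      rw [← hi]
      exact (Commute.zpow_left (hzc (b : G)).symm i)
    have hinj : Function.Injective (MonoidHom.noncommCoprod Z.subtype T.subtype hcomm) := by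
      rw [injective_iff_map_eq_one]
      rintro ⟨a, b⟩ hab
      change (a : G) * (b : G) = 1 at hab
      obtain ⟨i, hi⟩ := Subgroup.mem_zpowers_iff.1 a.2
      have haT : (a : G) ∈ T := by rw [eq_inv_of_mul_eq_one_left hab]; exact inv_mem b.2
      have ha1 : (a : G) = 1 := by
        rw [← hi] at haT ⊢
        rcases Int.even_or_odd i with he | ho
        · obtain ⟨j, rfl⟩ := he
          rw [zpow_add, ← Commute.mul_zpow (Commute.refl z), hz2, one_zpow]
        · obtain ⟨j, rfl⟩ := ho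
          rw [zpow_add, zpow_one, zpow_mul, zpow_two, hz2, one_zpow, one_mul] at haT
          exact absurd haT hzT
      have hb1 : (b : G) = 1 := by rw [ha1, one_mul] at hab; exact hab
      exact Prod.ext (Subtype.ext ha1) (Subtype.ext hb1)
    have hbij : Function.Bijective (MonoidHom.noncommCoprod Z.subtype T.subtype hcomm) :=
      hinj.bijective_of_nat_card_le (by
        rw [Nat.card_prod, hZcard, ← T.card_mul_index, hidx, mul_comm])
    obtain ⟨P', iG, iF, ⟨e⟩⟩ := type_zero_copy (S := T)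
    have hpowP : ∀ x : P', x ^ p = 1 := fun x => by
      obtain ⟨s, rfl⟩ := e.surjective x
      rw [← map_pow, hpowT s, map_one]
    refine Or.inr (Or.inr ⟨p, P', iG, iF, hpp, hp2, fun x => ⟨1, by rw [pow_one]; exact hpowP x⟩, ?_, ?_⟩)
    · refine (Nat.dvd_prime hpp).1 (Monoid.exponent_dvd_of_forall_pow_eq_one hpowP) |>.resolve_left ?_
      intro hexp
      haveI : Subsingleton P' := Monoid.exp_eq_one_iff.1 hexp
      haveI : Subsingleton T := e.toEquiv.subsingleton
      have h1 : Nat.card T = 1 := Nat.card_unique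
      have h2 : p ∣ Nat.card T := S.dvd_card_of_dvd_card hpd
      rw [h1] at h2
      exact hpp.not_dvd_one h2
    · haveI : IsCyclic Z := inferInstance
      exact ⟨(MulEquiv.ofBijective _ hbij).symm.trans
        (MulEquiv.prodCongr (mulEquivOfPrimeCardEq (p := 2) hZcard (by simp)) e)⟩

end Main

end Cfsg.Agent.S3995
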