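import Cfsg.Statements.S3996
import Cfsg.Agent.H74.SameFrobenius

set_option autoImplicit false
open Cfsg

namespace Cfsg.Agent.S3996

/-- A finite group in which the numbers of elements of each order that occurs (the numbers #{g : o(g) = m}, m ranging over the element orders) take exactly three different values is solvable. -/
theorem result {G : Type*} [Group G] [Finite G] (h : (((fun m : ℕ => Nat.card {g : G // orderOf g = m}) '' Set.range (orderOf : G → ℕ))).ncard = 3) : Group.IsSolvable G := by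
  classical
  obtain ⟨a, b, hV, h2v⟩ := H74.SameCount.exists_values h
  set T := (Nat.card G).primeFactors.erase 2 with hT
  have hTm : ∀ r, r ∈ T → r.Prime ∧ r ≠ 2 ∧ r ∣ Nat.card G := fun r hr =>
    ⟨Nat.prime_of_mem_primeFactors (Finset.mem_of_mem_erase hr), Finset.ne_of_mem_erase hr,
      Nat.dvd_of_mem_primeFactors (Finset.mem_of_mem_erase hr)⟩
  have hmem : ∀ r : ℕ, r.Prime → r ∣ Nat.card G → r = 2 ∨ r ∈ T := fun r hr hd =>
    (eq_or_ne r 2).imp_right fun h2 => Finset.mem_erase.2 ⟨h2, hr.mem_primeFactors hd Nat.card_pos.ne'⟩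
  -- at most one odd prime
  by_cases hone : T.card ≤ 1
  · obtain ⟨p, hp, hTp⟩ : ∃ p : ℕ, p.Prime ∧ ∀ r ∈ T, r = p := by
      rcases T.eq_empty_or_nonempty with e | ⟨p, hp⟩
      · exact ⟨2, Nat.prime_two, fun r hr => by simp [e] at hr⟩
      · exact ⟨p, (hTm p hp).1, fun r hr => Finset.card_le_one.1 hone r hr p hp⟩
    exact H74.SameCount.isSolvable_two 2 p Nat.prime_two hp fun r hr hd =>
      (hmem r hr hd).imp_right (hTp r)
  obtain ⟨p, hp, q, hq, hne⟩ := Finset.one_lt_card.1 (not_le.1 hone)
  haveI : Fact p.Prime := ⟨(hTm p hp).1⟩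
  haveI : Fact q.Prime := ⟨(hTm q hq).1⟩
  have hp2 := (hTm p hp).2.1
  have hq2 := (hTm q hq).2.1
  have hpd := (hTm p hp).2.2
  have hqd := (hTm q hq).2.2
  rcases h2v with h2le | h2a
  swap
  · -- several involutions: one common count, which is even
    exfalso
    have h2d : 2 ∣ Nat.card G := by
      obtain ⟨g, hg⟩ := H74.SameCount.cnt_ne_zero_iff.1
        (show H74.SameCount.cnt G 2 ≠ 0 by rw [h2a]; have := hV.1; omega)
      exact hg ▸ orderOf_dvd_natCard g
    haveI : Fact (Nat.Prime 2) := ⟨Nat.prime_two⟩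
    have hodd : Odd a := by
      have h0 := H74.SameCount.sum_prime (p := 2) h2d
      rw [h2a] at h0
      rw [← Nat.not_even_iff_odd, even_iff_two_dvd]
      intro hd
      rw [(ZMod.natCast_eq_zero_iff a 2).2 hd, add_zero] at h0
      exact one_ne_zero h0
    have hb : ∀ m, 2 < m → H74.SameCount.cnt G m = 0 ∨ H74.SameCount.cnt G m = b := fun m hm => by
      rcases hV.2.2.2 m hm with e | e | e
      · exact Or.inl e
      · exfalso
        obtain ⟨k, hk⟩ := Nat.totient_even hm
        obtain ⟨l, hl⟩ := H74.SameCount.totient_dvd_cnt (G := G) m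
        rw [e, hk] at hl
        exact (Nat.not_even_iff_odd.2 hodd) ⟨k * l, by rw [hl]; ring⟩
      · exact Or.inr e
    have hpb := (hb p (lt_of_le_of_ne (hTm p hp).1.two_le hp2.symm)).resolve_left
      (H74.SameCount.cnt_prime_ne_zero hpd)
    have hqb := (hb q (lt_of_le_of_ne (hTm q hq).1.two_le hq2.symm)).resolve_left
      (H74.SameCount.cnt_prime_ne_zero hqd)
    obtain ⟨hm, -⟩ := H74.SameCount.same_pair hV.swap hp2 hne hpd hqd hpb hqb
    rcases hb _ (H74.SameCount.two_lt_mul (p := p) (q := q)) with e | e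
    · rw [hm] at e; have := hV.1; omega
    · rw [hm] at e; exact hV.2.2.1 e
  by_cases h4 : 4 ∣ Nat.card G
  · exfalso
    haveI : Fact (Nat.Prime 2) := ⟨Nat.prime_two⟩
    have h2ne := H74.SameCount.cnt_prime_ne_zero (G := G) (p := 2) ((show 2 ∣ 4 by norm_num).trans h4)
    rcases (hV.2.2.2 p (lt_of_le_of_ne (hTm p hp).1.two_le hp2.symm)).resolve_left
      (H74.SameCount.cnt_prime_ne_zero hpd) with e | e
    · exact H74.SameCount.four_false hV (by omega) h4 hp2 hq2 hne hpd hqd e
    · exact H74.SameCount.four_false hV.swap (by omega) h4 hp2 hq2 hne hpd hqd e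
  have hTcard : T.card ≤ 2 := H74.SameCount.odd_primes_le hV h4
  have hT2 : ∀ r ∈ T, r = p ∨ r = q := by
    intro r hr
    by_contra hc
    push_neg at hc
    have hsub : ({p, q, r} : Finset ℕ) ⊆ T := by
      intro x hx
      simp only [Finset.mem_insert, Finset.mem_singleton] at hx
      rcases hx with rfl | rfl | rfl <;> assumption
    have h3 : ({p, q, r} : Finset ℕ).card = 3 :=
      Finset.card_eq_three.2 ⟨p, q, r, hne, hc.1.symm, hc.2.symm, rfl⟩
    have := Finset.card_le_card hsub
    omega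
  by_cases h2d : 2 ∣ Nat.card G
  swap
  · exact H74.SameCount.isSolvable_two p q (hTm p hp).1 (hTm q hq).1 fun r hr hd =>
      ((hmem r hr hd).resolve_left fun e => h2d (e ▸ hd)) |> hT2 r
  haveI : Fact (Nat.Prime 2) := ⟨Nat.prime_two⟩
  obtain ⟨z, hz⟩ := exists_prime_orderOf_dvd_card' 2 h2d
  have hzc : Subgroup.zpowers z ≤ Subgroup.center G := by
    rw [Subgroup.zpowers_le, Subgroup.mem_center_iff]
    intro g
    have hu : g * z * g⁻¹ = z := by
      have hcard : Nat.card {x : G // orderOf x = 2} ≤ 1 := h2le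
      haveI := Finite.card_le_one_iff_subsingleton.1 hcard
      exact congrArg Subtype.val (Subsingleton.elim
        (⟨g * z * g⁻¹, ((MulAut.conj g).orderOf_eq z).trans hz⟩ : {x : G // orderOf x = 2}) ⟨z, hz⟩)
    exact mul_inv_eq_iff_eq_mul.1 hu
  haveI : (Subgroup.zpowers z).Normal := ⟨fun x hx g => by
    rw [Subgroup.mem_center_iff.1 (hzc hx) g, mul_inv_cancel_right]; exact hx⟩
  have hcard := (Subgroup.zpowers z).card_mul_index
  rw [Nat.card_zpowers, hz, Subgroup.index_eq_card] at hcard
  haveI := H74.SameCount.isSolvable_two (G := G ⧸ Subgroup.zpowers z) p q (hTm p hp).1 (hTm q hq).1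
    fun r hr hd => by
      have hrd : r ∣ Nat.card G := hcard ▸ hd.mul_left 2
      refine hT2 r ((hmem r hr hrd).resolve_left fun e => h4 ?_)
      subst e
      rw [← hcard]
      exact mul_dvd_mul_left 2 hd
  haveI : Group.IsSolvable (Subgroup.zpowers z) :=
    Group.isSolvable_of_comm fun x y => Subtype.ext ((Subgroup.mem_center_iff.1 (hzc y.2) x))
  exact Group.isSolvable_of_ker_le_range (Subgroup.zpowers z).subtype (QuotientGroup.mk' (Subgroup.zpowers z))
    (by simp)

end Cfsg.Agent.S3996
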