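import Cfsg.Statements.S3997
import Cfsg.Agent.H74.OrderType
import Cfsg.Agent.H74.OrderTypeTower

set_option autoImplicit false
open Cfsg

namespace Cfsg.Agent.S3997

/-- Let G and H be finite groups with the same order type: for every m they have the same number of elements of order m. If G is nilpotent then so is H. -/
theorem result {G H : Type*} [Group G] [Finite G] [Group H] [Finite H] (hT : (∀ m : ℕ, Nat.card {g : G // orderOf g = m} = Nat.card {h : H // orderOf h = m})) (hG : Group.IsNilpotent G) :
    Group.IsNilpotent H := by
  have key : ∀ (p : ℕ) [Fact p.Prime] (P : Sylow p H), (P : Subgroup H).Normal := by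
    intro p _ P
    obtain ⟨S⟩ : Nonempty (Sylow p G) := inferInstance
    haveI : (S : Subgroup G).Normal := Sylow.normal_of_normalizerCondition Group.normalizerCondition_of_isNilpotent S
    have hG' := Cfsg.Agent.H74.Tower.card_pow_eq_one_of_normal (S : Subgroup G) S.card_coprime_index
    have hc : Nat.card P = Nat.card S := by
      rw [P.card_eq_multiplicity, S.card_eq_multiplicity, Cfsg.Agent.H74.OrderType.card_eq hT]
    refine Cfsg.Agent.H74.Tower.normal_of_count (P : Subgroup H) hc ?_
    rw [← Cfsg.Agent.H74.OrderType.card_pow_eq_one hT]
    exact hG'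
  exact ((Group.isNilpotent_of_finite_tfae (G := H)).out 0 3).mpr key

end Cfsg.Agent.S3997
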