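import Cfsg.Statements.S3998
import Cfsg.Agent.H74.OrderType
import Cfsg.Agent.H74.OrderTypeTower

set_option autoImplicit false
open Cfsg

namespace Cfsg.Agent.S3998

/-- Let G and H be finite groups with the same order type (for every m the same number of elements of order m). If G is supersolvable then H is solvable. -/
theorem result {G H : Type*} [Group G] [Finite G] [Group H] [Finite H] (hT : (∀ m : ℕ, Nat.card {g : G // orderOf g = m} = Nat.card {h : H // orderOf h = m})) (hG : Cfsg.IsSupersolvable G) :
    Group.IsSolvable H := by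
  refine Cfsg.Agent.H74.Tower.isSolvable_of_counts fun k => ?_
  have hpow : ∀ m : ℕ, Nat.card {g : G // g ^ m = 1} = Nat.card {h : H // h ^ m = 1} :=
    fun m => Cfsg.Agent.H74.OrderType.card_pow_eq_one hT m
  have hcard : Nat.card G = Nat.card H := Cfsg.Agent.H74.OrderType.card_eq hT
  obtain ⟨N, hN, hNc, hcop⟩ :=
    Cfsg.Agent.H74.Tower.exists_normal_upper_supersolvable hG k
  rw [← hcard, ← hpow, ← hNc]
  exact Cfsg.Agent.H74.Tower.card_pow_eq_one_of_normal N hcop

end Cfsg.Agent.S3998
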