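import Cfsg.Statements.S4002
import Cfsg.Agent.Hall.ThreePrimes
import Mathlib.NumberTheory.Bertrand

set_option autoImplicit false
open Cfsg

namespace Cfsg.Agent.S4002

theorem exists_three (n : ℕ) (hn : 7 ≤ n) :
    ∃ a b c : ℕ, a.Prime ∧ b.Prime ∧ c.Prime ∧ a < b ∧ b < c ∧ c ≤ n ∧ n < a * b := by
  rcases Nat.lt_or_ge n 15 with h | h
  · exact ⟨3, 5, 7, by norm_num, by norm_num, by norm_num, by norm_num, by norm_num, hn, by omega⟩
  rcases Nat.lt_or_ge n 35 with h' | h'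
  · exact ⟨5, 7, 11, by norm_num, by norm_num, by norm_num, by norm_num, by norm_num, by omega,
      by omega⟩
  obtain ⟨a, ha, ha1, ha2⟩ := Nat.exists_prime_lt_and_le_two_mul (n / 8) (by omega)
  obtain ⟨b, hb, hb1, hb2⟩ := Nat.exists_prime_lt_and_le_two_mul (n / 4) (by omega)
  obtain ⟨c, hc, hc1, hc2⟩ := Nat.exists_prime_lt_and_le_two_mul (n / 2) (by omega)
  refine ⟨a, b, c, ha, hb, hc, by omega, by omega, by omega, ?_⟩
  have h1 : (n / 8 + 1) * (n / 4 + 1) ≤ a * b := Nat.mul_le_mul ha1 hb1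
  have h2 : 5 * (n / 4 + 1) ≤ (n / 8 + 1) * (n / 4 + 1) := Nat.mul_le_mul_right _ (by omega)
  omega

/-- If the set of element orders of a finite group G is {1, 2, …, n} with n ≥ 7, then G is not solvable. -/
theorem result {G : Type*} [Group G] [Finite G] (n : ℕ) (hn : 7 ≤ n) (h : Set.range (orderOf : G → ℕ) = {k : ℕ | 1 ≤ k ∧ k ≤ n}) : ¬ Group.IsSolvable G := by
  intro hG
  obtain ⟨a, b, c, ha, hb, hc, hab, hbc, hcn, hmul⟩ := exists_three n hn
  have hle : ∀ k, 1 ≤ k → k ≤ n → k ∣ Nat.card G := fun k h1 h2 => by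
    obtain ⟨x, hx⟩ : k ∈ Set.range (orderOf : G → ℕ) := h.symm ▸ ⟨h1, h2⟩
    exact hx ▸ orderOf_dvd_natCard x
  have hlt : ∀ x : G, orderOf x ≤ n := fun x => by
    have h1 : orderOf x ∈ {k : ℕ | 1 ≤ k ∧ k ≤ n} := h ▸ Set.mem_range_self x
    exact h1.2
  refine Hall.three_primes_false (G := G) {a, b, c}
    (le_of_eq (Finset.card_eq_three.mpr
      ⟨a, b, c, hab.ne, (hab.trans hbc).ne, hbc.ne, rfl⟩).symm) ?_ ?_
  · intro r hr
    simp only [Finset.mem_insert, Finset.mem_singleton] at hr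
    rcases hr with rfl | rfl | rfl
    · exact ⟨ha, hle _ ha.pos (by omega)⟩
    · exact ⟨hb, hle _ hb.pos (by omega)⟩
    · exact ⟨hc, hle _ hc.pos hcn⟩
  · intro r hr s hs hrs ⟨x, hx⟩
    have h1 := hlt x
    rw [hx] at h1
    have h2 : a * b ≤ a * c := Nat.mul_le_mul_left a hbc.le
    have h3 : a * c ≤ b * c := Nat.mul_le_mul_right c hab.le
    simp only [Finset.mem_insert, Finset.mem_singleton] at hr hs
    rcases hr with rfl | rfl | rfl <;> rcases hs with rfl | rfl | rfl <;>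
      first
        | exact hrs rfl
        | (rw [Nat.mul_comm] at h1; omega)
        | omega

end Cfsg.Agent.S4002
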