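import Cfsg.Statements.S4003
import Cfsg.Agent.H87.CyclicCount
-- import your own Cfsg.Agent.* helpers here

set_option autoImplicit false
open Cfsg

namespace Cfsg.Agent.S4003

variable {G : Type*} [Group G] [Finite G] {p : ℕ} [hp : Fact p.Prime]

open Cfsg.Agent.H87.CyclicCount in
/-- The contribution of one conjugacy class of elements of order prime to `p`. -/
theorem class_dvd (hodd : p ≠ 2) (P : Sylow p G) (hP : ¬ IsCyclic ↥(P : Subgroup G)) (s : ℕ) (hs : 1 < s)
    (z : G) :
    p ^ s ∣ (Subgroup.centralizer ({z} : Set G)).index * Nat.card {y : G // orderOf y = p ^ s ∧ Commute y z} := by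
  classical
  set C := Subgroup.centralizer ({z} : Set G) with hC
  have e : {y : G // orderOf y = p ^ s ∧ Commute y z} ≃ {y : C // orderOf y = p ^ s} :=
    { toFun := fun y => ⟨⟨y.1, by rw [hC, Subgroup.mem_centralizer_singleton_iff]; exact y.2.2.eq⟩, by
        rw [← Subgroup.orderOf_coe]; exact y.2.1⟩
      invFun := fun y => ⟨y.1.1, by rw [Subgroup.orderOf_coe]; exact y.2, by
        exact Subgroup.mem_centralizer_singleton_iff.mp (hC.le y.1.2)⟩
      left_inv := fun _ => rfl
      right_inv := fun _ => rfl }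
  rw [Nat.card_congr e]
  obtain ⟨Q⟩ := (inferInstance : Nonempty (Sylow p C))
  by_cases hQ : IsCyclic ↥(Q : Subgroup C)
  · have hidx : p ∣ C.index := by
      by_contra hnd
      have hmap : IsPGroup p ((Q : Subgroup C).map C.subtype) := Q.isPGroup'.map _
      have hni : ¬ p ∣ ((Q : Subgroup C).map C.subtype).index := by
        rw [Subgroup.index_map_subtype]
        exact hp.out.not_dvd_mul Q.not_dvd_index hnd
      let R : Sylow p G := hmap.toSylow hni
      haveI := hQ
      have : IsCyclic ↥((Q : Subgroup C).map C.subtype) :=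
        isCyclic_of_surjective _ (Subgroup.equivMapOfInjective _ _ C.subtype_injective).surjective
      haveI : IsCyclic ↥(R : Subgroup G) := this
      exact hP (isCyclic_of_surjective _ ((R.equiv P)).surjective)
    have h2 : p ^ (s - 1) ∣ Nat.card {y : C // orderOf y = p ^ s} := by
      rw [card_eq_mul (fun x : C => orderOf x = p ^ s)
        (fun x y hx h => by rw [← Nat.card_zpowers, h, Nat.card_zpowers, hx]) (p ^ s) (fun _ h => h),
        Nat.totient_prime_pow hp.out (n := s) (by omega)]
      exact Dvd.dvd.mul_left (dvd_mul_right _ _) _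
    calc p ^ s = p * p ^ (s - 1) := by rw [← pow_succ']; congr 1; omega
      _ ∣ _ := mul_dvd_mul hidx h2
  · exact Dvd.dvd.mul_left (group_dvd hodd Q hQ s hs) _

omit hp in
/-- Splitting an element into its two commuting parts of coprime orders. -/
noncomputable def partsEquiv (a m : ℕ) (ham : a.Coprime m) (ha : 0 < a) (hm : 0 < m) :
    {g : G // orderOf g = a * m} ≃ Σ z : {z : G // orderOf z = m}, {y : G // orderOf y = a ∧ Commute y z.1} := by
  refine Equiv.symm (Equiv.ofBijective
    (fun u => ⟨u.2.1 * u.1.1, by rw [u.2.2.2.orderOf_mul_eq_mul_orderOf_of_coprime (by rw [u.2.2.1, u.1.2]; exact ham),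
      u.2.2.1, u.1.2]⟩) ⟨?_, ?_⟩)
  · rintro ⟨⟨z, hz⟩, y, hy, hyz⟩ ⟨⟨z', hz'⟩, y', hy', hyz'⟩ h
    have h1 : y * z = y' * z' := congrArg Subtype.val h
    have hpow : ∀ (Y Z : G), Commute Y Z → orderOf Y = a → (Y * Z) ^ a = Z ^ a := fun Y Z hc ho => by
      rw [hc.mul_pow, ← ho, pow_orderOf_eq_one, one_mul]
    have h2 : z ^ a = z' ^ a := by rw [← hpow y z hyz hy, ← hpow y' z' hyz' hy', h1]
    have h3 : z = z' := by
      obtain ⟨k, hk⟩ := exists_pow_eq_self_of_coprime (x := z) (n := a) (by rw [hz]; exact ham)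
      have : a * k ≡ 1 [MOD m] := by
        rw [← hz]
        exact pow_eq_pow_iff_modEq.mp (by rw [pow_mul, hk, pow_one])
      rw [← hk, h2, ← pow_mul]
      conv_rhs => rw [← pow_one z']
      exact pow_eq_pow_iff_modEq.mpr (by rw [hz']; exact this)
    subst h3
    have h4 : y = y' := mul_right_cancel h1
    subst h4
    rfl
  · rintro ⟨g, hg⟩
    obtain ⟨i, hi1, hi2⟩ := Nat.chineseRemainder ham 1 0
    obtain ⟨j, hj1, hj2⟩ := Nat.chineseRemainder ham 0 1
    have hy : (g ^ i) ^ a = 1 := by
      rw [← pow_mul, ← orderOf_dvd_iff_pow_eq_one, hg, mul_comm i a]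
      exact mul_dvd_mul_left a (Nat.modEq_zero_iff_dvd.mp hi2)
    have hz : (g ^ j) ^ m = 1 := by
      rw [← pow_mul, ← orderOf_dvd_iff_pow_eq_one, hg, mul_comm j m, mul_comm a m]
      exact mul_dvd_mul_left m (Nat.modEq_zero_iff_dvd.mp hj1)
    have hmod : i + j ≡ 1 [MOD orderOf g] := by
      rw [hg]
      exact (Nat.modEq_and_modEq_iff_modEq_mul ham).mp ⟨by simpa using hi1.add hj1, by simpa using hi2.add hj2⟩
    have hprod : g ^ i * g ^ j = g := by
      rw [← pow_add]
      conv_rhs => rw [← pow_one g]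
      exact pow_eq_pow_iff_modEq.mpr hmod
    have hc : Commute (g ^ i) (g ^ j) := (Commute.refl g).pow_pow i j
    have hdy := orderOf_dvd_of_pow_eq_one hy
    have hdz := orderOf_dvd_of_pow_eq_one hz
    have hmul := hc.orderOf_mul_eq_mul_orderOf_of_coprime ((ham.coprime_dvd_left hdy).coprime_dvd_right hdz)
    rw [hprod, hg] at hmul
    have ly : orderOf (g ^ i) = a := by
      refine Nat.dvd_antisymm hdy ?_
      have : a ∣ orderOf (g ^ i) * orderOf (g ^ j) := ⟨m, hmul.symm⟩
      exact (ham.coprime_dvd_right hdz).dvd_of_dvd_mul_right this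
    have lz : orderOf (g ^ j) = m := by
      refine Nat.dvd_antisymm hdz ?_
      have : m ∣ orderOf (g ^ i) * orderOf (g ^ j) := ⟨a, by rw [← hmul, mul_comm]⟩
      exact (ham.symm.coprime_dvd_right hdy).dvd_of_dvd_mul_left this
    exact ⟨⟨⟨g ^ j, lz⟩, g ^ i, ly, hc⟩, Subtype.ext hprod⟩

/-- Let G be a finite group, p an odd prime dividing the order of G whose Sylow p-subgroups are not cyclic, and n = p^s·m with s > 1 and m coprime to p. Then the number of elements of G of order n is a multiple of p^s. -/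
theorem result {G : Type*} [Group G] [Finite G] (p : ℕ) [Fact p.Prime] (hodd : p ≠ 2) (hpG : p ∣ Nat.card G)
    (P : Sylow p G) (hP : ¬ IsCyclic ↥(P : Subgroup G)) (s m : ℕ) (hs : 1 < s) (hm : Nat.Coprime p m) :
    p ^ s ∣ Nat.card {g : G // orderOf g = p ^ s * m} := by
  classical
  have hp' : p.Prime := Fact.out
  have hm0 : 0 < m := by
    rcases Nat.eq_zero_or_pos m with rfl | h
    · rw [Nat.coprime_zero_right] at hm; exact absurd hm hp'.one_lt.ne'
    · exact h
  rw [Nat.card_congr (partsEquiv (p ^ s) m (hm.pow_left s) (pow_pos hp'.pos s) hm0)]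
  haveI : Fintype G := Fintype.ofFinite G
  haveI : Fintype (ConjClasses G) := @Fintype.ofFinite _ (Finite.of_surjective _ ConjClasses.mk_surjective)
  rw [Nat.card_sigma]
  let f : G → ℕ := fun z => Nat.card {y : G // orderOf y = p ^ s ∧ Commute y z}
  have hf : ∀ z g : G, f (g * z * g⁻¹) = f z := fun z g => Nat.card_congr
    { toFun := fun y => ⟨g⁻¹ * y.1 * g, by
        rw [show g⁻¹ * y.1 * g = MulAut.conj g⁻¹ y.1 by simp, MulEquiv.orderOf_eq]; exact y.2.1, by
        have h := y.2.2.map (MulAut.conj g⁻¹)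
        simpa [mul_assoc] using h⟩
      invFun := fun y => ⟨g * y.1 * g⁻¹, by
        rw [show g * y.1 * g⁻¹ = MulAut.conj g y.1 by simp, MulEquiv.orderOf_eq]; exact y.2.1, by
        have h := y.2.2.map (MulAut.conj g)
        simpa [mul_assoc] using h⟩
      left_inv := fun y => Subtype.ext (by simp [mul_assoc])
      right_inv := fun y => Subtype.ext (by simp [mul_assoc]) }
  change p ^ s ∣ ∑ z : {z : G // orderOf z = m}, f z.1
  rw [← Finset.sum_subtype (Finset.univ.filter fun z : G => orderOf z = m) (by simp) f,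
    ← Finset.sum_fiberwise _ ConjClasses.mk f]
  refine Finset.dvd_sum fun c _ => ?_
  obtain ⟨z, rfl⟩ := ConjClasses.mk_surjective c
  by_cases hz : orderOf z = m
  · have hset : (Finset.univ.filter fun w : G => orderOf w = m).filter (fun w => ConjClasses.mk w = ConjClasses.mk z)
        = (ConjClasses.mk z).carrier.toFinset := by
      ext w
      simp only [Finset.mem_filter, Finset.mem_univ, true_and, Set.mem_toFinset, ConjClasses.mem_carrier_iff_mk_eq]
      refine ⟨fun h => h.2, fun h => ⟨?_, h⟩⟩
      obtain ⟨g, hg⟩ := isConj_iff.mp (ConjClasses.mk_eq_mk_iff_isConj.mp h.symm)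
      rw [← hz, ← hg, show g * z * g⁻¹ = MulAut.conj g z by simp, MulEquiv.orderOf_eq]
    have hconst : ∀ w ∈ (ConjClasses.mk z).carrier.toFinset, f w = f z := by
      intro w hw
      obtain ⟨g, hg⟩ := isConj_iff.mp (ConjClasses.mk_eq_mk_iff_isConj.mp
        (ConjClasses.mem_carrier_iff_mk_eq.mp (Set.mem_toFinset.mp hw)).symm)
      rw [← hg, hf]
    rw [hset, Finset.sum_congr rfl hconst, Finset.sum_const, smul_eq_mul, ← Nat.card_eq_card_toFinset,
      ← ConjAct.orbit_eq_carrier_conjClasses]
    have hidx : Nat.card (MulAction.orbit (ConjAct G) z) = (Subgroup.centralizer ({z} : Set G)).index := by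
      rw [Subgroup.centralizer_eq_comap_stabilizer]
      refine ((Subgroup.index_comap_of_surjective _ (ConjAct.toConjAct (G := G)).surjective).trans ?_).symm
      rw [MulAction.index_stabilizer]
      exact (Nat.card_coe_set_eq _).symm
    rw [hidx]
    exact class_dvd hodd P hP s hs z
  · have hset : (Finset.univ.filter fun w : G => orderOf w = m).filter (fun w => ConjClasses.mk w = ConjClasses.mk z) = ∅ := by
      ext w
      simp only [Finset.mem_filter, Finset.mem_univ, true_and, Finset.notMem_empty, iff_false, not_and]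
      intro hw h
      obtain ⟨g, hg⟩ := isConj_iff.mp (ConjClasses.mk_eq_mk_iff_isConj.mp h.symm)
      exact hz (by rw [← hw, ← hg, show g * z * g⁻¹ = MulAut.conj g z by simp, MulEquiv.orderOf_eq])
    rw [hset]
    simp

end Cfsg.Agent.S4003
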