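import Cfsg.Statements.S4004
import Cfsg.Agent.H74.SameFrobenius

set_option autoImplicit false
open Cfsg

namespace Cfsg.Agent.S4004

/-- Let G be a finite group of odd order in which the numbers of elements of each order that occurs (the numbers #{g : o(g) = m}, m ranging over the element orders of G) take exactly three different values. Then the order of G has at most two prime divisors; and if it has exactly two, then every Sylow subgroup of G for a prime dividing its order has prime exponent, G is a Frobenius group, and some Frobenius complement of G has prime order. -/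
theorem result {G : Type*} [Group G] [Finite G] (hodd : Odd (Nat.card G)) (h : (((fun m : ℕ => Nat.card {g : G // orderOf g = m}) '' Set.range (orderOf : G → ℕ))).ncard = 3) :
    (Nat.card G).primeFactors.card ≤ 2 ∧
      ((Nat.card G).primeFactors.card = 2 →
        (∀ (p : ℕ) [Fact p.Prime] (P : Sylow p G), p ∣ Nat.card G → Monoid.exponent ↥(P : Subgroup G) = p) ∧
        ∃ C : Subgroup G, Cfsg.IsFrobeniusComplement C ∧ (Nat.card ↥C).Prime) := by
  classical
  obtain ⟨a, b, hV, -⟩ := H74.SameCount.exists_values h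
  have h4 : ¬ 4 ∣ Nat.card G := fun hd =>
    (Nat.not_even_iff_odd.2 hodd) (even_iff_two_dvd.2 ((show 2 ∣ 4 by norm_num).trans hd))
  have hE : (Nat.card G).primeFactors.erase 2 = (Nat.card G).primeFactors :=
    Finset.erase_eq_of_notMem fun hm =>
      (Nat.not_even_iff_odd.2 hodd) (even_iff_two_dvd.2 (Nat.dvd_of_mem_primeFactors hm))
  refine ⟨hE ▸ H74.SameCount.odd_primes_le hV h4, fun hcard => ?_⟩
  obtain ⟨p, q, hne, hpq⟩ := Finset.card_eq_two.1 hcard
  have hp : p ∈ (Nat.card G).primeFactors := by rw [hpq]; simp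
  have hq : q ∈ (Nat.card G).primeFactors := by rw [hpq]; simp
  haveI : Fact p.Prime := ⟨Nat.prime_of_mem_primeFactors hp⟩
  haveI : Fact q.Prime := ⟨Nat.prime_of_mem_primeFactors hq⟩
  obtain ⟨hsq, hC⟩ := H74.SameCount.two_prime_case hV hodd hne (fun r hr hrd => by
      have hm : r ∈ (Nat.card G).primeFactors := hr.mem_primeFactors hrd Nat.card_pos.ne'
      rw [hpq, Finset.mem_insert, Finset.mem_singleton] at hm
      exact hm)
    (Nat.dvd_of_mem_primeFactors hp) (Nat.dvd_of_mem_primeFactors hq)
  refine ⟨fun r _ P hrd => ?_, hC⟩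
  have hr : r.Prime := Fact.out
  have hall : ∀ x : (P : Subgroup G), x ^ r = 1 := by
    intro x
    obtain ⟨k, hk⟩ := IsPGroup.iff_orderOf.1 P.isPGroup' x
    by_contra hx
    have h2 : 2 ≤ k := by
      by_contra hk2
      exact hx (orderOf_dvd_iff_pow_eq_one.1 (hk ▸ (by
        simpa using pow_dvd_pow r (show k ≤ 1 by omega))))
    refine H74.SameCount.cnt_ne_zero_iff.2 ⟨((x : G)) ^ r ^ (k - 2), ?_⟩ (hsq r hr hrd)
    rw [orderOf_pow_of_dvd (pow_ne_zero _ hr.ne_zero) (by
        rw [Subgroup.orderOf_coe, hk]; exact pow_dvd_pow r (by omega)),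
      Subgroup.orderOf_coe, hk, Nat.pow_div (by omega) hr.pos, Nat.sub_sub_self h2]
  rcases hr.eq_one_or_self_of_dvd _ (Monoid.exponent_dvd_of_forall_pow_eq_one hall) with e | e
  · exfalso
    refine P.ne_bot_of_dvd_card hrd ((Subgroup.eq_bot_iff_forall _).2 fun x hx => ?_)
    have h1 := Monoid.pow_exponent_eq_one (⟨x, hx⟩ : (P : Subgroup G))
    rw [e, pow_one] at h1
    exact congrArg Subtype.val h1
  · exact e

end Cfsg.Agent.S4004
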