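import Cfsg.Statements.S4005
import Cfsg.Agent.Arith.CoxeterA
-- import your own Cfsg.Agent.* helpers here

set_option autoImplicit false
open Cfsg

namespace Cfsg.Agent.S4005

/-- A finite group whose set of element orders is exactly {1, 2, 3} has either a normal elementary abelian 3-subgroup of index 2 or a normal elementary abelian 2-subgroup of index 3. -/
theorem result {G : Type*} [Group G] [Finite G] (h : Set.range (orderOf : G → ℕ) = {k : ℕ | 1 ≤ k ∧ k ≤ 3}) :
    (∃ N : Subgroup G, N.Normal ∧ Cfsg.IsElementaryAbelian 3 N ∧ N.index = 2) ∨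
      (∃ N : Subgroup G, N.Normal ∧ Cfsg.IsElementaryAbelian 2 N ∧ N.index = 3) := by
  classical
  have hord : ∀ g : G, g = 1 ∨ orderOf g = 2 ∨ orderOf g = 3 := by
    intro g
    have : orderOf g ∈ Set.range (orderOf : G → ℕ) := ⟨g, rfl⟩
    rw [h] at this
    obtain ⟨h1, h2⟩ := this
    rcases (show orderOf g = 1 ∨ orderOf g = 2 ∨ orderOf g = 3 by omega) with e | e | e
    · exact Or.inl (orderOf_eq_one_iff.1 e)
    · exact Or.inr (Or.inl e)
    · exact Or.inr (Or.inr e)
  have mixed : ∀ x y : G, orderOf x = 2 → orderOf y = 3 → x * y ≠ y * x := by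
    intro x y hx hy hc
    have := (show Commute x y from hc).orderOf_mul_eq_mul_orderOf_of_coprime (by rw [hx, hy]; decide)
    rw [hx, hy] at this
    rcases hord (x * y) with e | e | e
    · rw [e, orderOf_one] at this; omega
    all_goals omega
  have primes : ∀ r, r.Prime → r ∣ Nat.card G → r = 2 ∨ r = 3 := by
    intro r hr hd
    haveI := Fact.mk hr
    obtain ⟨g, hg⟩ := exists_prime_orderOf_dvd_card' r hd
    rcases hord g with e | e | e
    · rw [e, orderOf_one] at hg; exact absurd hg.symm hr.one_lt.ne'
    · exact Or.inl (hg ▸ e)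
    · exact Or.inr (hg ▸ e)
  haveI : Fact (Nat.Prime 2) := ⟨Nat.prime_two⟩
  haveI : Fact (Nat.Prime 3) := ⟨Nat.prime_three⟩
  obtain ⟨i, hi⟩ : (2 : ℕ) ∈ Set.range (orderOf : G → ℕ) := by rw [h]; exact ⟨by norm_num, by norm_num⟩
  obtain ⟨u, hu⟩ : (3 : ℕ) ∈ Set.range (orderOf : G → ℕ) := by rw [h]; exact ⟨by norm_num, by norm_num⟩
  let S : Sylow 2 G := default
  let P : Sylow 3 G := default
  have hS2 : ∀ x ∈ (S : Subgroup G), x * x = 1 := by
    intro x hx
    rcases hord x with e | e | e
    · simp [e]
    · rw [← sq, ← e, pow_orderOf_eq_one]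
    · exfalso
      obtain ⟨k, hk⟩ := S.isPGroup' ⟨x, hx⟩
      have := orderOf_dvd_of_pow_eq_one (show x ^ 2 ^ k = 1 from congrArg Subtype.val hk)
      rw [e] at this
      exact absurd (Nat.prime_three.dvd_of_dvd_pow this) (by decide)
  have hP3 : ∀ x ∈ (P : Subgroup G), x ^ 3 = 1 := by
    intro x hx
    rcases hord x with e | e | e
    · simp [e]
    · exfalso
      obtain ⟨k, hk⟩ := P.isPGroup' ⟨x, hx⟩
      have := orderOf_dvd_of_pow_eq_one (show x ^ 3 ^ k = 1 from congrArg Subtype.val hk)
      rw [e] at this
      exact absurd (Nat.prime_two.dvd_of_dvd_pow this) (by decide)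
    · rw [← e, pow_orderOf_eq_one]
  -- the order of the group
  obtain ⟨a, ha⟩ := IsPGroup.iff_card.1 S.isPGroup'
  obtain ⟨b, hb⟩ := IsPGroup.iff_card.1 P.isPGroup'
  have hab : Nat.card G = 2 ^ a * 3 ^ b := by
    apply Nat.eq_of_factorization_eq Nat.card_pos.ne' (by positivity)
    intro r
    by_cases hr : r.Prime
    · by_cases hd : r ∣ Nat.card G
      · have e2 := S.card_eq_multiplicity
        have e3 := P.card_eq_multiplicity
        rw [ha] at e2; rw [hb] at e3
        have a2 := Nat.pow_right_injective le_rfl e2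
        have b3 := Nat.pow_right_injective (by norm_num : 2 ≤ 3) e3
        rw [Nat.factorization_mul (by positivity) (by positivity), Nat.prime_two.factorization_pow,
          Nat.prime_three.factorization_pow, a2, b3]
        rcases primes r hr hd with rfl | rfl <;> simp
      · rw [Nat.factorization_eq_zero_of_not_dvd hd, Nat.factorization_eq_zero_of_not_dvd]
        intro hd'
        rcases hr.dvd_mul.1 hd' with h' | h'
        · rw [(Nat.prime_dvd_prime_iff_eq hr Nat.prime_two).1 (hr.dvd_of_dvd_pow h')] at hd
          exact hd (hi ▸ orderOf_dvd_natCard i)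
        · rw [(Nat.prime_dvd_prime_iff_eq hr Nat.prime_three).1 (hr.dvd_of_dvd_pow h')] at hd
          exact hd (hu ▸ orderOf_dvd_natCard u)
    · simp [Nat.factorization_eq_zero_of_not_prime _ hr]
  by_cases ha1 : a = 1
  · left
    subst ha1
    have hidx : (P : Subgroup G).index = 2 := by
      have := (P : Subgroup G).card_mul_index
      rw [hb, hab] at this
      exact Nat.eq_of_mul_eq_mul_left (by positivity : 0 < 3 ^ b) (this.trans (by ring))
    have hn := Subgroup.normal_of_index_eq_two hidx
    have hout : ∀ x, x ∉ (P : Subgroup G) → x * x = 1 := by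
      intro x hx
      rcases hord x with e | e | e
      · simp [e]
      · rw [← sq, ← e, pow_orderOf_eq_one]
      · exfalso
        have h3 : x * x ∈ (P : Subgroup G) := Subgroup.mul_self_mem_of_index_two hidx x
        have : x = (x * x) ^ 2 := by
          rw [← sq, ← pow_mul, show 2 * 2 = 3 + 1 from rfl, pow_succ, ← e, pow_orderOf_eq_one, one_mul]
        exact hx (by rw [this]; exact pow_mem h3 2)
    have hiP : i ∉ (P : Subgroup G) := by
      intro hmem
      have := orderOf_dvd_of_pow_eq_one (hP3 i hmem)
      rw [hi] at this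
      norm_num at this
    have hinv : ∀ x ∈ (P : Subgroup G), i * x * i = x⁻¹ := by
      intro x hx
      have hxi : x * i ∉ (P : Subgroup G) := fun hc => hiP (((P : Subgroup G).mul_mem_cancel_left hx).1 hc)
      have := hout _ hxi
      rw [← mul_eq_one_iff_eq_inv', ← this]
      group
    refine ⟨P, hn, ⟨⟨⟨fun x y => Subtype.ext ?_⟩⟩, hP3⟩, hidx⟩
    have hii : i * i = 1 := by rw [← sq, ← hi, pow_orderOf_eq_one]
    have e := hinv _ (mul_mem x.2 y.2)
    rw [show i * ((x : G) * y) * i = (i * x * i) * (i * y * i) by
      simp only [mul_assoc]; rw [← mul_assoc i i, hii, one_mul], hinv _ x.2, hinv _ y.2,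
      ← mul_inv_rev, inv_inj] at e
    exact e.symm
  · right
    have ha2 : 2 ≤ a := by
      rcases Nat.eq_zero_or_pos a with h0 | h0
      · exfalso
        have h2 : 2 ∣ Nat.card G := hi ▸ orderOf_dvd_natCard i
        rw [hab, h0, pow_zero, one_mul] at h2
        exact absurd (Nat.prime_two.dvd_of_dvd_pow h2) (by decide)
      · omega
    have inv2 : ∀ x : G, orderOf x = 2 → x⁻¹ = x := fun x hx => by
      rw [inv_eq_iff_mul_eq_one, ← sq, ← hx, pow_orderOf_eq_one]
    have hScomm : ∀ x ∈ (S : Subgroup G), ∀ y ∈ (S : Subgroup G), x * y = y * x := by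
      intro x hx y hy
      have := hS2 _ (mul_mem hx hy)
      calc x * y = x * ((x * y) * (x * y)) * y := by rw [this, mul_one]
        _ = (x * x) * (y * x) * (y * y) := by group
        _ = y * x := by rw [hS2 x hx, hS2 y hy, one_mul, mul_one]
    -- every involution lies in `S`
    have hall : ∀ y : G, orderOf y = 2 → y ∈ (S : Subgroup G) := by
      intro y hy
      by_contra hyS
      have hpair : ∀ x ∈ (S : Subgroup G), x ≠ 1 → (x * y) ^ 3 = 1 := by
        intro x hx hx1
        have hx2 : orderOf x = 2 := orderOf_eq_prime (by rw [sq]; exact hS2 x hx) hx1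
        rcases hord (x * y) with e | e | e
        · exact absurd (by rw [← inv_eq_of_mul_eq_one_right e, inv2 x hx2]; exact hx) hyS
        · exfalso
          -- `y` would normalise, hence centralise, `S`
          have hc : y * x = x * y := by
            have := inv2 _ e
            rwa [mul_inv_rev, inv2 x hx2, inv2 y hy] at this
          have hcent : ∀ z : G, z * x = x * z → orderOf z ≠ 3 := fun z hz hz3 => mixed x z hx2 hz3 hz.symm
          let C : Subgroup G := Subgroup.centralizer {x}
          have hC2 : ∀ z ∈ C, z * z = 1 := by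
            intro z hz
            have hz' : z * x = x * z := (Subgroup.mem_centralizer_singleton_iff.1 hz)
            rcases hord z with e | e | e
            · simp [e]
            · rw [← sq, ← e, pow_orderOf_eq_one]
            · exact absurd e (hcent z hz')
          have hCp : IsPGroup 2 C := fun z => ⟨1, Subtype.ext (by simpa [sq] using hC2 z z.2)⟩
          have hSC : (S : Subgroup G) ≤ C := fun z hz =>
            Subgroup.mem_centralizer_singleton_iff.2 (hScomm z hz x hx)
          have hyC : y ∈ C := Subgroup.mem_centralizer_singleton_iff.2 hc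
          exact hyS ((S.is_maximal' hCp hSC) ▸ hyC)
        · rw [← e, pow_orderOf_eq_one]
      -- two commuting involutions of `S`
      obtain ⟨x, hx, hx1⟩ : ∃ x ∈ (S : Subgroup G), x ≠ 1 := by
        by_contra hno
        push Not at hno
        rw [(Subgroup.eq_bot_iff_forall _).2 hno, Subgroup.card_bot] at ha
        exact absurd ha.symm (by simp; omega)
      obtain ⟨x', hx', hx'1, hxx'⟩ : ∃ x' ∈ (S : Subgroup G), x' ≠ 1 ∧ x' ≠ x := by
        by_contra hno
        push Not at hno
        have : Nat.card (S : Subgroup G) ≤ 2 := by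
          have hsub : ((S : Subgroup G) : Set G) ⊆ {1, x} := fun z hz => by
            by_cases h1 : z = 1
            · exact Or.inl h1
            · exact Or.inr (hno z hz h1)
          refine (Set.ncard_le_ncard hsub (Set.toFinite _)).trans ((Set.ncard_insert_le _ _).trans ?_)
          simp
        rw [ha] at this
        have : 2 ^ 2 ≤ 2 ^ a := Nat.pow_le_pow_right (by norm_num) ha2
        omega
      have hy1 : y * y = 1 := by rw [← sq, ← hy, pow_orderOf_eq_one]
      have h3 := hpair _ (mul_mem hx hx') (fun e => hxx' (by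
        rw [← inv_eq_of_mul_eq_one_right e, inv_eq_iff_mul_eq_one]; exact hS2 x hx))
      -- the product has order dividing four
      let f : Fin 3 → G := ![x, y, x']
      have hf : (CoxeterMatrix.A 3).IsLiftable f := by
        intro p q
        fin_cases p <;> fin_cases q <;>
          simp only [f, Cfsg.Agent.Arith.CoxeterA.matrix_eq]
        · simpa using hS2 x hx
        · simpa using hpair x hx hx1
        · simpa [sq] using hS2 _ (mul_mem hx hx')
        · simpa using (show (y * x) ^ 3 = 1 by
            have := hpair x hx hx1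
            rw [← inv_inj, inv_one, ← inv_pow, mul_inv_rev, inv2 y hy,
              inv_eq_iff_mul_eq_one.2 (hS2 x hx)]
            exact this)
        · simpa using hy1
        · simpa using (show (y * x') ^ 3 = 1 by
            have := hpair x' hx' hx'1
            rw [← inv_inj, inv_one, ← inv_pow, mul_inv_rev, inv2 y hy,
              inv_eq_iff_mul_eq_one.2 (hS2 x' hx')]
            exact this)
        · simpa [sq] using hS2 _ (mul_mem hx' hx)
        · simpa using hpair x' hx' hx'1
        · simpa using hS2 x' hx'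
      let cs := Cfsg.Agent.Arith.CoxeterA.sys 3
      have h4 : (cs.simple 0 * cs.simple 2 * cs.simple 1) ^ 4 = 1 := by
        apply Cfsg.Agent.Arith.CoxeterA.act_injective 3
        simp only [map_pow, map_mul, map_one, cs, Cfsg.Agent.Arith.CoxeterA.act_simple]
        decide
      have h4' := congrArg (cs.lift ⟨f, hf⟩) h4
      simp only [map_pow, map_mul, map_one, cs.lift_apply_simple, f] at h4'
      have h4'' : (x * x' * y) ^ 4 = 1 := by simpa using h4'
      rw [pow_succ, h3, one_mul] at h4''
      apply hyS
      rw [← inv_eq_of_mul_eq_one_right h4'']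
      exact inv_mem (mul_mem hx hx')
    have hn : (S : Subgroup G).Normal := by
      refine ⟨fun z hz g => ?_⟩
      by_cases hz1 : z = 1
      · simp [hz1]
      · refine hall _ (orderOf_eq_prime ?_ fun e => hz1 (by simpa using congrArg (g⁻¹ * · * g) e |>.symm.trans (by group) |>.symm))
        rw [conj_pow, sq, hS2 z hz, mul_one, mul_inv_cancel]
    refine ⟨S, hn, ⟨⟨⟨fun x y => Subtype.ext (hScomm _ x.2 _ y.2)⟩⟩, fun x hx => by rw [sq]; exact hS2 x hx⟩, ?_⟩
    have hidx : (S : Subgroup G).index = 3 ^ b := by
      have := (S : Subgroup G).card_mul_index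
      rw [ha, hab] at this
      exact Nat.eq_of_mul_eq_mul_left (by positivity : 0 < 2 ^ a) this
    have hb1 : 1 ≤ b := by
      rcases Nat.eq_zero_or_pos b with h0 | h0
      · exfalso
        have h3 : 3 ∣ Nat.card G := hu ▸ orderOf_dvd_natCard u
        rw [hab, h0, pow_zero, mul_one] at h3
        exact absurd (Nat.prime_three.dvd_of_dvd_pow h3) (by decide)
      · omega
    rcases eq_or_lt_of_le hb1 with hb1 | hb2
    · rw [hidx, ← hb1, pow_one]
    exfalso
    obtain ⟨K, hK⟩ := Sylow.exists_subgroup_card_pow_prime 3 (n := 2) (G := G)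
      (by rw [hab]; exact Dvd.dvd.mul_left (pow_dvd_pow 3 hb2) _)
    have hKc := IsPGroup.commutative_of_card_eq_prime_sq (G := K) hK
    have hK3 : ∀ z ∈ K, z ≠ 1 → orderOf z = 3 := by
      intro z hz hz1
      have := K.orderOf_dvd_natCard hz
      rw [hK] at this
      rcases hord z with e | e | e
      · exact absurd e hz1
      · rw [e] at this; norm_num at this
      · exact e
    obtain ⟨p, hp, hp1⟩ : ∃ p ∈ K, p ≠ 1 := by
      by_contra hno
      push Not at hno
      rw [(Subgroup.eq_bot_iff_forall K).2 hno, Subgroup.card_bot] at hK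
      norm_num at hK
    obtain ⟨q, hq, hqp⟩ : ∃ q ∈ K, q ∉ Subgroup.zpowers p := by
      by_contra hno
      push Not at hno
      have := Subgroup.card_le_of_le (show K ≤ Subgroup.zpowers p from hno)
      rw [hK, Nat.card_zpowers, hK3 p hp hp1] at this
      norm_num at this
    have hcomm : ∀ z ∈ K, ∀ w ∈ K, z * w = w * z := fun z hz w hw =>
      congrArg Subtype.val (hKc (⟨z, hz⟩ : K) ⟨w, hw⟩)
    obtain ⟨v, hv, hv1⟩ : ∃ v ∈ (S : Subgroup G), v ≠ 1 := ⟨i, hall i hi, fun e => by simp [e] at hi⟩
    let V := ↥(S : Subgroup G)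
    letI : CommGroup V := { (inferInstance : Group V) with mul_comm := fun x y => Subtype.ext (hScomm _ x.2 _ y.2) }
    let σ : G → V → V := fun g w => ⟨g * w * g⁻¹, hn.conj_mem _ w.2 g⟩
    have σ_mul : ∀ g w w', σ g (w * w') = σ g w * σ g w' := fun g w w' => Subtype.ext (by
      show g * (w * w' : G) * g⁻¹ = g * w * g⁻¹ * (g * w' * g⁻¹); group)
    have σ_comp : ∀ g g' w, σ g (σ g' w) = σ (g * g') w := fun g g' w => Subtype.ext (by
      show g * (g' * w * g'⁻¹) * g⁻¹ = g * g' * (w : G) * (g * g')⁻¹; group)
    let N : G → V → V := fun g w => w * σ g w * σ (g * g) w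
    have hN : ∀ z ∈ K, z ≠ 1 → ∀ w, N z w = 1 := by
      intro z hz hz1 w
      have hz3 : z * z * z = 1 := by
        rw [← pow_three', ← hK3 z hz hz1, pow_orderOf_eq_one]
      have hfix : σ z (N z w) = N z w := by
        simp only [N, σ_mul, σ_comp, ← mul_assoc z z z, hz3]
        rw [show σ 1 w = w from Subtype.ext (by simp [σ])]
        ac_rfl
      by_contra hne
      have h1 : (N z w : G) ≠ 1 := fun e => hne (Subtype.ext e)
      refine mixed _ z (orderOf_eq_prime (by rw [sq]; exact hS2 _ (N z w).2) h1) (hK3 z hz hz1) ?_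
      have := congrArg Subtype.val hfix
      simp only [σ] at this
      exact (mul_inv_eq_iff_eq_mul.1 this).symm
    have hne : ∀ e : ℕ, e = 1 ∨ e = 2 → p * q ^ e ≠ 1 := by
      intro e he h1
      have hqq : q ^ e = p⁻¹ := (inv_eq_of_mul_eq_one_right h1).symm
      apply hqp
      have hq3 : q ^ 3 = 1 := by
        by_cases hq1 : q = 1
        · simp [hq1]
        · rw [← hK3 q hq hq1, pow_orderOf_eq_one]
      rcases he with rfl | rfl
      · rw [pow_one] at hqq
        rw [hqq]; exact inv_mem (Subgroup.mem_zpowers p)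
      · have : q = (q ^ 2) ^ 2 := by rw [← pow_mul, show 2 * 2 = 3 + 1 from rfl, pow_succ, hq3, one_mul]
        rw [this, hqq]; exact pow_mem (inv_mem (Subgroup.mem_zpowers p)) 2
    let w : V := ⟨v, hv⟩
    have hq1 : q ≠ 1 := fun e => hqp (e ▸ one_mem _)
    have h1 := hN p hp hp1 w
    have h2 := hN q hq hq1 w
    have h3 := hN (p * q) (mul_mem hp hq) (by simpa using hne 1 (Or.inl rfl)) w
    have h4 := hN (p * (q * q)) (mul_mem hp (mul_mem hq hq)) (by simpa [sq] using hne 2 (Or.inr rfl)) w
    have h5 := hN p hp hp1 (N q w)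
    have hq3 : q * q * q = 1 := by rw [← pow_three', ← hK3 q hq hq1, pow_orderOf_eq_one]
    have c := hcomm q hq p hp
    have e1 : p * q * (p * q) = p * p * (q * q) := by
      simp only [mul_assoc]; rw [← mul_assoc q p q, c, mul_assoc]
    have c2 := hcomm (q * q) (mul_mem hq hq) p hp
    have e2 : p * (q * q) * (p * (q * q)) = p * p * q := by
      rw [show p * (q * q) * (p * (q * q)) = p * ((q * q) * p) * (q * q) by group, c2,
        show p * (p * (q * q)) * (q * q) = p * p * (q * q * q * q) by group, hq3, one_mul]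
    have key : N p w * N q w * N (p * q) w * N (p * (q * q)) w = w * w * w * N p (N q w) := by
      simp only [N, σ_mul, σ_comp, e1, e2]
      ac_rfl
    rw [h5, h1, h2, h3, h4] at key
    simp only [one_mul, mul_one] at key
    have e : (1 : G) = v * v * v := congrArg Subtype.val key
    rw [hS2 v hv, one_mul] at e
    exact hv1 e.symm

end Cfsg.Agent.S4005
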