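import Cfsg.Statements.S4006
import Cfsg.Agent.H62.SymThreeFpf
import Cfsg.Agent.S0040
import Cfsg.Agent.S0144
import Cfsg.Agent.S3779
import Cfsg.Agent.Cores.Fitting
import Cfsg.Agent.Coprime.Basic
import Cfsg.Agent.PGroups.Burnside
-- import your own Cfsg.Agent.* helpers here

set_option autoImplicit false
open Cfsg

namespace Cfsg.Agent.S4006

open Subgroup
open scoped commutatorElement

/-- A `q`-group acting without fixed points is cyclic or quaternion. -/
theorem cyclic_or_quaternion {G : Type*} [Group G] [Finite G] (N R : Subgroup G) [N.Normal] (hN : N ≠ ⊥)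
    {q : ℕ} [Fact q.Prime] (hR : IsPGroup q R) (hd : N ⊓ R = ⊥)
    (hfpf : ∀ r ∈ R, r ≠ 1 → ∀ n ∈ N, n * r = r * n → n = 1) :
    IsCyclic R ∨ ∃ k : ℕ, Nonempty (R ≃* QuaternionGroup (2 ^ k)) := by
  set X := N ⊔ R with hX
  set K := N.subgroupOf X
  set H := R.subgroupOf X
  have eK := (subgroupOfEquivOfLe (le_sup_left : N ≤ X))
  have eH := (subgroupOfEquivOfLe (le_sup_right : R ≤ X))
  have hc : Subgroup.IsComplement' K H := by
    refine Subgroup.isComplement'_of_card_mul_and_disjoint ?_ ?_
    · rw [Nat.card_congr eK.toEquiv, Nat.card_congr eH.toEquiv, hX]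
      rw [Coprime.card_sup le_normalizer_of_normal hd]
    · rw [disjoint_iff, eq_bot_iff]
      intro x hx
      have : (x : G) ∈ N ⊓ R := ⟨hx.1, hx.2⟩
      rw [hd, mem_bot] at this
      exact mem_bot.2 (Subtype.ext this)
  have hK : K ≠ ⊥ := fun h => hN (Subgroup.card_eq_one.1 (by
    have h' : Nat.card K = 1 := by rw [h, Subgroup.card_bot]
    exact (Nat.card_congr eK.toEquiv).symm.trans h'))
  have hf : ∀ h ∈ H, h ≠ 1 → K ⊓ Subgroup.centralizer {h} = ⊥ := by
    intro h hh h1
    rw [eq_bot_iff]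
    intro k hk
    refine mem_bot.2 (Subtype.ext (hfpf h hh (fun e => h1 (Subtype.ext e)) k hk.1 ?_))
    exact congrArg Subtype.val (mem_centralizer_singleton_iff.1 hk.2)
  have hHp : IsPGroup q H := hR.of_equiv eH.symm
  let P : Sylow q H := default
  have hPt : (P : Subgroup H) = ⊤ := (P.is_maximal' (hHp.to_subgroup ⊤) le_top).symm
  let e : P ≃* R := ((MulEquiv.subgroupCongr hPt).trans Subgroup.topEquiv).trans eH
  rcases S0040.result K H hc hK hf q P with h | ⟨k, ⟨f⟩⟩
  · exact Or.inl (MulEquiv.isCyclic e |>.1 h)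
  · exact Or.inr ⟨k, ⟨e.symm.trans f⟩⟩

/-- A group of order 6 with a normal self-centralising subgroup of order 3 is the symmetric group. -/
theorem equiv_perm_three {Q : Type*} [Group Q] [Finite Q] (F : Subgroup Q) [F.Normal] (hF : Nat.card F = 3)
    (hQ : Nat.card Q = 6) (hC : centralizer (F : Set Q) ≤ F) : Nonempty (Q ≃* Equiv.Perm (Fin 3)) := by
  haveI : Fact (Nat.Prime 2) := ⟨Nat.prime_two⟩
  obtain ⟨t, ht⟩ := exists_prime_orderOf_dvd_card' (G := Q) 2 (by rw [hQ]; norm_num)
  set H := zpowers t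
  have hH : Nat.card H = 2 := by rw [Nat.card_zpowers, ht]
  have hcore : H.normalCore = ⊥ := by
    by_contra hne
    have hd := Subgroup.card_dvd_of_le (Subgroup.normalCore_le H)
    rw [hH] at hd
    have h2 : Nat.card H.normalCore = 2 := ((Nat.dvd_prime Nat.prime_two).1 hd).resolve_left
      fun h => hne (Subgroup.card_eq_one.1 h)
    have hdis : Disjoint H.normalCore F := by
      refine disjoint_of_isPGroup_of_coprime' ?_
      rw [h2, hF]; norm_num
    have hle : H.normalCore ≤ centralizer (F : Set Q) := fun x hx => mem_centralizer_iff.2 fun f hf =>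
      (Subgroup.commute_of_normal_of_disjoint _ _ inferInstance inferInstance hdis x f hx hf).eq.symm
    exact hne (hdis le_rfl (hle.trans hC) |> le_bot_iff.1)
  have hidx : Nat.card (Q ⧸ H) = 3 := by
    have h := H.card_mul_index
    rw [hH, hQ, Subgroup.index_eq_card] at h
    omega
  haveI : Fintype (Q ⧸ H) := Fintype.ofFinite _
  let e : (Q ⧸ H) ≃ Fin 3 := Fintype.equivFinOfCardEq (by rw [← Nat.card_eq_fintype_card, hidx])
  let f : Q →* Equiv.Perm (Fin 3) := e.permCongrHom.toMonoidHom.comp (MulAction.toPermHom Q (Q ⧸ H))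
  have hinj : Function.Injective f := e.permCongrHom.injective.comp (by
    rw [← MonoidHom.ker_eq_bot_iff, ← Subgroup.normalCore_eq_ker, hcore])
  exact ⟨MulEquiv.ofBijective f ((Nat.bijective_iff_injective_and_card f).2 ⟨hinj, by
    rw [hQ, Nat.card_eq_fintype_card, Fintype.card_perm, Fintype.card_fin]; rfl⟩)⟩
where
  disjoint_of_isPGroup_of_coprime' {A B : Subgroup Q} (h : (Nat.card A).Coprime (Nat.card B)) :
      Disjoint A B := disjoint_iff.2 (Coprime.inf_eq_bot h)


/-- A finite group whose set of element orders is exactly {1, 2, 3, 4} has a normal subgroup N such that either N is a 2-group of exponent 4 and nilpotency class at most 2 with G/N of order 3, or N is an elementary abelian 2-group with G/N isomorphic to the symmetric group of degree 3, or N is an elementary abelian 3-group with G/N cyclic of order 4 or quaternion of order 8. -/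
theorem result {G : Type*} [Group G] [Finite G] (h : Set.range (orderOf : G → ℕ) = {k : ℕ | 1 ≤ k ∧ k ≤ 4}) :
    ∃ (N : Subgroup G) (_ : N.Normal),
      (IsPGroup 2 ↥N ∧ Monoid.exponent ↥N = 4 ∧ Group.nilpotencyClass ↥N ≤ 2 ∧ N.index = 3) ∨
      (Cfsg.IsElementaryAbelian 2 N ∧ Nonempty (G ⧸ N ≃* Equiv.Perm (Fin 3))) ∨
      (Cfsg.IsElementaryAbelian 3 N ∧ ((IsCyclic (G ⧸ N) ∧ N.index = 4) ∨ Nonempty (G ⧸ N ≃* QuaternionGroup 2))) := by
  classical
  haveI : Fact (Nat.Prime 2) := ⟨Nat.prime_two⟩
  haveI : Fact (Nat.Prime 3) := ⟨Nat.prime_three⟩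
  have hord : ∀ g : G, orderOf g = 1 ∨ orderOf g = 2 ∨ orderOf g = 3 ∨ orderOf g = 4 := fun g => by
    have : orderOf g ∈ Set.range (orderOf : G → ℕ) := ⟨g, rfl⟩
    rw [h] at this
    obtain ⟨h1, h2⟩ := this
    omega
  have hfour : ∃ g : G, orderOf g = 4 := by
    have : (4 : ℕ) ∈ {k : ℕ | 1 ≤ k ∧ k ≤ 4} := ⟨by norm_num, le_rfl⟩
    rwa [← h] at this
  have hthree : ∃ g : G, orderOf g = 3 := by
    have : (3 : ℕ) ∈ {k : ℕ | 1 ≤ k ∧ k ≤ 4} := ⟨by norm_num, by norm_num⟩
    rwa [← h] at this
  -- elements of orders 2 and 3 do not commute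
  have nomix : ∀ x y : G, x ^ 4 = 1 → y ^ 3 = 1 → x * y = y * x → x = 1 ∨ y = 1 := by
    intro x y hx hy hxy
    by_contra hne
    push Not at hne
    have hy3 : orderOf y = 3 := orderOf_eq_prime hy hne.2
    have hx4 : orderOf x ∣ 4 := orderOf_dvd_of_pow_eq_one hx
    have hx1 : orderOf x ≠ 1 := fun e => hne.1 (orderOf_eq_one_iff.1 e)
    have hm := (show Commute x y from hxy).orderOf_mul_eq_mul_orderOf_of_coprime (by
      rw [hy3]
      exact Nat.Coprime.coprime_dvd_left hx4 (by norm_num))
    rw [hy3] at hm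
    have hle := Nat.le_of_dvd (by norm_num) hx4
    rcases hord (x * y) with e | e | e | e <;> omega
  have pow4 : ∀ {K : Subgroup G}, IsPGroup 2 K → ∀ x ∈ K, x ^ 4 = 1 := by
    intro K hK x hx
    obtain ⟨j, hj⟩ := IsPGroup.iff_orderOf.1 hK ⟨x, hx⟩
    rw [Subgroup.orderOf_mk] at hj
    rcases hord x with e | e | e | e
    · rw [orderOf_eq_one_iff.1 e, one_pow]
    · rw [show 4 = orderOf x * 2 by rw [e], pow_mul, pow_orderOf_eq_one, one_pow]
    · rw [e] at hj
      exact absurd (Nat.prime_three.dvd_of_dvd_pow (dvd_of_eq hj)) (by norm_num)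
    · rw [← e, pow_orderOf_eq_one]
  have pow3 : ∀ {K : Subgroup G}, IsPGroup 3 K → ∀ x ∈ K, x ^ 3 = 1 := by
    intro K hK x hx
    obtain ⟨j, hj⟩ := IsPGroup.iff_orderOf.1 hK ⟨x, hx⟩
    rw [Subgroup.orderOf_mk] at hj
    have h2 : ¬ 2 ∣ orderOf x := fun hd => by
      rw [hj] at hd
      exact absurd (Nat.prime_two.dvd_of_dvd_pow hd) (by norm_num)
    rcases hord x with e | e | e | e
    · rw [orderOf_eq_one_iff.1 e, one_pow]
    · exact absurd (dvd_of_eq e.symm) h2
    · rw [← e, pow_orderOf_eq_one]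
    · exact absurd ⟨2, by rw [e]⟩ h2
  have primes : ∀ r, r.Prime → r ∣ Nat.card G → r = 2 ∨ r = 3 := by
    intro r hr hd
    haveI := Fact.mk hr
    obtain ⟨g, hg⟩ := exists_prime_orderOf_dvd_card' r hd
    rcases hord g with e | e | e | e <;> rw [hg] at e <;> subst e
    · exact absurd hr (by norm_num)
    · exact Or.inl rfl
    · exact Or.inr rfl
    · exact absurd hr (by norm_num)
  have hcard : Nat.card G = 2 ^ (Nat.card G).factorization 2 * 3 ^ (Nat.card G).factorization 3 := by
    apply Nat.eq_of_factorization_eq Nat.card_pos.ne' (by positivity)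
    intro r
    rw [Nat.factorization_mul (by positivity) (by positivity), Nat.prime_two.factorization_pow,
      Nat.prime_three.factorization_pow]
    by_cases hr : r = 2 ∨ r = 3
    · rcases hr with rfl | rfl <;> simp
    · push Not at hr
      have h0 : (Nat.card G).factorization r = 0 := by
        by_contra hne
        have hmem : r ∈ (Nat.card G).primeFactors := by
          rw [← Nat.support_factorization, Finsupp.mem_support_iff]; exact hne
        rcases primes r (Nat.prime_of_mem_primeFactors hmem) (Nat.dvd_of_mem_primeFactors hmem) with e | e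
        · exact hr.1 e
        · exact hr.2 e
      simp [h0, Ne.symm hr.1, Ne.symm hr.2]
  haveI hsolv : Group.IsSolvable G := S0144.result 2 3 _ _ Nat.prime_two Nat.prime_three hcard
  haveI : Nontrivial G := by
    obtain ⟨g, hg⟩ := hthree
    exact ⟨g, 1, fun e => by simp [e] at hg⟩
  -- the other cores are trivial
  have hcores : ∀ r : Nat.Primes, (r : ℕ) ≠ 2 → (r : ℕ) ≠ 3 → Cfsg.pCore (r : ℕ) G = ⊥ := fun r h2 h3 => by
    haveI := Fact.mk r.2
    refine Cores.pCore_subsingleton_of_coprime ((Nat.Prime.coprime_iff_not_dvd r.2).2 fun hd => ?_).symm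
    rcases primes r r.2 hd with e | e
    · exact h2 e
    · exact h3 e
  have hone : Cfsg.pCore 2 G = ⊥ ∨ Cfsg.pCore 3 G = ⊥ := by
    by_contra hne
    push Not at hne
    obtain ⟨x, hx, hx1⟩ := (Subgroup.ne_bot_iff_exists_ne_one.1 hne.1) |> fun ⟨a, ha⟩ =>
      (⟨a.1, a.2, fun e => ha (Subtype.ext e)⟩ : ∃ x, x ∈ Cfsg.pCore 2 G ∧ x ≠ 1)
    obtain ⟨y, hy, hy1⟩ := (Subgroup.ne_bot_iff_exists_ne_one.1 hne.2) |> fun ⟨a, ha⟩ =>
      (⟨a.1, a.2, fun e => ha (Subtype.ext e)⟩ : ∃ y, y ∈ Cfsg.pCore 3 G ∧ y ≠ 1)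
    have hdis : Disjoint (Cfsg.pCore 2 G) (Cfsg.pCore 3 G) :=
      IsPGroup.disjoint_of_ne 2 3 (by norm_num) _ _ Cores.pCore_isPGroup Cores.pCore_isPGroup
    rcases nomix x y (pow4 Cores.pCore_isPGroup x hx) (pow3 Cores.pCore_isPGroup y hy)
      (Subgroup.commute_of_normal_of_disjoint _ _ inferInstance inferInstance hdis x y hx hy).eq with e | e
    · exact hx1 e
    · exact hy1 e
  have hF : Cfsg.fittingSubgroup G ≤ Cfsg.pCore 2 G ⊔ Cfsg.pCore 3 G := by
    rw [Cores.iSup_pCore_eq_fittingSubgroup]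
    refine iSup_le fun r => ?_
    by_cases h2 : (r : ℕ) = 2
    · rw [h2]; exact le_sup_left
    by_cases h3 : (r : ℕ) = 3
    · rw [h3]; exact le_sup_right
    rw [hcores r h2 h3]; exact bot_le
  have hCF := Cores.centralizer_fittingSubgroup_le (G := G)
  have hFne := Cores.fittingSubgroup_ne_bot (G := G)
  by_cases h2bot : Cfsg.pCore 2 G = ⊥
  · -- the Fitting subgroup is a 3-group
    set N := Cfsg.pCore 3 G with hN
    rw [h2bot, bot_sup_eq] at hF
    have hN1 : N ≠ ⊥ := fun e => hFne (le_bot_iff.1 (e ▸ hF))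
    have hN3 : IsPGroup 3 N := Cores.pCore_isPGroup
    have hfpf : ∀ x : G, x ^ 4 = 1 → x ≠ 1 → ∀ n ∈ N, n * x = x * n → n = 1 := fun x hx hx1 n hn hc =>
      (nomix x n hx (pow3 hN3 n hn) hc.symm).resolve_left hx1
    -- the 2-core modulo `N`
    set π := QuotientGroup.mk' N
    haveI : Nontrivial (G ⧸ N) := by
      obtain ⟨g, hg⟩ := hfour
      refine ⟨π g, 1, fun e => ?_⟩
      have := orderOf_dvd_of_pow_eq_one (pow3 hN3 g ((QuotientGroup.eq_one_iff g).1 e))
      rw [hg] at this
      norm_num at this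
    have hQ3 : Cfsg.pCore 3 (G ⧸ N) = ⊥ := Cores.pCore_quotient_pCore
    have hQ2 : Cfsg.pCore 2 (G ⧸ N) ≠ ⊥ := by
      intro e
      refine Cores.fittingSubgroup_ne_bot (G := G ⧸ N) (le_bot_iff.1 ?_)
      rw [Cores.iSup_pCore_eq_fittingSubgroup]
      refine iSup_le fun r => ?_
      by_cases hr2 : (r : ℕ) = 2
      · rw [hr2, e]
      by_cases hr3 : (r : ℕ) = 3
      · rw [hr3, hQ3]
      haveI := Fact.mk r.2
      refine le_of_eq (Cores.pCore_subsingleton_of_coprime ((Nat.Prime.coprime_iff_not_dvd r.2).2 fun hd => ?_).symm)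
      rcases primes r r.2 (hd.trans (N.card_quotient_dvd_card)) with e | e
      · exact hr2 e
      · exact hr3 e
    set T := (Cfsg.pCore 2 (G ⧸ N)).comap π with hT
    have hNT : N ≤ T := fun n hn => by
      rw [hT, mem_comap, show π n = 1 from (QuotientGroup.eq_one_iff n).2 hn]; exact one_mem _
    let P : Sylow 2 T := default
    set R := (P : Subgroup T).map T.subtype with hR
    have hR2 : IsPGroup 2 R := P.isPGroup'.map _
    have hNR : N ⊓ R = ⊥ := disjoint_iff.1 (IsPGroup.disjoint_of_ne 3 2 (by norm_num) _ _ hN3 hR2)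
    have hR1 : R ≠ ⊥ := by
      intro e
      have hP1 : (P : Subgroup T) = ⊥ := (Subgroup.map_eq_bot_iff_of_injective _ T.subtype_injective).1 e
      have h2 : ¬ 2 ∣ Nat.card T := fun hd => by
        have := P.dvd_card_of_dvd_card hd
        rw [hP1, Subgroup.card_bot] at this
        norm_num at this
      apply h2
      obtain ⟨j, hj⟩ := IsPGroup.iff_card.1 (Cores.pCore_isPGroup (p := 2) (G := G ⧸ N))
      have hj0 : j ≠ 0 := fun e0 => hQ2 (Subgroup.card_eq_one.1 (by rw [hj, e0, pow_zero]))
      have h3 := Subgroup.card_map_dvd T π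
      rw [hT, Subgroup.map_comap_eq_self_of_surjective (QuotientGroup.mk'_surjective N), hj, ← hT] at h3
      exact (dvd_pow_self 2 hj0).trans h3
    -- all involutions of a 2-group acting on `N` coincide
    have huniq : ∀ {K : Subgroup G}, IsPGroup 2 K → ∀ a ∈ K, ∀ b ∈ K, a * a = 1 → b * b = 1 → a ≠ 1 →
        b ≠ 1 → a = b := by
      intro K hK a ha b hb ha2 hb2 ha1 hb1
      by_contra hne
      apply hN1
      rw [eq_bot_iff]
      intro n hn
      have inv : ∀ c : G, c * c = 1 → c ≠ 1 → ∀ m ∈ N, c * m * c = m⁻¹ := by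
        intro c hc hc1 m hm
        haveI hNn : N.Normal := inferInstance
        have hcinv : c⁻¹ = c := inv_eq_of_mul_eq_one_right hc
        let φ : N →* N := (MulAut.conjNormal (H := N) c).toMonoidHom
        have hf : MonoidHom.FixedPointFree φ := fun k hk => Subtype.ext (by
          have hk' : c * (k : G) * c⁻¹ = k := congrArg Subtype.val hk
          exact hfpf c (by rw [show 4 = 2 * 2 from rfl, pow_mul, sq c, hc, one_pow]) hc1 k k.2
            (mul_inv_eq_iff_eq_mul.1 hk').symm)
        have h2 : φ^[2] = _root_.id := by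
          funext k
          apply Subtype.ext
          show c * (c * (k : G) * c⁻¹) * c⁻¹ = k
          calc c * (c * (k : G) * c⁻¹) * c⁻¹ = (c * c) * k * (c * c)⁻¹ := by group
            _ = k := by rw [hc, inv_one, one_mul, mul_one]
        have := congrArg Subtype.val (congrFun (hf.coe_eq_inv_of_sq_eq_one h2) ⟨m, hm⟩)
        exact (congrArg (fun x => c * m * x) hcinv.symm).trans this
      have h1 := inv a ha2 ha1 n hn
      have h2 := inv b hb2 hb1 n hn
      have hab : a * b ≠ 1 := fun e => hne (by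
        rw [← inv_eq_of_mul_eq_one_right e]; exact (inv_eq_of_mul_eq_one_right ha2).symm)
      refine mem_bot.2 (hfpf (a * b) (pow4 hK _ (mul_mem ha hb)) hab n hn ?_)
      have h3 : (a * b) * n * (b * a) = n := by
        calc (a * b) * n * (b * a) = a * (b * n * b) * a := by group
          _ = (a * n * a)⁻¹ := by rw [h2]; rw [mul_inv_rev, mul_inv_rev, inv_eq_of_mul_eq_one_right ha2, mul_assoc]
          _ = n := by rw [h1, inv_inv]
      calc n * (a * b) = (a * b) * n * ((b * a) * (a * b)) := by rw [← mul_assoc ((a * b) * n), h3]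
        _ = (a * b) * n := by rw [show (b * a) * (a * b) = b * (a * a) * b by group, ha2, mul_one, hb2, mul_one]
    obtain ⟨z, hzR, hz1, hz2⟩ : ∃ z ∈ R, z ≠ 1 ∧ z * z = 1 := by
      obtain ⟨r, hr⟩ := Subgroup.ne_bot_iff_exists_ne_one.1 hR1
      have hr1 : (r : G) ≠ 1 := fun e => hr (Subtype.ext e)
      by_cases h2 : (r : G) * r = 1
      · exact ⟨r, r.2, hr1, h2⟩
      · refine ⟨(r : G) * r, mul_mem r.2 r.2, h2, ?_⟩
        have := pow4 hR2 r r.2
        rwa [show 4 = 2 * 2 from rfl, pow_mul, sq, sq] at this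
    haveI : T.Normal := inferInstance
    have hfr : normalizer (R : Set G) ⊔ T = ⊤ := by
      rw [hR]; exact Sylow.normalizer_sup_eq_top P
    have hTNR : T ≤ N ⊔ R := by
      have h1 : Nat.card T ∣ Nat.card ↥(N ⊔ R) := by
        rw [Coprime.card_sup le_normalizer_of_normal hNR, hR,
          Subgroup.card_map_of_injective T.subtype_injective]
        obtain ⟨j, hj⟩ := IsPGroup.iff_card.1 P.isPGroup'
        obtain ⟨i, hi⟩ := IsPGroup.iff_card.1 hN3
        obtain ⟨m, hm⟩ := IsPGroup.iff_card.1 (Cores.pCore_isPGroup (p := 2) (G := G ⧸ N))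
        have hTc : Nat.card T = Nat.card N * 2 ^ m := by
          rw [hT, PGroups.card_comap_mk', hm]
        have hjm : j = m := by
          have := P.card_eq_multiplicity
          rw [hj, hTc, hi, Nat.factorization_mul (by positivity) (by positivity),
            Nat.prime_three.factorization_pow, Nat.prime_two.factorization_pow] at this
          simp at this
          exact this
        rw [hTc, hj, hjm, mul_comm]
      have hle : N ⊔ R ≤ T := sup_le hNT (Subgroup.map_subtype_le _)
      exact (Subgroup.eq_of_le_of_card_ge hle (Nat.le_of_dvd Nat.card_pos h1)).ge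
    have hnorm : normalizer (R : Set G) ≤ centralizer ({z} : Set G) := by
      intro g hg
      have hgz : g * z * g⁻¹ ∈ R := (mem_normalizer_iff.1 hg z).1 hzR
      have := huniq hR2 _ hgz z hzR (by
        rw [show g * z * g⁻¹ * (g * z * g⁻¹) = g * (z * z) * g⁻¹ by group, hz2, mul_one, mul_inv_cancel])
        hz2 (fun e => hz1 (conj_eq_one_iff.1 e)) hz1
      exact mem_centralizer_singleton_iff.2 (mul_inv_eq_iff_eq_mul.1 this)
    set S := centralizer ({z} : Set G) with hS
    have hS2 : IsPGroup 2 S := by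
      intro x
      refine ⟨2, Subtype.ext ?_⟩
      show (x : G) ^ 2 ^ 2 = 1
      have hxz : (x : G) * z = z * x := mem_centralizer_singleton_iff.1 x.2
      rcases hord (x : G) with e | e | e | e
      · rw [orderOf_eq_one_iff.1 e, one_pow]
      · rw [show 2 ^ 2 = orderOf (x : G) * 2 by rw [e]; rfl, pow_mul, pow_orderOf_eq_one, one_pow]
      · exfalso
        rcases nomix z x (by rw [show 4 = 2 * 2 from rfl, pow_mul, sq z, hz2, one_pow])
          (by rw [← e, pow_orderOf_eq_one]) hxz.symm with e' | e'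
        · exact hz1 e'
        · rw [e', orderOf_one] at e; norm_num at e
      · rw [show 2 ^ 2 = orderOf (x : G) by rw [e]; rfl, pow_orderOf_eq_one]
    have hgen : N ⊔ S = ⊤ := by
      rw [eq_top_iff, ← hfr]
      refine sup_le (hnorm.trans le_sup_right) (hTNR.trans (sup_le le_sup_left ?_))
      exact (Subgroup.le_normalizer.trans hnorm).trans le_sup_right
    have hNS : N ⊓ S = ⊥ := disjoint_iff.1 (IsPGroup.disjoint_of_ne 3 2 (by norm_num) _ _ hN3 hS2)
    have hidx : Nat.card (G ⧸ N) = Nat.card S := by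
      have h1 := Coprime.card_sup (le_normalizer_of_normal (H := N) (K := S)) hNS
      rw [hgen, Subgroup.card_top, ← N.card_mul_index, Subgroup.index_eq_card] at h1
      exact Nat.eq_of_mul_eq_mul_left Nat.card_pos h1
    have hbij : Function.Bijective (π.comp S.subtype) := by
      refine (Nat.bijective_iff_injective_and_card _).2 ⟨?_, hidx.symm⟩
      rw [← MonoidHom.ker_eq_bot_iff, eq_bot_iff]
      intro s hs
      have : (s : G) ∈ N ⊓ S := ⟨(QuotientGroup.eq_one_iff _).1 hs, s.2⟩
      rw [hNS, mem_bot] at this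
      exact mem_bot.2 (Subtype.ext this)
    let eS : S ≃* G ⧸ N := MulEquiv.ofBijective _ hbij
    -- `N` is elementary abelian
    have hNel : Cfsg.IsElementaryAbelian 3 N := by
      refine ⟨⟨⟨fun a b => ?_⟩⟩, fun a ha => pow3 hN3 a ha⟩
      have inv : ∀ m ∈ N, z * m * z⁻¹ = m⁻¹ := by
        intro m hm
        let φ : N →* N := (MulAut.conjNormal (H := N) z).toMonoidHom
        have hf : MonoidHom.FixedPointFree φ := fun k hk => Subtype.ext (by
          have hk' : z * (k : G) * z⁻¹ = k := congrArg Subtype.val hk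
          exact hfpf z (by rw [show 4 = 2 * 2 from rfl, pow_mul, sq z, hz2, one_pow]) hz1 k k.2
            (mul_inv_eq_iff_eq_mul.1 hk').symm)
        have h2 : φ^[2] = _root_.id := by
          funext k
          apply Subtype.ext
          show z * (z * (k : G) * z⁻¹) * z⁻¹ = k
          calc z * (z * (k : G) * z⁻¹) * z⁻¹ = (z * z) * k * (z * z)⁻¹ := by group
            _ = k := by rw [hz2, inv_one, one_mul, mul_one]
        exact congrArg Subtype.val (congrFun (hf.coe_eq_inv_of_sq_eq_one h2) ⟨m, hm⟩)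
      apply Subtype.ext
      have hab := inv _ (mul_mem a.2 b.2)
      rw [show z * ((a : G) * b) * z⁻¹ = (z * a * z⁻¹) * (z * b * z⁻¹) by group, inv _ a.2, inv _ b.2,
        ← mul_inv_rev, inv_inj] at hab
      exact hab.symm
    -- the complement
    obtain ⟨g, hg⟩ := hfour
    have hS4 : ∃ s : S, orderOf s = 4 := by
      refine ⟨eS.symm (π g), ?_⟩
      rw [MulEquiv.orderOf_eq]
      have hd : orderOf (π g) ∣ 4 := hg ▸ orderOf_map_dvd π g
      have hnd : ¬ orderOf (π g) ∣ 2 := fun h2 => by
        have h3 := pow3 hN3 (g ^ 2) ((QuotientGroup.eq_one_iff _).1 (by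
          show π (g ^ 2) = 1
          rw [map_pow]; exact orderOf_dvd_iff_pow_eq_one.1 h2))
        rw [← pow_mul] at h3
        have := orderOf_dvd_of_pow_eq_one h3
        rw [hg] at this
        norm_num at this
      obtain ⟨j, hj, hje⟩ := (Nat.dvd_prime_pow Nat.prime_two).1 (show orderOf (π g) ∣ 2 ^ 2 from hd)
      interval_cases j
      · exact absurd (hje ▸ one_dvd 2) hnd
      · exact absurd (dvd_of_eq (hje.trans (pow_one 2))) hnd
      · exact hje
    obtain ⟨s, hs⟩ := hS4
    refine ⟨N, inferInstance, Or.inr (Or.inr ⟨hNel, ?_⟩)⟩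
    rcases cyclic_or_quaternion N S hN1 hS2 hNS
      (fun r hr hr1 n hn hc => hfpf r (pow4 hS2 r hr) hr1 n hn hc) with hcyc | ⟨k, ⟨f⟩⟩
    · haveI := hcyc
      left
      refine ⟨eS.isCyclic.1 hcyc, ?_⟩
      rw [Subgroup.index_eq_card, hidx]
      obtain ⟨c, hc⟩ := IsCyclic.exists_generator (α := S)
      have h1 : orderOf c = Nat.card S := orderOf_eq_card_of_forall_mem_zpowers hc
      have h2 : orderOf c ∣ 4 := orderOf_dvd_of_pow_eq_one (Subtype.ext (pow4 hS2 c c.2))
      exact Nat.dvd_antisymm (h1 ▸ h2) (hs ▸ orderOf_dvd_natCard s)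
    · have ha : orderOf (f.symm (QuaternionGroup.a 1)) ∣ 4 :=
        orderOf_dvd_of_pow_eq_one (Subtype.ext (pow4 hS2 _ (f.symm _).2))
      rw [MulEquiv.orderOf_eq, QuaternionGroup.orderOf_a_one] at ha
      have hk : 2 * 2 ^ k ≤ 4 := Nat.le_of_dvd (by norm_num) ha
      have hk1 : k ≤ 1 := by
        by_contra hk1
        push Not at hk1
        have : 2 ^ 2 ≤ 2 ^ k := Nat.pow_le_pow_right two_pos hk1
        omega
      interval_cases k
      · left
        haveI : IsCyclic S := f.isCyclic.2 (by
          rw [pow_zero]; exact QuaternionGroup.quaternionGroup_one_isCyclic)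
        refine ⟨eS.isCyclic.1 inferInstance, ?_⟩
        rw [Subgroup.index_eq_card, hidx, Nat.card_congr f.toEquiv, Nat.card_eq_fintype_card,
          QuaternionGroup.card, pow_zero, mul_one]
      · right
        exact ⟨eS.symm.trans (f.trans (MulEquiv.cast (M := fun n => QuaternionGroup n) (pow_one 2)))⟩
  · -- the Fitting subgroup is a 2-group
    set N := Cfsg.pCore 2 G with hN
    rw [hone.resolve_left h2bot, sup_bot_eq] at hF
    have hN2 : IsPGroup 2 N := Cores.pCore_isPGroup
    have hCN : centralizer (N : Set G) ≤ N := (Subgroup.centralizer_le hF).trans (hCF.trans hF)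
    have hfpf : ∀ x : G, x ^ 3 = 1 → x ≠ 1 → ∀ n ∈ N, n * x = x * n → n = 1 := fun x hx hx1 n hn hc =>
      (nomix n x (pow4 hN2 n hn) hx hc).resolve_right hx1
    set π := QuotientGroup.mk' N
    have hout : ∀ g : G, g ^ 3 = 1 → g ∈ N → g = 1 := fun g hg hgN => by
      have h1 := pow4 hN2 g hgN
      rwa [pow_succ, hg, one_mul] at h1
    haveI : Nontrivial (G ⧸ N) := by
      obtain ⟨g, hg⟩ := hthree
      refine ⟨π g, 1, fun e => ?_⟩
      rw [hout g (by rw [← hg, pow_orderOf_eq_one]) ((QuotientGroup.eq_one_iff g).1 e), orderOf_one] at hg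
      norm_num at hg
    have hQ2 : Cfsg.pCore 2 (G ⧸ N) = ⊥ := Cores.pCore_quotient_pCore
    set F3 := Cfsg.pCore 3 (G ⧸ N) with hF3
    have hFQ : Cfsg.fittingSubgroup (G ⧸ N) ≤ F3 := by
      rw [Cores.iSup_pCore_eq_fittingSubgroup]
      refine iSup_le fun r => ?_
      by_cases hr2 : (r : ℕ) = 2
      · rw [hr2, hQ2]; exact bot_le
      by_cases hr3 : (r : ℕ) = 3
      · rw [hr3]
      haveI := Fact.mk r.2
      rw [Cores.pCore_subsingleton_of_coprime ((Nat.Prime.coprime_iff_not_dvd r.2).2 fun hd => ?_).symm]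
      · exact bot_le
      rcases primes r r.2 (hd.trans N.card_quotient_dvd_card) with e | e
      · exact hr2 e
      · exact hr3 e
    have hC3 : centralizer (F3 : Set (G ⧸ N)) ≤ F3 :=
      (Subgroup.centralizer_le hFQ).trans ((Cores.centralizer_fittingSubgroup_le (G := G ⧸ N)).trans hFQ)
    -- a Sylow 3-subgroup has order 3
    let P₀ : Sylow 3 G := default
    have hP₀ : Nat.card (P₀ : Subgroup G) ∣ 3 := by
      have hd : N ⊓ (P₀ : Subgroup G) = ⊥ :=
        disjoint_iff.1 (IsPGroup.disjoint_of_ne 2 3 (by norm_num) _ _ hN2 P₀.isPGroup')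
      rcases cyclic_or_quaternion N _ h2bot P₀.isPGroup' hd
        (fun r hr hr1 n hn hc => hfpf r (pow3 P₀.isPGroup' r hr) hr1 n hn hc) with hcyc | ⟨k, ⟨f⟩⟩
      · haveI := hcyc
        obtain ⟨c, hc⟩ := IsCyclic.exists_generator (α := (P₀ : Subgroup G))
        rw [← orderOf_eq_card_of_forall_mem_zpowers hc]
        exact orderOf_dvd_of_pow_eq_one (Subtype.ext (pow3 P₀.isPGroup' c c.2))
      · exfalso
        obtain ⟨j, hj⟩ := IsPGroup.iff_card.1 P₀.isPGroup'
        rw [Nat.card_congr f.toEquiv, Nat.card_eq_fintype_card, QuaternionGroup.card] at hj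
        have : 2 ∣ 3 ^ j := hj ▸ Dvd.dvd.mul_right (by norm_num) _
        exact absurd (Nat.prime_two.dvd_of_dvd_pow this) (by norm_num)
    have hv3 : (Nat.card G).factorization 3 ≤ 1 := by
      rw [P₀.card_eq_multiplicity] at hP₀
      exact (Nat.pow_dvd_pow_iff_le_right (by norm_num : 1 < 3)).1 (by rwa [pow_one])
    have hF3c : Nat.card F3 = 3 := by
      obtain ⟨j, hj⟩ := IsPGroup.iff_card.1 (Cores.pCore_isPGroup (p := 3) (G := G ⧸ N))
      have hd : 3 ^ j ∣ Nat.card G := by
        rw [← hj]; exact (Subgroup.card_subgroup_dvd_card F3).trans N.card_quotient_dvd_card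
      have hj1 : j ≤ 1 := ((Nat.Prime.pow_dvd_iff_le_factorization Nat.prime_three Nat.card_pos.ne').1 hd).trans hv3
      rcases (show j = 0 ∨ j = 1 by omega) with rfl | rfl
      · exact absurd (le_bot_iff.1 ((Subgroup.card_eq_one.1 (by rw [hj, pow_zero])).symm ▸ hFQ))
          (Cores.fittingSubgroup_ne_bot (G := G ⧸ N))
      · rw [hF3, hj, pow_one]
    haveI : F3.Normal := inferInstance
    haveI hcycF : IsCyclic F3 := isCyclic_of_prime_card hF3c
    have hQc : Nat.card (G ⧸ N) = 3 ∨ Nat.card (G ⧸ N) = 6 := by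
      let φ : (G ⧸ N) →* MulAut F3 := MulAut.conjNormal
      have hker : φ.ker ≤ F3 := le_trans (fun x hx => mem_centralizer_iff.2 fun y hy => by
        have := congrArg (fun f : MulAut F3 => ((f ⟨y, hy⟩ : F3) : G ⧸ N)) (MonoidHom.mem_ker.1 hx)
        simp only [φ, MulAut.conjNormal_apply, MulAut.one_apply] at this
        exact (mul_inv_eq_iff_eq_mul.1 this).symm) hC3
      have h1 : Nat.card φ.ker ∣ 3 := hF3c ▸ Subgroup.card_dvd_of_le hker
      have h2 : Nat.card φ.range ∣ 2 := by
        have hh := Subgroup.card_subgroup_dvd_card φ.range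
        rw [IsCyclic.card_mulAut, hF3c] at hh
        exact hh.trans (dvd_of_eq (by decide))
      have h3 : Nat.card (G ⧸ N) = Nat.card φ.ker * Nat.card φ.range := by
        rw [← Subgroup.index_ker, Subgroup.card_mul_index]
      have h4 : 3 ∣ Nat.card (G ⧸ N) := hF3c ▸ Subgroup.card_subgroup_dvd_card F3
      rcases (Nat.dvd_prime Nat.prime_three).1 h1 with e1 | e1 <;>
        rcases (Nat.dvd_prime Nat.prime_two).1 h2 with e2 | e2 <;> rw [e1, e2] at h3 <;> omega
    -- the preimage of the normal 3-subgroup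
    set M := F3.comap π with hM
    have hNM : N ≤ M := fun n hn => by
      rw [hM, mem_comap, show π n = 1 from (QuotientGroup.eq_one_iff n).2 hn]; exact one_mem _
    have hMc : Nat.card M = Nat.card N * 3 := by rw [hM, PGroups.card_comap_mk', hF3c]
    let P : Sylow 3 M := default
    set R := (P : Subgroup M).map M.subtype with hR
    have hR3 : IsPGroup 3 R := P.isPGroup'.map _
    obtain ⟨s, hsR, hs1⟩ : ∃ s ∈ R, s ≠ 1 := by
      by_contra hno
      push Not at hno
      have hP1 : (P : Subgroup M) = ⊥ :=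
        (Subgroup.map_eq_bot_iff_of_injective _ M.subtype_injective).1 ((Subgroup.eq_bot_iff_forall _).2 hno)
      have := P.dvd_card_of_dvd_card (by rw [hMc]; exact dvd_mul_left 3 _)
      rw [hP1, Subgroup.card_bot] at this
      norm_num at this
    have hs3 : s ^ 3 = 1 := pow3 hR3 s hsR
    have hsN : s ∉ N := fun e => hs1 (hout s hs3 e)
    let σ : MulAut N := MulAut.conjNormal s
    have hσfix : ∀ x : N, σ x = x → x = 1 := fun x hx => Subtype.ext (by
      have hx' : s * (x : G) * s⁻¹ = x := congrArg Subtype.val hx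
      exact hfpf s hs3 hs1 x x.2 (mul_inv_eq_iff_eq_mul.1 hx').symm)
    have hσ3 : σ ^ 3 = 1 := by
      show (MulAut.conjNormal s) ^ 3 = 1
      rw [← map_pow, hs3, map_one]
    have hσord : orderOf σ = 3 := by
      refine orderOf_eq_prime hσ3 fun e => ?_
      obtain ⟨x, hx⟩ := Subgroup.ne_bot_iff_exists_ne_one.1 h2bot
      exact hx (hσfix x (by rw [e]; rfl))
    have hlcs := (S3779.result Nat.prime_three σ hσord hσfix).2.1 rfl
    have hclass : Group.nilpotencyClass N ≤ 2 := by
      haveI : Group.IsNilpotent N := hN2.isNilpotent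
      exact Subgroup.lowerCentralSeries_eq_bot_iff_nilpotencyClass_le.1 hlcs
    rcases hQc with hQ | hQ
    · -- index three
      refine ⟨N, inferInstance, Or.inl ⟨hN2, ?_, hclass, by rw [Subgroup.index_eq_card, hQ]⟩⟩
      refine Nat.dvd_antisymm (Monoid.exponent_dvd_iff_forall_pow_eq_one.2 fun x =>
        Subtype.ext (pow4 hN2 x x.2)) ?_
      obtain ⟨g, hg⟩ := hfour
      have hgN : g ∈ N := by
        refine (QuotientGroup.eq_one_iff g).1 (orderOf_eq_one_iff.1 ?_)
        refine Nat.eq_one_of_dvd_coprimes (show Nat.Coprime 4 3 by norm_num) ?_ ?_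
        · exact hg ▸ orderOf_map_dvd π g
        · exact hQ ▸ orderOf_dvd_natCard (π g)
      have := Monoid.order_dvd_exponent (⟨g, hgN⟩ : N)
      rwa [Subgroup.orderOf_mk, hg] at this
    · -- index six
      have hMi : M.index = 2 := by
        have h1 := M.card_mul_index
        rw [hMc, ← N.card_mul_index, Subgroup.index_eq_card N, hQ] at h1
        have h2 : 0 < Nat.card N := Nat.card_pos
        nlinarith
      haveI : M.Normal := Subgroup.normal_of_index_eq_two hMi
      have hfr : normalizer (R : Set G) ⊔ M = ⊤ := by rw [hR]; exact Sylow.normalizer_sup_eq_top P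
      obtain ⟨t, htR, htM⟩ : ∃ t ∈ normalizer (R : Set G), t ∉ M := by
        by_contra hno
        push Not at hno
        rw [sup_eq_right.2 (show normalizer (R : Set G) ≤ M from hno)] at hfr
        rw [hfr, Subgroup.index_top] at hMi
        norm_num at hMi
      have hout4 : ∀ g : G, g ∉ M → g ^ 4 = 1 := by
        intro g hg
        have h2 : g * g ∈ M := Subgroup.mul_self_mem_of_index_two hMi g
        rcases hord g with e | e | e | e
        · rw [orderOf_eq_one_iff.1 e, one_pow]
        · rw [show 4 = orderOf g * 2 by rw [e], pow_mul, pow_orderOf_eq_one, one_pow]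
        · exfalso
          have h3 : g * g * g = 1 := by rw [← pow_three', ← e, pow_orderOf_eq_one]
          exact hg (by rw [eq_inv_of_mul_eq_one_right h3]; exact inv_mem h2)
        · rw [← e, pow_orderOf_eq_one]
      have hRs : R = zpowers s := by
        refine (Subgroup.eq_of_le_of_card_ge (zpowers_le.2 hsR) ?_).symm
        rw [Nat.card_zpowers, orderOf_eq_prime hs3 hs1]
        refine Nat.le_of_dvd (by norm_num) ?_
        rw [hR, Subgroup.card_map_of_injective M.subtype_injective]
        obtain ⟨j, hj⟩ := IsPGroup.iff_card.1 P.isPGroup'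
        have hd : 3 ^ j ∣ Nat.card N * 3 := hMc ▸ hj ▸ Subgroup.card_subgroup_dvd_card _
        obtain ⟨i, hi⟩ := IsPGroup.iff_card.1 hN2
        rw [hj]
        exact (Nat.Coprime.dvd_mul_left (by rw [hi]; exact Nat.Coprime.pow _ _ (by norm_num))).1 hd
      have hts : t * s * t⁻¹ = s * s := by
        have hm : t * s * t⁻¹ ∈ zpowers s := hRs ▸ (mem_normalizer_iff.1 htR s).1 hsR
        rw [← IsOfFinOrder.mem_powers_iff_mem_zpowers (isOfFinOrder_of_finite s),
          IsOfFinOrder.mem_powers_iff_mem_range_orderOf (isOfFinOrder_of_finite s),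
          orderOf_eq_prime hs3 hs1] at hm
        simp only [Finset.mem_image, Finset.mem_range] at hm
        obtain ⟨i, hi, he⟩ := hm
        interval_cases i
        · rw [pow_zero, eq_comm, conj_eq_one_iff] at he; exact absurd he hs1
        · exfalso
          rw [pow_one] at he
          rcases nomix t s (hout4 t htM) hs3 (mul_inv_eq_iff_eq_mul.1 he.symm) with e | e
          · exact htM (e ▸ one_mem M)
          · exact hs1 e
        · rw [← he, sq]
      have htt : t * t = 1 := by
        have hc : t * t * s = s * (t * t) := by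
          refine mul_inv_eq_iff_eq_mul.1 ?_
          calc t * t * s * (t * t)⁻¹ = t * (t * s * t⁻¹) * t⁻¹ := by group
            _ = t * (s * s) * t⁻¹ := by rw [hts]
            _ = (t * s * t⁻¹) * (t * s * t⁻¹) := by group
            _ = s ^ 3 * s := by rw [hts]; simp only [pow_succ, pow_zero, one_mul]; group
            _ = s := by rw [hs3, one_mul]
        refine (nomix (t * t) s ?_ hs3 hc).resolve_right hs1
        rw [← sq, ← pow_mul, show 2 * 4 = 4 * 2 from rfl, pow_mul, hout4 t htM, one_pow]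
      let τ : MulAut N := MulAut.conjNormal t
      have hsM : s ∈ M := Subgroup.map_subtype_le _ hsR
      have key := H62.SymThreeFpf.comm_and_sq σ τ
        (fun x => by
          have := congrArg (fun f : MulAut N => f x) hσ3
          simpa [pow_succ] using this)
        (fun x => Subtype.ext (show t * (t * (x : G) * t⁻¹) * t⁻¹ = x by
          calc t * (t * (x : G) * t⁻¹) * t⁻¹ = t * t * x * (t * t)⁻¹ := by group
            _ = x := by rw [htt, inv_one, one_mul, mul_one]))
        (fun x => Subtype.ext (show t * (s * (x : G) * s⁻¹) * t⁻¹ = s * (s * (t * x * t⁻¹) * s⁻¹) * s⁻¹ by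
          calc t * (s * (x : G) * s⁻¹) * t⁻¹ = (t * s * t⁻¹) * (t * x * t⁻¹) * (t * s * t⁻¹)⁻¹ := by group
            _ = _ := by rw [hts]; group))
        (fun x => Subtype.ext (show (x : G) * (s * x * s⁻¹) * (s * (s * x * s⁻¹) * s⁻¹) = 1 by
          have h3 : ((x : G) * s) ^ 3 = 1 := by
            have hπ : π ((x : G) * s) = π s := by
              rw [map_mul, show π (x : G) = 1 from (QuotientGroup.eq_one_iff _).2 x.2, one_mul]
            have hos : orderOf (π s) = 3 := orderOf_eq_prime (by rw [← map_pow, hs3, map_one])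
              (fun e => hsN ((QuotientGroup.eq_one_iff s).1 e))
            have hd : 3 ∣ orderOf ((x : G) * s) := hos ▸ hπ ▸ orderOf_map_dvd π _
            rcases hord ((x : G) * s) with e | e | e | e <;> rw [e] at hd <;> norm_num at hd
            rw [← e, pow_orderOf_eq_one]
          calc (x : G) * (s * x * s⁻¹) * (s * (s * x * s⁻¹) * s⁻¹) = ((x : G) * s) ^ 3 * (s ^ 3)⁻¹ := by simp only [pow_succ, pow_zero, one_mul]; group
            _ = 1 := by rw [h3, hs3, inv_one, mul_one]))
        (fun x => Subtype.ext (show ((x : G) * (t * x * t⁻¹)) ^ 2 = 1 by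
          have h4 := hout4 ((x : G) * t) fun e => htM (by simpa using mul_mem (inv_mem (hNM x.2)) e)
          have e : ((x : G) * (t * x * t⁻¹)) = ((x : G) * t) ^ 2 * (t * t)⁻¹ := by simp only [pow_succ, pow_zero, one_mul]; group
          rw [e, htt, inv_one, mul_one, ← pow_mul]
          exact h4))
        (fun x => Subtype.ext (pow4 hN2 x x.2))
        (by
          have e : (⊤ : Subgroup N).lowerCentralSeries 2 = ⁅commutator N, (⊤ : Subgroup N)⁆ := by
            simp [Subgroup.lowerCentralSeries_succ, _root_.commutator_def]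
          rw [hlcs, eq_comm, Subgroup.commutator_eq_bot_iff_le_centralizer] at e
          exact fun c hc => mem_center_iff.2 fun y => mem_centralizer_iff.1 (e hc) y (mem_top y))
      refine ⟨N, inferInstance, Or.inr (Or.inl ⟨⟨⟨⟨key.1⟩⟩, fun a ha => ?_⟩, ?_⟩)⟩
      · exact congrArg Subtype.val (key.2 ⟨a, ha⟩)
      · exact equiv_perm_three F3 hF3c hQ hC3

end Cfsg.Agent.S4006
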