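import Cfsg.Statements.S4013
import Cfsg.Agent.H26.Invol

set_option autoImplicit false
open Cfsg

namespace Cfsg.Agent.S4013

/-- Let G be a finite p-group (p prime) and N < M normal subgroups of G such that for some g ∈ M ∖ N the conjugacy class of g is exactly M ∖ N. Then p = 2 and N has index 2 in M. -/
theorem result {G : Type*} [Group G] [Finite G] (p : ℕ) [Fact p.Prime] (hG : IsPGroup p G) (N M : Subgroup G) [N.Normal] [M.Normal] (hNM : N < M) (g : G) (hgM : g ∈ M) (hgN : g ∉ N) (hcl : {h : G | IsConj g h} = (M : Set G) \ (N : Set G)) : p = 2 ∧ N.relIndex M = 2 := by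
  classical
  have hp : p.Prime := Fact.out
  obtain ⟨n, hn⟩ := hG.exists_card_eq
  obtain ⟨a, ha⟩ : ∃ a, N.relIndex M = p ^ a := by
    obtain ⟨a, -, ha⟩ := (Nat.dvd_prime_pow hp).1
      (hn ▸ ((Subgroup.index_dvd_card _).trans (Subgroup.card_subgroup_dvd_card M)))
    exact ⟨a, ha⟩
  obtain ⟨e, he⟩ : ∃ e, Nat.card N = p ^ e := (hG.to_subgroup N).exists_card_eq
  obtain ⟨c, hc⟩ : ∃ c, (Subgroup.centralizer ({g} : Set G)).index = p ^ c := by
    obtain ⟨c, -, hc⟩ := (Nat.dvd_prime_pow hp).1 (hn ▸ Subgroup.index_dvd_card _)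
    exact ⟨c, hc⟩
  have h1 : Nat.card N * N.relIndex M = Nat.card M := by
    rw [← Nat.card_congr (Subgroup.subgroupOfEquivOfLe hNM.le).toEquiv]
    exact Subgroup.card_mul_index _
  have h2 : Nat.card {h : G // IsConj g h} = Nat.card M - Nat.card N := by
    rw [show Nat.card {h : G // IsConj g h} = Nat.card ({h : G | IsConj g h} : Set G) from rfl, hcl,
      Nat.card_coe_set_eq, Set.ncard_sdiff' hNM.le, ← Nat.card_coe_set_eq, ← Nat.card_coe_set_eq]
    rfl
  have hcard := Cfsg.Agent.H26.card_conj_mul_card_centralizer g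
  have h3 : Nat.card {h : G // IsConj g h} = p ^ c := by
    rw [← hc]
    exact Nat.eq_of_mul_eq_mul_right Nat.card_pos
      (hcard.trans (Subgroup.index_mul_card _).symm)
  have hlt : Nat.card N < Nat.card M := by
    rcases lt_or_eq_of_le (Subgroup.card_le_of_le hNM.le) with h | h
    · exact h
    · exact absurd (Subgroup.eq_of_le_of_card_ge hNM.le h.ge) hNM.ne
  rw [← h1, ha, he] at hlt h2
  have ha0 : 0 < a := by
    rcases Nat.eq_zero_or_pos a with h | h
    · rw [h, pow_zero, mul_one] at hlt; exact absurd hlt (lt_irrefl _)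
    · exact h
  have h4 : p ^ c = p ^ e * (p ^ a - 1) := by rw [← h3, h2, Nat.mul_sub_one]
  obtain ⟨d, -, hd⟩ := (Nat.dvd_prime_pow hp).1 (Dvd.intro_left (p ^ e) h4.symm)
  have hd0 : d = 0 := by
    by_contra hne
    have hd1 : p ∣ p ^ a - 1 := hd ▸ dvd_pow_self p hne
    have hd2 : p ∣ p ^ a := dvd_pow_self p (by omega)
    have := Nat.dvd_sub hd2 hd1
    rw [Nat.sub_sub_self (Nat.one_le_pow _ _ hp.pos)] at this
    exact hp.one_lt.ne' (Nat.dvd_one.1 this)
  rw [hd0, pow_zero] at hd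
  have hp2 : p ^ a = 2 := by omega
  refine ⟨?_, ha.trans hp2⟩
  exact (Nat.prime_dvd_prime_iff_eq hp Nat.prime_two).1 (hp2 ▸ dvd_pow_self p (by omega))

end Cfsg.Agent.S4013
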