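import Cfsg.Statements.S4014
import Cfsg.Agent.H74.DerivedPerm

set_option autoImplicit false
open Cfsg

namespace Cfsg.Agent.S4014

/-- Let p be a prime, n ≥ 1, and P a Sylow p-subgroup of the symmetric group on n letters. Then the derived length of P is exactly k = ⌊log_p n⌋ (the largest k with p^k ≤ n): the k-th derived subgroup of P is trivial and, when k ≥ 1, the (k−1)-st is not. -/
theorem result (p : ℕ) [Fact p.Prime] (n : ℕ) (hn : 1 ≤ n) (P : Sylow p (Equiv.Perm (Fin n))) : derivedSeries ↥(P : Subgroup (Equiv.Perm (Fin n))) (Nat.log p n) = ⊥ ∧ (1 ≤ Nat.log p n → derivedSeries ↥(P : Subgroup (Equiv.Perm (Fin n))) (Nat.log p n - 1) ≠ ⊥) := by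
  have hp : p.Prime := Fact.out
  refine ⟨?_, fun hk => ?_⟩
  · refine H74.DerivedPerm.derived_eq_bot (α := Fin n) P.isPGroup' _ fun x => ?_
    obtain ⟨j, hj⟩ := P.isPGroup'.index (MulAction.stabilizer (↥(P : Subgroup (Equiv.Perm (Fin n)))) x)
    rw [← MulAction.index_stabilizer, hj]
    refine Nat.pow_le_pow_right hp.pos (Nat.le_log_of_pow_le hp.one_lt ?_)
    rw [← hj, MulAction.index_stabilizer]
    exact (Set.ncard_le_card _).trans (by rw [Nat.card_eq_fintype_card, Fintype.card_fin])
  · obtain ⟨k, hk'⟩ := Nat.exists_eq_succ_of_ne_zero (by omega : Nat.log p n ≠ 0)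
    rw [hk', Nat.succ_sub_one]
    let G := Multiplicative (ZMod p)
    have hcard : Nat.card (Fin (k + 1) → G) ≤ n := by
      rw [Nat.card_fun, Nat.card_fin, Nat.card_congr Multiplicative.toAdd, Nat.card_zmod]
      exact le_trans (Nat.pow_le_pow_right hp.pos (by omega)) (Nat.pow_log_le_self p (x := n) (by omega))
    obtain ⟨e⟩ : Nonempty ((Fin (k + 1) → G) ↪ Fin n) :=
      Function.Embedding.nonempty_of_card_le (by
        rw [Fintype.card_fin]; rwa [Nat.card_eq_fintype_card] at hcard)
    let f : IteratedWreathProduct G (k + 1) →* Equiv.Perm (Fin n) :=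
      (Equiv.Perm.viaEmbeddingHom e).comp (iteratedWreathToPermHom G (k + 1))
    have hf : Function.Injective f := (Equiv.Perm.viaEmbeddingHom_injective e).comp
      (iteratedWreathToPermHomInj G (k + 1))
    have hr : IsPGroup p f.range := (IsPGroup.of_card (p := p) (n := ∑ i ∈ Finset.range (k + 1), p ^ i)
      (by rw [IteratedWreathProduct.card, Nat.card_congr Multiplicative.toAdd, Nat.card_zmod])).of_surjective
        f.rangeRestrict f.rangeRestrict_surjective
    obtain ⟨S, hS⟩ := hr.exists_le_sylow
    obtain g := Sylow.equiv S P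
    exact H74.DerivedPerm.derived_ne_bot_of_injective
      (f := g.toMonoidHom.comp ((Subgroup.inclusion hS).comp f.rangeRestrict))
      (g.injective.comp ((Subgroup.inclusion_injective hS).comp
        (fun a b hab => hf (congrArg Subtype.val hab))))
      (H74.DerivedPerm.derived_iterated_ne_bot G k)

end Cfsg.Agent.S4014
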