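-- Statement S4015: derived length of Sylow p-subgroups of GL(n, F), p odd.
import Cfsg.Statements.S4015
import Cfsg.Agent.PGroups.DerivedLength
import Mathlib.LinearAlgebra.Matrix.GeneralLinearGroup.Card
import Mathlib.LinearAlgebra.Pi
import Mathlib.LinearAlgebra.Prod

set_option autoImplicit false
set_option linter.style.haveILetI false
open Cfsg

namespace Cfsg.Agent.S4015

open Agent.PGroups.DerivedLength
open scoped commutatorElement

section Step

variable {F V : Type*} [Field F] [AddCommGroup V] [Module F V] {p : ℕ} [hp : Fact p.Prime]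

/-- Diagonal automorphisms of `ZMod p → V`. -/
def diag : (ZMod p → (V ≃ₗ[F] V)) →* ((ZMod p → V) ≃ₗ[F] (ZMod p → V)) where
  toFun f := LinearEquiv.piCongrRight f
  map_one' := LinearEquiv.ext fun v => funext fun i => rfl
  map_mul' f g := LinearEquiv.ext fun v => funext fun i => rfl

theorem diag_injective : Function.Injective (diag (F := F) (V := V) (p := p)) := by
  intro f g h
  funext i
  refine LinearEquiv.ext fun v => ?_
  exact congrFun (congrArg (fun e : (ZMod p → V) ≃ₗ[F] (ZMod p → V) => e (fun _ => v)) h) i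

/-- The shifts of `ZMod p → V`. -/
def shift : Multiplicative (ZMod p) →* ((ZMod p → V) ≃ₗ[F] (ZMod p → V)) where
  toFun a := LinearEquiv.funCongrLeft F V (Equiv.addRight (Multiplicative.toAdd a))
  map_one' := LinearEquiv.ext fun v => funext fun i => congrArg v (add_zero i)
  map_mul' a b := LinearEquiv.ext fun v => funext fun i => congrArg v (add_assoc i _ _).symm

theorem shift_conj (a : Multiplicative (ZMod p)) (f : ZMod p → (V ≃ₗ[F] V)) :
    shift a * diag f * (shift a)⁻¹ = diag (fun i => f (i + Multiplicative.toAdd a)) := by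
  rw [mul_inv_eq_iff_eq_mul]
  exact LinearEquiv.ext fun v => funext fun i => rfl

set_option maxHeartbeats 800000 in
/-- The wreath product with a group of order `p` raises the derived length. -/
theorem exists_succ [Finite F] [FiniteDimensional F V] (A : Subgroup (V ≃ₗ[F] V))
    (hA : IsPGroup p A) (j : ℕ) (hj : ser A j ≠ ⊥) :
    ∃ S : Subgroup ((ZMod p → V) ≃ₗ[F] (ZMod p → V)), IsPGroup p S ∧ ser S (j + 1) ≠ ⊥ := by
  classical
  haveI : Finite V := Module.finite_of_finite F
  haveI : Finite (V ≃ₗ[F] V) := Finite.of_injective (fun f => (f : V → V)) DFunLike.coe_injective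
  let B : Subgroup (ZMod p → (V ≃ₗ[F] V)) := Subgroup.pi Set.univ fun _ => A
  have hB : IsPGroup p B := by
    obtain ⟨a, ha⟩ := IsPGroup.iff_card.mp hA
    refine IsPGroup.of_card (n := a * p) ?_
    rw [Nat.card_congr (show B ≃ (ZMod p → A) from
      { toFun := fun f i => ⟨(f : ZMod p → (V ≃ₗ[F] V)) i, f.2 i (Set.mem_univ i)⟩
        invFun := fun f => ⟨fun i => f i, fun i _ => (f i).2⟩
        left_inv := fun f => rfl
        right_inv := fun f => rfl }),
      Nat.card_fun, Nat.card_zmod, ha, ← pow_mul]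
  let R := (shift (F := F) (V := V) (p := p)).range
  have hM : IsPGroup p (Multiplicative (ZMod p)) := IsPGroup.of_card (n := 1)
    (by rw [pow_one, Nat.card_congr Multiplicative.toAdd, Nat.card_zmod])
  have hR : IsPGroup p R := hM.of_surjective (shift (F := F) (V := V) (p := p)).rangeRestrict
    (shift (F := F) (V := V) (p := p)).rangeRestrict_surjective
  have hnorm : R ≤ Subgroup.normalizer ((B.map diag : Subgroup _) : Set _) := by
    rintro _ ⟨a, rfl⟩
    rw [Subgroup.mem_normalizer_iff]
    intro x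
    constructor
    · rintro ⟨f, hf, rfl⟩
      exact ⟨_, fun i _ => hf (i + Multiplicative.toAdd a) (Set.mem_univ _), (shift_conj a f).symm⟩
    · rintro ⟨f, hf, he⟩
      refine ⟨_, fun i _ => hf (i + Multiplicative.toAdd a⁻¹) (Set.mem_univ _), ?_⟩
      rw [← shift_conj, he, map_inv]
      group
  refine ⟨R ⊔ B.map diag, IsPGroup.to_sup_of_normal_right' hR (hB.map diag) hnorm, ?_⟩
  set S := R ⊔ B.map diag with hS
  let Y : Subgroup (ZMod p → (V ≃ₗ[F] V)) := ⁅S, S⁆.comap diag
  have hproj : A ≤ Y.map (Pi.evalMonoidHom (fun _ => (V ≃ₗ[F] V)) (0 : ZMod p)) := by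
    intro a ha
    let δ : ZMod p → (V ≃ₗ[F] V) := fun i => if i = 0 then a⁻¹ else 1
    have hδ : δ ∈ B := fun i _ => by
      simp only [δ]
      split_ifs
      · exact A.inv_mem ha
      · exact A.one_mem
    refine ⟨(fun i => δ (i + 1)) * δ⁻¹, ?_, ?_⟩
    · show diag _ ∈ ⁅S, S⁆
      have e : diag ((fun i => δ (i + 1)) * δ⁻¹) =
          ⁅shift (F := F) (V := V) (Multiplicative.ofAdd (1 : ZMod p)), diag δ⁆ := by
        rw [map_mul, map_inv, commutatorElement_def, shift_conj]
        rfl
      rw [e]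
      exact Subgroup.commutator_mem_commutator (Subgroup.mem_sup_left ⟨_, rfl⟩)
        (Subgroup.mem_sup_right ⟨δ, hδ, rfl⟩)
    · show δ (0 + 1) * (δ 0)⁻¹ = a
      simp [δ]
  have hYne : ser Y j ≠ ⊥ := by
    intro h
    apply hj
    rw [eq_bot_iff]
    refine (ser_mono hproj j).trans ?_
    rw [← map_ser, h, Subgroup.map_bot]
  intro h
  apply hYne
  rw [eq_bot_iff]
  intro f hf
  rw [Subgroup.mem_bot]
  refine diag_injective ?_
  have hf' : diag f ∈ ser S (j + 1) := by
    rw [ser_shift]
    have h2 : diag f ∈ (ser Y j).map diag := ⟨f, hf, rfl⟩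
    rw [map_ser] at h2
    exact ser_mono (Subgroup.map_comap_le _ _) j h2
  rw [h, Subgroup.mem_bot] at hf'
  rw [hf', map_one]

/-- Transport along a linear equivalence. -/
theorem exists_transport {W : Type*} [AddCommGroup W] [Module F W]
    {A : Subgroup (V ≃ₗ[F] V)} (hA : IsPGroup p A) {j : ℕ} (hj : ser A j ≠ ⊥)
    (f : (V ≃ₗ[F] V) →* (W ≃ₗ[F] W)) (hf : Function.Injective f) :
    ∃ S : Subgroup (W ≃ₗ[F] W), IsPGroup p S ∧ ser S j ≠ ⊥ := by
  refine ⟨A.map f, hA.map f, fun h => hj ?_⟩
  rw [← map_ser] at h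
  exact (Subgroup.map_eq_bot_iff_of_injective _ hf).mp h

/-- Conjugation by a linear equivalence. -/
def conjHom {W : Type*} [AddCommGroup W] [Module F W] (L : V ≃ₗ[F] W) :
    (V ≃ₗ[F] V) →* (W ≃ₗ[F] W) where
  toFun f := (L.symm.trans f).trans L
  map_one' := LinearEquiv.ext fun w => L.apply_symm_apply w
  map_mul' f g := LinearEquiv.ext fun w => by simp

theorem conjHom_injective {W : Type*} [AddCommGroup W] [Module F W] (L : V ≃ₗ[F] W) :
    Function.Injective (conjHom L) := fun f g h => LinearEquiv.ext fun v => by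
  simpa [conjHom] using congrArg (fun e : W ≃ₗ[F] W => e (L v)) h

end Step

/-- A `p`-subgroup of `GL(e p ^ m)` of derived length more than `m`. -/
theorem exists_long (F : Type*) [Field F] [Fintype F] (p : ℕ) [Fact p.Prime] (hpq : ¬ p ∣ Fintype.card F) :
    ∀ m : ℕ, ∃ S : Subgroup ((Fin (orderOf (Fintype.card F : ZMod p) * p ^ m) → F) ≃ₗ[F]
      (Fin (orderOf (Fintype.card F : ZMod p) * p ^ m) → F)), IsPGroup p S ∧ ser S m ≠ ⊥ := by
  classical
  set e := orderOf (Fintype.card F : ZMod p) with he
  have he0 : 0 < e := by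
    rcases Nat.eq_zero_or_pos e with h | h
    · exfalso
      have hne : (Fintype.card F : ZMod p) ≠ 0 := by rwa [ne_eq, ZMod.natCast_eq_zero_iff]
      exact orderOf_eq_zero_iff.mp h (isOfFinOrder_iff_pow_eq_one.mpr ⟨p - 1,
        Nat.sub_pos_of_lt (Fact.out : p.Prime).one_lt, ZMod.pow_card_sub_one_eq_one hne⟩)
    · exact h
  intro m
  induction m with
  | zero =>
    rw [pow_zero, mul_one]
    haveI : Finite ((Fin e → F) ≃ₗ[F] (Fin e → F)) :=
      Finite.of_injective (fun f => (f : (Fin e → F) → (Fin e → F))) DFunLike.coe_injective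
    have hd : p ∣ Nat.card ((Fin e → F) ≃ₗ[F] (Fin e → F)) := by
      rw [← Nat.card_congr ((Matrix.GeneralLinearGroup.toLin (R := F) (n := Fin e)).trans
        (LinearMap.GeneralLinearGroup.generalLinearEquiv F (Fin e → F))).toEquiv,
        Matrix.card_GL_field]
      refine dvd_trans ?_ (Finset.dvd_prod_of_mem _ (Finset.mem_univ ⟨0, he0⟩))
      simp only [pow_zero]
      have h1 : ((Fintype.card F ^ e : ℕ) : ZMod p) = ((1 : ℕ) : ZMod p) := by
        rw [Nat.cast_pow, Nat.cast_one, he, pow_orderOf_eq_one]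
      exact (Nat.modEq_iff_dvd' (Nat.one_le_pow _ _ Fintype.card_pos)).mp
        ((ZMod.natCast_eq_natCast_iff _ _ _).mp h1).symm
    obtain ⟨c, hc⟩ := exists_prime_orderOf_dvd_card' p hd
    refine ⟨Subgroup.zpowers c, IsPGroup.of_card (n := 1) (by rw [Nat.card_zpowers, hc, pow_one]),
      fun h => ?_⟩
    have hc1 : c ∈ (⊥ : Subgroup _) := h ▸ Subgroup.mem_zpowers c
    rw [Subgroup.mem_bot.mp hc1, orderOf_one] at hc
    exact (Fact.out : p.Prime).one_lt.ne hc
  | succ m ih =>
    obtain ⟨A, hA, hne⟩ := ih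
    obtain ⟨S, hS, hSne⟩ := exists_succ A hA m hne
    have hfr : Module.finrank F (ZMod p → Fin (e * p ^ m) → F) =
        Module.finrank F (Fin (e * p ^ (m + 1)) → F) := by
      rw [Module.finrank_pi_fintype, Finset.sum_const, Finset.card_univ, ZMod.card,
        Module.finrank_fin_fun, Module.finrank_fin_fun, smul_eq_mul, pow_succ]
      ring
    let L := LinearEquiv.ofFinrankEq _ _ hfr
    exact exists_transport hS hSne (conjHom L) (conjHom_injective L)

/-- Let p be an odd prime, F a finite field with q elements where p does not divide q, and e the multiplicative order of q modulo p. Let n ≥ e and write w = ⌊n/e⌋ and k = ⌊log_p w⌋. Then a Sylow p-subgroup of GL(n, F) has derived length exactly k + 1: its (k+1)-st derived subgroup is trivial and its k-th is not. -/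
theorem result (p : ℕ) [Fact p.Prime] (hp : p ≠ 2) (F : Type*) [Field F] [Fintype F] (q : ℕ) (hq : Fintype.card F = q) (hpq : ¬ p ∣ q) (n : ℕ) (hn : orderOf (q : ZMod p) ≤ n) (P : Sylow p (Matrix.GeneralLinearGroup (Fin n) F)) : derivedSeries ↥(P : Subgroup (Matrix.GeneralLinearGroup (Fin n) F)) (Nat.log p (n / orderOf (q : ZMod p)) + 1) = ⊥ ∧ derivedSeries ↥(P : Subgroup (Matrix.GeneralLinearGroup (Fin n) F)) (Nat.log p (n / orderOf (q : ZMod p))) ≠ ⊥ := by
  classical
  subst hq
  set e := orderOf (Fintype.card F : ZMod p) with he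
  have he0 : 0 < e := by
    rcases Nat.eq_zero_or_pos e with h | h
    · exfalso
      have hne : (Fintype.card F : ZMod p) ≠ 0 := by rwa [ne_eq, ZMod.natCast_eq_zero_iff]
      exact orderOf_eq_zero_iff.mp h (isOfFinOrder_iff_pow_eq_one.mpr ⟨p - 1,
        Nat.sub_pos_of_lt (Fact.out : p.Prime).one_lt, ZMod.pow_card_sub_one_eq_one hne⟩)
    · exact h
  set w := n / e with hw
  have hw0 : w ≠ 0 := (Nat.div_pos hn he0).ne'
  set k := Nat.log p w with hk
  constructor
  · let ρ : ↥(P : Subgroup (Matrix.GeneralLinearGroup (Fin n) F)) →* Module.End F (Fin n → F) :=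
      (Matrix.toLinAlgEquiv' : Matrix (Fin n) (Fin n) F ≃ₐ[F] Module.End F (Fin n → F)).toMonoidHom.comp
        ((Units.coeHom (Matrix (Fin n) (Fin n) F)).comp (Subgroup.subtype _))
    have hinj : Function.Injective ρ := fun a b h =>
      Subtype.ext (Units.ext (Matrix.toLinAlgEquiv'.injective h))
    have hlt : Module.finrank F (Fin n → F) < e * p ^ (k + 1) := by
      rw [Module.finrank_fin_fun, mul_comm]
      exact (Nat.div_lt_iff_lt_mul he0).mp (Nat.lt_pow_succ_log_self (Fact.out : p.Prime).one_lt w)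
    have h := ser_le_fixer_all (H := (⊤ : Subgroup _)) (ρ := ρ) hpq (P.isPGroup'.to_subgroup ⊤) _ hlt
    rw [ser_top] at h
    rw [eq_bot_iff]
    intro x hx
    rw [Subgroup.mem_bot]
    exact hinj (LinearMap.ext fun v => by rw [map_one]; exact h hx v Submodule.mem_top)
  · obtain ⟨A, hA, hAne⟩ := exists_long F p hpq k
    have hd : e * p ^ k ≤ n :=
      le_trans (by rw [mul_comm]; exact Nat.mul_le_mul_right _ (Nat.pow_log_le_self p hw0))
        (Nat.div_mul_le_self n e)
    set d := e * p ^ k with hdd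
    have hfr : Module.finrank F ((Fin d → F) × (Fin (n - d) → F)) =
        Module.finrank F (Fin n → F) := by
      rw [Module.finrank_prod, Module.finrank_fin_fun, Module.finrank_fin_fun, Module.finrank_fin_fun]
      omega
    let L := LinearEquiv.ofFinrankEq _ _ hfr
    let pad : ((Fin d → F) ≃ₗ[F] (Fin d → F)) →*
        (((Fin d → F) × (Fin (n - d) → F)) ≃ₗ[F] ((Fin d → F) × (Fin (n - d) → F))) :=
      { toFun := fun f => f.prodCongr (LinearEquiv.refl F _)
        map_one' := LinearEquiv.ext fun v => rfl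
        map_mul' := fun f g => LinearEquiv.ext fun v => rfl }
    have hpad : Function.Injective pad := fun f g h => LinearEquiv.ext fun v =>
      congrArg Prod.fst (congrArg
        (fun E : ((Fin d → F) × (Fin (n - d) → F)) ≃ₗ[F] _ => E (v, 0)) h)
    obtain ⟨S, hS, hSne⟩ := exists_transport hA hAne ((conjHom L).comp pad)
      ((conjHom_injective L).comp hpad)
    let Ψ := ((Matrix.GeneralLinearGroup.toLin (R := F) (n := Fin n)).trans
      (LinearMap.GeneralLinearGroup.generalLinearEquiv F (Fin n → F))).symm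
    have hT : IsPGroup p (S.map Ψ.toMonoidHom) := hS.map _
    obtain ⟨Q, hQ⟩ := hT.exists_le_sylow
    intro hbot
    have hQbot : derivedSeries ↥(Q : Subgroup (Matrix.GeneralLinearGroup (Fin n) F)) k = ⊥ := by
      rw [← map_derivedSeries_eq (f := (P.equiv Q).toMonoidHom) (P.equiv Q).surjective k, hbot,
        Subgroup.map_bot]
    apply hSne
    refine (Subgroup.map_eq_bot_iff_of_injective _ (f := Ψ.toMonoidHom) Ψ.injective).mp ?_
    rw [map_ser, eq_bot_iff]
    refine (ser_mono hQ k).trans ?_
    have h2 := map_ser (Q : Subgroup (Matrix.GeneralLinearGroup (Fin n) F)).subtype ⊤ k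
    rw [ser_top, hQbot, Subgroup.map_bot, ← MonoidHom.range_eq_map, Subgroup.range_subtype] at h2
    rw [← h2]

end Cfsg.Agent.S4015
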