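import Cfsg.Statements.S4017
import Cfsg.Agent.H74.MixedMain

set_option autoImplicit false
open Cfsg

namespace Cfsg.Agent.S4017

/-- Let G be a finite group and let p and q be distinct primes dividing the order of G, with p odd. Suppose that p divides the order of every proper subgroup of G that is neither a q-group nor of order prime to q. Let q^a be the q-part of the order of G. If p > q^a − 1, or if p = q^a − 1 and the Sylow p-subgroups of G are abelian, then p and q are the only primes dividing the order of G. -/
theorem result {G : Type*} [Group G] [Finite G]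
    {p q : ℕ} (hp : p.Prime) (hq : q.Prime) (hpq : p ≠ q) (hp2 : p ≠ 2)
    (hpG : p ∣ Nat.card G) (hqG : q ∣ Nat.card G)
    (hmix : ∀ H : Subgroup G, H ≠ ⊤ → ¬ IsPGroup q H → q ∣ Nat.card H → p ∣ Nat.card H)
    (hlarge : q ^ (Nat.card G).factorization q - 1 < p ∨
      (p = q ^ (Nat.card G).factorization q - 1 ∧ ∀ P : Sylow p G, IsMulCommutative P)) :
    ∀ r : ℕ, r.Prime → r ∣ Nat.card G → r = p ∨ r = q := by
  haveI : Fact q.Prime := ⟨hq⟩
  rcases hlarge with hl | ⟨hl, hab⟩
  · exact H74.Mixed.twoPrimes_of_lt hp hpq hpG hqG hmix (by omega)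
  · have ha : 0 < (Nat.card G).factorization q := hq.factorization_pos_of_dvd Nat.card_pos.ne' hqG
    have hpow : q ^ (Nat.card G).factorization q = p + 1 := by
      have := hp.two_le
      omega
    have hq2 : q = 2 := by
      have h1 : 2 ∣ q ^ (Nat.card G).factorization q := by
        rw [hpow]
        exact even_iff_two_dvd.1 (hp.odd_of_ne_two hp2).add_one
      exact ((Nat.prime_dvd_prime_iff_eq Nat.prime_two hq).1 (Nat.prime_two.dvd_of_dvd_pow h1)).symm
    subst hq2
    exact H74.Mixed.main2 hp hp2 _ G rfl hpG hqG hmix hpow hab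

end Cfsg.Agent.S4017
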