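import Cfsg.Statements.S4021
import Cfsg.Agent.H80.EqualOrder.Quaternion
import Cfsg.Agent.S4023
import Cfsg.Agent.H84.HallNum.Basic

set_option autoImplicit false
open Cfsg

namespace Cfsg.Agent.S4021

/-- Let G be a finite group in which any two subgroups of the same order are conjugate. Then G/O(G), O(G) the largest normal subgroup of odd order, is one of: a cyclic 2-group; the one-dimensional affine group over the field with 8 elements; the one-dimensional semi-affine group over the field with 8 or with 32 elements; PSL₂(8); the full automorphism group of PSL₂(32); the alternating group of degree 4 or 5; SL₂(3); or SL₂(5). -/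
theorem result {G : Type*} [Group G] [Finite G]
    (hC : ∀ H K : Subgroup G, Nat.card H = Nat.card K → ∃ g : G, K = H.map (MulAut.conj g).toMonoidHom) :
    (IsCyclic (G ⧸ Cfsg.oddCore G) ∧ IsPGroup 2 (G ⧸ Cfsg.oddCore G)) ∨
    Nonempty (G ⧸ Cfsg.oddCore G ≃* Cfsg.affineGroup (GaloisField 2 3)) ∨
    Nonempty (G ⧸ Cfsg.oddCore G ≃* Cfsg.semiaffineGroup (GaloisField 2 3)) ∨
    Nonempty (G ⧸ Cfsg.oddCore G ≃* Cfsg.semiaffineGroup (GaloisField 2 5)) ∨
    Nonempty (G ⧸ Cfsg.oddCore G ≃* Matrix.ProjectiveSpecialLinearGroup (Fin 2) (GaloisField 2 3)) ∨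
    Nonempty (G ⧸ Cfsg.oddCore G ≃* MulAut (Matrix.ProjectiveSpecialLinearGroup (Fin 2) (GaloisField 2 5))) ∨
    Nonempty (G ⧸ Cfsg.oddCore G ≃* alternatingGroup (Fin 4)) ∨
    Nonempty (G ⧸ Cfsg.oddCore G ≃* alternatingGroup (Fin 5)) ∨
    Nonempty (G ⧸ Cfsg.oddCore G ≃* Matrix.SpecialLinearGroup (Fin 2) (ZMod 3)) ∨
    Nonempty (G ⧸ Cfsg.oddCore G ≃* Matrix.SpecialLinearGroup (Fin 2) (ZMod 5)) := by
  haveI : Fact (Nat.Prime 2) := ⟨Nat.prime_two⟩
  haveI : (oddCore G).Characteristic := Cores.pPrimeCore_characteristic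
  have h : H80.EqualOrder.EqOrd (G ⧸ oddCore G) := H80.EqualOrder.EqOrd.quotient hC (oddCore G)
  have hO : oddCore (G ⧸ oddCore G) = ⊥ := H84.HallNum.oddCore_quotient_eq_bot
  revert h hO
  generalize Q0 : (default : Sylow 2 (G ⧸ oddCore G)) = S
  intro h hO
  rcases S4023.result (fun H K _ _ hHK => h H K hHK) S with hc | hel | ⟨-, ⟨e⟩⟩ | ⟨hne, -⟩
  · have h2 := H63.GW.isPGroup_of_complement hO (H63.GW.hasNormalPComplement_of_cyclic S)
    have htop : (S : Subgroup (G ⧸ oddCore G)) = ⊤ :=
      (S.is_maximal' (h2.to_subgroup ⊤) le_top).symm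
    exact Or.inl ⟨((MulEquiv.subgroupCongr htop).trans Subgroup.topEquiv).isCyclic.1 hc, h2⟩
  · obtain ⟨n, hn⟩ := S.isPGroup'.exists_card_eq
    rcases (show n ≤ 1 ∨ n = 2 ∨ 3 ≤ n by omega) with hn1 | rfl | hn3
    · haveI hc : IsCyclic ↥(S : Subgroup (G ⧸ oddCore G)) := by
        rcases Nat.le_one_iff_eq_zero_or_eq_one.1 hn1 with rfl | rfl
        · haveI : Subsingleton ↥(S : Subgroup (G ⧸ oddCore G)) :=
            (Nat.card_eq_one_iff_unique.1 hn).1
          infer_instance
        · exact isCyclic_of_prime_card (p := 2) hn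
      have h2 := H63.GW.isPGroup_of_complement hO (H63.GW.hasNormalPComplement_of_cyclic S)
      have htop : (S : Subgroup (G ⧸ oddCore G)) = ⊤ :=
        (S.is_maximal' (h2.to_subgroup ⊤) le_top).symm
      exact Or.inl ⟨((MulEquiv.subgroupCongr htop).trans Subgroup.topEquiv).isCyclic.1 hc, h2⟩
    · rcases h.four_group hO S hel hn with ⟨-, h4⟩ | h5
      · iterate 6 right
        exact Or.inl h4
      · iterate 7 right
        exact Or.inl h5
    · by_cases hN : Subgroup.normalizer ((S : Subgroup (G ⧸ oddCore G)) : Set (G ⧸ oddCore G)) = ⊤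
      · rcases h.primary.normalizer_shape S hel hn3 hn with ⟨-, h1 | h1⟩ | ⟨-, h1⟩
        · obtain ⟨e⟩ := h1
          exact Or.inr (Or.inr (Or.inl (H80.EqualOrder.normalizer_iso hO S hN e)))
        · obtain ⟨e⟩ := h1
          exact Or.inr (Or.inl (H80.EqualOrder.normalizer_iso hO S hN e))
        · obtain ⟨e⟩ := h1
          exact Or.inr (Or.inr (Or.inr (Or.inl (H80.EqualOrder.normalizer_iso hO S hN e))))
      · rcases h.primary.normalizer_shape S hel hn3 hn with ⟨rfl, -⟩ | ⟨rfl, -⟩
        · iterate 4 right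
          exact Or.inl (h.three_nonnormal hO S hel hn hN)
        · iterate 5 right
          exact Or.inl (h.five_nonnormal hO S hel hn hN)
  · rcases h.quaternion hO S e with h3 | h5
    · iterate 8 right
      exact Or.inl h3
    · iterate 9 right
      exact h5
  · exact absurd rfl hne

end Cfsg.Agent.S4021
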