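import Cfsg.Statements.S4024
import Cfsg.Agent.S0016
import Cfsg.Agent.Cores.PSolvable
import Cfsg.Agent.Hall.MinimalNormal
-- import your own Cfsg.Agent.* helpers here

set_option autoImplicit false
open Cfsg

namespace Cfsg.Agent.S4024

section Helpers

open Subgroup

variable {G : Type*} [Group G] [Finite G] {p : ℕ} [Fact p.Prime]

theorem aux (hp : p ≠ 2)
    (hC : ∀ H K : Subgroup G, IsPGroup p H → IsPGroup p K → Nat.card H = Nat.card K →
      ∃ g : G, K = H.map (MulAut.conj g).toMonoidHom)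
    (hN : pPrimeCore p G = ⊥) (P : Sylow p G) (H : Subgroup G) [H.Normal]
    (hsolv : IsPSolvable p H) (hdiv : p ∣ Nat.card H) :
    IsMulCommutative P ∧ ((P : Subgroup G) ≤ H ∨ IsCyclic P) := by
  have hpp : p.Prime := Fact.out
  have : Nontrivial H := Finite.one_lt_card_iff_nontrivial.mp
    (hpp.one_lt.trans_le (Nat.le_of_dvd Nat.card_pos hdiv))
  have hHN : pPrimeCore p H = ⊥ := by
    have h := Cores.map_pPrimeCore_le_of_normal (p := p) H
    rw [hN, le_bot_iff, Subgroup.map_eq_bot_iff_of_injective _ H.subtype_injective] at h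
    exact h
  let M : Subgroup G := (pCore p H).map H.subtype
  have hM : M ≠ ⊥ := fun h => Cores.pCore_ne_bot_of_pPrimeCore_eq_bot hsolv hHN
    ((Subgroup.map_eq_bot_iff_of_injective _ H.subtype_injective).mp h)
  have hMp : IsPGroup p M := Cores.pCore_isPGroup.map _
  have hMle : M ≤ pCore p G := Cores.map_pCore_le_of_normal H
  have : M.Normal := by
    have e : M = pCore p G ⊓ H := le_antisymm (le_inf hMle (Subgroup.map_subtype_le _))
      (fun x hx => ⟨⟨x, hx.2⟩, Cores.subgroupOf_pCore_le H hx.1, rfl⟩)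
    rw [e]; infer_instance
  obtain ⟨V, hVn, hV, hVM, hmin⟩ := Hall.exists_minimal_normal_le M hM
  have hVp : IsPGroup p V := hMp.to_le hVM
  have : Group.IsNilpotent V := hVp.isNilpotent
  obtain ⟨-, q, hq, hVq, hVe⟩ := Hall.minimal_normal_elementary hV hmin inferInstance
  have hntV : Nontrivial V := V.nontrivial_iff_ne_bot.mpr hV
  obtain ⟨m, hm0, hm⟩ := hVp.nontrivial_iff_card.mp hntV
  obtain ⟨v, hv⟩ := exists_prime_orderOf_dvd_card' (G := V) p (hm ▸ dvd_pow_self p hm0.ne')
  have hv' : orderOf (v : G) = p := by rw [Subgroup.orderOf_coe, hv]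
  have hqp : q = p := by
    refine ((Nat.prime_dvd_prime_iff_eq hpp hq).mp ?_).symm
    exact hv' ▸ orderOf_dvd_of_pow_eq_one (hVe v v.2)
  subst hqp
  have hVP : V ≤ P := (Cores.le_pCore hVp).trans (Cores.pCore_le_sylow P)
  have hVH : V ≤ H := hVM.trans (Subgroup.map_subtype_le _)
  have hord : ∀ x : G, x ^ q = 1 → x ∈ V := by
    intro x hx
    by_cases h1 : x = 1
    · exact h1 ▸ one_mem _
    have hox : orderOf x = q := orderOf_eq_prime hx h1
    obtain ⟨g, hg⟩ := hC (zpowers (v : G)) (zpowers x)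
      (IsPGroup.of_card (n := 1) (by rw [Nat.card_zpowers, hv', pow_one]))
      (IsPGroup.of_card (n := 1) (by rw [Nat.card_zpowers, hox, pow_one]))
      (by rw [Nat.card_zpowers, Nat.card_zpowers, hv', hox])
    obtain ⟨y, hy, hyx⟩ := (hg ▸ mem_zpowers x : x ∈ _)
    rw [← hyx]
    exact hVn.conj_mem y (Subgroup.zpowers_le.mpr v.2 hy) g
  by_cases hexp : ∀ x ∈ (P : Subgroup G), x ^ q = 1
  · have hPV : (P : Subgroup G) = V := le_antisymm (fun x hx => hord x (hexp x hx)) hVP
    refine ⟨?_, Or.inl (hPV ▸ hVH)⟩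
    exact ⟨⟨fun a b => Subtype.ext (congrArg Subtype.val
      ((Hall.minimal_normal_elementary hV hmin inferInstance).1.is_comm.comm
        ⟨(a : G), hPV ▸ a.2⟩ ⟨(b : G), hPV ▸ b.2⟩) : _)⟩⟩
  push_neg at hexp
  obtain ⟨x, hxP, hxe⟩ := hexp
  have hm1 : m = 1 := by
    by_contra hne
    obtain ⟨k, hk⟩ := IsPGroup.iff_orderOf.mp P.2 ⟨x, hxP⟩
    rw [Subgroup.orderOf_mk] at hk
    have hk2 : 2 ≤ k := by
      by_contra! hk'
      refine hxe (orderOf_dvd_iff_pow_eq_one.mp ?_)
      rw [hk]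
      exact (pow_dvd_pow q (by omega : k ≤ 1)).trans (dvd_of_eq (pow_one q))
    obtain ⟨y, hy⟩ : ∃ y : G, orderOf y = q ^ 2 := ⟨x ^ q ^ (k - 2), by
      rw [orderOf_pow' _ (pow_ne_zero _ hpp.ne_zero), hk,
        Nat.gcd_eq_right (pow_dvd_pow q (Nat.sub_le k 2)),
        Nat.pow_div (Nat.sub_le k 2) hpp.pos, Nat.sub_sub_self hk2]⟩
    obtain ⟨W, hW⟩ := Sylow.exists_subgroup_card_pow_prime (G := V) q
      (n := 2) (hm ▸ pow_dvd_pow q (by omega : 2 ≤ m))
    have hW' : Nat.card (W.map V.subtype) = q ^ 2 := by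
      rw [Subgroup.card_subtype, hW]
    obtain ⟨g, hg⟩ := hC (zpowers y) (W.map V.subtype)
      (IsPGroup.of_card (n := 2) (by rw [Nat.card_zpowers, hy]))
      (IsPGroup.of_card (n := 2) hW') (by rw [Nat.card_zpowers, hy, hW'])
    have hyW : MulAut.conj g y ∈ W.map V.subtype := hg ▸ ⟨y, mem_zpowers y, rfl⟩
    have := orderOf_dvd_of_pow_eq_one (hVe _ (Subgroup.map_subtype_le _ hyW))
    rw [show orderOf ((MulAut.conj g) y) = q ^ 2 from
      (MulEquiv.orderOf_eq (MulAut.conj g) y).trans hy] at this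
    have := Nat.le_of_dvd hpp.pos this
    nlinarith [hpp.one_lt]
  have hcyc : IsCyclic P := by
    refine (S0016.result q P.2 fun A B hA hB => ?_).resolve_right fun h => hp h.1
    have key : ∀ A : Subgroup P, Nat.card A = q → A.map (P : Subgroup G).subtype = V := by
      intro A hA
      refine Subgroup.eq_of_le_of_card_ge (fun z hz => ?_) ?_
      · obtain ⟨a, ha, rfl⟩ := hz
        refine hord _ ?_
        have h := pow_card_eq_one' (G := A) (x := ⟨a, ha⟩)
        rw [hA] at h
        exact congrArg (fun w : A => ((w : P) : G)) h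
      · rw [hm, hm1, pow_one, Subgroup.card_subtype, hA]
    exact Subgroup.map_injective (P : Subgroup G).subtype_injective ((key A hA).trans (key B hB).symm)
  exact ⟨IsCyclic.commutative, Or.inr hcyc⟩

end Helpers


/-- Let p be an odd prime and G a finite group in which any two p-subgroups of the same order are conjugate, with Sylow p-subgroup P. If H is a normal p-solvable subgroup of G whose order is divisible by p, then P is abelian, and either P ≤ H or P is cyclic. -/
theorem result {G : Type*} [Group G] [Finite G]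
    {p : ℕ} [Fact p.Prime] (hp : p ≠ 2) (hC : ∀ H K : Subgroup G, IsPGroup p H → IsPGroup p K → Nat.card H = Nat.card K →
      ∃ g : G, K = H.map (MulAut.conj g).toMonoidHom) (P : Sylow p G)
    (H : Subgroup G) [H.Normal] (hsolv : Cfsg.IsPSolvable p H) (hdiv : p ∣ Nat.card H) :
    IsMulCommutative P ∧ ((P : Subgroup G) ≤ H ∨ IsCyclic P) := by
  have hpp : p.Prime := Fact.out
  set N := pPrimeCore p G with hNdef
  let f := QuotientGroup.mk' N
  have hfs : Function.Surjective f := QuotientGroup.mk'_surjective N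
  have hinj : ∀ A : Subgroup G, IsPGroup p A → Set.InjOn f (A : Set G) := by
    intro A hA a ha b hb hab
    have hd := Cores.disjoint_of_isPGroup_of_coprime hA (Cores.coprime_card_pPrimeCore (p := p) (G := G))
    have : a⁻¹ * b ∈ N := QuotientGroup.eq.mp hab
    exact inv_mul_eq_one.mp (Subgroup.disjoint_def.mp (disjoint_iff.mpr hd) (mul_mem (inv_mem ha) hb) this)
  have hlift : ∀ A : Subgroup (G ⧸ N), IsPGroup p A →
      ∃ B : Subgroup G, IsPGroup p B ∧ B.map f = A ∧ Nat.card B = Nat.card A := by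
    intro A hA
    obtain ⟨Q, hQ⟩ := hA.exists_le_sylow
    obtain ⟨R, hR⟩ := Sylow.mapSurjective_surjective hfs p Q
    have hB : IsPGroup p ((R : Subgroup G) ⊓ A.comap f : Subgroup G) := R.2.to_le inf_le_left
    refine ⟨(R : Subgroup G) ⊓ A.comap f, hB, ?_, ?_⟩
    · refine le_antisymm ?_ fun a ha => ?_
      · rintro _ ⟨b, hb, rfl⟩; exact hb.2
      · have : a ∈ (R : Subgroup G).map f := by
          rw [← hR] at hQ; exact hQ ha
        obtain ⟨b, hb, rfl⟩ := this
        exact ⟨b, ⟨hb, ha⟩, rfl⟩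
    · have e1 : f '' (((R : Subgroup G) ⊓ A.comap f : Subgroup G) : Set G) = (A : Set (G ⧸ N)) := by
        ext a
        constructor
        · rintro ⟨b, hb, rfl⟩; exact hb.2
        · intro ha
          have : a ∈ (R : Subgroup G).map f := by
            rw [← hR] at hQ; exact hQ ha
          obtain ⟨b, hb, rfl⟩ := this
          exact ⟨b, ⟨hb, ha⟩, rfl⟩
      have := Nat.card_image_of_injOn (hinj _ hB)
      rw [e1] at this
      exact this.symm
  have hC' : ∀ A B : Subgroup (G ⧸ N), IsPGroup p A → IsPGroup p B → Nat.card A = Nat.card B →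
      ∃ g : G ⧸ N, B = A.map (MulAut.conj g).toMonoidHom := by
    intro A B hA hB hc
    obtain ⟨A', hA', rfl, hcA⟩ := hlift A hA
    obtain ⟨B', hB', rfl, hcB⟩ := hlift B hB
    obtain ⟨g, rfl⟩ := hC A' B' hA' hB' (by omega)
    refine ⟨f g, ?_⟩
    rw [Subgroup.map_map, Subgroup.map_map]
    congr 1
  let f' : H →* H.map f := f.subgroupMap H
  have hsolv' : IsPSolvable p (H.map f) :=
    Cores.isPSolvable_of_surjective hsolv f' (f.subgroupMap_surjective H)
  have hHn : (H.map f).Normal := Subgroup.Normal.map ‹_› f hfs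
  obtain ⟨S⟩ := (inferInstance : Nonempty (Sylow p H))
  have hdiv' : p ∣ Nat.card (H.map f) := by
    obtain ⟨x, hx⟩ := exists_prime_orderOf_dvd_card' (G := H) p hdiv
    have hx' : orderOf (x : G) = p := by rw [Subgroup.orderOf_coe, hx]
    have hA : IsPGroup p (Subgroup.zpowers (x : G)) :=
      IsPGroup.of_card (n := 1) (by rw [Nat.card_zpowers, hx', pow_one])
    have h1 : f x ≠ 1 := fun h => by
      have := hinj _ hA (Subgroup.mem_zpowers _) (one_mem _) (h.trans f.map_one.symm)
      rw [this, orderOf_one] at hx'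
      exact hpp.one_lt.ne hx'
    have h2 : orderOf (f x) = p := orderOf_eq_prime (by
      rw [← map_pow, show (x : G) ^ p = 1 from hx' ▸ pow_orderOf_eq_one _, map_one]) h1
    exact (dvd_of_eq h2.symm).trans (Subgroup.orderOf_dvd_natCard _ ⟨x, x.2, rfl⟩)
  obtain ⟨h1, h2⟩ := aux hp hC' (Cores.pPrimeCore_quotient_pPrimeCore) (P.mapSurjective hfs)
    (H.map f) hsolv' hdiv'
  have hP' : ∀ x ∈ (P : Subgroup G), f x ∈ ((P.mapSurjective hfs : Sylow p (G ⧸ N)) : Subgroup (G ⧸ N)) :=
    fun x hx => ⟨x, hx, rfl⟩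
  let φ : P →* (P.mapSurjective hfs : Sylow p (G ⧸ N)) :=
    { toFun := fun x => ⟨f x, hP' x x.2⟩
      map_one' := Subtype.ext (map_one f)
      map_mul' := fun a b => Subtype.ext (map_mul f _ _) }
  have hφ : Function.Injective φ := fun a b hab =>
    Subtype.ext (hinj _ P.2 a.2 b.2 (congrArg Subtype.val hab))
  refine ⟨⟨⟨fun a b => hφ (by rw [map_mul, map_mul]; exact h1.is_comm.comm _ _)⟩⟩, ?_⟩
  rcases h2 with h2 | h2
  · left
    intro x hx
    obtain ⟨y, hy, hyx⟩ := h2 (hP' x hx)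
    have hn : y⁻¹ * x ∈ N := QuotientGroup.eq.mp hyx
    have e : QuotientGroup.mk' H x = QuotientGroup.mk' H (y⁻¹ * x) := by
      rw [map_mul, map_inv, (QuotientGroup.eq_one_iff y).mpr hy |> (fun h => (h : QuotientGroup.mk' H y = 1)),
        inv_one, one_mul]
    obtain ⟨k, hk⟩ := IsPGroup.iff_orderOf.mp P.2 ⟨x, hx⟩
    rw [Subgroup.orderOf_mk] at hk
    have h3 : orderOf (QuotientGroup.mk' H x) ∣ p ^ k := hk ▸ orderOf_map_dvd _ x
    have h4 : orderOf (QuotientGroup.mk' H x) ∣ Nat.card N :=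
      e ▸ (orderOf_map_dvd _ _).trans (Subgroup.orderOf_dvd_natCard _ hn)
    have h5 := Nat.eq_one_of_dvd_coprimes
      ((Cores.coprime_card_pPrimeCore (p := p) (G := G)).symm.pow_left k) h3 h4
    exact (QuotientGroup.eq_one_iff x).mp (orderOf_eq_one_iff.mp h5)
  · exact Or.inr (isCyclic_of_injective φ hφ)

end Cfsg.Agent.S4024
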