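import Cfsg.Statements.S4027
import Cfsg.Agent.H74.OddIrrational

set_option autoImplicit false
open Cfsg

namespace Cfsg.Agent.S4027

/-- Let G be a finite group in which every element x of odd order satisfies N_G(⟨x⟩) = C_G(x). Then the Sylow 2-subgroups of G are normal. -/
theorem result {G : Type*} [Group G] [Finite G]
    (hirr : ∀ x : G, (∀ r : ℕ, r.Prime → r ∣ orderOf x → r ≠ 2) →
      Subgroup.normalizer ((Subgroup.zpowers x : Subgroup G) : Set G) ≤ Subgroup.centralizer {x}) (P : Sylow 2 G) :
    (P : Subgroup G).Normal := by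
  refine Cfsg.Agent.H74.sylow_two_normal_of_no_real (fun x hx t ht => ?_) P
  have hmem : t ∈ Subgroup.normalizer ((Subgroup.zpowers x : Subgroup G) : Set G) := by
    rw [Subgroup.mem_normalizer_iff]
    intro y
    have hy : ∀ n : ℤ, t * x ^ n * t⁻¹ = x ^ (-n) := fun n => by
      rw [← conj_zpow, ht, inv_zpow, zpow_neg]
    simp only [Subgroup.mem_zpowers_iff]
    constructor
    · rintro ⟨n, rfl⟩
      exact ⟨-n, (hy n).symm⟩
    · rintro ⟨n, hn⟩
      refine ⟨-n, ?_⟩
      have h' := hy (-n)
      rw [neg_neg, hn] at h'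
      exact mul_left_cancel (mul_right_cancel h')
  have hcomm : t * x = x * t := (Subgroup.mem_centralizer_singleton_iff.1
    (hirr x (fun r hr hrd h2 => by
      subst h2
      exact (Nat.not_even_iff_odd.2 hx) (even_iff_two_dvd.2 hrd)) hmem))
  rw [hcomm, mul_inv_cancel_right] at ht
  have h2 : orderOf x ∣ 2 := orderOf_dvd_of_pow_eq_one (by rw [pow_two]; exact mul_eq_one_iff_eq_inv.2 ht)
  rw [← orderOf_eq_one_iff]
  rcases (Nat.dvd_prime Nat.prime_two).1 h2 with h | h
  · exact h
  · rw [h] at hx; exact absurd hx (by decide)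

end Cfsg.Agent.S4027
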