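import Cfsg.Statements.S4028
import Cfsg.Agent.H74.TwoIrrational

set_option autoImplicit false
open Cfsg

namespace Cfsg.Agent.S4028

/-- Let G be a finite group with Sylow 2-subgroup P. Then N_G(⟨x⟩) = C_G(x) holds for every 2-element x of G if and only if N_P(⟨y⟩) = C_P(y) holds for every y ∈ P (computed inside P). -/
theorem result {G : Type*} [Group G] [Finite G] (P : Sylow 2 G) :
    (∀ x : G, (∀ r : ℕ, r.Prime → r ∣ orderOf x → r = 2) →
      Subgroup.normalizer ((Subgroup.zpowers x : Subgroup G) : Set G) ≤ Subgroup.centralizer {x}) ↔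
    (∀ y : ↥(P : Subgroup G), Subgroup.normalizer ((Subgroup.zpowers y : Subgroup ↥(P : Subgroup G)) : Set ↥(P : Subgroup G)) ≤
        Subgroup.centralizer {y}) := by
  constructor
  · intro h y g hg
    have hp : ∀ r : ℕ, r.Prime → r ∣ orderOf (y : G) → r = 2 := fun r hr hd => by
      obtain ⟨k, hk⟩ := P.2 y
      have h1 : orderOf (y : G) ∣ 2 ^ k := by
        rw [Subgroup.orderOf_coe]; exact orderOf_dvd_of_pow_eq_one hk
      exact (Nat.prime_dvd_prime_iff_eq hr Nat.prime_two).1 (hr.dvd_of_dvd_pow (hd.trans h1))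
    have hmem : (g : G) ∈ Subgroup.normalizer ((Subgroup.zpowers (y : G) : Subgroup G) : Set G) := by
      rw [Subgroup.mem_normalizer_iff] at hg ⊢
      intro x
      constructor
      · intro hx
        obtain ⟨n, rfl⟩ := Subgroup.mem_zpowers_iff.1 hx
        obtain ⟨m, hm⟩ := Subgroup.mem_zpowers_iff.1 ((hg (y ^ n)).1 (zpow_mem (Subgroup.mem_zpowers y) n))
        exact Subgroup.mem_zpowers_iff.2 ⟨m, by simpa using congrArg Subtype.val hm⟩
      · intro hx
        obtain ⟨n, hn⟩ := Subgroup.mem_zpowers_iff.1 hx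
        have hxP : x ∈ (P : Subgroup G) := by
          have : x = (g : G)⁻¹ * (y : G) ^ n * g := by rw [hn]; group
          rw [this]
          exact mul_mem (mul_mem (inv_mem g.2) (zpow_mem y.2 n)) g.2
        obtain ⟨m, hm⟩ := Subgroup.mem_zpowers_iff.1 ((hg ⟨x, hxP⟩).2
          (Subgroup.mem_zpowers_iff.2 ⟨n, Subtype.ext (by simpa using hn)⟩))
        exact Subgroup.mem_zpowers_iff.2 ⟨m, by simpa using congrArg Subtype.val hm⟩
    rw [Subgroup.mem_centralizer_singleton_iff]
    exact Subtype.ext (Subgroup.mem_centralizer_singleton_iff.1 (h (y : G) hp hmem))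
  · intro h x hx
    exact Cfsg.Agent.H74.TwoIrrational.normalizer_le P (fun y hy g hg hgn =>
      Cfsg.Agent.H74.TwoIrrational.local_comm P h y hy g hg hgn) x hx

end Cfsg.Agent.S4028
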