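import Cfsg.Statements.S4029

set_option autoImplicit false
open Cfsg
open scoped BigOperators

namespace Cfsg.Agent.S4029

variable {P : Type*} [Group P]

/-- pairs with equal squares correspond to pairs (x, g) with g x g⁻¹ = x⁻¹. -/
def pairEquiv : {z : P × P // z.2 * z.1 * z.2⁻¹ = z.1⁻¹} ≃ {z : P × P // z.1 ^ 2 = z.2 ^ 2} where
  toFun z := ⟨(z.1.2, z.1.2 * z.1.1), by
    obtain ⟨⟨x, g⟩, h⟩ := z
    dsimp only at h ⊢
    have h' : g * x = x⁻¹ * g := by rw [← h]; group
    calc g ^ 2 = g * (x * x⁻¹) * g := by rw [mul_inv_cancel, mul_one, pow_two]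
      _ = (g * x) * (x⁻¹ * g) := by group
      _ = (g * x) ^ 2 := by rw [← h', pow_two]⟩
  invFun z := ⟨(z.1.1⁻¹ * z.1.2, z.1.1), by
    obtain ⟨⟨g, h⟩, e⟩ := z
    dsimp only at e ⊢
    have e' : g * g = h * h := by rw [← pow_two, ← pow_two, e]
    calc g * (g⁻¹ * h) * g⁻¹ = h * g⁻¹ := by group
      _ = h⁻¹ * (h * h) * g⁻¹ := by group
      _ = h⁻¹ * g := by rw [← e']; group
      _ = (g⁻¹ * h)⁻¹ := by group⟩
  left_inv z := by
    obtain ⟨⟨x, g⟩, h⟩ := z
    simp
  right_inv z := by
    obtain ⟨⟨g, h⟩, e⟩ := z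
    simp

/-- for an element of order at most two, the number of g inverting it is the centraliser order. -/
theorem card_inverting [Finite P]
    (hreal : ∀ x g : P, g * x * g⁻¹ = x⁻¹ → x⁻¹ = x) :
    Nat.card {z : P × P // z.2 * z.1 * z.2⁻¹ = z.1⁻¹}
      = Nat.card {c : ConjClasses P // ∃ y : P, ConjClasses.mk y = c ∧ y * y = 1} * Nat.card P := by
  classical
  -- first fibre over the class
  let T := {c : ConjClasses P // ∃ y : P, ConjClasses.mk y = c ∧ y * y = 1}
  have sq : ∀ x : P, (∃ y : P, ConjClasses.mk y = ConjClasses.mk x ∧ y * y = 1) → x * x = 1 := by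
    rintro x ⟨y, hy, hy2⟩
    obtain ⟨c, hc⟩ := isConj_iff.1 (ConjClasses.mk_eq_mk_iff_isConj.1 hy)
    rw [← hc]
    calc c * y * c⁻¹ * (c * y * c⁻¹) = c * (y * y) * c⁻¹ := by group
      _ = 1 := by rw [hy2]; group
  let f : {z : P × P // z.2 * z.1 * z.2⁻¹ = z.1⁻¹} → T := fun z =>
    ⟨ConjClasses.mk z.1.1, z.1.1, rfl, by
      have := hreal _ _ z.2
      exact inv_eq_iff_mul_eq_one.1 this⟩
  have hfib : ∀ c : T, Nat.card {z // f z = c} = Nat.card P := by
    rintro ⟨c, y, rfl, hy⟩
    -- bijection g ↦ conjugates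
    have e : {z // f z = ⟨ConjClasses.mk y, y, rfl, hy⟩} ≃
        Σ x : {x : P // IsConj y x}, {g : P // g * x.1 * g⁻¹ = x.1} :=
      { toFun := fun z => ⟨⟨z.1.1.1, ConjClasses.mk_eq_mk_iff_isConj.1
            (congrArg Subtype.val z.2).symm⟩, ⟨z.1.1.2, by
              have h1 := z.1.2
              rwa [hreal _ _ h1] at h1⟩⟩
        invFun := fun s => ⟨⟨(s.1.1, s.2.1), by
            have h2 : s.1.1 * s.1.1 = 1 :=
              sq _ ⟨y, ConjClasses.mk_eq_mk_iff_isConj.2 s.1.2, hy⟩
            exact s.2.2.trans (inv_eq_iff_mul_eq_one.2 h2).symm⟩,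
          Subtype.ext (ConjClasses.mk_eq_mk_iff_isConj.2 s.1.2).symm⟩
        left_inv := fun z => rfl
        right_inv := fun s => rfl }
    rw [Nat.card_congr e]
    have key : ∀ x : {x : P // IsConj y x}, ∃ k : P, k * y * k⁻¹ = x.1 :=
      fun x => isConj_iff.1 x.2
    choose k hk using key
    have e2 : (Σ x : {x : P // IsConj y x}, {g : P // g * x.1 * g⁻¹ = x.1}) ≃ P :=
      { toFun := fun s => s.2.1 * k s.1
        invFun := fun h => ⟨⟨h * y * h⁻¹, isConj_iff.2 ⟨h, rfl⟩⟩,
          ⟨h * (k ⟨h * y * h⁻¹, isConj_iff.2 ⟨h, rfl⟩⟩)⁻¹, by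
            generalize hx : (⟨h * y * h⁻¹, isConj_iff.2 ⟨h, rfl⟩⟩ : {x : P // IsConj y x}) = x
            have hx' : h * y * h⁻¹ = x.1 := congrArg Subtype.val hx
            have := hk x
            calc h * (k x)⁻¹ * x.1 * (h * (k x)⁻¹)⁻¹
                = h * ((k x)⁻¹ * (k x * y * (k x)⁻¹) * k x) * h⁻¹ := by rw [this]; group
              _ = h * y * h⁻¹ := by group
              _ = x.1 := hx'⟩⟩
        left_inv := fun s => by
          obtain ⟨x, g, hg⟩ := s
          have h1 : g * k x * y * (g * k x)⁻¹ = x.1 := by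
            calc _ = g * (k x * y * (k x)⁻¹) * g⁻¹ := by group
              _ = x.1 := by rw [hk, hg]
          have h2 : (⟨g * k x * y * (g * k x)⁻¹, isConj_iff.2 ⟨g * k x, rfl⟩⟩ :
              {x : P // IsConj y x}) = x := Subtype.ext h1
          refine Sigma.subtype_ext h2 ?_
          show g * k x * (k _)⁻¹ = g
          rw [h2]; group
        right_inv := fun h => by simp }
    exact Nat.card_congr e2
  have : Fintype T := Fintype.ofFinite T
  calc Nat.card {z : P × P // z.2 * z.1 * z.2⁻¹ = z.1⁻¹}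
      = ∑ c : T, Nat.card {z // f z = c} := by
        rw [← Nat.card_congr (Equiv.sigmaFiberEquiv f), Nat.card_sigma]
    _ = _ := by simp [hfib, Nat.card_eq_fintype_card, T]

theorem sq_mem_frattini [Finite P] (hP : IsPGroup 2 P) (x : P) : x * x ∈ frattini P := by
  rw [frattini, Order.radical, Subgroup.mem_iInf]
  intro M
  rw [Subgroup.mem_iInf]
  intro hM
  have hM' : IsCoatom M := hM
  haveI : Fact (Nat.Prime 2) := ⟨Nat.prime_two⟩
  haveI : Group.IsNilpotent P := hP.isNilpotent
  have hn : M.Normal := by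
    by_contra hne
    have h1 : M < Subgroup.normalizer (M : Set P) :=
      Group.normalizerCondition_of_isNilpotent M (lt_of_le_of_ne le_top hM'.1)
    have h2 := hM'.2 _ h1
    exact hne (Subgroup.normalizer_eq_top_iff.1 h2)
  haveI := hn
  by_contra hx
  have hQ : IsPGroup 2 (P ⧸ M) := hP.to_quotient M
  obtain ⟨k, hk⟩ := hQ (QuotientGroup.mk x)
  -- if x² ∉ M then ⟨x²⟩ M is everything, impossible
  have hsup : M ⊔ Subgroup.zpowers (x * x) = ⊤ := hM'.2 _
    (lt_of_le_of_ne le_sup_left fun h => hx (h ▸ Subgroup.mem_sup_right (Subgroup.mem_zpowers _)))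
  have hx1 : QuotientGroup.mk' M x ∈ Subgroup.zpowers ((QuotientGroup.mk' M x) ^ 2) := by
    have h : x ∈ M ⊔ Subgroup.zpowers (x * x) := hsup ▸ Subgroup.mem_top x
    have := Subgroup.mem_map_of_mem (QuotientGroup.mk' M) h
    rw [Subgroup.map_sup, MonoidHom.map_zpowers] at this
    rw [show M.map (QuotientGroup.mk' M) = ⊥ by
      rw [Subgroup.map_eq_bot_iff, QuotientGroup.ker_mk'], bot_sup_eq] at this
    rw [pow_two]
    simpa using this
  obtain ⟨j, hj⟩ := hQ.exists_card_eq
  have hne : QuotientGroup.mk' M x ≠ 1 := by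
    intro h
    apply hx
    have : x ∈ M := (QuotientGroup.eq_one_iff x).1 h
    exact M.mul_mem this this
  have ho : orderOf ((QuotientGroup.mk' M x) ^ 2) = orderOf (QuotientGroup.mk' M x) := by
    apply Nat.dvd_antisymm (orderOf_pow_dvd 2)
    have := Subgroup.card_dvd_of_le (Subgroup.zpowers_le.2 hx1)
    rwa [Nat.card_zpowers, Nat.card_zpowers] at this
  obtain ⟨i, hi⟩ := (IsPGroup.iff_orderOf).1 hQ (QuotientGroup.mk' M x)
  rcases i with _ | i
  · rw [pow_zero, orderOf_eq_one_iff] at hi; exact hne hi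
  · rw [orderOf_pow' _ two_ne_zero, hi] at ho
    have : Nat.gcd (2 ^ (i + 1)) 2 = 2 := Nat.gcd_eq_right (dvd_pow_self 2 (Nat.succ_ne_zero i))
    rw [this] at ho
    have := Nat.two_pow_pos (i + 1)
    omega

theorem result {P : Type*} [Group P] [Finite P] (hP : IsPGroup 2 P)
    (hirr : ∀ y : P, Subgroup.normalizer ((Subgroup.zpowers y : Subgroup P) : Set P) ≤ Subgroup.centralizer {y}) :
    Nat.card (P ⧸ frattini P) ≤ Nat.card {c : ConjClasses P // ∃ y : P, ConjClasses.mk y = c ∧ orderOf y = 2} + 1 ∧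
    Nat.card (P ⧸ frattini P) ≤ Nat.card (Subgroup.closure {y : P | orderOf y = 2}) := by
  classical
  have : Fintype P := Fintype.ofFinite P
  have hreal : ∀ x g : P, g * x * g⁻¹ = x⁻¹ → x⁻¹ = x := by
    intro x g h
    have hn : g ∈ Subgroup.normalizer ((Subgroup.zpowers x : Subgroup P) : Set P) := by
      rw [Subgroup.mem_normalizer_iff]
      intro z
      have hm : (Subgroup.zpowers x).map (MulAut.conj g).toMonoidHom = Subgroup.zpowers x := by
        rw [MonoidHom.map_zpowers]
        simp [h]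
      constructor
      · intro hz
        rw [← hm]
        exact ⟨z, hz, by simp⟩
      · intro hz
        rw [← hm] at hz
        obtain ⟨w, hw, hwz⟩ := hz
        have hwz' : g * w * g⁻¹ = g * z * g⁻¹ := by simpa using hwz
        rwa [← mul_left_cancel (mul_right_cancel hwz')]
    have := Subgroup.mem_centralizer_singleton_iff.1 (hirr x hn)
    rw [← h]
    first
      | (rw [this]; group)
      | (rw [← this]; group)
  set A := {c : ConjClasses P // ∃ y : P, ConjClasses.mk y = c ∧ y * y = 1}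
  have hA := card_inverting hreal
  rw [Nat.card_congr pairEquiv] at hA
  -- Cauchy-Schwarz over the image of squaring
  let S : Finset P := Finset.univ.image (fun g : P => g ^ 2)
  let r : P → ℕ := fun t => (Finset.univ.filter (fun g : P => g ^ 2 = t)).card
  have hsum : ∑ t ∈ S, r t = Fintype.card P :=
    (Finset.card_eq_sum_card_image (fun g : P => g ^ 2) Finset.univ).symm
  have hsq : ∑ t ∈ S, r t ^ 2 = Nat.card {z : P × P // z.1 ^ 2 = z.2 ^ 2} := by
    rw [Nat.card_eq_fintype_card, Fintype.card_subtype]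
    rw [Finset.card_eq_sum_card_fiberwise
      (s := Finset.univ.filter (fun z : P × P => z.1 ^ 2 = z.2 ^ 2)) (f := fun z => z.1 ^ 2) (t := S)]
    · refine Finset.sum_congr rfl fun t _ => ?_
      rw [pow_two, ← Finset.card_product]
      congr 1
      ext z
      simp only [Finset.mem_product, Finset.mem_filter, Finset.mem_univ, true_and]
      constructor
      · rintro ⟨a, b⟩; exact ⟨a.trans b.symm, a⟩
      · rintro ⟨a, b⟩; exact ⟨b, a.symm.trans b⟩
    · intro z _; exact Finset.mem_image_of_mem _ (Finset.mem_univ _)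
  have hCS : (∑ t ∈ S, r t) ^ 2 ≤ S.card * ∑ t ∈ S, r t ^ 2 := sq_sum_le_card_mul_sum_sq
  rw [hsum, hsq, hA] at hCS
  have hS : S.card ≤ Nat.card (frattini P) := by
    rw [← Nat.card_eq_finsetCard]
    refine Nat.card_le_card_of_injective (fun t => ⟨t.1, ?_⟩) ?_
    · obtain ⟨g, -, hg⟩ := Finset.mem_image.1 t.2
      rw [← hg, pow_two]; exact sq_mem_frattini hP g
    · intro a b h; exact Subtype.ext (by simpa using h)
  have hbound : Nat.card (P ⧸ frattini P) ≤ Nat.card A := by
    have hP' := Subgroup.card_eq_card_quotient_mul_card_subgroup (frattini P)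
    rw [Nat.card_eq_fintype_card] at hP'
    have hpos : 0 < Fintype.card P := Fintype.card_pos
    have : Fintype.card P * Fintype.card P ≤ Nat.card (frattini P) * (Nat.card A * Fintype.card P) := by
      calc _ = Fintype.card P ^ 2 := (pow_two _).symm
        _ ≤ S.card * (Nat.card A * Fintype.card P) := by simpa [Nat.card_eq_fintype_card] using hCS
        _ ≤ _ := Nat.mul_le_mul_right _ hS
    rw [← mul_assoc] at this
    have h2 := Nat.le_of_mul_le_mul_right this hpos
    rw [hP', mul_comm (Nat.card (P ⧸ frattini P))] at h2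
    exact Nat.le_of_mul_le_mul_left h2 Nat.card_pos
  -- elements with y * y = 1 are 1 or involutions
  have hinv : ∀ y : P, y * y = 1 → y ≠ 1 → orderOf y = 2 := fun y h h1 => by
    exact orderOf_eq_prime (by rw [pow_two]; exact h) h1
  constructor
  · refine hbound.trans ?_
    let B := {c : ConjClasses P // ∃ y : P, ConjClasses.mk y = c ∧ orderOf y = 2}
    have : Nat.card A ≤ Nat.card (Option B) := by
      refine Nat.card_le_card_of_injective (fun c => if h : c.1 = ConjClasses.mk 1 then none else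
        some ⟨c.1, by
          obtain ⟨y, hy, hy2⟩ := c.2
          exact ⟨y, hy, hinv y hy2 (fun e => h (by rw [← hy, e]))⟩⟩) ?_
      intro a b h
      dsimp only at h
      split_ifs at h with ha hb
      · exact Subtype.ext (ha.trans hb.symm)
      · simp only [Option.some.injEq] at h
        exact Subtype.ext (congrArg Subtype.val h :)
    rwa [Finite.card_option] at this
  · refine hbound.trans ?_
    have hch : ∀ c : A, ∃ y : Subgroup.closure {y : P | orderOf y = 2}, ConjClasses.mk (y : P) = c.1 := by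
      rintro ⟨c, y, hy, hy2⟩
      refine ⟨⟨y, ?_⟩, hy⟩
      by_cases h1 : y = 1
      · rw [h1]; exact one_mem _
      · exact Subgroup.subset_closure (hinv y hy2 h1)
    choose w hw using hch
    exact Nat.card_le_card_of_injective w fun a b h => Subtype.ext (by rw [← hw a, ← hw b, h])

end Cfsg.Agent.S4029
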