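import Mathlib
import Cfsg.Statements.S4032
import Cfsg.Agent.H75.Basic

set_option autoImplicit false
open Cfsg

namespace Cfsg.Agent.S4032

open Subgroup
open scoped Pointwise

theorem result {G : Type*} [Group G] [Finite G] (π : Set ℕ)
    (hirr : ∀ x : G, (∀ r : ℕ, r.Prime → r ∣ orderOf x → r ∈ π) →
      Subgroup.normalizer ((Subgroup.zpowers x : Subgroup G) : Set G) ≤ Subgroup.centralizer {x})
    (N : Subgroup G) [N.Normal] (hN : ∀ r : ℕ, r.Prime → r ∣ Nat.card N → r ∉ π) :
    ∀ y : G ⧸ N, (∀ r : ℕ, r.Prime → r ∣ orderOf y → r ∈ π) →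
      Subgroup.normalizer ((Subgroup.zpowers y : Subgroup (G ⧸ N)) : Set (G ⧸ N)) ≤ Subgroup.centralizer {y} := by
  intro y hy gb hgb
  obtain ⟨g, rfl⟩ := QuotientGroup.mk'_surjective N gb
  set φ := QuotientGroup.mk' N with hφ
  -- enough: the image of g commutes with every prime power part of y
  suffices h : y ∈ centralizer ({φ g} : Set (G ⧸ N)) by
    rw [mem_centralizer_singleton_iff] at h ⊢
    exact h.symm
  refine H75.mem_of_primePower_parts _ y fun z hz => ?_
  rintro ⟨p, k, hp, hk⟩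
  haveI : Fact p.Prime := ⟨hp⟩
  rw [mem_centralizer_singleton_iff]
  by_cases hz1 : z = 1
  · simp [hz1]
  have hzy : orderOf z ∣ orderOf y := by
    have := orderOf_dvd_natCard (zpowers y) hz
    rwa [Nat.card_zpowers] at this
  have hk0 : k ≠ 0 := by
    rintro rfl
    rw [pow_zero, orderOf_eq_one_iff] at hk
    exact hz1 hk
  have hpπ : p ∈ π := hy p hp ((dvd_pow_self p hk0).trans (hk ▸ hzy))
  have hpN : ¬ p ∣ Nat.card N := fun h => hN p hp h hpπ
  -- a p-element lifting z
  obtain ⟨w, hw⟩ := QuotientGroup.mk'_surjective N z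
  obtain ⟨x, v, -, hv, hxv, ⟨j, hj⟩, hcop, -, -⟩ := H75.exists_split w hp
  have hφv : φ x = z := by
    have h1 : orderOf (φ v) ∣ orderOf v := orderOf_map_dvd φ v
    have hv0 : φ v = 1 := by
      rw [← orderOf_eq_one_iff]
      have h2 : φ v ∈ zpowers z := by
        -- v is a power of w
        obtain ⟨i, hi⟩ := mem_zpowers_iff.1 hv
        refine ⟨i, ?_⟩
        show z ^ i = φ v
        rw [← hw, ← map_zpow, hi]
      have h3 : orderOf (φ v) ∣ p ^ k := by
        have := orderOf_dvd_natCard (zpowers z) h2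
        rwa [Nat.card_zpowers, hk] at this
      exact Nat.eq_one_of_dvd_coprimes (Nat.Coprime.pow_left k hcop.symm)
        h3 h1
    rw [← hw, ← hxv, map_mul, hv0, mul_one]
  have hxπ : ∀ r : ℕ, r.Prime → r ∣ orderOf x → r ∈ π := by
    intro r hr hd
    rw [hj] at hd
    rwa [(Nat.prime_dvd_prime_iff_eq hr hp).1 (hr.dvd_of_dvd_pow hd)]
  -- the conjugate of x by g lies in zpowers x · N
  set T := N ⊔ zpowers x with hT
  have hzm : φ g * z * (φ g)⁻¹ ∈ zpowers z := by
    obtain ⟨i, hi⟩ := mem_zpowers_iff.1 hz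
    have hyg : φ g * y * (φ g)⁻¹ ∈ zpowers y :=
      ((Subgroup.mem_normalizer_iff.1 hgb) y).1 (mem_zpowers y)
    obtain ⟨m, hm⟩ := mem_zpowers_iff.1 hyg
    refine ⟨m, ?_⟩
    show z ^ m = _
    rw [← hi, ← zpow_mul, mul_comm, zpow_mul, hm, conj_zpow]
  have hxT : g * x * g⁻¹ ∈ T := by
    obtain ⟨i, hi⟩ := mem_zpowers_iff.1 hzm
    have : (x ^ i)⁻¹ * (g * x * g⁻¹) ∈ N := by
      rw [← QuotientGroup.ker_mk' N, MonoidHom.mem_ker, map_mul, map_inv, map_zpow, map_mul,
        map_mul, map_inv]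
      rw [show (QuotientGroup.mk' N) x = z from hφv, hi]
      exact inv_mul_cancel _
    have h2 : x ^ i * ((x ^ i)⁻¹ * (g * x * g⁻¹)) ∈ T :=
      mul_mem (mem_sup_right (zpow_mem (mem_zpowers x) i)) (mem_sup_left this)
    rwa [mul_inv_cancel_left] at h2
  have hxx : x ∈ T := mem_sup_right (mem_zpowers x)
  -- both generate Sylow subgroups of T
  have hsyl : ∀ a ∈ T, orderOf a = p ^ j → ∃ P : Sylow p T, (P : Subgroup T) = (zpowers a).subgroupOf T := by
    intro a ha hao
    have hcard : Nat.card T = Nat.card N * p ^ j := by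
      have hd : Disjoint N (zpowers x) := by
        rw [disjoint_iff, ← Subgroup.card_eq_one]
        refine Nat.eq_one_of_dvd_coprimes (a := Nat.card N) (b := p ^ j) ?_
          (Subgroup.card_dvd_of_le inf_le_left) ?_
        · exact Nat.Coprime.pow_right j ((Nat.Prime.coprime_iff_not_dvd hp).2 hpN).symm
        · rw [← hj, ← Nat.card_zpowers]; exact Subgroup.card_dvd_of_le inf_le_right
      have h1 : N.relIndex (N ⊔ zpowers x) = N.relIndex (zpowers x) := by
        rw [sup_comm, relIndex_sup_right]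
      have h2 := (relIndex_mul_relIndex ⊥ N T bot_le le_sup_left)
      have h3 : N.relIndex (zpowers x) = p ^ j := by
        rw [← inf_relIndex_right, disjoint_iff.1 hd, relIndex_bot_left, Nat.card_zpowers, hj]
      rw [relIndex_bot_left, relIndex_bot_left, hT, h1, h3] at h2
      exact h2.symm
    refine ⟨Sylow.ofCard ((zpowers a).subgroupOf T) ?_, rfl⟩
    rw [Nat.card_congr (subgroupOfEquivOfLe (zpowers_le.2 ha)).toEquiv, Nat.card_zpowers, hao, hcard,
      Nat.factorization_mul Nat.card_pos.ne' (pow_ne_zero _ hp.ne_zero), Finsupp.add_apply,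
      Nat.factorization_eq_zero_of_not_dvd hpN, zero_add, hp.factorization_pow, Finsupp.single_eq_same]
  obtain ⟨P, hP⟩ := hsyl x hxx hj
  obtain ⟨Q, hQ⟩ := hsyl _ hxT (((MulAut.conj g).orderOf_eq x).trans hj)
  obtain ⟨t, ht⟩ := MulAction.exists_smul_eq T P Q
  -- t⁻¹ g normalises zpowers x
  have hc : (t : G)⁻¹ * g ∈ centralizer ({x} : Set G) := by
    refine hirr x hxπ ?_
    have hmap : (zpowers x).map (MulAut.conj ((t : G)⁻¹ * g)).toMonoidHom = zpowers x := by
      have h1 : (⟨g * x * g⁻¹, hxT⟩ : T) ∈ (Q : Subgroup T) := by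
        rw [hQ]; exact mem_zpowers _
      rw [← ht, Sylow.coe_subgroup_smul, Subgroup.mem_pointwise_smul_iff_inv_smul_mem, hP,
        mem_subgroupOf] at h1
      refine eq_of_le_of_card_ge ?_
        (card_map_of_injective (f := (MulAut.conj ((t : G)⁻¹ * g)).toMonoidHom)
          (MulAut.conj ((t : G)⁻¹ * g)).injective).ge
      rw [MonoidHom.map_zpowers, zpowers_le]
      simpa [MulAut.conj_apply, mul_assoc] using h1
    rw [Subgroup.mem_normalizer_iff]
    intro a
    constructor
    · intro ha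
      rw [← hmap]
      exact ⟨a, ha, by simp [mul_assoc]⟩
    · intro ha
      rw [← hmap] at ha
      obtain ⟨b, hb, hba⟩ := ha
      simp only [MulEquiv.coe_toMonoidHom, MulAut.conj_apply] at hba
      rwa [← mul_left_cancel (mul_right_cancel hba)]
  rw [mem_centralizer_singleton_iff] at hc
  have h5 := congrArg φ hc
  rw [map_mul, map_mul, map_mul, map_inv, hφv] at h5
  -- the image of t commutes with z
  obtain ⟨n, hn, s, hs, hns⟩ : ∃ n ∈ N, ∃ s ∈ zpowers x, n * s = (t : G) := by
    have ht' : (t : G) ∈ ((N ⊔ zpowers x : Subgroup G) : Set G) := t.2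
    rw [normal_mul] at ht'
    exact ht'
  obtain ⟨i, hi⟩ := mem_zpowers_iff.1 hs
  have htz : Commute (φ (t : G)) z := by
    rw [← hns, map_mul, show φ n = 1 from (QuotientGroup.eq_one_iff n).2 hn, one_mul, ← hi, map_zpow, hφv]
    exact (Commute.refl z).zpow_left i
  have hgz : Commute (φ (t : G) * ((φ (t : G))⁻¹ * φ g)) z := htz.mul_left h5
  rw [mul_inv_cancel_left] at hgz
  exact hgz.eq.symm

end Cfsg.Agent.S4032
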