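import Cfsg.Statements.S4035
import Cfsg.Agent.H75.Basic
import Cfsg.Agent.H75.Cover

set_option autoImplicit false
open Cfsg

namespace Cfsg.Agent.S4035

open Subgroup
open scoped Pointwise

theorem result {G : Type*} [Group G] [Finite G] {p : ℕ} [Fact p.Prime]
    (h : ∀ x : G, (orderOf x).Coprime p → ¬ p ∣ (ConjClasses.mk x).carrier.ncard) (P : Sylow p G) :
    (P : Subgroup G).Normal ∧ ∃ H : Subgroup G, H.Normal ∧ ¬ p ∣ Nat.card H ∧
      (P : Subgroup G) ⊓ H = ⊥ ∧ (P : Subgroup G) ⊔ H = ⊤ := by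
  have hp : p.Prime := Fact.out
  -- every p-regular element centralises a Sylow p-subgroup
  have hs : ∀ s : G, (orderOf s).Coprime p →
      ∃ Q : Sylow p G, (Q : Subgroup G) ≤ centralizer ({s} : Set G) := by
    intro s hs
    have := h s hs
    rw [H75.ncard_carrier] at this
    exact H75.exists_sylow_le this
  have hP : (P : Subgroup G).Normal := by
    rw [← normalizer_eq_top_iff]
    refine H75.eq_top_of_conj_cover _ fun g => ?_
    obtain ⟨u, v, hu0, hv0, huv, ⟨k, hk⟩, hv, -, -⟩ := H75.exists_split g hp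
    -- u commutes with v
    obtain ⟨Q, hQ⟩ := hs v hv
    have hcomm : u ∈ centralizer ({v} : Set G) := by
      rw [mem_centralizer_singleton_iff]
      have h1 : Commute u v := by
        obtain ⟨i, rfl⟩ := (mem_zpowers_iff).1 hu0
        obtain ⟨j, rfl⟩ := (mem_zpowers_iff).1 hv0
        exact Commute.zpow_zpow_self g i j
      first
        | exact h1.eq
        | exact h1.symm.eq
    -- inside the centraliser of v, u lies in a conjugate of Q
    let C := centralizer ({v} : Set G)
    have hpg : IsPGroup p (zpowers (⟨u, hcomm⟩ : C)) :=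
      IsPGroup.of_card (n := k) (by rw [Nat.card_zpowers, Subgroup.orderOf_mk, hk])
    obtain ⟨R, hR⟩ := hpg.exists_le_sylow
    obtain ⟨c, hc⟩ := MulAction.exists_smul_eq C (Q.subtype hQ) R
    have hu : (c : G)⁻¹ * u * c ∈ (Q : Subgroup G) := by
      have hm : (⟨u, hcomm⟩ : C) ∈ (R : Subgroup C) := hR (mem_zpowers _)
      rw [← hc, Sylow.coe_subgroup_smul, Subgroup.mem_pointwise_smul_iff_inv_smul_mem] at hm
      simpa [Sylow.coe_subtype, Subgroup.mem_subgroupOf, MulAut.conj_apply, mul_assoc] using hm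
    obtain ⟨a, ha⟩ := MulAction.exists_smul_eq G Q P
    refine ⟨a * (c : G)⁻¹, ?_⟩
    have hmap : ∀ y ∈ (Q : Subgroup G), a * y * a⁻¹ ∈ (P : Subgroup G) := fun y hy => by
      rw [← ha]
      exact Subgroup.smul_mem_pointwise_smul y (MulAut.conj a) _ hy
    have hcv : (c : G)⁻¹ * v * c = v := by
      have := mem_centralizer_singleton_iff.1 c.2
      calc (c : G)⁻¹ * v * c = (c : G)⁻¹ * (v * c) := by rw [mul_assoc]
        _ = (c : G)⁻¹ * (c * v) := by rw [this]
        _ = v := by group
    have hav : a * v * a⁻¹ ∈ centralizer ((P : Subgroup G) : Set G) := by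
      rw [mem_centralizer_iff]
      intro y hy
      have hy' : y ∈ MulAut.conj a • (Q : Subgroup G) := by
        rw [← ha] at hy
        exact hy
      obtain ⟨z, hz, rfl⟩ : ∃ z ∈ (Q : Subgroup G), a * z * a⁻¹ = y := by
        rw [Subgroup.mem_pointwise_smul_iff_inv_smul_mem] at hy'
        exact ⟨_, hy', by simp [mul_assoc]⟩
      have := mem_centralizer_singleton_iff.1 (hQ hz)
      calc a * z * a⁻¹ * (a * v * a⁻¹) = a * (z * v) * a⁻¹ := by group
        _ = a * (v * z) * a⁻¹ := by rw [this]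
        _ = a * v * a⁻¹ * (a * z * a⁻¹) := by group
    have : a * (c : G)⁻¹ * g * (a * (c : G)⁻¹)⁻¹ = (a * ((c : G)⁻¹ * u * c) * a⁻¹) * (a * v * a⁻¹) := by
      rw [← huv]
      calc a * (c : G)⁻¹ * (u * v) * (a * (c : G)⁻¹)⁻¹
          = (a * ((c : G)⁻¹ * u * c) * a⁻¹) * (a * ((c : G)⁻¹ * v * c) * a⁻¹) := by group
        _ = _ := by rw [hcv]
    rw [this]
    exact mul_mem (le_normalizer (hmap _ hu)) (centralizer_le_normalizer _ hav)
  refine ⟨hP, ?_⟩
  haveI := hP
  obtain ⟨H, hH⟩ := exists_right_complement'_of_coprime (N := (P : Subgroup G))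
    P.card_coprime_index
  have hcard : (Nat.card H).Coprime p := by
    have := P.not_dvd_index
    rw [hH.symm.index_eq_card] at this
    exact ((Nat.Prime.coprime_iff_not_dvd hp).2 this).symm
  -- H centralises P
  have hHP : H ≤ centralizer ((P : Subgroup G) : Set G) := by
    intro x hx
    obtain ⟨Q, hQ⟩ := hs x (Nat.Coprime.coprime_dvd_left (orderOf_dvd_natCard H hx) hcard)
    haveI : Unique (Sylow p G) := Sylow.unique_of_normal P hP
    rw [Subsingleton.elim Q P] at hQ
    rw [mem_centralizer_iff]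
    intro y hy
    exact mem_centralizer_singleton_iff.1 (hQ hy)
  refine ⟨H, ?_, ?_, hH.disjoint.eq_bot, hH.sup_eq_top⟩
  · rw [← normalizer_eq_top_iff, eq_top_iff, ← hH.sup_eq_top, sup_le_iff]
    refine ⟨?_, le_normalizer⟩
    intro y hy
    rw [mem_normalizer_iff]
    intro z
    constructor
    · intro hz
      rwa [mem_centralizer_iff.1 (hHP hz) y hy, mul_inv_cancel_right]
    · intro hz
      have := mem_centralizer_iff.1 (hHP hz) y hy
      have hzz : z = y * z * y⁻¹ := by
        calc z = y⁻¹ * (y * z * y⁻¹ * y) := by group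
          _ = y⁻¹ * (y * (y * z * y⁻¹)) := by rw [← this]
          _ = y * z * y⁻¹ := by group
      rwa [hzz]
  · exact (Nat.Prime.coprime_iff_not_dvd hp).1 hcard.symm

end Cfsg.Agent.S4035
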