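import Mathlib
import Cfsg.Statements.S4036

set_option autoImplicit false
open Cfsg

namespace Cfsg.Agent.S4036

open Subgroup

theorem result {P : Type*} [CommGroup P] [Finite P] {p : ℕ}
    [Fact p.Prime] (hP : IsPGroup p P) (K : Subgroup (MulAut P)) (hK : p ∣ Nat.card K)
    (hfix : ∀ x y : MulAut P, x ∈ K → y ∈ K → x ≠ 1 → y ≠ 1 → ∀ v : P, x v = v ↔ y v = v) :
    ∀ N : Subgroup ↥K, N.Normal → ¬ p ∣ Nat.card N → N = ⊥ := by
  intro N hN hpN
  classical
  have hp : p.Prime := Fact.out
  haveI : Finite (MulAut P) :=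
    Finite.of_injective (fun e : MulAut P => (e : P → P)) DFunLike.coe_injective
  have : Fintype N := Fintype.ofFinite N
  obtain ⟨u, hu⟩ := exists_prime_orderOf_dvd_card' p hK
  -- the norm map
  let e : P →* P :=
    { toFun := fun v => ∏ n : N, ((n : K) : MulAut P) v
      map_one' := by simp
      map_mul' := fun a b => by simp [Finset.prod_mul_distrib] }
  have he : ∀ (m : N) (v : P), ((m : K) : MulAut P) (e v) = e v := by
    intro m v
    show ((m : K) : MulAut P) (∏ n : N, ((n : K) : MulAut P) v) = ∏ n : N, ((n : K) : MulAut P) v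
    rw [map_prod]
    exact Fintype.prod_equiv (Equiv.mulLeft m) _ _ (fun n => rfl)
  -- the kernel is invariant under u
  have hker : ∀ v, e v = 1 → e ((u : MulAut P) v) = 1 := by
    intro v hv
    show (∏ n : N, ((n : K) : MulAut P) ((u : MulAut P) v)) = 1
    let c : N ≃ N :=
      { toFun := fun n => ⟨u⁻¹ * n * u, hN.conj_mem' _ n.2 u⟩
        invFun := fun n => ⟨u * n * u⁻¹, hN.conj_mem _ n.2 u⟩
        left_inv := fun n => Subtype.ext (by simp [mul_assoc])
        right_inv := fun n => Subtype.ext (by simp [mul_assoc]) }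
    have : ∀ n : N, ((n : K) : MulAut P) ((u : MulAut P) v) =
        (u : MulAut P) (((c n : K) : MulAut P) v) := by
      intro n
      show (((n : K) : MulAut P) * (u : MulAut P)) v =
        ((u : MulAut P) * (((c n : N) : K) : MulAut P)) v
      rw [← Subgroup.coe_mul, ← Subgroup.coe_mul]
      congr 2
      simp [c, mul_assoc]
    rw [Finset.prod_congr rfl fun n _ => this n, ← map_prod]
    rw [Fintype.prod_equiv c (fun n => ((c n : K) : MulAut P) v) (fun n => ((n : K) : MulAut P) v)
      fun n => rfl]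
    show (u : MulAut P) (e v) = 1
    rw [hv, map_one]
  by_contra hne
  obtain ⟨m, hm, hm1⟩ := (N.bot_or_exists_ne_one).resolve_left hne
  have hm1' : (m : MulAut P) ≠ 1 := fun h => hm1 (Subtype.ext h)
  have hu1 : (u : MulAut P) ≠ 1 := fun h => by
    rw [show u = 1 from Subtype.ext h, orderOf_one] at hu
    exact hp.one_lt.ne hu
  -- the kernel is trivial
  have hbot : e.ker = ⊥ := by
    set E := e.ker with hE
    let f : E → E := fun v => ⟨(u : MulAut P) v.1, hker v.1 v.2⟩
    -- the cyclic group generated by u acts on E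
    let S : Subgroup (MulAut P) :=
      { carrier := {a | (∀ v, e v = 1 → e (a v) = 1) ∧ (∀ v, e v = 1 → e (a⁻¹ v) = 1)}
        one_mem' := ⟨fun v hv => by simpa using hv, fun v hv => by simpa using hv⟩
        mul_mem' := fun {a b} ha hb => ⟨fun v hv => ha.1 _ (hb.1 v hv),
          fun v hv => by rw [mul_inv_rev]; exact hb.2 _ (ha.2 v hv)⟩
        inv_mem' := fun {a} ha => ⟨ha.2, by rw [inv_inv]; exact ha.1⟩ }
    have hpow : ∀ (k : ℕ) v, e v = 1 → e (((u : MulAut P) ^ k) v) = 1 := by
      intro k
      induction k with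
      | zero => intro v hv; simpa using hv
      | succ k ih => intro v hv; rw [pow_succ]; exact ih _ (hker v hv)
    have huS : zpowers (u : MulAut P) ≤ S := by
      rw [zpowers_le]
      refine ⟨hker, ?_⟩
      have hpp : (u : MulAut P) ^ p = 1 := by
        rw [← Subgroup.coe_pow, ← hu, pow_orderOf_eq_one]; rfl
      have : (u : MulAut P)⁻¹ = (u : MulAut P) ^ (p - 1) := by
        rw [inv_eq_iff_mul_eq_one, ← pow_succ', Nat.sub_add_cancel hp.one_le, hpp]
      intro v hv
      rw [this]
      exact hpow _ v hv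
    letI : MulAction (zpowers (u : MulAut P)) E :=
      { smul := fun a v => ⟨(a : MulAut P) v.1, (huS a.2).1 v.1 v.2⟩
        one_smul := fun v => Subtype.ext rfl
        mul_smul := fun a b v => Subtype.ext rfl }
    have hUp : IsPGroup p (zpowers (u : MulAut P)) := by
      refine IsPGroup.of_card (n := 1) ?_
      rw [Nat.card_zpowers, Subgroup.orderOf_coe, hu, pow_one]
    by_contra hEne
    haveI : Nontrivial E := (Subgroup.nontrivial_iff_ne_bot E).2 hEne
    have hd : p ∣ Nat.card E := by
      obtain ⟨k, hk⟩ := IsPGroup.iff_card.1 (hP.to_subgroup E)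
      rw [hk]
      refine dvd_pow_self p fun h => ?_
      rw [h, pow_zero] at hk
      exact absurd hk (Finite.one_lt_card (α := E)).ne'
    have hone : (1 : E) ∈ MulAction.fixedPoints (zpowers (u : MulAut P)) E :=
      fun a => Subtype.ext (map_one ((a : MulAut P)))
    obtain ⟨w, hw, hw1⟩ :=
      hUp.exists_fixed_point_of_prime_dvd_card_of_fixed_point E hd hone
    have huw : (u : MulAut P) w.1 = w.1 :=
      congrArg Subtype.val (hw ⟨(u : MulAut P), mem_zpowers _⟩)
    have hall : ∀ n : N, ((n : K) : MulAut P) w.1 = w.1 := by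
      intro n
      by_cases hn : ((n : K) : MulAut P) = 1
      · rw [hn]; rfl
      · exact (hfix _ _ u.2 (n : K).2 hu1 hn w.1).1 huw
    have h1 : w.1 ^ Nat.card N = 1 := by
      have h2 : e w.1 = 1 := w.2
      change (∏ n : N, ((n : K) : MulAut P) w.1) = 1 at h2
      rw [Finset.prod_congr rfl fun n _ => hall n, Finset.prod_const, Finset.card_univ,
        ← Nat.card_eq_fintype_card] at h2
      exact h2
    obtain ⟨k, hk⟩ := hP w.1
    have h3 : orderOf w.1 ∣ 1 := by
      rw [← (Nat.Coprime.pow_right k ((Nat.Prime.coprime_iff_not_dvd hp).2 hpN).symm).gcd_eq_one]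
      exact Nat.dvd_gcd (orderOf_dvd_of_pow_eq_one h1) (orderOf_dvd_of_pow_eq_one hk)
    exact hw1 (Subtype.ext (orderOf_eq_one_iff.1 (Nat.dvd_one.1 h3))).symm
  have hinj : Function.Injective e := (MonoidHom.ker_eq_bot_iff e).1 hbot
  refine hm1' (MulEquiv.ext fun v => ?_)
  obtain ⟨w, rfl⟩ := (Finite.injective_iff_surjective.1 hinj) v
  exact he ⟨m, hm⟩ w

end Cfsg.Agent.S4036
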