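import Cfsg.Statements.S4039
import Cfsg.Agent.Thompson.NormalPComplement
import Cfsg.Agent.Cores.Residual
import Cfsg.Agent.Fusion.PComplement
import Cfsg.Agent.Fusion.Tate
import Cfsg.Agent.Coprime.Action
import Cfsg.Agent.FusionSys.Alperin
import Cfsg.Agent.FusionSys.Group

set_option autoImplicit false
open Cfsg

universe u

namespace Cfsg.Agent.S4039

open Cfsg.Agent

/-- If `M` is nilpotent of class at most two, contains the Sylow subgroup `S`, and is the normalizer of each
of its nontrivial normal subgroups, then `S` has a normal complement. -/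
theorem complement_of_class_two {G : Type u} [Group G] [Finite G] {p : ℕ} [Fact p.Prime]
    (M : Subgroup G) [Group.IsNilpotent M] (hcl : Group.nilpotencyClass M ≤ 2)
    (hnorm : ∀ X : Subgroup G, X ≠ ⊥ → X ≤ M → M ≤ Subgroup.normalizer (X : Set G) →
      Subgroup.normalizer (X : Set G) = M)
    (S : Sylow p G) (hSM : (S : Subgroup G) ≤ M) : Cfsg.HasNormalPComplement p G := by
  by_cases hS1 : (S : Subgroup G) = ⊥
  · refine Fusion.hasNormalPComplement_of_self_controls S fun x hx g hg => ?_
    rw [hS1, Subgroup.mem_bot] at hx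
    exact ⟨1, one_mem _, by simp [hx]⟩
  have hpS : IsPGroup p (S : Subgroup G) := S.isPGroup'
  -- commutators in `M` are central in `M`
  have hcomm : ∀ a b : M, a * b * a⁻¹ * b⁻¹ ∈ Subgroup.center M := by
    intro a b
    have ha : a ∈ Subgroup.upperCentralSeries M 2 := by
      rw [Subgroup.upperCentralSeries_eq_top_iff_nilpotencyClass_le.mpr hcl]; trivial
    rw [← Subgroup.upperCentralSeries_one]
    exact (Subgroup.mem_upperCentralSeries_succ_iff.mp ha) b
  haveI : ((S : Subgroup G).subgroupOf M).Normal :=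
    (inferInstance : ((Sylow.subtype S hSM : Sylow p M) : Subgroup M).Normal)
  have hle : groupFusionSystem (S : Subgroup G) ≤ innerFusionSystem (S : Subgroup G) := by
    refine FusionSys.le_of_autGroup_centricRadical hpS (FusionSys.isSaturated_group S)
      fun R _ hcen _ α hα => ?_
    obtain ⟨hRS, hC⟩ := hcen
    have hC := hC R (FusionSys.isConj_refl _ hRS)
    have hRne : R ≠ ⊥ := fun h => hS1 (le_bot_iff.mp fun x hx => h ▸ hC (Subgroup.mem_inf.mpr ⟨hx, by
      rw [h, Subgroup.mem_centralizer_iff]; intro y hy; simp [Subgroup.mem_bot.mp hy]⟩))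
    have hSR : (S : Subgroup G) ≤ Subgroup.normalizer (R : Set G) := by
      have key : ∀ a ∈ (S : Subgroup G), ∀ r ∈ R, a * r * a⁻¹ ∈ R := by
        intro a ha r hr
        have hc : a * r * a⁻¹ * r⁻¹ ∈ R := by
          refine hC (Subgroup.mem_inf.mpr ⟨mul_mem (mul_mem (mul_mem ha (hRS hr)) (inv_mem ha)) (inv_mem (hRS hr)),
            Subgroup.mem_centralizer_iff.mpr fun y hy => ?_⟩)
          exact congrArg Subtype.val (Subgroup.mem_center_iff.mp
            (hcomm ⟨a, hSM ha⟩ ⟨r, hSM (hRS hr)⟩) ⟨y, hSM (hRS hy)⟩)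
        simpa using mul_mem hc hr
      intro a ha
      rw [Subgroup.mem_normalizer_iff]
      refine fun r => ⟨key a ha r, fun hr => ?_⟩
      simpa [mul_assoc] using key a⁻¹ (inv_mem ha) _ hr
    have hMS : M ≤ (S : Subgroup G) ⊔ Subgroup.centralizer (R : Set G) := by
      set K := ((S : Subgroup G) ⊔ Subgroup.centralizer (R : Set G)).subgroupOf M with hK
      rw [← Subgroup.subgroupOf_eq_top, ← hK, ← Subgroup.index_eq_one, Nat.eq_one_iff_not_exists_prime_dvd]
      intro q hq hdvd
      haveI : Fact q.Prime := ⟨hq⟩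
      obtain ⟨Q⟩ : Nonempty (Sylow q M) := inferInstance
      refine Q.not_dvd_index (hdvd.trans (Subgroup.index_dvd_of_le ?_))
      intro x hx
      by_cases hqp : q = p
      · subst hqp
        letI : Unique (Sylow q M) := Sylow.unique_of_normal (Sylow.subtype S hSM) inferInstance
        have hxS : x ∈ (Sylow.subtype S hSM : Subgroup M) := Subsingleton.elim Q (Sylow.subtype S hSM) ▸ hx
        exact Subgroup.mem_sup_left (hxS : (x : G) ∈ (S : Subgroup G))
      · refine Subgroup.mem_sup_right (Subgroup.mem_centralizer_iff.mpr fun y hy => ?_)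
        obtain ⟨k, hk⟩ := IsPGroup.iff_orderOf.mp Q.isPGroup' ⟨x, hx⟩
        rw [Subgroup.orderOf_mk] at hk
        exact (congrArg Subtype.val (Fusion.commute_of_hasNormalPComplement (p := p)
          Fusion.hasNormalPComplement_of_isNilpotent (Q := (S : Subgroup G).subgroupOf M)
          hpS.comap_subtype (g := x) (x := ⟨y, hSM (hRS hy)⟩)
          (hk ▸ ((Nat.coprime_primes hq Fact.out).mpr hqp).pow_left k) (hRS hy))).symm
    have hMR : M ≤ Subgroup.normalizer (R : Set G) :=
      hMS.trans (sup_le hSR (FusionSys.centralizer_le_normalizer' R))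
    rw [FusionSys.autGroup_group hRS, FusionSys.mem_autInducedBy] at hα
    obtain ⟨g, -, hg, rfl⟩ := hα
    have hgM : g ∈ (S : Subgroup G) ⊔ Subgroup.centralizer (R : Set G) :=
      hMS (hnorm R hRne (hRS.trans hSM) hMR ▸ hg)
    have hSC : (S : Subgroup G) ≤ Subgroup.normalizer (Subgroup.centralizer (R : Set G) : Set G) :=
      hSR.trans ((Subgroup.normal_subgroupOf_iff_le_normalizer
        (FusionSys.centralizer_le_normalizer' R)).mp inferInstance)
    rw [← SetLike.mem_coe, Subgroup.coe_mul_of_left_le_normalizer_right _ _ hSC] at hgM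
    obtain ⟨t, ht, c, hc, rfl⟩ := Set.mem_mul.mp hgM
    rw [FusionSys.mem_autGroup_iff hRS, FusionSys.isMap_inner_iff]
    refine ⟨hRS, t, ht, fun y hy => ?_⟩
    rw [FusionSys.autMap_conjAut hg hy]
    show (t * c) * y * (t * c)⁻¹ = t * y * t⁻¹
    have h1 : c * y * c⁻¹ = y := by
      rw [← Subgroup.mem_centralizer_iff.mp hc y hy, mul_inv_cancel_right]
    calc (t * c) * y * (t * c)⁻¹ = t * (c * y * c⁻¹) * t⁻¹ := by group
      _ = t * y * t⁻¹ := by rw [h1]
  refine Fusion.hasNormalPComplement_of_self_controls S fun x hx g hg => ?_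
  have hmap : FusionSys.IsMap (groupFusionSystem (S : Subgroup G)) (Subgroup.zpowers x)
      (fun y => g * y * g⁻¹) := by
    refine FusionSys.isMap_group_iff.mpr ⟨Subgroup.zpowers_le.mpr hx, g, fun y hy => ⟨?_, rfl⟩⟩
    obtain ⟨k, rfl⟩ := Subgroup.mem_zpowers_iff.mp hy
    rw [← conj_zpow]
    exact zpow_mem hg k
  obtain ⟨-, t, ht, h⟩ := FusionSys.isMap_inner_iff.mp (FusionSys.le_iff_isMap.mp hle _ _ hmap)
  exact ⟨t, ht, (h x (Subgroup.mem_zpowers x)).symm⟩

theorem aux : ∀ (n : ℕ) (G : Type u) [Group G] [Finite G], Nat.card G = n → ∀ M : Subgroup G,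
    IsCoatom M → Group.IsNilpotent M → Group.nilpotencyClass M ≤ 2 → Group.IsSolvable G := by
  intro n
  induction n using Nat.strong_induction_on with
  | _ n IH =>
  intro G _ _ hcard M hmax hnil hcl
  haveI := hnil
  by_cases hcore : M.normalCore = ⊥
  swap
  · set N := M.normalCore with hN
    have hNM : N ≤ M := Subgroup.normalCore_le M
    haveI : N.Normal := Subgroup.normalCore_normal M
    have hπ : Function.Surjective (QuotientGroup.mk' N) := QuotientGroup.mk'_surjective N
    have hlt : Nat.card (G ⧸ N) < n := by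
      rw [← hcard, ← N.card_mul_index, ← Subgroup.index_eq_card]
      exact lt_mul_of_one_lt_left (Nat.pos_of_ne_zero Subgroup.index_ne_zero_of_finite)
        ((Subgroup.one_lt_card_iff_ne_bot N).mpr hcore)
    have hmax' : IsCoatom (M.map (QuotientGroup.mk' N)) := by
      refine ⟨fun h => hmax.1 ?_, fun b hb => ?_⟩
      · have := congrArg (Subgroup.comap (QuotientGroup.mk' N)) h
        rwa [Subgroup.comap_map_eq_self (by rwa [QuotientGroup.ker_mk']), Subgroup.comap_top] at this
      · have h1 : M < b.comap (QuotientGroup.mk' N) := by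
          have := (Subgroup.comap_lt_comap_of_surjective hπ).mpr hb
          rwa [Subgroup.comap_map_eq_self (by rwa [QuotientGroup.ker_mk'])] at this
        have h2 := congrArg (Subgroup.map (QuotientGroup.mk' N)) (hmax.2 _ h1)
        rwa [Subgroup.map_comap_eq_self_of_surjective hπ, Subgroup.map_top_of_surjective _ hπ] at h2
    have hnil' : Group.IsNilpotent (M.map (QuotientGroup.mk' N)) :=
      Group.nilpotent_of_surjective ((QuotientGroup.mk' N).subgroupMap M)
        ((QuotientGroup.mk' N).subgroupMap_surjective M)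
    have hcl' : Group.nilpotencyClass (M.map (QuotientGroup.mk' N)) ≤ 2 := by
      rw [← Subgroup.upperCentralSeries_eq_top_iff_nilpotencyClass_le, eq_top_iff]
      refine le_trans ?_ (Subgroup.upperCentralSeries.map ((QuotientGroup.mk' N).subgroupMap_surjective M) 2)
      rw [Subgroup.upperCentralSeries_eq_top_iff_nilpotencyClass_le.mpr hcl,
        Subgroup.map_top_of_surjective _ ((QuotientGroup.mk' N).subgroupMap_surjective M)]
    haveI hs : Group.IsSolvable (G ⧸ N) := IH _ hlt _ rfl _ hmax' hnil' hcl'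
    haveI : Group.IsSolvable N :=
      Group.isSolvable_of_isSolvable_injective (f := Subgroup.inclusion hNM)
        (Subgroup.inclusion_injective hNM)
    exact Group.isSolvable_of_ker_le_range N.subtype (QuotientGroup.mk' N)
      (by rw [QuotientGroup.ker_mk', Subgroup.range_subtype])
  by_cases hM : M = ⊥
  · refine Group.isSolvable_of_comm fun a b => ?_
    rcases eq_or_ne a 1 with rfl | ha
    · simp
    have htop : Subgroup.zpowers a = ⊤ := hmax.2 _ (by
      rw [hM]; exact bot_lt_iff_ne_bot.mpr (Subgroup.zpowers_ne_bot.mpr ha))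
    obtain ⟨j, rfl⟩ := Subgroup.mem_zpowers_iff.mp (htop ▸ Subgroup.mem_top b)
    exact (Commute.self_zpow a j).eq
  have hnorm : ∀ X : Subgroup G, X ≠ ⊥ → X ≤ M → M ≤ Subgroup.normalizer (X : Set G) →
      Subgroup.normalizer (X : Set G) = M := by
    intro X hX hXM hle
    rcases eq_or_lt_of_le hle with h | h
    · exact h.symm
    · exfalso
      haveI : X.Normal := Subgroup.normalizer_eq_top_iff.mp (hmax.2 _ h)
      exact hX (le_bot_iff.mp (hcore ▸ Subgroup.normal_le_normalCore.mpr hXM))
  have hcomp : ∀ p ∈ (Nat.card M).primeFactors, Cfsg.HasNormalPComplement p G := by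
    intro p hp
    obtain ⟨hpp, hpd, -⟩ := Nat.mem_primeFactors.mp hp
    haveI : Fact p.Prime := ⟨hpp⟩
    obtain ⟨Q⟩ : Nonempty (Sylow p M) := inferInstance
    set P := (Q : Subgroup M).map M.subtype with hP
    have hPM : P ≤ M := Subgroup.map_subtype_le _
    have hPp : IsPGroup p P := Q.isPGroup'.map _
    have hPne : P ≠ ⊥ := by
      rw [hP, Ne, Subgroup.map_eq_bot_iff_of_injective _ M.subtype_injective]
      exact fun h => Q.ne_bot_of_dvd_card hpd h
    have hMP : M ≤ Subgroup.normalizer (P : Set G) :=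
      (Subgroup.normal_subgroupOf_iff_le_normalizer hPM).mp (by
        rw [hP, Subgroup.subgroupOf, Subgroup.comap_map_eq_self_of_injective M.subtype_injective]
        infer_instance)
    have hNP : Subgroup.normalizer (P : Set G) = M := hnorm P hPne hPM hMP
    obtain ⟨S, hS⟩ := hPp.exists_le_sylow
    have hSP : (S : Subgroup G) = P := by
      by_contra hne
      haveI := S.isPGroup'.isNilpotent
      have hne' : P.subgroupOf (S : Subgroup G) ≠ ⊤ := fun h =>
        hne (le_antisymm (Subgroup.subgroupOf_eq_top.mp h) hS)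
      obtain ⟨x, hxN, hxP⟩ := SetLike.exists_of_lt
        (normalizerCondition_of_isNilpotent (G := (S : Subgroup G)) _ hne'.lt_top)
      have hxM : (x : G) ∈ M := by
        rw [← hNP, Subgroup.mem_normalizer_iff]
        intro y
        constructor
        · intro hy
          exact ((Subgroup.mem_normalizer_iff.mp hxN ⟨y, hS hy⟩).mp hy : _)
        · intro hy
          have hyS : y ∈ (S : Subgroup G) := by
            have h := Subgroup.mul_mem _ (Subgroup.mul_mem _ (inv_mem x.2) (hS hy)) x.2
            simpa [mul_assoc] using h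
          exact (Subgroup.mem_normalizer_iff.mp hxN ⟨y, hyS⟩).mpr hy
      -- the `p`-element `x` of `M` lies in its normal Sylow subgroup
      apply hxP
      obtain ⟨Q', hQ'⟩ := (((S.isPGroup'.to_subgroup (Subgroup.zpowers x)).map
        (S : Subgroup G).subtype).comap_of_injective M.subtype M.subtype_injective).exists_le_sylow
      letI : Unique (Sylow p M) := Sylow.unique_of_normal Q inferInstance
      have : (⟨(x : G), hxM⟩ : M) ∈ (Q : Subgroup M) := by
        rw [Subsingleton.elim Q Q']
        exact hQ' ⟨x, Subgroup.mem_zpowers x, rfl⟩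
      exact ⟨⟨(x : G), hxM⟩, this, rfl⟩
    by_cases hp2 : p = 2
    · exact complement_of_class_two M hcl hnorm S (hSP ▸ hPM)
    rw [Thompson.hasNormalPComplement_iff_zjay hp2 (Or.inr rfl) S, hSP]
    have hle : M ≤ Subgroup.normalizer (Thompson.zjay p P : Set G) :=
      hNP.ge.trans ((Thompson.normalizer_le_normalizer_jay p P).trans
        (Thompson.normalizer_jay_le_normalizer_zjay p P))
    have hZ := hnorm _ (Thompson.zjay_ne_bot hPp hPne (Or.inr rfl)) (Thompson.zjay_le.trans hPM) hle
    rw [hZ]
    exact Fusion.hasNormalPComplement_of_isNilpotent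
  set K := ⨅ p : (Nat.card M).primeFactors, Cfsg.pResidual (p : ℕ) G with hK
  haveI : K.Normal := Subgroup.normal_iInf_normal fun _ => inferInstance
  have hcop : (Nat.card M).Coprime (Nat.card K) := by
    by_contra h
    obtain ⟨p, hp, hpM, hpK⟩ := Nat.Prime.not_coprime_iff_dvd.mp h
    haveI : Fact p.Prime := ⟨hp⟩
    have hmem : p ∈ (Nat.card M).primeFactors := Nat.mem_primeFactors.mpr ⟨hp, hpM, Nat.card_pos.ne'⟩
    have hle : K ≤ Cfsg.pResidual p G := iInf_le (fun q : (Nat.card M).primeFactors =>
      Cfsg.pResidual (q : ℕ) G) ⟨p, hmem⟩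
    exact (hp.coprime_iff_not_dvd.mp ((Cores.hasNormalPComplement_iff_coprime.mp (hcomp p hmem)).coprime_dvd_left
      (Subgroup.card_dvd_of_le hle)).symm) hpK
  have hK0 : K ≠ ⊥ := by
    intro hb
    haveI : ∀ p : (Nat.card M).primeFactors, Group.IsNilpotent (G ⧸ Cfsg.pResidual (p : ℕ) G) :=
      fun p => by
        haveI : Fact (p : ℕ).Prime := ⟨Nat.prime_of_mem_primeFactors p.2⟩
        exact IsPGroup.isNilpotent Cores.isPGroup_quotient_pResidual
    let f : G →* ∀ p : (Nat.card M).primeFactors, G ⧸ Cfsg.pResidual (p : ℕ) G :=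
      Pi.monoidHom fun p => QuotientGroup.mk' _
    have hf : Function.Injective f := by
      rw [← MonoidHom.ker_eq_bot_iff, eq_bot_iff, ← hb]
      intro x hx
      rw [hK, Subgroup.mem_iInf]
      exact fun p => (QuotientGroup.eq_one_iff x).mp (congrFun (MonoidHom.mem_ker.mp hx) p)
    haveI : Group.IsNilpotent f.range := inferInstance
    haveI : Group.IsNilpotent G := Group.nilpotent_of_surjective
      (MonoidHom.ofInjective hf).symm.toMonoidHom (MonoidHom.ofInjective hf).symm.surjective
    haveI : M.Normal := (Group.isNilpotent_of_finite_tfae.out 0 2 rfl rfl).mp ‹Group.IsNilpotent G› M hmax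
    exact hM (le_bot_iff.mp (hcore ▸ Subgroup.normal_le_normalCore.mpr le_rfl))
  obtain ⟨q, hq, hqK⟩ := Nat.exists_prime_and_dvd
    (((Subgroup.one_lt_card_iff_ne_bot K).mpr hK0).ne')
  haveI : Fact q.Prime := ⟨hq⟩
  obtain ⟨Q, hQ⟩ := Coprime.exists_invariant_sylow (A := M) (K := K)
    (le_trans le_top (Subgroup.normalizer_eq_top (H := K)).ge) hcop (Or.inl inferInstance) q
  set R := (Q : Subgroup K).map K.subtype with hR
  have hRne : R ≠ ⊥ := by
    rw [hR, Ne, Subgroup.map_eq_bot_iff_of_injective _ K.subtype_injective]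
    exact fun h => Q.ne_bot_of_dvd_card hqK h
  have hRM : ¬ R ≤ M := fun h => hRne (le_bot_iff.mp (fun x hx => by
    have h1 : x ∈ (M ⊓ K : Subgroup G) := ⟨h hx, Subgroup.map_subtype_le _ hx⟩
    rwa [Subgroup.inf_eq_bot_of_coprime hcop] at h1))
  have htop : R ⊔ M = ⊤ := hmax.2 _ (lt_of_le_of_ne le_sup_right fun h => hRM (h ▸ le_sup_left))
  haveI : R.Normal := Subgroup.normalizer_eq_top_iff.mp (top_le_iff.mp
    (htop ▸ sup_le Subgroup.le_normalizer hQ))
  haveI : Group.IsNilpotent R := (Q.isPGroup'.map _).isNilpotent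
  haveI : Group.IsSolvable (G ⧸ R) := by
    refine Group.isSolvable_of_surjective (f := (QuotientGroup.mk' R).comp M.subtype) ?_
    intro y
    induction y using QuotientGroup.induction_on with
    | H x =>
      obtain ⟨r, hr, m, hm, rfl⟩ := Subgroup.mem_sup_of_normal_left.mp (htop ▸ Subgroup.mem_top x)
      refine ⟨⟨m, hm⟩, ?_⟩
      show ((m : G) : G ⧸ R) = ((r * m : G) : G ⧸ R)
      rw [QuotientGroup.mk_mul, (QuotientGroup.eq_one_iff r).mpr hr, one_mul]
  exact Group.isSolvable_of_ker_le_range R.subtype (QuotientGroup.mk' R)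
    (by rw [QuotientGroup.ker_mk', Subgroup.range_subtype])

/-- A finite group possessing a maximal subgroup that is nilpotent of class at most 2 is solvable. -/
theorem result {G : Type*} [Group G] [Finite G]
    (M : Subgroup G) (hmax : IsCoatom M) (hnil : Group.IsNilpotent M) (hcl : Group.nilpotencyClass ↥M ≤ 2) :
    Group.IsSolvable G := by
  exact aux _ G rfl M hmax hnil hcl

end Cfsg.Agent.S4039
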