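import Cfsg.Statements.S4040
import Cfsg.Agent.Thompson.NormalPComplement
import Cfsg.Agent.Cores.Residual
import Cfsg.Agent.Fusion.PComplement
import Cfsg.Agent.Coprime.Action

set_option autoImplicit false
open Cfsg

universe u

namespace Cfsg.Agent.S4040

open Cfsg.Agent

theorem aux : ∀ (n : ℕ) (G : Type u) [Group G] [Finite G], Nat.card G = n → ∀ M : Subgroup G,
    IsCoatom M → Group.IsNilpotent M → Odd (Nat.card M) → Group.IsSolvable G := by
  intro n
  induction n using Nat.strong_induction_on with
  | _ n IH =>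
  intro G _ _ hcard M hmax hnil hodd
  haveI := hnil
  by_cases hcore : M.normalCore = ⊥
  swap
  · set N := M.normalCore with hN
    have hNM : N ≤ M := Subgroup.normalCore_le M
    haveI : N.Normal := Subgroup.normalCore_normal M
    have hπ : Function.Surjective (QuotientGroup.mk' N) := QuotientGroup.mk'_surjective N
    have hlt : Nat.card (G ⧸ N) < n := by
      rw [← hcard, ← N.card_mul_index, ← Subgroup.index_eq_card]
      exact lt_mul_of_one_lt_left (Nat.pos_of_ne_zero Subgroup.index_ne_zero_of_finite)
        ((Subgroup.one_lt_card_iff_ne_bot N).mpr hcore)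
    have hmax' : IsCoatom (M.map (QuotientGroup.mk' N)) := by
      refine ⟨fun h => hmax.1 ?_, fun b hb => ?_⟩
      · have := congrArg (Subgroup.comap (QuotientGroup.mk' N)) h
        rwa [Subgroup.comap_map_eq_self (by rwa [QuotientGroup.ker_mk']), Subgroup.comap_top] at this
      · have h1 : M < b.comap (QuotientGroup.mk' N) := by
          have := (Subgroup.comap_lt_comap_of_surjective hπ).mpr hb
          rwa [Subgroup.comap_map_eq_self (by rwa [QuotientGroup.ker_mk'])] at this
        have h2 := congrArg (Subgroup.map (QuotientGroup.mk' N)) (hmax.2 _ h1)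
        rwa [Subgroup.map_comap_eq_self_of_surjective hπ, Subgroup.map_top_of_surjective _ hπ] at h2
    haveI hs : Group.IsSolvable (G ⧸ N) := IH _ hlt _ rfl _ hmax'
      (Group.nilpotent_of_surjective ((QuotientGroup.mk' N).subgroupMap M)
        ((QuotientGroup.mk' N).subgroupMap_surjective M))
      (hodd.of_dvd_nat (M.card_map_dvd _))
    haveI : Group.IsSolvable N :=
      Group.isSolvable_of_isSolvable_injective (f := Subgroup.inclusion hNM)
        (Subgroup.inclusion_injective hNM)
    exact Group.isSolvable_of_ker_le_range N.subtype (QuotientGroup.mk' N)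
      (by rw [QuotientGroup.ker_mk', Subgroup.range_subtype])
  by_cases hM : M = ⊥
  · refine Group.isSolvable_of_comm fun a b => ?_
    rcases eq_or_ne a 1 with rfl | ha
    · simp
    have htop : Subgroup.zpowers a = ⊤ := hmax.2 _ (by
      rw [hM]; exact bot_lt_iff_ne_bot.mpr (Subgroup.zpowers_ne_bot.mpr ha))
    obtain ⟨j, rfl⟩ := Subgroup.mem_zpowers_iff.mp (htop ▸ Subgroup.mem_top b)
    exact (Commute.self_zpow a j).eq
  have hnorm : ∀ X : Subgroup G, X ≠ ⊥ → X ≤ M → M ≤ Subgroup.normalizer (X : Set G) →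
      Subgroup.normalizer (X : Set G) = M := by
    intro X hX hXM hle
    rcases eq_or_lt_of_le hle with h | h
    · exact h.symm
    · exfalso
      haveI : X.Normal := Subgroup.normalizer_eq_top_iff.mp (hmax.2 _ h)
      exact hX (le_bot_iff.mp (hcore ▸ Subgroup.normal_le_normalCore.mpr hXM))
  have hcomp : ∀ p ∈ (Nat.card M).primeFactors, Cfsg.HasNormalPComplement p G := by
    intro p hp
    obtain ⟨hpp, hpd, -⟩ := Nat.mem_primeFactors.mp hp
    haveI : Fact p.Prime := ⟨hpp⟩
    have hp2 : p ≠ 2 := fun h => Nat.not_even_iff_odd.mpr hodd (even_iff_two_dvd.mpr (h ▸ hpd))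
    obtain ⟨Q⟩ : Nonempty (Sylow p M) := inferInstance
    set P := (Q : Subgroup M).map M.subtype with hP
    have hPM : P ≤ M := Subgroup.map_subtype_le _
    have hPp : IsPGroup p P := Q.isPGroup'.map _
    have hPne : P ≠ ⊥ := by
      rw [hP, Ne, Subgroup.map_eq_bot_iff_of_injective _ M.subtype_injective]
      exact fun h => Q.ne_bot_of_dvd_card hpd h
    have hMP : M ≤ Subgroup.normalizer (P : Set G) :=
      (Subgroup.normal_subgroupOf_iff_le_normalizer hPM).mp (by
        rw [hP, Subgroup.subgroupOf, Subgroup.comap_map_eq_self_of_injective M.subtype_injective]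
        infer_instance)
    have hNP : Subgroup.normalizer (P : Set G) = M := hnorm P hPne hPM hMP
    obtain ⟨S, hS⟩ := hPp.exists_le_sylow
    have hSP : (S : Subgroup G) = P := by
      by_contra hne
      haveI := S.isPGroup'.isNilpotent
      have hne' : P.subgroupOf (S : Subgroup G) ≠ ⊤ := fun h =>
        hne (le_antisymm (Subgroup.subgroupOf_eq_top.mp h) hS)
      obtain ⟨x, hxN, hxP⟩ := SetLike.exists_of_lt
        (normalizerCondition_of_isNilpotent (G := (S : Subgroup G)) _ hne'.lt_top)
      have hxM : (x : G) ∈ M := by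
        rw [← hNP, Subgroup.mem_normalizer_iff]
        intro y
        constructor
        · intro hy
          exact ((Subgroup.mem_normalizer_iff.mp hxN ⟨y, hS hy⟩).mp hy : _)
        · intro hy
          have hyS : y ∈ (S : Subgroup G) := by
            have h := Subgroup.mul_mem _ (Subgroup.mul_mem _ (inv_mem x.2) (hS hy)) x.2
            simpa [mul_assoc] using h
          exact (Subgroup.mem_normalizer_iff.mp hxN ⟨y, hyS⟩).mpr hy
      -- the `p`-element `x` of `M` lies in its normal Sylow subgroup
      apply hxP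
      obtain ⟨Q', hQ'⟩ := (((S.isPGroup'.to_subgroup (Subgroup.zpowers x)).map
        (S : Subgroup G).subtype).comap_of_injective M.subtype M.subtype_injective).exists_le_sylow
      letI : Unique (Sylow p M) := Sylow.unique_of_normal Q inferInstance
      have : (⟨(x : G), hxM⟩ : M) ∈ (Q : Subgroup M) := by
        rw [Subsingleton.elim Q Q']
        exact hQ' ⟨x, Subgroup.mem_zpowers x, rfl⟩
      exact ⟨⟨(x : G), hxM⟩, this, rfl⟩
    rw [Thompson.hasNormalPComplement_iff_zjay hp2 (Or.inr rfl) S, hSP]
    have hle : M ≤ Subgroup.normalizer (Thompson.zjay p P : Set G) :=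
      hNP.ge.trans ((Thompson.normalizer_le_normalizer_jay p P).trans
        (Thompson.normalizer_jay_le_normalizer_zjay p P))
    have hZ := hnorm _ (Thompson.zjay_ne_bot hPp hPne (Or.inr rfl)) (Thompson.zjay_le.trans hPM) hle
    rw [hZ]
    exact Fusion.hasNormalPComplement_of_isNilpotent
  set K := ⨅ p : (Nat.card M).primeFactors, Cfsg.pResidual (p : ℕ) G with hK
  haveI : K.Normal := Subgroup.normal_iInf_normal fun _ => inferInstance
  have hcop : (Nat.card M).Coprime (Nat.card K) := by
    by_contra h
    obtain ⟨p, hp, hpM, hpK⟩ := Nat.Prime.not_coprime_iff_dvd.mp h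
    haveI : Fact p.Prime := ⟨hp⟩
    have hmem : p ∈ (Nat.card M).primeFactors := Nat.mem_primeFactors.mpr ⟨hp, hpM, Nat.card_pos.ne'⟩
    have hle : K ≤ Cfsg.pResidual p G := iInf_le (fun q : (Nat.card M).primeFactors =>
      Cfsg.pResidual (q : ℕ) G) ⟨p, hmem⟩
    exact (hp.coprime_iff_not_dvd.mp ((Cores.hasNormalPComplement_iff_coprime.mp (hcomp p hmem)).coprime_dvd_left
      (Subgroup.card_dvd_of_le hle)).symm) hpK
  have hK0 : K ≠ ⊥ := by
    intro hb
    haveI : ∀ p : (Nat.card M).primeFactors, Group.IsNilpotent (G ⧸ Cfsg.pResidual (p : ℕ) G) :=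
      fun p => by
        haveI : Fact (p : ℕ).Prime := ⟨Nat.prime_of_mem_primeFactors p.2⟩
        exact IsPGroup.isNilpotent Cores.isPGroup_quotient_pResidual
    let f : G →* ∀ p : (Nat.card M).primeFactors, G ⧸ Cfsg.pResidual (p : ℕ) G :=
      Pi.monoidHom fun p => QuotientGroup.mk' _
    have hf : Function.Injective f := by
      rw [← MonoidHom.ker_eq_bot_iff, eq_bot_iff, ← hb]
      intro x hx
      rw [hK, Subgroup.mem_iInf]
      exact fun p => (QuotientGroup.eq_one_iff x).mp (congrFun (MonoidHom.mem_ker.mp hx) p)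
    haveI : Group.IsNilpotent f.range := inferInstance
    haveI : Group.IsNilpotent G := Group.nilpotent_of_surjective
      (MonoidHom.ofInjective hf).symm.toMonoidHom (MonoidHom.ofInjective hf).symm.surjective
    haveI : M.Normal := (Group.isNilpotent_of_finite_tfae.out 0 2 rfl rfl).mp ‹Group.IsNilpotent G› M hmax
    exact hM (le_bot_iff.mp (hcore ▸ Subgroup.normal_le_normalCore.mpr le_rfl))
  obtain ⟨q, hq, hqK⟩ := Nat.exists_prime_and_dvd
    (((Subgroup.one_lt_card_iff_ne_bot K).mpr hK0).ne')
  haveI : Fact q.Prime := ⟨hq⟩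
  obtain ⟨Q, hQ⟩ := Coprime.exists_invariant_sylow (A := M) (K := K)
    (le_trans le_top (Subgroup.normalizer_eq_top (H := K)).ge) hcop (Or.inl inferInstance) q
  set R := (Q : Subgroup K).map K.subtype with hR
  have hRne : R ≠ ⊥ := by
    rw [hR, Ne, Subgroup.map_eq_bot_iff_of_injective _ K.subtype_injective]
    exact fun h => Q.ne_bot_of_dvd_card hqK h
  have hRM : ¬ R ≤ M := fun h => hRne (le_bot_iff.mp (fun x hx => by
    have h1 : x ∈ (M ⊓ K : Subgroup G) := ⟨h hx, Subgroup.map_subtype_le _ hx⟩
    rwa [Subgroup.inf_eq_bot_of_coprime hcop] at h1))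
  have htop : R ⊔ M = ⊤ := hmax.2 _ (lt_of_le_of_ne le_sup_right fun h => hRM (h ▸ le_sup_left))
  haveI : R.Normal := Subgroup.normalizer_eq_top_iff.mp (top_le_iff.mp
    (htop ▸ sup_le Subgroup.le_normalizer hQ))
  haveI : Group.IsNilpotent R := (Q.isPGroup'.map _).isNilpotent
  haveI : Group.IsSolvable (G ⧸ R) := by
    refine Group.isSolvable_of_surjective (f := (QuotientGroup.mk' R).comp M.subtype) ?_
    intro y
    induction y using QuotientGroup.induction_on with
    | H x =>
      obtain ⟨r, hr, m, hm, rfl⟩ := Subgroup.mem_sup_of_normal_left.mp (htop ▸ Subgroup.mem_top x)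
      refine ⟨⟨m, hm⟩, ?_⟩
      show ((m : G) : G ⧸ R) = ((r * m : G) : G ⧸ R)
      rw [QuotientGroup.mk_mul, (QuotientGroup.eq_one_iff r).mpr hr, one_mul]
  exact Group.isSolvable_of_ker_le_range R.subtype (QuotientGroup.mk' R)
    (by rw [QuotientGroup.ker_mk', Subgroup.range_subtype])

/-- A finite group possessing a maximal subgroup that is nilpotent of odd order is solvable. -/
theorem result {G : Type*} [Group G] [Finite G]
    (M : Subgroup G) (hmax : IsCoatom M) (hnil : Group.IsNilpotent M) (hodd : Odd (Nat.card M)) :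
    Group.IsSolvable G := by
  exact aux _ G rfl M hmax hnil hodd

end Cfsg.Agent.S4040
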