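import Cfsg.Statements.S4043
import Cfsg.Agent.Hall.PComplement
import Cfsg.Agent.H24.Nilp

set_option autoImplicit false
open Cfsg

namespace Cfsg.Agent.S4043

open scoped Pointwise

variable {G : Type*} [Group G] [Finite G] {p : ℕ} [Fact p.Prime]

theorem exists_parts (A : Subgroup G) (h : Cfsg.HasNormalPComplement p A) :
    ∃ H P : Subgroup G, H ≤ A ∧ P ≤ A ∧ A ≤ Subgroup.normalizer (H : Set G) ∧
      IsPGroup p P ∧ (Nat.card H).Coprime p ∧ H ⊔ P = A := by
  obtain ⟨P, H, hn, hc⟩ := h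
  refine ⟨H.map A.subtype, (P : Subgroup A).map A.subtype, Subgroup.map_subtype_le _,
    Subgroup.map_subtype_le _, ?_, P.2.map _, ?_, ?_⟩
  · refine Hall.le_normalizer_of_conj fun a ha => ?_
    have := congrArg (Subgroup.map A.subtype) (Hall.conj_smul_of_normal (⟨a, ha⟩ : A) H)
    rw [Hall.map_conj_smul] at this
    exact this
  · rw [Subgroup.card_map_of_injective A.subtype_injective, ← hc.index_eq_card, Nat.coprime_comm,
      (Fact.out : p.Prime).coprime_iff_not_dvd]
    exact P.not_dvd_index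
  · rw [← Subgroup.map_sup, hc.sup_eq_top, ← MonoidHom.range_eq_map, Subgroup.range_subtype]

theorem image_hall (N A H P : Subgroup G) [N.Normal] (hA : A.IsComplement' N)
    (hnor : A ≤ Subgroup.normalizer (H : Set G)) (hP : IsPGroup p P)
    (hH : (Nat.card H).Coprime p) (hsup : H ⊔ P = A) :
    (H.map (QuotientGroup.mk' N)).Normal ∧
      Cfsg.IsPiHall {q | q ≠ p} (H.map (QuotientGroup.mk' N)) := by
  set f := QuotientGroup.mk' N
  have hsurj : Function.Surjective f := QuotientGroup.mk'_surjective N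
  have hker : N.map f = ⊥ := QuotientGroup.map_mk'_self N
  have htop : A.map f = ⊤ := by
    have h : (A ⊔ N).map f = A.map f := by
      rw [Subgroup.map_sup, hker, sup_bot_eq]
    rw [← h, hA.sup_eq_top, Subgroup.map_top_of_surjective f hsurj]
  have hn : (H.map f).Normal := by
    rw [← Subgroup.normalizer_eq_top_iff, eq_top_iff, ← htop]
    exact (Subgroup.map_mono hnor).trans (Subgroup.le_normalizer_map f)
  refine ⟨hn, (Hall.isPiHall_ne_iff (G := G ⧸ N) (Fact.out : p.Prime)).mpr ⟨hH.coprime_dvd_left (Subgroup.card_map_dvd H f), ?_⟩⟩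
  have hPp : IsPGroup p (P.map f) := hP.map f
  obtain ⟨k, hk⟩ := IsPGroup.iff_card.mp hPp
  have h1 : H.map f ⊔ P.map f = ⊤ := by rw [← Subgroup.map_sup, hsup, htop]
  have h2 : (H.map f).index ∣ p ^ k := by
    rw [← hk, ← Subgroup.relIndex_top_right, ← h1, Subgroup.relIndex_sup_left]
    exact Subgroup.relIndex_dvd_card (H.map f) (P.map f)
  obtain ⟨i, -, hi⟩ := (Nat.dvd_prime_pow (Fact.out : p.Prime)).mp h2
  exact ⟨i, hi⟩

theorem conj_of_fixedPointFree (N : Subgroup G) [N.Normal] (hN : IsPGroup p N) (A A₁ : Subgroup G)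
    (hA : A.IsComplement' N) (hA₁ : A₁.IsComplement' N)
    (hAp : Cfsg.HasNormalPComplement p A) (hA₁p : Cfsg.HasNormalPComplement p A₁)
    (hC₁ : ∀ n : G, n ∈ N → (∀ a : G, a ∈ A₁ → a * n * a⁻¹ = n) → n = 1) :
    ∃ n : G, n ∈ N ∧ A₁ = MulAut.conj n • A := by
  obtain ⟨H, P, hHA, hPA, hHn, hP, hHc, hHP⟩ := exists_parts A hAp
  obtain ⟨H₁, P₁, hHA₁, hPA₁, hHn₁, hP₁, hHc₁, hHP₁⟩ := exists_parts A₁ hA₁p
  obtain ⟨hm, hh⟩ := image_hall N A H P hA hHn hP hHc hHP
  obtain ⟨hm₁, hh₁⟩ := image_hall N A₁ H₁ P₁ hA₁ hHn₁ hP₁ hHc₁ hHP₁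
  have he : N ⊔ H = N ⊔ H₁ := Hall.sup_eq_of_map_mk'_eq (le_antisymm
    (Hall.IsPiHall.normal_le hh₁ (Hall.IsPiHall.isPiNumber_card hh))
    (Hall.IsPiHall.normal_le hh (Hall.IsPiHall.isPiNumber_card hh₁)))
  obtain ⟨j, hj⟩ := IsPGroup.iff_card.mp hN
  have hcop : ∀ {K : Subgroup G}, (Nat.card K).Coprime p → (Nat.card N).Coprime (Nat.card K) :=
    fun {K} h => hj ▸ (h.pow_right j).symm
  have hcard : Nat.card H₁ = Nat.card H := by
    have h1 := Hall.card_sup_eq_of_inf_eq_bot N H (Hall.inf_bot_of_coprime (hcop hHc))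
    have h2 := Hall.card_sup_eq_of_inf_eq_bot N H₁ (Hall.inf_bot_of_coprime (hcop hHc₁))
    rw [he, h2] at h1
    exact Nat.eq_of_mul_eq_mul_left Nat.card_pos h1
  obtain ⟨n, hnN, hn⟩ := Hall.conj_complement_internal (Subgroup.normalizer_eq_top (H := N) ▸ le_top)
    he hcard (hcop hHc) (Or.inl (by
      have := hN.isNilpotent
      infer_instance))
  refine ⟨n, hnN, ?_⟩
  set T := Subgroup.normalizer (H₁ : Set G)
  set W := N ⊓ T with hW
  have hWbot : W = ⊥ := by
    by_contra hne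
    have hWT : P₁ ≤ Subgroup.normalizer (W : Set G) := by
      refine Hall.le_normalizer_of_conj fun a ha => ?_
      rw [hW, Subgroup.smul_inf, Hall.conj_smul_of_normal,
        Hall.conj_smul_eq_self_of_mem (hHn₁ (hPA₁ ha))]
    have hWp : IsPGroup p W := hN.to_le inf_le_left
    set Q := P₁ ⊔ W with hQdef
    have hQ : IsPGroup p Q := hP₁.to_sup_of_normal_right' hWp hWT
    have : Group.IsNilpotent Q := hQ.isNilpotent
    have : (W.subgroupOf Q).Normal :=
      (Subgroup.normal_subgroupOf_iff_le_normalizer le_sup_right).mpr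
        (sup_le hWT Subgroup.le_normalizer)
    have hb : W.subgroupOf Q ≠ ⊥ := by
      rw [Ne, Subgroup.subgroupOf_eq_bot]
      intro h
      exact hne (le_bot_iff.mp ((le_inf le_rfl le_sup_right).trans h.eq_bot.le))
    obtain ⟨⟨w, hwQ⟩, ⟨hwW, hwc⟩, hw1⟩ := (Subgroup.bot_or_exists_ne_one _).resolve_left
      (H24.inf_center_ne_bot (W.subgroupOf Q) hb)
    obtain ⟨hwN, hwT⟩ := (Subgroup.mem_inf.mp (hwW : w ∈ W))
    refine hw1 (Subtype.ext (hC₁ w hwN fun a ha => ?_))
    suffices h : A₁ ≤ Subgroup.centralizer {w} by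
      rw [mul_inv_eq_iff_eq_mul]
      exact (Subgroup.mem_centralizer_singleton_iff.mp (h ha))
    rw [← hHP₁, sup_le_iff]
    constructor
    · intro h hh'
      rw [Subgroup.mem_centralizer_singleton_iff]
      have h1 : w * h * w⁻¹ * h⁻¹ ∈ N ⊓ H₁ := by
        refine ⟨?_, H₁.mul_mem ((Subgroup.mem_normalizer_iff.mp hwT h).mp hh') (H₁.inv_mem hh')⟩
        have := N.mul_mem hwN (‹N.Normal›.conj_mem w⁻¹ (N.inv_mem hwN) h)
        simpa [mul_assoc] using this
      rw [Hall.inf_bot_of_coprime (hcop hHc₁), Subgroup.mem_bot, mul_inv_eq_one,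
        mul_inv_eq_iff_eq_mul] at h1
      exact h1.symm
    · intro b hb'
      rw [Subgroup.mem_centralizer_singleton_iff]
      exact congrArg Subtype.val (Subgroup.mem_center_iff.mp hwc ⟨b, le_sup_left (a := P₁) hb'⟩)
  symm
  refine Subgroup.eq_of_le_of_card_ge ?_ ?_
  · intro a ha
    have haT : a ∈ T := by
      obtain ⟨b, hb, rfl⟩ := (Subgroup.mem_map.mp ((Hall.map_conj_eq_smul n A).symm ▸ ha :
        a ∈ A.map (MulAut.conj n).toMonoidHom))
      refine Hall.le_normalizer_of_conj (H := (MulAut.conj n • Subgroup.normalizer (H : Set G) :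
        Subgroup G)) ?_ (Subgroup.smul_mem_pointwise_smul b (MulAut.conj n) _ (hHn hb))
      intro c hc
      rw [← hn, ← Hall.conj_mul_smul]
      have h2 := Hall.conj_smul_of_le_normalizer le_rfl (Hall.mem_conj_smul.mp hc)
      conv_rhs => rw [← h2, ← Hall.conj_mul_smul]
      congr 2
      group
    obtain ⟨m, hm, a₁, ha₁, hma⟩ := Subgroup.mem_sup_of_normal_left.mp
      (hA₁.symm.sup_eq_top ▸ Subgroup.mem_top a : a ∈ N ⊔ A₁)
    have hmW : m ∈ W := ⟨hm, by
      have := T.mul_mem haT (T.inv_mem (hHn₁ ha₁))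
      rw [← hma] at this
      simpa using this⟩
    rw [hWbot, Subgroup.mem_bot] at hmW
    rw [← hma, hmW, one_mul]
    exact ha₁
  · rw [Hall.card_conj_smul]
    exact Nat.le_of_eq (Nat.eq_of_mul_eq_mul_right Nat.card_pos
      (hA₁.card_mul_card.trans hA.card_mul_card.symm))

/-- Let G be a finite group that is the semidirect product of a normal p-subgroup N by a subgroup A, and also of N by a subgroup A₁, where p is a prime and A and A₁ both have normal p-complements. If C_N(A) = C_N(A₁) = 1, then A₁ is conjugate to A by an element of N. -/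
theorem result {G : Type*} [Group G] [Finite G] {p : ℕ}
    [Fact p.Prime] (N : Subgroup G) [N.Normal] (hN : IsPGroup p N) (A A₁ : Subgroup G)
    (hA : A.IsComplement' N) (hA₁ : A₁.IsComplement' N)
    (hAp : Cfsg.HasNormalPComplement p A) (hA₁p : Cfsg.HasNormalPComplement p A₁)
    (hC : ∀ n : G, n ∈ N → (∀ a : G, a ∈ A → a * n * a⁻¹ = n) → n = 1)
    (hC₁ : ∀ n : G, n ∈ N → (∀ a : G, a ∈ A₁ → a * n * a⁻¹ = n) → n = 1) :
    ∃ n : G, n ∈ N ∧ A₁ = A.map (MulAut.conj n).toMonoidHom := by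
  obtain ⟨n, hn, h⟩ := conj_of_fixedPointFree N hN A A₁ hA hA₁ hAp hA₁p hC₁
  exact ⟨n, hn, by rw [Hall.map_conj_eq_smul, h]⟩

end Cfsg.Agent.S4043
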