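import Mathlib
import Cfsg.Statements.S4049
import Cfsg.Agent.H75.Basic
import Cfsg.Agent.Thompson.BaerSuzuki

set_option autoImplicit false
open Cfsg

namespace Cfsg.Agent.S4049

open Subgroup
open scoped Pointwise

variable {G : Type*} [Group G] [Finite G]

/-- An element of 2-power order normalising an odd-order subgroup centralises it, under the
hypothesis. -/
theorem mem_centralizer_of_two_power (H : Subgroup G)
    (h : ¬ 2 ∣ (centralizer (H : Set G)).relIndex (normalizer (H : Set G)))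
    {y : G} (hy : y ∈ normalizer (H : Set G)) {k : ℕ} (hk : y ^ (2 ^ k) = 1) :
    y ∈ centralizer (H : Set G) := by
  haveI : ((centralizer (H : Set G)).subgroupOf (normalizer (H : Set G))).Normal := by
    refine ⟨fun c hc n => ?_⟩
    rw [mem_subgroupOf, mem_centralizer_iff] at hc ⊢
    intro a ha
    have ha' : (n : G)⁻¹ * a * n ∈ H := (mem_normalizer_iff''.1 n.2 a).1 ha
    push_cast
    calc a * ((n : G) * c * (n : G)⁻¹) = n * (((n : G)⁻¹ * a * n) * c) * (n : G)⁻¹ := by group
      _ = n * (c * ((n : G)⁻¹ * a * n)) * (n : G)⁻¹ := by rw [hc _ ha']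
      _ = _ := by group
  set C := (centralizer (H : Set G)).subgroupOf (normalizer (H : Set G)) with hC
  have hpow : (QuotientGroup.mk' C ⟨y, hy⟩) ^ (2 ^ k) = 1 := by
    rw [← map_pow, show (⟨y, hy⟩ : normalizer (H : Set G)) ^ (2 ^ k) = 1 from Subtype.ext hk, map_one]
  have h1 : orderOf (QuotientGroup.mk' C ⟨y, hy⟩) = 1 := by
    refine Nat.eq_one_of_dvd_coprimes (a := 2 ^ k) (b := C.index) ?_
      (orderOf_dvd_iff_pow_eq_one.2 hpow) (orderOf_dvd_natCard _)
    exact Nat.Coprime.pow_left k ((Nat.Prime.coprime_iff_not_dvd Nat.prime_two).2 h)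
  exact mem_subgroupOf.1
    ((QuotientGroup.eq_one_iff (⟨y, hy⟩ : normalizer (H : Set G))).1 (orderOf_eq_one_iff.1 h1))

/-- The key step: modulo a normal 2-subgroup no involution inverts an element of odd prime
order. -/
theorem not_inverts (hhom : ∀ H : Subgroup G, H ≠ ⊥ → ¬ 2 ∣ Nat.card ↥H →
      ¬ 2 ∣ (centralizer (H : Set G)).relIndex (normalizer (H : Set G)))
    (Q : Subgroup G) [Q.Normal] (hQ : IsPGroup 2 Q) {t v : G ⧸ Q} {r : ℕ} (hr : r.Prime)
    (hr2 : r ≠ 2) (hv : orderOf v = r) (ht : t * t = 1) (htv : t * v * t⁻¹ = v⁻¹) : False := by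
  haveI : Fact r.Prime := ⟨hr⟩
  set φ := QuotientGroup.mk' Q with hφ
  obtain ⟨x, rfl⟩ := QuotientGroup.mk'_surjective Q t
  obtain ⟨w, hw⟩ := QuotientGroup.mk'_surjective Q v
  obtain ⟨a, b, -, hb, hab, ⟨j, hj⟩, hcop, -, -⟩ := H75.exists_split w hr
  have hφb : φ b = 1 := by
    rw [← orderOf_eq_one_iff]
    obtain ⟨i, hi⟩ := mem_zpowers_iff.1 hb
    have h2 : φ b ∈ zpowers v := ⟨i, by show v ^ i = φ b; rw [← hw, ← map_zpow, hi]⟩
    have h3 : orderOf (φ b) ∣ r := by
      have := orderOf_dvd_natCard (zpowers v) h2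
      rwa [Nat.card_zpowers, hv] at this
    exact Nat.eq_one_of_dvd_coprimes hcop (orderOf_map_dvd φ b) h3
  have hφa : φ a = v := by rw [← hw, ← hab, map_mul, hφb, mul_one]
  -- `a` has order `r`
  have hQr : ¬ r ∣ Nat.card Q := by
    obtain ⟨e, he⟩ := IsPGroup.iff_card.1 hQ
    rw [he]
    exact fun h => hr2 ((Nat.prime_dvd_prime_iff_eq hr Nat.prime_two).1 (hr.dvd_of_dvd_pow h))
  have har : orderOf a = r := by
    refine Nat.dvd_antisymm ?_ (hv ▸ hφa ▸ orderOf_map_dvd φ a)
    rw [orderOf_dvd_iff_pow_eq_one]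
    have hmem : a ^ r ∈ Q := (QuotientGroup.eq_one_iff _).1 (by
      show φ (a ^ r) = 1
      rw [map_pow, hφa, ← hv, pow_orderOf_eq_one])
    obtain ⟨e, he⟩ := IsPGroup.iff_card.1 hQ
    rw [← orderOf_eq_one_iff]
    refine Nat.eq_one_of_dvd_coprimes (a := r ^ j) (b := Nat.card Q) ?_
      (hj ▸ orderOf_pow_dvd r) ?_
    · exact Nat.Coprime.pow_left j ((Nat.Prime.coprime_iff_not_dvd hr).2 hQr)
    · simpa using orderOf_dvd_natCard (G := Q) (⟨_, hmem⟩ : Q)
  -- the two conjugate complements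
  set T := Q ⊔ zpowers a with hT
  have hcard : Nat.card T = Nat.card Q * r := by
    have hd : Disjoint Q (zpowers a) := by
      rw [disjoint_iff, ← Subgroup.card_eq_one]
      refine Nat.eq_one_of_dvd_coprimes (a := Nat.card Q) (b := r) ?_
        (Subgroup.card_dvd_of_le inf_le_left) ?_
      · exact ((Nat.Prime.coprime_iff_not_dvd hr).2 hQr).symm
      · exact har ▸ Nat.card_zpowers a ▸ Subgroup.card_dvd_of_le inf_le_right
    have h1 : Q.relIndex T = r := by
      rw [hT, sup_comm, relIndex_sup_right, ← inf_relIndex_right, disjoint_iff.1 hd,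
        relIndex_bot_left, Nat.card_zpowers, har]
    have h2 := relIndex_mul_relIndex ⊥ Q T bot_le le_sup_left
    rw [relIndex_bot_left, relIndex_bot_left, h1] at h2
    exact h2.symm
  have hsyl : ∀ c ∈ T, orderOf c = r → ∃ R : Sylow r T, (R : Subgroup T) = (zpowers c).subgroupOf T := by
    intro c hc hco
    refine ⟨Sylow.ofCard ((zpowers c).subgroupOf T) ?_, rfl⟩
    rw [Nat.card_congr (subgroupOfEquivOfLe (zpowers_le.2 hc)).toEquiv, Nat.card_zpowers, hco, hcard,
      Nat.factorization_mul Nat.card_pos.ne' hr.ne_zero, Finsupp.add_apply,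
      Nat.factorization_eq_zero_of_not_dvd hQr, zero_add, hr.factorization_self, pow_one]
  have haT : a ∈ T := mem_sup_right (mem_zpowers a)
  have hxaT : x * a * x⁻¹ ∈ T := by
    have : a * (x * a * x⁻¹) ∈ Q := (QuotientGroup.eq_one_iff _).1 (by
      show φ (a * (x * a * x⁻¹)) = 1
      rw [map_mul, map_mul, map_mul, map_inv, hφa, htv, mul_inv_cancel])
    have h2 : a⁻¹ * (a * (x * a * x⁻¹)) ∈ T :=
      mul_mem (inv_mem haT) (mem_sup_left this)
    rwa [inv_mul_cancel_left] at h2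
  obtain ⟨R, hR⟩ := hsyl a haT har
  obtain ⟨R', hR'⟩ := hsyl _ hxaT (((MulAut.conj x).orderOf_eq a).trans har)
  obtain ⟨s, hs⟩ := MulAction.exists_smul_eq T R R'
  set y := (s : G)⁻¹ * x with hy
  have hyN : y ∈ normalizer ((zpowers a : Subgroup G) : Set G) := by
    have h1 : (⟨x * a * x⁻¹, hxaT⟩ : T) ∈ (R' : Subgroup T) := by
      rw [hR']; exact mem_zpowers _
    rw [← hs, Sylow.coe_subgroup_smul, Subgroup.mem_pointwise_smul_iff_inv_smul_mem, hR,
      mem_subgroupOf] at h1
    have hmap : (zpowers a).map (MulAut.conj y).toMonoidHom = zpowers a := by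
      refine eq_of_le_of_card_ge ?_
        (card_map_of_injective (f := (MulAut.conj y).toMonoidHom) (MulAut.conj y).injective).ge
      rw [MonoidHom.map_zpowers, zpowers_le]
      simpa [hy, MulAut.conj_apply, mul_assoc] using h1
    rw [mem_normalizer_iff]
    intro c
    constructor
    · intro hc
      rw [← hmap]
      exact ⟨c, hc, by simp [mul_assoc]⟩
    · intro hc
      rw [← hmap] at hc
      obtain ⟨d, hd, hdc⟩ := hc
      simp only [MulEquiv.coe_toMonoidHom, MulAut.conj_apply] at hdc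
      rwa [← mul_left_cancel (mul_right_cancel hdc)]
  obtain ⟨n, hn, u, hu, hnu⟩ : ∃ n ∈ Q, ∃ u ∈ zpowers a, n * u = (s : G) := by
    have hs' : (s : G) ∈ ((Q ⊔ zpowers a : Subgroup G) : Set G) := s.2
    rw [normal_mul] at hs'
    exact hs'
  obtain ⟨i, hi⟩ := mem_zpowers_iff.1 hu
  have hφy : φ y = (v ^ i)⁻¹ * φ x := by
    rw [hy, map_mul, map_inv, ← hnu, map_mul,
      show φ n = 1 from (QuotientGroup.eq_one_iff n).2 hn, one_mul, ← hi, map_zpow, hφa]
  have hsq : φ y * φ y = 1 := by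
    have h2 : φ x * (v ^ i)⁻¹ = v ^ i * φ x := by
      have e : φ x * (v ^ i)⁻¹ * (φ x)⁻¹ = v ^ i := by
        rw [← zpow_neg, ← conj_zpow, htv, inv_zpow', neg_neg]
      calc φ x * (v ^ i)⁻¹ = φ x * (v ^ i)⁻¹ * (φ x)⁻¹ * φ x := by group
        _ = _ := by rw [e]
    calc φ y * φ y = (v ^ i)⁻¹ * (φ x * (v ^ i)⁻¹) * φ x := by rw [hφy]; group
      _ = (v ^ i)⁻¹ * (v ^ i * φ x) * φ x := by rw [h2]
      _ = φ x * φ x := by group
      _ = 1 := ht
  obtain ⟨e, he⟩ : ∃ e, y ^ (2 ^ e) = 1 := by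
    have hmem : y * y ∈ Q := (QuotientGroup.eq_one_iff _).1 (by
      show φ (y * y) = 1
      rw [map_mul, hsq])
    obtain ⟨e, he⟩ := hQ ⟨_, hmem⟩
    refine ⟨e + 1, ?_⟩
    have := congrArg Subtype.val he
    simp only [SubmonoidClass.coe_pow, OneMemClass.coe_one] at this
    rw [pow_succ', pow_mul, pow_two]
    exact this
  have hH : zpowers a ≠ ⊥ := by
    rw [Ne, zpowers_eq_bot]
    exact fun h => hr.one_lt.ne' (har ▸ orderOf_eq_one_iff.2 h)
  have hodd : ¬ 2 ∣ Nat.card (zpowers a) := by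
    rw [Nat.card_zpowers, har]
    exact fun h => hr2 ((Nat.prime_dvd_prime_iff_eq Nat.prime_two hr).1 h).symm
  have hc := mem_centralizer_iff.1
    (mem_centralizer_of_two_power _ (hhom _ hH hodd) hyN he) a (mem_zpowers a)
  have h5 : v * φ y = φ y * v := by rw [← hφa, ← map_mul, ← map_mul, hc]
  rw [hφy] at h5
  have h6 : φ x * v = v * φ x := by
    calc φ x * v = v ^ i * ((v ^ i)⁻¹ * φ x * v) := by group
      _ = v ^ i * (v * ((v ^ i)⁻¹ * φ x)) := by rw [← h5]
      _ = v * φ x := by group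
  have hvv : v = v⁻¹ := by
    conv_rhs => rw [← htv, h6, mul_inv_cancel_right]
  have : orderOf v ∣ 2 := by
    rw [orderOf_dvd_iff_pow_eq_one, pow_two]
    conv_lhs => arg 1; rw [hvv]
    exact inv_mul_cancel v
  rw [hv] at this
  exact hr2 ((Nat.prime_dvd_prime_iff_eq hr Nat.prime_two).1 this)

theorem result {G : Type*} [Group G] [Finite G]
    (hhom : ∀ H : Subgroup G, H ≠ ⊥ → ¬ 2 ∣ Nat.card ↥H →
        ¬ 2 ∣ (Subgroup.centralizer (H : Set G)).relIndex (Subgroup.normalizer (H : Set G))) (P : Sylow 2 G) :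
    (P : Subgroup G).Normal := by
  haveI : Fact (Nat.Prime 2) := ⟨Nat.prime_two⟩
  set Q : Subgroup G := sSup {N : Subgroup G | N.Normal ∧ IsPGroup 2 N} with hQdef
  haveI hQn : Q.Normal := Subgroup.sSup_normal _ fun _ hN => hN.1
  have hQ : IsPGroup 2 Q := Sylow.sSup_of_normal _ (fun _ hN => hN.2) fun _ hN => hN.1
  -- no involutions above `Q`
  have hinv : ∀ t : G ⧸ Q, t * t = 1 → t = 1 := by
    intro t ht
    have ht' : t⁻¹ = t := inv_eq_of_mul_eq_one_right ht
    have hpg : ∀ g : G ⧸ Q, IsPGroup 2 (closure ({t, g * t * g⁻¹} : Set (G ⧸ Q))) := by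
      intro g
      set t' := g * t * g⁻¹ with ht'def
      have ht2 : t' * t' = 1 := by
        rw [ht'def, show g * t * g⁻¹ * (g * t * g⁻¹) = g * (t * t) * g⁻¹ by group, ht, mul_one,
          mul_inv_cancel]
      set u := t * t' with hu
      have hinvu : ∀ k : ℕ, t * u ^ k * t⁻¹ = (u ^ k)⁻¹ := by
        intro k
        rw [← conj_pow, show t * u * t⁻¹ = u⁻¹ by
          rw [hu, mul_inv_rev, inv_eq_of_mul_eq_one_right ht2, ht', ← mul_assoc, ht, one_mul],
          inv_pow]
      have hu2 : IsPGroup 2 (zpowers u) := by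
        refine IsPGroup.iff_card.2 ⟨(orderOf u).factorization 2, ?_⟩
        rw [Nat.card_zpowers]
        suffices h : ∀ {d : ℕ}, d.Prime → d ∣ orderOf u → d = 2 by
          have h1 := Nat.eq_prime_pow_of_unique_prime_dvd (orderOf_pos u).ne' h
          conv_rhs => rw [h1, Nat.prime_two.factorization_pow, Finsupp.single_eq_same]
          exact h1
        intro d hd hdvd
        by_contra hd2
        have hv : orderOf (u ^ (orderOf u / d)) = d :=
          orderOf_pow_orderOf_div (orderOf_pos u).ne' hdvd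
        exact not_inverts hhom Q hQ hd hd2 hv ht (hinvu _)
      have hnorm : zpowers t ≤ normalizer ((zpowers u : Subgroup (G ⧸ Q)) : Set (G ⧸ Q)) := by
        rw [zpowers_le, mem_normalizer_iff]
        have key : ∀ c ∈ zpowers u, t * c * t⁻¹ ∈ zpowers u := by
          intro c hc
          rw [← mem_powers_iff_mem_zpowers] at hc
          obtain ⟨k, rfl⟩ := hc
          rw [hinvu k]
          exact inv_mem (pow_mem (mem_zpowers u) k)
        intro c
        refine ⟨key c, fun h => ?_⟩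
        have := key _ h
        rwa [show t * (t * c * t⁻¹) * t⁻¹ = (t * t) * c * (t * t)⁻¹ by group, ht, inv_one, mul_one,
          one_mul] at this
      have htp : IsPGroup 2 (zpowers t) := by
        have : orderOf t ∣ 2 ^ 1 := by
          rw [orderOf_dvd_iff_pow_eq_one, pow_one, pow_two, ht]
        obtain ⟨k, -, hk⟩ := (Nat.dvd_prime_pow Nat.prime_two).1 this
        exact IsPGroup.iff_card.2 ⟨k, by rw [Nat.card_zpowers, hk]⟩
      refine (IsPGroup.to_sup_of_normal_right' htp hu2 hnorm).to_le ((closure_le _).2 ?_)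
      rintro z (rfl | rfl)
      · exact mem_sup_left (mem_zpowers _)
      · have : t' = t * u := by rw [hu, ← mul_assoc, ht, one_mul]
        rw [this]
        exact mul_mem (mem_sup_left (mem_zpowers t)) (mem_sup_right (mem_zpowers u))
    obtain ⟨M, hMn, hMp, htM⟩ := Cfsg.Agent.Thompson.baer_suzuki hpg
    obtain ⟨x, rfl⟩ := QuotientGroup.mk'_surjective Q t
    have hle : M.comap (QuotientGroup.mk' Q) ≤ Q :=
      le_sSup (show M.comap (QuotientGroup.mk' Q) ∈ {N : Subgroup G | N.Normal ∧ IsPGroup 2 N} from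
        ⟨hMn.comap _, hMp.comap_of_ker_isPGroup _ (by rw [QuotientGroup.ker_mk']; exact hQ)⟩)
    exact (QuotientGroup.eq_one_iff x).2 (hle htM)
  have hidx : ¬ 2 ∣ Q.index := by
    intro h
    obtain ⟨t, ht⟩ := exists_prime_orderOf_dvd_card' (G := G ⧸ Q) 2 h
    have := hinv t (by rw [← pow_two, ← ht, pow_orderOf_eq_one])
    rw [this, orderOf_one] at ht
    exact absurd ht (by norm_num)
  obtain ⟨S, hS⟩ := H75.exists_sylow_le hidx
  have hSQ : (S : Subgroup G) = Q := (S.is_maximal' hQ hS).symm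
  haveI : (S : Subgroup G).Normal := hSQ ▸ hQn
  haveI := Sylow.unique_of_normal S inferInstance
  rwa [Subsingleton.elim P S]

end Cfsg.Agent.S4049
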