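import Cfsg.Statements.S4050
import Cfsg.Agent.H72.PiClosed
-- import your own Cfsg.Agent.* helpers here

set_option autoImplicit false
set_option linter.style.haveILetI false
open Cfsg

namespace Cfsg.Agent.S4050

open Subgroup
open Cfsg.Agent.Cores (IsPiNumber)
open Cfsg.Agent.H72.PiClosed

variable {G : Type*} [Group G] [Finite G]

theorem homogeneous_subgroup {π : Set ℕ} (hhom : Homogeneous π G) (U : Subgroup G) :
    Homogeneous π ↥U := by
  intro H hH hH' p hp hpd hpπ
  haveI := Fact.mk hp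
  set H0 := H.map U.subtype with hH0
  have hc : Nat.card H0 = Nat.card H := Subgroup.card_map_of_injective U.subtype_injective
  have hne : H0 ≠ ⊥ := by
    intro e; apply hH; rw [← Subgroup.card_eq_one, ← hc, e, Subgroup.card_bot]
  set N := normalizer (H : Set U)
  let f : ↥N →* MulAut H := H.normalizerMonoidHom
  have hker : f.ker = (centralizer (H : Set U)).subgroupOf N := Subgroup.normalizerMonoidHom_ker H
  rw [Subgroup.relIndex, ← hker, Subgroup.index_eq_card] at hpd
  obtain ⟨z, hz⟩ := exists_prime_orderOf_dvd_card' (G := ↥N ⧸ f.ker) p hpd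
  obtain ⟨x, ⟨a, ha⟩, hxC⟩ := exists_pi_lift f.ker hp hz
  apply hxC
  rw [hker, Subgroup.mem_subgroupOf]
  have hxπ : IsPiNumber π (orderOf ((x : U) : G)) := by
    intro r hr hrd
    rw [Subgroup.orderOf_coe, Subgroup.orderOf_coe, ha] at hrd
    rwa [(Nat.prime_dvd_prime_iff_eq hr hp).1 (hr.dvd_of_dvd_pow hrd)]
  have hxN : ((x : U) : G) ∈ normalizer (H0 : Set G) :=
    Subgroup.le_normalizer_map U.subtype (Subgroup.mem_map_of_mem U.subtype x.2)
  have h1 := mem_centralizer_of_homogeneous hhom hne (by rw [hc]; exact hH') hxN hxπ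
  rw [Subgroup.mem_centralizer_iff] at h1 ⊢
  intro h hh
  exact Subtype.ext (h1 _ (Subgroup.mem_map_of_mem U.subtype hh))

theorem aux_fwd (π : Set ℕ) (K : Subgroup G) (hK : ∀ x : G, x ∈ K ↔ IsPiNumber π (orderOf x)) :
    (∃ (n : ℕ) (H : Fin (n + 1) → Subgroup G), H 0 = ⊥ ∧ H (Fin.last n) = ⊤ ∧ Monotone H ∧ (∀ i, (H i).Normal) ∧
      ∀ i : Fin n, (∀ q : ℕ, q.Prime → q ∣ (H i.castSucc).relIndex (H i.succ) → q ∈ π) ∨
        (∀ q : ℕ, q.Prime → q ∣ (H i.castSucc).relIndex (H i.succ) → q ∉ π)) ∧ Homogeneous π G := by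
  haveI hKn : K.Normal := ⟨fun x hx g => (hK _).2 (by
    rw [show orderOf (g * x * g⁻¹) = orderOf x from (MulAut.conj g).orderOf_eq x]; exact (hK x).1 hx)⟩
  refine ⟨⟨2, ![⊥, K, ⊤], rfl, rfl, ?_, ?_, ?_⟩, ?_⟩
  · rw [Fin.monotone_iff_le_succ]
    intro i; fin_cases i <;> simp
  · intro i; fin_cases i
    · exact (inferInstance : (⊥ : Subgroup G).Normal)
    · exact hKn
    · exact (inferInstance : (⊤ : Subgroup G).Normal)
  · intro i; fin_cases i
    · left
      intro q hq hqd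
      simp [Subgroup.relIndex_bot_left] at hqd
      haveI := Fact.mk hq
      obtain ⟨z, hz⟩ := exists_prime_orderOf_dvd_card' (G := K) q hqd
      exact (hK z).1 z.2 q hq (by rw [Subgroup.orderOf_coe, hz])
    · right
      intro q hq hqd hqπ
      simp [Subgroup.relIndex_top_right, Subgroup.index_eq_card] at hqd
      haveI := Fact.mk hq
      obtain ⟨z, hz⟩ := exists_prime_orderOf_dvd_card' (G := G ⧸ K) q hqd
      obtain ⟨x, ⟨a, ha⟩, hxK⟩ := exists_pi_lift K hq hz
      refine hxK ((hK x).2 fun r hr hrd => ?_)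
      rw [ha] at hrd
      rwa [(Nat.prime_dvd_prime_iff_eq hr hq).1 (hr.dvd_of_dvd_pow hrd)]
  · intro H hH hH' p hp hpd hpπ
    haveI := Fact.mk hp
    set N := normalizer (H : Set G)
    let f : ↥N →* MulAut H := H.normalizerMonoidHom
    have hker : f.ker = (centralizer (H : Set G)).subgroupOf N := Subgroup.normalizerMonoidHom_ker H
    rw [Subgroup.relIndex, ← hker, Subgroup.index_eq_card] at hpd
    obtain ⟨z, hz⟩ := exists_prime_orderOf_dvd_card' (G := ↥N ⧸ f.ker) p hpd
    obtain ⟨x, ⟨a, ha⟩, hxC⟩ := exists_pi_lift f.ker hp hz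
    apply hxC
    rw [hker, Subgroup.mem_subgroupOf, Subgroup.mem_centralizer_iff]
    have hxK : (x : G) ∈ K := (hK _).2 fun r hr hrd => by
      rw [Subgroup.orderOf_coe, ha] at hrd
      rwa [(Nat.prime_dvd_prime_iff_eq hr hp).1 (hr.dvd_of_dvd_pow hrd)]
    intro h hh
    have hcK : (x : G) * h * (x : G)⁻¹ * h⁻¹ ∈ K := by
      have := K.mul_mem hxK (hKn.conj_mem _ (K.inv_mem hxK) h)
      simpa [mul_assoc] using this
    have hcH : (x : G) * h * (x : G)⁻¹ * h⁻¹ ∈ H :=
      H.mul_mem ((Subgroup.mem_normalizer_iff.1 x.2 h).1 hh) (H.inv_mem hh)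
    have h1 : orderOf ((x : G) * h * (x : G)⁻¹ * h⁻¹) = 1 :=
      IsPiNumber.eq_one ((hK _).1 hcK)
        (IsPiNumber.of_dvd (π := πᶜ) hH' (H.orderOf_dvd_natCard hcH))
    rw [orderOf_eq_one_iff, mul_inv_eq_one, mul_inv_eq_iff_eq_mul] at h1
    exact h1.symm

theorem piClosed_transfer {π : Set ℕ} {A B : Type*} [Group A] [Group B] (e : A ≃* B)
    (h : ∃ L : Subgroup A, ∀ x : A, x ∈ L ↔ IsPiNumber π (orderOf x)) :
    ∃ L : Subgroup B, ∀ x : B, x ∈ L ↔ IsPiNumber π (orderOf x) := by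
  obtain ⟨L, hL⟩ := h
  refine ⟨L.comap e.symm.toMonoidHom, fun x => ?_⟩
  show e.symm x ∈ L ↔ _
  rw [hL, MulEquiv.orderOf_eq]

theorem aux_bwd (π : Set ℕ) (n : ℕ) (H : Fin (n + 1) → Subgroup G) (h0 : H 0 = ⊥)
    (htop : H (Fin.last n) = ⊤) (hmono : Monotone H) (hn : ∀ i, (H i).Normal)
    (hstep : ∀ i : Fin n, IsPiNumber π ((H i.castSucc).relIndex (H i.succ)) ∨
      IsPiNumber πᶜ ((H i.castSucc).relIndex (H i.succ)))
    (hhom : Homogeneous π G) :
    ∃ K : Subgroup G, ∀ x : G, x ∈ K ↔ IsPiNumber π (orderOf x) := by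
  have key : ∀ i : Fin (n + 1), ∃ R : Subgroup ↥(H i), ∀ x : ↥(H i), x ∈ R ↔ IsPiNumber π (orderOf x) := by
    intro i
    induction i using Fin.induction with
    | zero =>
      refine ⟨⊤, fun x => iff_of_true trivial ?_⟩
      have : x = 1 := Subtype.ext (Subgroup.mem_bot.1 (h0 ▸ x.2))
      rw [this, orderOf_one]
      intro p hp hpd
      exact absurd (Nat.dvd_one.1 hpd) hp.ne_one
    | succ i ih =>
      haveI := hn i.castSucc
      refine piClosed_of_extension (homogeneous_subgroup hhom _) ((H i.castSucc).subgroupOf (H i.succ))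
        (piClosed_transfer (Subgroup.subgroupOfEquivOfLe (hmono (Fin.castSucc_le_succ i))).symm ih) ?_
      have hcard : Nat.card (↥(H i.succ) ⧸ (H i.castSucc).subgroupOf (H i.succ)) =
          (H i.castSucc).relIndex (H i.succ) := rfl
      rcases hstep i with h | h
      · exact ⟨⊤, fun x => iff_of_true trivial (h.of_dvd (hcard ▸ orderOf_dvd_natCard x))⟩
      · refine ⟨⊥, fun x => ⟨fun hx => ?_, fun hx => ?_⟩⟩
        · rw [Subgroup.mem_bot] at hx
          rw [hx, orderOf_one]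
          intro p hp hpd
          exact absurd (Nat.dvd_one.1 hpd) hp.ne_one
        · rw [Subgroup.mem_bot, ← orderOf_eq_one_iff]
          exact IsPiNumber.eq_one hx (h.of_dvd (hcard ▸ orderOf_dvd_natCard x))
  obtain ⟨R, hR⟩ := key (Fin.last n)
  exact piClosed_transfer (((MulEquiv.subgroupCongr htop)).trans Subgroup.topEquiv) ⟨R, hR⟩


/-- Let π be a set of primes and G a finite group. The π-elements of G (elements whose order is divisible only by primes of π) form a subgroup if and only if G is π-separable (it has a chain of normal subgroups from 1 to G with each successive index divisible only by primes in π or only by primes outside π) and N_G(H)/C_G(H) is a π'-group for every nontrivial π'-subgroup H of G. -/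
theorem result {G : Type*} [Group G] [Finite G] (π : Set ℕ)
    (hπ : ∀ p ∈ π, p.Prime) :
    (∃ K : Subgroup G, ∀ x : G, x ∈ K ↔ ∀ p : ℕ, p.Prime → p ∣ orderOf x → p ∈ π) ↔
    ((∃ (n : ℕ) (H : Fin (n + 1) → Subgroup G), H 0 = ⊥ ∧ H (Fin.last n) = ⊤ ∧ Monotone H ∧ (∀ i, (H i).Normal) ∧
      ∀ i : Fin n, (∀ q : ℕ, q.Prime → q ∣ (H i.castSucc).relIndex (H i.succ) → q ∈ π) ∨
        (∀ q : ℕ, q.Prime → q ∣ (H i.castSucc).relIndex (H i.succ) → q ∉ π)) ∧
     (∀ H : Subgroup G, H ≠ ⊥ → (∀ p : ℕ, p.Prime → p ∣ Nat.card ↥H → p ∉ π) →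
        ∀ p : ℕ, p.Prime → p ∣ (Subgroup.centralizer (H : Set G)).relIndex (Subgroup.normalizer (H : Set G)) → p ∉ π)) := by
  constructor
  · rintro ⟨K, hK⟩
    exact aux_fwd π K hK
  · rintro ⟨⟨n, H, h0, htop, hmono, hn, hstep⟩, hhom⟩
    exact aux_bwd π n H h0 htop hmono hn hstep hhom

end Cfsg.Agent.S4050
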