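import Mathlib
import Cfsg.Statements.S4056
import Cfsg.Agent.PGroups.Basic

set_option autoImplicit false
open Cfsg

namespace Cfsg.Agent.S4056

open Subgroup
open scoped commutatorElement

theorem result {P : Type*} [Group P] [Finite P] (hP : IsPGroup 2 P)
    (hcl : Group.nilpotencyClass P ≤ 2) (hexp : Monoid.exponent P ∣ 4) :
    frattini P ≤ Subgroup.center P ∧ Cfsg.IsElementaryAbelian 2 (frattini P) := by
  haveI : Fact (Nat.Prime 2) := ⟨Nat.prime_two⟩
  haveI : Group.IsNilpotent P := hP.isNilpotent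
  have h4 : ∀ x : P, x ^ 4 = 1 := fun x => by
    obtain ⟨c, hc⟩ := hexp
    rw [hc, pow_mul, Monoid.pow_exponent_eq_one, one_pow]
  -- commutators are central
  have hcc : ∀ x y z : P, Commute ⁅x, y⁆ z := by
    intro x y z
    have hu : Subgroup.upperCentralSeries P 2 = ⊤ := by
      rw [eq_top_iff, ← Subgroup.upperCentralSeries_nilpotencyClass (G := P)]
      exact Subgroup.upperCentralSeries_mono P hcl
    have hy : ⁅x, y⁆ ∈ Subgroup.upperCentralSeries P 1 :=
      (Subgroup.mem_upperCentralSeries_succ_iff).1 (hu ▸ mem_top x) y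
    rw [Subgroup.upperCentralSeries_one] at hy
    exact ((mem_center_iff.1 hy) z).symm
  -- y x = c x y with c = [y, x]
  have hswap : ∀ x y : P, y * x = ⁅y, x⁆ * (x * y) := fun x y => by
    rw [commutatorElement_def]; group
  have hcsq : ∀ x y : P, ⁅y, x⁆ ^ 2 = 1 := by
    intro x y
    set c := ⁅y, x⁆
    have h6 : (x * y) ^ 4 = c ^ 6 * (x ^ 4 * y ^ 4) := by
      have hx : Commute c x := hcc y x x
      have hy : Commute c y := hcc y x y
      have e1 : y * x = c * (x * y) := hswap x y
      have m1 : ∀ n : ℕ, y ^ n * x = c ^ n * (x * y ^ n) := by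
        intro n
        induction n with
        | zero => simp
        | succ n ih =>
          calc y ^ (n + 1) * x = y * (y ^ n * x) := by rw [pow_succ']; group
            _ = y * c ^ n * (x * y ^ n) := by rw [ih]; group
            _ = c ^ n * y * (x * y ^ n) := by rw [(hy.symm.pow_right n).eq]
            _ = c ^ n * (y * x) * y ^ n := by group
            _ = c ^ (n + 1) * (x * y ^ (n + 1)) := by rw [e1, pow_succ c, pow_succ' y]; group
      have step : ∀ n k : ℕ, (x * y) ^ n = c ^ k * (x ^ n * y ^ n) →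
          (x * y) ^ (n + 1) = c ^ (k + n) * (x ^ (n + 1) * y ^ (n + 1)) := by
        intro n k hk
        calc (x * y) ^ (n + 1) = c ^ k * (x ^ n * y ^ n) * (x * y) := by rw [pow_succ, hk]
          _ = c ^ k * x ^ n * (y ^ n * x) * y := by group
          _ = c ^ k * (x ^ n * c ^ n) * (x * y ^ n) * y := by rw [m1]; group
          _ = c ^ k * (c ^ n * x ^ n) * (x * y ^ n) * y := by rw [(hx.pow_pow n n).eq]
          _ = c ^ (k + n) * (x ^ (n + 1) * y ^ (n + 1)) := by
            rw [pow_add, pow_succ x, pow_succ y]; group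
      exact step 3 3 (step 2 1 (step 1 0 (by simp)))
    rw [h4, h4, h4, one_mul, mul_one] at h6
    calc c ^ 2 = c ^ 4 * c ^ 2 := by rw [h4, one_mul]
      _ = c ^ 6 := by rw [← pow_add]
      _ = 1 := h6.symm
  -- central elements killed by squaring
  let K : Subgroup P :=
    { carrier := {a | a ∈ center P ∧ a ^ 2 = 1}
      one_mem' := ⟨one_mem _, one_pow 2⟩
      mul_mem' := fun {a b} ha hb => ⟨mul_mem ha.1 hb.1, by
        have hab : Commute a b := mem_center_iff.1 hb.1 a
        rw [hab.mul_pow, ha.2, hb.2, one_mul]⟩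
      inv_mem' := fun {a} ha => ⟨inv_mem ha.1, by rw [inv_pow, ha.2, inv_one]⟩ }
  have hsq : ∀ x : P, x ^ 2 ∈ K := by
    intro x
    refine ⟨mem_center_iff.2 fun y => ?_, by rw [← pow_mul]; exact h4 x⟩
    set c := ⁅y, x⁆ with hc
    have hx : Commute c x := hcc y x x
    calc y * x ^ 2 = (y * x) * x := by rw [pow_two]; group
      _ = c * (x * y) * x := by rw [hswap x y, ← hc]
      _ = c * x * (y * x) := by group
      _ = c * x * (c * (x * y)) := by rw [hswap x y, ← hc]
      _ = c * (x * c) * (x * y) := by group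
      _ = c * (c * x) * (x * y) := by rw [hx.eq]
      _ = c ^ 2 * (x ^ 2 * y) := by rw [pow_two, pow_two]; group
      _ = x ^ 2 * y := by rw [hcsq, one_mul]
  have hcom : commutator P ≤ K := by
    rw [_root_.commutator_def, commutator_le]
    exact fun a _ b _ => ⟨mem_center_iff.2 fun z => ((hcc a b z).eq).symm, hcsq b a⟩
  haveI : K.Normal := ⟨fun k hk g => by
    rw [(mem_center_iff.1 hk.1 g), mul_inv_cancel_right]; exact hk⟩
  have hle : frattini P ≤ K := Cfsg.Agent.PGroups.frattini_le_of_commutator_le K hcom fun x => hsq x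
  refine ⟨fun x hx => (hle hx).1, ⟨⟨fun a b => Subtype.ext ?_⟩⟩, fun a ha => (hle ha).2⟩
  exact (mem_center_iff.1 (hle b.2).1 (a : P))

end Cfsg.Agent.S4056
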