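import Cfsg.Statements.S4057
import Cfsg.Agent.H75.UniTriangular
import Cfsg.Agent.PGroups.PCentral
import Cfsg.Agent.PGroups.MaxAbelian
import Cfsg.Agent.PGroups.Burnside

set_option autoImplicit false
open Cfsg

namespace Cfsg.Agent.S4057

open Cfsg.Agent
open scoped commutatorElement

universe u

/-- A chain of normal subgroups with steps of order `p` below a normal subgroup. -/
theorem exists_chain {P : Type u} [Group P] [Finite P] {p : ℕ} [Fact p.Prime] (hP : IsPGroup p P)
    (E : Subgroup P) [E.Normal] {e : ℕ} (he : Nat.card E = p ^ e) :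
    ∃ F : ℕ → Subgroup P, (∀ j ≤ e, (F j).Normal ∧ F j ≤ E ∧ Nat.card ↥(F j) = p ^ j) ∧
      ∀ i j, i ≤ j → j ≤ e → F i ≤ F j := by
  classical
  have hstep : ∀ N : Subgroup P, N.Normal ∧ N ≤ E ∧ Nat.card N < p ^ e →
      ∃ M : Subgroup P, M.Normal ∧ N ≤ M ∧ M ≤ E ∧ Nat.card M = p * Nat.card N := by
    rintro N ⟨hN, hNE, hlt⟩
    exact PGroups.exists_normal_card_mul hP N E (lt_of_le_of_ne hNE fun heq => by
      subst heq
      exact absurd he hlt.ne)
  choose! f hf using hstep
  have hsucc : ∀ j, f^[j + 1] (⊥ : Subgroup P) = f (f^[j] ⊥) := fun j => Function.iterate_succ_apply' f j ⊥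
  have hF : ∀ j ≤ e, (f^[j] (⊥ : Subgroup P)).Normal ∧ f^[j] ⊥ ≤ E ∧
      Nat.card ↥(f^[j] (⊥ : Subgroup P)) = p ^ j := by
    intro j
    induction j with
    | zero =>
      intro _
      exact ⟨(inferInstance : (⊥ : Subgroup P).Normal), bot_le,
        (Subgroup.card_bot (G := P)).trans (pow_zero p).symm⟩
    | succ j ih =>
      intro hj
      obtain ⟨h1, h2, h3⟩ := ih (by omega)
      obtain ⟨g1, g2, g3, g4⟩ := hf _ ⟨h1, h2, h3 ▸ Nat.pow_lt_pow_right (Fact.out : p.Prime).one_lt hj⟩
      rw [hsucc]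
      exact ⟨g1, g3, g4.trans (by rw [h3, pow_succ'])⟩
  refine ⟨fun j => f^[j] ⊥, hF, fun i j hij hj => ?_⟩
  induction j, hij using Nat.le_induction with
  | base => exact le_rfl
  | succ j hij ih =>
    obtain ⟨h1, h2, h3⟩ := hF j (by omega)
    show _ ≤ f^[j + 1] ⊥
    rw [hsucc]
    exact (ih (by omega)).trans (hf _ ⟨h1, h2, h3 ▸ Nat.pow_lt_pow_right (Fact.out : p.Prime).one_lt hj⟩).2.1

/-- A `p`-central `p`-group (`p` odd) needs no more generators than the rank of its elements of order `p`. -/
theorem exists_generators_pCentral {K : Type u} [Group K] [Finite K] {p e : ℕ} [Fact p.Prime] (hp : p ≠ 2)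
    (hK : IsPGroup p K) (hc : ∀ x : K, x ^ p = 1 → ∀ y : K, Commute x y)
    (he : Nat.card {x : K // x ^ p = 1} ≤ p ^ e) :
    ∃ S : Finset K, S.card ≤ e ∧ Subgroup.closure (S : Set K) = ⊤ := by
  have hc' : PGroups.IsPCentralIn p (⊤ : Subgroup K) := fun x _ hx c _ => hc x hx c
  have h := PGroups.card_le_powerClosure_mul_torsion hp (Nat.card K) K le_rfl hK ⊤ hc'
  have hpc : Cfsg.powerClosure p 1 (⊤ : Subgroup K) ≤ frattini K := by
    rw [Cfsg.powerClosure, Subgroup.closure_le]
    rintro _ ⟨x, -, rfl⟩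
    rw [pow_one]
    exact PGroups.pow_mem_frattini hK x
  obtain ⟨n, hn⟩ := hK.index (frattini K)
  have ht : Nat.card (PGroups.torsionIn hc') ≤ p ^ e := le_trans
    (Nat.card_le_card_of_injective (fun x => (⟨x.1, x.2.2⟩ : {x : K // x ^ p = 1}))
      fun a b hab => Subtype.ext (congrArg (fun z : {x : K // x ^ p = 1} => (z : K)) hab)) he
  rw [Subgroup.card_top, ← Subgroup.card_mul_index (frattini K), hn] at h
  have hle : p ^ n ≤ p ^ e := Nat.le_of_mul_le_mul_left
    (h.trans (Nat.mul_le_mul (Subgroup.card_le_of_le hpc) ht)) Nat.card_pos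
  obtain ⟨S, hS, hS'⟩ := PGroups.exists_generators hK hn
  exact ⟨S, hS ▸ (Nat.pow_le_pow_iff_right (Fact.out : p.Prime).one_lt).mp hle, hS'⟩


/-- Let p be an odd prime and P a finite p-group in which every normal abelian subgroup can be generated by k elements. Then every subgroup of P can be generated by at most ⌊k(k+4)/4⌋ elements. -/
theorem result {P : Type*} [Group P] [Finite P] {p : ℕ} [Fact p.Prime]
    (hp : p ≠ 2) (hP : IsPGroup p P) (k : ℕ)
    (hab : ∀ A : Subgroup P, A.Normal → IsMulCommutative A → ∃ S : Finset P, S.card ≤ k ∧ Subgroup.closure (S : Set P) = A) :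
    ∀ H : Subgroup P, ∃ S : Finset P, S.card ≤ k * (k + 4) / 4 ∧ Subgroup.closure (S : Set P) = H := by
  classical
  intro H
  obtain ⟨E, ⟨hEn, hEc, hEe⟩, hEmax⟩ := Set.Finite.exists_maximalFor id
    {E : Subgroup P | E.Normal ∧ IsMulCommutative E ∧ ∀ a ∈ E, a ^ p = 1} (Set.toFinite _)
    ⟨⊥, inferInstance, ⟨⟨fun a b => Subsingleton.elim _ _⟩⟩, fun a ha => by rw [Subgroup.mem_bot.mp ha, one_pow]⟩
  haveI := hEn
  letI : CommGroup E := { (inferInstance : Group E) with mul_comm := hEc.is_comm.comm }
  have hp1 : p.Prime := Fact.out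
  have hOmega : ∀ x ∈ Subgroup.centralizer (E : Set P), x ^ p = 1 → x ∈ E := fun x hx hxp =>
    PGroups.mem_of_pow_eq_one hP (n := 1) (by rw [pow_one]; exact hp) hEc (fun a ha => by rw [pow_one]; exact hEe a ha)
      (fun B hB hBc hBe hle => le_antisymm (hEmax ⟨hB, hBc, fun b hb => by simpa using hBe b hb⟩ hle) hle)
      hx (by rw [pow_one]; exact hxp)
  obtain ⟨e, he⟩ := IsPGroup.iff_card.mp (hP.to_subgroup E)
  have hek : e ≤ k := by
    obtain ⟨S, hS, hSE⟩ := hab E hEn hEc
    have hfr : frattini E = ⊥ := by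
      rw [PGroups.frattini_eq (hP.to_subgroup E), sup_eq_bot_iff]
      refine ⟨?_, ?_⟩
      · rw [commutator_eq_bot_iff_center_eq_top, eq_top_iff]
        exact fun a _ => Subgroup.mem_center_iff.mpr fun b => mul_comm b a
      · rw [Subgroup.closure_eq_bot_iff]
        rintro _ ⟨a, rfl⟩
        exact Subtype.ext (hEe a a.2)
    have hn : (frattini E).index = p ^ e := by rw [hfr, Subgroup.index_bot, he]
    have hcl : Subgroup.closure ((S.subtype (· ∈ E) : Finset E) : Set E) = ⊤ := by
      refine Subgroup.map_injective E.subtype_injective ?_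
      rw [MonoidHom.map_closure, ← MonoidHom.range_eq_map, Subgroup.range_subtype]
      refine Eq.trans ?_ hSE
      congr 1
      ext x
      simp only [Set.mem_image, Finset.mem_coe, Finset.mem_subtype, Subgroup.coe_subtype]
      exact ⟨fun ⟨y, hy, hyx⟩ => hyx ▸ hy, fun hx => ⟨⟨x, hSE ▸ Subgroup.subset_closure hx⟩, hx, rfl⟩⟩
    exact ((PGroups.burnside_basis (hP.to_subgroup E) hn hcl).1.trans
      (by rw [Finset.card_subtype]; exact Finset.card_filter_le _ _)).trans hS
  -- a chief series below `E`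
  obtain ⟨F, hF, hmono⟩ := exists_chain hP E he
  have hv : ∀ i : Fin e, ∃ v : E, (v : P) ∈ F (i + 1) ∧ (v : P) ∉ F i := by
    intro i
    have hlt : ¬ F (i + 1) ≤ F i := fun hle => by
      have := Subgroup.card_le_of_le hle
      rw [(hF _ i.2).2.2, (hF _ i.2.le).2.2] at this
      exact absurd ((Nat.pow_le_pow_iff_right hp1.one_lt).mp this) (by omega)
    obtain ⟨x, hx1, hx2⟩ := SetLike.not_le_iff_exists.mp hlt
    exact ⟨⟨x, (hF _ i.2).2.1 hx1⟩, hx1, hx2⟩
  choose v hv1 hv2 using hv
  haveI : Module (ZMod p) (Additive E) :=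
    AddCommGroup.zmodModule (fun x => by
      apply Additive.toMul.injective
      exact Subtype.ext (hEe _ (Additive.toMul x).2))
  let Ψ : (Fin e → ZMod p) →ₗ[ZMod p] Additive E :=
    Fintype.linearCombination (ZMod p) (fun i => Additive.ofMul (v i))
  have hmem : ∀ (c : Fin e → ZMod p) (j : ℕ), ((Additive.toMul (Ψ c) : E) : P) ∈ F j →
      ∀ i : Fin e, j ≤ i → c i = 0 := by
    intro c j hcj
    by_contra hcon
    push Not at hcon
    obtain ⟨i0, hi0, hci0⟩ := hcon
    set s := Finset.univ.filter (fun i : Fin e => c i ≠ 0) with hs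
    have hsne : s.Nonempty := ⟨i0, Finset.mem_filter.mpr ⟨Finset.mem_univ _, hci0⟩⟩
    set m := s.max' hsne with hm
    have hms : c m ≠ 0 := (Finset.mem_filter.mp (s.max'_mem hsne)).2
    have hjm : j ≤ m := hi0.trans (Fin.le_def.mp (s.le_max' i0 (Finset.mem_filter.mpr ⟨Finset.mem_univ _, hci0⟩)))
    let W : AddSubgroup (Additive E) := Subgroup.toAddSubgroup ((F m).subgroupOf E)
    have hW : ∀ (r : ZMod p) (w : Additive E), w ∈ W → r • w ∈ W := fun r w hw =>
      ((AddSubgroup.toZModSubmodule p) W).smul_mem r hw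
    have hsum : Ψ c = ∑ i, c i • Additive.ofMul (v i) := Fintype.linearCombination_apply ..
    have h1 : Ψ c ∈ W := hmono j m hjm m.2.le hcj
    have h2 : c m • Additive.ofMul (v m) ∈ W := by
      have h3 : ∑ i ∈ Finset.univ.erase m, c i • Additive.ofMul (v i) ∈ W := by
        refine W.sum_mem fun i hi => ?_
        by_cases hci : c i = 0
        · rw [hci, zero_smul]; exact W.zero_mem
        · have hle : i ≤ m := s.le_max' i (Finset.mem_filter.mpr ⟨Finset.mem_univ _, hci⟩)
          have hlt : (i : ℕ) < m := Fin.lt_def.mp (lt_of_le_of_ne hle (Finset.mem_erase.mp hi).1)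
          exact hW _ _ (hmono _ _ hlt m.2.le (hv1 i) : Additive.ofMul (v i) ∈ W)
      rw [hsum, ← Finset.add_sum_erase _ _ (Finset.mem_univ m)] at h1
      exact (AddSubgroup.add_mem_cancel_right W h3).mp h1
    have h4 := hW (c m)⁻¹ _ h2
    rw [smul_smul, inv_mul_cancel₀ hms, one_smul] at h4
    exact hv2 m h4
  have hΨinj : Function.Injective Ψ := by
    rw [injective_iff_map_eq_zero]
    intro c hc
    funext i
    exact hmem c 0 (by rw [hc]; exact (F 0).one_mem) i (Nat.zero_le _)
  have hΨ : Function.Bijective Ψ := by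
    refine (Nat.bijective_iff_injective_and_card Ψ).mpr ⟨hΨinj, ?_⟩
    rw [Nat.card_fun, Nat.card_zmod, Nat.card_fin, Nat.card_congr (Additive.toMul (α := E)), he]
  let Φ := LinearEquiv.ofBijective Ψ hΨ
  -- the matrices of the action
  let ρ : H →* MulAut E := (MulAut.conjNormal (H := E)).comp H.subtype
  let lin : MulAut E → (Additive E →ₗ[ZMod p] Additive E) := fun a =>
    (MonoidHom.toAdditive a.toMonoidHom).toZModLinearMap p
  let M : MulAut E →* Matrix (Fin e) (Fin e) (ZMod p) :=
    { toFun := fun a => LinearMap.toMatrix' (Φ.symm.toLinearMap.comp ((lin a).comp Φ.toLinearMap))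
      map_one' := by
        rw [← LinearMap.toMatrix'_id]
        congr 1
        refine LinearMap.ext fun x => ?_
        exact Φ.symm_apply_apply x
      map_mul' := fun a b => by
        rw [← LinearMap.toMatrix'_comp]
        congr 1
        refine LinearMap.ext fun x => ?_
        show Φ.symm (lin (a * b) (Φ x)) = Φ.symm (lin a (Φ (Φ.symm (lin b (Φ x)))))
        rw [Φ.apply_symm_apply]
        rfl }
  have hMinj : Function.Injective M := by
    intro a b hab
    have h1 := LinearMap.toMatrix'.injective hab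
    refine MulEquiv.ext fun x => ?_
    have h2 := congrArg Φ (LinearMap.congr_fun h1 (Φ.symm (Additive.ofMul x)))
    simp only [LinearMap.comp_apply, LinearEquiv.coe_coe, LinearEquiv.apply_symm_apply] at h2
    exact congrArg Additive.toMul h2
  let Q := ρ.range
  have hQ : IsPGroup p Q := (hP.to_subgroup H).of_surjective ρ.rangeRestrict ρ.rangeRestrict_surjective
  have htri : ∀ q : Q, H75.StrictUpper ((M.comp Q.subtype) q - 1) := by
    rintro ⟨_, h, rfl⟩ i j hji
    rw [Matrix.sub_apply]
    show LinearMap.toMatrix' (Φ.symm.toLinearMap.comp ((lin (ρ h)).comp Φ.toLinearMap)) i j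
      - (1 : Matrix (Fin e) (Fin e) (ZMod p)) i j = 0
    rw [LinearMap.toMatrix'_apply]
    set b := Additive.ofMul (v j) with hb
    have hΦb : Φ (Pi.single j 1) = b := by
      show Ψ (Pi.single j 1) = b
      rw [Fintype.linearCombination_apply_single, one_smul]
    have hw : ((Additive.toMul (Ψ (Φ.symm (lin (ρ h) b - b))) : E) : P) ∈ F j := by
      have he' : Ψ (Φ.symm (lin (ρ h) b - b)) = lin (ρ h) b - b := Φ.apply_symm_apply _
      rw [he']
      obtain ⟨g1, g2, g3⟩ := hF _ j.2.le
      obtain ⟨g1', g2', g3'⟩ := hF _ j.2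
      haveI := g1; haveI := g1'
      have := PGroups.commutatorElement_mem_of_card hP (hmono j (j + 1) (by omega) j.2)
        (by rw [g3, g3', pow_succ']) (hv1 j) (h : P)
      show ((ρ h (v j) : E) : P) / (v j : P) ∈ F j
      rw [div_eq_mul_inv, ← show ⁅(h : P), (v j : P)⁆ = ((ρ h (v j) : E) : P) * (v j : P)⁻¹ from rfl]
      exact this
    have h0 := hmem _ j hw i (Fin.le_def.mp hji)
    rw [map_sub, Pi.sub_apply] at h0
    have hPS : (fun i' : Fin e => if i' = j then (1 : ZMod p) else 0) = Pi.single j 1 := by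
      funext i'; simp [Pi.single_apply]
    simp only [LinearMap.comp_apply, LinearEquiv.coe_coe, hΦb]
    have hΦb' : Φ.symm b = Pi.single j 1 := by rw [← hΦb, Φ.symm_apply_apply]
    rw [hΦb', Pi.single_apply] at h0
    rw [Matrix.one_apply]
    exact h0
  obtain ⟨SQ, hSQ, hSQtop⟩ := H75.exists_generators_unitriangular hQ (M.comp Q.subtype)
    (hMinj.comp Q.subtype_injective) htri
  -- the kernel
  let K := ρ.ker
  have hKC : ∀ x : H, x ∈ K → (x : P) ∈ Subgroup.centralizer (E : Set P) := by
    intro x hx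
    rw [Subgroup.mem_centralizer_iff]
    intro a ha
    have h1 := congrArg Subtype.val (DFunLike.congr_fun (MonoidHom.mem_ker.mp hx) ⟨a, ha⟩)
    change (x : P) * a * (x : P)⁻¹ = a at h1
    exact (mul_inv_eq_iff_eq_mul.mp h1).symm
  obtain ⟨SK, hSK, hSKtop⟩ := exists_generators_pCentral (K := K) (p := p) (e := e) hp ((hP.to_subgroup H).to_subgroup K)
    (fun x hx y => by
      have hxE : ((x : H) : P) ∈ E := hOmega _ (hKC x x.2) (by
        have := congrArg (fun z : K => ((z : H) : P)) hx
        simpa using this)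
      refine Subtype.ext (Subtype.ext ?_)
      exact Subgroup.mem_centralizer_iff.mp (hKC y y.2) _ hxE)
    (by
      refine le_trans (Nat.card_le_card_of_injective
        (fun x : {x : K // x ^ p = 1} => (⟨((x.1 : H) : P), hOmega _ (hKC x.1 x.1.2) (by
          have := congrArg (fun z : K => ((z : H) : P)) x.2
          simpa using this)⟩ : E)) (fun a b hab =>
            Subtype.ext (Subtype.ext (Subtype.ext (congrArg (fun z : E => (z : P)) hab))))) (le_of_eq he))
  -- combine
  let s : Q → H := fun q => Function.surjInv ρ.rangeRestrict_surjective q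
  have hsr : ∀ q, ρ.rangeRestrict (s q) = q := Function.surjInv_eq ρ.rangeRestrict_surjective
  set S' : Finset H := SQ.image s ∪ SK.image (fun x : K => (x : H)) with hS'
  refine ⟨S'.image (fun x : H => (x : P)), ?_, ?_⟩
  · refine Finset.card_image_le.trans ((Finset.card_union_le _ _).trans ?_)
    refine (Nat.add_le_add (Finset.card_image_le.trans hSQ) (Finset.card_image_le.trans hSK)).trans ?_
    have h1 : e ^ 2 ≤ k ^ 2 := Nat.pow_le_pow_left hek 2
    have h2 : k * (k + 4) = k ^ 2 + k * 4 := by ring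
    omega
  · have htop : Subgroup.closure (S' : Set H) = ⊤ := by
      rw [eq_top_iff]
      intro x _
      have hK' : ∀ y : K, (y : H) ∈ Subgroup.closure (S' : Set H) := by
        intro y
        have hy : y ∈ Subgroup.closure (SK : Set K) := hSKtop ▸ Subgroup.mem_top y
        refine (Subgroup.closure_le ((Subgroup.closure (S' : Set H)).comap K.subtype)).mpr ?_ hy
        intro z hz
        exact Subgroup.subset_closure (Finset.mem_coe.mpr (Finset.mem_union_right _ (Finset.mem_image_of_mem _ hz)))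
      have hq : ρ.rangeRestrict x ∈ (Subgroup.closure (S' : Set H)).map ρ.rangeRestrict := by
        have hy : ρ.rangeRestrict x ∈ Subgroup.closure (SQ : Set Q) := hSQtop ▸ Subgroup.mem_top _
        refine (Subgroup.closure_le _).mpr ?_ hy
        intro z hz
        exact ⟨s z, Subgroup.subset_closure (Finset.mem_coe.mpr (Finset.mem_union_left _
          (Finset.mem_image_of_mem _ hz))), hsr z⟩
      obtain ⟨y, hy, hyx⟩ := hq
      have hk' : y⁻¹ * x ∈ K := by
        rw [MonoidHom.mem_ker, map_mul, map_inv, inv_mul_eq_one]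
        exact congrArg (fun z : Q => (z : MulAut E)) hyx
      have := mul_mem hy (hK' ⟨_, hk'⟩)
      simpa using this
    have h3 := congrArg (Subgroup.map H.subtype) htop
    rw [MonoidHom.map_closure, ← MonoidHom.range_eq_map, Subgroup.range_subtype] at h3
    rw [Finset.coe_image]
    exact h3

end Cfsg.Agent.S4057
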