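import Mathlib
import Cfsg.Statements.S4058
import Cfsg.Agent.PGroups.Basic
import Cfsg.Agent.CharBasic.Integral
import Cfsg.Agent.CharInduce.Ops
import Cfsg.Agent.H75.Indicator

set_option autoImplicit false
open Cfsg
open scoped ComplexConjugate

namespace Cfsg.Agent.S4058

open CharBasic

variable {G : Type*} [Group G]

/-- Homomorphisms to `ℂˣ` killing squares. -/
def sign (G : Type*) [Group G] : Subgroup (G →* ℂˣ) where
  carrier := {l | ∀ g, l (g * g) = 1}
  one_mem' := fun g => rfl
  mul_mem' := fun {a b} ha hb g => by rw [MonoidHom.mul_apply, ha g, hb g, one_mul]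
  inv_mem' := fun {a} ha g => by rw [MonoidHom.inv_apply, ha g, inv_one]

theorem sign_sq (l : sign G) (g : G) : (l.1 g : ℂ) * (l.1 g : ℂ) = 1 := by
  rw [← Units.val_mul, ← map_mul, l.2 g, Units.val_one]

theorem sign_conj (l : sign G) (g : G) : conj (l.1 g : ℂ) = (l.1 g : ℂ) := by
  rcases mul_self_eq_one_iff.1 (sign_sq l g) with h | h <;> simp [h]

variable [Fintype G]

/-- Twisting an irreducible character by a sign character. -/
theorem twist_isIrr (l : sign G) (χ : IrrCharacter G) :
    IsIrrCharacter G (fun g => (l.1 g : ℂ) * (χ : G → ℂ) g) := by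
  refine CharInduce.isIrr_of_norm_one
    (CharInduce.IsChar.mul (CharInduce.isCharacter_hom l.1) (IsIrr.isCharacter χ.2)) ?_
  rw [classInner_def, ← classInner_irr_self χ.2, classInner_def]
  congr 1
  refine Finset.sum_congr rfl fun g _ => ?_
  simp only [Pi.mul_apply, map_mul, sign_conj]
  linear_combination ((χ : G → ℂ) g * conj ((χ : G → ℂ) g)) * sign_sq l g

theorem result {G : Type*} [Group G] [Finite G] (hG : IsPGroup 2 G) (k : ℕ)
    (hgen : 2 ^ (2 * k + 1) ≤ Nat.card (G ⧸ frattini G)) :
    2 ^ (k + 1) ∣ Nat.card {x : G // x ^ 2 = 1} := by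
  classical
  haveI : Fact (Nat.Prime 2) := ⟨Nat.prime_two⟩
  have : Fintype G := Fintype.ofFinite G
  -- the sign characters: at least 2^(2k+1) of them
  obtain ⟨d, hd⟩ : ∃ d, Nat.card (G ⧸ frattini G) = 2 ^ d :=
    IsPGroup.iff_card.1 (hG.to_quotient _)
  have hdk : 2 * k + 1 ≤ d := by
    rw [hd] at hgen
    exact (Nat.pow_le_pow_iff_right one_lt_two).1 hgen
  have hΛ : Nat.card (sign G) = 2 ^ d := by
    haveI : (frattini G).Normal := inferInstance
    letI : CommGroup (G ⧸ frattini G) :=
      { (inferInstance : Group (G ⧸ frattini G)) with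
        mul_comm := fun a b => by
          induction a using QuotientGroup.induction_on with
          | H x =>
          induction b using QuotientGroup.induction_on with
          | H y =>
          refine QuotientGroup.eq.2 (PGroups.commutator_le_frattini hG ?_)
          have : (x * y)⁻¹ * (y * x) = y⁻¹ * x⁻¹ * y⁻¹⁻¹ * x⁻¹⁻¹ := by group
          rw [this, _root_.commutator_def]
          exact Subgroup.commutator_mem_commutator (Subgroup.mem_top _) (Subgroup.mem_top _) }
    rw [← hd, ← CommGroup.card_monoidHom_of_hasEnoughRootsOfUnity (G ⧸ frattini G) ℂ]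
    refine Nat.card_congr
      { toFun := fun l => QuotientGroup.lift (frattini G) l.1 ?_
        invFun := fun f => ⟨f.comp (QuotientGroup.mk' _), fun g => by
          have : (QuotientGroup.mk' (frattini G)) (g * g) = 1 := by
            refine (QuotientGroup.eq_one_iff _).2 ?_
            rw [← pow_two]; exact PGroups.pow_mem_frattini hG g
          rw [MonoidHom.comp_apply, this, map_one]⟩
        left_inv := fun l => rfl
        right_inv := fun f => MonoidHom.ext fun q =>
          QuotientGroup.induction_on q fun g => rfl }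
    -- a sign character is trivial on the Frattini subgroup
    haveI : l.1.ker.Normal := l.1.normal_ker
    refine PGroups.frattini_le_of_commutator_le (p := 2) l.1.ker ?_ fun x => ?_
    · exact Abelianization.commutator_subset_ker _
    · rw [MonoidHom.mem_ker, pow_two]; exact l.2 x
  -- the square root counting function
  let f : G → ℂ := fun g => ((Finset.univ.filter fun x : G => x * x = g).card : ℂ)
  have hf : IsClassFunction G f := by
    intro g h
    simp only [f, Nat.cast_inj]
    refine Finset.card_equiv (MulAut.conj h).symm.toEquiv fun x => ?_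
    simp only [Finset.mem_filter, Finset.mem_univ, true_and]
    show x * x = h * g * h⁻¹ ↔ (MulAut.conj h).symm x * (MulAut.conj h).symm x = g
    rw [← map_mul, MulEquiv.symm_apply_eq, MulAut.conj_apply]
  let c : IrrCharacter G → ℂ := fun χ => Cfsg.classInner f (χ : G → ℂ)
  have hc : ∀ χ, c χ = (Fintype.card G : ℂ)⁻¹ * ∑ x : G, conj ((χ : G → ℂ) (x * x)) := by
    intro χ
    simp only [c, classInner_def, f, Nat.card_eq_fintype_card]
    congr 1
    rw [← Finset.sum_fiberwise Finset.univ (fun x : G => x * x) (fun x => conj ((χ : G → ℂ) (x * x)))]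
    refine Finset.sum_congr rfl fun g _ => ?_
    rw [Finset.sum_congr rfl (fun x hx => by rw [(Finset.mem_filter.1 hx).2]), Finset.sum_const,
      nsmul_eq_mul]
  have hint : ∀ χ, IsIntegral ℤ (c χ) := by
    intro χ
    have h2 := (H75.isIntegral_avg_sq (IsIrr.isCharacter χ.2)).map (Complex.conjAe : ℂ ≃ₐ[ℝ] ℂ).toAlgHom.toRingHom.toIntAlgHom
    rw [hc]
    convert h2 using 1
    simp [map_sum]
  have hexp : (Nat.card {x : G // x ^ 2 = 1} : ℂ) = ∑ χ : IrrCharacter G, c χ * (χ : G → ℂ) 1 := by
    have h := congrFun (classFunction_expansion hf) 1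
    simp only [Finset.sum_apply, Pi.smul_apply, smul_eq_mul] at h
    rw [← h, Nat.card_eq_fintype_card, Fintype.card_subtype]
    simp only [f, pow_two]
  -- the action
  letI : MulAction (sign G) (IrrCharacter G) :=
    { smul := fun l χ => ⟨fun g => (l.1 g : ℂ) * (χ : G → ℂ) g, twist_isIrr l χ⟩
      one_smul := fun χ => Subtype.ext (funext fun g => by
        show ((1 : G →* ℂˣ) g : ℂ) * (χ : G → ℂ) g = (χ : G → ℂ) g
        simp)
      mul_smul := fun a b χ => Subtype.ext (funext fun g => by
        show (((a : G →* ℂˣ) * b) g : ℂ) * (χ : G → ℂ) g = (a.1 g : ℂ) * ((b.1 g : ℂ) * (χ : G → ℂ) g)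
        simp [mul_assoc]) }
  have hsm : ∀ (l : sign G) (χ : IrrCharacter G) g,
      ((l • χ : IrrCharacter G) : G → ℂ) g = (l.1 g : ℂ) * (χ : G → ℂ) g := fun _ _ _ => rfl
  have hcinv : ∀ (l : sign G) χ, c (l • χ) * ((l • χ : IrrCharacter G) : G → ℂ) 1 =
      c χ * (χ : G → ℂ) 1 := by
    intro l χ
    rw [hsm, map_one, Units.val_one, one_mul, hc, hc]
    congr 2
    refine Finset.sum_congr rfl fun x _ => ?_
    rw [hsm, l.2 x, Units.val_one, one_mul]
  haveI : Finite (sign G) := Nat.finite_of_card_ne_zero (by rw [hΛ]; positivity)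
  have : Fintype (sign G) := Fintype.ofFinite _
  have hstab : ∀ χ : IrrCharacter G, ∀ n : ℕ, (χ : G → ℂ) 1 = n →
      Nat.card (MulAction.stabilizer (sign G) χ) ≤ n ^ 2 := by
    intro χ n hn
    set T := MulAction.stabilizer (sign G) χ
    have : Fintype T := Fintype.ofFinite _
    let F : G → ℂ := fun g => ∑ l : T, ((l : sign G).1 g : ℂ)
    have h1 : ∑ g : G, ((χ : G → ℂ) g * conj ((χ : G → ℂ) g)) * F g =
        (Fintype.card T : ℂ) * Fintype.card G := by
      simp only [F, Finset.mul_sum]
      rw [Finset.sum_comm]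
      have : ∀ l : T, ∑ g : G, ((χ : G → ℂ) g * conj ((χ : G → ℂ) g)) * ((l : sign G).1 g : ℂ) =
          Fintype.card G := by
        intro l
        have hl : ∀ g, ((l : sign G).1 g : ℂ) * (χ : G → ℂ) g = (χ : G → ℂ) g := fun g =>
          congrFun (congrArg Subtype.val (MulAction.mem_stabilizer_iff.1 l.2)) g
        have h := classInner_irr_self χ.2
        rw [classInner_def, Nat.card_eq_fintype_card,
          inv_mul_eq_iff_eq_mul₀ (Nat.cast_ne_zero.2 Fintype.card_ne_zero), mul_one] at h
        refine Eq.trans (Finset.sum_congr rfl fun g _ => ?_) h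
        linear_combination (conj ((χ : G → ℂ) g)) * hl g
      rw [Finset.sum_congr rfl fun l _ => this l, Finset.sum_const, Finset.card_univ, nsmul_eq_mul]
    -- F is non-negative
    have hF : ∀ g, F g = 0 ∨ F g = (Fintype.card T : ℂ) := by
      intro g
      by_cases h : ∀ l : T, ((l : sign G).1 g : ℂ) = 1
      · right; simp [F, h]
      · left
        push Not at h
        obtain ⟨l0, hl0⟩ := h
        have e : ((l0 : sign G).1 g : ℂ) * F g = F g := by
          simp only [F, Finset.mul_sum]
          refine Fintype.sum_equiv (Equiv.mulLeft l0) _ _ fun l => ?_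
          simp
        by_contra hne
        exact hl0 ((mul_eq_right₀ hne).1 e)
    have h2 : ∑ g : G, F g = (Fintype.card G : ℂ) := by
      simp only [F]
      rw [Finset.sum_comm, Finset.sum_eq_single (1 : T)]
      · simp
      · intro l _ hl
        obtain ⟨g, hg⟩ : ∃ g, (l : sign G).1 g ≠ 1 := by
          by_contra h
          push Not at h
          exact hl (Subtype.ext (Subtype.ext (MonoidHom.ext h)))
        have e : ((l : sign G).1 g : ℂ) * ∑ x : G, ((l : sign G).1 x : ℂ) = ∑ x : G, ((l : sign G).1 x : ℂ) := by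
          rw [Finset.mul_sum]
          refine Fintype.sum_equiv (Equiv.mulLeft g) _ _ fun x => ?_
          simp
        by_contra hne
        exact hg (Units.ext ((mul_eq_right₀ hne).1 e))
      · simp
    have hre : (Fintype.card T : ℝ) * Fintype.card G ≤ (n : ℝ) ^ 2 * Fintype.card G := by
      have e1 : ((Fintype.card T : ℂ) * Fintype.card G).re = (Fintype.card T : ℝ) * Fintype.card G := by simp
      have e2 : (Fintype.card G : ℝ) = ∑ g : G, (F g).re := by
        rw [← Complex.re_sum, h2, Complex.natCast_re]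
      rw [← e1, ← h1, Complex.re_sum, e2, Finset.mul_sum]
      refine Finset.sum_le_sum fun g _ => ?_
      have hle : ‖(χ : G → ℂ) g‖ ≤ n := by
        have := IsChar.norm_le (IsIrr.isCharacter χ.2) g
        rw [hn] at this
        simpa using this
      rw [Complex.mul_conj']
      rcases hF g with h | h
      · simp [h]
      · simp only [h, ← Complex.ofReal_pow, ← Complex.ofReal_natCast, ← Complex.ofReal_mul,
          Complex.ofReal_re]
        exact mul_le_mul_of_nonneg_right (pow_le_pow_left₀ (norm_nonneg _) hle 2) (by positivity)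
    rw [Nat.card_eq_fintype_card]
    have := le_of_mul_le_mul_right hre (by exact_mod_cast Fintype.card_pos)
    exact_mod_cast this
  -- every orbit sum is 2^(k+1) times an algebraic integer
  haveI : Fintype (Quotient (MulAction.orbitRel (sign G) (IrrCharacter G))) := Fintype.ofFinite _
  have key : IsIntegral ℤ ((Nat.card {x : G // x ^ 2 = 1} : ℂ) / (2 ^ (k + 1) : ℕ)) := by
    rw [hexp, ← (MulAction.selfEquivSigmaOrbits (sign G) (IrrCharacter G)).symm.sum_comp,
      Fintype.sum_sigma, Finset.sum_div]
    refine IsIntegral.sum _ fun ω _ => ?_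
    set r : IrrCharacter G := Quotient.out ω
    have hconst : ∀ a : MulAction.orbit (sign G) r,
        c ((MulAction.selfEquivSigmaOrbits (sign G) (IrrCharacter G)).symm ⟨ω, a⟩) *
          (((MulAction.selfEquivSigmaOrbits (sign G) (IrrCharacter G)).symm ⟨ω, a⟩ : IrrCharacter G) : G → ℂ) 1
        = c r * (r : G → ℂ) 1 := by
      rintro ⟨a, l, rfl⟩
      exact hcinv l r
    rw [Finset.sum_congr rfl fun a _ => hconst a, Finset.sum_const, nsmul_eq_mul, Finset.card_univ,
      ← Nat.card_eq_fintype_card]
    obtain ⟨n, ρ, hρ, hρr⟩ := r.2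
    have hn : (r : G → ℂ) 1 = n := by
      rw [← hρr]; simp [Representation.character]
    haveI := hρ
    obtain ⟨a, ha⟩ : ∃ a, n = 2 ^ a := by
      obtain ⟨m, hm⟩ := IsPGroup.iff_card.1 hG
      have h := CharBasic.finrank_dvd_card ρ
      rw [hm, Module.finrank_fin_fun] at h
      obtain ⟨a, -, ha⟩ := (Nat.dvd_prime_pow Nat.prime_two).1 h
      exact ⟨a, ha⟩
    have hos := (MulAction.stabilizer (sign G) r).card_mul_index
    rw [MulAction.index_stabilizer, ← Nat.card_coe_set_eq, hΛ] at hos
    obtain ⟨s, -, hs⟩ := (Nat.dvd_prime_pow Nat.prime_two).1 (Dvd.intro _ hos)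
    have hsle : s ≤ 2 * a := by
      have := hstab r n hn
      rw [hs, ha, ← pow_mul] at this
      rw [mul_comm]
      exact (Nat.pow_le_pow_iff_right one_lt_two).1 this
    have horb : 2 ^ (k + 1) ∣ Nat.card (MulAction.orbit (sign G) r) * n := by
      rw [hs] at hos
      have hsd : s ≤ d := (Nat.pow_dvd_pow_iff_le_right one_lt_two).1 (Dvd.intro _ hos)
      have : Nat.card (MulAction.orbit (sign G) r) = 2 ^ (d - s) :=
        Nat.eq_of_mul_eq_mul_left (Nat.two_pow_pos s)
          (by rw [hos, ← pow_add, Nat.add_sub_cancel' hsd])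
      rw [this, ha, ← pow_add]
      exact pow_dvd_pow 2 (by omega)
    obtain ⟨m, hm⟩ := horb
    have : (Nat.card (MulAction.orbit (sign G) r) : ℂ) * (c r * (r : G → ℂ) 1) / (2 ^ (k + 1) : ℕ) =
        (m : ℂ) * c r := by
      rw [hn, div_eq_iff (Nat.cast_ne_zero.2 (by positivity))]
      have h3 : ((Nat.card (MulAction.orbit (sign G) r) : ℂ) * n) = ((2 ^ (k + 1) : ℕ) : ℂ) * m := by
        exact_mod_cast congrArg (Nat.cast : ℕ → ℂ) hm
      linear_combination (c r) * h3
    rw [this]
    simpa using (isIntegral_algebraMap (R := ℤ) (A := ℂ) (x := (m : ℤ))).mul (hint r)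
  have hq : IsIntegral ℤ ((Nat.card {x : G // x ^ 2 = 1} : ℚ) / (2 ^ (k + 1) : ℕ)) := by
    refine (isIntegral_algebraMap_iff (A := ℚ) (B := ℂ) (algebraMap ℚ ℂ).injective).1 ?_
    simpa using key
  obtain ⟨z, hz⟩ := IsIntegrallyClosed.isIntegral_iff.1 hq
  rw [← Int.natCast_dvd_natCast]
  refine ⟨z, ?_⟩
  have hz' : (z : ℚ) = (Nat.card {x : G // x ^ 2 = 1} : ℚ) / (2 ^ (k + 1) : ℕ) := by simpa using hz
  rw [eq_div_iff (Nat.cast_ne_zero.2 (by positivity))] at hz'
  rw [mul_comm]
  exact_mod_cast hz'.symm

end Cfsg.Agent.S4058
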