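import Mathlib
import Cfsg.Statements.S4059
import Cfsg.Agent.H75.Basic

set_option autoImplicit false
open Cfsg

namespace Cfsg.Agent.S4059

open Subgroup

variable {G : Type*} [Group G] [Finite G]

/-- An element with centraliser of odd index that is conjugate to its inverse equals its inverse. -/
theorem inv_eq_self (x : G) (hodd : ¬ 2 ∣ (centralizer ({x} : Set G)).index) (hx : IsConj x x⁻¹) :
    x⁻¹ = x := by
  by_contra hne
  obtain ⟨g, hg⟩ := isConj_iff.1 hx
  -- the extended centraliser
  have hinv : ∀ a : G, a * x * a⁻¹ = x → a * x⁻¹ * a⁻¹ = x⁻¹ := fun a h => by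
    rw [← conj_inv, h]
  have hinv' : ∀ a : G, a * x * a⁻¹ = x⁻¹ → a * x⁻¹ * a⁻¹ = x := fun a h => by
    rw [← conj_inv, h, inv_inv]
  let E : Subgroup G :=
    { carrier := {a | a * x * a⁻¹ = x ∨ a * x * a⁻¹ = x⁻¹}
      one_mem' := Or.inl (by group)
      mul_mem' := fun {a b} ha hb => by
        have e : a * b * x * (a * b)⁻¹ = a * (b * x * b⁻¹) * a⁻¹ := by group
        rcases hb with hb | hb <;> rcases ha with ha | ha
        · exact Or.inl (by rw [e, hb, ha])
        · exact Or.inr (by rw [e, hb, ha])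
        · exact Or.inr (by rw [e, hb, hinv a ha])
        · exact Or.inl (by rw [e, hb, hinv' a ha])
      inv_mem' := fun {a} ha => by
        rcases ha with ha | ha
        · refine Or.inl ?_
          conv_lhs => rw [← ha]
          group
        · refine Or.inr ?_
          have := hinv' a ha
          conv_lhs => rw [← this]
          group }
  have hle : centralizer ({x} : Set G) ≤ E := fun a ha => Or.inl (by
    rw [mem_centralizer_singleton_iff.1 ha, mul_inv_cancel_right])
  have hgE : g ∈ E := Or.inr hg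
  have h2 : (centralizer ({x} : Set G)).relIndex E = 2 := by
    rw [relIndex, Subgroup.index_eq_two_iff]
    refine ⟨⟨g, hgE⟩, fun b => ?_⟩
    rw [mem_subgroupOf, mem_subgroupOf, mem_centralizer_singleton_iff, mem_centralizer_singleton_iff]
    obtain ⟨b, hb⟩ := b
    show Xor (b * g * x = x * (b * g)) (b * x = x * b)
    have key : ∀ a : G, (a * x = x * a) ↔ a * x * a⁻¹ = x := fun a => by
      constructor
      · intro h; rw [h, mul_inv_cancel_right]
      · intro h
        calc a * x = a * x * a⁻¹ * a := by group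
          _ = x * a := by rw [h]
    rw [key, key]
    have e : b * g * x * (b * g)⁻¹ = b * (g * x * g⁻¹) * b⁻¹ := by group
    rcases hb with hb | hb
    · refine Or.inr ⟨hb, ?_⟩
      rw [e, hg, hinv b hb]
      exact hne
    · refine Or.inl ⟨by rw [e, hg, hinv' b hb], ?_⟩
      rw [hb]
      exact hne
  exact hodd (Dvd.intro _ (h2 ▸ relIndex_mul_index hle))

theorem result {G : Type*} [Group G] [Finite G] (hamb : ∀ x : G, IsConj x x⁻¹) :
    (∀ (S : Sylow 2 G) (x : G), x ∈ Subgroup.centralizer ((S : Subgroup G) : Set G) → x ≠ 1 → orderOf x = 2) ∧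
    (∀ z : G, z ∈ Subgroup.center G → z ^ 2 = 1) ∧
    (∀ x : G, x ^ 2 ∈ commutator G) ∧
    Subgroup.closure {x : G | ∃ k : ℕ, orderOf x = 2 ^ k} = ⊤ := by
  haveI : Fact (Nat.Prime 2) := ⟨Nat.prime_two⟩
  refine ⟨fun S x hx hx1 => ?_, fun z hz => ?_, fun x => ?_, ?_⟩
  · have h : (S : Subgroup G) ≤ centralizer ({x} : Set G) := by
      intro y hy
      rw [mem_centralizer_singleton_iff]
      exact (mem_centralizer_iff.1 hx) y hy
    have := inv_eq_self x (fun h2 => S.not_dvd_index (h2.trans (index_dvd_of_le h))) (hamb x)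
    refine orderOf_eq_prime ?_ hx1
    rw [pow_two]
    exact inv_eq_iff_mul_eq_one.1 this
  · obtain ⟨g, hg⟩ := isConj_iff.1 (hamb z)
    rw [mem_center_iff.1 hz g, mul_inv_cancel_right] at hg
    rw [pow_two]
    nth_rw 2 [hg]
    exact mul_inv_cancel z
  · obtain ⟨g, hg⟩ := isConj_iff.1 (hamb x)
    have h : g * x⁻¹ * g⁻¹ * x⁻¹⁻¹ ∈ commutator G := by
      rw [commutator_def]; exact commutator_mem_commutator (mem_top g) (mem_top x⁻¹)
    rw [← conj_inv, hg, inv_inv, ← pow_two] at h
    exact h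
  · set M := closure {x : G | ∃ k : ℕ, orderOf x = 2 ^ k} with hMdef
    have hM : M.Normal := by
      rw [hMdef]
      refine ⟨fun n hn g => ?_⟩
      induction hn using closure_induction with
      | mem a ha =>
        obtain ⟨k, hk⟩ := ha
        exact subset_closure ⟨k, by rw [← hk]; exact (MulAut.conj g).orderOf_eq a⟩
      | one => simp
      | mul a b _ _ iha ihb =>
        have : g * (a * b) * g⁻¹ = (g * a * g⁻¹) * (g * b * g⁻¹) := by group
        rw [this]; exact mul_mem iha ihb
      | inv a _ iha => rw [← conj_inv]; exact inv_mem iha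
    rw [eq_top_iff]
    intro x _
    obtain ⟨S⟩ := (inferInstance : Nonempty (Sylow 2 G))
    have hodd : ¬ 2 ∣ M.index := by
      refine fun h => S.not_dvd_index (h.trans (index_dvd_of_le ?_))
      intro y hy
      obtain ⟨k, hk⟩ := IsPGroup.iff_orderOf.1 S.isPGroup' ⟨y, hy⟩
      exact subset_closure ⟨k, by rw [← hk, Subgroup.orderOf_mk]⟩
    haveI := hM
    -- the image of x squares to 1 modulo M, hence is trivial
    obtain ⟨g, hg⟩ := isConj_iff.1 (hamb x)
    obtain ⟨u, v, hu, hv, huv, ⟨k, hk⟩, hcop, -, -⟩ := H75.exists_split g Nat.prime_two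
    have huM : u ∈ M := subset_closure ⟨k, hk⟩
    set φ := QuotientGroup.mk' M
    have hφu : φ u = 1 := (QuotientGroup.eq_one_iff u).2 huM
    have h1 : φ v * φ x * (φ v)⁻¹ = (φ x)⁻¹ := by
      have := congrArg φ hg
      rwa [← huv, map_mul, map_mul, map_inv, map_mul, hφu, one_mul, map_inv] at this
    have h3 : φ v ^ 2 * φ x * (φ v ^ 2)⁻¹ = φ x := by
      calc φ v ^ 2 * φ x * (φ v ^ 2)⁻¹ = φ v * (φ v * φ x * (φ v)⁻¹) * (φ v)⁻¹ := by
            rw [pow_two]; group
        _ = φ v * (φ x)⁻¹ * (φ v)⁻¹ := by rw [h1]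
        _ = (φ v * φ x * (φ v)⁻¹)⁻¹ := by group
        _ = φ x := by rw [h1, inv_inv]
    -- φ v is a power of its square
    have h4 : Commute (φ v) (φ x) := by
      have hodd' : Nat.Coprime (orderOf (φ v)) 2 :=
        Nat.Coprime.coprime_dvd_left (orderOf_map_dvd φ v) hcop
      obtain ⟨m, hm⟩ := exists_pow_eq_self_of_coprime hodd'.symm
      rw [← hm]
      refine Commute.pow_left ?_ m
      show φ v ^ 2 * φ x = φ x * φ v ^ 2
      calc φ v ^ 2 * φ x = (φ v ^ 2 * φ x * (φ v ^ 2)⁻¹) * φ v ^ 2 := by group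
        _ = φ x * φ v ^ 2 := by rw [h3]
    rw [h4.eq, mul_inv_cancel_right] at h1
    have hsq : φ x ^ 2 = 1 := by
      rw [pow_two]; nth_rw 2 [h1]; exact mul_inv_cancel _
    have hdvd : orderOf (φ x) ∣ 1 := by
      have hc : Nat.Coprime 2 (Nat.card (G ⧸ M)) :=
        (Nat.Prime.coprime_iff_not_dvd Nat.prime_two).2 (by rwa [← Subgroup.index_eq_card])
      rw [← hc.gcd_eq_one]
      exact Nat.dvd_gcd (orderOf_dvd_of_pow_eq_one hsq) (orderOf_dvd_natCard _)
    have := orderOf_eq_one_iff.1 (Nat.dvd_one.1 hdvd)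
    exact (QuotientGroup.eq_one_iff x).1 this

end Cfsg.Agent.S4059
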