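import Cfsg.Statements.S4060
import Cfsg.Agent.Hall.MinimalNormal

set_option autoImplicit false
open Cfsg

namespace Cfsg.Agent.S4060

open scoped Pointwise
universe u

theorem not_isConj_inv (n : ℕ) :
    ∀ (G : Type u) [Group G] [Finite G] [Group.IsSolvable G], Nat.card G ≤ n →
      ∀ (S : Sylow 2 G) (x : G), x ≠ 1 → Odd (orderOf x) →
        x ∈ Subgroup.normalizer ((S : Subgroup G) : Set G) → ¬ IsConj x x⁻¹ := by
  induction n with
  | zero => intro G _ _ _ h; exact absurd h (not_le.mpr Nat.card_pos)
  | succ n ih =>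
    intro G _ _ _ hG S x hx hodd hnorm hconj
    have : Nontrivial G := ⟨⟨x, 1, hx⟩⟩
    obtain ⟨M, p, hMn, hM, hp, hMp, -, -⟩ := Hall.exists_minimal_normal_pgroup (G := G)
    set f := QuotientGroup.mk' M
    have hsurj : Function.Surjective f := QuotientGroup.mk'_surjective M
    by_cases hxM : x ∈ M
    · have : Fact p.Prime := ⟨hp⟩
      have hp2 : p ≠ 2 := by
        rintro rfl
        obtain ⟨k, hk⟩ := hMp ⟨x, hxM⟩
        have hd : orderOf x ∣ 2 ^ k := orderOf_dvd_of_pow_eq_one (by
          have := congrArg Subtype.val hk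
          simpa using this)
        have h1 : orderOf x = 1 := Nat.eq_one_of_dvd_coprimes
          ((Nat.coprime_two_left.mpr hodd).symm.pow_right k) dvd_rfl hd
        exact hx (orderOf_eq_one_iff.mp h1)
      set C := Subgroup.centralizer ({x} : Set G)
      have hSC : (S : Subgroup G) ≤ C := by
        intro s hs
        rw [Subgroup.mem_centralizer_singleton_iff]
        have h1 : x * s * x⁻¹ * s⁻¹ ∈ M ⊓ (S : Subgroup G) := by
          refine ⟨?_, Subgroup.mul_mem _ ((Subgroup.mem_normalizer_iff.mp hnorm s).mp hs)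
            (Subgroup.inv_mem _ hs)⟩
          have := M.mul_mem hxM (hMn.conj_mem x⁻¹ (M.inv_mem hxM) s)
          simpa [mul_assoc] using this
        have hbot : M ⊓ (S : Subgroup G) = ⊥ :=
          (IsPGroup.disjoint_of_ne p 2 hp2 _ _ hMp S.2).eq_bot
        rw [hbot, Subgroup.mem_bot, mul_inv_eq_one, mul_inv_eq_iff_eq_mul] at h1
        exact h1.symm
      have hodd2 : ¬ 2 ∣ C.index := fun h => S.not_dvd_index
        (h.trans (Subgroup.index_dvd_of_le hSC))
      obtain ⟨g, hg⟩ := isConj_iff.mp hconj
      have hgN : g ∈ Subgroup.normalizer (C : Set G) := by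
        rw [Subgroup.mem_normalizer_iff]
        intro c
        rw [Subgroup.mem_centralizer_singleton_iff, Subgroup.mem_centralizer_singleton_iff]
        constructor
        · intro hc
          have hx' : x = g * x⁻¹ * g⁻¹ := by rw [← conj_inv, hg, inv_inv]
          calc g * c * g⁻¹ * x = g * c * g⁻¹ * (g * x⁻¹ * g⁻¹) := by rw [← hx']
            _ = g * (c * x⁻¹) * g⁻¹ := by group
            _ = g * (x⁻¹ * c) * g⁻¹ := by rw [(Commute.inv_right (show Commute c x from hc)).eq]
            _ = g * x⁻¹ * g⁻¹ * (g * c * g⁻¹) := by group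
            _ = x * (g * c * g⁻¹) := by rw [← hx']
        · intro hc
          have hc' : Commute (g * c * g⁻¹) x⁻¹ := Commute.inv_right hc
          calc c * x = g⁻¹ * ((g * c * g⁻¹) * (g * x * g⁻¹)) * g := by group
            _ = g⁻¹ * ((g * x * g⁻¹) * (g * c * g⁻¹)) * g := by rw [hg, hc'.eq]
            _ = x * c := by group
      set Cn := C.subgroupOf (Subgroup.normalizer (C : Set G))
      have : Cn.Normal := Subgroup.normal_in_normalizer
      have hg2 : g * g ∈ C := by
        rw [Subgroup.mem_centralizer_singleton_iff]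
        have h2 : g * g * x * (g * g)⁻¹ = x := by
          calc g * g * x * (g * g)⁻¹ = g * (g * x * g⁻¹) * g⁻¹ := by group
            _ = g * x⁻¹ * g⁻¹ := by rw [hg]
            _ = x := by rw [← conj_inv, hg, inv_inv]
        exact mul_inv_eq_iff_eq_mul.mp h2
      have hgC : (⟨g, hgN⟩ : Subgroup.normalizer (C : Set G)) ∈ Cn := by
        rw [← QuotientGroup.eq_one_iff, ← orderOf_eq_one_iff]
        have h1 : orderOf ((⟨g, hgN⟩ : Subgroup.normalizer (C : Set G)) :
            _ ⧸ Cn) ∣ 2 := orderOf_dvd_of_pow_eq_one (by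
          rw [sq, ← QuotientGroup.mk_mul, QuotientGroup.eq_one_iff]
          exact hg2)
        have h2 : orderOf ((⟨g, hgN⟩ : Subgroup.normalizer (C : Set G)) :
            _ ⧸ Cn) ∣ C.index := (orderOf_dvd_natCard _).trans
          (Subgroup.relIndex_dvd_index_of_le Subgroup.le_normalizer)
        exact Nat.eq_one_of_dvd_coprimes
          ((Nat.prime_two.coprime_iff_not_dvd).mpr hodd2) h1 h2
      have hgc : g * x = x * g := Subgroup.mem_centralizer_singleton_iff.mp hgC
      rw [hgc, mul_inv_cancel_right] at hg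
      have hx2 : x ^ 2 = 1 := by rw [sq]; nth_rw 2 [hg]; exact mul_inv_cancel x
      exact hx (orderOf_eq_one_iff.mp (Nat.eq_one_of_dvd_coprimes
        (Nat.coprime_two_left.mpr hodd) (orderOf_dvd_of_pow_eq_one hx2) dvd_rfl))
    · have hlt := Hall.card_quotient_lt M hM
      refine ih (G ⧸ M) (by omega) (S.mapSurjective hsurj) (f x)
        (fun h => hxM ((QuotientGroup.eq_one_iff x).mp h))
        (hodd.of_dvd_nat (orderOf_map_dvd f x)) ?_ ?_
      · rw [Sylow.coe_mapSurjective]
        exact Subgroup.le_normalizer_map f (Subgroup.mem_map_of_mem f hnorm)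
      · rw [← map_inv]
        exact f.map_isConj hconj

/-- Let G be a finite solvable group with Sylow 2-subgroup S, and let x ≠ 1 be an element of odd order normalizing S. Then x is not conjugate to its inverse in G. -/
theorem result {G : Type*} [Group G] [Finite G] [Group.IsSolvable G]
    (S : Sylow 2 G) (x : G) (hx : x ≠ 1) (hodd : Odd (orderOf x))
    (hnorm : x ∈ Subgroup.normalizer ((S : Subgroup G) : Set G)) : ¬ IsConj x x⁻¹ := by
  exact not_isConj_inv _ G le_rfl S x hx hodd hnorm

end Cfsg.Agent.S4060
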