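import Cfsg.Statements.S4061
import Mathlib
import Cfsg.Agent.S0016
import Cfsg.Agent.Cores.PCore
import Cfsg.Agent.Hall.MinimalNormal

/-!
# Solvable ambivalent groups with one class of involutions
-/

set_option autoImplicit false
set_option linter.style.haveILetI false
open Cfsg

namespace Cfsg.Agent.S4061

open Subgroup
open scoped commutatorElement

/-- In a 2-group with odd-exponent control: `v` squared and odd power trivial. -/
theorem eq_one_of_sq_of_odd_pow {G : Type*} [Group G] {v : G} {o : ℕ} (h2 : v * v = 1)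
    (ho : v ^ o = 1) (hodd : Odd o) : v = 1 := by
  obtain ⟨j, rfl⟩ := hodd
  rwa [pow_succ, pow_mul, pow_two, h2, one_pow, one_mul] at ho

section Abstract

variable {H : Type*} [Group H] [Finite H]

/-- A conjugating element for a real element may be taken of 2-power order. -/
theorem exists_two_element_inverting {x g : H} (h : g * x * g⁻¹ = x⁻¹) :
    ∃ (s : H) (e : ℕ), s ^ 2 ^ e = 1 ∧ s * x * s⁻¹ = x⁻¹ := by
  obtain ⟨e, m, hm, he⟩ := Nat.exists_eq_two_pow_mul_odd (orderOf_pos g).ne'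
  refine ⟨g ^ m, e, by rw [← pow_mul, mul_comm, ← he, pow_orderOf_eq_one], ?_⟩
  have key : ∀ k : ℕ, (g * g) ^ k * x = x * (g * g) ^ k := by
    intro k
    have hc : Commute (g * g) x := by
      show g * g * x = x * (g * g)
      calc g * g * x = g * (g * x * g⁻¹) * g := by group
        _ = g * x⁻¹ * g := by rw [h]
        _ = (g * x * g⁻¹)⁻¹ * (g * g) := by group
        _ = x * (g * g) := by rw [h, inv_inv]
    exact (hc.pow_left k).eq
  obtain ⟨k, rfl⟩ := hm
  rw [pow_succ', pow_mul, pow_two, mul_inv_rev]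
  calc g * (g * g) ^ k * x * (((g * g) ^ k)⁻¹ * g⁻¹)
      = g * ((g * g) ^ k * x) * (((g * g) ^ k)⁻¹ * g⁻¹) := by group
    _ = g * x * g⁻¹ := by rw [key k]; group
    _ = x⁻¹ := h

/-- No odd-order real element fixes no involution when all involutions lie in a normal abelian
subgroup `Z`. -/
theorem eq_one_of_fpf {Z : Subgroup H} [Z.Normal] (hinv : ∀ u : H, u * u = 1 → u ∈ Z)
    {x : H} (hx : Odd (orderOf x)) (hamb : IsConj x x⁻¹)
    (hfix : ∀ z ∈ Z, x * z = z * x → z = 1) : x = 1 := by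
  obtain ⟨g, hg⟩ := isConj_iff.1 hamb
  obtain ⟨s, e, hse, hsx⟩ := exists_two_element_inverting hg
  have hfin : x⁻¹ = x → x = 1 := by
    intro h
    refine eq_one_of_sq_of_odd_pow ?_ (pow_orderOf_eq_one x) hx
    nth_rewrite 1 [← h]
    exact inv_mul_cancel x
  obtain ⟨f, hf, hsf⟩ := (Nat.dvd_prime_pow Nat.prime_two).1 (orderOf_dvd_of_pow_eq_one hse)
  rcases f with _ | f
  · rw [pow_zero, orderOf_eq_one_iff] at hsf
    rw [hsf] at hsx
    exact hfin (by simpa using hsx.symm)
  · set u := s ^ 2 ^ f with hu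
    have hu2 : u * u = 1 := by
      rw [hu, ← pow_add, ← two_mul, ← pow_succ', ← hsf, pow_orderOf_eq_one]
    have hu1 : u ≠ 1 := by
      intro h
      have := orderOf_dvd_of_pow_eq_one (hu ▸ h)
      rw [hsf] at this
      have h2 := Nat.le_of_dvd (Nat.two_pow_pos f) this
      rw [pow_succ] at h2
      have := Nat.two_pow_pos f
      omega
    rcases f with _ | f
    · -- `s` is an involution of `Z` inverting `x`
      rw [pow_zero, pow_one] at hu
      rw [hu] at hu2
      have hsZ : s ∈ Z := hinv s hu2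
      have hmem : x * x ∈ Z := by
        have hxx : x * x = (s * x⁻¹ * s⁻¹) * x := by
          have : s * x⁻¹ * s⁻¹ = x := by rw [← conj_inv, hsx, inv_inv]
          rw [this]
        rw [hxx, show s * x⁻¹ * s⁻¹ * x = s * (x⁻¹ * s⁻¹ * x⁻¹⁻¹) by group]
        exact mul_mem hsZ (Normal.conj_mem inferInstance _ (inv_mem hsZ) _)
      have h2 : x * x = 1 := hfix _ hmem (mul_assoc x x x).symm
      exact eq_one_of_sq_of_odd_pow h2 (pow_orderOf_eq_one x) hx
    · refine absurd (hfix u (hinv u hu2) ?_) hu1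
      have hc : Commute (s * s) x := by
        show s * s * x = x * (s * s)
        calc s * s * x = s * (s * x * s⁻¹) * s := by group
          _ = s * x⁻¹ * s := by rw [hsx]
          _ = (s * x * s⁻¹)⁻¹ * (s * s) := by group
          _ = x * (s * s) := by rw [hsx, inv_inv]
      have h' : Commute u x := by
        rw [hu, pow_succ', pow_mul, pow_two]
        exact hc.pow_left _
      exact h'.eq.symm

/-- The key lemma: with `O(H) = 1` there is only one involution. -/
theorem unique_involution [Group.IsSolvable H] (hamb : ∀ x : H, IsConj x x⁻¹)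
    (heven : 2 ∣ Nat.card H) (hone : ∀ s t : H, orderOf s = 2 → orderOf t = 2 → IsConj s t)
    (hO : ∀ N : Subgroup H, N.Normal → Odd (Nat.card N) → N = ⊥) :
    ∀ s t : H, orderOf s = 2 → orderOf t = 2 → s = t := by
  haveI := Fact.mk Nat.prime_two
  haveI : Nontrivial H := by
    obtain ⟨t, ht⟩ := exists_prime_orderOf_dvd_card' 2 heven
    exact ⟨t, 1, fun h => by rw [h, orderOf_one] at ht; omega⟩
  obtain ⟨Z, p, hZn, hZ, hp, hZp, hZc, hZmin⟩ := Hall.exists_minimal_normal_pgroup (G := H)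
  haveI := hZn
  haveI := Fact.mk hp
  obtain ⟨-, q, hq', -, hexp⟩ := Hall.minimal_normal_of_solvable hZ hZmin
  have hp2 : p = 2 := by
    by_contra hp2
    obtain ⟨k, hk⟩ := hZp.exists_card_eq
    exact hZ (hO Z hZn (hk ▸ (hp.odd_of_ne_two hp2).pow))
  subst hp2
  obtain ⟨z₀, hz₀⟩ : ∃ z : Z, orderOf z = 2 := by
    refine exists_prime_orderOf_dvd_card' 2 ?_
    exact hZp.card_eq_or_dvd.resolve_left fun h => hZ (Subgroup.card_eq_one.1 h)
  have hz₀' : orderOf (z₀ : H) = 2 := by rw [Subgroup.orderOf_coe, hz₀]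
  have hinv : ∀ u : H, u * u = 1 → u ∈ Z := by
    intro u hu
    by_cases hu1 : u = 1
    · rw [hu1]; exact one_mem _
    obtain ⟨c, hc⟩ := isConj_iff.1 (hone _ u hz₀' (orderOf_eq_prime (by rw [pow_two, hu]) hu1))
    rw [← hc]; exact hZn.conj_mem _ z₀.2 c
  -- `Z` is elementary abelian
  have hZ2 : ∀ z ∈ Z, z * z = 1 := by
    intro z hz
    have hq : orderOf (z₀ : H) ∣ q := orderOf_dvd_of_pow_eq_one (hexp _ z₀.2)
    rw [hz₀'] at hq
    have hd : orderOf z ∣ q := orderOf_dvd_of_pow_eq_one (hexp z hz)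
    obtain ⟨k, hk⟩ := (IsPGroup.iff_orderOf).1 hZp ⟨z, hz⟩
    have hk' : orderOf z = 2 ^ k := by rw [← hk, Subgroup.orderOf_mk]
    rw [← pow_two, ← orderOf_dvd_iff_pow_eq_one]
    rcases k with _ | k
    · rw [hk', pow_zero]; exact one_dvd _
    · -- the exponent is prime
      have hqp : q = 2 := ((Nat.prime_dvd_prime_iff_eq Nat.prime_two hq').1 hq).symm
      rw [hqp] at hd
      exact hd
  have hordZ : ∀ z ∈ Z, z ≠ 1 → orderOf z = 2 := fun z hz h1 =>
    orderOf_eq_prime (by rw [pow_two, hZ2 z hz]) h1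
  have hcommZ : ∀ a ∈ Z, ∀ b ∈ Z, a * b = b * a := fun a ha b hb =>
    congrArg Subtype.val (hZc.is_comm.comm ⟨a, ha⟩ ⟨b, hb⟩)
  -- transitivity on `Z`
  have htrans : ∀ z ∈ Z, ∀ w ∈ Z, z ≠ 1 → w ≠ 1 → ∃ c : H, c * z * c⁻¹ = w :=
    fun z hz w hw h1 h2 => isConj_iff.1 (hone z w (hordZ z hz h1) (hordZ w hw h2))
  set C := Subgroup.centralizer (Z : Set H) with hC
  haveI : C.Normal := Subgroup.normal_centralizer
  by_cases hCtop : C = ⊤
  · intro s t hs ht
    obtain ⟨c, hc⟩ := isConj_iff.1 (hone s t hs ht)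
    have hsZ := hinv s (by rw [← pow_two, ← hs, pow_orderOf_eq_one])
    have hcs : s * c = c * s := Subgroup.mem_centralizer_iff.1 (hCtop ▸ Subgroup.mem_top c : c ∈ C) s hsZ
    rw [← hc, ← hcs, mul_inv_cancel_right]
  exfalso
  haveI : Nontrivial (H ⧸ C) :=
    QuotientGroup.nontrivial_iff.2 hCtop
  obtain ⟨M, r, hMn, hM, hr, hMr, hMc, -⟩ := Hall.exists_minimal_normal_pgroup (G := H ⧸ C)
  haveI := hMn
  haveI := Fact.mk hr
  set D := M.comap (QuotientGroup.mk' C) with hD
  have hDn : D.Normal := Subgroup.normal_comap _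
  -- `r` is odd
  have hr2 : r ≠ 2 := by
    intro hr2
    subst hr2
    letI : MulDistribMulAction (ConjAct H) Z := inferInstance
    -- fixed points of the 2-group `M` on `Z`
    let act : (↥M) →* MulAut Z :=
      { toFun := fun m => MulAut.conjNormal (Quotient.out (m : H ⧸ C))
        map_one' := by
          ext z
          have h1 : Quotient.out ((1 : M) : H ⧸ C) ∈ C := by
            rw [← QuotientGroup.eq_one_iff (N := C)]; exact QuotientGroup.out_eq' _
          have := Subgroup.mem_centralizer_iff.1 h1 z z.2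
          show Quotient.out ((1 : M) : H ⧸ C) * (z : H) * (Quotient.out ((1 : M) : H ⧸ C))⁻¹ = z
          rw [← this, mul_inv_cancel_right]
        map_mul' := fun a b => by
          ext z
          show Quotient.out ((a * b : M) : H ⧸ C) * (z : H) * (Quotient.out ((a * b : M) : H ⧸ C))⁻¹ =
            Quotient.out (a : H ⧸ C) * (Quotient.out (b : H ⧸ C) * z * (Quotient.out (b : H ⧸ C))⁻¹) *
              (Quotient.out (a : H ⧸ C))⁻¹
          set u := Quotient.out ((a * b : M) : H ⧸ C)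
          set v := Quotient.out (a : H ⧸ C) * Quotient.out (b : H ⧸ C) with hv
          have h1 : v⁻¹ * u ∈ C := by
            rw [← QuotientGroup.eq]
            show ((Quotient.out (a : H ⧸ C) * Quotient.out (b : H ⧸ C) : H) : H ⧸ C) = (u : H ⧸ C)
            rw [QuotientGroup.mk_mul, QuotientGroup.out_eq', QuotientGroup.out_eq', QuotientGroup.out_eq',
              Subgroup.coe_mul]
          have h2 := Subgroup.mem_centralizer_iff.1 h1 z z.2
          calc u * z * u⁻¹ = v * ((v⁻¹ * u) * z) * (v⁻¹ * u)⁻¹ * v⁻¹ := by group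
            _ = v * z * v⁻¹ := by rw [← h2]; group
            _ = _ := by rw [hv]; group }
    letI : MulAction M Z := MulAction.compHom Z act
    have h1fix : (1 : Z) ∈ MulAction.fixedPoints M Z := fun m => map_one (act m)
    obtain ⟨b, hb, hb1⟩ := hMr.exists_fixed_point_of_prime_dvd_card_of_fixed_point Z
      (hZp.card_eq_or_dvd.resolve_left fun h => hZ (Subgroup.card_eq_one.1 h)) h1fix
    have hDb : ∀ d ∈ D, d * (b : H) = b * d := by
      intro d hd
      have h := congrArg (Subtype.val) (hb ⟨(d : H ⧸ C), hd⟩)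
      change Quotient.out (d : H ⧸ C) * (b : H) * (Quotient.out (d : H ⧸ C))⁻¹ = b at h
      have hm : (Quotient.out (d : H ⧸ C))⁻¹ * d ∈ C := by
        rw [← QuotientGroup.eq, QuotientGroup.out_eq']
      have h2 := Subgroup.mem_centralizer_iff.1 hm b b.2
      calc d * (b : H) = Quotient.out (d : H ⧸ C) * ((Quotient.out (d : H ⧸ C))⁻¹ * d * b) := by group
        _ = Quotient.out (d : H ⧸ C) * b * (Quotient.out (d : H ⧸ C))⁻¹ * d := by rw [← h2]; group
        _ = b * d := by rw [h]
    apply hM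
    rw [eq_bot_iff]
    intro m hm
    obtain ⟨d, rfl⟩ := QuotientGroup.mk_surjective m
    rw [Subgroup.mem_bot, QuotientGroup.eq_one_iff, Subgroup.mem_centralizer_iff]
    intro z hz
    by_cases hz1 : z = 1
    · simp [hz1]
    obtain ⟨c, hc⟩ := htrans b b.2 z hz (fun h => hb1 (Subtype.ext h.symm)) hz1
    have hd' : c⁻¹ * d * c⁻¹⁻¹ ∈ D := hDn.conj_mem d hm _
    have h := hDb _ hd'
    rw [← hc]
    calc c * b * c⁻¹ * d = c * (b * (c⁻¹ * d * c⁻¹⁻¹)) * c⁻¹ := by group
      _ = c * (c⁻¹ * d * c⁻¹⁻¹ * b) * c⁻¹ := by rw [h]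
      _ = d * (c * b * c⁻¹) := by group
  -- an odd-order element of `D` outside `C`
  obtain ⟨x, hxD, hxC, hxodd⟩ : ∃ x ∈ D, x ∉ C ∧ Odd (orderOf x) := by
    obtain ⟨m, hmM, hm1⟩ : ∃ m ∈ M, m ≠ 1 := by
      by_contra h
      push Not at h
      exact hM (eq_bot_iff.2 fun m hm => Subgroup.mem_bot.2 (h m hm))
    obtain ⟨d, rfl⟩ := QuotientGroup.mk_surjective m
    obtain ⟨e, o, ho, he⟩ := Nat.exists_eq_two_pow_mul_odd (orderOf_pos d).ne'
    refine ⟨d ^ 2 ^ e, pow_mem (show d ∈ D from hmM) _, fun hC' => hm1 ?_, ?_⟩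
    · obtain ⟨k, hk⟩ := (IsPGroup.iff_orderOf).1 hMr ⟨(d : H ⧸ C), hmM⟩
      rw [Subgroup.orderOf_mk] at hk
      have h1 : ((d : H ⧸ C)) ^ 2 ^ e = 1 := by
        rw [← QuotientGroup.mk_pow, QuotientGroup.eq_one_iff]; exact hC'
      have h2 := orderOf_dvd_of_pow_eq_one h1
      rw [hk] at h2
      have h3 : r ^ k = 1 := Nat.eq_one_of_dvd_coprimes
        (Nat.Coprime.pow k e ((Nat.coprime_primes hr Nat.prime_two).2 hr2)) dvd_rfl h2
      rw [h3] at hk
      exact orderOf_eq_one_iff.1 hk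
    · rw [orderOf_pow, he, Nat.gcd_mul_right_left, Nat.mul_div_cancel_left _ (Nat.two_pow_pos e)]
      exact ho
  -- conjugation by elements of `D` commutes with `x` on `Z`
  have hswap : ∀ d ∈ D, ∀ z ∈ Z, d * (x * z * x⁻¹) * d⁻¹ = x * (d * z * d⁻¹) * x⁻¹ := by
    intro d hd z hz
    have hcM : ((d : H ⧸ C)) * (x : H ⧸ C) = (x : H ⧸ C) * (d : H ⧸ C) :=
      congrArg Subtype.val (hMc.is_comm.comm (⟨_, hd⟩ : M) ⟨_, hxD⟩)
    rw [← QuotientGroup.mk_mul, ← QuotientGroup.mk_mul, QuotientGroup.eq] at hcM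
    have h := Subgroup.mem_centralizer_iff.1 hcM z hz
    calc d * (x * z * x⁻¹) * d⁻¹ = (d * x) * z * ((d * x)⁻¹ * (x * d)) * (x * d)⁻¹ := by group
      _ = (d * x) * (((d * x)⁻¹ * (x * d)) * z) * (x * d)⁻¹ := by rw [← h]; group
      _ = x * (d * z * d⁻¹) * x⁻¹ := by group
  have hpowZ : ∀ z ∈ Z, x * z * x⁻¹ * z⁻¹ ∈ Z := fun z hz =>
    mul_mem (hZn.conj_mem z hz x) (inv_mem hz)
  let φ : Z →* Z :=
    { toFun := fun z => ⟨x * z * x⁻¹ * (z : H)⁻¹, hpowZ z z.2⟩
      map_one' := Subtype.ext (by simp)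
      map_mul' := fun a b => Subtype.ext (by
        show x * ((a : H) * b) * x⁻¹ * ((a : H) * b)⁻¹ = x * a * x⁻¹ * (a : H)⁻¹ * (x * b * x⁻¹ * (b : H)⁻¹)
        have h1 := hcommZ (a : H)⁻¹ (inv_mem a.2) _ (hpowZ b b.2)
        calc x * ((a : H) * b) * x⁻¹ * ((a : H) * b)⁻¹
            = x * a * x⁻¹ * ((x * b * x⁻¹ * (b : H)⁻¹) * (a : H)⁻¹) := by group
          _ = _ := by rw [← h1]; group) }
  -- the kernel and the range meet trivially
  have hdisj : ∀ v : Z, v ∈ φ.range → x * (v : H) = v * x → v = 1 := by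
    rintro v ⟨z, rfl⟩ hv
    set v := φ z with hvdef
    have hval : (v : H) = x * z * x⁻¹ * (z : H)⁻¹ := rfl
    have key : ∀ k : ℕ, x ^ k * z * (x ^ k)⁻¹ = (v : H) ^ k * z := by
      intro k
      induction k with
      | zero => simp
      | succ k ih =>
        have hvk : x * (v : H) ^ k = (v : H) ^ k * x := (Commute.pow_right hv k).eq
        calc x ^ (k + 1) * z * (x ^ (k + 1))⁻¹ = x * (x ^ k * z * (x ^ k)⁻¹) * x⁻¹ := by
              rw [pow_succ']; group
          _ = (x * (v : H) ^ k) * z * x⁻¹ := by rw [ih]; group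
          _ = (v : H) ^ k * (x * z * x⁻¹ * (z : H)⁻¹) * z := by rw [hvk]; group
          _ = (v : H) ^ (k + 1) * z := by rw [← hval, pow_succ]
    have h := key (orderOf x)
    rw [pow_orderOf_eq_one, one_mul, inv_one, mul_one, right_eq_mul] at h
    exact Subtype.ext (eq_one_of_sq_of_odd_pow (hZ2 _ v.2) h hxodd)
  -- `x` fixes a nontrivial element but not all
  obtain ⟨w, hwZ, hxw, hw1⟩ : ∃ w ∈ Z, x * w = w * x ∧ w ≠ 1 := by
    by_contra h
    push Not at h
    have := eq_one_of_fpf hinv hxodd (hamb x) h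
    exact hxC (this ▸ one_mem C)
  obtain ⟨z, hzZ, hxz⟩ : ∃ z ∈ Z, x * z ≠ z * x := by
    by_contra h
    push Not at h
    exact hxC (Subgroup.mem_centralizer_iff.2 fun z hz => (h z hz).symm)
  set v : H := x * z * x⁻¹ * z⁻¹ with hvdef
  have hvr : (⟨v, hpowZ z hzZ⟩ : Z) ∈ φ.range := ⟨⟨z, hzZ⟩, rfl⟩
  have hv1 : v ≠ 1 := fun h => hxz (mul_inv_eq_iff_eq_mul.1 (mul_inv_eq_one.1 h))
  have hxv : x * v ≠ v * x := fun h => hv1 (congrArg Subtype.val (hdisj _ hvr h))
  have hwv1 : w * v ≠ 1 := fun h => hxv (by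
    rw [← inv_eq_of_mul_eq_one_right h]
    exact (Commute.inv_right hxw).eq)
  obtain ⟨c, hc⟩ := htrans w hwZ (w * v) (mul_mem hwZ (hpowZ z hzZ)) hw1 hwv1
  -- stabilisers in `D`
  let St : H → Subgroup H := fun a => D ⊓ Subgroup.centralizer {a}
  have hmemSt : ∀ a d : H, d ∈ St a ↔ d ∈ D ∧ d * a = a * d := fun a d =>
    Iff.and Iff.rfl Subgroup.mem_centralizer_singleton_iff
  have hle : St (w * v) ≤ St w ⊓ St v := by
    intro d hd
    obtain ⟨hdD, hd⟩ := (hmemSt _ _).1 hd
    set a := d * w * d⁻¹ * w⁻¹ with ha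
    set b := v * (d * v * d⁻¹)⁻¹ with hb
    have hab : a = b := by
      have h1 := hcommZ w⁻¹ (inv_mem hwZ) _ (inv_mem (hZn.conj_mem v (hpowZ z hzZ) d))
      have h2 : d * w * d⁻¹ = w * (v * (d * v * d⁻¹)⁻¹) := by
        calc d * w * d⁻¹ = (d * (w * v) * d⁻¹) * (d * v * d⁻¹)⁻¹ := by group
          _ = (w * v * d) * d⁻¹ * (d * v * d⁻¹)⁻¹ := by rw [hd]
          _ = _ := by group
      rw [ha, h2, hb, hcommZ w hwZ _ (mul_mem (hpowZ z hzZ) (inv_mem (hZn.conj_mem v (hpowZ z hzZ) d))), mul_inv_cancel_right]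
    have hafix : x * a = a * x := by
      have h1 : x * (d * w * d⁻¹) * x⁻¹ = d * w * d⁻¹ := by
        rw [← hswap d hdD w hwZ, hxw, mul_inv_cancel_right]
      have h2 : Commute x (d * w * d⁻¹) := mul_inv_eq_iff_eq_mul.1 h1
      exact (h2.mul_right (Commute.inv_right hxw)).eq
    have hbr : (⟨b, mul_mem (hpowZ z hzZ) (inv_mem (hZn.conj_mem v (hpowZ z hzZ) d))⟩ : Z) ∈ φ.range := by
      refine ⟨⟨z, hzZ⟩ * (⟨d * z * d⁻¹, hZn.conj_mem z hzZ d⟩ : Z)⁻¹, ?_⟩
      rw [map_mul, map_inv]
      refine Subtype.ext ?_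
      show v * (x * (d * z * d⁻¹) * x⁻¹ * (d * z * d⁻¹)⁻¹)⁻¹ = b
      rw [← hswap d hdD z hzZ, hb, hvdef]
      group
    have hb1 : b = 1 := congrArg Subtype.val (hdisj _ hbr (by show x * b = b * x; rw [← hab]; exact hafix))
    refine ⟨(hmemSt _ _).2 ⟨hdD, ?_⟩, (hmemSt _ _).2 ⟨hdD, ?_⟩⟩
    · exact mul_inv_eq_iff_eq_mul.1 (mul_inv_eq_one.1 (ha ▸ (hab.trans hb1)))
    · exact (mul_inv_eq_iff_eq_mul.1 (mul_inv_eq_one.1 (hb ▸ hb1)).symm)
  have hcard : Nat.card (St w) = Nat.card (St (w * v)) := by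
    have hmap : St (w * v) = (St w).map (MulAut.conj c).toMonoidHom := by
      ext d
      rw [Subgroup.mem_map_equiv, hmemSt, hmemSt, MulAut.conj_symm_apply, ← hc]
      refine Iff.and ⟨fun h => ?_, fun h => ?_⟩ ⟨fun h => ?_, fun h => ?_⟩
      · simpa using hDn.conj_mem d h c⁻¹
      · simpa [mul_assoc] using hDn.conj_mem _ h c
      · calc c⁻¹ * d * c * w = c⁻¹ * (d * (c * w * c⁻¹)) * c := by group
          _ = w * (c⁻¹ * d * c) := by rw [h]; group
      · calc d * (c * w * c⁻¹) = c * (c⁻¹ * d * c * w) * c⁻¹ := by group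
          _ = c * w * c⁻¹ * d := by rw [h]; group
    rw [hmap, Subgroup.card_map_of_injective (MulAut.conj c).injective]
  have heq : St (w * v) = St w :=
    Subgroup.eq_of_le_of_card_ge (hle.trans inf_le_left) hcard.le
  have hxw' : x ∈ St (w * v) := by rw [heq]; exact (hmemSt _ _).2 ⟨hxD, hxw⟩
  exact hxv ((hmemSt _ _).1 (hle hxw').2).2

end Abstract

theorem result {G : Type*} [Group G] [Finite G] [Group.IsSolvable G]
    (hamb : ∀ x : G, IsConj x x⁻¹) (heven : 2 ∣ Nat.card G) (hone : ∀ s t : G, orderOf s = 2 → orderOf t = 2 → IsConj s t) (S : Sylow 2 G) :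
    (Nat.card S = 2 ∨ ∃ n : ℕ, Nonempty ((S : Subgroup G) ≃* QuaternionGroup (2 ^ (n + 1)))) ∧
    (Nat.card S = 2 → (S : Subgroup G).IsComplement' (Cfsg.oddCore G) ∧ Cfsg.oddCore G = commutator G ∧
        ∀ t : G, t ∈ S → t ≠ 1 → ∀ x : G, x ∈ Cfsg.oddCore G → t * x * t⁻¹ = x⁻¹) := by
  haveI := Fact.mk Nat.prime_two
  set O := Cfsg.oddCore G with hOdef
  haveI hOn : O.Normal := by
    rw [hOdef]; unfold Cfsg.oddCore; infer_instance
  have hOodd : Odd (Nat.card O) := Cores.odd_card_oddCore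
  let π := QuotientGroup.mk' O
  have hπ : Function.Surjective π := QuotientGroup.mk_surjective
  -- properties of the quotient
  have hambQ : ∀ x : G ⧸ O, IsConj x x⁻¹ := by
    intro x
    obtain ⟨y, rfl⟩ := hπ x
    rw [← map_inv]
    exact π.map_isConj (hamb y)
  have hlift : ∀ u : G ⧸ O, orderOf u = 2 → ∃ g : G, orderOf g = 2 ∧ π g = u := by
    intro u hu
    obtain ⟨g, rfl⟩ := hπ u
    obtain ⟨e, o, ho, he⟩ := Nat.exists_eq_two_pow_mul_odd (orderOf_pos g).ne'
    have hgO : (g * g) ∈ O := by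
      rw [← QuotientGroup.eq_one_iff]
      have := pow_orderOf_eq_one (π g)
      rw [hu, pow_two, ← map_mul] at this
      exact this
    have hcard := orderOf_dvd_natCard (⟨_, hgO⟩ : O)
    rw [Subgroup.orderOf_mk, ← pow_two] at hcard
    have h2e : e = 1 := by
      have he0 : e ≠ 0 := by
        rintro rfl
        have h : orderOf (π g) ∣ orderOf g := orderOf_map_dvd π g
        rw [hu, he, pow_zero, one_mul] at h
        exact (Nat.not_even_iff_odd.2 ho) (even_iff_two_dvd.2 h)
      by_contra he1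
      rw [orderOf_pow, he] at hcard
      have h2 : Nat.gcd (2 ^ e * o) 2 = 2 := Nat.gcd_eq_right ((dvd_pow_self 2 he0).mul_right o)
      rw [h2] at hcard
      have h4 : 2 ∣ 2 ^ e * o / 2 := by
        obtain ⟨j, rfl⟩ : ∃ j, e = j + 2 := ⟨e - 2, by omega⟩
        refine ⟨2 ^ j * o, ?_⟩
        rw [show 2 ^ (j + 2) * o = 2 * (2 * (2 ^ j * o)) by ring, Nat.mul_div_cancel_left _ two_pos]
      exact (Nat.not_even_iff_odd.2 hOodd) (even_iff_two_dvd.2 (h4.trans hcard))
    subst h2e
    refine ⟨g ^ o, ?_, ?_⟩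
    · rw [orderOf_pow, he, pow_one, Nat.gcd_mul_left_left, Nat.mul_div_cancel _ ho.pos]
    · obtain ⟨k, rfl⟩ := ho
      rw [map_pow, pow_succ, pow_mul, ← hu, pow_orderOf_eq_one, one_pow, one_mul]
  have honeQ : ∀ s t : G ⧸ O, orderOf s = 2 → orderOf t = 2 → IsConj s t := by
    intro s t hs ht
    obtain ⟨g, hg, rfl⟩ := hlift s hs
    obtain ⟨g', hg', rfl⟩ := hlift t ht
    exact π.map_isConj (hone g g' hg hg')
  have hOQ : ∀ N : Subgroup (G ⧸ O), N.Normal → Odd (Nat.card N) → N = ⊥ := by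
    intro N hN hodd
    have hc : Nat.card (N.comap π) = Nat.card O * Nat.card N := by
      have h1 := O.card_eq_card_quotient_mul_card_subgroup
      have h2 := (N.comap π).card_mul_index
      rw [Subgroup.index_comap_of_surjective N hπ] at h2
      have h3 := N.card_mul_index
      have hpos : N.index ≠ 0 := Subgroup.index_ne_zero_of_finite
      apply Nat.eq_of_mul_eq_mul_right (Nat.pos_of_ne_zero hpos)
      rw [h2, h1, ← h3]; ring
    haveI : (N.comap π).Normal := hN.comap π
    have hle : N.comap π ≤ O := Cores.le_oddCore (by rw [hc]; exact hOodd.mul hodd)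
    rw [← Subgroup.map_comap_eq_self_of_surjective hπ N, Subgroup.map_eq_bot_iff, QuotientGroup.ker_mk']
    exact hle
  have hevenQ : 2 ∣ Nat.card (G ⧸ O) := by
    rw [O.card_eq_card_quotient_mul_card_subgroup] at heven
    exact (Nat.prime_two.dvd_mul.1 heven).resolve_right fun h =>
      (Nat.not_even_iff_odd.2 hOodd) (even_iff_two_dvd.2 h)
  haveI : Group.IsSolvable (G ⧸ O) := Group.isSolvable_of_surjective hπ
  have huQ := unique_involution hambQ hevenQ honeQ hOQ
  -- `S` embeds into the quotient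
  set T : Subgroup G := ↑S with hT
  have hTp : IsPGroup 2 T := S.isPGroup'
  have hinj : Function.Injective (π.comp T.subtype) := by
    rw [injective_iff_map_eq_one]
    intro s hs
    have hsO : (s : G) ∈ O := (QuotientGroup.eq_one_iff _).1 hs
    obtain ⟨k, hk⟩ := (IsPGroup.iff_orderOf).1 hTp s
    have h := orderOf_dvd_natCard (⟨_, hsO⟩ : O)
    rw [Subgroup.orderOf_mk, Subgroup.orderOf_coe, hk] at h
    rw [← orderOf_eq_one_iff, hk]
    exact Nat.eq_one_of_dvd_coprimes ((Nat.coprime_two_left.2 hOodd).pow_left k) dvd_rfl h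
  have hTu : ∀ a b : T, orderOf a = 2 → orderOf b = 2 → a = b := by
    intro a b ha hb
    exact hinj (huQ _ _ (by rw [orderOf_injective _ hinj, ha]) (by rw [orderOf_injective _ hinj, hb]))
  have hsub : ∀ A B : Subgroup T, Nat.card A = 2 → Nat.card B = 2 → A = B := by
    intro A B hA hB
    obtain ⟨a, ha⟩ := exists_prime_orderOf_dvd_card' (G := A) 2 (by rw [hA])
    obtain ⟨b, hb⟩ := exists_prime_orderOf_dvd_card' (G := B) 2 (by rw [hB])
    have hab : (a : T) = (b : T) := hTu _ _ (by rw [Subgroup.orderOf_coe, ha]) (by rw [Subgroup.orderOf_coe, hb])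
    have e1 : Subgroup.zpowers (a : T) = A := Subgroup.eq_of_le_of_card_ge (Subgroup.zpowers_le.2 a.2)
      (by rw [hA, Nat.card_zpowers, Subgroup.orderOf_coe, ha])
    have e2 : Subgroup.zpowers (b : T) = B := Subgroup.eq_of_le_of_card_ge (Subgroup.zpowers_le.2 b.2)
      (by rw [hB, Nat.card_zpowers, Subgroup.orderOf_coe, hb])
    rw [← e1, ← e2, hab]
  have hcyc2 : IsCyclic T → Nat.card S = 2 := by
    intro hc
    have hmin : (Nat.card G).minFac = 2 := Nat.minFac_eq_two_iff _ |>.2 heven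
    have hNC := hc.normalizer_le_centralizer hmin
    have h2T : 2 ∣ Nat.card T := S.dvd_card_of_dvd_card heven
    obtain ⟨s, hs⟩ := hc.exists_ofOrder_eq_natCard
    set f := MonoidHom.transferSylow S hNC with hf
    have hdisj := (MonoidHom.ker_transferSylow_isComplement' S hNC).disjoint
    have hinjf : Function.Injective (f.comp T.subtype) := by
      rw [injective_iff_map_eq_one]
      intro t ht
      have hmem : (t : G) ∈ f.ker ⊓ T := ⟨ht, t.2⟩
      rw [disjoint_iff.1 hdisj, Subgroup.mem_bot] at hmem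
      exact Subtype.ext hmem
    obtain ⟨g, hg⟩ := isConj_iff.1 (hamb (s : G))
    have h := congrArg f hg
    have hcm : ∀ a b : T, a * b = b * a := fun a b => hc.commGroup.mul_comm a b
    rw [map_mul, map_mul, hcm (f g), mul_assoc, ← map_mul, mul_inv_cancel, map_one, mul_one] at h
    have h' : s = s⁻¹ := hinjf (by simpa using h)
    have hd : orderOf s ∣ 2 := orderOf_dvd_of_pow_eq_one (by rw [pow_two]; nth_rewrite 2 [h']; exact mul_inv_cancel s)
    rw [hs] at hd
    exact Nat.dvd_antisymm hd h2T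
  refine ⟨?_, fun hS2 => ?_⟩
  · rcases Cfsg.Agent.S0016.result 2 hTp hsub with hc | ⟨-, l, ⟨e⟩⟩
    · exact Or.inl (hcyc2 hc)
    · rcases l with _ | l
      · left
        apply hcyc2
        haveI : IsCyclic (QuaternionGroup (2 ^ 0)) :=
          isCyclic_of_orderOf_eq_card (QuaternionGroup.xa 0) (by
            rw [QuaternionGroup.orderOf_xa, Nat.card_eq_fintype_card]; rfl)
        exact e.isCyclic.2 inferInstance
      · exact Or.inr ⟨l, ⟨e⟩⟩
  · have hT2 : Nat.card T = 2 := hS2
    have hc : IsCyclic T := isCyclic_of_prime_card hT2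
    have hmin : (Nat.card G).minFac = 2 := Nat.minFac_eq_two_iff _ |>.2 heven
    have hNC := hc.normalizer_le_centralizer hmin
    set f := MonoidHom.transferSylow S hNC with hf
    have hcompl := MonoidHom.ker_transferSylow_isComplement' S hNC
    have hKodd : Odd (Nat.card f.ker) := by
      exact Nat.odd_iff.2 (Nat.two_dvd_ne_zero.1 (MonoidHom.not_dvd_card_ker_transferSylow S hNC))
    have hKO : f.ker = O := by
      refine Subgroup.eq_of_le_of_card_ge (Cores.le_oddCore hKodd) ?_
      have h1 := hcompl.card_mul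
      rw [hT2] at h1
      obtain ⟨j, hj⟩ := O.card_subgroup_dvd_card
      obtain ⟨i, hi⟩ := hevenQ
      have h3 := O.card_eq_card_quotient_mul_card_subgroup
      rw [hi] at h3
      have : Nat.card O ≤ Nat.card f.ker := by
        have hq : 0 < i := by
          rcases Nat.eq_zero_or_pos i with rfl | h
          · simp at h3; exact absurd h3 Nat.card_pos.ne'
          · exact h
        nlinarith [Nat.card_pos (α := O)]
      exact this
    rw [hKO] at hcompl
    refine ⟨hcompl.symm, ?_, ?_⟩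
    · apply le_antisymm
      · intro x hx
        obtain ⟨g, hg⟩ := isConj_iff.1 (hamb x)
        have h2 : (x ^ 2)⁻¹ ∈ commutator G := by
          have h : (x ^ 2)⁻¹ = ⁅g, x⁆ := by
            rw [commutatorElement_def, hg, pow_two, mul_inv_rev]
          rw [h, _root_.commutator_def]
          exact Subgroup.commutator_mem_commutator (Subgroup.mem_top g) (Subgroup.mem_top x)
        have ho : Odd (orderOf x) := by
          have h := orderOf_dvd_natCard (⟨x, hx⟩ : O)
          rw [Subgroup.orderOf_mk] at h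
          exact hOodd.of_dvd_nat h
        obtain ⟨k, hk⟩ := ho
        have hx' : x = ((x ^ 2)⁻¹)⁻¹ ^ (k + 1) := by
          rw [inv_inv, ← pow_mul, show 2 * (k + 1) = orderOf x + 1 by omega, pow_succ, pow_orderOf_eq_one, one_mul]
        rw [hx']
        exact pow_mem (inv_mem h2) _
      · rw [← hKO]
        rw [_root_.commutator_def, Subgroup.commutator_le]
        intro a _ b _
        rw [MonoidHom.mem_ker, map_commutatorElement, commutatorElement_eq_one_iff_mul_comm]
        exact hc.commGroup.mul_comm _ _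
    · intro t ht ht1
      have htT : ∀ s : G, s ∈ T → s = 1 ∨ s = t := by
        intro s hs
        by_cases hs1 : s = 1
        · exact Or.inl hs1
        right
        have ho : ∀ u : G, ∀ hu : u ∈ T, u ≠ 1 → orderOf (⟨u, hu⟩ : T) = 2 := fun u hu hu1 => by
          rcases (Nat.dvd_prime Nat.prime_two).1 (hT2 ▸ orderOf_dvd_natCard (⟨u, hu⟩ : T)) with h | h
          · exact absurd (congrArg Subtype.val (orderOf_eq_one_iff.1 h)) hu1
          · exact h
        exact congrArg Subtype.val (hTu _ _ (ho s hs hs1) (ho t ht ht1))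
      have ht2 : t * t = 1 := by
        rcases htT _ (mul_mem (show t ∈ T from ht) ht) with h | h
        · exact h
        · exact absurd (mul_left_cancel (h.trans (mul_one t).symm)) ht1
      have hfix : ∀ c ∈ O, t * c * t⁻¹ = c → c = 1 := by
        intro c hcO hct
        obtain ⟨g, hg⟩ := isConj_iff.1 (hamb c)
        obtain ⟨⟨o, s⟩, hos⟩ := (hcompl.existsUnique g).exists
        simp only at hos
        have hoc : (o : G) * c * (o : G)⁻¹ = c⁻¹ := by
          rw [← hos] at hg
          rcases htT s s.2 with h | h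
          · rw [h, mul_one] at hg; exact hg
          · rw [h] at hg
            calc (o : G) * c * (o : G)⁻¹ = o * (t * c * t⁻¹) * (o : G)⁻¹ := by rw [hct]
              _ = o * t * c * ((o : G) * t)⁻¹ := by group
              _ = c⁻¹ := hg
        obtain ⟨e, m, hm, he⟩ := Nat.exists_eq_two_pow_mul_odd (orderOf_pos (o : G)).ne'
        have hoo : Odd (orderOf (o : G)) := by
          rw [Subgroup.orderOf_coe]
          exact hOodd.of_dvd_nat (orderOf_dvd_natCard o)
        have hc2 : Commute ((o : G) * o) c := by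
          show (o : G) * o * c = c * (o * o)
          calc (o : G) * o * c = o * ((o : G) * c * (o : G)⁻¹) * o := by group
            _ = o * c⁻¹ * o := by rw [hoc]
            _ = ((o : G) * c * (o : G)⁻¹)⁻¹ * (o * o) := by group
            _ = c * (o * o) := by rw [hoc, inv_inv]
        obtain ⟨k, hk⟩ := hoo
        have hoeq : ((o : G) * o) ^ (k + 1) = (o : G) := by
          rw [← pow_two, ← pow_mul, show 2 * (k + 1) = orderOf (o : G) + 1 by omega, pow_succ,
            pow_orderOf_eq_one, one_mul]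
        have hcomm : Commute (o : G) c := hoeq ▸ hc2.pow_left (k + 1)
        rw [hcomm.eq, mul_inv_cancel_right] at hoc
        refine eq_one_of_sq_of_odd_pow (by nth_rewrite 2 [hoc]; exact mul_inv_cancel c) (pow_orderOf_eq_one c) ?_
        have h := orderOf_dvd_natCard (⟨c, hcO⟩ : O)
        rw [Subgroup.orderOf_mk] at h
        exact hOodd.of_dvd_nat h
      let ψ : O →* O := (MulAut.conjNormal t).toMonoidHom
      have hψ : MonoidHom.FixedPointFree ψ := fun a ha =>
        Subtype.ext (hfix a a.2 (congrArg Subtype.val ha))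
      have hψ2 : Function.Involutive ψ := fun a => Subtype.ext (by
        show t * (t * (a : G) * t⁻¹) * t⁻¹ = a
        calc t * (t * (a : G) * t⁻¹) * t⁻¹ = (t * t) * a * (t * t)⁻¹ := by group
          _ = a := by rw [ht2]; group)
      intro x hx
      have h := congrFun (hψ.coe_eq_inv_of_involutive hψ2) ⟨x, hx⟩
      exact congrArg Subtype.val h

end Cfsg.Agent.S4061
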