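import Cfsg.Statements.S4062
import Cfsg.Agent.H24.Solv

set_option autoImplicit false
set_option linter.style.haveILetI false
open Cfsg
open scoped commutatorElement

namespace Cfsg.Agent.S4062

/-- The consequences of the hypothesis which pass to quotients. -/
structure Nice (R : Type*) [Group R] : Prop where
  real : ∀ r : R, IsConj r r⁻¹
  conj : ∀ (p e : ℕ) (a b : R), p.Prime → orderOf a = p ^ (e + 1) → orderOf b = p ^ (e + 1) → IsConj a b

theorem exists_lift {G R : Type*} [Group G] [Finite G] [Group R] {f : G →* R} (hf : Function.Surjective f)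
    {p n : ℕ} (hp : p.Prime) (a : R) (ha : orderOf a = p ^ n) : ∃ (x : G) (i : ℕ), f x = a ∧ orderOf x = p ^ i := by
  obtain ⟨x, rfl⟩ := hf a
  obtain ⟨k, m, hm, hx⟩ := Nat.exists_eq_pow_mul_and_not_dvd (orderOf_pos x).ne' p hp.ne_one
  have hco : (orderOf (f x)).Coprime m := by
    rw [ha]; exact Nat.Coprime.pow_left _ ((hp.coprime_iff_not_dvd).2 hm)
  obtain ⟨s, hs⟩ := exists_pow_eq_self_of_coprime hco.symm
  have hd : orderOf ((x ^ m) ^ s) ∣ p ^ k := by
    apply orderOf_dvd_of_pow_eq_one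
    rw [← pow_mul, ← pow_mul, show m * (s * p ^ k) = orderOf x * s by rw [hx]; ring, pow_mul, pow_orderOf_eq_one, one_pow]
  obtain ⟨i, -, hi⟩ := (Nat.dvd_prime_pow hp).1 hd
  exact ⟨(x ^ m) ^ s, i, by rw [map_pow, map_pow, hs], hi⟩

theorem nice_of_surjective {G R : Type*} [Group G] [Finite G] [Group R] (h : ∀ x y : G, orderOf x = orderOf y → IsConj x y)
    {f : G →* R} (hf : Function.Surjective f) : Nice R where
  real r := by
    obtain ⟨x, rfl⟩ := hf r
    rw [← map_inv]
    exact f.map_isConj (h x x⁻¹ (orderOf_inv x).symm)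
  conj p e a b hp ha hb := by
    have key : ∀ (a b : R) (x y : G) (i j : ℕ), orderOf a = p ^ (e + 1) → orderOf b = p ^ (e + 1) → f x = a → f y = b →
        orderOf x = p ^ i → orderOf y = p ^ j → i ≤ j → IsConj a b := by
      intro a b x y i j ha hb hxa hyb hx hy hij
      rcases hij.eq_or_lt with rfl | hlt
      · rw [← hxa, ← hyb]; exact f.map_isConj (h x y (hx.trans hy.symm))
      · exfalso
        have hd : p ^ (j - i) ∣ orderOf y := hy ▸ pow_dvd_pow p (Nat.sub_le j i)
        have hz : orderOf (y ^ p ^ (j - i)) = p ^ i := by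
          rw [orderOf_pow_of_dvd (pow_ne_zero _ hp.ne_zero) hd, hy, Nat.pow_div (Nat.sub_le j i) hp.pos]
          congr 1; omega
        obtain ⟨g, hg⟩ := isConj_iff.1 (h x (y ^ p ^ (j - i)) (hx.trans hz.symm))
        have h1 : orderOf (b ^ p ^ (j - i)) = p ^ (e + 1) := by
          rw [← hyb, ← map_pow, ← hg, map_mul, map_mul, map_inv, hxa]
          exact ((MulAut.conj (f g)).orderOf_eq a).trans ha
        have h2 : (b ^ p ^ (j - i)) ^ p ^ e = 1 := by
          rw [← pow_mul, ← pow_add]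
          apply orderOf_dvd_iff_pow_eq_one.1
          rw [hb]
          exact pow_dvd_pow p (by omega)
        have h3 := orderOf_dvd_of_pow_eq_one h2
        rw [h1, Nat.pow_dvd_pow_iff_le_right hp.one_lt] at h3
        omega
    obtain ⟨x, i, hxa, hx⟩ := exists_lift hf hp a ha
    obtain ⟨y, j, hyb, hy⟩ := exists_lift hf hp b hb
    rcases le_total i j with hij | hij
    · exact key a b x y i j ha hb hxa hyb hx hy hij
    · exact (key b a y x j i hb ha hyb hxa hy hx hij).symm

theorem card_le_two_of_comm {R : Type*} [Group R] [Finite R] (hR : Nice R) (hc : ∀ a b : R, a * b = b * a) :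
    Nat.card R ≤ 2 := by
  have heq : ∀ a b : R, IsConj a b → a = b := fun a b hab => by
    obtain ⟨g, hg⟩ := isConj_iff.1 hab
    rw [← hg, hc g a, mul_inv_cancel_right]
  have hsq : ∀ r : R, r ^ 2 = 1 := fun r => by
    rw [pow_two]; exact eq_inv_iff_mul_eq_one.1 (heq _ _ (hR.real r))
  haveI : Fact (Nat.Prime 2) := ⟨Nat.prime_two⟩
  classical
  haveI := Fintype.ofFinite R
  rw [Nat.card_eq_fintype_card]
  by_contra hlt
  push Not at hlt
  obtain ⟨a, ha⟩ := Fintype.exists_ne_of_one_lt_card (by omega : 1 < Fintype.card R) (1 : R)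
  obtain ⟨b, hb1, hba⟩ : ∃ b : R, b ≠ 1 ∧ b ≠ a := by
    by_contra hno
    push Not at hno
    have : (Finset.univ : Finset R) ⊆ {1, a} := fun x _ => by
      simp only [Finset.mem_insert, Finset.mem_singleton]
      exact or_iff_not_imp_left.2 (hno x)
    have := (Finset.card_le_card this).trans Finset.card_le_two
    rw [Finset.card_univ] at this
    omega
  have ho : ∀ r : R, r ≠ 1 → orderOf r = 2 ^ (0 + 1) := fun r hr => orderOf_eq_prime (hsq r) hr
  exact hba (heq _ _ (hR.conj 2 0 b a Nat.prime_two (ho b hb1) (ho a ha)))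

/-- The case of an abelian derived subgroup of index `2`. -/
theorem card_eq_three {R : Type*} [Group R] [Finite R] (hR : Nice R) {A : Subgroup R} (hA : commutator R = A)
    (h2 : A.index = 2) (hAc : ∀ a ∈ A, ∀ b ∈ A, a * b = b * a) (hne : A ≠ ⊥) : Nat.card A = 3 := by
  have hAn : A.Normal := Subgroup.normal_of_index_eq_two h2
  obtain ⟨t, ht⟩ : ∃ t, t ∉ A := by
    by_contra hno
    push Not at hno
    rw [(Subgroup.eq_top_iff' A).2 hno, Subgroup.index_top] at h2
    exact absurd h2 (by norm_num)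
  let φ : A →* A :=
    { toFun := fun a => ⟨t * a * t⁻¹ * (a : R)⁻¹, mul_mem (hAn.conj_mem _ a.2 t) (inv_mem a.2)⟩
      map_one' := Subtype.ext (by simp)
      map_mul' := fun a b => Subtype.ext (by
        have e := hAc _ (mul_mem (hAn.conj_mem _ b.2 t) (inv_mem b.2)) _ (inv_mem a.2)
        calc t * (a * b : R) * t⁻¹ * (a * b : R)⁻¹
            = t * a * t⁻¹ * ((t * b * t⁻¹ * (b : R)⁻¹) * (a : R)⁻¹) := by group
          _ = t * a * t⁻¹ * ((a : R)⁻¹ * (t * b * t⁻¹ * (b : R)⁻¹)) := by rw [e]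
          _ = t * a * t⁻¹ * (a : R)⁻¹ * (t * b * t⁻¹ * (b : R)⁻¹) := by group) }
  have hdec : ∀ r : R, r ∉ A → ∃ a ∈ A, r = a * t := fun r hr =>
    ⟨r * t⁻¹, (Subgroup.mul_mem_iff_of_index_two h2).2 (iff_of_false hr (by rwa [inv_mem_iff])), by group⟩
  have hrange : A ≤ φ.range.map A.subtype := by
    have mem : ∀ a ∈ A, t * a * t⁻¹ * a⁻¹ ∈ φ.range.map A.subtype := fun a ha => ⟨φ ⟨a, ha⟩, ⟨⟨a, ha⟩, rfl⟩, rfl⟩
    conv_lhs => rw [← hA]
    rw [commutator_def, Subgroup.commutator_le]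
    intro r _ s _
    rw [commutatorElement_def]
    by_cases hr : r ∈ A <;> by_cases hs : s ∈ A
    · rw [hAc r hr s hs, mul_inv_cancel_right, mul_inv_cancel]; exact one_mem _
    · obtain ⟨b, hb, rfl⟩ := hdec s hs
      have e := hAc b hb _ (hAn.conj_mem _ (inv_mem hr) t)
      have e' := hAc r hr _ (hAn.conj_mem _ (inv_mem hr) t)
      rw [show r * (b * t) * r⁻¹ * (b * t)⁻¹ = r * (b * (t * r⁻¹ * t⁻¹)) * b⁻¹ by group, e,
        show r * (t * r⁻¹ * t⁻¹ * b) * b⁻¹ = r * (t * r⁻¹ * t⁻¹) by group, e']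
      simpa using mem r⁻¹ (inv_mem hr)
    · obtain ⟨a, ha, rfl⟩ := hdec r hr
      have e := hAc a ha _ (mul_mem (hAn.conj_mem _ hs t) (inv_mem hs))
      have e' := hAc a⁻¹ (inv_mem ha) s⁻¹ (inv_mem hs)
      rw [show a * t * s * (a * t)⁻¹ * s⁻¹ = a * (t * s * t⁻¹ * (a⁻¹ * s⁻¹)) by group, e',
        show a * (t * s * t⁻¹ * (s⁻¹ * a⁻¹)) = a * (t * s * t⁻¹ * s⁻¹) * a⁻¹ by group, e, mul_inv_cancel_right]
      exact mem s hs
    · obtain ⟨a, ha, rfl⟩ := hdec r hr
      obtain ⟨b, hb, rfl⟩ := hdec s hs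
      have hba := mul_mem hb (inv_mem ha)
      have e := hAc a ha _ (hAn.conj_mem _ hba t)
      rw [show a * t * (b * t) * (a * t)⁻¹ * (b * t)⁻¹ = a * (t * (b * a⁻¹) * t⁻¹) * b⁻¹ by group, e,
        show t * (b * a⁻¹) * t⁻¹ * a * b⁻¹ = t * (b * a⁻¹) * t⁻¹ * (b * a⁻¹)⁻¹ by group]
      exact mem _ hba
  have hinj : Function.Injective φ := Finite.injective_iff_surjective.2 fun a => by
    obtain ⟨_, ⟨b, rfl⟩, hb⟩ := hrange a.2
    exact ⟨b, Subtype.ext hb⟩
  have hfix : ∀ a ∈ A, t * a * t⁻¹ = a → a = 1 := fun a ha e => by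
    have : φ ⟨a, ha⟩ = φ 1 := by
      rw [map_one]
      exact Subtype.ext (show t * a * t⁻¹ * a⁻¹ = 1 by rw [e, mul_inv_cancel])
    exact congrArg Subtype.val (hinj this)
  have htt : t * t ∈ A := (Subgroup.mul_mem_iff_of_index_two h2).2 Iff.rfl
  have hinv : ∀ a ∈ A, t * a * t⁻¹ = a⁻¹ := fun a ha => by
    have e := hAc _ htt a ha
    have h1 := hfix (a * (t * a * t⁻¹)) (mul_mem ha (hAn.conj_mem _ ha t)) (by
      rw [show t * (a * (t * a * t⁻¹)) * t⁻¹ = (t * a * t⁻¹) * ((t * t * a) * (t * t)⁻¹) by group, e,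
        mul_inv_cancel_right, hAc _ (hAn.conj_mem _ ha t) a ha])
    exact eq_inv_of_mul_eq_one_right h1
  have hclass : ∀ a ∈ A, ∀ b, IsConj a b → b = a ∨ b = a⁻¹ := by
    intro a ha b hab
    obtain ⟨r, rfl⟩ := isConj_iff.1 hab
    by_cases hr : r ∈ A
    · left; rw [hAc r hr a ha, mul_inv_cancel_right]
    · obtain ⟨c, hc, rfl⟩ := hdec r hr
      right
      rw [show c * t * a * (c * t)⁻¹ = c * (t * a * t⁻¹) * c⁻¹ by group, hinv a ha, hAc c hc _ (inv_mem ha), mul_inv_cancel_right]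
  have hpow : ∀ a ∈ A, ∀ p e : ℕ, p.Prime → orderOf a = p ^ (e + 1) → p = 3 ∧ e = 0 := by
    intro a ha p e hp ho
    have hp2 : p ≠ 2 := by
      rintro rfl
      have hk : orderOf (a ^ 2 ^ e) = 2 := by
        rw [orderOf_pow_of_dvd (by positivity) (ho ▸ pow_dvd_pow 2 (Nat.le_succ e)), ho, pow_succ, Nat.mul_div_cancel_left _ (by positivity)]
      have hsq : (a ^ 2 ^ e)⁻¹ = a ^ 2 ^ e := by
        rw [inv_eq_iff_mul_eq_one, ← pow_two]
        exact orderOf_dvd_iff_pow_eq_one.1 (dvd_of_eq hk)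
      have h1 := hfix _ (pow_mem ha _) ((hinv _ (pow_mem ha _)).trans hsq)
      rw [h1, orderOf_one] at hk
      omega
    have h2o : orderOf (a ^ 2) = p ^ (e + 1) := by
      rw [Nat.Coprime.orderOf_pow]
      · exact ho
      · rw [ho]; exact Nat.Coprime.pow_left _ ((Nat.coprime_primes hp Nat.prime_two).2 hp2)
    have ha1 : a ≠ 1 := fun e' => by
      rw [e', orderOf_one] at ho
      exact (Nat.one_lt_pow (by omega) hp.one_lt).ne ho
    rcases hclass a ha _ (hR.conj p e a (a ^ 2) hp ho h2o) with h | h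
    · rw [pow_two, mul_eq_left] at h; exact absurd h ha1
    · have h3 : a ^ 3 = 1 := by rw [pow_succ, h, inv_mul_cancel]
      have hd := orderOf_dvd_of_pow_eq_one h3
      rw [ho] at hd
      have hp3 : p = 3 := (Nat.prime_dvd_prime_iff_eq hp Nat.prime_three).1 ((dvd_pow_self p (by omega)).trans hd)
      subst hp3
      have := Nat.le_of_dvd (by norm_num) hd
      refine ⟨rfl, ?_⟩
      rcases Nat.eq_zero_or_pos e with he | he
      · exact he
      · have h9 : 3 ^ 2 ≤ 3 ^ (e + 1) := Nat.pow_le_pow_right (by norm_num) (by omega)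
        omega
  have hord : ∀ a ∈ A, a ≠ 1 → orderOf a = 3 := by
    intro a ha ha1
    have hn := (orderOf_pos a).ne'
    have h1 : orderOf a ≠ 1 := mt orderOf_eq_one_iff.1 ha1
    obtain ⟨p, hp, hd⟩ := Nat.exists_prime_and_dvd h1
    obtain ⟨k, m, hm, hx⟩ := Nat.exists_eq_pow_mul_and_not_dvd hn p hp.ne_one
    obtain ⟨e, rfl⟩ : ∃ e, k = e + 1 := Nat.exists_eq_succ_of_ne_zero fun hk => by
      rw [hk, pow_zero, one_mul] at hx; exact hm (hx ▸ hd)
    have hm0 : m ≠ 0 := fun e' => hm (e' ▸ dvd_zero p)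
    obtain ⟨hp3, he⟩ := hpow (a ^ m) (pow_mem ha m) p e hp (by
      rw [orderOf_pow_of_dvd hm0 (hx ▸ dvd_mul_left m _), hx, Nat.mul_div_cancel _ (Nat.pos_of_ne_zero hm0)])
    subst hp3 he
    by_contra hne3
    have hm1 : m ≠ 1 := fun e' => hne3 (by rw [hx, e']; norm_num)
    obtain ⟨q, hq, hqd⟩ := Nat.exists_prime_and_dvd hm1
    have hqo : q ∣ orderOf a := hx ▸ dvd_mul_of_dvd_right hqd _
    have hq0 : orderOf a / q ≠ 0 := (Nat.div_pos (Nat.le_of_dvd (orderOf_pos a) hqo) hq.pos).ne'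
    obtain ⟨hq3, -⟩ := hpow (a ^ (orderOf a / q)) (pow_mem ha _) q 0 hq (by
      rw [orderOf_pow_of_dvd hq0 (Nat.div_dvd_of_dvd hqo), Nat.div_div_self hqo hn, zero_add, pow_one])
    subst hq3
    exact hm hqd
  obtain ⟨⟨a, ha⟩, ha1⟩ := (Subgroup.ne_bot_iff_exists_ne_one).1 hne
  have ha1' : a ≠ 1 := fun e => ha1 (Subtype.ext e)
  haveI := Fact.mk Nat.prime_three
  have hcz : Nat.card (Subgroup.zpowers a) = 3 := by rw [Nat.card_zpowers]; exact hord a ha ha1'
  have hAz : A = Subgroup.zpowers a := by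
    refine le_antisymm (fun b hb => ?_) (by rwa [Subgroup.zpowers_le])
    rcases eq_or_ne b 1 with rfl | hb1
    · exact one_mem _
    · rcases hclass a ha b (hR.conj 3 0 a b Nat.prime_three (by simpa using hord a ha ha1') (by simpa using hord b hb hb1)) with rfl | rfl
      · exact Subgroup.mem_zpowers _
      · exact inv_mem (Subgroup.mem_zpowers _)
  rwa [hAz]

/-- No nontrivial minimal normal subgroup below the derived subgroup of index `6`. -/
theorem no_third_step {R : Type*} [Group R] [Finite R] [Group.IsSolvable R] (hR : Nice R)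
    {A V : Subgroup R} [V.Normal] (hA : commutator R = A) (h2 : A.index = 2) (hVA : V ≤ A)
    (h3 : V.relIndex A = 3) (hV : V ≠ ⊥)
    (hmin : ∀ M : Subgroup R, M.Normal → M ≤ V → M = ⊥ ∨ M = V) : False := by
  have hAn : A.Normal := Subgroup.normal_of_index_eq_two h2
  have h6 : V.index = 6 := by rw [← Subgroup.relIndex_mul_index hVA, h3, h2]
  obtain ⟨hVc, p, hp, hVp⟩ := Cfsg.Agent.H24.minimal_normal_elementary V hV hmin
  obtain ⟨c, hcA, hcV⟩ : ∃ c ∈ A, c ∉ V := Set.not_subset.1 fun h => by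
    rw [Subgroup.relIndex_eq_one.2 h] at h3; omega
  obtain ⟨r₀, hr₀⟩ : ∃ r, r ∉ A := by
    by_contra hno
    push Not at hno
    rw [(Subgroup.eq_top_iff' A).2 hno, Subgroup.index_top] at h2
    exact absurd h2 (by norm_num)
  obtain ⟨t, htA, htV⟩ : ∃ t, t ∉ A ∧ t * t ∈ V := by
    refine ⟨r₀ ^ 3, fun h => hr₀ ?_, ?_⟩
    · have h2' : r₀ ^ 2 ∈ A := h2 ▸ A.pow_index_mem r₀
      have := mul_mem (inv_mem h2') h
      rwa [show (r₀ ^ 2)⁻¹ * r₀ ^ 3 = r₀ by group] at this
    · have h := V.pow_index_mem r₀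
      rw [h6] at h
      rw [← pow_add]; exact h
  haveI := Fact.mk Nat.prime_three
  -- `A` is generated by `c` and `V`
  have hAdec : ∀ a ∈ A, ∃ (i : ℕ), i < 3 ∧ (c ^ i)⁻¹ * a ∈ V := by
    intro a ha
    haveI : (V.subgroupOf A).Normal := Subgroup.normal_subgroupOf
    have hcard : Nat.card (A ⧸ V.subgroupOf A) = 3 := h3
    have htop := zpowers_eq_top_of_prime_card hcard (g := QuotientGroup.mk' (V.subgroupOf A) ⟨c, hcA⟩)
      (fun h => hcV (by rwa [QuotientGroup.mk'_apply, QuotientGroup.eq_one_iff, Subgroup.mem_subgroupOf] at h))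
    have hm : QuotientGroup.mk' (V.subgroupOf A) ⟨a, ha⟩ ∈ Subgroup.zpowers (QuotientGroup.mk' (V.subgroupOf A) ⟨c, hcA⟩) := by
      rw [htop]; trivial
    classical
    rw [mem_zpowers_iff_mem_range_orderOf, Finset.mem_image] at hm
    obtain ⟨i, hi, hie⟩ := hm
    refine ⟨i, lt_of_lt_of_le (Finset.mem_range.1 hi) (Nat.le_of_dvd (by norm_num) (hcard ▸ orderOf_dvd_natCard _)), ?_⟩
    rw [← map_pow, QuotientGroup.mk'_apply, QuotientGroup.mk'_apply, QuotientGroup.eq, Subgroup.mem_subgroupOf] at hie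
    simpa using hie
  -- no nontrivial element of `V` is central in `A`
  have hVcomm : ∀ u ∈ V, ∀ v ∈ V, u * v = v * u := fun u hu v hv =>
    congrArg Subtype.val (hVc.is_comm.comm ⟨u, hu⟩ ⟨v, hv⟩)
  have hZ : V ⊓ Subgroup.centralizer (A : Set R) = ⊥ := by
    refine (hmin _ inferInstance inf_le_left).resolve_right fun h => ?_
    have hVZ : ∀ v ∈ V, ∀ a ∈ A, a * v = v * a := fun v hv a ha =>
      Subgroup.mem_centralizer_iff.1 (Subgroup.mem_inf.1 (h.ge hv)).2 a ha
    have hAc : ∀ a ∈ A, ∀ b ∈ A, a * b = b * a := by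
      intro a ha b hb
      obtain ⟨i, -, hi⟩ := hAdec a ha
      obtain ⟨j, -, hj⟩ := hAdec b hb
      obtain ⟨u, hu, rfl⟩ : ∃ u ∈ V, a = c ^ i * u := ⟨_, hi, by group⟩
      obtain ⟨v, hv, rfl⟩ : ∃ v ∈ V, b = c ^ j * v := ⟨_, hj, by group⟩
      have hvc : ∀ (w : R), w ∈ V → ∀ k : ℕ, Commute (c ^ k) w := fun w hw k =>
        Commute.pow_left (hVZ w hw c hcA) k
      exact ((((Commute.refl c).pow_pow i j).mul_right (hvc v hv i)).mul_left
        (((hvc u hu j).symm).mul_right (hVcomm u hu v hv))).eq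
    have hA3 := card_eq_three hR hA h2 hAc (fun e => hV (le_bot_iff.1 (e ▸ hVA)))
    have := Subgroup.relIndex_mul_relIndex ⊥ V A bot_le hVA
    rw [Subgroup.relIndex_bot_left, Subgroup.relIndex_bot_left, h3, hA3] at this
    exact hV (Subgroup.eq_bot_of_card_eq V (by omega))
  have hcom : ∀ x y : R, ⁅x, y⁆ ∈ A := fun x y => hA ▸
    Subgroup.commutator_mem_commutator (Subgroup.mem_top x) (Subgroup.mem_top y)
  -- `V` is small
  obtain ⟨v₀, hv₀, hv₀1⟩ := V.bot_or_exists_ne_one.resolve_left hV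
  have hconj : ∀ v ∈ V, v ≠ 1 → orderOf v = p ^ (0 + 1) := fun v hv hv1 => by
    haveI := Fact.mk hp
    rw [zero_add, pow_one]; exact orderOf_eq_prime (hVp v hv) hv1
  classical
  let S : Finset R := {1, v₀, c * v₀ * c⁻¹, c ^ 2 * v₀ * (c ^ 2)⁻¹, t * v₀ * t⁻¹,
    t * c * v₀ * (t * c)⁻¹, t * c ^ 2 * v₀ * (t * c ^ 2)⁻¹}
  have hS : (V : Set R) ⊆ S := by
    intro v hv
    rw [Finset.mem_coe]
    rcases eq_or_ne v 1 with rfl | hv1
    · simp [S]
    · obtain ⟨r, rfl⟩ := isConj_iff.1 (hR.conj p 0 v₀ v hp (hconj v₀ hv₀ hv₀1) (hconj v hv hv1))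
      have red : ∀ s u : R, u ∈ V → s * u * v₀ * (s * u)⁻¹ = s * v₀ * s⁻¹ := fun s u hu => by
        rw [show s * u * v₀ * (s * u)⁻¹ = s * (u * v₀) * u⁻¹ * s⁻¹ by group, hVcomm u hu v₀ hv₀]; group
      by_cases hr : r ∈ A
      · obtain ⟨i, hi, hu⟩ := hAdec r hr
        have := red (c ^ i) _ hu
        rw [mul_inv_cancel_left] at this
        rw [this]
        interval_cases i <;> simp [S]
      · obtain ⟨i, hi, hu⟩ := hAdec (t⁻¹ * r) ((Subgroup.mul_mem_iff_of_index_two h2).2 (iff_of_false (by rwa [inv_mem_iff]) hr))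
        have := red (t * c ^ i) _ hu
        rw [show t * c ^ i * ((c ^ i)⁻¹ * (t⁻¹ * r)) = r by group] at this
        rw [this]
        interval_cases i <;> simp [S]
  have hle : Nat.card V ≤ 7 := by
    have h1 := Nat.card_mono S.finite_toSet hS
    rw [show Nat.card (S : Set R) = S.card by simp] at h1
    refine le_trans h1 ?_
    refine le_trans (Finset.card_insert_le _ _) (Nat.succ_le_succ ?_)
    exact Finset.card_le_six
  -- `A` does not centralise `V`
  have hAV : ¬ A ≤ Subgroup.centralizer (V : Set R) := fun h => hV (by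
    rw [← hZ]
    exact (inf_eq_left.2 fun v hv => Subgroup.mem_centralizer_iff.2 fun a ha =>
      (Subgroup.mem_centralizer_iff.1 (h ha) v hv).symm).symm)
  haveI := Fact.mk hp
  obtain ⟨k, hk⟩ := IsPGroup.iff_card.1 (fun (v : V) => ⟨1, Subtype.ext (by simpa using hVp v v.2)⟩ : IsPGroup p V)
  have hk0 : k ≠ 0 := fun e => hV (Subgroup.eq_bot_of_card_eq V (by rw [hk, e, pow_zero]))
  by_cases hk1 : k = 1
  · subst hk1
    rw [pow_one] at hk
    haveI : IsCyclic V := isCyclic_of_prime_card hk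
    apply hAV
    have hact : ∀ r : R, ∃ m : ℤ, ∀ v ∈ V, r * v * r⁻¹ = v ^ m := fun r => by
      obtain ⟨m, hm⟩ := MonoidHom.map_cyclic (MulAut.conjNormal r : MulAut V).toMonoidHom
      exact ⟨m, fun v hv => congrArg Subtype.val (hm ⟨v, hv⟩)⟩
    rw [← hA, commutator_def, Subgroup.commutator_le]
    intro x _ y _
    rw [Subgroup.mem_centralizer_iff]
    intro v hv
    obtain ⟨a, ha⟩ := hact x
    obtain ⟨b, hb⟩ := hact y
    obtain ⟨u, hu, rfl⟩ : ∃ u ∈ V, v = (y * x) * u * (y * x)⁻¹ :=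
      ⟨(y * x)⁻¹ * v * ((y * x)⁻¹)⁻¹, (inferInstance : V.Normal).conj_mem _ hv _, by group⟩
    have e : x * (y * u * y⁻¹) * x⁻¹ = y * (x * u * x⁻¹) * y⁻¹ := by
      rw [hb u hu, ha u hu, ha _ (zpow_mem hu b), hb _ (zpow_mem hu a), ← zpow_mul, ← zpow_mul, mul_comm]
    rw [commutatorElement_def]
    calc y * x * u * (y * x)⁻¹ * (x * y * x⁻¹ * y⁻¹)
        = (y * (x * u * x⁻¹) * y⁻¹) * (x * y * x⁻¹ * y⁻¹) := by group
      _ = (x * (y * u * y⁻¹) * x⁻¹) * (x * y * x⁻¹ * y⁻¹) := by rw [e]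
      _ = x * y * x⁻¹ * y⁻¹ * (y * x * u * (y * x)⁻¹) := by group
  have hk2 : p = 2 ∧ k = 2 := by
    have h22 : p ^ 2 ≤ p ^ k := Nat.pow_le_pow_right hp.pos (by omega)
    have hp2 : p = 2 := by
      by_contra hne
      have : 3 ^ 2 ≤ p ^ 2 := Nat.pow_le_pow_left (by have := hp.two_le; omega) 2
      omega
    subst hp2
    refine ⟨rfl, ?_⟩
    by_contra hne
    have : 2 ^ 3 ≤ 2 ^ k := Nat.pow_le_pow_right (by norm_num) (by omega)
    omega
  obtain ⟨rfl, rfl⟩ := hk2
  have hinvol : ∀ r : R, r * r = 1 → r ≠ 1 → r ∈ V := fun r hr hr1 => by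
    obtain ⟨g, rfl⟩ := isConj_iff.1 (hR.conj 2 0 v₀ r hp (hconj v₀ hv₀ hv₀1)
      (by simpa using orderOf_eq_prime (p := 2) (by rwa [pow_two]) hr1))
    exact (inferInstance : V.Normal).conj_mem _ hv₀ g
  have hVinv : ∀ v ∈ V, v⁻¹ = v := fun v hv => by
    rw [inv_eq_iff_mul_eq_one, ← pow_two]; exact hVp v hv
  obtain ⟨v, hv, hvt⟩ : ∃ v ∈ V, t * v * t⁻¹ ≠ v := by
    by_contra hno
    push Not at hno
    apply hAV
    let C := Subgroup.centralizer (V : Set R)
    haveI : C.Normal := inferInstance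
    have htC : t ∈ C := Subgroup.mem_centralizer_iff.2 fun v hv => by
      conv_lhs => rw [← hno v hv]
      group
    have hVC : V ≤ C := Subgroup.le_centralizer V
    have hgen : ∀ x : R ⧸ C, x ∈ Subgroup.zpowers (QuotientGroup.mk' C c) := by
      intro x
      obtain ⟨r, rfl⟩ := QuotientGroup.mk'_surjective C x
      have hA' : ∀ a ∈ A, QuotientGroup.mk' C a ∈ Subgroup.zpowers (QuotientGroup.mk' C c) := fun a ha => by
        obtain ⟨i, -, hu⟩ := hAdec a ha
        refine ⟨(i : ℤ), ?_⟩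
        show QuotientGroup.mk' C c ^ (i : ℤ) = _
        rw [zpow_natCast, ← map_pow, QuotientGroup.mk'_apply, QuotientGroup.mk'_apply, QuotientGroup.eq]
        exact hVC hu
      by_cases hr : r ∈ A
      · exact hA' r hr
      · have := hA' (t⁻¹ * r) ((Subgroup.mul_mem_iff_of_index_two h2).2 (iff_of_false (by rwa [inv_mem_iff]) hr))
        rwa [map_mul, show QuotientGroup.mk' C t⁻¹ = 1 from (QuotientGroup.eq_one_iff _).2 (inv_mem htC), one_mul] at this
    rw [← hA, commutator_def, Subgroup.commutator_le]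
    intro x _ y _
    rw [← QuotientGroup.eq_one_iff, ← QuotientGroup.mk'_apply C, map_commutatorElement, commutatorElement_eq_one_iff_mul_comm]
    obtain ⟨i, hi⟩ := hgen (QuotientGroup.mk' C x)
    obtain ⟨j, hj⟩ := hgen (QuotientGroup.mk' C y)
    rw [← hi, ← hj]
    exact ((Commute.refl _).zpow_zpow i j).eq
  have hv' : t * v * t⁻¹ ∈ V := (inferInstance : V.Normal).conj_mem _ hv t
  have hv1 : v ≠ 1 := fun e => hvt (by rw [e]; group)
  have hvv : v * (t * v * t⁻¹) ≠ 1 := fun e => hvt (by rw [← inv_eq_iff_mul_eq_one, hVinv v hv] at e; exact e.symm)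
  have ht2comm : t * (t * t) * t⁻¹ = t * t := by group
  have hset : ∀ x ∈ V, x = 1 ∨ x = v ∨ x = t * v * t⁻¹ ∨ x = v * (t * v * t⁻¹) := by
    intro x hx
    by_contra hno
    push Not at hno
    obtain ⟨h1, h2', h3', h4⟩ := hno
    haveI := Fintype.ofFinite V
    let F : Finset V := {1, ⟨v, hv⟩, ⟨_, hv'⟩, ⟨_, mul_mem hv hv'⟩, ⟨x, hx⟩}
    have hF : F.card ≤ 4 := F.card_le_univ.trans (by rw [← Nat.card_eq_fintype_card, hk]; norm_num)
    have h5 : F.card = 5 := by
      have ne : t * v * t⁻¹ ≠ 1 := fun e => hv1 (conj_eq_one_iff.1 e)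
      have h6' : v * (t * v * t⁻¹) ≠ v := fun e => ne (mul_eq_left.1 e)
      have h7 : v * (t * v * t⁻¹) ≠ t * v * t⁻¹ := fun e => hv1 (mul_eq_right.1 e)
      simp [F, Finset.card_insert_of_notMem, Subtype.ext_iff, Ne.symm hv1, Ne.symm ne, Ne.symm hvv,
        Ne.symm hvt, Ne.symm h1, Ne.symm h2', Ne.symm h3', Ne.symm h4, Ne.symm h6', Ne.symm h7]
    omega
  rcases hset _ htV with h | h | h | h
  · exact htA (hVA (hinvol t h (fun e => htA (e ▸ one_mem A))))
  · rw [h] at ht2comm; exact hvt ht2comm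
  · rw [h] at ht2comm
    exact hvt (mul_left_cancel (mul_right_cancel ht2comm))
  · refine htA ?_
    have hu : (t * v) * (t * v) = 1 := by
      rw [show (t * v) * (t * v) = (t * v * t⁻¹) * ((t * t) * v) by group, h, hVcomm (v * (t * v * t⁻¹)) (mul_mem hv hv') v hv, ← mul_assoc v v,
        show v * v = 1 by rw [← pow_two]; exact hVp v hv, one_mul, ← pow_two]
      exact hVp _ hv'
    have hmem := hinvol _ hu (fun e => htA (by
      rw [eq_inv_of_mul_eq_one_left e]; exact inv_mem (hVA hv)))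
    simpa using mul_mem (hVA hmem) (inv_mem (hVA hv))

/-- A finite solvable group in which any two elements of the same order are conjugate has order 1 or 2 or is isomorphic to the symmetric group of degree 3. -/
theorem result {G : Type*} [Group G] [Finite G] [Group.IsSolvable G]
    (h : ∀ x y : G, orderOf x = orderOf y → IsConj x y) :
    Nat.card G = 1 ∨ Nat.card G = 2 ∨ Nonempty (G ≃* Equiv.Perm (Fin 3)) := by
  rcases subsingleton_or_nontrivial G with hG | hG
  · exact Or.inl Nat.card_unique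
  have hN2 : (commutator G).index = 2 := by
    have h1 : (commutator G).index ≠ 1 := by
      rw [Ne, Subgroup.index_eq_one]
      exact (Group.IsSolvable.commutator_lt_top_of_nontrivial G).ne
    have h2 : Nat.card (Abelianization G) ≤ 2 :=
      card_le_two_of_comm (nice_of_surjective h (f := Abelianization.of) QuotientGroup.mk_surjective) mul_comm
    have h0 : (commutator G).index ≠ 0 := Subgroup.index_ne_zero_of_finite
    change (commutator G).index ≤ 2 at h2
    omega
  by_cases hN : commutator G = ⊥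
  · right; left
    rw [← Subgroup.index_bot, ← hN, hN2]
  let K : Subgroup G := ⁅commutator G, commutator G⁆
  have hKN : K ≤ commutator G := Subgroup.commutator_le_self _
  have hKne : K ≠ commutator G := fun e => by
    haveI : Nontrivial (commutator G) := (Subgroup.nontrivial_iff_ne_bot _).2 hN
    apply (Group.IsSolvable.commutator_lt_top_of_nontrivial (commutator G)).ne
    apply Subgroup.map_injective (commutator G).subtype_injective
    rw [Subgroup.map_subtype_commutator, show ⁅commutator G, commutator G⁆ = commutator G from e, ← MonoidHom.range_eq_map, Subgroup.range_subtype]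
  have hmap : ∀ L : Subgroup G, [L.Normal] → commutator (G ⧸ L) = (commutator G).map (QuotientGroup.mk' L) := by
    intro L _
    rw [commutator_def, commutator_def, Subgroup.map_commutator,
      Subgroup.map_top_of_surjective _ (QuotientGroup.mk'_surjective L)]
  have hidx : ∀ L : Subgroup G, [L.Normal] → L ≤ commutator G → ((commutator G).map (QuotientGroup.mk' L)).index = 2 := by
    intro L _ hL
    rw [Subgroup.index_map_eq _ (QuotientGroup.mk'_surjective L) (by rwa [QuotientGroup.ker_mk']), hN2]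
  have hK3 : K.relIndex (commutator G) = 3 := by
    have hA := card_eq_three (nice_of_surjective h (QuotientGroup.mk'_surjective K)) (hmap K) (hidx K hKN) ?_ ?_
    · rw [← Subgroup.relIndex_ker, QuotientGroup.ker_mk'] at hA
      exact hA
    · rintro _ ⟨a, ha, rfl⟩ _ ⟨b, hb, rfl⟩
      rw [← commutatorElement_eq_one_iff_mul_comm, ← map_commutatorElement, QuotientGroup.mk'_apply, QuotientGroup.eq_one_iff]
      exact Subgroup.commutator_mem_commutator ha hb
    · rw [Ne, Subgroup.map_eq_bot_iff, QuotientGroup.ker_mk']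
      exact fun e => hKne (le_antisymm hKN e)
  by_cases hK : K = ⊥
  · right; right
    have h6 : Nat.card G = 6 := by
      rw [← Subgroup.index_bot, ← hK, ← Subgroup.relIndex_mul_index hKN, hK3, hN2]
    haveI : Fact (Nat.Prime 2) := ⟨Nat.prime_two⟩
    obtain ⟨t, ht⟩ := exists_prime_orderOf_dvd_card' (G := G) 2 (by rw [h6]; norm_num)
    let H := Subgroup.zpowers t
    have hH2 : Nat.card H = 2 := by rw [Nat.card_zpowers, ht]
    have hHi : H.index = 3 := by
      have := H.card_mul_index; rw [hH2, h6] at this; omega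
    have hinj : Function.Injective (MulAction.toPermHom G (G ⧸ H)) := by
      rw [← MonoidHom.ker_eq_bot_iff, ← Subgroup.normalCore_eq_ker]
      by_contra hne
      have hle := Subgroup.normalCore_le H
      have heq : H.normalCore = H := by
        refine Subgroup.eq_of_le_of_card_ge hle ?_
        rw [hH2]
        exact Finite.one_lt_card_iff_nontrivial.2 ((Subgroup.nontrivial_iff_ne_bot _).2 hne)
      haveI : H.Normal := heq ▸ Subgroup.normalCore_normal H
      apply hN
      haveI : IsCyclic (G ⧸ H) := isCyclic_of_prime_card (p := 3) (hp := ⟨Nat.prime_three⟩) hHi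
      have hHN : commutator G ≤ H := by
        rw [← QuotientGroup.ker_mk' H]
        intro x hx
        have := Subgroup.mem_map_of_mem (QuotientGroup.mk' H) hx
        rw [← hmap H, (commutator_eq_bot_iff_center_eq_top _).2] at this
        · exact Subgroup.mem_bot.1 this
        · exact Subgroup.eq_top_iff' _ |>.2 fun x => Subgroup.mem_center_iff.2 fun y =>
            (IsCyclic.commutative (α := G ⧸ H)).is_comm.comm y x
      refine Subgroup.eq_bot_of_card_eq _ ?_
      have h1 := Subgroup.card_dvd_of_le hHN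
      have h2 := (commutator G).card_mul_index
      rw [hH2] at h1
      rw [hN2, h6] at h2
      have := Nat.le_of_dvd two_pos h1
      omega
    haveI := Fintype.ofFinite (G ⧸ H)
    have hc3 : Nat.card (G ⧸ H) = 3 := hHi
    obtain ⟨e⟩ : Nonempty (G ⧸ H ≃ Fin 3) :=
      ⟨(Fintype.equivFinOfCardEq (by rw [← Nat.card_eq_fintype_card, hc3]))⟩
    refine ⟨MulEquiv.ofBijective (e.permCongrHom.toMonoidHom.comp (MulAction.toPermHom G (G ⧸ H)))
      ((Nat.bijective_iff_injective_and_card _).2 ⟨e.permCongrHom.injective.comp hinj, ?_⟩)⟩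
    rw [h6, Nat.card_perm, Nat.card_fin]; rfl
  exfalso
  obtain ⟨L, hL⟩ := (Set.toFinite {L : Subgroup G | L.Normal ∧ L < K}).exists_maximal
    ⟨⊥, inferInstance, bot_lt_iff_ne_bot.2 hK⟩
  haveI := hL.1.1
  have hLK := hL.1.2.le
  haveI : (K.map (QuotientGroup.mk' L)).Normal := Subgroup.Normal.map inferInstance _ (QuotientGroup.mk'_surjective L)
  haveI : Group.IsSolvable (G ⧸ L) := Group.isSolvable_of_surjective (QuotientGroup.mk'_surjective L)
  refine no_third_step (V := K.map (QuotientGroup.mk' L)) (nice_of_surjective h (QuotientGroup.mk'_surjective L))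
    (hmap L) (hidx L (hLK.trans hKN)) (Subgroup.map_mono hKN) ?_ ?_ ?_
  · rw [← Subgroup.relIndex_comap, Subgroup.comap_map_eq, QuotientGroup.ker_mk', sup_eq_left.2 hLK, hK3]
  · rw [Ne, Subgroup.map_eq_bot_iff, QuotientGroup.ker_mk']
    exact fun e => hL.1.2.ne (le_antisymm hLK e)
  · intro M hM hMV
    have hsur := QuotientGroup.mk'_surjective L
    have hLM : L ≤ M.comap (QuotientGroup.mk' L) := by
      intro x hx
      rw [Subgroup.mem_comap, show QuotientGroup.mk' L x = 1 from (QuotientGroup.eq_one_iff x).2 hx]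
      exact one_mem M
    have hMK : M.comap (QuotientGroup.mk' L) ≤ K := by
      refine (Subgroup.comap_mono hMV).trans ?_
      rw [Subgroup.comap_map_eq, QuotientGroup.ker_mk', sup_eq_left.2 hLK]
    rw [← Subgroup.map_comap_eq_self_of_surjective hsur M]
    by_cases he : M.comap (QuotientGroup.mk' L) = K
    · right; rw [he]
    · left
      rw [Subgroup.map_eq_bot_iff, QuotientGroup.ker_mk']
      exact hL.2 ⟨inferInstance, lt_of_le_of_ne hMK he⟩ hLM

end Cfsg.Agent.S4062
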