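import Cfsg.Statements.S4064
import Cfsg.Agent.H65.TICent.Main

set_option autoImplicit false
open Cfsg

namespace Cfsg.Agent.S4064

open scoped Pointwise in
/-- A generalised quaternion subgroup has order 8 at most. -/
theorem quaternion_le {G : Type*} [Group G] [Finite G] (hTI : H65.TICent.TI G) {Q : Subgroup G}
    {n : ℕ} (e : ↥Q ≃* QuaternionGroup (2 ^ n)) : n ≤ 1 := by
  set a : ↥Q := e.symm (QuaternionGroup.a 1) with ha
  set x : ↥Q := e.symm (QuaternionGroup.xa 0) with hx
  have hax : Commute a (x * x) := e.injective (by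
    simp only [ha, hx, map_mul, MulEquiv.apply_symm_apply, QuaternionGroup.xa_mul_xa,
      QuaternionGroup.a_mul_a]
    congr 1
    ring)
  have hz : (((x * x : ↥Q)) : G) ≠ 1 := by
    intro h
    have h1 : x * x = 1 := Subtype.ext h
    have h2 := congrArg e h1
    rw [hx, map_mul, MulEquiv.apply_symm_apply, map_one, ← pow_two] at h2
    have h3 := orderOf_dvd_of_pow_eq_one h2
    rw [QuaternionGroup.orderOf_xa] at h3
    have := Nat.le_of_dvd (by norm_num) h3
    omega
  have hn : (a : G) ∈ Subgroup.normalizer (H65.TICent.C (x : G) : Set G) :=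
    H65.TICent.norm_of_commute hTI hz
      (H65.TICent.mem_C.2 (by
        show ((x : G) * x) * x = x * ((x : G) * x)
        rw [mul_assoc]))
      (hax.map Q.subtype)
  have hc : Commute (a * x * a⁻¹) x := Subtype.ext (H65.TICent.mem_C.1
    ((Subgroup.mem_normalizer_iff.1 hn _).1 (H65.TICent.mem_C.2 (Commute.refl (x : G))))).eq
  have h2 := congrArg e hc.eq
  simp only [ha, hx, map_mul, map_inv, MulEquiv.apply_symm_apply, QuaternionGroup.a_mul_xa] at h2
  rw [show (QuaternionGroup.a 1 : QuaternionGroup (2 ^ n))⁻¹ = QuaternionGroup.a (-1) from rfl,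
    QuaternionGroup.xa_mul_a, QuaternionGroup.xa_mul_xa, QuaternionGroup.xa_mul_xa] at h2
  injection h2 with h2
  have h4 : ((4 : ℕ) : ZMod (2 * 2 ^ n)) = 0 := by
    push_cast
    linear_combination h2
  rw [ZMod.natCast_eq_zero_iff] at h4
  have h5 := Nat.le_of_dvd (by norm_num) h4
  by_contra hlt
  have h6 : 2 ^ 2 ≤ 2 ^ n := Nat.pow_le_pow_right (by norm_num) (by omega)
  omega

open scoped Pointwise in
/-- The solvable case. -/
theorem solvable_case {G : Type*} [Group G] [Finite G] (hTI : H65.TICent.TI G)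
    [Group.IsSolvable G] :
    Group.IsNilpotent G ∨
    (∃ H : Subgroup G, Cfsg.IsFrobeniusComplement H ∧
      (IsCyclic H ∨ ∃ m : ℕ, Odd m ∧ Nonempty (H ≃* Multiplicative (ZMod m) × QuaternionGroup 2))) := by
  classical
  rcases S1476.result (H65.TICent.isCN hTI) with h | ⟨K, E, -, -, hE, hcase⟩ | ⟨p, hp, hthree⟩
  · exact Or.inl h
  · refine Or.inr ⟨E, hE, ?_⟩
    rcases hcase with h | ⟨C, Q, hsup, hcomm, hC, hodd, n, ⟨e⟩⟩
    · exact Or.inl h
    have hn : n ≤ 1 := quaternion_le hTI e
    haveI : NeZero (2 ^ n) := ⟨by positivity⟩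
    have hQ : Nat.card ↥Q = 4 * 2 ^ n := by
      rw [Nat.card_congr e.toEquiv, Nat.card_eq_fintype_card, QuaternionGroup.card]
    have hcop : Nat.Coprime (Nat.card ↥C) (Nat.card ↥Q) := by
      rw [hQ, show 4 * 2 ^ n = 2 ^ (n + 2) by rw [pow_add]; ring]
      exact Nat.Coprime.pow_right _ (Nat.coprime_two_right.2 hodd)
    have hint : C ⊓ Q = ⊥ := Subgroup.inf_eq_bot_of_coprime hcop
    let μ : ↥C × ↥Q →* G := MonoidHom.mk' (fun p => (p.1 : G) * p.2) fun p q => by
      have h : Commute (q.1 : G) p.2 := hcomm _ q.1.2 _ p.2.2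
      show (p.1 : G) * q.1 * ((p.2 : G) * q.2) = (p.1 : G) * p.2 * ((q.1 : G) * q.2)
      exact h.mul_mul_mul_comm _ _
    have hinj : Function.Injective μ := by
      rw [← MonoidHom.ker_eq_bot_iff, eq_bot_iff]
      rintro ⟨c, q⟩ hcq
      have h1 : (c : G) * q = 1 := hcq
      have h2 : (c : G) ∈ C ⊓ Q := ⟨c.2, by rw [eq_inv_of_mul_eq_one_left h1]; exact Q.inv_mem q.2⟩
      rw [hint, Subgroup.mem_bot] at h2
      rw [h2, one_mul] at h1
      exact Subgroup.mem_bot.2 (Prod.ext (Subtype.ext h2) (Subtype.ext h1))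
    have hrange : μ.range = E := by
      refine le_antisymm ?_ ?_
      · rintro _ ⟨⟨c, q⟩, rfl⟩
        rw [← hsup]
        exact mul_mem ((le_sup_left : C ≤ C ⊔ Q) c.2) ((le_sup_right : Q ≤ C ⊔ Q) q.2)
      · rw [← hsup]
        exact sup_le (fun c hc => ⟨(⟨c, hc⟩, 1), mul_one c⟩) (fun q hq => ⟨(1, ⟨q, hq⟩), one_mul q⟩)
    let iso : ↥C × ↥Q ≃* ↥E := (MonoidHom.ofInjective hinj).trans (MulEquiv.subgroupCongr hrange)
    rcases Nat.le_one_iff_eq_zero_or_eq_one.1 hn with rfl | rfl
    · left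
      obtain ⟨c, hc⟩ := hC.exists_ofOrder_eq_natCard
      have hq : orderOf (e.symm (QuaternionGroup.xa 0)) = Nat.card ↥Q := by
        rw [MulEquiv.orderOf_eq, QuaternionGroup.orderOf_xa, hQ, pow_zero, mul_one]
      refine isCyclic_of_orderOf_eq_card (iso (c, e.symm (QuaternionGroup.xa 0))) ?_
      rw [MulEquiv.orderOf_eq, Prod.orderOf, hc, hq, Nat.Coprime.lcm_eq_mul hcop,
        ← Nat.card_congr iso.toEquiv, Nat.card_prod]
    · right
      haveI := hC
      exact ⟨Nat.card ↥C, hodd,
        ⟨iso.symm.trans (MulEquiv.prodCongr (zmodCyclicMulEquiv hC).symm e)⟩⟩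
  · exfalso
    haveI := Fact.mk hp
    obtain ⟨hne, A, -, -, -, -, -, hlt, ⟨k, hk⟩, -⟩ := hthree
    have hle : ∀ P : Sylow p G, Cfsg.pCore p G ≤ (P : Subgroup G) := by
      intro P
      refine sSup_le fun V hV => ?_
      obtain ⟨P₀, hP₀⟩ := hV.2.exists_le_sylow
      obtain ⟨g, rfl⟩ := MulAction.exists_smul_eq G P₀ P
      intro v hv
      refine ⟨g⁻¹ * v * g, hP₀ ?_, ?_⟩
      · simpa using hV.1.conj_mem v hv g⁻¹
      · show g * (g⁻¹ * v * g) * g⁻¹ = v
        group
    by_cases hsub : Subsingleton (Sylow p G)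
    · obtain ⟨P⟩ : Nonempty (Sylow p G) := inferInstance
      have hPn : (P : Subgroup G).Normal := Sylow.normal_of_subsingleton P
      have h1 : (P : Subgroup G) ≤ Cfsg.pCore p G ⊔ A :=
        le_trans (le_sSup (show (P : Subgroup G) ∈ {V : Subgroup G | V.Normal ∧ IsPGroup p ↥V} from
          ⟨hPn, P.2⟩)) le_sup_left
      have h2 : p ^ k ∣ (P : Subgroup G).index := hk ▸ Subgroup.index_dvd_of_le h1
      have hk0 : k = 0 := by
        by_contra h
        exact P.not_dvd_index ((dvd_pow_self p h).trans h2)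
      rw [hk0, pow_zero, Subgroup.index_eq_one] at hk
      exact hlt hk
    · rw [not_subsingleton_iff_nontrivial] at hsub
      obtain ⟨P, R, hPR⟩ := hsub.exists_pair_ne
      exact hne (le_bot_iff.1 ((le_inf (hle P) (hle R)).trans (S4066.result hTI P R hPR).le))

/-- Let G be a finite group in which the centralizer of every element meets each of its conjugates by elements outside its normalizer trivially. Then G is nilpotent; or G is a Frobenius group with a complement that is cyclic or isomorphic to the direct product of a cyclic group of odd order and the quaternion group of order 8; or G is isomorphic to PSL₂(2ⁿ) for some n ≥ 2. -/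
theorem result {G : Type*} [Group G] [Finite G] (hTI : ∀ x : G, Cfsg.IsTISubset (Subgroup.centralizer ({x} : Set G) : Set G)) :
    Group.IsNilpotent G ∨
    (∃ H : Subgroup G, Cfsg.IsFrobeniusComplement H ∧
      (IsCyclic H ∨ ∃ m : ℕ, Odd m ∧ Nonempty (H ≃* Multiplicative (ZMod m) × QuaternionGroup 2))) ∨
    (∃ n : ℕ, 2 ≤ n ∧ Nonempty (G ≃* Matrix.ProjectiveSpecialLinearGroup (Fin 2) (GaloisField 2 n))) := by
  by_cases hs : Group.IsSolvable G
  · haveI := hs
    rcases solvable_case (G := G) hTI with h | h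
    · exact Or.inl h
    · exact Or.inr (Or.inl h)
  · exact Or.inr (Or.inr (H65.TICent.exists_psl hTI hs))

end Cfsg.Agent.S4064
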