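import Mathlib
import Cfsg.Statements.S4065

set_option autoImplicit false
open Cfsg
open scoped MatrixGroups

namespace Cfsg.Agent.S4065

/-- Two 2 × 2 matrices commuting with a non-scalar one commute. -/
theorem commute_of_commute {F : Type*} [Field F] {A B M : Matrix (Fin 2) (Fin 2) F}
    (hA : A * M = M * A) (hB : B * M = M * B)
    (hM : M 0 1 ≠ 0 ∨ M 1 0 ≠ 0 ∨ M 0 0 ≠ M 1 1) : A * B = B * A := by
  have e : ∀ (X : Matrix (Fin 2) (Fin 2) F), X * M = M * X →
      X 0 1 * M 1 0 = X 1 0 * M 0 1 ∧ X 0 1 * (M 1 1 - M 0 0) = M 0 1 * (X 1 1 - X 0 0) ∧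
      X 1 0 * (M 1 1 - M 0 0) = M 1 0 * (X 1 1 - X 0 0) := by
    intro X hX
    have h00 := congrFun (congrFun hX 0) 0
    have h01 := congrFun (congrFun hX 0) 1
    have h10 := congrFun (congrFun hX 1) 0
    simp [Matrix.mul_apply, Fin.sum_univ_two] at h00 h01 h10
    exact ⟨by linear_combination h00, by linear_combination h01, by linear_combination -h10⟩
  obtain ⟨a1, a2, a3⟩ := e A hA
  obtain ⟨b1, b2, b3⟩ := e B hB
  have c2 : A 0 1 * (B 1 1 - B 0 0) = B 0 1 * (A 1 1 - A 0 0) := by
    rcases hM with h | h | h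
    · exact mul_right_cancel₀ h (by linear_combination -(A 0 1) * b2 + (B 0 1) * a2)
    · exact mul_right_cancel₀ h
        (by linear_combination (B 1 1 - B 0 0) * a1 - (A 1 0) * b2 + (B 0 1) * a3)
    · exact mul_right_cancel₀ (sub_ne_zero.2 (Ne.symm h))
        (by linear_combination (B 1 1 - B 0 0) * a2 - (A 1 1 - A 0 0) * b2)
  have c3 : A 1 0 * (B 1 1 - B 0 0) = B 1 0 * (A 1 1 - A 0 0) := by
    rcases hM with h | h | h
    · exact mul_right_cancel₀ h
        (by linear_combination -(B 1 1 - B 0 0) * a1 - (A 0 1) * b3 + (B 1 0) * a2)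
    · exact mul_right_cancel₀ h (by linear_combination -(A 1 0) * b3 + (B 1 0) * a3)
    · exact mul_right_cancel₀ (sub_ne_zero.2 (Ne.symm h))
        (by linear_combination (B 1 1 - B 0 0) * a3 - (A 1 1 - A 0 0) * b3)
  have c1 : A 0 1 * B 1 0 = B 0 1 * A 1 0 := by
    rcases hM with h | h | h
    · exact mul_right_cancel₀ h (by linear_combination -(A 0 1) * b1 + (B 0 1) * a1)
    · exact mul_right_cancel₀ h (by linear_combination (B 1 0) * a1 - (A 1 0) * b1)
    · exact mul_right_cancel₀ (sub_ne_zero.2 (Ne.symm h))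
        (by linear_combination (A 0 1) * b3 - (B 0 1) * a3 + (M 1 0) * c2)
  ext i j
  fin_cases i <;> fin_cases j <;> simp [Matrix.mul_apply, Fin.sum_univ_two]
  · linear_combination c1
  · linear_combination c2
  · linear_combination -c3
  · linear_combination -c1

theorem result (n : ℕ) (hn : 2 ≤ n)
    (x : Matrix.ProjectiveSpecialLinearGroup (Fin 2) (GaloisField 2 n)) :
    Cfsg.IsTISubset (Subgroup.centralizer ({x} : Set (Matrix.ProjectiveSpecialLinearGroup (Fin 2) (GaloisField 2 n))) :
      Set (Matrix.ProjectiveSpecialLinearGroup (Fin 2) (GaloisField 2 n))) := by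
  set F := GaloisField 2 n
  -- the centre of SL₂ is trivial
  have hz : ∀ z : SL(2, F), z ∈ Subgroup.center (SL(2, F)) → z = 1 := by
    intro z hz
    obtain ⟨r, hr, hrz⟩ := Matrix.SpecialLinearGroup.mem_center_iff.1 hz
    rw [Fintype.card_fin] at hr
    have h1 : r = 1 := by
      have : (r - 1) ^ 2 = 0 := by
        have h2 : (2 : F) = 0 := CharTwo.two_eq_zero
        linear_combination hr + (1 - r) * h2
      exact sub_eq_zero.1 (pow_eq_zero_iff two_ne_zero |>.1 this)
    apply Subtype.ext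
    rw [← hrz, h1]
    simp
  have hinj : Function.Injective (QuotientGroup.mk' (Subgroup.center (SL(2, F)))) := by
    rw [← MonoidHom.ker_eq_bot_iff, QuotientGroup.ker_mk', Subgroup.eq_bot_iff_forall]
    exact hz
  -- elements commuting with a non-identity element commute
  have key : ∀ a b c : Matrix.ProjectiveSpecialLinearGroup (Fin 2) F, c ≠ 1 → a * c = c * a →
      b * c = c * b → a * b = b * a := by
    intro a b c hc hac hbc
    obtain ⟨A, rfl⟩ := QuotientGroup.mk'_surjective _ a
    obtain ⟨B, rfl⟩ := QuotientGroup.mk'_surjective _ b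
    obtain ⟨C, rfl⟩ := QuotientGroup.mk'_surjective _ c
    erw [← map_mul, ← map_mul] at hac hbc
    erw [← map_mul, ← map_mul]
    refine congrArg _ (Subtype.ext ?_)
    refine commute_of_commute (congrArg Subtype.val (hinj hac)) (congrArg Subtype.val (hinj hbc)) ?_
    by_contra h
    push Not at h
    obtain ⟨h1, h2, h3⟩ := h
    apply hc
    rw [hz C]
    · exact map_one _
    rw [Matrix.SpecialLinearGroup.mem_center_iff]
    refine ⟨C.1 0 0, ?_, ?_⟩
    · have hd := C.2
      rw [Matrix.det_fin_two, h1, h2, ← h3] at hd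
      rw [Fintype.card_fin, pow_two]
      linear_combination hd
    · ext i j
      fin_cases i <;> fin_cases j <;> simp [h1, h2, h3]
  intro g hg y hy hgy
  by_contra hy1
  apply hg
  simp only [SetLike.mem_coe, Subgroup.mem_centralizer_singleton_iff] at hy hgy
  by_cases hx : x = 1
  · rw [Subgroup.mem_normalizer_iff]
    intro z
    simp [hx, Subgroup.mem_centralizer_singleton_iff]
  -- g x g⁻¹ commutes with x
  have h1 : (g * x * g⁻¹) * (g * y * g⁻¹) = (g * y * g⁻¹) * (g * x * g⁻¹) := by
    calc (g * x * g⁻¹) * (g * y * g⁻¹) = g * (x * y) * g⁻¹ := by group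
      _ = g * (y * x) * g⁻¹ := by rw [hy]
      _ = _ := by group
  have hne : g * y * g⁻¹ ≠ 1 := fun e => hy1 (by simpa using e)
  have h2 : (g * x * g⁻¹) * x = x * (g * x * g⁻¹) := key _ _ _ hne h1 hgy.symm
  have hne2 : g * x * g⁻¹ ≠ 1 := fun e => hx (by simpa using e)
  rw [Subgroup.mem_normalizer_iff]
  intro z
  simp only [Subgroup.mem_centralizer_singleton_iff]
  constructor
  · intro hz'
    refine key _ _ (g * x * g⁻¹) hne2 ?_ h2.symm
    calc (g * z * g⁻¹) * (g * x * g⁻¹) = g * (z * x) * g⁻¹ := by group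
      _ = g * (x * z) * g⁻¹ := by rw [hz']
      _ = _ := by group
  · intro hz'
    have h3 : (g * z * g⁻¹) * (g * x * g⁻¹) = (g * x * g⁻¹) * (g * z * g⁻¹) :=
      key _ _ x hx hz' h2
    calc z * x = g⁻¹ * ((g * z * g⁻¹) * (g * x * g⁻¹)) * g := by group
      _ = g⁻¹ * ((g * x * g⁻¹) * (g * z * g⁻¹)) * g := by rw [h3]
      _ = x * z := by group

end Cfsg.Agent.S4065
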