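import Cfsg.Statements.S4066
import Cfsg.Agent.Cores.PCore

set_option autoImplicit false
open Cfsg

namespace Cfsg.Agent.S4066

open Subgroup

variable {G : Type*} [Group G] [Finite G]

/-- An element centralising an element `d ≠ 1` of `C(x)` normalises `C(x)`. -/
theorem mem_normalizer (hTI : ∀ x : G, Cfsg.IsTISubset (centralizer ({x} : Set G) : Set G))
    {x d g : G} (hd : d ≠ 1) (hdx : d ∈ centralizer ({x} : Set G)) (hgd : g * d * g⁻¹ = d) :
    g ∈ normalizer (centralizer ({x} : Set G) : Set G) := by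
  by_contra hg
  exact hd (hTI x g hg d hdx (by rw [hgd]; exact hdx))

/-- A p-element commuting with a non-trivial element of a Sylow p-subgroup lies in it. -/
theorem mem_sylow (hTI : ∀ x : G, Cfsg.IsTISubset (centralizer ({x} : Set G) : Set G))
    {p : ℕ} [hp : Fact p.Prime] (Q : Sylow p G) {d y : G} (hdQ : d ∈ (Q : Subgroup G)) (hd : d ≠ 1)
    (hy : ∃ k : ℕ, y ^ p ^ k = 1) (hyd : y * d = d * y) : y ∈ (Q : Subgroup G) := by
  set M := centralizer ({d} : Set G) with hMdef
  have hyM : y ∈ M := mem_centralizer_singleton_iff.2 hyd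
  -- every p-element of M lies in O_p(M)
  have hcore : ∀ z : M, (∃ k : ℕ, (z : G) ^ p ^ k = 1) → z ∈ Cfsg.pCore p M := by
    rintro z ⟨k, hk⟩
    set X : Set M := Set.range fun m : M => m * z * m⁻¹ with hXdef
    have hcomm : ∀ a ∈ X, ∀ b ∈ X, a * b = b * a := by
      rintro _ ⟨m, rfl⟩ _ ⟨n, rfl⟩
      set w : G := ((m * z * m⁻¹ : M) : G)
      have hdw : d ∈ centralizer ({w} : Set G) := by
        rw [mem_centralizer_singleton_iff]
        have := mem_centralizer_singleton_iff.1 (m * z * m⁻¹ : M).2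
        first
          | exact this
          | exact this.symm
      have hnm : ((n * m⁻¹ : M) : G) ∈ normalizer (centralizer ({w} : Set G) : Set G) := by
        refine mem_normalizer hTI hd hdw ?_
        rw [mem_centralizer_singleton_iff.1 (n * m⁻¹ : M).2, mul_inv_cancel_right]
      have hww : w ∈ centralizer ({w} : Set G) := mem_centralizer_singleton_iff.2 rfl
      have h := (Subgroup.mem_normalizer_iff.1 hnm w).1 hww
      rw [mem_centralizer_singleton_iff] at h
      apply Subtype.ext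
      have e : ((n * m⁻¹ : M) : G) * w * ((n * m⁻¹ : M) : G)⁻¹ = ((n * z * n⁻¹ : M) : G) := by
        simp only [w, Subgroup.coe_mul, InvMemClass.coe_inv]
        group
      rw [e] at h
      exact h.symm
    set B := closure X with hBdef
    have hBn : B.Normal := by
      rw [← normalizer_eq_top_iff, eq_top_iff]
      intro g _
      rw [mem_normalizer_iff]
      have key : ∀ h : M, ∀ b ∈ B, h * b * h⁻¹ ∈ B := by
        intro h b hb
        have : B.map (MulAut.conj h).toMonoidHom ≤ B := by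
          rw [hBdef, MonoidHom.map_closure, closure_le]
          rintro _ ⟨_, ⟨m, rfl⟩, rfl⟩
          refine subset_closure ⟨h * m, ?_⟩
          simp [mul_assoc]
        exact this ⟨b, hb, by simp⟩
      exact fun b => ⟨key g b, fun hb => by
        have := key g⁻¹ _ hb
        simpa [mul_assoc] using this⟩
    have hBp : IsPGroup p B := by
      haveI : IsMulCommutative B := isMulCommutative_closure hcomm
      intro ⟨b, hb⟩
      suffices ∃ j : ℕ, b ^ p ^ j = 1 by
        obtain ⟨j, hj⟩ := this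
        exact ⟨j, Subtype.ext hj⟩
      refine ⟨k, ?_⟩
      induction hb using closure_induction with
      | mem x hx =>
        obtain ⟨m, rfl⟩ := hx
        have : z ^ p ^ k = 1 := Subtype.ext (by rw [SubmonoidClass.coe_pow, hk]; rfl)
        rw [conj_pow, this]; simp
      | one => exact one_pow _
      | mul a b ha hb iha ihb =>
        have hab : Commute a b :=
          congrArg Subtype.val (mul_comm' (⟨a, ha⟩ : B) ⟨b, hb⟩)
        rw [hab.mul_pow, iha, ihb, one_mul]
      | inv a _ iha => rw [inv_pow, iha, inv_one]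
    exact le_sSup (show B ∈ {N : Subgroup M | N.Normal ∧ IsPGroup p N} from ⟨hBn, hBp⟩)
      (subset_closure ⟨1, by simp⟩)
  set R : Subgroup G := closure {z : G | z ∈ M ∧ ∃ k : ℕ, z ^ p ^ k = 1} with hRdef
  have hRp : IsPGroup p R := by
    refine ((Cores.pCore_isPGroup (p := p) (G := M)).map M.subtype).to_le ?_
    rw [hRdef, closure_le]
    rintro z ⟨hz, hk⟩
    exact ⟨⟨z, hz⟩, hcore ⟨z, hz⟩ hk, rfl⟩
  have hQR : (Q : Subgroup G) ≤ normalizer (R : Set G) := by
    intro g hg
    obtain ⟨u, hu, hu1, huc⟩ : ∃ u ∈ (Q : Subgroup G), u ≠ 1 ∧ ∀ v ∈ (Q : Subgroup G), v * u = u * v := by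
      haveI : Nontrivial (Q : Subgroup G) :=
        ⟨⟨⟨d, hdQ⟩, 1, fun e => hd (congrArg Subtype.val e)⟩⟩
      haveI := Q.isPGroup'.center_nontrivial
      obtain ⟨⟨⟨u, hu⟩, huc⟩, hne⟩ := exists_ne (1 : center (Q : Subgroup G))
      exact ⟨u, hu, fun e => hne (Subtype.ext (Subtype.ext e)),
        fun v hv => congrArg Subtype.val (mem_center_iff.1 huc ⟨v, hv⟩)⟩
    have huM : u ∈ M := mem_centralizer_singleton_iff.2 (huc d hdQ).symm
    have hgM : g ∈ normalizer (M : Set G) :=
      mem_normalizer hTI hu1 huM (by rw [huc g hg, mul_inv_cancel_right])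
    have key : ∀ h : G, h ∈ normalizer (M : Set G) → ∀ z ∈ R, h * z * h⁻¹ ∈ R := by
      intro h hh z hz
      have : R.map (MulAut.conj h).toMonoidHom ≤ R := by
        rw [hRdef, MonoidHom.map_closure, closure_le]
        rintro _ ⟨w, ⟨hw, k, hk⟩, rfl⟩
        refine subset_closure ⟨?_, k, ?_⟩
        · simpa using (Subgroup.mem_normalizer_iff.1 hh w).1 hw
        · rw [← map_pow, hk, map_one]
      exact this ⟨z, hz, by simp⟩
    rw [Subgroup.mem_normalizer_iff]
    exact fun z => ⟨key g hgM z, fun hz => by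
      have := key g⁻¹ (inv_mem hgM) _ hz
      simpa [mul_assoc] using this⟩
  have : R ⊔ (Q : Subgroup G) = Q :=
    Q.is_maximal' (hRp.to_sup_of_normal_left' Q.isPGroup' hQR) le_sup_right
  exact this ▸ (le_sup_left : R ≤ R ⊔ (Q : Subgroup G)) (subset_closure ⟨hyM, hy⟩)

theorem result {G : Type*} [Group G] [Finite G] (hTI : ∀ x : G, Cfsg.IsTISubset (Subgroup.centralizer ({x} : Set G) : Set G))
    {p : ℕ} [Fact p.Prime] (P Q : Sylow p G) (hPQ : P ≠ Q) : (P : Subgroup G) ⊓ (Q : Subgroup G) = ⊥ := by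
  rw [Subgroup.eq_bot_iff_forall]
  rintro d ⟨hdP, hdQ⟩
  by_contra hd
  have hpow : ∀ z ∈ (P : Subgroup G), ∃ k : ℕ, z ^ p ^ k = 1 := fun z hz => by
    obtain ⟨k, hk⟩ := P.isPGroup' ⟨z, hz⟩
    exact ⟨k, congrArg Subtype.val hk⟩
  haveI : Nontrivial (P : Subgroup G) :=
    ⟨⟨⟨d, hdP⟩, 1, fun e => hd (congrArg Subtype.val e)⟩⟩
  haveI := P.isPGroup'.center_nontrivial
  obtain ⟨⟨⟨u, hu⟩, huc⟩, hne⟩ := exists_ne (1 : center (P : Subgroup G))
  have hu1 : u ≠ 1 := fun e => hne (Subtype.ext (Subtype.ext e))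
  have hc : ∀ v ∈ (P : Subgroup G), v * u = u * v :=
    fun v hv => congrArg Subtype.val (mem_center_iff.1 huc ⟨v, hv⟩)
  have huQ : u ∈ (Q : Subgroup G) := mem_sylow hTI Q hdQ hd (hpow u hu) (hc d hdP).symm
  have hle : (P : Subgroup G) ≤ Q :=
    fun y hy => mem_sylow hTI Q huQ hu1 (hpow y hy) (hc y hy)
  exact hPQ (Sylow.ext (P.is_maximal' Q.isPGroup' hle).symm)

end Cfsg.Agent.S4066
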