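import Cfsg.Statements.S4067
import Cfsg.Agent.H84.UniquePSingular
import Cfsg.Agent.H83.ClassConst

set_option autoImplicit false
open Cfsg

namespace Cfsg.Agent.S4067
open Subgroup
open scoped commutatorElement

section Helpers

variable {G : Type*} [Group G] [Finite G]

/-- The number of classes, when the derived subgroup is not too small. -/
theorem classes_le {p : ℕ} (hp : p.Prime) (hmin : ∀ d, d ∣ Nat.card G → d ≠ 1 → p ≤ d)
    (hd : p + 1 ≤ Nat.card (commutator G)) :
    Nat.card (ConjClasses G) * p ≤ Nat.card G := by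
  classical
  cases nonempty_fintype G
  cases nonempty_fintype (Cfsg.IrrCharacter G)
  set F := Finset.univ.filter (fun χ : Cfsg.IrrCharacter G =>
    ¬ Cfsg.charDegree (χ : G → ℂ) = 1) with hF
  have h1 := H84.card_eq_index_add_sum (G := G)
  have hk : Nat.card (ConjClasses G) = (commutator G).index + F.card := by
    have e := Finset.card_filter_add_card_filter_not (s := (Finset.univ : Finset (Cfsg.IrrCharacter G)))
      (fun χ : Cfsg.IrrCharacter G => Cfsg.charDegree (χ : G → ℂ) = 1)
    rw [← CharBasic.card_irrCharacter, ← H84.card_degree_one, hF,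
      Nat.subtype_card (Finset.univ.filter fun χ : Cfsg.IrrCharacter G =>
        Cfsg.charDegree (χ : G → ℂ) = 1) (by simp), e, Nat.card_eq_fintype_card, Finset.card_univ]
  have h2 : F.card * p ^ 2 ≤ ∑ χ ∈ F, Cfsg.charDegree (χ : G → ℂ) ^ 2 := by
    rw [← smul_eq_mul]
    refine Finset.card_nsmul_le_sum _ _ _ fun χ hχ => Nat.pow_le_pow_left ?_ 2
    exact hmin _ (H83.charDegree_dvd_card χ.2) (Finset.mem_filter.mp hχ).2
  have h3 : (commutator G).index * (p + 1) ≤ Nat.card G := by
    rw [← (commutator G).card_mul_index, mul_comm (Nat.card _)]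
    exact Nat.mul_le_mul le_rfl hd
  rw [hk]
  refine Nat.le_of_mul_le_mul_right (?_ : _ * p ≤ Nat.card G * p) hp.pos
  obtain ⟨q, rfl⟩ : ∃ q, p = q + 1 := ⟨p - 1, by have := hp.one_le; omega⟩
  rw [← hF] at h1
  nlinarith [Nat.mul_le_mul_left q h3, h1, h2]

/-- Powers of a product in a group of class two. -/
theorem mul_pow_central {d a b : G} (hd : d ∈ center G) (h : b * a = d * (a * b)) (n : ℕ) :
    (a * b) ^ n = d ^ n.choose 2 * (a ^ n * b ^ n) := by
  have hc : ∀ (j : ℕ) (g : G), g * d ^ j = d ^ j * g := fun j g =>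
    mem_center_iff.mp (pow_mem hd j) g
  have hb : ∀ k : ℕ, b ^ k * a = d ^ k * (a * b ^ k) := by
    intro k
    induction k with
    | zero => simp
    | succ k ih =>
      calc b ^ (k + 1) * a = b ^ k * (b * a) := by rw [pow_succ, mul_assoc]
        _ = b ^ k * (d ^ 1 * (a * b)) := by rw [pow_one, h]
        _ = d ^ 1 * (b ^ k * a) * b := by
            rw [← mul_assoc, hc 1 (b ^ k), mul_assoc, ← mul_assoc (b ^ k), mul_assoc (d ^ 1)]
        _ = d ^ (k + 1) * (a * b ^ (k + 1)) := by
            rw [ih, pow_one, pow_succ b, pow_succ' d]; simp only [mul_assoc]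
  induction n with
  | zero => simp
  | succ n ih =>
    have h2 : (n + 1).choose 2 = n.choose 2 + n := by
      rw [Nat.choose_succ_succ' n 1, Nat.choose_one_right, add_comm]
    rw [pow_succ, ih, h2, pow_add, pow_succ a, pow_succ b]
    calc d ^ n.choose 2 * (a ^ n * b ^ n) * (a * b)
        = d ^ n.choose 2 * (a ^ n * (b ^ n * a) * b) := by simp only [mul_assoc]
      _ = d ^ n.choose 2 * (a ^ n * (d ^ n * (a * b ^ n)) * b) := by rw [hb n]
      _ = _ := by rw [← mul_assoc (a ^ n) (d ^ n), hc n (a ^ n)]; simp only [mul_assoc]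

/-- `-i(i-1)/2`. -/
def triT (i : ℤ) : ℤ := -(i * (i - 1) / 2)

theorem two_mul_triT (i : ℤ) : 2 * triT i = -(i * (i - 1)) := by
  have h : (2 : ℤ) ∣ i * (i - 1) := by
    rcases Int.even_or_odd i with h | h
    · exact dvd_mul_of_dvd_left h.two_dvd _
    · exact dvd_mul_of_dvd_right (h.sub_odd odd_one).two_dvd _
  rw [triT, mul_neg, Int.mul_ediv_cancel' h]

theorem triT_add (a b : ℤ) : triT (a + b) = triT a + triT b - a * b := by
  nlinarith [two_mul_triT (a + b), two_mul_triT a, two_mul_triT b]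

theorem triT_mul (p t : ℤ) : triT (p * t) = t * triT p + p * p * triT t := by
  have h1 := two_mul_triT (p * t)
  have h2 := two_mul_triT p
  have h3 := two_mul_triT t
  exact mul_left_cancel₀ (two_ne_zero (α := ℤ)) (by linear_combination h1 - t * h2 - p * p * h3)

/-- An element fused, under automorphisms, with at least `p ^ 2` elements. -/
theorem exists_auto {p : ℕ} (hp : p.Prime) {c y : G} (hc : c ∈ center G) (hcp : orderOf c = p)
    (hcomm : ∀ g h : G, ⁅g, h⁆ ∈ zpowers c) (β : ℤ → G)
    (hβc : ∀ i, β i * y = y * β i)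
    (hβ : ∀ i j b, ⁅b, y⁆ = c ^ j → β i * b * β j = b * β (i + j))
    (hβper : ∀ i t : ℤ, β (i + p * t) = β i) (hβ0 : β 0 = 1)
    (hβn : ∀ i : ℤ, ¬ (p : ℤ) ∣ i → β i ∉ zpowers c) (hβp : ∀ i, β i ^ p ∈ zpowers c) :
    ∀ x : G, ⁅x, y⁆ ≠ 1 → p ^ 2 ≤ Nat.card ↥(MulAction.orbit (MulAut G) x) := by
  have hE : ∀ x : G, ∃ i : ℤ, c ^ i = ⁅x, y⁆ := fun x => mem_zpowers_iff.mp (hcomm x y)
  choose e he using hE
  have hceq : ∀ {i j : ℤ}, c ^ i = c ^ j ↔ (i - j) % (p : ℤ) = 0 := fun {i j} => by
    rw [← hcp, ← Int.dvd_iff_emod_eq_zero, orderOf_dvd_sub_iff_zpow_eq_zpow]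
  have hwd : ∀ {i j : ℤ}, c ^ i = c ^ j → β i = β j := fun {i j} h => by
    obtain ⟨t, ht⟩ := Int.dvd_of_emod_eq_zero (hceq.mp h)
    rw [show i = j + p * t by omega, hβper]
  have hem : ∀ a b : G, c ^ (e a + e b) = c ^ e (a * b) := by
    intro a b
    rw [zpow_add, he, he, he]
    have h := mem_center_iff.mp (le_trans (le_refl _) (zpowers_le.mpr hc) (hcomm b y))
    calc ⁅a, y⁆ * ⁅b, y⁆ = a * ⁅b, y⁆ * a⁻¹ * ⁅a, y⁆ := by
          rw [h a, mul_inv_cancel_right, h]
      _ = ⁅a * b, y⁆ := by simp only [commutatorElement_def]; group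
  let α : G →* G := MonoidHom.mk' (fun x => x * β (e x)) fun a b => by
    show a * b * β (e (a * b)) = a * β (e a) * (b * β (e b))
    rw [← hwd (hem a b)]
    calc a * b * β (e a + e b) = a * (b * β (e a + e b)) := by rw [mul_assoc]
      _ = a * (β (e a) * b * β (e b)) := by rw [← hβ (e a) (e b) b (he b).symm]
      _ = _ := by simp only [mul_assoc]
  have hα0 : ∀ x, ⁅x, y⁆ = 1 → β (e x) = 1 := fun x h => by
    rw [← hβ0]; exact hwd (by rw [he, h, zpow_zero])
  have hinj : Function.Injective α := by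
    rw [injective_iff_map_eq_one]
    intro x hx
    have hx' : x = (β (e x))⁻¹ := eq_inv_of_mul_eq_one_left hx
    have h1 : ⁅x, y⁆ = 1 := by
      rw [commutatorElement_eq_one_iff_mul_comm]
      have hcy : Commute (β (e x))⁻¹ y := Commute.inv_left (hβc (e x))
      rw [← hx'] at hcy
      exact hcy
    rw [hx', hα0 x h1, inv_one]
  let A : MulAut G := MulEquiv.ofBijective α ⟨hinj, Finite.surjective_of_injective hinj⟩
  intro x hx
  set b := β (e x) with hb
  have hAb : A b = b := by
    show b * β (e b) = b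
    rw [hα0 b (commutatorElement_eq_one_iff_mul_comm.mpr (hβc _)), mul_one]
  have hAx : A x = x * b := rfl
  have hpow : ∀ k : ℕ, (A ^ k) x = x * b ^ k := by
    intro k
    induction k with
    | zero => simp
    | succ k ih => rw [pow_succ', MulAut.mul_apply, ih, map_mul, map_pow, hAb, hAx, mul_assoc, pow_succ']
  have hne : ⁅y, x⁆ ≠ 1 := by
    rw [Ne, commutatorElement_eq_one_iff_mul_comm, eq_comm, ← commutatorElement_eq_one_iff_mul_comm]
    exact hx
  have hin : ∀ (k j : ℕ), c ^ j * x * b ^ k ∈ MulAction.orbit (MulAut G) x := by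
    intro k j
    obtain ⟨i, hi⟩ := mem_zpowers_iff.mp (hcomm y x)
    have := Fact.mk hp
    have hpi : ¬ (p : ℤ) ∣ i := fun h => hne (by
      rw [← hi, ← orderOf_dvd_iff_zpow_eq_one, hcp]; exact h)
    obtain ⟨l, hl⟩ : ∃ l : ℕ, (c ^ i) ^ l = c ^ j := by
      have ho : orderOf (c ^ i) = p := (orderOf_eq_prime (by
        rw [← zpow_natCast, ← zpow_mul, mul_comm, zpow_mul, zpow_natCast, ← hcp, pow_orderOf_eq_one,
          one_zpow]) (fun h => hne (hi ▸ h)))
      have hz : zpowers (c ^ i) = zpowers c :=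
        eq_of_le_of_card_ge (zpowers_le.mpr (zpow_mem (mem_zpowers c) i))
          (by rw [Nat.card_zpowers, Nat.card_zpowers, ho, hcp])
      have : c ^ j ∈ zpowers (c ^ i) := hz ▸ pow_mem (mem_zpowers c) j
      exact Submonoid.mem_powers_iff _ _ |>.mp ((isOfFinOrder_of_finite _).mem_powers_iff_mem_zpowers.mpr this)
    have hconj : ∀ l : ℕ, y ^ l * x * (y ^ l)⁻¹ = (c ^ i) ^ l * x := by
      intro l
      induction l with
      | zero => simp
      | succ l ih =>
        have h1 : y * x * y⁻¹ = c ^ i * x := by rw [hi, commutatorElement_def]; group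
        calc y ^ (l + 1) * x * (y ^ (l + 1))⁻¹ = y * (y ^ l * x * (y ^ l)⁻¹) * y⁻¹ := by
              rw [pow_succ']; group
          _ = y * (c ^ i) ^ l * (x * y⁻¹) := by rw [ih]; group
          _ = (c ^ i) ^ l * y * (x * y⁻¹) := by
              rw [mem_center_iff.mp (pow_mem (zpow_mem hc i) l) y]
          _ = (c ^ i) ^ l * (y * x * y⁻¹) := by group
          _ = _ := by rw [h1, pow_succ, mul_assoc]
    refine ⟨A ^ k * MulAut.conj (y ^ l), ?_⟩
    show (A ^ k) (y ^ l * x * (y ^ l)⁻¹) = _
    rw [hconj, hl, map_mul, hpow, mul_assoc]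
    congr 1
    have hcc : A c = c := by
      show c * β (e c) = c
      rw [hα0 c (commutatorElement_eq_one_iff_mul_comm.mpr (mem_center_iff.mp hc y).symm), mul_one]
    rw [map_pow]
    congr 1
    clear_value b
    induction k with
    | zero => rfl
    | succ k ih => rw [pow_succ', MulAut.mul_apply, ih, hcc]
  have hbn : ∀ k : ℕ, 0 < k → k < p → b ^ k ∉ zpowers c := by
    intro k hk0 hkp hk
    have hi : ¬ (p : ℤ) ∣ e x := fun h => hx (by
      rw [← he, ← orderOf_dvd_iff_zpow_eq_one, hcp]; exact h)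
    refine hβn _ hi ?_
    have hco : Nat.Coprime k p := (hp.coprime_iff_not_dvd.mpr fun h =>
      absurd (Nat.le_of_dvd hk0 h) (not_le.mpr hkp)).symm
    have e1 : b = (b ^ k) ^ (Nat.gcdA k p) * (b ^ p) ^ (Nat.gcdB k p) := by
      have := Nat.gcd_eq_gcd_ab k p
      rw [hco.gcd_eq_one] at this
      rw [← zpow_natCast b k, ← zpow_natCast b p, ← zpow_mul, ← zpow_mul, ← zpow_add, ← this]
      simp
    show b ∈ zpowers c
    rw [e1]
    exact mul_mem (zpow_mem hk _) (zpow_mem (hβp (e x)) _)
  let F : Fin p × Fin p → ↥(MulAction.orbit (MulAut G) x) := fun kj =>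
    ⟨c ^ (kj.2 : ℕ) * x * b ^ (kj.1 : ℕ), hin _ _⟩
  have hF : Function.Injective F := by
    have key : ∀ k k' j j' : ℕ, k ≤ k' → k' < p →
        c ^ j * x * b ^ k = c ^ j' * x * b ^ k' → k = k' := by
      intro k k' j j' hle hlt h
      by_contra hne'
      refine hbn (k' - k) (by omega) (by omega) ?_
      have hk : b ^ k' = b ^ (k' - k) * b ^ k := by rw [← pow_add, Nat.sub_add_cancel hle]
      rw [hk, ← mul_assoc] at h
      have h' := mul_right_cancel h
      have : b ^ (k' - k) = x⁻¹ * ((c ^ j')⁻¹ * c ^ j) * x := by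
        rw [mul_assoc _ _ x, mul_assoc ((c ^ j')⁻¹), h']; group
      rw [this, mem_center_iff.mp (mul_mem (inv_mem (pow_mem hc _)) (pow_mem hc _)) x⁻¹,
        inv_mul_cancel_right]
      exact mul_mem (inv_mem (pow_mem (mem_zpowers c) _)) (pow_mem (mem_zpowers c) _)
    intro ⟨k, j⟩ ⟨k', j'⟩ h
    have h' := congrArg Subtype.val h
    have hkk : k = k' := Fin.ext <| by
      rcases le_total (k : ℕ) k' with hle | hle
      · exact key _ _ _ _ hle k'.2 h'
      · exact (key _ _ _ _ hle k.2 h'.symm).symm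
    subst hkk
    have hj : c ^ (j : ℕ) = c ^ (j' : ℕ) := mul_right_cancel (mul_right_cancel h')
    rw [pow_eq_pow_iff_modEq, hcp, Nat.ModEq, Nat.mod_eq_of_lt j.2, Nat.mod_eq_of_lt j'.2] at hj
    rw [Fin.ext hj]
  have := Nat.card_le_card_of_injective F hF
  simpa [sq] using this

/-- A suitable non-central element whose class automorphism is big. -/
theorem exists_big {p : ℕ} (hp : p.Prime) {c : G} (hc : c ∈ center G) (hcp : orderOf c = p)
    (hcomm : ∀ g h : G, ⁅g, h⁆ ∈ zpowers c) {a₀ b₀ : G} (hab : ⁅b₀, a₀⁆ ≠ 1) :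
    ∃ y : G, y ∉ center G ∧
      ∀ x : G, ⁅x, y⁆ ≠ 1 → p ^ 2 ≤ Nat.card ↥(MulAction.orbit (MulAut G) x) := by
  have := Fact.mk hp
  have hnc : ∀ u v : G, ⁅u, v⁆ ≠ 1 → v ∉ center G := fun u v h hv =>
    h (commutatorElement_eq_one_iff_mul_comm.mpr (mem_center_iff.mp hv u))
  have hzc : zpowers c ≤ center G := zpowers_le.mpr hc
  by_cases hw : ∃ w ∈ center G, w ^ p = 1 ∧ w ∉ zpowers c
  · obtain ⟨w, hwZ, hwp, hwc⟩ := hw
    refine ⟨a₀, hnc b₀ a₀ hab, exists_auto hp hc hcp hcomm (fun i => w ^ i)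
      (fun i => (mem_center_iff.mp (zpow_mem hwZ i) a₀).symm) ?_ ?_ (zpow_zero w) ?_ ?_⟩
    · intro i j b _
      show w ^ i * b * w ^ j = b * w ^ (i + j)
      rw [← mem_center_iff.mp (zpow_mem hwZ i) b, mul_assoc, zpow_add]
    · intro i t
      show w ^ (i + p * t) = w ^ i
      rw [zpow_add, zpow_mul, zpow_natCast, hwp, one_zpow, mul_one]
    · intro i hi hmem
      refine hwc ?_
      obtain ⟨u, v, huv⟩ : IsCoprime i (p : ℤ) :=
        ((Nat.prime_iff_prime_int.mp hp).coprime_iff_not_dvd.mpr hi).symm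
      have : w = (w ^ i) ^ u * (w ^ (p : ℤ)) ^ v := by
        rw [← zpow_mul, ← zpow_mul, ← zpow_add, mul_comm i, mul_comm (p : ℤ), huv, zpow_one]
      rw [this, zpow_natCast, hwp, one_zpow, mul_one]
      exact zpow_mem hmem u
    · intro i
      show (w ^ i) ^ p ∈ _
      rw [← zpow_natCast, ← zpow_mul, mul_comm, zpow_mul, zpow_natCast, hwp, one_zpow]
      exact one_mem _
  push Not at hw
  set m := p.choose 2 with hm
  have hm2 : (2 * m : ℤ) = p * (p - 1) := by
    have h2 : 2 * p.choose 2 = p * (p - 1) := by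
      rw [Nat.choose_two_right]; exact Nat.mul_div_cancel' (Nat.even_mul_pred_self p).two_dvd
    have := congrArg (Nat.cast : ℕ → ℤ) h2
    rw [Nat.cast_mul, Nat.cast_mul, Nat.cast_sub hp.one_le] at this
    simpa [hm] using this
  have hT : triT (p : ℤ) = -(m : ℤ) := by linarith [two_mul_triT (p : ℤ)]
  have hpz : ∀ g : G, g ^ p ∈ center G := by
    intro g
    refine mem_center_iff.mpr fun h => ?_
    obtain ⟨i, hi⟩ := mem_zpowers_iff.mp (hcomm h g)
    have hh : h * g * h⁻¹ = c ^ i * g := by rw [hi, commutatorElement_def]; group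
    have : h * g ^ p * h⁻¹ = g ^ p := by
      rw [← conj_pow, hh, Commute.mul_pow (mem_center_iff.mp (zpow_mem hc i) g).symm, ← zpow_natCast,
        ← zpow_mul, mul_comm, zpow_mul, zpow_natCast, ← hcp, pow_orderOf_eq_one, one_zpow, one_mul]
    exact mul_inv_eq_iff_eq_mul.mp this
  -- the quotient of the centre by its `p`-th powers
  let φp : center G →* center G := MonoidHom.mk' (fun z => z ^ p) fun a b =>
    Commute.mul_pow (Subtype.ext (mem_center_iff.mp b.2 a)) p
  let R : Subgroup (center G) := φp.range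
  let ρ := QuotientGroup.mk' R
  have hQ : Nat.card (center G ⧸ R) = p := by
    have h1 := φp.ker.index_mul_card
    rw [index_ker] at h1
    have h2 : R.index * Nat.card R = Nat.card (center G) := R.index_mul_card
    have h3 : Nat.card φp.ker = p := by
      rw [← card_map_of_injective (center G).subtype_injective,
        show (φp.ker).map (center G).subtype = zpowers c from ?_,
        Nat.card_zpowers, hcp]
      refine le_antisymm ?_ (zpowers_le.mpr ⟨⟨c, hc⟩, Subtype.ext ?_, rfl⟩)
      · rintro _ ⟨z, hz, rfl⟩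
        exact hw z z.2 (congrArg Subtype.val hz)
      · show c ^ p = 1
        rw [← hcp, pow_orderOf_eq_one]
    rw [← index_eq_card]
    have hR : 0 < Nat.card R := Nat.card_pos
    rw [h3] at h1
    change Nat.card R * p = Nat.card (center G) at h1
    nlinarith
  have hQc : ∀ u v : center G ⧸ R, u * v = v * u := fun u v => by
    obtain ⟨u, rfl⟩ := QuotientGroup.mk'_surjective R u
    obtain ⟨v, rfl⟩ := QuotientGroup.mk'_surjective R v
    rw [← map_mul, ← map_mul]
    exact congrArg _ (Subtype.ext (mem_center_iff.mp v.2 u))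
  let cm : center G := ⟨c, hc⟩ ^ m
  have hcm2 : cm * cm = 1 := by
    refine Subtype.ext ?_
    show c ^ m * c ^ m = 1
    rw [← pow_add, ← orderOf_dvd_iff_pow_eq_one, hcp]
    refine Int.natCast_dvd_natCast.mp ⟨(p : ℤ) - 1, ?_⟩
    push_cast; linarith
  let P : G → center G ⧸ R := fun g => ρ ⟨g ^ p, hpz g⟩
  obtain ⟨y, hy, hyP⟩ : ∃ y : G, y ∉ center G ∧ P y = ρ cm := by
    by_cases hA : P a₀ = ρ cm
    · exact ⟨a₀, hnc b₀ a₀ hab, hA⟩
    set d := ⁅b₀, a₀⁆ with hdd
    have hd : d ∈ center G := hzc (hcomm _ _)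
    have hdp : orderOf d = p := orderOf_eq_prime (by
      obtain ⟨i, hi⟩ := mem_zpowers_iff.mp (hcomm b₀ a₀)
      rw [hdd, ← hi, ← zpow_natCast, ← zpow_mul, mul_comm, zpow_mul, zpow_natCast, ← hcp,
        pow_orderOf_eq_one, one_zpow]) hab
    have hba : ∀ k : ℕ, b₀ * a₀ ^ k = d ^ k * (a₀ ^ k * b₀) := by
      intro k
      induction k with
      | zero => simp
      | succ k ih =>
        have h1 : b₀ * a₀ = d * (a₀ * b₀) := by rw [hdd, commutatorElement_def]; group
        calc b₀ * a₀ ^ (k + 1) = b₀ * a₀ ^ k * a₀ := by rw [pow_succ, mul_assoc]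
          _ = d ^ k * a₀ ^ k * (b₀ * a₀) := by rw [ih]; simp only [mul_assoc]
          _ = d ^ k * (a₀ ^ k * d) * (a₀ * b₀) := by rw [h1]; simp only [mul_assoc]
          _ = d ^ (k + 1) * (a₀ ^ (k + 1) * b₀) := by
              rw [mem_center_iff.mp hd (a₀ ^ k), pow_succ d, pow_succ a₀]; simp only [mul_assoc]
    let dm : center G := ⟨d, hd⟩ ^ m
    have hdm : ρ dm = ρ cm := by
      obtain ⟨i, hi⟩ := mem_zpowers_iff.mp (hcomm b₀ a₀)
      have hdc : dm = cm ^ i := by
        refine Subtype.ext ?_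
        show d ^ m = (c ^ m) ^ i
        rw [hdd, ← hi, ← zpow_natCast c m, ← zpow_natCast, ← zpow_mul, ← zpow_mul, mul_comm]
      have hcm : cm ^ (2 : ℤ) = 1 := by rw [zpow_two, hcm2]
      rw [hdc]
      rcases Int.even_or_odd i with ⟨j, rfl⟩ | ⟨j, rfl⟩
      · -- `i` even forces `p` odd, and then `cm = 1`
        have hcm1 : cm = 1 := by
          refine Subtype.ext ?_
          show c ^ m = 1
          rw [← orderOf_dvd_iff_pow_eq_one, hcp]
          have h2m : p ∣ 2 * m := Int.natCast_dvd_natCast.mp ⟨(p : ℤ) - 1, by push_cast; linarith⟩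
          refine ((Nat.Prime.dvd_mul hp).mp h2m).resolve_left fun h => ?_
          have hp2 : p = 2 := (Nat.prime_dvd_prime_iff_eq hp Nat.prime_two).mp h
          apply hab
          rw [hdd, ← hi, ← two_mul, zpow_mul, show c ^ (2 : ℤ) = 1 by
            rw [show (2 : ℤ) = ((2 : ℕ) : ℤ) from rfl, zpow_natCast, ← hp2, ← hcp, pow_orderOf_eq_one],
            one_zpow]
        rw [hcm1, one_zpow]
      · rw [zpow_add, zpow_one, zpow_mul, hcm, one_zpow, one_mul]
    have hg : P a₀ * ρ cm ≠ 1 := fun h => hA (by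
      rw [mul_eq_one_iff_eq_inv] at h
      rw [h, ← map_inv, inv_eq_of_mul_eq_one_right hcm2])
    have hmem : ρ cm * (P b₀)⁻¹ ∈ Submonoid.powers (P a₀ * ρ cm) :=
      mem_powers_of_prime_card hQ hg
    obtain ⟨k, hk⟩ := hmem
    refine ⟨a₀ ^ k * b₀, fun hy => hab ?_, ?_⟩
    · have h := mem_center_iff.mp hy a₀
      rw [hdd, commutatorElement_eq_one_iff_mul_comm]
      rw [← mul_assoc, ← pow_succ', pow_succ, mul_assoc, mul_assoc] at h
      exact (mul_left_cancel h).symm
    · have h := mul_pow_central (pow_mem hd k) (hba k) p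
      have he : (⟨(a₀ ^ k * b₀) ^ p, hpz _⟩ : center G) =
          dm ^ k * ((⟨a₀ ^ p, hpz a₀⟩ : center G) ^ k * ⟨b₀ ^ p, hpz b₀⟩) := by
        refine Subtype.ext ?_
        show (a₀ ^ k * b₀) ^ p = (d ^ m) ^ k * ((a₀ ^ p) ^ k * b₀ ^ p)
        rw [h, ← pow_mul, ← pow_mul, ← pow_mul, ← pow_mul, hm, mul_comm k, mul_comm k]
      show ρ _ = ρ cm
      rw [he, map_mul, map_mul, map_pow ρ dm k, map_pow ρ _ k, hdm, ← mul_assoc, ← Commute.mul_pow (hQc _ _) k, hQc (ρ cm)]
      show (P a₀ * ρ cm) ^ k * P b₀ = ρ cm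
      rw [show (P a₀ * ρ cm) ^ k = ρ cm * (P b₀)⁻¹ from hk, inv_mul_cancel_right]
  obtain ⟨z, hz⟩ : ∃ z : center G, z ^ p = cm⁻¹ * ⟨y ^ p, hpz y⟩ := by
    have h := (QuotientGroup.eq (s := R)).mp hyP.symm
    exact h
  set y' := y * ((z : G))⁻¹ with hy'
  have hy'Z : y' ∉ center G := fun h => hy (by
    have := mul_mem h z.2
    rwa [hy', inv_mul_cancel_right] at this)
  have hy'p : y' ^ p = c ^ (m : ℤ) := by
    have h1 : (z : G) ^ p = (c ^ m)⁻¹ * y ^ p := congrArg Subtype.val hz
    rw [hy', Commute.mul_pow (mem_center_iff.mp (inv_mem z.2) y), inv_pow, h1, mul_inv_rev, inv_inv,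
      mul_inv_cancel_left, zpow_natCast]
  clear_value y'
  refine ⟨y', hy'Z, exists_auto hp hc hcp hcomm (fun i => y' ^ i * c ^ triT i) ?_ ?_ ?_ ?_ ?_ ?_⟩
  · intro i
    exact ((Commute.zpow_self y' i).mul_left
      (show Commute (c ^ triT i) y' from (mem_center_iff.mp (zpow_mem hc _) y').symm))
  · intro i j b hb
    have hyb : y' * b * y'⁻¹ = c ^ (-j) * b := by
      rw [zpow_neg, ← hb, commutatorElement_inv, commutatorElement_def]; group
    have hcz : ∀ (k : ℤ) (g : G), g * c ^ k = c ^ k * g := fun k g =>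
      mem_center_iff.mp (zpow_mem hc k) g
    have hyi : y' ^ i * b = c ^ (-(i * j)) * b * y' ^ i := by
      have h1 : MulAut.conj b⁻¹ y' = c ^ (-j) * y' := by
        rw [MulAut.conj_apply, inv_inv]
        calc b⁻¹ * y' * b = b⁻¹ * (y' * b * y'⁻¹) * y' := by group
          _ = c ^ (-j) * y' := by rw [hyb, ← mul_assoc, hcz, inv_mul_cancel_right]
      have h2 : MulAut.conj b⁻¹ (y' ^ i) = (c ^ (-j) * y') ^ i := by rw [map_zpow, h1]
      rw [Commute.mul_zpow (hcz (-j) y').symm, ← zpow_mul, MulAut.conj_apply, inv_inv] at h2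
      calc y' ^ i * b = b * (b⁻¹ * y' ^ i * b) := by group
        _ = _ := by rw [h2, ← mul_assoc, hcz, show -j * i = -(i * j) by ring]
    show y' ^ i * c ^ triT i * b * (y' ^ j * c ^ triT j) = b * (y' ^ (i + j) * c ^ triT (i + j))
    calc y' ^ i * c ^ triT i * b * (y' ^ j * c ^ triT j)
        = c ^ triT i * (y' ^ i * b) * (y' ^ j * c ^ triT j) := by
          rw [hcz]; simp only [mul_assoc]
      _ = c ^ triT i * c ^ (-(i * j)) * (b * y' ^ (i + j)) * c ^ triT j := by
          rw [hyi, zpow_add]; simp only [mul_assoc]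
      _ = c ^ triT (i + j) * (b * y' ^ (i + j)) := by
          rw [mul_assoc, hcz (triT j), ← mul_assoc, ← zpow_add, ← zpow_add,
            show triT i + -(i * j) + triT j = triT (i + j) by rw [triT_add]; ring]
      _ = _ := by rw [← hcz, mul_assoc]
  · intro i t
    show y' ^ (i + p * t) * c ^ triT (i + p * t) = y' ^ i * c ^ triT i
    rw [zpow_add, zpow_mul, zpow_natCast, hy'p, ← zpow_mul, mul_assoc, ← zpow_add]
    congr 1
    rw [← orderOf_dvd_sub_iff_zpow_eq_zpow, hcp, triT_add, triT_mul, hT]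
    exact ⟨p * triT t - i * t, by ring⟩
  · simp [triT]
  · intro i hi hmem
    refine hy'Z ?_
    have hyi : y' ^ i ∈ center G := by
      have := mul_mem (hzc hmem) (inv_mem (zpow_mem hc (triT i)))
      rwa [mul_inv_cancel_right] at this
    obtain ⟨u, v, huv⟩ : IsCoprime i (p : ℤ) :=
      ((Nat.prime_iff_prime_int.mp hp).coprime_iff_not_dvd.mpr hi).symm
    have : y' = (y' ^ i) ^ u * (y' ^ (p : ℤ)) ^ v := by
      rw [← zpow_mul, ← zpow_mul, ← zpow_add, mul_comm i, mul_comm (p : ℤ), huv, zpow_one]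
    rw [this, zpow_natCast, hy'p]
    exact mul_mem (zpow_mem hyi u) (zpow_mem (zpow_mem hc _) v)
  · intro i
    show (y' ^ i * c ^ triT i) ^ p ∈ zpowers c
    rw [Commute.mul_pow (mem_center_iff.mp (zpow_mem hc _) (y' ^ i))]
    refine mul_mem ?_ (pow_mem (zpow_mem (mem_zpowers c) _) p)
    rw [← zpow_natCast, ← zpow_mul, mul_comm, zpow_mul, zpow_natCast, hy'p]
    exact zpow_mem (zpow_mem (mem_zpowers c) _) i

/-- The count of orbits when the derived subgroup has prime order. -/
theorem orbits_le {p : ℕ} (hp : p.Prime) (hmin : ∀ d, d ∣ Nat.card G → d ≠ 1 → p ≤ d)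
    (hd : Nat.card (commutator G) = p) :
    Nat.card (MulAction.orbitRel.Quotient (MulAut G) G) * p ≤ Nat.card G := by
  classical
  cases nonempty_fintype G
  have := Fact.mk hp
  have hcyc : IsCyclic (commutator G) := isCyclic_of_prime_card hd
  have hcent : commutator G ≤ center G := by
    let φ : G →* MulAut (commutator G) := MulAut.conjNormal
    have hφ : φ.range = ⊥ := by
      rw [← card_eq_one]
      refine Nat.eq_one_of_dvd_one ?_
      by_contra hne
      have h1 : Nat.card φ.range ∣ Nat.card G := card_range_dvd φ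
      have h2 : Nat.card φ.range ∣ p - 1 := by
        have := Subgroup.card_subgroup_dvd_card φ.range
        rwa [IsCyclic.card_mulAut, hd, Nat.totient_prime hp] at this
      have h3 := hmin _ h1 (fun h => hne (h ▸ dvd_rfl))
      have := hp.two_le
      have h4 := Nat.le_of_dvd (by have := hp.two_le; omega) h2
      omega
    intro z hz
    refine mem_center_iff.mpr fun g => ?_
    have : φ g = 1 := by rw [← mem_bot, ← hφ]; exact ⟨g, rfl⟩
    have := congrArg (fun f : MulAut (commutator G) => (f ⟨z, hz⟩ : G)) this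
    simp only [φ, MulAut.conjNormal_apply, MulAut.one_apply] at this
    exact mul_inv_eq_iff_eq_mul.mp this
  obtain ⟨a₀, b₀, hab⟩ : ∃ a b : G, ⁅b, a⁆ ≠ 1 := by
    by_contra h
    push Not at h
    refine hp.ne_one (hd ▸ card_eq_one.mpr ?_)
    rw [eq_bot_iff, _root_.commutator_def, Subgroup.commutator_le]
    exact fun g _ g' _ => mem_bot.mpr (h g' g)
  set c := ⁅b₀, a₀⁆ with hc0
  have hmemc : ∀ g h : G, ⁅g, h⁆ ∈ commutator G := fun g h =>
    Subgroup.commutator_mem_commutator (mem_top g) (mem_top h)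
  have hcp : orderOf c = p := by
    have h : orderOf c ∣ p := by
      rw [← hd, ← orderOf_mk c (hmemc b₀ a₀)]
      exact orderOf_dvd_natCard _
    exact ((Nat.dvd_prime hp).mp h).resolve_left fun h => hab (orderOf_eq_one_iff.mp h)
  have hzeq : zpowers c = commutator G :=
    eq_of_le_of_card_ge (zpowers_le.mpr (hmemc _ _)) (by rw [Nat.card_zpowers, hcp, hd])
  have hcomm : ∀ g h : G, ⁅g, h⁆ ∈ zpowers c := fun g h => hzeq.symm ▸ hmemc g h
  have hc : c ∈ center G := hcent (hmemc _ _)
  obtain ⟨y, hy, hbig⟩ := exists_big hp hc hcp hcomm hab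
  set C := centralizer ({y} : Set G) with hC
  have hclass : ∀ x : G, x ∉ center G → p ≤ Nat.card ↥(MulAction.orbit (MulAut G) x) := by
    intro x hx
    have hne : centralizer ({x} : Set G) ≠ ⊤ := fun h => hx (mem_center_iff.mpr fun g =>
      mem_centralizer_singleton_iff.mp (h.symm ▸ mem_top g))
    refine le_trans (hmin _ (index_dvd_card _) (fun h => hne (index_eq_one.mp h))) ?_
    rw [index_eq_card]
    refine Nat.card_le_card_of_injective (Quotient.lift
      (fun g : G => (⟨g * x * g⁻¹, ⟨MulAut.conj g, rfl⟩⟩ : ↥(MulAction.orbit (MulAut G) x))) ?_) ?_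
    · intro g g' h
      have h' := mem_centralizer_singleton_iff.mp (QuotientGroup.leftRel_apply.mp h)
      refine Subtype.ext ?_
      show g * x * g⁻¹ = g' * x * g'⁻¹
      calc g * x * g⁻¹ = g * (x * (g⁻¹ * g')) * g'⁻¹ := by group
        _ = g * (g⁻¹ * g' * x) * g'⁻¹ := by rw [← h']
        _ = _ := by group
    · intro u v
      induction u using QuotientGroup.induction_on with
      | _ g =>
        induction v using QuotientGroup.induction_on with
        | _ g' =>
          intro h
          have h' : g * x * g⁻¹ = g' * x * g'⁻¹ := congrArg Subtype.val h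
          refine QuotientGroup.eq.mpr (mem_centralizer_singleton_iff.mpr ?_)
          calc g⁻¹ * g' * x = g⁻¹ * (g' * x * g'⁻¹) * g' := by group
            _ = x * (g⁻¹ * g') := by rw [← h']; group
  let w : G → ℕ := fun x => if x ∈ center G then p ^ 2 else if x ∈ C then p else 1
  have hw1 : ∀ x, 1 ≤ w x := fun x => by
    simp only [w]; split_ifs <;> first | exact Nat.one_le_pow _ _ hp.pos | exact hp.one_le | rfl
  let π : G → MulAction.orbitRel.Quotient (MulAut G) G := Quotient.mk'' 
  have : Fintype (MulAction.orbitRel.Quotient (MulAut G) G) := Fintype.ofFinite _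
  have hlow : ∀ O, p ^ 2 ≤ ∑ x ∈ Finset.univ.filter (fun x => π x = O), w x := by
    intro O
    induction O using Quotient.inductionOn' with
    | h x0 =>
    set F := Finset.univ.filter (fun x => π x = Quotient.mk'' x0) with hF
    have hmemF : ∀ x ∈ F, Nat.card ↥(MulAction.orbit (MulAut G) x) = F.card := by
      intro x hx
      rw [hF, Finset.mem_filter] at hx
      rw [hF, Nat.card_eq_fintype_card]
      refine Fintype.card_of_subtype _ fun z => ?_
      simp only [Finset.mem_filter, Finset.mem_univ, true_and, π]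
      rw [← hx.2]
      exact ⟨fun h => Quotient.eq''.mp h, fun h => Quotient.eq''.mpr h⟩
    by_cases h1 : ∃ x ∈ F, x ∈ center G
    · obtain ⟨x, hxF, hxZ⟩ := h1
      exact le_trans (by simp [w, hxZ]) (Finset.single_le_sum (fun i _ => Nat.zero_le (w i)) hxF)
    push Not at h1
    by_cases h2 : ∃ x ∈ F, x ∉ C
    · obtain ⟨x, hxF, hxC⟩ := h2
      have := hbig x (fun h => hxC (mem_centralizer_singleton_iff.mpr
        (commutatorElement_eq_one_iff_mul_comm.mp h)))
      rw [hmemF x hxF] at this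
      refine this.trans ?_
      rw [Finset.card_eq_sum_ones]
      exact Finset.sum_le_sum fun i _ => hw1 i
    push Not at h2
    have hx0 : x0 ∈ F := by simp [hF, π]
    have := hclass x0 (h1 x0 hx0)
    rw [hmemF x0 hx0] at this
    calc p ^ 2 ≤ F.card * p := by rw [sq]; exact Nat.mul_le_mul this le_rfl
      _ = ∑ x ∈ F, p := by rw [Finset.sum_const, smul_eq_mul]
      _ ≤ _ := Finset.sum_le_sum fun i hi => by simp [w, h1 i hi, h2 i hi]
  have hsum : Nat.card (MulAction.orbitRel.Quotient (MulAut G) G) * p ^ 2 ≤ ∑ x, w x := by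
    rw [← Finset.sum_fiberwise Finset.univ π w, Nat.card_eq_fintype_card, ← Finset.card_univ,
      ← smul_eq_mul]
    exact Finset.card_nsmul_le_sum _ _ _ fun O _ => hlow O
  have hup : ∑ x, w x ≤ p * Nat.card G := by
    have hw' : ∀ x, w x + 0 = 1 + ((if x ∈ center G then p ^ 2 - p else 0) +
        (if x ∈ C then p - 1 else 0)) := by
      intro x
      have hZC : x ∈ center G → x ∈ C := fun h =>
        mem_centralizer_singleton_iff.mpr (mem_center_iff.mp h y).symm
      have := hp.two_le
      have : p ≤ p ^ 2 := Nat.le_self_pow two_ne_zero p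
      simp only [w]
      split_ifs with hxZ hxC <;> first | (exfalso; exact hxC (hZC hxZ)) | omega
    have hcard : ∀ (H : Subgroup G) {inst : DecidablePred (fun x => x ∈ H)},
        (@Finset.filter G (fun x => x ∈ H) inst Finset.univ).card = Nat.card H := fun H inst => by
      exact (Nat.subtype_card _ (fun x => by simp)).symm
    have heq : ∑ x, w x = Nat.card G + ((p ^ 2 - p) * Nat.card (center G) + (p - 1) * Nat.card C) := by
      simp only [add_zero] at hw'
      rw [Finset.sum_congr rfl fun x _ => hw' x, Finset.sum_add_distrib, Finset.sum_add_distrib,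
        ← Finset.sum_filter, ← Finset.sum_filter, Finset.sum_const, Finset.sum_const, Finset.sum_const,
        hcard, hcard, smul_eq_mul, smul_eq_mul, smul_eq_mul, Finset.card_univ]
      simp only [Nat.card_eq_fintype_card]
      ring
    have hC1 : p * Nat.card C ≤ Nat.card G := by
      rw [← C.card_mul_index, mul_comm p]
      exact Nat.mul_le_mul le_rfl (hmin _ (index_dvd_card _) fun h =>
        hy (mem_center_iff.mpr fun g => mem_centralizer_singleton_iff.mp
          ((index_eq_one.mp h).symm.le (mem_top g) : g ∈ C)))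
    have hC2 : p * Nat.card (center G) ≤ Nat.card C := by
      have hle : center G ≤ C := fun g hg =>
        mem_centralizer_singleton_iff.mpr (mem_center_iff.mp hg y).symm
      have h := relIndex_mul_relIndex ⊥ (center G) C bot_le hle
      rw [relIndex_bot_left, relIndex_bot_left] at h
      rw [← h, mul_comm p]
      refine Nat.mul_le_mul le_rfl (hmin _ ((relIndex_dvd_card _ _).trans (card_subgroup_dvd_card _)) ?_)
      intro h1
      exact hy (relIndex_eq_one.mp h1 (mem_centralizer_singleton_iff.mpr rfl))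
    rw [heq]
    obtain ⟨q, rfl⟩ : ∃ q, p = q + 2 := ⟨p - 2, by have := hp.two_le; omega⟩
    rw [show (q + 2) ^ 2 - (q + 2) = (q + 1) * (q + 2) from Nat.sub_eq_of_eq_add (by ring),
      show q + 2 - 1 = q + 1 by omega]
    have h2C : 2 * Nat.card C ≤ Nat.card G := le_trans (Nat.mul_le_mul (by omega) le_rfl) hC1
    nlinarith [Nat.mul_le_mul_left (q + 1) hC2, Nat.mul_le_mul_left (q + 1) h2C]
  refine Nat.le_of_mul_le_mul_right (?_ : _ * p ≤ Nat.card G * p) hp.pos
  nlinarith

end Helpers

/-- Let G be a finite non-abelian group and p the least prime dividing its order. Then the automorphism group of G has at most #G/p orbits on G. -/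
theorem result {G : Type*} [Group G] [Finite G] (hna : ¬ IsMulCommutative G) :
    Nat.card (MulAction.orbitRel.Quotient (MulAut G) G) ≤ Nat.card G / (Nat.card G).minFac := by
  classical
  cases nonempty_fintype G
  have hne : Nat.card G ≠ 1 := fun h => hna (isMulCommutative_iff.mpr fun a b =>
    (Nat.card_eq_one_iff_unique.mp h).1.elim _ _)
  set p := (Nat.card G).minFac
  have hp : p.Prime := Nat.minFac_prime hne
  have hmin : ∀ d, d ∣ Nat.card G → d ≠ 1 → p ≤ d := fun d hd hd1 =>
    (Nat.minFac_le_of_dvd (Nat.minFac_prime hd1).two_le ((Nat.minFac_dvd d).trans hd)).trans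
      (Nat.minFac_le (Nat.pos_of_ne_zero fun h => Nat.card_pos.ne' (Nat.eq_zero_of_zero_dvd (h ▸ hd))))
  rw [Nat.le_div_iff_mul_le hp.pos]
  rcases Nat.lt_or_ge p (Nat.card (commutator G)) with h | h
  · refine le_trans (Nat.mul_le_mul (Nat.card_le_card_of_surjective
      (Quotient.lift (fun g : G => (Quotient.mk'' g : MulAction.orbitRel.Quotient (MulAut G) G))
        fun a b hab => Quotient.eq''.mpr ?_) ?_) le_rfl) (classes_le hp hmin h)
    · obtain ⟨c, hc⟩ := isConj_iff.mp hab
      exact ⟨MulAut.conj c⁻¹, by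
        show c⁻¹ * b * c⁻¹⁻¹ = a
        rw [← hc]; group⟩
    · intro O
      induction O using Quotient.inductionOn' with
      | h x => exact ⟨ConjClasses.mk x, rfl⟩
  · refine orbits_le hp hmin (le_antisymm h ?_)
    refine hmin _ (Subgroup.card_subgroup_dvd_card _) fun h1 => hna ?_
    have hb : commutator G = ⊥ := Subgroup.card_eq_one.mp h1
    exact isMulCommutative_iff.mpr fun a b => commutatorElement_eq_one_iff_mul_comm.mp
      (Subgroup.mem_bot.mp (hb ▸ Subgroup.commutator_mem_commutator (Subgroup.mem_top a) (Subgroup.mem_top b)))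

end Cfsg.Agent.S4067
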