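import Cfsg.Statements.S4071
import Mathlib
import Cfsg.Agent.PGroups.Basic

set_option autoImplicit false
open Cfsg

namespace Cfsg.Agent.S4071

open Subgroup

universe u

variable {G : Type u} [Group G] [Finite G]

/-- `a ↦ [x, a]` on an abelian normal subgroup. -/
def commHom (A : Subgroup G) [A.Normal] [IsMulCommutative A] (x : G) : A →* A where
  toFun a := ⟨x * a * x⁻¹ * (a : G)⁻¹, A.mul_mem (Subgroup.Normal.conj_mem ‹_› _ a.2 x) (A.inv_mem a.2)⟩
  map_one' := by ext; simp
  map_mul' a b := by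
    ext
    have hc := congrArg Subtype.val ((IsMulCommutative.is_comm (M := A)).comm
      (⟨x * b * x⁻¹, Subgroup.Normal.conj_mem ‹_› _ b.2 x⟩ * b⁻¹) a⁻¹)
    simp only [Subgroup.coe_mul, Subgroup.coe_inv, mul_inv_rev] at hc ⊢
    calc x * (a * b) * x⁻¹ * ((b : G)⁻¹ * (a : G)⁻¹)
        = x * a * x⁻¹ * (x * b * x⁻¹ * (b : G)⁻¹ * (a : G)⁻¹) := by group
      _ = x * a * x⁻¹ * (a : G)⁻¹ * (x * b * x⁻¹ * (b : G)⁻¹) := by rw [hc]; group

theorem backward {x : G} {A : Subgroup G} [A.Normal] [IsMulCommutative A] {p : ℕ} (hp : p.Prime)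
    (hx : ∃ k : ℕ, orderOf x = p ^ k) (hA : ¬ p ∣ Nat.card A) (hcompl : (zpowers x).IsComplement' A)
    (hc : x ^ p ∈ center G) (hfpf : ∀ a : G, a ∈ A → a ≠ 1 → x * a * x⁻¹ ≠ a) {H : Subgroup G}
    (hH : ¬ IsMulCommutative H) : normalizer (H : Set G) = H := by
  obtain ⟨k, hk⟩ := hx
  set C := zpowers (x ^ p) ⊔ A with hC
  have hxC : zpowers (x ^ p) ≤ center G := zpowers_le.mpr hc
  have hCab : ∀ u ∈ C, ∀ v ∈ C, u * v = v * u := by
    intro u hu v hv
    obtain ⟨u1, hu1, u2, hu2, rfl⟩ := mem_sup_of_normal_right.mp hu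
    obtain ⟨v1, hv1, v2, hv2, rfl⟩ := mem_sup_of_normal_right.mp hv
    have e1 : ∀ g, g * u1 = u1 * g := fun g => mem_center_iff.mp (hxC hu1) g
    have e2 : ∀ g, g * v1 = v1 * g := fun g => mem_center_iff.mp (hxC hv1) g
    have e3 : u2 * v2 = v2 * u2 :=
      congrArg Subtype.val ((IsMulCommutative.is_comm (M := A)).comm ⟨u2, hu2⟩ ⟨v2, hv2⟩)
    calc u1 * u2 * (v1 * v2) = u1 * (u2 * v1) * v2 := by group
      _ = u1 * v1 * (u2 * v2) := by rw [e2 u2]; group
      _ = v1 * u1 * (v2 * u2) := by rw [← e1 v1, e3]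
      _ = v1 * (u1 * v2) * u2 := by group
      _ = v1 * v2 * (u1 * u2) := by rw [← e1 v2]; group
  have hHC : ¬ H ≤ C := fun h =>
    hH ⟨⟨fun a b => Subtype.ext (hCab _ (h a.2) _ (h b.2))⟩⟩
  obtain ⟨g, hgH, hgC⟩ := SetLike.not_le_iff_exists.mp hHC
  have htop : zpowers x ⊔ A = ⊤ := hcompl.sup_eq_top
  obtain ⟨_, ⟨i, rfl⟩, a, ha, rfl⟩ := mem_sup_of_normal_right.mp (htop ▸ mem_top g)
  dsimp only at hgH hgC
  have hi : ¬ (p : ℤ) ∣ i := by
    rintro ⟨j, rfl⟩
    refine hgC (mul_mem (mem_sup_left ⟨j, ?_⟩) (mem_sup_right ha))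
    simp [zpow_mul]
  set m := Nat.card A with hm
  set φ := QuotientGroup.mk' A with hφ
  have hφa : φ a = 1 := (QuotientGroup.eq_one_iff a).mpr ha
  set y := (x ^ i * a) ^ m with hy
  have hyH : y ∈ H := pow_mem hgH m
  set j : ℤ := i * m with hj
  have hj' : ¬ (p : ℤ) ∣ j := by
    intro h
    rcases (Nat.prime_iff_prime_int.mp hp).dvd_or_dvd h with h' | h'
    · exact hi h'
    · exact hA (Int.natCast_dvd_natCast.mp h')
  have hφy : φ y = φ (x ^ j) := by
    rw [hy, map_pow, map_mul, hφa, mul_one, ← map_pow, hj, zpow_mul, zpow_natCast]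
  obtain ⟨a', ha', hya'⟩ : ∃ a' ∈ A, y = x ^ j * a' :=
    ⟨(x ^ j)⁻¹ * y, QuotientGroup.eq.mp hφy.symm, by group⟩
  obtain ⟨s, t, hst⟩ : IsCoprime ((p : ℤ) ^ k) j :=
    ((Nat.prime_iff_prime_int.mp hp).coprime_iff_not_dvd.mpr hj').pow_left
  have hxpow : x = (x ^ j) ^ t := by
    conv_lhs => rw [← zpow_one x, ← hst]
    rw [zpow_add, mul_comm s, zpow_mul, ← Nat.cast_pow, zpow_natCast, ← hk, pow_orderOf_eq_one, one_zpow,
      one_mul, mul_comm t, zpow_mul]
  have hfy : ∀ b ∈ A, y * b * y⁻¹ = b → b = 1 := by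
    intro b hb hyb
    by_contra hne
    refine hfpf b hb hne ?_
    have hcomm : Commute (x ^ j) b := by
      have e3 : a' * b = b * a' :=
        congrArg Subtype.val ((IsMulCommutative.is_comm (M := A)).comm ⟨a', ha'⟩ ⟨b, hb⟩)
      rw [mul_inv_eq_iff_eq_mul] at hyb
      have : x ^ j * b * a' = b * x ^ j * a' := by
        calc x ^ j * b * a' = x ^ j * a' * b := by rw [mul_assoc, ← e3, ← mul_assoc]
          _ = b * y := by rw [← hya']; exact hyb
          _ = b * x ^ j * a' := by rw [hya', mul_assoc]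
      exact mul_right_cancel this
    have h2 : Commute x b := by rw [hxpow]; exact hcomm.zpow_left t
    rw [h2.eq, mul_inv_cancel_right]
  refine le_antisymm (fun n hn => ?_) le_normalizer
  have hyA : ∃ s' : ℤ, n * y ^ s' ∈ A := by
    obtain ⟨_, ⟨i', rfl⟩, b, hb, rfl⟩ := mem_sup_of_normal_right.mp (htop ▸ mem_top n)
    refine ⟨-(t * i'), (QuotientGroup.eq_one_iff _).mp ?_⟩
    show φ (x ^ i' * b * y ^ (-(t * i'))) = 1
    rw [map_mul, map_mul, show φ b = 1 from (QuotientGroup.eq_one_iff b).mpr hb, mul_one, map_zpow φ y, hφy,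
      ← map_zpow, ← map_mul]
    have : x ^ i' * (x ^ j) ^ (-(t * i')) = 1 := by
      rw [zpow_neg, zpow_mul (x ^ j) t i', ← hxpow, mul_inv_cancel]
    rw [this, map_one]
  obtain ⟨s', hs'⟩ := hyA
  set b := n * y ^ s' with hb
  have hbN : b ∈ normalizer (H : Set G) := mul_mem hn (le_normalizer (zpow_mem hyH _))
  let f := commHom A y
  let B : Subgroup A := H.subgroupOf A
  have hfB : ∀ c ∈ B, f c ∈ B := fun c hc =>
    H.mul_mem (H.mul_mem (H.mul_mem hyH hc) (H.inv_mem hyH)) (H.inv_mem hc)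
  have hfinj : Function.Injective f := by
    rw [← MonoidHom.ker_eq_bot_iff, eq_bot_iff]
    intro c hc
    have h1 : y * (c : G) * y⁻¹ * (c : G)⁻¹ = 1 := congrArg Subtype.val (MonoidHom.mem_ker.mp hc)
    exact mem_bot.mpr (Subtype.ext (hfy c c.2 (mul_inv_eq_one.mp h1)))
  let fB : B → B := fun c => ⟨f c, hfB c c.2⟩
  have hfBsurj : Function.Surjective fB :=
    Finite.injective_iff_surjective.mp fun c d h => Subtype.ext (hfinj (congrArg Subtype.val h))
  have hfb : f ⟨b, hs'⟩ ∈ B := by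
    have h1 : b * y⁻¹ * b⁻¹ ∈ H := (Subgroup.mem_normalizer_iff.mp hbN y⁻¹).mp (inv_mem hyH)
    show y * b * y⁻¹ * b⁻¹ ∈ H
    rw [show y * b * y⁻¹ * b⁻¹ = y * (b * y⁻¹ * b⁻¹) by group]
    exact mul_mem hyH h1
  obtain ⟨c, hc⟩ := hfBsurj ⟨_, hfb⟩
  have hbH : b ∈ H := by
    have h2 : ((c : A) : G) = b := congrArg Subtype.val (hfinj (congrArg Subtype.val hc))
    rw [← h2]; exact c.2
  have : n = b * (y ^ s')⁻¹ := by rw [hb, mul_inv_cancel_right]
  rw [this]
  exact mul_mem hbH (inv_mem (zpow_mem hyH _))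

theorem forward [Group.IsSolvable G] (hnn : ¬ Group.IsNilpotent G)
    (h : ∀ H : Subgroup G, ¬ IsMulCommutative H → normalizer (H : Set G) = H) :
    ∃ (x : G) (A : Subgroup G) (p : ℕ), p.Prime ∧ A.Normal ∧ IsMulCommutative A ∧ (∃ k : ℕ, orderOf x = p ^ k) ∧
      ¬ p ∣ Nat.card A ∧ (zpowers x).IsComplement' A ∧ x ^ p ∈ center G ∧
      ∀ a : G, a ∈ A → a ≠ 1 → x * a * x⁻¹ ≠ a := by
  classical
  haveI : Nontrivial G := not_subsingleton_iff_nontrivial.mp fun hs => hnn inferInstance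
  obtain ⟨M, hM, hGM⟩ := (IsCoatomic.eq_top_or_exists_le_coatom (commutator G)).resolve_left
    (IsSolvable.commutator_lt_top_of_nontrivial (G := G)).ne
  haveI hMn : M.Normal := Subgroup.Normal.mk fun n hn g => by
    have h1 : g * n * g⁻¹ * n⁻¹ ∈ M :=
      hGM (by rw [_root_.commutator_def]; exact commutator_mem_commutator (mem_top g) (mem_top n))
    have := M.mul_mem h1 hn
    simpa using this
  haveI hMab : IsMulCommutative M := by
    by_contra hna
    exact hM.1 ((h M hna).symm.trans (normalizer_eq_top M))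
  haveI : Nontrivial (G ⧸ M) := QuotientGroup.nontrivial_iff.mpr hM.1
  obtain ⟨p, hp, hpd⟩ := Nat.exists_prime_and_dvd (Finite.one_lt_card (α := G ⧸ M)).ne'
  haveI : Fact p.Prime := ⟨hp⟩
  obtain ⟨z, hz⟩ := exists_prime_orderOf_dvd_card' p hpd
  have hztop : zpowers z = ⊤ := by
    have h1 : M < (zpowers z).comap (QuotientGroup.mk' M) := by
      refine lt_of_le_of_ne (fun m hm => ?_) fun he => ?_
      · show QuotientGroup.mk' M m ∈ zpowers z
        rw [show QuotientGroup.mk' M m = 1 from (QuotientGroup.eq_one_iff m).mpr hm]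
        exact one_mem _
      · obtain ⟨g, rfl⟩ := QuotientGroup.mk'_surjective M z
        have hgM : g ∈ M := by rw [he]; exact mem_zpowers _
        rw [show QuotientGroup.mk' M g = 1 from (QuotientGroup.eq_one_iff g).mpr hgM, orderOf_one] at hz
        exact hp.one_lt.ne hz
    have := congrArg (Subgroup.map (QuotientGroup.mk' M)) (hM.2 _ h1)
    rwa [map_comap_eq_self_of_surjective (QuotientGroup.mk'_surjective M),
      map_top_of_surjective _ (QuotientGroup.mk'_surjective M)] at this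
  have hindex : M.index = p := by
    rw [Subgroup.index_eq_card, ← Subgroup.card_top, ← hztop, Nat.card_zpowers, hz]
  set n := Nat.card M with hn
  set v := n.factorization p with hv
  set d := n / p ^ v with hd
  have hn0 : n ≠ 0 := Nat.card_pos.ne'
  have hpd' : ¬ p ∣ d := Nat.not_dvd_ordCompl hp hn0
  have hnd : p ^ v * d = n := Nat.ordProj_mul_ordCompl_eq_self n p
  let A : Subgroup G :=
    { carrier := {g | g ∈ M ∧ g ^ d = 1}
      one_mem' := ⟨M.one_mem, one_pow _⟩
      mul_mem' := fun {a b} ha hb => ⟨M.mul_mem ha.1 hb.1, by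
        have hc : Commute a b :=
          congrArg Subtype.val ((IsMulCommutative.is_comm (M := M)).comm ⟨a, ha.1⟩ ⟨b, hb.1⟩)
        rw [hc.mul_pow, ha.2, hb.2, one_mul]⟩
      inv_mem' := fun {a} ha => ⟨M.inv_mem ha.1, by rw [inv_pow, ha.2, inv_one]⟩ }
  haveI hAn : A.Normal := Subgroup.Normal.mk fun a ha g => ⟨hMn.conj_mem a ha.1 g, by rw [conj_pow, ha.2]; group⟩
  have hAM : A ≤ M := fun a ha => ha.1
  haveI hAab : IsMulCommutative A := ⟨⟨fun a b => Subtype.ext
    (show (a : G) * (b : G) = (b : G) * (a : G) from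
      congrArg (fun u : M => (u : G))
        ((IsMulCommutative.is_comm (M := M)).comm ⟨(a : G), hAM a.2⟩ ⟨(b : G), hAM b.2⟩))⟩⟩
  have hAp : ¬ p ∣ Nat.card A := by
    intro hd'
    obtain ⟨a, ha⟩ := exists_prime_orderOf_dvd_card' p hd'
    refine hpd' (ha ▸ ?_)
    rw [← Subgroup.orderOf_coe]
    exact orderOf_dvd_of_pow_eq_one a.2.2
  have hgA : ∀ g : G, g ^ p ^ (v + 1) ∈ A := by
    intro g
    have hgp : g ^ p ∈ M := hindex ▸ Subgroup.pow_index_mem M g
    rw [pow_succ', pow_mul]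
    refine ⟨pow_mem hgp _, ?_⟩
    rw [← pow_mul, hnd]
    exact congrArg Subtype.val (pow_card_eq_one' (x := (⟨g ^ p, hgp⟩ : M)))
  obtain ⟨g0, hg0⟩ := SetLike.exists_of_lt (lt_top_iff_ne_top.mpr hM.1)
  set x := g0 ^ d with hx
  have hxM : x ∉ M := by
    intro hxM
    have h1 : g0 ^ p ∈ M := hindex ▸ Subgroup.pow_index_mem M g0
    obtain ⟨s, t, hst⟩ : IsCoprime (p : ℤ) (d : ℤ) :=
      Nat.isCoprime_iff_coprime.mpr (hp.coprime_iff_not_dvd.mpr hpd')
    refine hg0.2 ?_
    have : g0 = (g0 ^ p) ^ s * (g0 ^ d) ^ t := by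
      conv_lhs => rw [← zpow_one g0, ← hst]
      rw [zpow_add, mul_comm s, mul_comm t, zpow_mul, zpow_mul, zpow_natCast, zpow_natCast]
    rw [this]
    exact mul_mem (zpow_mem h1 s) (zpow_mem hxM t)
  obtain ⟨k, -, hk⟩ : ∃ k ≤ v + 1, orderOf x = p ^ k :=
    (Nat.dvd_prime_pow hp).mp (orderOf_dvd_of_pow_eq_one (by
      rw [hx, ← pow_mul, mul_comm, pow_mul]; exact (hgA g0).2))
  set f := commHom A x with hf
  have hAnc : ∃ a ∈ A, x * a * x⁻¹ ≠ a := by
    by_contra hcon
    push Not at hcon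
    refine hnn ?_
    have hAc : A ≤ center G := by
      intro a ha
      refine mem_center_iff.mpr fun g => ?_
      obtain ⟨i, hi⟩ := mem_zpowers_iff.mp
        (hztop ▸ mem_top (g : G ⧸ M) : (g : G ⧸ M) ∈ zpowers z)
      have hxz : ∃ e : ℤ, z = (x : G ⧸ M) ^ e := by
        have h1 : zpowers (x : G ⧸ M) = ⊤ := Subgroup.eq_top_of_card_eq _ (by
          rw [Nat.card_zpowers, ← Subgroup.index_eq_card, hindex]
          refine orderOf_eq_prime (by
            rw [← hindex, Subgroup.index_eq_card]; exact pow_card_eq_one') ?_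
          exact fun he => hxM ((QuotientGroup.eq_one_iff x).mp he))
        obtain ⟨e, he⟩ := mem_zpowers_iff.mp (h1 ▸ mem_top z)
        exact ⟨e, he.symm⟩
      obtain ⟨e, he⟩ := hxz
      have hm : (x ^ (e * i))⁻¹ * g ∈ M := by
        rw [← QuotientGroup.eq, QuotientGroup.mk_zpow, zpow_mul, ← he, hi]
      have c1 : Commute ((x ^ (e * i))⁻¹ * g) a :=
        congrArg Subtype.val ((IsMulCommutative.is_comm (M := M)).comm ⟨_, hm⟩ ⟨a, hAM ha⟩)
      have c2 : Commute (x ^ (e * i)) a :=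
        Commute.zpow_left (mul_inv_eq_iff_eq_mul.mp (hcon a ha)) _
      have := c2.mul_left c1
      rwa [mul_inv_cancel_left] at this
    have hGA : IsPGroup p (G ⧸ A) := fun q => by
      induction q using QuotientGroup.induction_on with
      | H g => exact ⟨v + 1, by rw [← QuotientGroup.mk_pow, QuotientGroup.eq_one_iff]; exact hgA g⟩
    haveI := hGA.isNilpotent
    exact Subgroup.isNilpotent_of_ker_le_center (QuotientGroup.mk' A) (by rwa [QuotientGroup.ker_mk'])
  -- `f` is onto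
  have hfsurj : Function.Surjective f := by
    set B := f.range.map A.subtype with hB
    have hBA : B ≤ A := map_subtype_le _
    set K := zpowers x ⊔ B with hK
    have hxK : x ∈ K := mem_sup_left (mem_zpowers x)
    have hfB : ∀ a (ha : a ∈ A), x * a * x⁻¹ * a⁻¹ ∈ B := fun a ha =>
      ⟨f ⟨a, ha⟩, ⟨⟨a, ha⟩, rfl⟩, rfl⟩
    have hKna : ¬ IsMulCommutative K := by
      intro hKab
      obtain ⟨a, ha, hane⟩ := hAnc
      set b := x * a * x⁻¹ * a⁻¹ with hb
      have hbA : b ∈ A := hBA (hfB a ha)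
      have hxb : Commute x b := congrArg Subtype.val ((IsMulCommutative.is_comm (M := K)).comm
        ⟨x, hxK⟩ ⟨b, mem_sup_right (hfB a ha)⟩)
      have hpow : ∀ m : ℕ, x ^ m * a * (x ^ m)⁻¹ = b ^ m * a := by
        intro m
        induction m with
        | zero => simp
        | succ m ih =>
          calc x ^ (m + 1) * a * (x ^ (m + 1))⁻¹ = x * (x ^ m * a * (x ^ m)⁻¹) * x⁻¹ := by
                rw [pow_succ']; group
            _ = x * b ^ m * (x⁻¹ * (b * a)) := by rw [ih, hb]; group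
            _ = b ^ (m + 1) * a := by
                rw [(hxb.pow_right m).eq, pow_succ]; group
      have h1 := hpow (p ^ k)
      rw [← hk, pow_orderOf_eq_one] at h1
      have h2 : b ^ p ^ k = 1 := by simpa [hk] using h1.symm
      have hb1 : b = 1 := by
        refine orderOf_eq_one_iff.mp (Nat.eq_one_of_dvd_coprimes ?_ (orderOf_dvd_of_pow_eq_one h2)
          (orderOf_dvd_of_pow_eq_one hbA.2))
        exact ((hp.coprime_iff_not_dvd.mpr hpd').pow_left k)
      exact hane (mul_inv_eq_one.mp hb1)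
    have hnorm : zpowers x ⊔ A ≤ normalizer (K : Set G) := by
      refine sup_le ((zpowers_le.mpr hxK).trans le_normalizer) fun a ha => ?_
      have key : ∀ a ∈ A, ∀ g ∈ K, a * g * a⁻¹ ∈ K := by
        intro a ha
        suffices K ≤ K.comap (MulAut.conj a).toMonoidHom from fun g hg => this hg
        refine sup_le (zpowers_le.mpr ?_) fun b hb => ?_
        · show a * x * a⁻¹ ∈ K
          have : a * x * a⁻¹ = (x * a * x⁻¹ * a⁻¹)⁻¹ * x := by group
          rw [this]
          exact mul_mem (inv_mem (mem_sup_right (hfB a ha))) hxK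
        · show a * b * a⁻¹ ∈ K
          have : a * b = b * a :=
            congrArg Subtype.val ((IsMulCommutative.is_comm (M := A)).comm ⟨a, ha⟩ ⟨b, hBA hb⟩)
          rw [this, mul_inv_cancel_right]
          exact mem_sup_right hb
      rw [Subgroup.mem_normalizer_iff]
      exact fun g => ⟨key a ha g, fun hg => by simpa [mul_assoc] using key a⁻¹ (inv_mem ha) _ hg⟩
    rw [h K hKna] at hnorm
    intro a
    obtain ⟨u, hu, b, hb, he⟩ : ∃ u ∈ zpowers x, ∃ b ∈ B, u * b = (a : G) := by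
      have hBn : zpowers x ≤ normalizer (B : Set G) := by
        refine zpowers_le.mpr ?_
        rw [Subgroup.mem_normalizer_iff]
        have key : ∀ b ∈ B, x * b * x⁻¹ ∈ B := fun b hb => by
          have := B.mul_mem (hfB b (hBA hb)) hb
          simpa using this
        intro b
        refine ⟨key b, fun hb => ?_⟩
        obtain ⟨m, hm⟩ : x⁻¹ ∈ Submonoid.powers x := by
          rw [mem_powers_iff_mem_zpowers]; exact inv_mem (mem_zpowers x)
        have key2 : ∀ m : ℕ, ∀ b ∈ B, x ^ m * b * (x ^ m)⁻¹ ∈ B := by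
          intro m
          induction m with
          | zero => simp
          | succ m ih =>
            intro b hb
            have := key _ (ih b hb)
            rw [pow_succ']
            simpa [mul_assoc] using this
        have := key2 m _ hb
        rw [show x ^ m = x⁻¹ from hm] at this
        simpa [mul_assoc] using this
      have := hnorm (mem_sup_right a.2)
      rw [hK, ← SetLike.mem_coe, coe_mul_of_left_le_normalizer_right _ _ hBn] at this
      exact Set.mem_mul.mp this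
    have huA : u ∈ A := by
      rw [eq_mul_inv_of_mul_eq he]
      exact A.mul_mem a.2 (A.inv_mem (hBA hb))
    have hu1 : u = 1 := by
      obtain ⟨j, hj⟩ := mem_zpowers_iff.mp hu
      refine orderOf_eq_one_iff.mp (Nat.eq_one_of_dvd_coprimes ((hp.coprime_iff_not_dvd.mpr hpd').pow_left k)
        (hk ▸ orderOf_dvd_of_mem_zpowers hu) (orderOf_dvd_of_pow_eq_one huA.2))
    rw [hu1, one_mul] at he
    obtain ⟨c, ⟨a0, rfl⟩, hc⟩ := hb
    exact ⟨a0, Subtype.ext (hc.trans he)⟩
  have hfinj : Function.Injective f := Finite.injective_iff_surjective.mpr hfsurj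
  have hfpf : ∀ a : G, a ∈ A → a ≠ 1 → x * a * x⁻¹ ≠ a := by
    intro a ha hne he
    refine hne (congrArg Subtype.val (hfinj (a₁ := (⟨a, ha⟩ : A)) (a₂ := 1) ?_))
    rw [map_one]
    exact Subtype.ext (mul_inv_eq_one.mpr he)
  have hKtop : zpowers x ⊔ A = ⊤ := by
    have hna : ¬ IsMulCommutative ↥(zpowers x ⊔ A) := by
      intro hab
      obtain ⟨a, ha, hane⟩ := hAnc
      have := congrArg Subtype.val ((IsMulCommutative.is_comm (M := ↥(zpowers x ⊔ A))).comm
        ⟨x, mem_sup_left (mem_zpowers x)⟩ ⟨a, mem_sup_right ha⟩)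
      exact hane (mul_inv_eq_iff_eq_mul.mpr this)
    by_contra hne
    set φ := QuotientGroup.mk' A
    have hGA : IsPGroup p (G ⧸ A) := fun q => by
      induction q using QuotientGroup.induction_on with
      | H g => exact ⟨v + 1, by rw [← QuotientGroup.mk_pow, QuotientGroup.eq_one_iff]; exact hgA g⟩
    haveI := hGA.isNilpotent
    have hcm : (zpowers x ⊔ A) = ((zpowers x ⊔ A).map φ).comap φ :=
      (comap_map_eq_self (by rw [QuotientGroup.ker_mk']; exact le_sup_right)).symm
    have hlt : (zpowers x ⊔ A).map φ < ⊤ := lt_top_iff_ne_top.mpr fun he => hne (by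
      rw [hcm, he, comap_top])
    obtain ⟨q, hqN, hq⟩ := SetLike.exists_of_lt (normalizerCondition_of_isNilpotent (G := G ⧸ A) _ hlt)
    obtain ⟨g, rfl⟩ := QuotientGroup.mk'_surjective A q
    refine hq ⟨g, ?_, rfl⟩
    show g ∈ zpowers x ⊔ A
    rw [← h _ hna, Subgroup.mem_normalizer_iff]
    intro y
    rw [hcm, mem_comap, mem_comap, map_mul, map_mul, map_inv]
    exact Subgroup.mem_normalizer_iff.mp hqN (φ y)
  refine ⟨x, A, p, hp, hAn, hAab, ⟨k, hk⟩, hAp, ?_, ?_, hfpf⟩
  · refine isComplement'_of_disjoint_and_mul_eq_univ ?_ ?_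
    · rw [disjoint_iff, eq_bot_iff]
      rintro u ⟨hu, huA⟩
      exact mem_bot.mpr (orderOf_eq_one_iff.mp (Nat.eq_one_of_dvd_coprimes
        ((hp.coprime_iff_not_dvd.mpr hpd').pow_left k)
        (hk ▸ orderOf_dvd_of_mem_zpowers hu) (orderOf_dvd_of_pow_eq_one huA.2)))
    · rw [← Subgroup.mul_normal, hKtop, coe_top]
  · refine mem_center_iff.mpr fun g => ?_
    obtain ⟨_, ⟨i, rfl⟩, a, ha, rfl⟩ := mem_sup_of_normal_right.mp (hKtop ▸ mem_top g)
    have hxp : x ^ p ∈ M := hindex ▸ Subgroup.pow_index_mem M x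
    have c1 : Commute (x ^ p) a :=
      congrArg Subtype.val ((IsMulCommutative.is_comm (M := M)).comm ⟨_, hxp⟩ ⟨a, hAM ha⟩)
    exact (((Commute.refl x).pow_left p).zpow_right i).mul_right c1 |>.symm


/-- Let G be a finite solvable non-nilpotent group. Every non-abelian subgroup of G is self-normalizing if and only if G is a semidirect product ⟨x⟩ ⋉ A in which ⟨x⟩ is a p-group for some prime p, A is a normal abelian subgroup of order prime to p, x^p is central in G, and x acts fixed-point-freely on A (no non-identity element of A commutes with x). -/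
theorem result {G : Type*} [Group G] [Finite G]
    [Group.IsSolvable G] (hnn : ¬ Group.IsNilpotent G) :
    (∀ H : Subgroup G, ¬ IsMulCommutative H → Subgroup.normalizer (H : Set G) = H) ↔
    ∃ (x : G) (A : Subgroup G) (p : ℕ), p.Prime ∧ A.Normal ∧ IsMulCommutative A ∧ (∃ k : ℕ, orderOf x = p ^ k) ∧
      ¬ p ∣ Nat.card A ∧ (Subgroup.zpowers x).IsComplement' A ∧ x ^ p ∈ Subgroup.center G ∧
      ∀ a : G, a ∈ A → a ≠ 1 → x * a * x⁻¹ ≠ a := by
  refine ⟨forward hnn, ?_⟩
  rintro ⟨x, A, p, hp, hAn, hAc, hx, hA, hcompl, hc, hfpf⟩ H hH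
  haveI := hAn
  haveI := hAc
  exact backward hp hx hA hcompl hc hfpf hH

end Cfsg.Agent.S4071
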