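import Cfsg.Statements.S4072
import Cfsg.Agent.PGroups.Basic

set_option autoImplicit false
open Cfsg

namespace Cfsg.Agent.S4072
open Subgroup
open scoped commutatorElement

section Helpers

variable {G : Type*} [Group G]

/-- In a finite nonabelian `p`-group all whose maximal subgroups are abelian the derived subgroup
has order dividing `p`. -/
theorem card_commutator_dvd {P : Type*} [Group P] [Finite P] {p : ℕ} [Fact p.Prime]
    (hP : IsPGroup p P) (hna : ¬ IsMulCommutative P)
    (hco : ∀ A : Subgroup P, IsCoatom A → IsMulCommutative A) :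
    Nat.card (commutator P) ∣ p := by
  have comm_quot : ∀ A : Subgroup P, IsCoatom A → commutator P ≤ A := by
    intro A hA
    have := PGroups.normal_of_isCoatom hP hA
    have : IsCyclic (P ⧸ A) := isCyclic_of_prime_card (p := p)
      (by rw [← index_eq_card, PGroups.index_eq_of_isCoatom hP hA])
    rw [_root_.commutator_def, Subgroup.commutator_le]
    intro g _ h _
    rw [← QuotientGroup.eq_one_iff, ← QuotientGroup.mk'_apply, map_commutatorElement,
      commutatorElement_eq_one_iff_mul_comm]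
    exact mul_comm' _ _
  obtain hbot | ⟨A, hA, -⟩ := eq_top_or_exists_le_coatom (⊥ : Subgroup P)
  · refine absurd (isMulCommutative_iff.mpr fun a b => ?_) hna
    have ha : a ∈ (⊥ : Subgroup P) := hbot ▸ mem_top a
    simp [mem_bot.mp ha]
  obtain ⟨y, hy⟩ : ∃ y, y ∉ A := by
    by_contra h
    push Not at h
    exact hA.1 (eq_top_iff.mpr fun x _ => h x)
  obtain hyt | ⟨B, hB, hyB⟩ := eq_top_or_exists_le_coatom (zpowers y)
  · refine absurd (isMulCommutative_iff.mpr fun a b => ?_) hna
    obtain ⟨i, rfl⟩ := mem_zpowers_iff.mp (hyt ▸ mem_top a)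
    obtain ⟨j, rfl⟩ := mem_zpowers_iff.mp (hyt ▸ mem_top b)
    exact zpow_mul_comm y i j
  have := PGroups.normal_of_isCoatom hP hA
  have := PGroups.normal_of_isCoatom hP hB
  have hyB' : y ∈ B := hyB (mem_zpowers y)
  have hAB : A ⊔ B = ⊤ := hA.2 _ (lt_of_le_of_ne le_sup_left fun h =>
    hy (h.symm.le (mem_sup_right hyB')))
  have hAc := isMulCommutative_iff.mp (hco A hA)
  have hBc := isMulCommutative_iff.mp (hco B hB)
  have hC : A ⊓ B ≤ center P := by
    intro c hc
    rw [mem_inf] at hc
    have h : A ⊔ B ≤ centralizer {c} := by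
      refine sup_le (fun a ha => mem_centralizer_singleton_iff.mpr ?_)
        (fun b hb => mem_centralizer_singleton_iff.mpr ?_)
      · exact congrArg Subtype.val (hAc ⟨a, ha⟩ ⟨c, hc.1⟩)
      · exact congrArg Subtype.val (hBc ⟨b, hb⟩ ⟨c, hc.2⟩)
    rw [hAB] at h
    exact mem_center_iff.mpr fun g => mem_centralizer_singleton_iff.mp (h (mem_top g))
  have hPC : ∀ a b : P, ⁅a, b⁆ ∈ A ⊓ B := fun a b =>
    le_inf (comm_quot A hA) (comm_quot B hB)
      (Subgroup.commutator_mem_commutator (mem_top a) (mem_top b))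
  let φ : ↥A →* P := MonoidHom.mk' (fun a => ⁅(a : P), y⁆) fun a b => by
    have h := mem_center_iff.mp (hC (hPC b y))
    show ⁅(a : P) * b, y⁆ = ⁅(a : P), y⁆ * ⁅(b : P), y⁆
    rw [h ⁅(a : P), y⁆]
    calc ⁅(a : P) * b, y⁆ = (a : P) * ⁅(b : P), y⁆ * (a : P)⁻¹ * ⁅(a : P), y⁆ := by
          simp only [commutatorElement_def]; group
      _ = _ := by rw [h (a : P)]; group
  have hIC : φ.range ≤ A ⊓ B := by rintro _ ⟨a, rfl⟩; exact hPC a y
  have : φ.range.Normal := ⟨fun n hn g => by
    rw [mem_center_iff.mp (hC (hIC hn)) g, mul_inv_cancel_right]; exact hn⟩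
  have hdvd : Nat.card φ.range ∣ p := by
    rw [← Subgroup.index_ker]
    refine (Subgroup.index_dvd_of_le (H := (A ⊓ B).subgroupOf A) ?_).trans ?_
    · intro a ha
      rw [mem_subgroupOf] at ha
      refine MonoidHom.mem_ker.mpr ?_
      show ⁅(a : P), y⁆ = 1
      exact commutatorElement_eq_one_iff_mul_comm.mpr (mem_center_iff.mp (hC ha) y).symm
    · show (A ⊓ B).relIndex A ∣ p
      rw [inf_relIndex_left, ← PGroups.index_eq_of_isCoatom hP hB]
      exact relIndex_dvd_index_of_normal _ _
  refine (card_dvd_of_le ?_).trans hdvd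
  let π := QuotientGroup.mk' φ.range
  have hgen : ∀ D : Subgroup P, A ≤ D → y ∈ D → D = ⊤ := fun D h1 h2 =>
    hA.2 _ (lt_of_le_of_ne h1 fun h => hy (h.symm.le h2))
  have hay : ∀ a ∈ A, π a * π y = π y * π a := by
    intro a ha
    rw [← commutatorElement_eq_one_iff_mul_comm, ← map_commutatorElement]
    exact (QuotientGroup.eq_one_iff _).mpr (⟨⟨a, ha⟩, rfl⟩ : ⁅a, y⁆ ∈ φ.range)
  have hyc : π y ∈ center (P ⧸ φ.range) := by
    have h := hgen ((centralizer {π y}).comap π)
      (fun a ha => mem_centralizer_singleton_iff.mpr (hay a ha))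
      (mem_centralizer_singleton_iff.mpr rfl)
    refine mem_center_iff.mpr fun g => ?_
    obtain ⟨g, rfl⟩ := QuotientGroup.mk'_surjective φ.range g
    exact mem_centralizer_singleton_iff.mp (h.symm.le (mem_top g) : π g ∈ _)
  have hAcen : ∀ a ∈ A, π a ∈ center (P ⧸ φ.range) := by
    intro a ha
    have h := hgen ((centralizer {π a}).comap π)
      (fun b hb => mem_centralizer_singleton_iff.mpr (by
        rw [← map_mul, ← map_mul]; exact congrArg π (congrArg Subtype.val (hAc ⟨b, hb⟩ ⟨a, ha⟩))))
      (mem_centralizer_singleton_iff.mpr (hay a ha).symm)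
    refine mem_center_iff.mpr fun g => ?_
    obtain ⟨g, rfl⟩ := QuotientGroup.mk'_surjective φ.range g
    exact mem_centralizer_singleton_iff.mp (h.symm.le (mem_top g) : π g ∈ _)
  have hall := hgen ((center (P ⧸ φ.range)).comap π) hAcen hyc
  rw [_root_.commutator_def, Subgroup.commutator_le]
  intro g _ h _
  rw [← QuotientGroup.eq_one_iff, ← QuotientGroup.mk'_apply, map_commutatorElement,
    commutatorElement_eq_one_iff_mul_comm]
  exact mem_center_iff.mp (hall.symm.le (mem_top h) : π h ∈ _) (π g)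

theorem solvable_of_abelian_normal (K : Subgroup G) [K.Normal] [IsMulCommutative K]
    (hq : Group.IsSolvable (G ⧸ K)) : Group.IsSolvable G := by
  have : Group.IsSolvable K := Group.isSolvable_of_comm mul_comm'
  exact Group.isSolvable_of_ker_le_range K.subtype (QuotientGroup.mk' K) (by simp)

theorem sylow_image_cyclic [Finite G]
    (hS : ∀ H : Subgroup G, ¬ IsMulCommutative H → Subgroup.normalizer (H : Set G) = H)
    (M : Subgroup G) [M.Normal] (hC : centralizer (M : Set G) ≤ M) {q : ℕ} [Fact q.Prime]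
    (Q : Sylow q G) : IsCyclic ↥((Q : Subgroup G).map (QuotientGroup.mk' M)) := by
  let f : ↥(Q : Subgroup G) →* G ⧸ M := (QuotientGroup.mk' M).comp (Q : Subgroup G).subtype
  have hfr : f.range = (Q : Subgroup G).map (QuotientGroup.mk' M) := by
    rw [MonoidHom.range_eq_map, ← map_map, ← MonoidHom.range_eq_map, range_subtype]
  have hfk : f.ker = M.subgroupOf (Q : Subgroup G) := by
    rw [← MonoidHom.comap_ker, QuotientGroup.ker_mk']; rfl
  rw [← hfr]
  obtain htop | ⟨P0, hP0, hle⟩ := eq_top_or_exists_le_coatom f.ker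
  · have : Subsingleton f.range := by
      refine (Nat.card_eq_one_iff_unique.mp ?_).1
      rw [← index_ker, htop, index_top]
    infer_instance
  have hP0n := PGroups.normal_of_isCoatom Q.isPGroup' hP0
  suffices h : P0 ≤ f.ker by
    refine isCyclic_of_prime_card (p := q) ?_
    rw [← index_ker, le_antisymm hle h, PGroups.index_eq_of_isCoatom Q.isPGroup' hP0]
  set P0' := P0.map (Q : Subgroup G).subtype with hP0'
  have hsub : P0' ≤ (Q : Subgroup G) := map_subtype_le P0
  have hQn : (Q : Subgroup G) ≤ normalizer (P0' : Set G) := by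
    rw [← normal_subgroupOf_iff_le_normalizer hsub]
    rwa [hP0', subgroupOf, comap_map_eq_self_of_injective (Q : Subgroup G).subtype_injective]
  set K := M ⊔ P0' with hK
  have hQK : (Q : Subgroup G) ≤ normalizer (K : Set G) := by
    intro g hg
    have e1 : P0'.map (MulAut.conj g).toMonoidHom = P0' :=
      mem_normalizer_iff_map_conj_eq.mp (hQn hg)
    refine mem_normalizer_iff_map_conj_eq.mpr ?_
    show K.map (MulAut.conj g).toMonoidHom = K
    rw [hK, Subgroup.map_sup, e1]
    congr 1
    exact mem_normalizer_iff_map_conj_eq.mp (normalizer_eq_top M ▸ mem_top g)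
  have hKne : ¬ (Q : Subgroup G) ≤ K := by
    intro h
    refine hP0.1 (eq_top_iff.mpr fun x _ => ?_)
    obtain ⟨m, hm, z, hz, hmz⟩ := mem_sup_of_normal_left.mp (h x.2)
    obtain ⟨z, hz0, rfl⟩ := hz
    have hm' : x * z⁻¹ ∈ f.ker := by
      rw [hfk, mem_subgroupOf]
      simpa [← hmz] using hm
    simpa using P0.mul_mem (hle hm') hz0
  have hKab : IsMulCommutative K := by
    by_contra h
    exact hKne ((hS K h) ▸ hQK)
  intro x hx
  rw [hfk, mem_subgroupOf]
  refine hC (mem_centralizer_iff.mpr fun m hm => ?_)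
  exact congrArg Subtype.val (mul_comm' (⟨m, mem_sup_left hm⟩ : K)
    ⟨x, mem_sup_right (mem_map_of_mem _ hx)⟩)

theorem central_case [Finite G]
    (hS : ∀ H : Subgroup G, ¬ IsMulCommutative H → Subgroup.normalizer (H : Set G) = H)
    (hperf : commutator G = ⊤) (M : Subgroup G) [M.Normal] [IsSimpleGroup (G ⧸ M)]
    (hnc : ¬ IsMulCommutative (G ⧸ M)) (hM : M ≤ center G) (hM1 : M ≠ ⊥) : False := by
  obtain ⟨p, hp, hpd⟩ := Nat.exists_prime_and_dvd (fun h => hM1 (card_eq_one.mp h))
  have := Fact.mk hp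
  obtain ⟨z, hz⟩ := exists_prime_orderOf_dvd_card' p hpd
  have hz' : orderOf (z : G) = p := by rwa [orderOf_coe]
  have hzp : IsPGroup p (zpowers (z : G)) := IsPGroup.of_card (n := 1) (by
    rw [Nat.card_zpowers, hz', pow_one])
  obtain ⟨P, hP⟩ := hzp.exists_le_sylow
  have hzP : (z : G) ∈ (P : Subgroup G) := hP (mem_zpowers _)
  set zP : ↥(P : Subgroup G) := ⟨z, hzP⟩
  have hzd : zP ∈ commutator ↥(P : Subgroup G) := by
    let ϕ : ↥(P : Subgroup G) →* Abelianization ↥(P : Subgroup G) := Abelianization.of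
    have h1 : MonoidHom.transfer ϕ (z : G) = 1 :=
      Abelianization.commutator_subset_ker (MonoidHom.transfer ϕ) (hperf ▸ mem_top _)
    rw [MonoidHom.transfer_eq_pow ϕ (z : G) (fun k g₀ _ => by
      rw [mul_assoc, ← mem_center_iff.mp (pow_mem (hM z.2) k) g₀, inv_mul_cancel_left])] at h1
    have h2 : zP ^ (P : Subgroup G).index ∈ commutator ↥(P : Subgroup G) :=
      (QuotientGroup.eq_one_iff _).mp h1
    obtain ⟨m, hm⟩ := exists_pow_eq_self_of_coprime (x := zP) (n := (P : Subgroup G).index) (by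
      rw [← orderOf_coe, hz']
      exact (hp.coprime_iff_not_dvd.mpr P.not_dvd_index).symm)
    rw [← hm]
    exact pow_mem h2 m
  have hz1 : zP ≠ 1 := fun h => hp.ne_one (by
    rw [← hz', show (z : G) = (zP : G) from rfl, h, OneMemClass.coe_one, orderOf_one])
  have hPna : ¬ IsMulCommutative ↥(P : Subgroup G) := by
    intro h
    refine hz1 ?_
    have hb : commutator ↥(P : Subgroup G) ≤ ⊥ := by
      rw [_root_.commutator_def, Subgroup.commutator_le]
      intro a _ b _
      exact mem_bot.mpr (commutatorElement_eq_one_iff_mul_comm.mpr (mul_comm' a b))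
    exact mem_bot.mp (hb hzd)
  have hco : ∀ A : Subgroup ↥(P : Subgroup G), IsCoatom A → IsMulCommutative A := by
    intro A hA
    by_contra hAn
    have hAn' : ¬ IsMulCommutative ↥(A.map (P : Subgroup G).subtype) := fun h => hAn
      (isMulCommutative_iff.mpr fun a b => Subtype.ext (Subtype.ext (by
        simpa using congrArg Subtype.val
          (mul_comm' (⟨_, mem_map_of_mem _ a.2⟩ : ↥(A.map (P : Subgroup G).subtype))
            ⟨_, mem_map_of_mem _ b.2⟩))))
    have hn := hS _ hAn'
    have : (P : Subgroup G) ≤ A.map (P : Subgroup G).subtype := by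
      refine le_trans ?_ hn.le
      rw [← normal_subgroupOf_iff_le_normalizer (map_subtype_le A), subgroupOf,
        comap_map_eq_self_of_injective (P : Subgroup G).subtype_injective]
      exact PGroups.normal_of_isCoatom P.isPGroup' hA
    refine hA.1 (eq_top_iff.mpr fun x _ => ?_)
    obtain ⟨a, ha, hax⟩ := this x.2
    exact (Subtype.ext hax : a = x) ▸ ha
  have hd := card_commutator_dvd P.isPGroup' hPna hco
  have hzeq : zpowers zP = commutator ↥(P : Subgroup G) := by
    refine eq_of_le_of_card_ge (zpowers_le.mpr hzd) ?_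
    rw [Nat.card_zpowers, ← orderOf_coe, hz']
    exact Nat.le_of_dvd hp.pos hd
  have hsurj := QuotientGroup.mk'_surjective M
  set S := P.mapSurjective hsurj with hSdef
  have hScomm : ∀ a ∈ (S : Subgroup (G ⧸ M)), ∀ b ∈ (S : Subgroup (G ⧸ M)), a * b = b * a := by
    rintro _ ⟨a, ha, rfl⟩ _ ⟨b, hb, rfl⟩
    have hab : (⁅(⟨a, ha⟩ : ↥(P : Subgroup G)), ⟨b, hb⟩⁆) ∈ zpowers zP :=
      hzeq.symm.le (Subgroup.commutator_mem_commutator (mem_top _) (mem_top _))
    obtain ⟨i, hi⟩ := mem_zpowers_iff.mp hab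
    rw [← commutatorElement_eq_one_iff_mul_comm, ← map_commutatorElement]
    refine (QuotientGroup.eq_one_iff _).mpr ?_
    have hi' : (z : G) ^ i = ⁅a, b⁆ := congrArg Subtype.val hi
    rw [← hi']
    exact zpow_mem z.2 i
  have hJ : ¬ IsMulCommutative ↥((S : Subgroup (G ⧸ M)).comap (QuotientGroup.mk' M)) := fun h =>
    hPna (isMulCommutative_iff.mpr fun a b => Subtype.ext (by
      simpa using congrArg Subtype.val
        (mul_comm' (⟨a, ⟨a, a.2, rfl⟩⟩ : ↥((S : Subgroup (G ⧸ M)).comap (QuotientGroup.mk' M)))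
          ⟨b, ⟨b, b.2, rfl⟩⟩)))
  have hSn : Subgroup.normalizer (S : Set (G ⧸ M)) ≤ centralizer (S : Set (G ⧸ M)) := by
    intro g hg
    have e := hS _ hJ
    rw [← comap_normalizer_eq_of_surjective _ hsurj] at e
    have hg' : g ∈ (S : Subgroup (G ⧸ M)) := by
      obtain ⟨x, rfl⟩ := hsurj g
      exact e.le hg
    exact mem_centralizer_iff.mpr fun h hh => hScomm h hh g hg'
  have hcompl := MonoidHom.ker_transferSylow_isComplement' S hSn
  rcases (MonoidHom.normal_ker (MonoidHom.transferSylow S hSn)).eq_bot_or_eq_top with h | h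
  · refine hnc (isMulCommutative_iff.mpr fun a b => (MonoidHom.ker_eq_bot_iff _).mp h ?_)
    rw [map_mul, map_mul]
    exact Subtype.ext (hScomm _ (Subtype.prop _) _ (Subtype.prop _))
  · rw [h] at hcompl
    have hS1 : (S : Subgroup (G ⧸ M)) = ⊥ := isComplement'_top_left.mp hcompl
    refine hPna (isMulCommutative_iff.mpr fun a b => Subtype.ext ?_)
    have ha : (a : G) ∈ M := (QuotientGroup.eq_one_iff _).mp (mem_bot.mp (hS1.le ⟨a, a.2, rfl⟩))
    exact (mem_center_iff.mp (hM ha) b).symm

end Helpers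

/-- A finite group in which every non-abelian subgroup is self-normalizing is solvable or simple. -/
theorem result {G : Type*} [Group G] [Finite G] (hS : ∀ H : Subgroup G, ¬ IsMulCommutative H → Subgroup.normalizer (H : Set G) = H) :
    Group.IsSolvable G ∨ IsSimpleGroup G := by
  classical
  by_cases hsol : Group.IsSolvable G
  · exact Or.inl hsol
  right
  have : Nontrivial G := not_subsingleton_iff_nontrivial.mp fun _ => hsol inferInstance
  have hab : ∀ H : Subgroup G, H.Normal → H ≠ ⊤ → IsMulCommutative H := by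
    intro H hH hne
    by_contra h
    exact hne ((hS H h).symm.trans (normalizer_eq_top H))
  refine ⟨fun N hN => ?_⟩
  by_contra hcon
  push Not at hcon
  obtain ⟨M, hNM, hMmax⟩ := Finite.exists_le_maximal (p := fun K : Subgroup G => K.Normal ∧ K ≠ ⊤)
    ⟨hN, hcon.2⟩
  obtain ⟨hMn, hMt⟩ := hMmax.prop
  have hM1 : M ≠ ⊥ := fun h => hcon.1 (le_bot_iff.mp (h ▸ hNM))
  have := hab M hMn hMt
  have hnsol : ¬ Group.IsSolvable (G ⧸ M) := fun h => hsol (solvable_of_abelian_normal M h)
  have hnc : ¬ IsMulCommutative (G ⧸ M) := fun h => hnsol (Group.isSolvable_of_comm mul_comm')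
  have : Nontrivial (G ⧸ M) := not_subsingleton_iff_nontrivial.mp fun _ => hnsol inferInstance
  have : IsSimpleGroup (G ⧸ M) := ⟨fun L hL => by
    by_cases hLt : L.comap (QuotientGroup.mk' M) = ⊤
    · right
      rw [← comap_top (QuotientGroup.mk' M)] at hLt
      exact comap_injective (QuotientGroup.mk'_surjective M) hLt
    · left
      have hle : M ≤ L.comap (QuotientGroup.mk' M) := fun m hm =>
        mem_comap.mpr (by rw [QuotientGroup.mk'_apply, (QuotientGroup.eq_one_iff m).mpr hm]; exact L.one_mem)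
      have he := le_antisymm (hMmax.le_of_ge ⟨hL.comap _, hLt⟩ hle) hle
      apply comap_injective (QuotientGroup.mk'_surjective M)
      rw [he, MonoidHom.comap_bot, QuotientGroup.ker_mk']⟩
  have hperf : commutator G = ⊤ := by
    by_contra h
    have := hab _ inferInstance h
    exact hsol (solvable_of_abelian_normal (commutator G) (Group.isSolvable_of_comm
      (G := Abelianization G) mul_comm))
  by_cases hCt : centralizer (M : Set G) = ⊤
  · exact central_case hS hperf M hnc (fun m hm => mem_center_iff.mpr fun g =>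
      (mem_centralizer_iff.mp (hCt ▸ mem_top g) m hm).symm) hM1
  · have hMC : M ≤ centralizer (M : Set G) := fun a ha => mem_centralizer_iff.mpr fun b hb =>
      congrArg Subtype.val (mul_comm' (⟨b, hb⟩ : M) ⟨a, ha⟩)
    have hC : centralizer (M : Set G) ≤ M := hMmax.le_of_ge ⟨inferInstance, hCt⟩ hMC
    have : IsZGroup (G ⧸ M) := ⟨fun q hq S => by
      have := Fact.mk hq
      obtain ⟨Q, rfl⟩ := Sylow.mapSurjective_surjective (QuotientGroup.mk'_surjective M) q S
      exact sylow_image_cyclic hS M hC Q⟩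
    exact hnsol inferInstance

end Cfsg.Agent.S4072
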