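import Cfsg.Statements.S5748
import Cfsg.Agent.H65.CT.PSL
import Cfsg.Agent.S4065

set_option autoImplicit false
open Cfsg

namespace Cfsg.Agent.S5748

open scoped MatrixGroups

/-- Commuting is transitive on the non-identity elements of `PSL(2, F)` in characteristic two. -/
theorem psl_two_ct {F : Type} [Field F] [Fintype F] [CharP F 2]
    (a b c : Matrix.ProjectiveSpecialLinearGroup (Fin 2) F) (hb : b ≠ 1)
    (hab : Commute a b) (hbc : Commute b c) : Commute a c := by
  have hz : ∀ z : SL(2, F), z ∈ Subgroup.center (SL(2, F)) → z = 1 := by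
    intro z hz
    obtain ⟨r, hr, hrz⟩ := Matrix.SpecialLinearGroup.mem_center_iff.1 hz
    rw [Fintype.card_fin] at hr
    have h1 : r = 1 := by
      have : (r - 1) ^ 2 = 0 := by
        have h2 : (2 : F) = 0 := CharTwo.two_eq_zero
        linear_combination hr + (1 - r) * h2
      exact sub_eq_zero.1 (pow_eq_zero_iff two_ne_zero |>.1 this)
    apply Subtype.ext
    rw [← hrz, h1]
    simp
  have hinj : Function.Injective (QuotientGroup.mk' (Subgroup.center (SL(2, F)))) := by
    rw [← MonoidHom.ker_eq_bot_iff, QuotientGroup.ker_mk', Subgroup.eq_bot_iff_forall]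
    exact hz
  obtain ⟨A, rfl⟩ := QuotientGroup.mk'_surjective _ a
  obtain ⟨B, rfl⟩ := QuotientGroup.mk'_surjective _ b
  obtain ⟨C, rfl⟩ := QuotientGroup.mk'_surjective _ c
  have h1 : A * B = B * A := hinj (by rw [map_mul, map_mul]; exact hab.eq)
  have h2 : C * B = B * C := hinj (by rw [map_mul, map_mul]; exact hbc.eq.symm)
  have hAC : A * C = C * A := by
    refine Subtype.ext (S4065.commute_of_commute (congrArg Subtype.val h1) (congrArg Subtype.val h2) ?_)
    by_contra h
    push Not at h
    obtain ⟨e1, e2, e3⟩ := h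
    apply hb
    rw [hz B]
    · exact map_one _
    rw [Matrix.SpecialLinearGroup.mem_center_iff]
    refine ⟨B.1 0 0, ?_, ?_⟩
    · have hd := B.2
      rw [Matrix.det_fin_two, e1, e2, ← e3] at hd
      rw [Fintype.card_fin, pow_two]
      linear_combination hd
    · ext i j
      fin_cases i <;> fin_cases j <;> simp [e1, e2, e3]
  have := congrArg (QuotientGroup.mk' (Subgroup.center (SL(2, F)))) hAC
  rwa [map_mul, map_mul] at this

/-- A finite non-abelian simple group in which commuting is a transitive relation on the non-identity elements (equivalently, every non-identity element has abelian centraliser) is isomorphic to PSL₂ over a field with 2^f elements for some f ≥ 2; conversely these groups have that property. -/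
theorem result {G : Type*} [Group G] [Finite G] [IsSimpleGroup G] (hG : ¬ IsMulCommutative G) :
    (∀ a b c : G, a ≠ 1 → b ≠ 1 → c ≠ 1 → Commute a b → Commute b c → Commute a c) ↔
    ∃ (F : Type) (_ : Field F) (_ : Fintype F) (f : ℕ), 2 ≤ f ∧ Fintype.card F = 2 ^ f ∧ Nonempty (G ≃* Matrix.ProjectiveSpecialLinearGroup (Fin 2) F) := by
  constructor
  · intro h
    obtain ⟨D⟩ := H65.CT.exists_setup hG h
    obtain ⟨F, hF, hF', f, hf, hc, -, -, ⟨e⟩⟩ := D.exists_equiv hG
    haveI : Finite (Matrix.ProjGenLinGroup (Fin 2) F) :=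
      Finite.of_surjective _ (Matrix.ProjGenLinGroup.mk_surjective)
    refine ⟨F, hF, hF', f, hf, hc, ⟨e.trans (MulEquiv.ofBijective
      (Matrix.ProjectiveSpecialLinearGroup.toPGL (n := Fin 2) (R := F))
      (Matrix.ProjectiveSpecialLinearGroup.toPGL_injective.bijective_of_nat_card_le ?_)).symm⟩⟩
    have hg : Nat.gcd 2 (Fintype.card F - 1) = 1 := by
      refine Nat.coprime_two_left.2 ?_
      rw [hc]
      exact Nat.Even.sub_odd Nat.one_le_two_pow (Nat.even_pow.2 ⟨even_two, by omega⟩) odd_one
    have h1 := Linear.card_PSL_two_mul (F := F)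
    rw [hg, one_mul] at h1
    rw [Linear.card_PGL_eq, Linear.card_SL_two, h1]
  · rintro ⟨F, hF, hF', f, hf, hc, ⟨e⟩⟩ a b c - hb - hab hbc
    haveI : Fact (Nat.Prime 2) := ⟨Nat.prime_two⟩
    haveI : CharP F 2 := charP_of_card_eq_prime_pow hc
    exact e.injective (by
      simp only [map_mul]
      exact psl_two_ct (e a) (e b) (e c) (fun h => hb (e.injective (h.trans (map_one e).symm)))
        (hab.map e.toMonoidHom) (hbc.map e.toMonoidHom))

end Cfsg.Agent.S5748
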