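import Cfsg.Statements.S4073
import Cfsg.Agent.H65.SelfNorm.Forward
import Cfsg.Agent.H65.SelfNorm.Converse
import Cfsg.Agent.S5748

set_option autoImplicit false
open Cfsg

namespace Cfsg.Agent.S4073

/-- In characteristic two `PSL(2, F)` maps isomorphically onto `PGL(2, F)`. -/
noncomputable def pslEquivPGL {F : Type} [Field F] [Fintype F] {n : ℕ} (hn : 2 ≤ n)
    (hc : Fintype.card F = 2 ^ n) :
    Matrix.ProjectiveSpecialLinearGroup (Fin 2) F ≃* Matrix.ProjGenLinGroup (Fin 2) F :=
  haveI : Finite (Matrix.ProjGenLinGroup (Fin 2) F) :=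
    Finite.of_surjective _ (Matrix.ProjGenLinGroup.mk_surjective)
  MulEquiv.ofBijective
    (Matrix.ProjectiveSpecialLinearGroup.toPGL (n := Fin 2) (R := F))
    (Matrix.ProjectiveSpecialLinearGroup.toPGL_injective.bijective_of_nat_card_le (by
      have hg : Nat.gcd 2 (Fintype.card F - 1) = 1 := by
        refine Nat.coprime_two_left.2 ?_
        rw [hc]
        exact Nat.Even.sub_odd Nat.one_le_two_pow (Nat.even_pow.2 ⟨even_two, by omega⟩) odd_one
      have h1 := Linear.card_PSL_two_mul (F := F)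
      rw [hg, one_mul] at h1
      rw [Linear.card_PGL_eq, Linear.card_SL_two, h1]))

/-- Let G be a finite non-abelian simple group. Every non-abelian subgroup of G is self-normalizing if and only if G is isomorphic to PSL₂(2ⁿ) for some n ≥ 2 with 2ⁿ − 1 prime (this includes the alternating group of degree 5 as PSL₂(4)). -/
theorem result {G : Type*} [Group G] [Finite G] [IsSimpleGroup G]
    (hna : ¬ IsMulCommutative G) :
    (∀ H : Subgroup G, ¬ IsMulCommutative H → Subgroup.normalizer (H : Set G) = H) ↔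
    ∃ n : ℕ, 2 ≤ n ∧ (2 ^ n - 1).Prime ∧ Nonempty (G ≃* Matrix.ProjectiveSpecialLinearGroup (Fin 2) (GaloisField 2 n)) := by
  constructor
  · intro h
    obtain ⟨F, hF, hF', f, hf, hc, hp, ⟨e⟩⟩ := H65.SelfNorm.SN.exists_equiv hna h
    haveI : Fact (Nat.Prime 2) := ⟨Nat.prime_two⟩
    haveI := Fintype.ofFinite (GaloisField 2 f)
    have hcG : Fintype.card (GaloisField 2 f) = 2 ^ f := by
      rw [← Nat.card_eq_fintype_card, GaloisField.card 2 f (by omega)]
    let r : F ≃+* GaloisField 2 f := FiniteField.ringEquivOfCardEq (hc.trans hcG.symm)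
    exact ⟨f, hf, hp, ⟨(e.trans (pslEquivPGL hf hc).symm).trans (H27.PermFamily.pslCongr r)⟩⟩
  · rintro ⟨n, hn, hp, ⟨e⟩⟩
    haveI : Fact (Nat.Prime 2) := ⟨Nat.prime_two⟩
    haveI := Fintype.ofFinite (GaloisField 2 n)
    have hcG : Fintype.card (GaloisField 2 n) = 2 ^ n := by
      rw [← Nat.card_eq_fintype_card, GaloisField.card 2 n (by omega)]
    have hct := (S5748.result hna).2 ⟨GaloisField 2 n, inferInstance, inferInstance, n, hn, hcG, ⟨e⟩⟩
    obtain ⟨D⟩ := H65.CT.exists_setup hna hct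
    obtain ⟨F, hF, hF', f, hf, hc, hA, hm, ⟨e'⟩⟩ := D.exists_equiv hna
    have hfn : f = n := by
      have h1 : Nat.card G = 2 ^ f * ((2 ^ f) ^ 2 - 1) := by
        rw [Nat.card_congr e'.toEquiv, Linear.card_PGL_eq, Linear.card_SL_two, hc]
      have h2 : Nat.card G = 2 ^ n * ((2 ^ n) ^ 2 - 1) := by
        rw [Nat.card_congr e.toEquiv, Nat.card_congr (pslEquivPGL hn hcG).toEquiv,
          Linear.card_PGL_eq, Linear.card_SL_two, hcG]
      refine Nat.pow_right_injective le_rfl ?_
      show 2 ^ f = 2 ^ n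
      have hmono : ∀ a b : ℕ, 1 ≤ a → a < b → a * (a ^ 2 - 1) < b * (b ^ 2 - 1) := by
        intro a b ha hab
        exact Nat.mul_lt_mul_of_lt_of_le hab
          (Nat.sub_le_sub_right (Nat.pow_le_pow_left hab.le 2) 1)
          (Nat.sub_pos_of_lt (Nat.one_lt_pow (by norm_num) (by omega)))
      rcases lt_trichotomy (2 ^ f) (2 ^ n) with h | h | h
      · exact absurd (h1.symm.trans h2) (hmono _ _ Nat.one_le_two_pow h).ne
      · exact h
      · exact absurd (h2.symm.trans h1) (hmono _ _ Nat.one_le_two_pow h).ne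
    subst hfn
    exact H65.SelfNorm.sn_of_equiv hna D hcG hn hp hm hA e

end Cfsg.Agent.S4073
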