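import Cfsg.Statements.S4074
import Mathlib

set_option autoImplicit false
open Cfsg

namespace Cfsg.Agent.S4074

/-- For n > 2, every non-abelian subgroup of the dihedral group of order 2n is self-normalizing if and only if n = 4 or n is odd. -/
theorem result (n : ℕ) (hn : 2 < n) :
    (∀ H : Subgroup (DihedralGroup n), ¬ IsMulCommutative H → Subgroup.normalizer (H : Set (DihedralGroup n)) = H) ↔
    (n = 4 ∨ Odd n) := by
  classical
  constructor
  · intro h
    by_contra hcon
    push Not at hcon
    obtain ⟨h4, hodd⟩ := hcon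
    have h2n : 2 ∣ n := even_iff_two_dvd.mp (Nat.not_odd_iff_even.mp hodd)
    let f : DihedralGroup n → ZMod 2 := fun g => match g with
      | DihedralGroup.r i => ZMod.castHom h2n (ZMod 2) i
      | DihedralGroup.sr i => ZMod.castHom h2n (ZMod 2) i
    have hneg : ∀ a : ZMod 2, -a = a := by decide
    have hf : ∀ a b, f (a * b) = f a + f b := by
      rintro (i | i) (j | j) <;>
        simp [f, DihedralGroup.r_mul_r, DihedralGroup.r_mul_sr, DihedralGroup.sr_mul_r,
          DihedralGroup.sr_mul_sr, sub_eq_add_neg, ZMod.cast_add h2n, ZMod.cast_neg h2n, hneg, add_comm]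
    let F : DihedralGroup n →* Multiplicative (ZMod 2) :=
      MonoidHom.mk' (fun g => Multiplicative.ofAdd (f g)) fun a b => by rw [hf, ofAdd_add]
    have hr2 : DihedralGroup.r (2 : ZMod n) ∈ F.ker := by
      show Multiplicative.ofAdd (f (DihedralGroup.r (2 : ZMod n))) = 1
      simp only [f, map_ofNat]
      decide
    have hs0 : DihedralGroup.sr (0 : ZMod n) ∈ F.ker := by
      show Multiplicative.ofAdd (f (DihedralGroup.sr (0 : ZMod n))) = 1
      simp only [f, map_zero]
      decide
    have hna : ¬ IsMulCommutative F.ker := by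
      intro hc
      have hc' := congrArg Subtype.val (hc.is_comm.comm ⟨_, hr2⟩ ⟨_, hs0⟩)
      simp only [Subgroup.coe_mul, DihedralGroup.r_mul_sr, DihedralGroup.sr_mul_r,
        DihedralGroup.sr.injEq] at hc'
      have h40 : ((4 : ℕ) : ZMod n) = 0 := by
        push_cast
        linear_combination -hc'
      have := Nat.le_of_dvd (by norm_num) ((ZMod.natCast_eq_zero_iff 4 n).mp h40)
      omega
    have htop := h F.ker hna
    rw [Subgroup.normalizer_eq_top] at htop
    have h1 : DihedralGroup.r (1 : ZMod n) ∈ F.ker := htop ▸ Subgroup.mem_top _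
    change Multiplicative.ofAdd (f (DihedralGroup.r (1 : ZMod n))) = 1 at h1
    simp only [f, map_one] at h1
    exact absurd h1 (by decide)
  · intro hn' H hna
    haveI : NeZero n := ⟨by omega⟩
    obtain ⟨j, hj⟩ : ∃ j, DihedralGroup.sr j ∈ H := by
      by_contra hcon
      push Not at hcon
      refine hna ⟨⟨?_⟩⟩
      rintro ⟨a | a, ha⟩ ⟨b | b, hb⟩
      · exact Subtype.ext (by simp [DihedralGroup.r_mul_r, add_comm])
      all_goals first | exact absurd hb (hcon _) | exact absurd ha (hcon _)
    obtain ⟨i, hi, hi2⟩ : ∃ i, DihedralGroup.r i ∈ H ∧ i + i ≠ 0 := by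
      by_contra hcon
      push Not at hcon
      refine hna ⟨⟨?_⟩⟩
      rintro ⟨a | a, ha⟩ ⟨b | b, hb⟩ <;> apply Subtype.ext <;>
        simp only [Subgroup.coe_mul, DihedralGroup.r_mul_r, DihedralGroup.r_mul_sr,
          DihedralGroup.sr_mul_r, DihedralGroup.sr_mul_sr, DihedralGroup.r.injEq,
          DihedralGroup.sr.injEq]
      · exact add_comm a b
      · linear_combination -(hcon a ha)
      · linear_combination (hcon b hb)
      · have hm := H.mul_mem ha hb
        rw [DihedralGroup.sr_mul_sr] at hm
        linear_combination (hcon _ hm)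
    have hpow : ∀ (x : ZMod n) (m : ℕ), DihedralGroup.r x ^ m = DihedralGroup.r ((m : ZMod n) * x) := by
      intro x m
      induction m with
      | zero => rw [pow_zero, Nat.cast_zero, zero_mul]; exact DihedralGroup.one_def
      | succ m ih => rw [pow_succ, ih, DihedralGroup.r_mul_r]; push_cast; ring_nf
    have hrot : ∀ k : ZMod n, DihedralGroup.r (k + k) ∈ H → DihedralGroup.r k ∈ H := by
      intro k hk
      rcases hn' with rfl | hodd
      · have key : ∀ a b : ZMod 4, a + a ≠ 0 → ∃ m : Fin 4, ((m : ℕ) : ZMod 4) * a = b := by decide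
        obtain ⟨m, hm⟩ := key i k hi2
        rw [← hm, ← hpow]
        exact pow_mem hi _
      · obtain ⟨t, ht⟩ := hodd
        have h1 : ((t + 1 : ℕ) : ZMod n) * (k + k) = k := by
          have h0 : ((2 * t + 1 : ℕ) : ZMod n) = 0 := by rw [← ht]; exact ZMod.natCast_self n
          push_cast at h0 ⊢
          linear_combination k * h0
        rw [← h1, ← hpow]
        exact pow_mem hk _
    refine le_antisymm (fun g hg => ?_) Subgroup.le_normalizer
    have hr : ∀ k : ZMod n, DihedralGroup.r k ∈ Subgroup.normalizer (H : Set (DihedralGroup n)) →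
        DihedralGroup.r k ∈ H := by
      intro k hk
      have hm := H.mul_mem ((Subgroup.mem_normalizer_iff.mp hk _).mp hj) hj
      simp only [DihedralGroup.r_mul_sr, DihedralGroup.inv_r, DihedralGroup.sr_mul_r,
        DihedralGroup.sr_mul_sr] at hm
      refine hrot k ?_
      convert hm using 2
      ring
    rcases g with k | l
    · exact hr k hg
    · have hm := hr (j - l) (by
        rw [← DihedralGroup.sr_mul_sr]; exact mul_mem hg (Subgroup.le_normalizer hj))
      have := H.mul_mem hj (H.inv_mem hm)
      simpa [DihedralGroup.inv_r, DihedralGroup.sr_mul_r] using this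

end Cfsg.Agent.S4074
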