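import Cfsg.Statements.S4075

set_option autoImplicit false
open Cfsg

namespace Cfsg.Agent.S4075

/-- Let G be a finite nilpotent group. Every non-abelian subgroup of G is self-normalizing if and only if G is abelian or G is a minimal non-abelian p-group for some prime p (non-abelian of prime-power order with every proper subgroup abelian). -/
theorem result {G : Type*} [Group G] [Finite G]
    [Group.IsNilpotent G] :
    (∀ H : Subgroup G, ¬ IsMulCommutative H → Subgroup.normalizer (H : Set G) = H) ↔
    (IsMulCommutative G ∨ (IsPrimePow (Nat.card G) ∧ ¬ IsMulCommutative G ∧ ∀ H : Subgroup G, H ≠ ⊤ → IsMulCommutative H)) := by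
  constructor
  · intro hS
    by_cases hG : IsMulCommutative G
    · exact Or.inl hG
    have hprop : ∀ H : Subgroup G, H ≠ ⊤ → IsMulCommutative H := by
      intro H hH
      by_contra hHn
      have := Group.normalizerCondition_of_isNilpotent (G := G) H (lt_top_iff_ne_top.mpr hH)
      rw [hS H hHn] at this
      exact lt_irrefl _ this
    refine Or.inr ⟨?_, hG, hprop⟩
    by_contra hpp
    refine hG (isMulCommutative_iff.mpr fun a b => ?_)
    have hcomm : ∀ (p : ℕ) [Fact p.Prime] (P : Sylow p G), IsMulCommutative ↥(P : Subgroup G) := by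
      intro p hp P
      refine hprop _ fun htop => hpp ?_
      obtain ⟨n, hn⟩ := IsPGroup.iff_card.mp P.isPGroup'
      rw [htop, Subgroup.card_top] at hn
      rcases Nat.eq_zero_or_pos n with rfl | hn0
      · exact absurd (isMulCommutative_iff.mpr fun a b => (Nat.card_eq_one_iff_unique.mp hn).1.elim _ _) hG
      · exact hn ▸ hp.out.isPrimePow.pow hn0.ne'
    obtain ⟨e⟩ : Nonempty ((∀ p : (Nat.card G).primeFactors, ∀ P : Sylow (p : ℕ) G, (P : Subgroup G)) ≃* G) :=
      ⟨Sylow.directProductOfNormal fun {p} hp P =>
        Sylow.normal_of_normalizerCondition (Group.normalizerCondition_of_isNilpotent (G := G)) P⟩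
    obtain ⟨x, rfl⟩ := e.surjective a
    obtain ⟨y, rfl⟩ := e.surjective b
    rw [← map_mul, ← map_mul]
    refine congrArg e (funext fun p => funext fun P => ?_)
    haveI : Fact (Nat.Prime (p : ℕ)) := ⟨Nat.prime_of_mem_primeFactors p.2⟩
    haveI := hcomm (p : ℕ) P
    exact mul_comm' _ _
  · rintro (hG | ⟨-, -, hprop⟩) H hH
    · exact absurd (isMulCommutative_iff.mpr fun a b => Subtype.ext (mul_comm' (a : G) b)) hH
    · by_cases hT : H = ⊤
      · subst hT; exact Subgroup.normalizer_eq_top _
      · exact absurd (hprop H hT) hH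

end Cfsg.Agent.S4075
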