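import Cfsg.Agent.PGroups.MaxClass
import Cfsg.Statements.S4143

set_option autoImplicit false
open Cfsg

namespace Cfsg.Agent.S4143

/-- Let X be a finite p-group of order p^n containing a non-abelian subgroup B of order p³ with C_X(B) ≤ B. Then X has nilpotency class n − 1 (maximal class). -/
theorem result {X : Type*} [Group X] [Finite X] {p : ℕ} [Fact p.Prime] (n : ℕ) (hX : Nat.card X = p ^ n)
    (B : Subgroup X) (hB : Nat.card B = p ^ 3) (hBna : ¬ IsMulCommutative B) (hC : Subgroup.centralizer (B : Set X) ≤ B) :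
    Group.nilpotencyClass X = n - 1 := by
  classical
  have hXp := IsPGroup.of_card hX
  have hp := (Fact.out : p.Prime)
  have hBn : Subgroup.center B ≠ ⊤ := by
    intro h
    exact hBna ⟨⟨fun a b => (Subgroup.mem_center_iff.mp (h ▸ Subgroup.mem_top b) a)⟩⟩
  obtain ⟨j, hj2, hj3, -, hzB⟩ := PGroups.card_quotient_center hB hBn
  have hZB : Nat.card (Subgroup.center B) = p := by rw [hzB, show 3 - j = 1 by omega, pow_one]
  have hn3 : 3 ≤ n := (Nat.pow_dvd_pow_iff_le_right hp.one_lt).mp
    (hB ▸ hX ▸ Subgroup.card_subgroup_dvd_card B)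
  have hcenB : Subgroup.center X ≤ B := (Subgroup.center_le_centralizer _).trans hC
  have : Nontrivial X := Finite.one_lt_card_iff_nontrivial.mp
    (hX ▸ Nat.one_lt_pow (by omega) hp.one_lt)
  have hZX : Nat.card (Subgroup.center X) = p := by
    have hle : Nat.card (Subgroup.center X) ≤ p := by
      rw [← hZB]
      exact Nat.card_le_card_of_injective
        (fun z : Subgroup.center X => (⟨⟨z, hcenB z.2⟩,
          Subgroup.mem_center_iff.mpr fun b => Subtype.ext (Subgroup.mem_center_iff.mp z.2 b)⟩ : Subgroup.center B))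
        (fun a b h => Subtype.ext (congrArg (fun t : Subgroup.center B => ((t : B) : X)) h :))
    have hne : Nat.card (Subgroup.center X) ≠ 1 := fun h =>
      hXp.bot_lt_center.ne' (Subgroup.eq_bot_of_card_eq _ h)
    obtain ⟨i, hi⟩ := IsPGroup.iff_card.mp (hXp.to_subgroup (Subgroup.center X))
    rcases i with _ | i
    · exact absurd (by simpa using hi) hne
    · refine le_antisymm hle ?_
      rw [hi]
      exact Nat.le_self_pow (Nat.succ_ne_zero i) p
  -- `B` is generated by two elements
  obtain ⟨x, hx, y, hy, hxy⟩ : ∃ x ∈ B, ∃ y ∈ B, x * y ≠ y * x := by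
    by_contra h
    push Not at h
    exact hBna ⟨⟨fun a b => Subtype.ext (h a a.2 b b.2)⟩⟩
  have hgen : Subgroup.closure ({x, y} : Set X) = B := by
    have hle : Subgroup.closure ({x, y} : Set X) ≤ B :=
      (Subgroup.closure_le B).mpr (Set.pair_subset hx hy)
    obtain ⟨i, hi⟩ := IsPGroup.iff_card.mp (hXp.to_subgroup (Subgroup.closure ({x, y} : Set X)))
    refine Subgroup.eq_of_le_of_card_ge hle ?_
    rw [hB, hi]
    refine Nat.pow_le_pow_right hp.pos ?_
    by_contra h3
    apply hxy
    have hc : IsMulCommutative (Subgroup.closure ({x, y} : Set X)) := by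
      rcases (show i = 0 ∨ i = 1 ∨ i = 2 by omega) with rfl | rfl | rfl
      · have : Subsingleton (Subgroup.closure ({x, y} : Set X)) :=
          Finite.card_le_one_iff_subsingleton.mp (by rw [hi, pow_zero])
        exact ⟨⟨fun _ _ => Subsingleton.elim _ _⟩⟩
      · rw [pow_one] at hi
        have := isCyclic_of_prime_card hi
        infer_instance
      · exact IsPGroup.isMulCommutative_of_card_eq_prime_sq hi
    exact congrArg Subtype.val (hc.is_comm.comm ⟨x, Subgroup.subset_closure (by simp)⟩
      ⟨y, Subgroup.subset_closure (by simp)⟩)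
  set q := QuotientGroup.mk' (Subgroup.center X) with hq
  set D := (Subgroup.centralizer ((B.map q : Subgroup (X ⧸ Subgroup.center X)) : Set (X ⧸ Subgroup.center X))).comap q with hD
  have hmem : ∀ g ∈ D, ∀ b ∈ B, g * b * g⁻¹ * b⁻¹ ∈ Subgroup.center X := by
    intro g hg b hb
    rw [← QuotientGroup.eq_one_iff]
    change q (g * b * g⁻¹ * b⁻¹) = 1
    have := Subgroup.mem_centralizer_iff.mp hg (q b) ⟨b, hb, rfl⟩
    rw [map_mul, map_mul, map_mul, map_inv, map_inv, ← this, mul_inv_cancel_right, mul_inv_cancel]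
  have hBD : B ≤ D := by
    intro g hg
    rw [hD, Subgroup.mem_comap, Subgroup.mem_centralizer_iff]
    rintro _ ⟨b, hb, rfl⟩
    -- the commutator lies in the centre of `B`, which is that of `X`
    rw [← map_mul, ← map_mul]
    change (QuotientGroup.mk (b * g) : X ⧸ Subgroup.center X) = QuotientGroup.mk (g * b)
    rw [QuotientGroup.eq]
    have hcc : ∀ u v : B, u⁻¹ * v⁻¹ * u * v ∈ Subgroup.center B := by
      intro u v
      have h1 : Nat.card (B ⧸ Subgroup.center B) = p ^ 2 := by
        have h2 := (Subgroup.center B).card_mul_index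
        rw [hZB, hB, Subgroup.index_eq_card] at h2
        rw [show p ^ 3 = p * p ^ 2 by ring] at h2
        exact Nat.eq_of_mul_eq_mul_left hp.pos h2
      have hab := IsPGroup.isMulCommutative_of_card_eq_prime_sq h1
      rw [← QuotientGroup.eq_one_iff]
      simp only [QuotientGroup.mk_mul, QuotientGroup.mk_inv]
      rw [hab.is_comm.comm ((u : B ⧸ Subgroup.center B))⁻¹ ((v : B ⧸ Subgroup.center B))⁻¹,
        inv_mul_cancel_right, inv_mul_cancel]
    have h3 := hcc ⟨g, hg⟩ ⟨b, hb⟩
    have h4 : (g⁻¹ * b⁻¹ * g * b) ∈ Subgroup.center X := by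
      have h5 : Subgroup.center B = (Subgroup.center X).subgroupOf B := by
        refine (Subgroup.eq_of_le_of_card_ge ?_ ?_).symm
        · exact fun z hz => Subgroup.mem_center_iff.mpr fun b => Subtype.ext
            (Subgroup.mem_center_iff.mp (Subgroup.mem_subgroupOf.mp hz) b)
        · rw [Nat.card_congr (Subgroup.subgroupOfEquivOfLe hcenB).toEquiv, hZX, hZB]
      rw [h5] at h3
      exact h3
    have : (b * g)⁻¹ * (g * b) = g⁻¹ * b⁻¹ * g * b := by group
    rw [this]
    exact h4
  have hDcard : Nat.card D ≤ p ^ 3 := by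
    let f : D → Subgroup.center X × Subgroup.center X := fun g =>
      (⟨_, hmem g g.2 x hx⟩, ⟨_, hmem g g.2 y hy⟩)
    have hker : ∀ g h : D, f g = f h → (g : X)⁻¹ * h ∈ Subgroup.center X := by
      intro g h he
      have e1 : (g : X) * x * (g : X)⁻¹ = (h : X) * x * (h : X)⁻¹ :=
        mul_right_cancel (congrArg (fun t => (t.1 : X)) he)
      have e2 : (g : X) * y * (g : X)⁻¹ = (h : X) * y * (h : X)⁻¹ :=
        mul_right_cancel (congrArg (fun t => (t.2 : X)) he)
      have hcB : (g : X)⁻¹ * h ∈ Subgroup.centralizer (B : Set X) := by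
        rw [← hgen, Subgroup.centralizer_closure, Subgroup.mem_centralizer_iff]
        rintro v (rfl | rfl)
        · calc v * ((g : X)⁻¹ * h) = (g : X)⁻¹ * ((g : X) * v * (g : X)⁻¹) * h := by group
            _ = (g : X)⁻¹ * h * v := by rw [e1]; group
        · calc v * ((g : X)⁻¹ * h) = (g : X)⁻¹ * ((g : X) * v * (g : X)⁻¹) * h := by group
            _ = (g : X)⁻¹ * h * v := by rw [e2]; group
      have h5 : Subgroup.center B = (Subgroup.center X).subgroupOf B := by
        refine (Subgroup.eq_of_le_of_card_ge ?_ ?_).symm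
        · exact fun z hz => Subgroup.mem_center_iff.mpr fun b => Subtype.ext
            (Subgroup.mem_center_iff.mp (Subgroup.mem_subgroupOf.mp hz) b)
        · rw [Nat.card_congr (Subgroup.subgroupOfEquivOfLe hcenB).toEquiv, hZX, hZB]
      have : (⟨_, hC hcB⟩ : B) ∈ Subgroup.center B :=
        Subgroup.mem_center_iff.mpr fun b => Subtype.ext (Subgroup.mem_centralizer_iff.mp hcB b b.2)
      rw [h5] at this
      exact this
    have hZD : Subgroup.center X ≤ D := hcenB.trans hBD
    have h1 : Nat.card (D ⧸ (Subgroup.center X).subgroupOf D) ≤ Nat.card (Subgroup.center X × Subgroup.center X) := by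
      refine Nat.card_le_card_of_injective (fun t => f t.out) fun t u he => ?_
      have h2 : (t.out)⁻¹ * u.out ∈ (Subgroup.center X).subgroupOf D := hker _ _ he
      rw [← QuotientGroup.eq, QuotientGroup.out_eq', QuotientGroup.out_eq'] at h2
      exact h2
    rw [← ((Subgroup.center X).subgroupOf D).card_mul_index, Subgroup.index_eq_card,
      Nat.card_congr (Subgroup.subgroupOfEquivOfLe hZD).toEquiv, hZX]
    rw [Nat.card_prod, hZX] at h1
    rw [show p ^ 3 = p * (p * p) by ring]
    exact Nat.mul_le_mul_left _ h1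
  have hDB : D = B := (Subgroup.eq_of_le_of_card_ge hBD (by rw [hB]; exact hDcard)).symm
  have hBcomap : (B.map q).comap q = B := by
    rw [Subgroup.comap_map_eq, hq, QuotientGroup.ker_mk', sup_eq_left.mpr hcenB]
  have hBbar : Nat.card (B.map q) = p ^ 2 := by
    have h1 := PGroups.card_comap_mk' (Subgroup.center X) (B.map q)
    rw [← hq, hBcomap, hB, hZX, show p ^ 3 = p * p ^ 2 by ring] at h1
    exact (Nat.eq_of_mul_eq_mul_left hp.pos h1).symm
  have hXZ : Nat.card (X ⧸ Subgroup.center X) = p ^ (n - 1) := by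
    have := (Subgroup.center X).card_mul_index
    rw [hZX, Subgroup.index_eq_card, hX, show n = n - 1 + 1 by omega, pow_succ'] at this
    exact Nat.eq_of_mul_eq_mul_left hp.pos this
  have hself : Subgroup.centralizer ((B.map q : Subgroup (X ⧸ Subgroup.center X)) : Set (X ⧸ Subgroup.center X)) = B.map q := by
    conv_rhs => rw [← hDB, hD, Subgroup.map_comap_eq_self_of_surjective (QuotientGroup.mk'_surjective _)]
  have := hXp.isNilpotent
  rw [Group.nilpotencyClass_eq_quotient_center_plus_one,
    PGroups.nilpotencyClass_of_self_centralizing (n - 1) _ hXZ _ hBbar hself]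
  omega

end Cfsg.Agent.S4143
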