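import Cfsg.Statements.S4079
import Cfsg.Agent.H75.MetacyclicOmega
import Cfsg.Agent.H72.WardTop
import Cfsg.Agent.S4143

set_option autoImplicit false
open Cfsg
open scoped commutatorElement

namespace Cfsg.Agent.S4079

/-- Let p be an odd prime and L a finite metacyclic p-group with no cyclic subgroup of index p, and let a be an automorphism of L of order p. Then a moves some element of order p of L if and only if p = 3 and the semidirect product L ⋊ ⟨a⟩ (of order 3·#L) has maximal class, i.e. nilpotency class m where #L = 3^m. -/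
theorem result {L : Type*} [Group L] [Finite L] {p : ℕ} [Fact p.Prime]
    (hp : p ≠ 2) (hL : IsPGroup p L) (hmc : Cfsg.IsMetacyclic L) (hnc : ∀ C : Subgroup L, IsCyclic C → C.index ≠ p)
    (a : MulAut L) (ha : orderOf a = p) (m : ℕ) (hm : Nat.card L = p ^ m) :
    (∃ x : L, orderOf x = p ∧ a x ≠ x) ↔
    (p = 3 ∧ Group.nilpotencyClass (SemidirectProduct L ↥(Subgroup.zpowers a) (Subgroup.zpowers a).subtype) = m) := by
  classical
  have hp1 : p.Prime := Fact.out
  haveI hne : Nontrivial L := by
    by_contra h
    rw [not_nontrivial_iff_subsingleton] at h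
    have h1 : a = 1 := MulEquiv.ext fun x => Subsingleton.elim _ _
    rw [h1, orderOf_one] at ha
    exact hp1.one_lt.ne ha
  have hf := Cfsg.Agent.H75.Metacyclic.facts hp hL hmc hne hnc
  have hap : a ^ p = 1 := by rw [← ha]; exact pow_orderOf_eq_one a
  let W : Subgroup L :=
    { carrier := {x | x ^ p = 1}
      one_mem' := one_pow p
      mul_mem' := fun {x y} hx hy => hf.mul_one_mem x y hx hy
      inv_mem' := fun {x} hx => show x⁻¹ ^ p = 1 by rw [inv_pow, show x ^ p = 1 from hx, inv_one] }
  have hWcard : Nat.card W = p ^ 2 := hf.card_one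
  have hWfix : ∀ x ∈ W, a x ∈ W := fun x hx => show (a x) ^ p = 1 by
    rw [← map_pow, show x ^ p = 1 from hx, map_one]
  have hsq : ∀ x : L, x ^ p = 1 → x ^ p ^ 2 = 1 := fun x hx => by rw [pow_two, pow_mul, hx, one_pow]
  haveI : Finite (Subgroup.zpowers a) := Nat.finite_of_card_ne_zero (by
    rw [Nat.card_zpowers, ha]; exact hp1.ne_zero)
  let φ : Subgroup.zpowers a →* MulAut L := (Subgroup.zpowers a).subtype
  haveI : Finite (SemidirectProduct L (Subgroup.zpowers a) φ) := Finite.of_equiv _ SemidirectProduct.equivProd.symm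
  have hGcard : Nat.card (SemidirectProduct L (Subgroup.zpowers a) φ) = p ^ (m + 1) := by
    rw [SemidirectProduct.card, hm, Nat.card_zpowers, ha, pow_succ]
  constructor
  · rintro ⟨x, hx, hxm⟩
    have hxW : x ∈ W := show x ^ p = 1 by rw [← hx]; exact pow_orderOf_eq_one x
    -- the fixed line
    let F : Subgroup L := W ⊓ (a : L →* L).eqLocus (MonoidHom.id L)
    have hFmem : ∀ y, y ∈ F ↔ y ^ p = 1 ∧ a y = y := fun y => Iff.rfl
    let δ : W →* L :=
      { toFun := fun o => (o : L)⁻¹ * a o
        map_one' := by simp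
        map_mul' := fun o o' => by
          have h1 : (o : L)⁻¹ * a o * ((o' : L)⁻¹) = (o' : L)⁻¹ * ((o : L)⁻¹ * a o) :=
            hf.comm_one _ _ (W.mul_mem (W.inv_mem o.2) (hWfix o o.2)) (hsq _ (W.inv_mem o'.2))
          calc ((o * o' : W) : L)⁻¹ * a (o * o' : W) = (o' : L)⁻¹ * ((o : L)⁻¹ * a o) * a o' := by
                rw [Subgroup.coe_mul, map_mul, mul_inv_rev]; simp only [mul_assoc]
            _ = (o : L)⁻¹ * a o * ((o' : L)⁻¹) * a o' := by rw [h1]
            _ = _ := by simp only [mul_assoc] }
    have hδW : ∀ o : W, δ o ∈ W := fun o => W.mul_mem (W.inv_mem o.2) (hWfix o o.2)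
    have hfixcount : ∀ S : Subgroup L, (∀ y ∈ S, a y ∈ S) → p ∣ Nat.card S → ∃ y ∈ S, y ≠ 1 ∧ a y = y := by
      intro S hS hdvd
      let f : Equiv.Perm S := Equiv.ofBijective (fun y => (⟨a y, hS y y.2⟩ : S))
        (Finite.injective_iff_bijective.mp fun y y' h => Subtype.ext (a.injective (congrArg Subtype.val h)))
      have hpowf : ∀ (j : ℕ) (y : S), ((f ^ j) y : L) = (a ^ j) y := by
        intro j
        induction j with
        | zero => intro y; rfl
        | succ j ih => intro y; rw [pow_succ', pow_succ', Equiv.Perm.mul_apply, MulAut.mul_apply, ← ih y]; rfl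
      have hfp : f ^ p = 1 := Equiv.ext fun y => Subtype.ext (by rw [hpowf, hap]; rfl)
      have hc := Cfsg.Agent.H72.card_fixed_modEq f hfp
      have hd : p ∣ Nat.card {y : S // f y = y} :=
        Nat.modEq_zero_iff_dvd.mp (hc.symm.trans (Nat.modEq_zero_iff_dvd.mpr hdvd))
      haveI : Nonempty {y : S // f y = y} := ⟨⟨1, Subtype.ext (map_one a)⟩⟩
      haveI : Nontrivial {y : S // f y = y} := Finite.one_lt_card_iff_nontrivial.mp
        (lt_of_lt_of_le hp1.one_lt (Nat.le_of_dvd Nat.card_pos hd))
      obtain ⟨y, hy⟩ := exists_ne (⟨1, Subtype.ext (map_one a)⟩ : {y : S // f y = y})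
      exact ⟨y.1, y.1.2, fun h => hy (Subtype.ext (Subtype.ext h)), congrArg Subtype.val y.2⟩
    have hFcard : Nat.card F = p := by
      have hle : F ≤ W := inf_le_left
      obtain ⟨i, hi⟩ := IsPGroup.iff_card.mp (hL.to_subgroup F)
      have hlt : Nat.card F < p ^ 2 := by
        rw [← hWcard]
        refine lt_of_le_of_ne (Subgroup.card_le_of_le hle) fun h => hxm ?_
        have := Subgroup.eq_of_le_of_card_ge hle h.ge
        exact (this.symm ▸ hxW : x ∈ F).2
      obtain ⟨y, hyW, hy1, hy⟩ := hfixcount W hWfix (hWcard ▸ dvd_pow_self p two_ne_zero)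
      have hi0 : i ≠ 0 := by
        rintro rfl
        rw [pow_zero] at hi
        exact hy1 (Subgroup.mem_bot.mp (Subgroup.card_eq_one.mp hi ▸ (hFmem y).mpr ⟨hyW, hy⟩))
      rw [hi] at hlt ⊢
      have := (Nat.pow_lt_pow_iff_right hp1.one_lt).mp hlt
      rw [show i = 1 by omega, pow_one]
    have hδfix : ∀ o : W, a (δ o) = δ o := by
      have hker : Nat.card δ.ker = p := by
        rw [← hFcard]
        refine Nat.card_congr
          { toFun := fun o => ⟨(o.1 : L), (hFmem _).mpr ⟨o.1.2, (inv_mul_eq_one.mp (MonoidHom.mem_ker.mp o.2)).symm⟩⟩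
            invFun := fun y => ⟨⟨(y : L), y.2.1⟩, MonoidHom.mem_ker.mpr
              (show (y : L)⁻¹ * a y = 1 by rw [((hFmem _).mp y.2).2, inv_mul_cancel])⟩
            left_inv := fun o => rfl
            right_inv := fun y => rfl }
      have hR : Nat.card δ.range = p := by
        have h := δ.ker.card_mul_index
        rw [Subgroup.index_ker, hker, hWcard, pow_two] at h
        exact Nat.eq_of_mul_eq_mul_left hp1.pos h
      have hRinv : ∀ y ∈ δ.range, a y ∈ δ.range := by
        rintro _ ⟨o, rfl⟩
        exact ⟨⟨a o, hWfix o o.2⟩, show (a o)⁻¹ * a (a o) = a ((o : L)⁻¹ * a o) by rw [map_mul, map_inv]⟩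
      obtain ⟨y, hy, hy1, hya⟩ := hfixcount δ.range hRinv (by rw [hR])
      have hRF : δ.range ≤ (a : L →* L).eqLocus (MonoidHom.id L) := by
        have h1 : Subgroup.zpowers y = δ.range := by
          refine Subgroup.eq_of_le_of_card_ge (Subgroup.zpowers_le.mpr hy) ?_
          rw [hR, Nat.card_zpowers]
          obtain ⟨o, rfl⟩ := hy
          rw [orderOf_eq_prime (hδW o) hy1]
        rw [← h1, Subgroup.zpowers_le]
        exact hya
      exact fun o => hRF ⟨o, rfl⟩
    set z : W := ⟨x, hxW⟩ with hz
    set t := δ z with ht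
    have ht1 : t ≠ 1 := fun h => hxm (inv_mul_eq_one.mp (h : x⁻¹ * a x = 1)).symm
    have hta : a t = t := hδfix z
    have htp : t ^ p = 1 := hδW z
    obtain ⟨w, hw⟩ := hf.exists_root x hxW
    have hw2 : w ^ p ^ 2 = 1 := by rw [pow_two, pow_mul, hw]; exact hxW
    set u := w⁻¹ * a w with hu
    have haw2 : (a w) ^ p ^ 2 = 1 := by rw [← map_pow, hw2, map_one]
    have hwi2 : w⁻¹ ^ p ^ 2 = 1 := by rw [inv_pow, hw2, inv_one]
    have hu2 : u ^ p ^ 2 = 1 := hf.mul_two_mem _ _ hwi2 haw2
    have hup : u ^ p = t := by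
      rw [hu, hf.mul_pow _ _ hwi2 haw2, inv_pow, ← map_pow, hw]
      rfl
    set v := u⁻¹ * a u with hv
    have hvW : v ^ p = 1 := by
      rw [hv, hf.mul_pow _ _ (by rw [inv_pow, hu2, inv_one]) (by rw [← map_pow, hu2, map_one]), inv_pow,
        ← map_pow, hup, hta, inv_mul_cancel]
    set s := δ ⟨v, hvW⟩ with hs
    have hsp : s ^ p = 1 := hδW _
    have hiter := Cfsg.Agent.H75.Metacyclic.iterate_eq a (w := w) (u := u) (v := v) (s := s)
      (by rw [hu, mul_inv_cancel_left]) (by rw [hv, mul_inv_cancel_left])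
      (show a v = v * (v⁻¹ * a v) by rw [mul_inv_cancel_left]) (hδfix _)
      (show Commute u v from (hf.comm_one v u hvW hu2).symm) (show Commute u s from (hf.comm_one s u hsp hu2).symm)
      (hf.comm_one v s hvW (hsq s hsp)) p
    rw [hap, MulAut.one_apply, hup] at hiter
    have hv2 : v ^ p.choose 2 = 1 := by
      obtain ⟨c, hc⟩ := hp1.dvd_choose_self two_ne_zero (lt_of_le_of_ne hp1.two_le hp.symm)
      rw [hc, pow_mul, hvW, one_pow]
    rw [hv2, mul_one] at hiter
    have hts : t * s ^ p.choose 3 = 1 := by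
      have := hiter.symm
      rwa [mul_assoc, mul_eq_left] at this
    have hp3 : p = 3 := by
      by_contra h3
      obtain ⟨c, hc⟩ := hp1.dvd_choose_self (k := 3) (by norm_num)
        (lt_of_le_of_ne (by have := hp1.two_le; omega) (Ne.symm h3))
      rw [hc, pow_mul, hsp, one_pow, mul_one] at hts
      exact ht1 hts
    refine ⟨hp3, ?_⟩
    have hts' : t * s = 1 := by
      rw [show p.choose 3 = 1 by rw [hp3]; rfl, pow_one] at hts
      exact hts
    have hs1 : s ≠ 1 := fun h => ht1 (by rwa [h, mul_one] at hts')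
    -- every fixed point has order dividing `p`
    have hfixW : ∀ y : L, a y = y → y ^ p = 1 := by
      intro y hy
      by_contra hyp
      obtain ⟨k, hk⟩ := IsPGroup.iff_orderOf.mp hL y
      have hk2 : 2 ≤ k := by
        by_contra hlt
        exact hyp (orderOf_dvd_iff_pow_eq_one.mp (hk ▸ (pow_dvd_pow p (by omega : k ≤ 1)).trans (pow_one p).dvd))
      set y' := y ^ p ^ (k - 2) with hy'
      have hy'2 : y' ^ p ^ 2 = 1 := by
        rw [hy', ← pow_mul, ← pow_add, Nat.sub_add_cancel hk2, ← hk]
        exact pow_orderOf_eq_one y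
      have hy'p : y' ^ p ≠ 1 := by
        rw [hy', ← pow_mul, ← pow_succ]
        intro h
        have h' := Nat.le_of_dvd (pow_pos hp1.pos _) (orderOf_dvd_of_pow_eq_one h)
        rw [hk] at h'
        have := (Nat.pow_le_pow_iff_right hp1.one_lt).mp h'
        omega
      have hy'a : a y' = y' := by rw [hy', map_pow, hy]
      have hgen : Subgroup.zpowers (y' ^ p) = F := by
        refine Subgroup.eq_of_le_of_card_ge (Subgroup.zpowers_le.mpr ((hFmem _).mpr
          ⟨by rw [← pow_mul, ← pow_two]; exact hy'2, by rw [map_pow, hy'a]⟩)) ?_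
        rw [hFcard, Nat.card_zpowers, orderOf_eq_prime (by rw [← pow_mul, ← pow_two]; exact hy'2) hy'p]
      obtain ⟨j, hj⟩ := Subgroup.mem_zpowers_iff.mp (hgen.symm ▸ (hFmem t).mpr ⟨htp, hta⟩ : t ∈ Subgroup.zpowers (y' ^ p))
      set y'' := y' ^ j with hy''
      have hy''p : y'' ^ p = u ^ p := by
        rw [hup, ← hj, hy'', ← zpow_natCast (y' ^ j), ← zpow_mul, mul_comm, zpow_mul, zpow_natCast]
      have hy''a : a y'' = y'' := by rw [hy'', map_zpow, hy'a]
      have ho : (y''⁻¹ * u) ^ p = 1 := (hf.pow_eq _ _).mp hy''p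
      have hvo : v = δ ⟨y''⁻¹ * u, ho⟩ := by
        have key : ∀ b : L, b⁻¹ * a b = (y''⁻¹ * b)⁻¹ * a (y''⁻¹ * b) := fun b => by
          rw [map_mul a, map_inv, hy''a]
          group
        exact key u
      apply hs1
      show v⁻¹ * a v = 1
      rw [hvo, hδfix, inv_mul_cancel]
    -- maximal class
    let B : Subgroup (SemidirectProduct L (Subgroup.zpowers a) φ) :=
      { carrier := {g | g.left ^ p = 1}
        one_mem' := one_pow p
        mul_mem' := fun {g g'} hg hg' => show (g.left * φ g.right g'.left) ^ p = 1 from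
          hf.mul_one_mem _ _ hg (by rw [← map_pow, show g'.left ^ p = 1 from hg', map_one])
        inv_mem' := fun {g} hg => show (φ g.right⁻¹ g.left⁻¹) ^ p = 1 by
          rw [← map_pow, inv_pow, show g.left ^ p = 1 from hg, inv_one, map_one] }
    have hBcard : Nat.card B = p ^ 3 := by
      rw [Nat.card_congr (β := W × Subgroup.zpowers a)
        { toFun := fun g => (⟨g.1.left, g.2⟩, g.1.right)
          invFun := fun q => ⟨⟨q.1, q.2⟩, q.1.2⟩
          left_inv := fun g => rfl
          right_inv := fun q => rfl }, Nat.card_prod, hWcard, Nat.card_zpowers, ha, ← pow_succ]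
    have hBna : ¬ IsMulCommutative B := by
      intro hB
      have h := congrArg (fun g : B => g.1.left) (hB.is_comm.comm
        ⟨SemidirectProduct.inr (⟨a, Subgroup.mem_zpowers a⟩ : Subgroup.zpowers a), show (1 : L) ^ p = 1 from one_pow p⟩
        ⟨SemidirectProduct.inl x, show x ^ p = 1 from hxW⟩)
      simp [φ] at h
      exact hxm h
    have hC : Subgroup.centralizer (B : Set (SemidirectProduct L (Subgroup.zpowers a) φ)) ≤ B := by
      intro g hg
      have h := congrArg SemidirectProduct.left (Subgroup.mem_centralizer_iff.mp hg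
        (SemidirectProduct.inr (⟨a, Subgroup.mem_zpowers a⟩ : Subgroup.zpowers a)) (show (1 : L) ^ p = 1 from one_pow p))
      simp [φ] at h
      exact hfixW _ h
    have := Cfsg.Agent.S4143.result (m + 1) hGcard B hBcard hBna hC
    rwa [Nat.add_sub_cancel] at this
  · rintro ⟨hp3, hcl⟩
    by_contra hcon
    push Not at hcon
    have hfix : ∀ y : L, y ^ p = 1 → a y = y := by
      intro y hy
      by_cases h1 : y = 1
      · rw [h1, map_one]
      · exact hcon y (orderOf_eq_prime hy h1)
    choose r hr using hf.exists_root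
    have hm4 : 4 ≤ m := by
      have h : Nat.card (W × W) ≤ Nat.card L := by
        refine Nat.card_le_card_of_injective (fun q => r q.1 q.1.2 * (q.2 : L)) ?_
        intro q q' h
        have hp' : ∀ q : W × W, (r q.1 q.1.2 * (q.2 : L)) ^ p = q.1 := fun q => by
          rw [hf.mul_pow _ _ (by rw [pow_two, pow_mul, hr]; exact q.1.2) (hsq _ q.2.2), hr,
            show (q.2 : L) ^ p = 1 from q.2.2, mul_one]
        have h1 : q.1 = q'.1 := Subtype.ext (by rw [← hp' q, ← hp' q']; exact congrArg (· ^ p) h)
        obtain ⟨q1, q2⟩ := q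
        obtain ⟨q1', q2'⟩ := q'
        subst h1
        exact Prod.ext rfl (Subtype.ext (mul_left_cancel h))
      rw [Nat.card_prod, hWcard, ← pow_add, hm] at h
      exact (Nat.pow_le_pow_iff_right hp1.one_lt).mp h
    have hinj := SemidirectProduct.inl_injective (φ := φ)
    -- `W` is normal in the semidirect product
    haveI hWn : (W.map (SemidirectProduct.inl (φ := φ))).Normal := by
      refine ⟨fun _ ⟨y, hy, hyx⟩ g => ?_⟩
      subst hyx
      refine ⟨(g * SemidirectProduct.inl y * g⁻¹).left, ?_, ?_⟩
      · show _ ^ p = 1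
        have : (g * SemidirectProduct.inl y * g⁻¹).left = g.left * φ g.right y * g.left⁻¹ := by
          simp [mul_assoc]
        rw [this, conj_pow, ← map_pow, show y ^ p = 1 from hy, map_one, mul_one, mul_inv_cancel]
      · ext <;> simp
    have hW'card : Nat.card (W.map (SemidirectProduct.inl (φ := φ))) = p ^ 2 := by
      rw [Subgroup.card_map_of_injective hinj, hWcard]
    -- the derived subgroup has order at most `p`
    have hcp : ∀ c ∈ commutator L, c ^ p = 1 := by
      intro c hc
      by_contra hcne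
      obtain ⟨k, hk⟩ := IsPGroup.iff_orderOf.mp hL c
      have hk2 : 2 ≤ k := by
        by_contra hlt
        exact hcne (orderOf_dvd_iff_pow_eq_one.mp (hk ▸ (pow_dvd_pow p (by omega : k ≤ 1)).trans (pow_one p).dvd))
      set d := c ^ p ^ (k - 2) with hd
      have hdo : orderOf d = p ^ 2 := by
        rw [hd, orderOf_pow_of_dvd (pow_ne_zero _ hp1.ne_zero) (hk ▸ pow_dvd_pow p (Nat.sub_le k 2)), hk,
          Nat.pow_div (Nat.sub_le k 2) hp1.pos, Nat.sub_sub_self hk2]
      obtain ⟨N, hNn, hNc, hQc⟩ := id hmc
      have hle : commutator L ≤ N := by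
        rw [commutator_def, Subgroup.commutator_le]
        intro x _ y _
        rw [← QuotientGroup.eq_one_iff]
        change QuotientGroup.mk' N ⁅x, y⁆ = 1
        rw [map_commutatorElement, commutatorElement_eq_one_iff_mul_comm]
        exact mul_comm' _ _
      haveI : IsCyclic (commutator L) :=
        isCyclic_of_surjective _ (Subgroup.subgroupOfEquivOfLe hle).surjective
      let C := (commutator L).map (SemidirectProduct.inl (φ := φ))
      haveI : IsCyclic C := isCyclic_of_surjective _ ((commutator L).equivMapOfInjective _ hinj).surjective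
      haveI : C.Normal := by
        haveI : (SemidirectProduct.inl (φ := φ)).range.Normal := by
          rw [SemidirectProduct.range_inl_eq_ker_rightHom]
          infer_instance
        have : C = ⁅(SemidirectProduct.inl (φ := φ)).range, (SemidirectProduct.inl (φ := φ)).range⁆ := by
          simp only [C, commutator_def, Subgroup.map_commutator, ← MonoidHom.range_eq_map]
        rw [this]
        infer_instance
      set K := Subgroup.zpowers (SemidirectProduct.inl (φ := φ) d) with hK
      haveI : K.Normal := by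
        refine ⟨fun _ ⟨i, hi⟩ g => ?_⟩
        subst hi
        obtain ⟨e, he⟩ := MonoidHom.map_cyclic (MulAut.conjNormal (H := C) g).toMonoidHom
        have hdC : SemidirectProduct.inl (φ := φ) d ^ i ∈ C :=
          C.zpow_mem (Subgroup.mem_map_of_mem _ (Subgroup.pow_mem _ hc _)) i
        refine ⟨i * e, ?_⟩
        have h := congrArg Subtype.val (he ⟨_, hdC⟩)
        simp only [MulEquiv.coe_toMonoidHom, MulAut.conjNormal_apply, SubgroupClass.coe_zpow] at h
        simp only
        rw [h, zpow_mul]
      have hKcard : Nat.card K = p ^ 2 := by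
        rw [hK, Nat.card_zpowers, orderOf_injective _ hinj, hdo]
      have hKW := Cfsg.Agent.H75.Metacyclic.eq_of_normal_sq (n := m + 1) (by omega) hGcard
        (by rw [Nat.add_sub_cancel]; exact hcl) (A := K) (B := W.map (SemidirectProduct.inl (φ := φ))) hKcard hW'card
      obtain ⟨y, hy, hyd⟩ : SemidirectProduct.inl (φ := φ) d ∈ W.map (SemidirectProduct.inl (φ := φ)) :=
        hKW ▸ Subgroup.mem_zpowers _
      have h := orderOf_dvd_of_pow_eq_one (show d ^ p = 1 from hinj hyd ▸ hy)
      rw [hdo, pow_two] at h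
      have := Nat.le_of_dvd hp1.pos h
      nlinarith [hp1.one_lt]
    -- so `W` is central
    have hcent : W.map (SemidirectProduct.inl (φ := φ)) ≤ Subgroup.center _ := by
      rintro _ ⟨y, hy, rfl⟩
      rw [Subgroup.mem_center_iff]
      intro g
      have hφ : φ g.right y = y := by
        have hle : Subgroup.zpowers a ≤ MulAction.stabilizer (MulAut L) y :=
          Subgroup.zpowers_le.mpr (hfix y hy)
        exact hle g.right.2
      have hl : g.left * y = y * g.left := by
        have hw := hr y hy
        set w := r y hy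
        have h : (g.left * w * g.left⁻¹) ^ p = w ^ p := by
          refine ((hf.pow_eq _ _).mpr ?_).symm
          rw [show w⁻¹ * (g.left * w * g.left⁻¹) = ⁅w⁻¹, g.left⁆ by rw [commutatorElement_def]; group]
          exact hcp _ (Subgroup.commutator_mem_commutator (Subgroup.mem_top _) (Subgroup.mem_top _))
        rw [conj_pow, hw, mul_inv_eq_iff_eq_mul] at h
        exact h
      ext <;> simp [hφ, hl]
    have h1 := Subgroup.card_le_of_le hcent
    rw [hW'card, (Cfsg.Agent.PGroups.card_center_of_maxClass (n := m + 1) (by omega) hGcard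
      (by rw [Nat.add_sub_cancel]; exact hcl)).1, pow_two] at h1
    nlinarith [hp1.one_lt]

end Cfsg.Agent.S4079
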