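import Mathlib
import Cfsg.Statements.S4080

set_option autoImplicit false
open Cfsg

namespace Cfsg.Agent.S4080

open Finset

variable {p : ℕ} [hp : Fact p.Prime]

/-- In `ZMod (p^2)` an element vanishing mod `p` is a multiple of `p`. -/
theorem dvd_of_cast_eq_zero (z : ZMod (p ^ 2))
    (h : ZMod.castHom (dvd_pow_self p two_ne_zero) (ZMod p) z = 0) : (p : ZMod (p ^ 2)) ∣ z := by
  rw [← ZMod.natCast_zmod_val z, map_natCast, ZMod.natCast_eq_zero_iff] at h
  obtain ⟨k, hk⟩ := h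
  exact ⟨k, by rw [← ZMod.natCast_zmod_val z, hk, Nat.cast_mul]⟩

/-- In `ZMod (p^2)` an element killed by `p` is a multiple of `p`. -/
theorem dvd_of_mul_eq_zero (z : ZMod (p ^ 2)) (h : (p : ZMod (p ^ 2)) * z = 0) :
    (p : ZMod (p ^ 2)) ∣ z := by
  rw [← ZMod.natCast_zmod_val z, ← Nat.cast_mul, ZMod.natCast_eq_zero_iff] at h
  obtain ⟨k, hk⟩ := Nat.dvd_of_mul_dvd_mul_left hp.out.pos ((dvd_of_eq (pow_two p).symm).trans h)
  exact ⟨k, by rw [← ZMod.natCast_zmod_val z, hk, Nat.cast_mul]⟩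

theorem sq_eq (B : Matrix (Fin 2) (Fin 2) (ZMod p)) :
    B * B = B.trace • B - B.det • 1 := by
  ext i j
  fin_cases i <;> fin_cases j <;>
    simp [Matrix.mul_apply, Fin.sum_univ_two, Matrix.trace, Matrix.det_fin_two] <;> ring

theorem sq_eq_zero_of_pow (B : Matrix (Fin 2) (Fin 2) (ZMod p)) (n : ℕ) (h : B ^ n = 0) :
    B * B = 0 := by
  have hn : n ≠ 0 := by
    rintro rfl
    simp at h
  have hd : B.det = 0 := by
    have : B.det ^ n = 0 := by rw [← Matrix.det_pow, h, Matrix.det_zero]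
    exact pow_eq_zero_iff hn |>.1 this
  have h2 : B * B = B.trace • B := by rw [sq_eq B, hd, zero_smul, sub_zero]
  have hk : ∀ k : ℕ, B ^ (k + 1) = B.trace ^ k • B := by
    intro k
    induction k with
    | zero => simp
    | succ k ih => rw [pow_succ, ih, smul_mul_assoc, h2, smul_smul, ← pow_succ]
  obtain ⟨k, rfl⟩ := Nat.exists_eq_succ_of_ne_zero hn
  rw [hk] at h
  rcases smul_eq_zero.1 h with h0 | h0
  · rw [h2, eq_zero_of_pow_eq_zero h0, zero_smul]
  · rw [h0, mul_zero]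

/-- An element `1 + A` of order dividing `p` in `GL₂(ℤ/p²)` has `pA = 0`. -/
theorem mul_eq_zero_of_pow_eq_one (h3 : 3 < p) (A : Matrix (Fin 2) (Fin 2) (ZMod (p ^ 2)))
    (hA : (A + 1) ^ p = 1) : (p : Matrix (Fin 2) (Fin 2) (ZMod (p ^ 2))) * A = 0 := by
  set red := (ZMod.castHom (dvd_pow_self p two_ne_zero) (ZMod p)).mapMatrix (m := Fin 2) with hred
  have hB : (red A) * (red A) = 0 := by
    refine sq_eq_zero_of_pow _ p ?_
    have h1 := congrArg red hA
    rw [map_pow, map_add, map_one, add_pow_char_of_commute _ (Commute.one_right _), one_pow,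
      add_eq_right] at h1
    exact h1
  have hdiv : ∃ C, A * A = (p : Matrix (Fin 2) (Fin 2) (ZMod (p ^ 2))) * C := by
    have hij : ∀ i j, (p : ZMod (p ^ 2)) ∣ (A * A) i j := fun i j => by
      refine dvd_of_cast_eq_zero _ ?_
      rw [← map_mul] at hB
      exact congrFun (congrFun hB i) j
    choose C hC using hij
    refine ⟨Matrix.of C, ?_⟩
    rw [← nsmul_eq_mul]
    ext i j
    rw [Matrix.smul_apply, nsmul_eq_mul]
    exact hC i j
  obtain ⟨C, hC⟩ := hdiv
  have hp2 : (p : Matrix (Fin 2) (Fin 2) (ZMod (p ^ 2))) * p = 0 := by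
    rw [← Nat.cast_mul, ← pow_two]
    exact CharP.cast_eq_zero _ _
  have hpA2 : (p : Matrix (Fin 2) (Fin 2) (ZMod (p ^ 2))) * (A * A) = 0 := by
    rw [hC, ← mul_assoc, hp2, zero_mul]
  have hA4 : A ^ 4 = 0 := by
    have : A ^ 4 = (A * A) * (A * A) := by simp [pow_succ, mul_assoc]
    rw [this]
    nth_rw 1 [hC]
    rw [(Nat.cast_commute p C).eq, mul_assoc, hpA2, mul_zero]
  have hterm : ∀ m ∈ range (p + 1), 2 ≤ m →
      A ^ m * (1 : Matrix (Fin 2) (Fin 2) (ZMod (p ^ 2))) ^ (p - m) * (p.choose m : ℕ) = 0 := by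
    intro m hm h2
    rw [mem_range, Nat.lt_succ_iff] at hm
    rcases hm.lt_or_eq with hlt | rfl
    · obtain ⟨k, hk⟩ := hp.out.dvd_choose_self (by omega) hlt
      obtain ⟨r, rfl⟩ := Nat.exists_eq_add_of_le h2
      rw [one_pow, mul_one, hk, pow_add, show A ^ 2 = A * A from sq A,
        ← (Nat.cast_commute (p * k) _).eq, Nat.cast_mul,
        (Nat.cast_commute p _).eq, mul_assoc, ← mul_assoc (p : Matrix (Fin 2) (Fin 2) (ZMod (p ^ 2))),
        hpA2, zero_mul, mul_zero]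
    · have hm4 : A ^ m = A ^ 4 * A ^ (m - 4) := by
        rw [← pow_add]
        congr 1
        omega
      rw [one_pow, mul_one, hm4, hA4, zero_mul, zero_mul]
  rw [(Commute.one_right A).add_pow] at hA
  have hsplit : ∑ m ∈ range (p + 1), A ^ m * (1 : Matrix (Fin 2) (Fin 2) (ZMod (p ^ 2))) ^ (p - m) *
      (p.choose m : ℕ) = 1 + (p : Matrix (Fin 2) (Fin 2) (ZMod (p ^ 2))) * A := by
    rw [← sum_subset (s₁ := range 2) (range_mono (by omega)) fun m hm hm' =>
      hterm m hm (by rw [mem_range] at hm'; omega)]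
    rw [sum_range_succ, sum_range_one]
    simp [(Nat.cast_commute p A).eq]
  rw [hsplit, add_eq_left] at hA
  exact hA

theorem result {p : ℕ} [Fact p.Prime] (hp : 3 < p)
    (a : MulAut (Multiplicative (ZMod (p ^ 2) × ZMod (p ^ 2)))) (ha : orderOf a = p)
    (x : Multiplicative (ZMod (p ^ 2) × ZMod (p ^ 2))) (hx : orderOf x = p) : a x = x := by
  let f : ZMod (p ^ 2) × ZMod (p ^ 2) →+ ZMod (p ^ 2) × ZMod (p ^ 2) :=
    AddMonoidHom.mk' (fun y => (a (Multiplicative.ofAdd y)).toAdd) fun y z => by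
      rw [ofAdd_add, map_mul, toAdd_mul]
  let F : Module.End (ZMod (p ^ 2)) (ZMod (p ^ 2) × ZMod (p ^ 2)) := f.toZModLinearMap (p ^ 2)
  have hFdef : ∀ y, F y = (a (Multiplicative.ofAdd y)).toAdd := fun y => rfl
  have hpow : ∀ (n : ℕ) y, (F ^ n) y = ((a ^ n) (Multiplicative.ofAdd y)).toAdd := by
    intro n
    induction n with
    | zero => intro y; rfl
    | succ n ih =>
      intro y
      rw [pow_succ' F n, pow_succ' a n, Module.End.mul_apply, ih, hFdef]
      rfl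
  have hFp : F ^ p = 1 := LinearMap.ext fun y => by
    rw [hpow, (orderOf_dvd_iff_pow_eq_one.1 ha.dvd : a ^ p = 1)]
    rfl
  let e := LinearMap.toMatrixAlgEquiv (Module.Basis.finTwoProd (ZMod (p ^ 2)))
  have hN : (p : Module.End (ZMod (p ^ 2)) (ZMod (p ^ 2) × ZMod (p ^ 2))) * (F - 1) = 0 := by
    apply e.injective
    rw [map_mul, map_natCast, map_zero]
    refine mul_eq_zero_of_pow_eq_one hp _ ?_
    rw [map_sub, map_one, sub_add_cancel, ← map_pow, hFp, map_one]
  have hxp : (p : ℕ) • x.toAdd = 0 := by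
    rw [← toAdd_pow, (orderOf_dvd_iff_pow_eq_one.1 hx.dvd : x ^ p = 1), toAdd_one]
  rw [nsmul_eq_mul] at hxp
  obtain ⟨k₁, hk₁⟩ := dvd_of_mul_eq_zero x.toAdd.1 (congrArg Prod.fst hxp)
  obtain ⟨k₂, hk₂⟩ := dvd_of_mul_eq_zero x.toAdd.2 (congrArg Prod.snd hxp)
  have hy : x.toAdd = (p : ℕ) • (k₁, k₂) := by
    rw [nsmul_eq_mul]
    exact Prod.ext hk₁ hk₂
  have h0 := LinearMap.congr_fun hN (k₁, k₂)
  rw [← nsmul_eq_mul, LinearMap.smul_apply, LinearMap.sub_apply, smul_sub,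
    Module.End.one_apply, LinearMap.zero_apply, sub_eq_zero] at h0
  apply Multiplicative.toAdd.injective
  calc (a x).toAdd = F x.toAdd := rfl
    _ = x.toAdd := by rw [hy, map_nsmul, h0]

end Cfsg.Agent.S4080
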