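import Cfsg.Statements.S4082
import Cfsg.Agent.H63.PByCyclic
import Cfsg.Agent.H41.Basic
import Cfsg.Agent.PGroups.TwoGroups

set_option autoImplicit false
open Cfsg

namespace Cfsg.Agent.S4082

open Subgroup Cfsg.Agent
open scoped Pointwise

variable {G : Type*} [Group G] [Finite G] {p : ℕ} [Fact p.Prime]

/-- An element normalizing the cyclic Sylow subgroup and centralizing its subgroup of order `p`
centralizes it. -/
theorem mem_centralizer_of (P : Sylow p G) (hP : IsCyclic (P : Subgroup G)) {Q : Subgroup G}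
    (hQP : Q ≤ P) (hQ : Nat.card Q = p) {x : G}
    (hxN : x ∈ normalizer ((P : Subgroup G) : Set G)) (hxC : x ∈ centralizer (Q : Set G)) :
    x ∈ centralizer ((P : Subgroup G) : Set G) := by
  obtain ⟨c, hc⟩ := hP.exists_generator
  have hgen : ∀ v ∈ (P : Subgroup G), ∃ i : ℤ, (c : G) ^ i = v := fun v hv => by
    obtain ⟨i, hi⟩ := mem_zpowers_iff.mp (hc ⟨v, hv⟩)
    exact ⟨i, congrArg Subtype.val hi⟩
  have hcent : ∀ w : G, Commute w c → w ∈ centralizer ((P : Subgroup G) : Set G) := fun w hw =>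
    mem_centralizer_iff.mpr fun v hv => by
      obtain ⟨i, rfl⟩ := hgen v hv
      exact (hw.zpow_right i).eq.symm
  obtain ⟨a, n, hn, he⟩ :=
    Nat.exists_eq_pow_mul_and_not_dvd (orderOf_pos x).ne' p (Fact.out : p.Prime).ne_one
  -- the `p`-part lies in `P`
  have h1 : x ^ n ∈ (P : Subgroup G) := by
    have hzp : IsPGroup p (zpowers (x ^ n)) := by
      obtain ⟨l, -, hl⟩ := (Nat.dvd_prime_pow (Fact.out : p.Prime)).mp
        (orderOf_dvd_of_pow_eq_one (x := x ^ n) (n := p ^ a)
          (by rw [← pow_mul, mul_comm, ← he, pow_orderOf_eq_one]))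
      exact IsPGroup.of_card (n := l) (by rw [Nat.card_zpowers, hl])
    have hsup : IsPGroup p ↥(zpowers (x ^ n) ⊔ (P : Subgroup G)) :=
      hzp.to_sup_of_normal_right' P.isPGroup' (zpowers_le.mpr (pow_mem hxN n))
    exact (P.is_maximal' hsup le_sup_right) ▸ mem_sup_left (mem_zpowers _)
  -- the `p'`-part centralizes `P`
  have h2 : Commute (x ^ p ^ a) c := by
    obtain ⟨b, hb⟩ := IsPGroup.iff_card.mp P.isPGroup'
    have hcb : (c : G) ^ p ^ b = 1 :=
      congrArg Subtype.val (show c ^ p ^ b = 1 by rw [← hb]; exact pow_card_eq_one')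
    obtain ⟨k, hk⟩ := hgen _ ((mem_normalizer_iff.mp (pow_mem hxN (p ^ a)) c).mp c.2)
    obtain ⟨q, hqQ, hq1⟩ : ∃ q ∈ Q, q ≠ 1 := by
      obtain ⟨v, hv⟩ := Q.ne_bot_iff_exists_ne_one.mp (fun h => by
        rw [h, card_bot] at hQ; exact (Fact.out : p.Prime).ne_one hQ.symm)
      exact ⟨v, v.2, fun e => hv (Subtype.ext e)⟩
    obtain ⟨i, rfl⟩ := hgen q (hQP hqQ)
    have hord : orderOf ((c : G) ^ i) = p := orderOf_eq_prime
      (orderOf_dvd_iff_pow_eq_one.mp (by
        have h := Subgroup.orderOf_dvd_natCard Q hqQ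
        rwa [hQ] at h)) hq1
    have hfix : ((c : G) ^ i) ^ (k - 1) = 1 := by
      have h3 : x ^ p ^ a * (c : G) ^ i * (x ^ p ^ a)⁻¹ = ((c : G) ^ i) ^ k := by
        rw [← conj_zpow, ← hk, ← zpow_mul, ← zpow_mul, mul_comm]
      rw [← mem_centralizer_iff.mp (pow_mem hxC (p ^ a)) _ hqQ, mul_inv_cancel_right] at h3
      rw [zpow_sub_one, ← h3, mul_inv_cancel]
    refine H63.commute_of_conj_eq_pow hcb ?_ ?_ hk.symm
    · rw [← hord]; exact orderOf_dvd_iff_zpow_eq_one.mpr hfix
    · exact Nat.Coprime.coprime_dvd_left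
        (orderOf_dvd_of_pow_eq_one (by rw [← pow_mul, ← he, pow_orderOf_eq_one]))
        ((Fact.out : p.Prime).coprime_iff_not_dvd.mpr hn).symm
  have h1' : Commute (x ^ n) c := by
    obtain ⟨i, hi⟩ := hgen _ h1
    exact hi ▸ (Commute.refl (c : G)).zpow_left i
  refine hcent x ?_
  have hb := Nat.gcd_eq_gcd_ab (p ^ a) n
  rw [show Nat.gcd (p ^ a) n = 1 from Nat.Coprime.pow_left a
    ((Fact.out : p.Prime).coprime_iff_not_dvd.mpr hn), Nat.cast_one] at hb
  rw [← zpow_one x, hb, zpow_add, zpow_mul, zpow_mul, zpow_natCast, zpow_natCast]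
  exact (h2.zpow_left _).mul_left (h1'.zpow_left _)

/-- Let p be an odd prime and G a finite group with Sylow p-subgroup P. Say that G has restricted p-by-cyclic subgroups when every subgroup H of G whose Sylow p-subgroup is normal in H with cyclic quotient is itself cyclic or dihedral of order 2pⁿ for some n. Then G has restricted p-by-cyclic subgroups if and only if P is cyclic and one of the following holds: (1) N_G(P) = C_G(P); or (2) N_G(P)/C_G(P) has order 2 and, for the subgroup Q of order p of P, the centralizer C_G(Q) is abelian and every element of N_G(Q) outside C_G(Q) is an involution inverting every element of C_G(Q). -/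
theorem result {G : Type*} [Group G] [Finite G] {p : ℕ}
    [Fact p.Prime] (hp : p ≠ 2) (P : Sylow p G) :
    (∀ H : Subgroup G, (∀ S : Sylow p ↥H, (S : Subgroup ↥H).Normal) →
        (∀ (S : Sylow p ↥H) [(S : Subgroup ↥H).Normal], IsCyclic (↥H ⧸ (S : Subgroup ↥H))) →
        IsCyclic H ∨ (∃ n : ℕ, Nonempty (H ≃* DihedralGroup (p ^ n)))) ↔
    (IsCyclic P ∧
      (Subgroup.normalizer ((P : Subgroup G) : Set G) = Subgroup.centralizer ((P : Subgroup G) : Set G) ∨
       ((Subgroup.centralizer ((P : Subgroup G) : Set G)).relIndex (Subgroup.normalizer ((P : Subgroup G) : Set G)) = 2 ∧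
        ∀ Q : Subgroup G, Q ≤ P → Nat.card Q = p →
          IsMulCommutative ↥(Subgroup.centralizer (Q : Set G)) ∧
          ∀ x : G, x ∈ Subgroup.normalizer (Q : Set G) → x ∉ Subgroup.centralizer (Q : Set G) →
            orderOf x = 2 ∧ ∀ c : G, c ∈ Subgroup.centralizer (Q : Set G) → x * c * x⁻¹ = c⁻¹))) := by
  constructor
  · intro h
    have happ : ∀ (Q : Subgroup G), IsPGroup p Q → ∀ x ∈ Subgroup.normalizer (Q : Set G),
        IsCyclic ↥(Q ⊔ zpowers x) ∨ ∃ n : ℕ, Nonempty (↥(Q ⊔ zpowers x) ≃* DihedralGroup (p ^ n)) :=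
      fun Q hQ x hx => h _ (fun S => (H63.pByCyclic_sup hQ hx S).1)
        fun S _ => (H63.pByCyclic_sup hQ hx S).2
    have hP : IsCyclic P := by
      have h1 := happ P P.isPGroup' 1 (one_mem _)
      rw [zpowers_one_eq_bot, sup_bot_eq] at h1
      refine h1.resolve_right ?_
      rintro ⟨n, ⟨e⟩⟩
      obtain ⟨k, hk⟩ := IsPGroup.iff_card.mp P.isPGroup'
      have h2 : 2 ∣ p ^ k := by
        rw [← hk, Nat.card_congr e.toEquiv, DihedralGroup.nat_card]; exact dvd_mul_right _ _
      exact hp (((Nat.prime_dvd_prime_iff_eq Nat.prime_two Fact.out).mp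
        (Nat.prime_two.dvd_of_dvd_pow h2)).symm)
    refine ⟨hP, ?_⟩
    -- outside `C(Q)` the normalizer of `Q` consists of involutions
    have hinvol : ∀ Q : Subgroup G, Q ≤ P → Nat.card Q = p → ∀ x ∈ Subgroup.normalizer (Q : Set G),
        x ∉ Subgroup.centralizer (Q : Set G) → orderOf x = 2 := by
      intro Q hQP hQ x hx hxC
      have hQp : IsPGroup p Q := IsPGroup.of_card (n := 1) (by rw [hQ, pow_one])
      rcases happ Q hQp x hx with hcyc | ⟨n, ⟨e⟩⟩
      · refine absurd (mem_centralizer_iff.mpr fun q hq => ?_) hxC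
        obtain ⟨g, hg⟩ := hcyc.exists_generator
        obtain ⟨i, hi⟩ := mem_zpowers_iff.mp (hg ⟨q, mem_sup_left hq⟩)
        obtain ⟨j, hj⟩ := mem_zpowers_iff.mp (hg ⟨x, mem_sup_right (mem_zpowers x)⟩)
        have := (Commute.zpow_zpow_self g i j).eq
        rw [hi, hj] at this
        exact congrArg Subtype.val this
      · set xe : ↥(Q ⊔ zpowers x) := ⟨x, mem_sup_right (mem_zpowers x)⟩ with hxe
        rcases hx' : e xe with i | i
        · refine absurd (mem_centralizer_iff.mpr fun q hq => ?_) hxC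
          rcases hq' : e ⟨q, mem_sup_left hq⟩ with j | j
          · have : e (⟨q, mem_sup_left hq⟩ * xe) = e (xe * ⟨q, mem_sup_left hq⟩) := by
              rw [map_mul, map_mul, hq', hx', DihedralGroup.r_mul_r, DihedralGroup.r_mul_r, add_comm]
            exact congrArg Subtype.val (e.injective this)
          · have h2 : orderOf q = 2 := by
              rw [← Subgroup.orderOf_mk q (mem_sup_left hq : q ∈ Q ⊔ zpowers x), ← e.orderOf_eq, hq',
                DihedralGroup.orderOf_sr]
            have h3 := Subgroup.orderOf_dvd_natCard Q hq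
            rw [h2, hQ] at h3
            exact absurd ((Nat.prime_dvd_prime_iff_eq Nat.prime_two Fact.out).mp h3).symm hp
        · rw [← Subgroup.orderOf_mk x (mem_sup_right (mem_zpowers x) : x ∈ Q ⊔ zpowers x), ← hxe,
            ← e.orderOf_eq, hx', DihedralGroup.orderOf_sr]
    have hinvert : ∀ Q : Subgroup G, Q ≤ P → Nat.card Q = p → ∀ x ∈ Subgroup.normalizer (Q : Set G),
        x ∉ Subgroup.centralizer (Q : Set G) → ∀ c ∈ Subgroup.centralizer (Q : Set G),
          x * c * x⁻¹ = c⁻¹ := by
      intro Q hQP hQ x hx hxC c hc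
      have h1 := hinvol Q hQP hQ x hx hxC
      have h2 := hinvol Q hQP hQ (x * c) (mul_mem hx (centralizer_le_normalizer _ hc))
        fun e => hxC (by simpa using mul_mem e (inv_mem hc))
      have hx2 : x * x = 1 := by rw [← pow_two, ← h1]; exact pow_orderOf_eq_one x
      have hxc : x * c * (x * c) = 1 := by rw [← pow_two, ← h2]; exact pow_orderOf_eq_one _
      rw [inv_eq_of_mul_eq_one_left hx2]
      exact eq_inv_of_mul_eq_one_left (by simpa [mul_assoc] using hxc)
    rcases (Subgroup.centralizer_le_normalizer ((P : Subgroup G) : Set G)).eq_or_lt with heq | hlt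
    · exact Or.inl heq.symm
    right
    obtain ⟨x, hxN, hxC⟩ := SetLike.exists_of_lt hlt
    have hsub : ∀ Q : Subgroup G, Q ≤ P → Nat.card Q = p →
        ∀ y ∈ Subgroup.normalizer ((P : Subgroup G) : Set G), y ∈ Subgroup.normalizer (Q : Set G) := by
      intro Q hQP hQ y hy
      have hmap : Q.map (MulAut.conj y).toMonoidHom = Q := by
        refine H41.eq_of_card_eq_of_le_cyclic hP ?_ hQP
          (card_map_of_injective (MulAut.conj y).injective)
        rintro _ ⟨v, hv, rfl⟩
        exact (mem_normalizer_iff.mp hy v).mp (hQP hv)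
      rw [mem_normalizer_iff]
      intro v
      constructor
      · intro hv; rw [← hmap]; exact ⟨v, hv, by simp⟩
      · intro hv
        rw [← hmap] at hv
        obtain ⟨w, hw, hwv⟩ := hv
        exact (show w = v by simpa using hwv) ▸ hw
    refine ⟨?_, fun Q hQP hQ => ?_⟩
    · obtain ⟨Q, hQP, hQ⟩ : ∃ Q : Subgroup G, Q ≤ P ∧ Nat.card Q = p := by
        have hne : (P : Subgroup G) ≠ ⊥ := fun e => hxC (mem_centralizer_iff.mpr fun v hv => by
          rw [e] at hv; simp [mem_bot.mp hv])
        obtain ⟨k, hk⟩ := IsPGroup.iff_card.mp P.isPGroup'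
        have hk0 : k ≠ 0 := fun e => hne (Subgroup.card_eq_one.mp (by rw [hk, e, pow_zero]))
        obtain ⟨c, hc⟩ := exists_prime_orderOf_dvd_card' (G := (P : Subgroup G)) p
          (hk ▸ dvd_pow_self p hk0)
        exact ⟨zpowers (c : G), zpowers_le.mpr c.2,
          by rw [Nat.card_zpowers, Subgroup.orderOf_coe, hc]⟩
      have hnC : ∀ y ∈ Subgroup.normalizer ((P : Subgroup G) : Set G),
          y ∉ Subgroup.centralizer ((P : Subgroup G) : Set G) → y ∉ Subgroup.centralizer (Q : Set G) :=
        fun y hy hyC e => hyC (mem_centralizer_of P hP hQP hQ hy e)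
      rw [relIndex, index_eq_two_iff]
      refine ⟨⟨x, hxN⟩, fun b => ?_⟩
      simp only [mem_subgroupOf, Subgroup.coe_mul]
      by_cases hb : (b : G) ∈ Subgroup.centralizer ((P : Subgroup G) : Set G)
      · exact Or.inr ⟨hb, fun e => hxC (by simpa using mul_mem (inv_mem hb) e)⟩
      · refine Or.inl ⟨?_, hb⟩
        refine mem_centralizer_of P hP hQP hQ (mul_mem b.2 hxN) (mem_centralizer_iff.mpr fun q hq => ?_)
        have hqC : q ∈ Subgroup.centralizer (Q : Set G) := mem_centralizer_iff.mpr fun v hv => by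
          obtain ⟨g, hg⟩ := hP.exists_generator
          obtain ⟨i, hi⟩ := mem_zpowers_iff.mp (hg ⟨v, hQP hv⟩)
          obtain ⟨j, hj⟩ := mem_zpowers_iff.mp (hg ⟨q, hQP hq⟩)
          have := (Commute.zpow_zpow_self g i j).eq
          rw [hi, hj] at this
          exact congrArg Subtype.val this
        have h1 := hinvert Q hQP hQ x (hsub Q hQP hQ x hxN) (hnC x hxN hxC) q hqC
        have h2 := hinvert Q hQP hQ b (hsub Q hQP hQ b b.2) (hnC b b.2 hb) q⁻¹ (inv_mem hqC)
        symm
        calc (b : G) * x * q = (b : G) * (x * q * x⁻¹) * x := by group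
          _ = (b : G) * q⁻¹ * (b : G)⁻¹ * ((b : G) * x) := by rw [h1]; group
          _ = q * ((b : G) * x) := by rw [h2, inv_inv]
    · have hxQ : x ∉ Subgroup.centralizer (Q : Set G) :=
        fun e => hxC (mem_centralizer_of P hP hQP hQ hxN e)
      have hi := hinvert Q hQP hQ x (hsub Q hQP hQ x hxN) hxQ
      refine ⟨⟨⟨fun a b => Subtype.ext ?_⟩⟩, fun y hy hyC =>
        ⟨hinvol Q hQP hQ y hy hyC, hinvert Q hQP hQ y hy hyC⟩⟩
      have h1 := hi _ (mul_mem a.2 b.2)
      have h2 : x * ((a : G) * b) * x⁻¹ = (x * a * x⁻¹) * (x * b * x⁻¹) := by group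
      rw [h2, hi _ a.2, hi _ b.2, ← mul_inv_rev, inv_inj] at h1
      exact h1.symm
  · rintro ⟨hP, hcase⟩ H hn hq
    obtain ⟨S⟩ : Nonempty (Sylow p H) := inferInstance
    haveI := hn S
    obtain ⟨x, hx, -, hcard⟩ := H63.exists_gen S (hq S)
    -- `S` lies in a conjugate of `P`
    set P0 := (S : Subgroup H).map H.subtype with hP0
    obtain ⟨P1, hP1⟩ := (S.isPGroup'.map H.subtype : IsPGroup p P0).exists_le_sylow
    obtain ⟨g, rfl⟩ := MulAction.exists_smul_eq G P P1
    have hmemP : ∀ v ∈ P0, g⁻¹ * v * g ∈ (P : Subgroup G) := fun v hv => by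
      have := hP1 hv
      rw [Sylow.coe_subgroup_smul, Subgroup.mem_pointwise_smul_iff_inv_smul_mem] at this
      simpa [MulAut.smul_def, mul_assoc] using this
    haveI : IsCyclic (S : Subgroup H) := by
      haveI := hP
      let f : (S : Subgroup H) →* (P : Subgroup G) := MonoidHom.mk'
        (fun v => ⟨g⁻¹ * ((v : H) : G) * g, hmemP _ ⟨v, v.2, rfl⟩⟩)
        fun v w => Subtype.ext (by simp [mul_assoc])
      exact isCyclic_of_injective f fun v w e =>
        Subtype.ext (Subtype.ext (by
          have e' := congrArg Subtype.val e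
          simpa [f] using e'))
    obtain ⟨c0, hc0⟩ := (inferInstance : IsCyclic (S : Subgroup H)).exists_generator
    have hgenS : zpowers (c0 : H) = (S : Subgroup H) := by
      refine le_antisymm (zpowers_le.mpr c0.2) fun v hv => ?_
      obtain ⟨i, hi⟩ := mem_zpowers_iff.mp (hc0 ⟨v, hv⟩)
      exact ⟨i, congrArg Subtype.val hi⟩
    by_cases hcom : Commute x (c0 : H)
    · exact Or.inl (H63.isCyclic_of_commute S hgenS hx hcard hcom)
    right
    obtain ⟨b, hb⟩ := IsPGroup.iff_card.mp S.isPGroup'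
    have hco : orderOf (c0 : H) = p ^ b := by rw [← hb, ← Nat.card_zpowers, hgenS]
    have hb0 : b ≠ 0 := fun e => hcom (by
      rw [show (c0 : H) = 1 by rw [← orderOf_eq_one_iff, hco, e, pow_zero]]; exact Commute.one_right x)
    have hkmem : x * (c0 : H) * x⁻¹ ∈ zpowers (c0 : H) := by
      rw [hgenS]; exact (inferInstance : (S : Subgroup H).Normal).conj_mem (c0 : H) c0.2 x
    obtain ⟨k, hk⟩ := mem_zpowers_iff.mp hkmem
    -- the subgroup of order `p`, pulled back into `P`
    set d : G := g⁻¹ * (((c0 : H) ^ p ^ (b - 1) : H) : G) * g with hd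
    have hdord : orderOf d = p := by
      have h1 : orderOf (((c0 : H) ^ p ^ (b - 1) : H) : G) = p := by
        rw [Subgroup.orderOf_coe, orderOf_pow_of_dvd (pow_ne_zero _ (Fact.out : p.Prime).ne_zero)
          (hco ▸ pow_dvd_pow p (Nat.sub_le b 1)), hco, Nat.pow_div (Nat.sub_le b 1) (Fact.out : p.Prime).pos,
          show b - (b - 1) = 1 by omega, pow_one]
      rw [← h1, hd]
      have := orderOf_injective (MulAut.conj g⁻¹).toMonoidHom (MulAut.conj g⁻¹).injective
        (((c0 : H) ^ p ^ (b - 1) : H) : G)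
      simpa using this
    have hdP : zpowers d ≤ P := zpowers_le.mpr (hmemP _ ⟨_, pow_mem c0.2 _, rfl⟩)
    have hdc : Nat.card (zpowers d) = p := by rw [Nat.card_zpowers, hdord]
    set y : G := g⁻¹ * (x : G) * g with hy
    have hyd : y * d * y⁻¹ = d ^ k := by
      have h1 : (x : H) * (c0 : H) ^ p ^ (b - 1) * x⁻¹ = ((c0 : H) ^ p ^ (b - 1)) ^ k := by
        rw [← conj_pow, ← hk, ← zpow_natCast, ← zpow_mul, ← zpow_natCast, ← zpow_mul, mul_comm]
      have h2 : (x : G) * (((c0 : H) ^ p ^ (b - 1) : H) : G) * (x : G)⁻¹ =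
          (((c0 : H) ^ p ^ (b - 1) : H) : G) ^ k := by
        rw [← Subgroup.coe_zpow, ← h1]; rfl
      have h3 := conj_zpow (i := k) (a := g⁻¹) (b := (((c0 : H) ^ p ^ (b - 1) : H) : G))
      rw [inv_inv] at h3
      rw [hd, h3, ← h2, hy]; group
    have hyN : y ∈ Subgroup.normalizer (zpowers d : Set G) := by
      have hmap : (zpowers d).map (MulAut.conj y).toMonoidHom = zpowers d := by
        refine eq_of_le_of_card_ge ?_ (card_map_of_injective (MulAut.conj y).injective).ge
        rintro _ ⟨v, hv, rfl⟩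
        obtain ⟨i, rfl⟩ := mem_zpowers_iff.mp hv
        change y * d ^ i * y⁻¹ ∈ zpowers d
        rw [← conj_zpow, hyd]
        exact zpow_mem (zpow_mem (mem_zpowers d) k) i
      rw [mem_normalizer_iff]
      intro v
      constructor
      · intro hv; rw [← hmap]; exact ⟨v, hv, by simp⟩
      · intro hv
        rw [← hmap] at hv
        obtain ⟨w, hw, hwv⟩ := hv
        exact (show w = v by simpa using hwv) ▸ hw
    have hynC : y ∉ Subgroup.centralizer (zpowers d : Set G) := fun e => hcom (by
      have h1 : d ^ (k - 1) = 1 := by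
        rw [zpow_sub_one, ← hyd, ← mem_centralizer_iff.mp e d (mem_zpowers d), mul_inv_cancel_right,
          mul_inv_cancel]
      exact H63.commute_of_conj_eq_pow (p := p) (e := b) (by rw [← hco]; exact pow_orderOf_eq_one _)
        (hdord ▸ orderOf_dvd_iff_zpow_eq_one.mpr h1) hx hk.symm)
    rcases hcase with heq | ⟨-, hQ⟩
    · exfalso
      apply hynC
      have hPC : (P : Subgroup G) ≤ Subgroup.centralizer (zpowers d : Set G) := fun v hv =>
        mem_centralizer_iff.mpr fun u hu => by
          obtain ⟨w, hw⟩ := hP.exists_generator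
          obtain ⟨i, hi⟩ := mem_zpowers_iff.mp (hw ⟨v, hv⟩)
          obtain ⟨j, hj⟩ := mem_zpowers_iff.mp (hw ⟨u, hdP hu⟩)
          have := (Commute.zpow_zpow_self w j i).eq
          rw [hi, hj] at this
          exact congrArg Subtype.val this
      have hyC : ∀ v ∈ Subgroup.centralizer (zpowers d : Set G),
          y * v * y⁻¹ ∈ Subgroup.centralizer (zpowers d : Set G) := by
        intro v hv
        rw [mem_centralizer_iff]
        intro u hu
        have hu' : y⁻¹ * u * y ∈ zpowers d := by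
          have := (mem_normalizer_iff.mp (inv_mem hyN) u).mp hu
          simpa using this
        calc u * (y * v * y⁻¹) = y * ((y⁻¹ * u * y) * v) * y⁻¹ := by group
          _ = y * (v * (y⁻¹ * u * y)) * y⁻¹ := by rw [mem_centralizer_iff.mp hv _ hu']
          _ = y * v * y⁻¹ * u := by group
      have hPy : ((y • P : Sylow p G) : Subgroup G) ≤ Subgroup.centralizer (zpowers d : Set G) := by
        intro v hv
        rw [Sylow.coe_subgroup_smul, Subgroup.mem_pointwise_smul_iff_inv_smul_mem] at hv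
        have h1 := hyC _ (hPC hv)
        simpa [MulAut.smul_def, mul_assoc] using h1
      obtain ⟨u, hu⟩ := MulAction.exists_smul_eq ↥(Subgroup.centralizer (zpowers d : Set G))
        (P.subtype hPC) ((y • P).subtype hPy)
      rw [Sylow.smul_subtype] at hu
      have hu' : ((u : G)⁻¹ * y) • P = P := by
        have e : (u : G) • P = y • P := Sylow.subtype_injective hu
        rw [mul_smul, ← e, inv_smul_smul]
      have h2 : (u : G)⁻¹ * y ∈ Subgroup.centralizer (zpowers d : Set G) := by
        have h3 : (u : G)⁻¹ * y ∈ Subgroup.normalizer ((P : Subgroup G) : Set G) :=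
          Sylow.smul_eq_iff_mem_normalizer.mp hu'
        rw [heq] at h3
        exact mem_centralizer_iff.mpr fun v hv => mem_centralizer_iff.mp h3 v (hdP hv)
      simpa using mul_mem u.2 h2
    · obtain ⟨-, hQ'⟩ := hQ (zpowers d) hdP hdc
      obtain ⟨hy2, hyinv⟩ := hQ' y hyN hynC
      have hx2 : orderOf x = 2 := by
        have e1 := orderOf_injective (MulAut.conj g⁻¹).toMonoidHom (MulAut.conj g⁻¹).injective (x : G)
        rw [show ((MulAut.conj g⁻¹).toMonoidHom (x : G)) = y by simp [hy], hy2,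
          Subgroup.orderOf_coe] at e1
        exact e1.symm
      have hcd : g⁻¹ * ((c0 : H) : G) * g ∈ Subgroup.centralizer (zpowers d : Set G) := by
        rw [mem_centralizer_iff]
        intro u hu
        obtain ⟨i, rfl⟩ := mem_zpowers_iff.mp hu
        refine (Commute.zpow_left ?_ i).eq
        show d * _ = _ * d
        rw [hd, SubgroupClass.coe_pow]
        calc g⁻¹ * ((c0 : H) : G) ^ p ^ (b - 1) * g * (g⁻¹ * ((c0 : H) : G) * g)
            = g⁻¹ * (((c0 : H) : G) ^ p ^ (b - 1) * ((c0 : H) : G)) * g := by group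
          _ = g⁻¹ * (((c0 : H) : G) * ((c0 : H) : G) ^ p ^ (b - 1)) * g := by
              rw [(Commute.pow_self ((c0 : H) : G) _).eq]
          _ = _ := by group
      have hinv : x * (c0 : H) * x⁻¹ = (c0 : H)⁻¹ := by
        apply Subtype.ext
        have h1 := hyinv _ hcd
        rw [hy] at h1
        have h2 : g⁻¹ * ((x : G) * ((c0 : H) : G) * (x : G)⁻¹) * g = g⁻¹ * ((c0 : H) : G)⁻¹ * g := by
          calc _ = g⁻¹ * (x : G) * g * (g⁻¹ * ((c0 : H) : G) * g) * (g⁻¹ * (x : G) * g)⁻¹ := by group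
            _ = _ := by rw [h1]; group
        simpa using h2
      haveI : NeZero (p ^ b) := ⟨pow_ne_zero _ (Fact.out : p.Prime).ne_zero⟩
      exact ⟨b, PGroups.nonempty_mulEquiv_dihedral hco (fun e => hcom (by
          obtain ⟨i, hi⟩ := mem_zpowers_iff.mp e
          exact hi ▸ (Commute.refl (c0 : H)).zpow_left i))
        (by rw [← hx2]; exact pow_orderOf_eq_one x) hinv (by rw [hcard, hb, hx2, mul_comm])⟩

end Cfsg.Agent.S4082
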