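import Cfsg.Statements.S4083
import Cfsg.Agent.H63.PByCyclic
import Cfsg.Agent.PGroups.TwoGroups
import Cfsg.Agent.S0228

set_option autoImplicit false
open Cfsg

namespace Cfsg.Agent.S4083

open Subgroup Cfsg.Agent
open scoped Pointwise

theorem commute_of_pow {H : Type*} [Group H] [Finite H] {x v : H} {k : ℕ}
    (hk : k.Coprime (orderOf x)) (h : Commute (x ^ k) v) : Commute x v := by
  obtain ⟨m, hm⟩ := exists_pow_eq_self_of_coprime hk
  exact hm ▸ h.pow_left m

/-- Normal cyclic Sylow 2-subgroup with cyclic quotient: the group is cyclic. -/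
theorem commute_of_cyclic {H : Type*} [Group H] [Finite H] {c x : H} {b : ℕ} (hc : orderOf c = 2 ^ b)
    (hx : (orderOf x).Coprime 2) (hmem : x * c * x⁻¹ ∈ zpowers c) : Commute x c := by
  haveI := Fact.mk Nat.prime_two
  rcases Nat.eq_zero_or_pos b with hb | hb
  · rw [hb, pow_zero, orderOf_eq_one_iff] at hc
    rw [hc]; exact Commute.one_right x
  obtain ⟨k, hk⟩ := mem_zpowers_iff.mp hmem
  refine H63.commute_of_conj_eq_pow (p := 2) (e := b) (by rw [← hc]; exact pow_orderOf_eq_one c)
    ?_ hx hk.symm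
  rcases Int.even_or_odd k with ⟨m, rfl⟩ | ⟨m, rfl⟩
  · exfalso
    have h1 : (x * c * x⁻¹) ^ 2 ^ (b - 1) = 1 := by
      rw [← hk, ← zpow_natCast, ← zpow_mul,
        show (m + m) * ((2 ^ (b - 1) : ℕ) : ℤ) = ((2 ^ b : ℕ) : ℤ) * m by
          push_cast
          conv_rhs => rw [show b = b - 1 + 1 by omega, pow_succ]
          ring,
        zpow_mul, zpow_natCast, ← hc, pow_orderOf_eq_one, one_zpow]
    rw [conj_pow, mul_inv_eq_one, mul_eq_left] at h1
    have h2 := Nat.le_of_dvd (pow_pos two_pos _) (hc ▸ orderOf_dvd_of_pow_eq_one h1)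
    have : 2 ^ (b - 1) < 2 ^ b := Nat.pow_lt_pow_right one_lt_two (by omega)
    omega
  · exact ⟨m, by ring⟩

/-- An element of odd order moving a four-group. -/
theorem fourCases {H : Type*} [Group H] [Finite H] {x c w : H} (hx : (orderOf x).Coprime 2)
    (hc : c * c = 1) (hw : w * w = 1) (hcw : c * w = w * c) (hc1 : c ≠ 1) (hw1 : w ≠ 1) (hne : c ≠ w)
    (h1 : x * c * x⁻¹ = c ∨ x * c * x⁻¹ = w ∨ x * c * x⁻¹ = c * w)
    (h2 : x * w * x⁻¹ = c ∨ x * w * x⁻¹ = w ∨ x * w * x⁻¹ = c * w) :
    (Commute x c ∧ Commute x w) ∨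
      (Commute (x ^ 3) c ∧ Commute (x ^ 3) w ∧ ¬ Commute x c ∧ ¬ Commute x w ∧ ¬ Commute x (c * w)) := by
  have hcwne : c * w ≠ w := fun e => hc1 (mul_eq_right.mp e)
  have hcwne' : c * w ≠ c := fun e => hw1 (mul_eq_left.mp e)
  have hconjinj : ∀ u v, x * u * x⁻¹ = x * v * x⁻¹ → u = v := fun u v e =>
    mul_left_cancel (mul_right_cancel e)
  have h22 : (2 : ℕ).Coprime (orderOf x) := hx.symm
  have hsq : ∀ u : H, x * (x * u * x⁻¹) * x⁻¹ = u → Commute x u := fun u e => by
    refine commute_of_pow h22 ?_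
    show x ^ 2 * u = u * x ^ 2
    rw [pow_two]
    calc x * x * u = x * (x * u * x⁻¹) * x⁻¹ * (x * x) := by group
      _ = u * (x * x) := by rw [e]
  rcases h1 with e1 | e1 | e1
  · refine Or.inl ⟨mul_inv_eq_iff_eq_mul.mp e1, ?_⟩
    rcases h2 with e2 | e2 | e2
    · exact absurd (hconjinj _ _ (e1.trans e2.symm)) hne
    · exact mul_inv_eq_iff_eq_mul.mp e2
    · refine hsq w ?_
      rw [e2]
      calc x * (c * w) * x⁻¹ = (x * c * x⁻¹) * (x * w * x⁻¹) := by group
        _ = w := by rw [e1, e2, ← mul_assoc, hc, one_mul]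
  · rcases h2 with e2 | e2 | e2
    · exact Or.inl ⟨hsq c (by rw [e1, e2]), hsq w (by rw [e2, e1])⟩
    · exact absurd (hconjinj _ _ (e1.trans e2.symm)) hne
    · right
      have e3 : x * (c * w) * x⁻¹ = c := by
        calc x * (c * w) * x⁻¹ = (x * c * x⁻¹) * (x * w * x⁻¹) := by group
          _ = c := by rw [e1, e2, hcw, ← mul_assoc, hw, one_mul]
      refine ⟨?_, ?_, fun e => hne ?_, fun e => hcwne ?_, fun e => hcwne' ?_⟩
      · show x ^ 3 * c = c * x ^ 3
        calc x ^ 3 * c = x * (x * (x * c * x⁻¹) * x⁻¹) * x⁻¹ * x ^ 3 := by simp [pow_succ, mul_assoc]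
          _ = c * x ^ 3 := by rw [e1, e2, e3]
      · show x ^ 3 * w = w * x ^ 3
        calc x ^ 3 * w = x * (x * (x * w * x⁻¹) * x⁻¹) * x⁻¹ * x ^ 3 := by simp [pow_succ, mul_assoc]
          _ = w * x ^ 3 := by rw [e2, e3, e1]
      · rw [← e1, e.eq, mul_inv_cancel_right]
      · rw [← e2, e.eq, mul_inv_cancel_right]
      · rw [← mul_inv_cancel_right (c * w) x, ← e.eq, e3]
  · rcases h2 with e2 | e2 | e2
    · right
      have e3 : x * (c * w) * x⁻¹ = w := by
        calc x * (c * w) * x⁻¹ = (x * c * x⁻¹) * (x * w * x⁻¹) := by group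
          _ = w := by rw [e1, e2, hcw, mul_assoc, hc, mul_one]
      refine ⟨?_, ?_, fun e => hcwne' ?_, fun e => hne ?_, fun e => hcwne ?_⟩
      · show x ^ 3 * c = c * x ^ 3
        calc x ^ 3 * c = x * (x * (x * c * x⁻¹) * x⁻¹) * x⁻¹ * x ^ 3 := by simp [pow_succ, mul_assoc]
          _ = c * x ^ 3 := by rw [e1, e3, e2]
      · show x ^ 3 * w = w * x ^ 3
        calc x ^ 3 * w = x * (x * (x * w * x⁻¹) * x⁻¹) * x⁻¹ * x ^ 3 := by simp [pow_succ, mul_assoc]
          _ = w * x ^ 3 := by rw [e2, e1, e3]
      · rw [← e1, e.eq, mul_inv_cancel_right]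
      · rw [← e2, e.eq, mul_inv_cancel_right]
      · rw [← mul_inv_cancel_right (c * w) x, ← e.eq, e3]
    · refine Or.inl ⟨hsq c ?_, mul_inv_eq_iff_eq_mul.mp e2⟩
      rw [e1]
      calc x * (c * w) * x⁻¹ = (x * c * x⁻¹) * (x * w * x⁻¹) := by group
        _ = c := by rw [e1, e2, mul_assoc, hw, mul_one]
    · exact absurd (hconjinj _ _ (e1.trans e2.symm)) hne

theorem isMulCommutative_dihedral_le {n : ℕ} (h : ∀ a b : DihedralGroup (2 ^ n), a * b = b * a) : n ≤ 1 := by
  have h1 := h (DihedralGroup.r 1) (DihedralGroup.sr 0)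
  rw [DihedralGroup.r_mul_sr, DihedralGroup.sr_mul_r, DihedralGroup.sr.injEq] at h1
  have h2 : ((2 : ℕ) : ZMod (2 ^ n)) = 0 := by
    have : (1 : ZMod (2 ^ n)) + 1 = 0 := by linear_combination -h1
    push_cast
    rw [← this]; norm_num
  have h3 := (ZMod.natCast_eq_zero_iff 2 (2 ^ n)).mp h2
  exact (Nat.pow_dvd_pow_iff_le_right (x := 2) one_lt_two).mp (by simpa using h3)

/-- Let G be a finite group with Sylow 2-subgroup P. Every subgroup H of G whose Sylow 2-subgroup is normal in H with cyclic quotient is cyclic, dihedral of 2-power order, or isomorphic to the alternating group of degree 4, if and only if either P is cyclic, or P is dihedral (of order at least 4) and every elementary abelian subgroup K of order 4 of P satisfies C_G(K) = K. -/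
theorem result {G : Type*} [Group G] [Finite G] (P : Sylow 2 G) :
    (∀ H : Subgroup G, (∀ S : Sylow 2 ↥H, (S : Subgroup ↥H).Normal) →
        (∀ (S : Sylow 2 ↥H) [(S : Subgroup ↥H).Normal], IsCyclic (↥H ⧸ (S : Subgroup ↥H))) →
        IsCyclic H ∨ (∃ n : ℕ, Nonempty (H ≃* DihedralGroup (2 ^ n))) ∨ Nonempty (H ≃* alternatingGroup (Fin 4))) ↔
    (IsCyclic P ∨
      ((∃ n : ℕ, 1 ≤ n ∧ Nonempty ((P : Subgroup G) ≃* DihedralGroup (2 ^ n))) ∧
        ∀ K : Subgroup G, K ≤ P → Nat.card K = 4 → (∀ k ∈ K, k ^ 2 = 1) → Subgroup.centralizer (K : Set G) = K)) := by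
  haveI := Fact.mk Nat.prime_two
  constructor
  · intro h
    have happ : ∀ (Q : Subgroup G), IsPGroup 2 Q → ∀ x ∈ Subgroup.normalizer (Q : Set G),
        IsCyclic ↥(Q ⊔ zpowers x) ∨ (∃ n : ℕ, Nonempty (↥(Q ⊔ zpowers x) ≃* DihedralGroup (2 ^ n))) ∨
          Nonempty (↥(Q ⊔ zpowers x) ≃* alternatingGroup (Fin 4)) :=
      fun Q hQ x hx => h _ (fun S => (H63.pByCyclic_sup hQ hx S).1)
        fun S _ => (H63.pByCyclic_sup hQ hx S).2
    have h1 := happ P P.isPGroup' 1 (one_mem _)
    rw [zpowers_one_eq_bot, sup_bot_eq] at h1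
    obtain ⟨k, hk⟩ := IsPGroup.iff_card.mp P.isPGroup'
    rcases h1 with hcyc | ⟨n, ⟨e⟩⟩ | ⟨⟨e⟩⟩
    · exact Or.inl hcyc
    · rcases Nat.eq_zero_or_pos n with rfl | hn
      · refine Or.inl (isCyclic_of_prime_card (p := 2) ?_)
        rw [Nat.card_congr e.toEquiv, DihedralGroup.nat_card, pow_zero, mul_one]
      refine Or.inr ⟨⟨n, hn, ⟨e⟩⟩, fun K hKP hK4 hK2 => ?_⟩
      have hKab : ∀ a ∈ K, ∀ b ∈ K, a * b = b * a := fun a ha b hb => by
        have h3 := hK2 _ (mul_mem ha hb)
        rw [pow_two] at h3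
        have ha' := hK2 a ha
        have hb' := hK2 b hb
        rw [pow_two] at ha' hb'
        rw [← inv_eq_of_mul_eq_one_left h3, mul_inv_rev, inv_eq_of_mul_eq_one_left ha',
          inv_eq_of_mul_eq_one_left hb']
      refine le_antisymm (fun x hx => ?_) fun a ha => mem_centralizer_iff.mpr fun b hb => hKab b hb a ha
      have hKp : IsPGroup 2 K := P.isPGroup'.to_le hKP
      have hcomm : ∀ u v : ↥(K ⊔ zpowers x), u * v = v * u := by
        have hle : K ⊔ zpowers x ≤ centralizer ((K ⊔ zpowers x : Subgroup G) : Set G) := by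
          refine sup_le (fun a ha => ?_) (zpowers_le.mpr ?_)
          · rw [mem_centralizer_iff]
            have : K ⊔ zpowers x ≤ centralizer ({a} : Set G) := sup_le
              (fun b hb => mem_centralizer_singleton_iff.mpr (hKab b hb a ha))
              (zpowers_le.mpr (mem_centralizer_singleton_iff.mpr (mem_centralizer_iff.mp hx a ha).symm))
            exact fun b hb => mem_centralizer_singleton_iff.mp (this hb)
          · rw [mem_centralizer_iff]
            have : K ⊔ zpowers x ≤ centralizer ({x} : Set G) := sup_le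
              (fun b hb => mem_centralizer_singleton_iff.mpr (mem_centralizer_iff.mp hx b hb))
              (zpowers_le.mpr (mem_centralizer_singleton_iff.mpr rfl))
            exact fun b hb => mem_centralizer_singleton_iff.mp (this hb)
        exact fun u v => Subtype.ext (mem_centralizer_iff.mp (hle v.2) u u.2)
      rcases happ K hKp x (centralizer_le_normalizer _ hx) with hc | ⟨m, ⟨e'⟩⟩ | ⟨⟨e'⟩⟩
      · exfalso
        haveI := hc
        haveI : IsCyclic K := isCyclic_of_injective (Subgroup.inclusion (le_sup_left : K ≤ K ⊔ zpowers x))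
          (Subgroup.inclusion_injective le_sup_left)
        obtain ⟨g, hg⟩ := IsCyclic.exists_generator (α := K)
        have ho : orderOf g = 4 := hK4 ▸ orderOf_eq_card_of_forall_mem_zpowers hg
        have h3 := orderOf_dvd_of_pow_eq_one (show g ^ 2 = 1 from Subtype.ext (hK2 g g.2))
        rw [ho] at h3
        exact absurd h3 (by norm_num)
      · have hm : m ≤ 1 := isMulCommutative_dihedral_le fun a b => e'.symm.injective (by
          rw [map_mul, map_mul, hcomm])
        have hle : Nat.card ↥(K ⊔ zpowers x) ≤ Nat.card K := by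
          rw [hK4, Nat.card_congr e'.toEquiv, DihedralGroup.nat_card]
          have : 2 ^ m ≤ 2 ^ 1 := Nat.pow_le_pow_right two_pos hm
          omega
        rw [eq_of_le_of_card_ge le_sup_left hle]
        exact mem_sup_right (mem_zpowers x)
      · exfalso
        have h4 : ∃ a b : alternatingGroup (Fin 4), a * b ≠ b * a :=
          ⟨⟨Equiv.swap 0 1 * Equiv.swap 2 3, by simp [Equiv.Perm.mem_alternatingGroup]⟩,
            ⟨Equiv.swap 0 1 * Equiv.swap 1 2, by simp [Equiv.Perm.mem_alternatingGroup]⟩, by decide⟩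
        obtain ⟨a, b, hab⟩ := h4
        exact hab (e'.symm.injective (by rw [map_mul, map_mul, hcomm]))
    · exfalso
      have h12 : Nat.card (alternatingGroup (Fin 4)) = 12 := by
        rw [Nat.card_eq_fintype_card]; decide
      have h3 : 3 ∣ 2 ^ k := by rw [← hk, Nat.card_congr e.toEquiv, h12]; norm_num
      exact absurd (Nat.prime_three.dvd_of_dvd_pow h3) (by norm_num)
  · intro hcase H hn hq
    obtain ⟨S⟩ : Nonempty (Sylow 2 H) := inferInstance
    haveI := hn S
    obtain ⟨x, hx, -, hcard⟩ := H63.exists_gen S (hq S)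
    obtain ⟨P1, hP1⟩ :=
      (S.isPGroup'.map H.subtype : IsPGroup 2 ((S : Subgroup H).map H.subtype)).exists_le_sylow
    obtain ⟨g, rfl⟩ := MulAction.exists_smul_eq G P P1
    have hmemP : ∀ v : H, v ∈ (S : Subgroup H) → g⁻¹ * (v : G) * g ∈ (P : Subgroup G) := fun v hv => by
      have := hP1 (mem_map_of_mem H.subtype hv)
      rw [Sylow.coe_subgroup_smul, Subgroup.mem_pointwise_smul_iff_inv_smul_mem] at this
      simpa [MulAut.smul_def, mul_assoc] using this
    let f : (S : Subgroup H) →* (P : Subgroup G) := MonoidHom.mk'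
      (fun v => ⟨g⁻¹ * ((v : H) : G) * g, hmemP _ v.2⟩)
      fun v w => Subtype.ext (by simp [mul_assoc])
    have hf : Function.Injective f := fun v w e => Subtype.ext (Subtype.ext (by
      have e' := congrArg Subtype.val e
      simpa [f] using e'))
    have hcyccase : IsCyclic (S : Subgroup H) → IsCyclic H := by
      intro hS
      obtain ⟨c, hc⟩ := hS.exists_generator
      have hgen : zpowers (c : H) = (S : Subgroup H) := by
        refine le_antisymm (zpowers_le.mpr c.2) fun v hv => ?_
        obtain ⟨i, hi⟩ := mem_zpowers_iff.mp (hc ⟨v, hv⟩)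
        exact ⟨i, congrArg Subtype.val hi⟩
      obtain ⟨b, hb⟩ := IsPGroup.iff_card.mp S.isPGroup'
      refine H63.isCyclic_of_commute S hgen hx hcard
        (commute_of_cyclic (b := b) (by rw [← hb, ← Nat.card_zpowers, hgen]) hx ?_)
      rw [hgen]
      exact (inferInstance : (S : Subgroup H).Normal).conj_mem _ c.2 x
    rcases hcase with hP | ⟨⟨n, hn1, ⟨e⟩⟩, hK⟩
    · haveI := hP
      exact Or.inl (hcyccase (isCyclic_of_injective f hf))
    by_cases hScyc : IsCyclic (S : Subgroup H)
    · exact Or.inl (hcyccase hScyc)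
    haveI : NeZero (2 ^ n) := ⟨(pow_pos two_pos n).ne'⟩
    let φ : (S : Subgroup H) →* DihedralGroup (2 ^ n) := e.toMonoidHom.comp f
    have hφ : Function.Injective φ := e.injective.comp hf
    let Rot : Subgroup (DihedralGroup (2 ^ n)) := zpowers (DihedralGroup.r 1)
    have hRot : ∀ a, a ∈ Rot ↔ ∃ i, a = DihedralGroup.r i := by
      intro a
      constructor
      · rintro ⟨i, rfl⟩; exact ⟨_, DihedralGroup.r_one_zpow i⟩
      · rintro ⟨i, rfl⟩
        exact ⟨i.val, by simp [DihedralGroup.r_one_pow]⟩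
    set R := Rot.comap φ with hR
    haveI : IsCyclic R := isCyclic_of_injective ((φ.comp R.subtype).codRestrict Rot fun r => r.2)
      fun a b eab => Subtype.ext (hφ (congrArg Subtype.val eab))
    obtain ⟨w, hw⟩ : ∃ w, w ∉ R := by
      by_contra hall
      push Not at hall
      exact hScyc (isCyclic_of_surjective R.subtype fun v => ⟨⟨v, hall v⟩, rfl⟩)
    have hsr : ∀ v, v ∉ R → ∃ i, φ v = DihedralGroup.sr i := fun v hv => by
      rcases hv' : φ v with i | i
      · exact absurd ((hRot _).mpr ⟨i, hv'⟩) hv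
      · exact ⟨i, rfl⟩
    obtain ⟨i, hi⟩ := hsr w hw
    have hw2 : w * w = 1 := hφ (by rw [map_mul, map_one, hi, DihedralGroup.sr_mul_self])
    obtain ⟨c, hc⟩ := IsCyclic.exists_generator (α := R)
    have hRc : R = zpowers (c : (S : Subgroup H)) := by
      refine le_antisymm (fun v hv => ?_) (zpowers_le.mpr c.2)
      obtain ⟨j, hj⟩ := mem_zpowers_iff.mp (hc ⟨v, hv⟩)
      exact ⟨j, congrArg Subtype.val hj⟩
    have hidx : R.index = 2 := by
      rw [index_eq_two_iff]
      refine ⟨w, fun v => ?_⟩
      by_cases hv : v ∈ R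
      · exact Or.inr ⟨hv, fun h => hw (by simpa using mul_mem (inv_mem hv) h)⟩
      · refine Or.inl ⟨?_, hv⟩
        obtain ⟨j, hj⟩ := hsr v hv
        show φ (v * w) ∈ Rot
        rw [map_mul, hj, hi, DihedralGroup.sr_mul_sr]
        exact (hRot _).mpr ⟨_, rfl⟩
    obtain ⟨j, hj⟩ := (hRot _).mp (show φ (c : (S : Subgroup H)) ∈ Rot from c.2)
    have hconj : w * c * w⁻¹ = (c : (S : Subgroup H))⁻¹ := hφ (by
      rw [map_mul, map_mul, map_inv, map_inv, hi, hj, DihedralGroup.inv_sr, DihedralGroup.sr_mul_r,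
        DihedralGroup.sr_mul_sr, DihedralGroup.inv_r]
      congr 1; ring)
    obtain ⟨b, hb⟩ := IsPGroup.iff_card.mp S.isPGroup'
    have hScard : Nat.card (S : Subgroup H) = 2 * orderOf (c : (S : Subgroup H)) := by
      have hcardR : Nat.card R = orderOf (c : (S : Subgroup H)) := by
        rw [← Nat.card_zpowers]
        exact congrArg (fun T : Subgroup (S : Subgroup H) => Nat.card T) hRc
      rw [← R.card_mul_index, hidx, hcardR, mul_comm]
    obtain ⟨b', -, hb'⟩ := (Nat.dvd_prime_pow Nat.prime_two).mp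
      (hb ▸ orderOf_dvd_natCard (c : (S : Subgroup H)))
    have hb1 : 1 ≤ b' := by
      by_contra hlt
      rw [show b' = 0 by omega, pow_zero] at hb'
      exact hScyc (isCyclic_of_prime_card (p := 2) (by rw [hScard, hb', mul_one]))
    set c' : H := ((c : (S : Subgroup H)) : H) with hc'
    set w' : H := (w : H) with hw'
    have hc'o : orderOf c' = 2 ^ b' := by rw [hc', Subgroup.orderOf_coe, hb']
    have hw'2 : w' * w' = 1 := congrArg Subtype.val hw2
    have hconj' : w' * c' * w'⁻¹ = c'⁻¹ := congrArg Subtype.val hconj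
    have hw'c : w' ∉ zpowers c' := by
      rintro ⟨l, hl⟩
      exact hw (hRc ▸ ⟨l, Subtype.ext hl⟩)
    -- the four-group
    set z : H := c' ^ 2 ^ (b' - 1) with hz
    have hzo : orderOf z = 2 := by
      rw [hz, orderOf_pow_of_dvd (pow_ne_zero _ two_ne_zero) (hc'o ▸ pow_dvd_pow 2 (Nat.sub_le b' 1)),
        hc'o, Nat.pow_div (Nat.sub_le b' 1) two_pos, show b' - (b' - 1) = 1 by omega, pow_one]
    have hz2 : z * z = 1 := by rw [← pow_two, ← hzo]; exact pow_orderOf_eq_one z
    have hzw : Commute z w' := by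
      have h1 : w' * z * w'⁻¹ = z := by
        rw [hz, ← conj_pow, hconj', inv_pow, ← hz]
        exact inv_eq_of_mul_eq_one_left hz2
      exact (mul_inv_eq_iff_eq_mul.mp h1).symm
    have hz1 : z ≠ 1 := fun h => by rw [h, orderOf_one] at hzo; exact absurd hzo (by norm_num)
    have hw1 : w' ≠ 1 := fun h => hw'c (h ▸ one_mem _)
    have hzw1 : z ≠ w' := fun h => hw'c (h ▸ pow_mem (mem_zpowers c') _)
    have hfin : ∀ y : H, (orderOf y).Coprime 2 → Commute y z → Commute y w' → y = 1 := by
      intro y hy hyz hyw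
      have hzS : z ∈ (S : Subgroup H) := pow_mem (c : (S : Subgroup H)).2 _
      set zG : G := g⁻¹ * (z : G) * g with hzG
      set wG : G := g⁻¹ * (w' : G) * g with hwG
      have hzG2 : zG * zG = 1 := by
        have := congrArg (fun v : H => g⁻¹ * (v : G) * g) hz2
        simpa [zG, mul_assoc] using this
      have hwG2 : wG * wG = 1 := by
        have := congrArg (fun v : H => g⁻¹ * (v : G) * g) hw'2
        simpa [wG, mul_assoc] using this
      have hzwG : zG * wG = wG * zG := by
        have := congrArg (fun v : H => g⁻¹ * (v : G) * g) hzw.eq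
        simpa [zG, wG, mul_assoc] using this
      let K : Subgroup G :=
        { carrier := {1, zG, wG, zG * wG}
          one_mem' := by simp
          mul_mem' := by
            have e1 : zG * (zG * wG) = wG := by rw [← mul_assoc, hzG2, one_mul]
            have e2 : wG * (zG * wG) = zG := by rw [hzwG, ← mul_assoc, hwG2, one_mul]
            have e3 : zG * wG * zG = wG := by rw [hzwG, mul_assoc, hzG2, mul_one]
            have e4 : zG * wG * wG = zG := by rw [mul_assoc, hwG2, mul_one]
            have e5 : zG * wG * (zG * wG) = 1 := by rw [← mul_assoc, e3, hwG2]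
            rintro a c (rfl | rfl | rfl | rfl) (rfl | rfl | rfl | rfl) <;>
              simp [hzG2, hwG2, e1, e2, e3, e4, e5, ← hzwG]
          inv_mem' := by
            rintro a (rfl | rfl | rfl | rfl)
            · simp
            · simp [inv_eq_of_mul_eq_one_left hzG2]
            · simp [inv_eq_of_mul_eq_one_left hwG2]
            · simp [mul_inv_rev, inv_eq_of_mul_eq_one_left hzG2, inv_eq_of_mul_eq_one_left hwG2, ← hzwG] }
      have hKP : K ≤ P := by
        rintro a (rfl | rfl | rfl | rfl)
        · exact one_mem _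
        · exact hmemP z hzS
        · exact hmemP w' w.2
        · exact mul_mem (hmemP z hzS) (hmemP w' w.2)
      have hK4 : Nat.card K = 4 := by
        have hne : ∀ u v : H, u ≠ v → g⁻¹ * (u : G) * g ≠ g⁻¹ * (v : G) * g := fun u v huv h =>
          huv (Subtype.ext (by simpa using h))
        have a1 : (1 : G) ≠ zG := by simpa [zG] using hne 1 z hz1.symm
        have a2 : (1 : G) ≠ wG := by simpa [wG] using hne 1 w' hw1.symm
        have a3 : zG ≠ wG := hne z w' hzw1
        have a4 : (1 : G) ≠ zG * wG := fun h => a3 (by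
          rw [← inv_eq_of_mul_eq_one_left hwG2]; exact eq_inv_of_mul_eq_one_left h.symm)
        have a5 : zG ≠ zG * wG := fun h => a2 (left_eq_mul.mp h).symm
        have a6 : wG ≠ zG * wG := fun h => a1 (right_eq_mul.mp h).symm
        show Nat.card ↥({1, zG, wG, zG * wG} : Set G) = 4
        rw [Nat.card_coe_set_eq, Set.ncard_insert_of_notMem (by simp [a1, a2, a4]),
          Set.ncard_insert_of_notMem (by simp [a3, a5]), Set.ncard_insert_of_notMem (by simp [a6]),
          Set.ncard_singleton]
      have hK2 : ∀ k ∈ K, k ^ 2 = 1 := by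
        rintro a (rfl | rfl | rfl | rfl)
        · simp
        · rw [pow_two, hzG2]
        · rw [pow_two, hwG2]
        · rw [pow_two, mul_assoc, ← mul_assoc wG, ← hzwG, mul_assoc zG wG wG, hwG2, mul_one, hzG2]
      have hyK : g⁻¹ * (y : G) * g ∈ K := by
        rw [← hK K hKP hK4 hK2, mem_centralizer_iff]
        have e1 : Commute (g⁻¹ * (y : G) * g) zG := by
          have := congrArg (fun v : H => g⁻¹ * (v : G) * g) hyz.eq
          simpa [zG, Commute, SemiconjBy, mul_assoc] using this
        have e2 : Commute (g⁻¹ * (y : G) * g) wG := by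
          have := congrArg (fun v : H => g⁻¹ * (v : G) * g) hyw.eq
          simpa [wG, Commute, SemiconjBy, mul_assoc] using this
        rintro a (rfl | rfl | rfl | rfl)
        · simp
        · exact e1.eq.symm
        · exact e2.eq.symm
        · exact (e1.mul_right e2).eq.symm
      have h3 : y ^ 2 = 1 := by
        apply Subtype.ext
        have := hK2 _ hyK
        rw [pow_two] at this ⊢
        simp [mul_assoc, inv_mul_eq_one, mul_eq_one_iff_eq_inv] at this
        simpa [mul_eq_one_iff_eq_inv] using this.symm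
      rw [← orderOf_eq_one_iff]
      exact Nat.eq_one_of_dvd_coprimes hy dvd_rfl (orderOf_dvd_of_pow_eq_one h3)
    have hdih : x = 1 → IsCyclic H ∨ (∃ m : ℕ, Nonempty (H ≃* DihedralGroup (2 ^ m))) ∨
        Nonempty (H ≃* alternatingGroup (Fin 4)) := by
      intro hx1
      haveI : NeZero (2 ^ b') := ⟨(pow_pos two_pos b').ne'⟩
      refine Or.inr (Or.inl ⟨b', PGroups.nonempty_mulEquiv_dihedral hc'o hw'c
        (by rw [pow_two]; exact hw'2) hconj' ?_⟩)
      rw [hcard, hx1, orderOf_one, mul_one, hScard, hb']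
    have hnorm : ∀ v : (S : Subgroup H), x * (v : H) * x⁻¹ ∈ (S : Subgroup H) :=
      fun v => (inferInstance : (S : Subgroup H).Normal).conj_mem _ v.2 x
    have hdec : ∀ v : H, v ∈ (S : Subgroup H) → v ∈ zpowers c' ∨ v * w' ∈ zpowers c' := by
      intro v hv
      have key : ∀ u : (S : Subgroup H), u ∈ R → (u : H) ∈ zpowers c' := fun u hu => by
        rw [hRc] at hu
        obtain ⟨l, rfl⟩ := mem_zpowers_iff.mp hu
        exact ⟨l, by simp [c']⟩
      by_cases hvR : (⟨v, hv⟩ : (S : Subgroup H)) ∈ R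
      · exact Or.inl (key _ hvR)
      · refine Or.inr (key (⟨v, hv⟩ * w) ?_)
        rw [mul_mem_iff_of_index_two hidx]
        tauto
    by_cases hb2 : 2 ≤ b'
    · -- the rotations are characteristic
      have hxc : Commute x c' := by
        refine commute_of_cyclic hc'o hx ?_
        rcases hdec _ (hnorm (c : (S : Subgroup H))) with h | h
        · exact h
        · exfalso
          obtain ⟨l, hl⟩ := mem_zpowers_iff.mp h
          have h1 : (x * c' * x⁻¹) * (x * c' * x⁻¹) = 1 := by
            have e0 : x * c' * x⁻¹ = c' ^ l * w' := by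
              rw [hl, mul_assoc _ w' w', hw'2, mul_one]
            rw [e0]
            calc c' ^ l * w' * (c' ^ l * w') = c' ^ l * (w' * c' ^ l * w'⁻¹) * (w' * w') := by group
              _ = 1 := by rw [← conj_zpow, hconj', hw'2, inv_zpow, mul_inv_cancel, one_mul]
          have h2 : c' ^ 2 = 1 := by
            rw [pow_two]
            have e1 : x * (c' * c') * x⁻¹ = 1 := by rw [← h1]; group
            simpa [mul_inv_eq_one] using e1
          have h3 := Nat.le_of_dvd two_pos (hc'o ▸ orderOf_dvd_of_pow_eq_one h2)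
          have : 2 ^ 2 ≤ 2 ^ b' := Nat.pow_le_pow_right two_pos hb2
          omega
      have hxw : Commute x w' := by
        rcases hdec _ (hnorm w) with h | h
        · exfalso
          obtain ⟨l, hl⟩ := mem_zpowers_iff.mp h
          apply hw'c
          refine ⟨l, ?_⟩
          show c' ^ l = w'
          calc c' ^ l = x⁻¹ * (c' ^ l) * x := by rw [mul_assoc, ← (hxc.zpow_right l).eq, inv_mul_cancel_left]
            _ = w' := by rw [hl, hw']; group
        · obtain ⟨l, hl⟩ := mem_zpowers_iff.mp h
          have hit : ∀ m : ℕ, x ^ m * w' * (x ^ m)⁻¹ = c' ^ (l * m) * w' := by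
            intro m
            induction m with
            | zero => simp
            | succ m ih =>
              have e0 : x * w' * x⁻¹ = c' ^ l * w' := by rw [hl, mul_assoc _ w' w', hw'2, mul_one]
              calc x ^ (m + 1) * w' * (x ^ (m + 1))⁻¹ = x * (x ^ m * w' * (x ^ m)⁻¹) * x⁻¹ := by
                    rw [pow_succ']; group
                _ = (x * c' ^ (l * m)) * x⁻¹ * (x * w' * x⁻¹) := by rw [ih]; group
                _ = c' ^ (l * ((m + 1 : ℕ) : ℤ)) * w' := by
                    rw [(hxc.zpow_right _).eq, mul_inv_cancel_right, e0, ← mul_assoc, ← zpow_add]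
                    push_cast; ring_nf
          have h1 : c' ^ (l * (orderOf x : ℤ)) = 1 := by
            have := hit (orderOf x)
            rw [pow_orderOf_eq_one, one_mul, inv_one, mul_one] at this
            exact (right_eq_mul.mp this)
          have h2 : c' ^ l = 1 := by
            rw [zpow_mul, zpow_natCast] at h1
            rw [← orderOf_eq_one_iff]
            have h3 : orderOf (c' ^ l) ∣ 2 ^ b' := hc'o ▸ by
              rw [← Nat.card_zpowers, ← Nat.card_zpowers]
              exact card_dvd_of_le (zpowers_le.mpr (zpow_mem (mem_zpowers c') l))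
            exact Nat.eq_one_of_dvd_coprimes (hx.pow_right b') (orderOf_dvd_of_pow_eq_one h1) h3
          have e0 : x * w' * x⁻¹ = w' := by
            calc x * w' * x⁻¹ = c' ^ l * w' := by rw [hl, mul_assoc _ w' w', hw'2, mul_one]
              _ = w' := by rw [h2, one_mul]
          exact mul_inv_eq_iff_eq_mul.mp e0
      exact hdih (hfin x hx (hxc.pow_right _) hxw)
    · have hb1' : b' = 1 := by omega
      have hzc : z = c' := by rw [hz, hb1']; simp
      have hmem4 : ∀ v : (S : Subgroup H), (v : H) ≠ 1 →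
          (v : H) = z ∨ (v : H) = w' ∨ (v : H) = z * w' := by
        intro v hv1
        have hcases : ∀ u : H, u ∈ zpowers c' → u = 1 ∨ u = z := by
          rintro u ⟨l, rfl⟩
          change c' ^ l = 1 ∨ c' ^ l = z
          rw [← hzc]
          rcases Int.even_or_odd' l with ⟨m, rfl | rfl⟩
          · left; rw [zpow_mul, zpow_ofNat, pow_two, hz2, one_zpow]
          · right; rw [zpow_add_one, zpow_mul, zpow_ofNat, pow_two, hz2, one_zpow, one_mul]
        rcases hdec _ v.2 with h | h <;> rcases hcases _ h with h' | h'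
        · exact absurd h' hv1
        · exact Or.inl h'
        · right; left
          rw [← inv_eq_of_mul_eq_one_left hw'2]
          exact eq_inv_of_mul_eq_one_left h'
        · right; right
          rw [← h', mul_assoc, hw'2, mul_one]
      have hne : ∀ v : H, v ≠ 1 → x * v * x⁻¹ ≠ 1 := fun v hv h => hv (conj_eq_one_iff.mp h)
      rcases fourCases hx hz2 hw'2 hzw.eq hz1 hw1 hzw1
          (hmem4 ⟨_, hnorm ⟨z, pow_mem (c : (S : Subgroup H)).2 _⟩⟩ (hne z hz1))
          (hmem4 ⟨_, hnorm w⟩ (hne w' hw1)) with ⟨h1, h2⟩ | ⟨h1, h2, n1, n2, n3⟩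
      · exact hdih (hfin x hx h1 h2)
      · have hx3 : x ^ 3 = 1 := hfin _ (hx.coprime_dvd_left (orderOf_pow_dvd 3)) h1 h2
        have hxo : orderOf x = 3 := orderOf_eq_prime hx3 fun h => n1 (h ▸ Commute.one_left z)
        have h12 : Nat.card H = 12 := by rw [hcard, hScard, hb', hb1', hxo]; norm_num
        refine Or.inr (Or.inr (S0228.result h12 fun v hv hvc => ?_))
        have hvS : v ∈ (S : Subgroup H) := by
          obtain ⟨Q, hQ⟩ := (IsPGroup.of_card (n := 1) (by rw [Nat.card_zpowers, hv, pow_one]) :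
            IsPGroup 2 (zpowers v)).exists_le_sylow
          letI : Unique (Sylow 2 H) := Sylow.unique_of_normal S inferInstance
          rw [Subsingleton.elim S Q]
          exact hQ (mem_zpowers v)
        have hvx : Commute x v := mem_center_iff.mp hvc x
        rcases hmem4 ⟨v, hvS⟩ (fun h : v = 1 => by rw [h, orderOf_one] at hv; exact absurd hv (by norm_num))
          with h | h | h
        · exact n1 (h ▸ hvx)
        · exact n2 (h ▸ hvx)
        · exact n3 (h ▸ hvx)

end Cfsg.Agent.S4083
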