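import Mathlib
import Cfsg.Statements.S4084

set_option autoImplicit false
open Cfsg

namespace Cfsg.Agent.S4084

open Subgroup

/-- One direction: an element of order `p q` in `G` yields one in `H`. -/
theorem half {G H : Type*} [Group G] [Finite G] [Group H] [Finite H] (e : G ≃ H)
    (he : ∀ x y : G, Commute x y ↔ Commute (e x) (e y))
    {p q : ℕ} (hp : p.Prime) (hq : q.Prime) (hpq : p ≠ q) (g : G) (hg : orderOf g = p * q) :
    ∃ h : H, orderOf h = p * q := by
  classical
  haveI : Finite (Subgroup G) := Finite.of_injective _ SetLike.coe_injective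
  -- a maximal abelian subgroup containing g
  obtain ⟨A, ⟨hAab, hgA⟩, hAmax⟩ :=
    (Set.toFinite {A : Subgroup G | (∀ a ∈ A, ∀ b ∈ A, Commute a b) ∧ g ∈ A}).exists_maximal
      ⟨zpowers g, fun a ha b hb => by
        obtain ⟨i, rfl⟩ := mem_zpowers_iff.1 ha
        obtain ⟨j, rfl⟩ := mem_zpowers_iff.1 hb
        exact Commute.zpow_zpow_self g i j, mem_zpowers g⟩
  -- anything commuting with A lies in A
  have hA : ∀ x : G, (∀ a ∈ A, Commute x a) → x ∈ A := by
    intro x hx
    have hab : ∀ a ∈ A ⊔ zpowers x, ∀ b ∈ A ⊔ zpowers x, Commute a b := by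
      have h1 : A ⊔ zpowers x = closure ((A : Set G) ∪ {x}) := by
        rw [Subgroup.closure_union, Subgroup.closure_eq, zpowers_eq_closure]
      have hc := isMulCommutative_closure (k := (A : Set G) ∪ {x}) (by
        rintro a (ha | ha) b (hb | hb)
        · exact hAab a ha b hb
        · rw [Set.mem_singleton_iff.1 hb]; exact (hx a ha).symm.eq
        · rw [Set.mem_singleton_iff.1 ha]; exact (hx b hb).eq
        · rw [Set.mem_singleton_iff.1 ha, Set.mem_singleton_iff.1 hb])
      intro a ha b hb
      rw [h1] at ha hb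
      exact congrArg Subtype.val
        (mul_comm' (⟨a, ha⟩ : closure ((A : Set G) ∪ {x})) ⟨b, hb⟩)
    exact hAmax ⟨hab, mem_sup_left hgA⟩ le_sup_left (mem_sup_right (mem_zpowers x))
  -- the image of A is a subgroup
  have hmem : ∀ z : H, (∀ a ∈ A, Commute z (e a)) → e.symm z ∈ A := fun z hz =>
    hA _ fun a ha => (he _ _).2 (by rw [e.apply_symm_apply]; exact hz a ha)
  let B : Subgroup H :=
    { carrier := {z | e.symm z ∈ A}
      one_mem' := hmem 1 fun _ _ => Commute.one_left _
      mul_mem' := fun {y z} hy hz => hmem _ fun a ha => by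
        have h1 := (he _ _).1 (hAab _ hy a ha)
        have h2 := (he _ _).1 (hAab _ hz a ha)
        rw [e.apply_symm_apply] at h1 h2
        exact h1.mul_left h2
      inv_mem' := fun {y} hy => hmem _ fun a ha => by
        have h1 := (he _ _).1 (hAab _ hy a ha)
        rw [e.apply_symm_apply] at h1
        exact h1.inv_left }
  have hcard : Nat.card B = Nat.card A :=
    Nat.card_congr
      { toFun := fun z => ⟨e.symm z, z.2⟩
        invFun := fun a => ⟨e a, show e.symm (e a) ∈ A by rw [e.symm_apply_apply]; exact a.2⟩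
        left_inv := fun z => by simp
        right_inv := fun a => by simp }
  have hdvd : p * q ∣ Nat.card B := by rw [hcard, ← hg]; exact orderOf_dvd_natCard A hgA
  haveI : Fact p.Prime := ⟨hp⟩
  haveI : Fact q.Prime := ⟨hq⟩
  obtain ⟨x, hx⟩ := exists_prime_orderOf_dvd_card' p ((Dvd.intro q rfl).trans hdvd)
  obtain ⟨y, hy⟩ := exists_prime_orderOf_dvd_card' q ((Dvd.intro_left p rfl).trans hdvd)
  rw [← Subgroup.orderOf_coe] at hx hy
  have hcomm : Commute (x : H) (y : H) := by
    have := (he _ _).1 (hAab _ x.2 _ y.2)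
    rwa [e.apply_symm_apply, e.apply_symm_apply] at this
  refine ⟨(x : H) * y, ?_⟩
  rw [hcomm.orderOf_mul_eq_mul_orderOf_of_coprime
    (by rw [hx, hy]; exact (Nat.coprime_primes hp hq).2 hpq), hx, hy]

theorem result {G H : Type*} [Group G] [Finite G] [Group H] [Finite H] (e : G ≃ H)
    (he : ∀ x y : G, Commute x y ↔ Commute (e x) (e y))
    {p q : ℕ} (hp : p.Prime) (hq : q.Prime) (hpq : p ≠ q) :
    (∃ g : G, orderOf g = p * q) ↔ (∃ h : H, orderOf h = p * q) := by
  refine ⟨fun ⟨g, hg⟩ => half e he hp hq hpq g hg, fun ⟨h, hh⟩ => half e.symm (fun x y => ?_) hp hq hpq h hh⟩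
  rw [he, e.apply_symm_apply, e.apply_symm_apply]

end Cfsg.Agent.S4084
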