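import Cfsg.Statements.S4085
import Mathlib

set_option autoImplicit false
open Cfsg

namespace Cfsg.Agent.S4085

variable {G H : Type*} [Group G] [Finite G] [Group H] [Finite H]

/-- Adjacency in the power graph. -/
def PowAdj (x y : G) : Prop := x ∈ Subgroup.zpowers y ∨ y ∈ Subgroup.zpowers x

theorem PowAdj.symm {x y : G} (h : PowAdj x y) : PowAdj y x := h.elim Or.inr Or.inl

omit [Finite G] in
theorem orderOf_dvd_of_mem {x y : G} (h : x ∈ Subgroup.zpowers y) : orderOf x ∣ orderOf y :=
  orderOf_dvd_of_mem_zpowers h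

theorem PowAdj.dvd {x y : G} (h : PowAdj x y) : orderOf x ∣ orderOf y ∨ orderOf y ∣ orderOf x :=
  h.imp orderOf_dvd_of_mem orderOf_dvd_of_mem

theorem mem_zpowers_of_dvd {g x k : G} (hx : x ∈ Subgroup.zpowers g) (hk : k ∈ Subgroup.zpowers g)
    (h : orderOf x ∣ orderOf k) : x ∈ Subgroup.zpowers k := by
  classical
  let C := Subgroup.zpowers g
  haveI := Fintype.ofFinite C
  let s := Finset.univ.filter (fun z : C => z ^ orderOf k = 1)
  let t := Finset.univ.filter (fun z : C => z ∈ Subgroup.zpowers (⟨k, hk⟩ : C))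
  have hts : t ⊆ s := by
    intro z hz
    simp only [t, Finset.mem_filter, Finset.mem_univ, true_and] at hz
    simp only [s, Finset.mem_filter, Finset.mem_univ, true_and]
    rw [← orderOf_dvd_iff_pow_eq_one, ← Subgroup.orderOf_mk k hk]
    exact orderOf_dvd_of_mem_zpowers hz
  have hcard : s.card ≤ t.card := by
    refine (IsCyclic.card_pow_eq_one_le (α := C) (orderOf_pos k)).trans ?_
    rw [← Fintype.card_subtype]
    rw [← Nat.card_eq_fintype_card]
    exact le_of_eq (by rw [Nat.card_zpowers, Subgroup.orderOf_mk])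
  have hxs : (⟨x, hx⟩ : C) ∈ s := by
    simp only [s, Finset.mem_filter, Finset.mem_univ, true_and]
    rw [← orderOf_dvd_iff_pow_eq_one, Subgroup.orderOf_mk]
    exact h
  rw [← Finset.eq_of_subset_of_card_le hts hcard] at hxs
  simp only [t, Finset.mem_filter, Finset.mem_univ, true_and] at hxs
  obtain ⟨i, hi⟩ := Subgroup.mem_zpowers_iff.mp hxs
  exact Subgroup.mem_zpowers_iff.mpr ⟨i, congrArg Subtype.val hi⟩

theorem powAdj_of_dvd {g x k : G} (hx : x ∈ Subgroup.zpowers g) (hk : k ∈ Subgroup.zpowers g)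
    (h : orderOf x ∣ orderOf k ∨ orderOf k ∣ orderOf x) : PowAdj x k :=
  h.imp (mem_zpowers_of_dvd hx hk) (mem_zpowers_of_dvd hk hx)

theorem exists_order {g : G} {e : ℕ} (h : e ∣ orderOf g) :
    ∃ x ∈ Subgroup.zpowers g, orderOf x = e :=
  ⟨g ^ (orderOf g / e), pow_mem (Subgroup.mem_zpowers g) _, orderOf_pow_orderOf_div (orderOf_pos g).ne' h⟩

theorem zpowers_eq_of_mem {x y : G} (hy : y ∈ Subgroup.zpowers x) (h : orderOf y = orderOf x) :
    Subgroup.zpowers y = Subgroup.zpowers x :=
  Subgroup.eq_of_le_of_card_ge (Subgroup.zpowers_le.mpr hy) (by rw [Nat.card_zpowers, Nat.card_zpowers, h])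

theorem ncard_gens (y : G) :
    {z : G | z ∈ Subgroup.zpowers y ∧ orderOf z = orderOf y}.ncard = (orderOf y).totient := by
  classical
  haveI := Fintype.ofFinite G
  haveI := Fintype.ofFinite (Subgroup.zpowers y)
  have h := IsCyclic.card_orderOf_eq_totient (α := Subgroup.zpowers y) (d := orderOf y)
    (by rw [← Nat.card_eq_fintype_card, Nat.card_zpowers])
  rw [← h, ← Fintype.card_subtype, ← Nat.card_eq_fintype_card, ← Nat.card_coe_set_eq]
  exact Nat.card_congr
    { toFun := fun z => ⟨⟨z.1, z.2.1⟩, by rw [Subgroup.orderOf_mk]; exact z.2.2⟩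
      invFun := fun z => ⟨z.1.1, z.1.2, by rw [Subgroup.orderOf_coe]; exact z.2⟩
      left_inv := fun _ => rfl
      right_inv := fun _ => rfl }

/-- One direction of the statement. -/
theorem forward (e : G ≃ H) (he : ∀ x y : G, PowAdj x y ↔ PowAdj (e x) (e y))
    {p q : ℕ} (hp : p.Prime) (hq : q.Prime) (hpq : p ≠ q) (hG : ∃ g : G, orderOf g = p * q) :
    ∃ h : H, orderOf h = p * q := by
  classical
  have hcop : p.Coprime q := (Nat.coprime_primes hp hq).mpr hpq
  have finish : ∀ h : H, p ∣ orderOf h → q ∣ orderOf h → ∃ h' : H, orderOf h' = p * q := by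
    intro h h1 h2
    obtain ⟨x, -, hx⟩ := exists_order (g := h) (hcop.mul_dvd_of_dvd_of_dvd h1 h2)
    exact ⟨x, hx⟩
  obtain ⟨g1, hg1⟩ := hG
  by_cases huH : ∃ h : H, h ≠ 1 ∧ ∀ z, PowAdj h z
  · obtain ⟨h, hh1, hu⟩ := huH
    have key : ∀ r : ℕ, r.Prime → r ∣ Nat.card G → r ∣ orderOf h := by
      intro r hr hd
      haveI : Fact r.Prime := ⟨hr⟩
      obtain ⟨x, hx⟩ := exists_prime_orderOf_dvd_card' r (Nat.card_congr e ▸ hd : r ∣ Nat.card H)
      rcases hu x with h | h
      · have := orderOf_dvd_of_mem h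
        rw [hx] at this
        rcases (Nat.dvd_prime hr).mp this with h' | h'
        · exact absurd (orderOf_eq_one_iff.mp h') hh1
        · exact h'.symm ▸ dvd_rfl
      · exact hx ▸ orderOf_dvd_of_mem h
    have hd : p * q ∣ Nat.card G := hg1 ▸ orderOf_dvd_natCard g1
    exact finish h (key p hp (dvd_of_mul_right_dvd hd)) (key q hq (dvd_of_mul_left_dvd hd))
  push Not at huH
  have he1 : e 1 = 1 := by
    by_contra hne
    obtain ⟨z, hz⟩ := huH _ hne
    obtain ⟨w, rfl⟩ := e.surjective z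
    exact hz ((he 1 w).mp (Or.inl (one_mem _)))
  obtain ⟨g, hgm, hgmax⟩ := Set.Finite.exists_maximalFor orderOf {z : G | p * q ∣ orderOf z}
    (Set.toFinite _) ⟨g1, hg1 ▸ dvd_rfl⟩
  set m := orderOf g with hm
  have hpm : p ∣ m := dvd_trans (dvd_mul_right _ _) hgm
  have hqm : q ∣ m := dvd_trans (dvd_mul_left _ _) hgm
  have hm0 : m ≠ 0 := (orderOf_pos g).ne'
  -- the closed neighbourhood of `g`
  have hN : ∀ z, PowAdj g z ↔ z ∈ Subgroup.zpowers g := by
    refine fun z => ⟨fun h => h.elim (fun h => ?_) id, Or.inr⟩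
    have hd := orderOf_dvd_of_mem h
    have heq : orderOf g = orderOf z :=
      le_antisymm (Nat.le_of_dvd (orderOf_pos z) hd) (hgmax (dvd_trans hgm hd) (Nat.le_of_dvd (orderOf_pos z) hd))
    exact zpowers_eq_of_mem h heq ▸ Subgroup.mem_zpowers z
  -- universal vertices of the neighbourhood
  have huniv : ∀ x ∈ Subgroup.zpowers g, (∀ k ∈ Subgroup.zpowers g, PowAdj x k) → x = 1 ∨ orderOf x = m := by
    intro x hx hxu
    by_contra hcon
    push Not at hcon
    have hdx : orderOf x ∣ m := orderOf_dvd_of_mem hx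
    obtain ⟨s, hs, hsd⟩ := Nat.exists_prime_and_dvd (n := m / orderOf x) (fun h => hcon.2
      (by rw [← Nat.div_mul_cancel hdx, h, one_mul]))
    have hmul : orderOf x * s ∣ m := by
      conv_rhs => rw [← Nat.mul_div_cancel' hdx]
      exact Nat.mul_dvd_mul_left _ hsd
    have hsm : s ∣ m := dvd_of_mul_left_dvd hmul
    obtain ⟨k, hk, hko⟩ := exists_order (g := g) (Nat.ordProj_dvd m s)
    rcases (hxu k hk).dvd with h | h
    · rw [hko] at h
      obtain ⟨j, -, hj⟩ := (Nat.dvd_prime_pow hs).mp h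
      obtain ⟨r, hr, hrm, hrs⟩ : ∃ r : ℕ, r.Prime ∧ r ∣ m ∧ r ≠ s := by
        by_cases h : p = s
        · exact ⟨q, hq, hqm, fun h' => hpq (h.trans h'.symm)⟩
        · exact ⟨p, hp, hpm, h⟩
      obtain ⟨k, hk, hko⟩ := exists_order (g := g) hrm
      rcases (hxu k hk).dvd with h | h
      · rw [hko, hj] at h
        rcases (Nat.dvd_prime hr).mp h with h' | h'
        · exact hcon.1 (orderOf_eq_one_iff.mp (hj.trans h'))
        · have hj0 : j ≠ 0 := fun h0 => hr.one_lt.ne (by rw [← h', h0, pow_zero])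
          exact hrs ((Nat.prime_dvd_prime_iff_eq hs hr).mp (h' ▸ dvd_pow_self s hj0)).symm
      · rw [hko, hj] at h
        exact hrs ((Nat.prime_dvd_prime_iff_eq hr hs).mp (hr.dvd_of_dvd_pow h))
    · rw [hko] at h
      refine Nat.pow_succ_factorization_not_dvd hm0 hs ?_
      rw [pow_succ]
      exact dvd_trans (Nat.mul_dvd_mul_right h s) hmul
  -- transport to `H`
  set T : Set H := e '' {z | z ∈ Subgroup.zpowers g ∧ orderOf z = m} with hT
  obtain ⟨h, hhT, hhmax⟩ := Set.Finite.exists_maximalFor orderOf T (Set.toFinite _)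
    ⟨e g, g, ⟨Subgroup.mem_zpowers g, rfl⟩, rfl⟩
  obtain ⟨g', ⟨hg', hg'o⟩, hg'e⟩ := hhT
  set d := orderOf h with hd
  have hS : ∀ w : G, PowAdj h (e w) ↔ w ∈ Subgroup.zpowers g := by
    intro w
    rw [← hg'e, ← he, ← hN w]
    unfold PowAdj
    rw [zpowers_eq_of_mem hg' hg'o]
    refine or_congr ⟨fun h1 => ?_, fun h1 => ?_⟩ Iff.rfl
    · exact Subgroup.zpowers_le.mpr h1 (zpowers_eq_of_mem hg' hg'o ▸ Subgroup.mem_zpowers g)
    · exact Subgroup.zpowers_le.mpr h1 hg'
  -- vertices above `h` lie in the image of the neighbourhood and are not universal there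
  have hA : ∀ w ∈ Subgroup.zpowers g, e w ∉ Subgroup.zpowers h →
      h ∈ Subgroup.zpowers (e w) ∧ w ≠ 1 ∧ orderOf w ≠ m := by
    intro w hw hwh
    have hin : h ∈ Subgroup.zpowers (e w) := ((hS w).mpr hw).resolve_right hwh
    refine ⟨hin, fun h1 => hwh (by rw [h1, he1]; exact one_mem _), fun hwo => hwh ?_⟩
    have hle : orderOf h ≤ orderOf (e w) := Nat.le_of_dvd (orderOf_pos _) (orderOf_dvd_of_mem hin)
    have hge := hhmax (⟨w, ⟨hw, hwo⟩, rfl⟩ : e w ∈ T) hle
    exact zpowers_eq_of_mem hin (le_antisymm hle hge) ▸ Subgroup.mem_zpowers (e w)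
  by_cases hall : ∀ w ∈ Subgroup.zpowers g, e w ∈ Subgroup.zpowers h
  · -- the neighbourhood is exactly the cyclic group generated by `h`
    have hcard : orderOf h = m := by
      rw [← Nat.card_zpowers, hm, ← Nat.card_zpowers]
      refine Nat.card_congr (Equiv.subtypeEquiv e.symm fun z => ⟨fun hz => ?_, fun hz => ?_⟩)
      · exact (hS _).mp (by rw [e.apply_symm_apply]; exact Or.inr hz)
      · simpa using hall _ hz
    exact finish h (hcard ▸ hpm) (hcard ▸ hqm)
  push Not at hall
  obtain ⟨z, hzg, hzh⟩ := hall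
  exfalso
  obtain ⟨hzin, hz1, hzo⟩ := hA z hzg hzh
  -- a nonadjacent pair stays on one side
  have hside : ∀ u ∈ Subgroup.zpowers g, ∀ w ∈ Subgroup.zpowers g, ¬ PowAdj u w →
      (e u ∈ Subgroup.zpowers h ↔ e w ∈ Subgroup.zpowers h) := by
    have one_side : ∀ u ∈ Subgroup.zpowers g, ∀ w ∈ Subgroup.zpowers g, ¬ PowAdj u w →
        e u ∈ Subgroup.zpowers h → e w ∈ Subgroup.zpowers h := fun u _ w hw hn hu => by
      by_contra hwh
      exact hn ((he u w).mpr (Or.inl (Subgroup.zpowers_le.mpr (hA w hw hwh).1 hu)))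
    exact fun u hu w hw hn => ⟨one_side u hu w hw hn, one_side w hw u hu fun h => hn h.symm⟩
  -- so a vertex which is neither `1` nor a generator lies above `h`
  obtain ⟨k0, hk0, hk0o⟩ := exists_order (g := g) (Nat.ordProj_dvd m p)
  have hvp : p ∣ p ^ m.factorization p := dvd_pow_self p (hp.factorization_pos_of_dvd hm0 hpm).ne'
  have hsame : ∀ x ∈ Subgroup.zpowers g, x ≠ 1 → orderOf x ≠ m →
      (e x ∈ Subgroup.zpowers h ↔ e k0 ∈ Subgroup.zpowers h) := by
    intro x hx hx1 hxm
    have hxd : orderOf x ∣ m := orderOf_dvd_of_mem hx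
    by_cases hc1 : orderOf x ∣ p ^ m.factorization p
    · obtain ⟨k, hk, hko⟩ := exists_order (g := g) hqm
      have hnd : ∀ a : ℕ, a ∣ p ^ m.factorization p → a ≠ 1 → ¬ (a ∣ q ∨ q ∣ a) := by
        intro a ha ha1 hor
        rcases hor with h' | h'
        · rcases (Nat.dvd_prime hq).mp h' with h'' | h''
          · exact ha1 h''
          · exact hpq ((Nat.prime_dvd_prime_iff_eq hq hp).mp (hq.dvd_of_dvd_pow (h'' ▸ ha))).symm
        · exact hpq ((Nat.prime_dvd_prime_iff_eq hq hp).mp (hq.dvd_of_dvd_pow (h'.trans ha))).symm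
      have h1 := hside x hx k hk fun h => hnd _ hc1 (fun h1 => hx1 (orderOf_eq_one_iff.mp h1)) (hko ▸ h.dvd)
      have h2 := hside k0 hk0 k hk fun h => hnd _ dvd_rfl
        (fun h1 => hp.one_lt.ne' (Nat.dvd_one.mp (h1 ▸ hvp))) (by have := h.dvd; rwa [hko, hk0o] at this)
      exact h1.trans h2.symm
    by_cases hc2 : p ^ m.factorization p ∣ orderOf x
    · obtain ⟨s, hs, hsd⟩ := Nat.exists_prime_and_dvd (n := m / orderOf x) (fun h => hxm
        (by rw [← Nat.div_mul_cancel hxd, h, one_mul]))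
      have hmul : orderOf x * s ∣ m := by
        conv_rhs => rw [← Nat.mul_div_cancel' hxd]
        exact Nat.mul_dvd_mul_left _ hsd
      have hns : ¬ s ^ m.factorization s ∣ orderOf x := fun h' =>
        Nat.pow_succ_factorization_not_dvd hm0 hs (by
          rw [pow_succ]; exact dvd_trans (Nat.mul_dvd_mul_right h' s) hmul)
      have hsp : s ≠ p := fun h' => hns (h' ▸ hc2)
      obtain ⟨k, hk, hko⟩ := exists_order (g := g) (Nat.ordProj_dvd m s)
      have hps : ¬ p ∣ s ^ m.factorization s := fun h' =>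
        hsp ((Nat.prime_dvd_prime_iff_eq hp hs).mp (hp.dvd_of_dvd_pow h')).symm
      have h1 := hside x hx k hk fun h => (h.dvd).elim
        (fun h' => hps ((hvp.trans hc2).trans (hko ▸ h'))) (fun h' => hns (hko ▸ h'))
      have h2 := hside k0 hk0 k hk fun h => (h.dvd).elim
        (fun h' => hps (hvp.trans (by rwa [hko, hk0o] at h')))
        (fun h' => hns ((by rwa [hko, hk0o] at h' : s ^ m.factorization s ∣ p ^ m.factorization p).trans hc2))
      exact h1.trans h2.symm
    · exact hside x hx k0 hk0 fun h => (h.dvd).elim (fun h' => hc1 (hk0o ▸ h')) (fun h' => hc2 (hk0o ▸ h'))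
  have hk0out : e k0 ∉ Subgroup.zpowers h := fun h' => hzh ((hsame z hzg hz1 hzo).mpr h')
  have hout : ∀ x ∈ Subgroup.zpowers g, x ≠ 1 → orderOf x ≠ m → e x ∉ Subgroup.zpowers h :=
    fun x hx h1 h2 h3 => hk0out ((hsame x hx h1 h2).mp h3)
  -- hence all nontrivial powers of `h` are images of generators, and `h` has prime power order
  have hgen : ∀ w : G, e w ∈ Subgroup.zpowers h → w ≠ 1 → w ∈ Subgroup.zpowers g ∧ orderOf w = m := by
    intro w hw hw1
    have hwg : w ∈ Subgroup.zpowers g := (hS w).mp (Or.inr hw)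
    exact ⟨hwg, by_contra fun h' => hout w hwg hw1 h' hw⟩
  have hh1 : h ≠ 1 := fun h' => by
    have : g' = 1 := e.injective (by rw [hg'e, he1, h'])
    rw [this, orderOf_one] at hg'o
    exact hp.one_lt.ne' (Nat.dvd_one.mp (hg'o ▸ hpm))
  obtain ⟨r, hr, hrd⟩ := Nat.exists_prime_and_dvd (n := orderOf h) (fun h' => hh1 (orderOf_eq_one_iff.mp h'))
  have hdpow : orderOf h = r ^ (orderOf h).factorization r := by
    by_contra hne
    obtain ⟨s, hs, hsd⟩ := Nat.exists_prime_and_dvd
      (n := orderOf h / r ^ (orderOf h).factorization r) (fun h' => hne (by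
        have := Nat.ordProj_mul_ordCompl_eq_self (orderOf h) r
        rw [h', mul_one] at this
        exact this.symm))
    have hsr : s ≠ r := fun h' => Nat.not_dvd_ordCompl hr (orderOf_pos h).ne' (h' ▸ hsd)
    obtain ⟨u, hu, huo⟩ := exists_order (g := h) hrd
    obtain ⟨v, hv, hvo⟩ := exists_order (g := h) (hsd.trans (Nat.ordCompl_dvd _ _))
    obtain ⟨u', rfl⟩ := e.surjective u
    obtain ⟨v', rfl⟩ := e.surjective v
    have hu1 : u' ≠ 1 := fun h' => hr.one_lt.ne' (by rw [← huo, h', he1, orderOf_one])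
    have hv1 : v' ≠ 1 := fun h' => hs.one_lt.ne' (by rw [← hvo, h', he1, orderOf_one])
    obtain ⟨hu'g, hu'o⟩ := hgen u' hu hu1
    obtain ⟨hv'g, hv'o⟩ := hgen v' hv hv1
    rcases ((he u' v').mp (powAdj_of_dvd hu'g hv'g (Or.inl (by rw [hu'o, hv'o])))).dvd with h' | h' <;>
      rw [huo, hvo] at h'
    · exact hsr ((Nat.prime_dvd_prime_iff_eq hr hs).mp h').symm
    · exact hsr ((Nat.prime_dvd_prime_iff_eq hs hr).mp h')
  have hT' : m.totient + 1 = orderOf h := by
    have h1 : T = (Subgroup.zpowers h : Set H) \ {1} := by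
      ext y
      obtain ⟨w, rfl⟩ := e.surjective y
      rw [hT, e.injective.mem_set_image, Set.mem_sdiff, Set.mem_singleton_iff, ← he1, e.injective.eq_iff]
      refine ⟨fun hw => ⟨?_, fun h1 => ?_⟩, fun hw => hgen w hw.1 hw.2⟩
      · by_contra hwh
        exact (hA w hw.1 hwh).2.2 hw.2
      · rw [h1] at hw
        exact hp.one_lt.ne' (Nat.dvd_one.mp (by
          have h2 := hw.2
          rw [orderOf_one] at h2
          exact h2 ▸ hpm))
    have h2 := congrArg Set.ncard h1
    rw [hT, Set.ncard_image_of_injective _ e.injective, ncard_gens g] at h2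
    have h3 := Set.ncard_sdiff_singleton_add_one (show (1 : H) ∈ (Subgroup.zpowers h : Set H) from one_mem _)
      (Set.toFinite _)
    rw [← h2, ← Nat.card_coe_set_eq] at h3
    exact h3.trans (Nat.card_zpowers h)
  -- a vertex of the neighbourhood with few twins
  obtain ⟨t, ht, htm, ht3⟩ : ∃ t : ℕ, t.Prime ∧ t ∣ m ∧ 3 ≤ t := by
    rcases hp.two_le.lt_or_eq with h' | h'
    · exact ⟨p, hp, hpm, h'⟩
    · exact ⟨q, hq, hqm, lt_of_le_of_ne hq.two_le fun h'' => hpq (h'.symm.trans h'')⟩
  set c := m / t ^ m.factorization t with hc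
  have hcm : c ∣ m := Nat.ordCompl_dvd m t
  have hct : ¬ t ∣ c := Nat.not_dvd_ordCompl ht hm0
  have htc : (t ^ m.factorization t).Coprime c :=
    ((Nat.coprime_ordCompl ht hm0)).pow_left _
  have htv : t ∣ t ^ m.factorization t := dvd_pow_self t (ht.factorization_pos_of_dvd hm0 htm).ne'
  have hmeq : t ^ m.factorization t * c = m := Nat.ordProj_mul_ordCompl_eq_self m t
  have hc1 : c ≠ 1 := by
    intro h'
    rw [h', mul_one] at hmeq
    have e1 := (Nat.prime_dvd_prime_iff_eq hp ht).mp (hp.dvd_of_dvd_pow (hmeq ▸ hpm))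
    have e2 := (Nat.prime_dvd_prime_iff_eq hq ht).mp (hq.dvd_of_dvd_pow (hmeq ▸ hqm))
    exact hpq (e1.trans e2.symm)
  obtain ⟨x, hx, hxo⟩ := exists_order (g := g) hcm
  have hxm : orderOf x ≠ m := fun h' => hct (hxo ▸ h'.symm ▸ htm)
  obtain ⟨hyin, -, -⟩ := hA x hx (hout x hx (fun h' => hc1 (hxo ▸ h' ▸ orderOf_one)) hxm)
  have hsub : {z : H | z ∈ Subgroup.zpowers (e x) ∧ orderOf z = orderOf (e x)} ⊆
      e '' {z | z ∈ Subgroup.zpowers x ∧ orderOf z = orderOf x} := by
    rintro z ⟨hz, hzo⟩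
    obtain ⟨w, rfl⟩ := e.surjective z
    have hzeq := zpowers_eq_of_mem hz hzo
    have hwg : w ∈ Subgroup.zpowers g := (hS w).mp (Or.inl (hzeq.symm ▸ hyin))
    have htwin : ∀ k : G, PowAdj w k → PowAdj x k := by
      intro k hk
      refine (he x k).mpr ?_
      rcases (he w k).mp hk with h' | h'
      · exact Or.inl (Subgroup.zpowers_le.mpr h' (hzeq.symm ▸ Subgroup.mem_zpowers (e x)))
      · exact Or.inr (hzeq ▸ h')
    refine e.injective.mem_set_image.mpr ?_
    have hwo : orderOf w = c := by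
      rcases (htwin w (Or.inl (Subgroup.mem_zpowers w))).dvd with h' | h' <;> rw [hxo] at h'
      · obtain ⟨u, hu⟩ := h'
        by_contra hne
        have hu1 : u ≠ 1 := fun h'' => hne (by rw [hu, h'', mul_one])
        have htu : t ∣ orderOf w := by
          have hud : u ∣ t ^ m.factorization t := Nat.dvd_of_mul_dvd_mul_left
            (Nat.pos_of_dvd_of_pos hcm (orderOf_pos g)) (by
              rw [← hu, mul_comm c, hmeq]; exact orderOf_dvd_of_mem hwg)
          obtain ⟨j, -, hj⟩ := (Nat.dvd_prime_pow ht).mp hud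
          rw [hu]
          exact dvd_mul_of_dvd_right (hj ▸ dvd_pow_self t fun h0 => hu1 (by rw [hj, h0, pow_zero])) _
        obtain ⟨k, hk, hko⟩ := exists_order (g := g) htm
        rcases (htwin k (powAdj_of_dvd hwg hk (Or.inr (hko ▸ htu)))).dvd with h'' | h'' <;>
          rw [hxo, hko] at h''
        · rcases (Nat.dvd_prime ht).mp h'' with h3 | h3
          · exact hc1 h3
          · exact hct (h3 ▸ dvd_rfl)
        · exact hct h''
      · by_contra hne
        have hd2 : orderOf w * t ^ m.factorization t ∣ m := by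
          rw [mul_comm]; exact (Nat.mul_dvd_mul_left _ h').trans hmeq.dvd
        obtain ⟨k, hk, hko⟩ := exists_order (g := g) hd2
        rcases (htwin k (powAdj_of_dvd hwg hk (Or.inl (hko ▸ dvd_mul_right _ _)))).dvd with h'' | h'' <;>
          rw [hxo, hko] at h''
        · exact hne (Nat.dvd_antisymm h' (htc.symm.dvd_of_dvd_mul_right h''))
        · exact hct (htv.trans ((dvd_mul_left _ _).trans h''))
    exact ⟨mem_zpowers_of_dvd hwg hx (by rw [hwo, hxo]), hwo.trans hxo.symm⟩
  have hle := Set.ncard_le_ncard hsub (Set.toFinite _)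
  rw [ncard_gens (e x), Set.ncard_image_of_injective _ e.injective, ncard_gens x, hxo] at hle
  -- compare totients
  have hd1 : (orderOf h).totient ≤ c.totient := le_trans (Nat.le_of_dvd
    (Nat.totient_pos.mpr (orderOf_pos _)) (Nat.totient_dvd_of_dvd (orderOf_dvd_of_mem hyin))) hle
  have hphi : 2 * c.totient ≤ m.totient := by
    rw [← hmeq, Nat.totient_mul htc]
    refine Nat.mul_le_mul_right _ ?_
    rw [Nat.totient_prime_pow ht (ht.factorization_pos_of_dvd hm0 htm)]
    calc 2 ≤ t - 1 := by omega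
      _ ≤ _ := Nat.le_mul_of_pos_left _ (pow_pos ht.pos _)
  have hhalf : orderOf h ≤ 2 * (orderOf h).totient := by
    rw [hdpow, Nat.totient_prime_pow hr (hr.factorization_pos_of_dvd (orderOf_pos h).ne' hrd)]
    have hv := hr.factorization_pos_of_dvd (orderOf_pos h).ne' hrd
    calc r ^ (orderOf h).factorization r = r ^ ((orderOf h).factorization r - 1) * r := by
          rw [← pow_succ, Nat.sub_add_cancel hv]
      _ ≤ r ^ ((orderOf h).factorization r - 1) * (2 * (r - 1)) :=
          Nat.mul_le_mul_left _ (by have := hr.two_le; omega)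
      _ = 2 * (r ^ ((orderOf h).factorization r - 1) * (r - 1)) := by ring
  omega


/-- Let G and H be finite groups whose power graphs are isomorphic: there is a bijection e : G → H such that, for all x, y, one of x, y is a power of the other exactly when one of e(x), e(y) is a power of the other. Then G and H have the same prime graph: for distinct primes p, q, G has an element of order pq if and only if H does. -/
theorem result {G H : Type*} [Group G] [Finite G] [Group H] [Finite H] (e : G ≃ H)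
    (he : ∀ x y : G, (x ∈ Subgroup.zpowers y ∨ y ∈ Subgroup.zpowers x) ↔
      (e x ∈ Subgroup.zpowers (e y) ∨ e y ∈ Subgroup.zpowers (e x)))
    {p q : ℕ} (hp : p.Prime) (hq : q.Prime) (hpq : p ≠ q) :
    (∃ g : G, orderOf g = p * q) ↔ (∃ h : H, orderOf h = p * q) := by
  refine ⟨forward e he hp hq hpq, forward e.symm (fun x y => ?_) hp hq hpq⟩
  have h := he (e.symm x) (e.symm y)
  rw [e.apply_symm_apply, e.apply_symm_apply] at h
  exact h.symm

end Cfsg.Agent.S4085
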