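import Mathlib
import Cfsg.Statements.S4086

set_option autoImplicit false
open Cfsg

namespace Cfsg.Agent.S4086

open Subgroup

theorem result {G : Type*} [Group G] [Finite G] :
    (∀ g : G, g ≠ 1 → IsPrimePow (orderOf g)) ↔
    (∀ x y : G, IsCyclic ↥(Subgroup.closure ({x, y} : Set G)) → (x ∈ Subgroup.zpowers y ∨ y ∈ Subgroup.zpowers x)) := by
  constructor
  · intro h x y hcyc
    obtain ⟨⟨z, hz⟩, hgen⟩ := hcyc.exists_generator
    by_cases hz1 : z = 1
    · left
      obtain ⟨i, hi⟩ := mem_zpowers_iff.1 (hgen ⟨x, subset_closure (Set.mem_insert _ _)⟩)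
      have : x = 1 := by
        have := congrArg Subtype.val hi
        simp [hz1] at this
        exact this.symm
      rw [this]; exact one_mem _
    have hle : closure ({x, y} : Set G) ≤ zpowers z := by
      intro w hw
      obtain ⟨i, hi⟩ := mem_zpowers_iff.1 (hgen ⟨w, hw⟩)
      exact ⟨i, by simpa using congrArg Subtype.val hi⟩
    have hx : x ∈ zpowers z := hle (subset_closure (Set.mem_insert _ _))
    have hy : y ∈ zpowers z := hle (subset_closure (Set.mem_insert_of_mem _ rfl))
    obtain ⟨r, k, hr, -, hk⟩ := (h z hz1)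
    rw [← Nat.prime_iff] at hr
    -- subgroups of a cyclic group of prime power order are totally ordered
    have key : ∀ a b : G, a ∈ zpowers z → b ∈ zpowers z → orderOf a ∣ orderOf b → a ∈ zpowers b := by
      intro a b ha hb hd
      haveI : IsCyclic (zpowers z) := isCyclic_iff_exists_zpowers_eq_top.2
        ⟨⟨z, mem_zpowers z⟩, eq_top_iff.2 fun w _ => by
          obtain ⟨i, hi⟩ := mem_zpowers_iff.1 w.2
          exact ⟨i, Subtype.ext (by simpa using hi)⟩⟩
      have h1 : (⟨a, ha⟩ : zpowers z) ∈ zpowers (⟨b, hb⟩ : zpowers z) := by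
        classical
        have : Fintype (zpowers z) := Fintype.ofFinite _
        have hsub : (zpowers (⟨b, hb⟩ : zpowers z) : Set (zpowers z)).toFinset =
            Finset.univ.filter (fun w : zpowers z => w ^ orderOf b = 1) := by
          refine Finset.eq_of_subset_of_card_le ?_ ?_
          · intro w hw
            rw [Set.mem_toFinset] at hw
            obtain ⟨i, rfl⟩ := mem_zpowers_iff.1 hw
            simp only [Finset.mem_filter, Finset.mem_univ, true_and]
            rw [← zpow_natCast, ← zpow_mul, mul_comm, zpow_mul, zpow_natCast]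
            rw [show (⟨b, hb⟩ : zpowers z) ^ orderOf b = 1 from
              Subtype.ext (by rw [SubmonoidClass.coe_pow, pow_orderOf_eq_one]; rfl), one_zpow]
          · refine (IsCyclic.card_pow_eq_one_le (orderOf_pos b)).trans (le_of_eq ?_)
            rw [Set.toFinset_card, ← Nat.card_eq_fintype_card]
            exact ((Nat.card_zpowers _).trans (Subgroup.orderOf_mk b hb)).symm
        have hmem : (⟨a, ha⟩ : zpowers z) ∈
            Finset.univ.filter (fun w : zpowers z => w ^ orderOf b = 1) := by
          simp only [Finset.mem_filter, Finset.mem_univ, true_and]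
          exact Subtype.ext (by rw [SubmonoidClass.coe_pow]; exact orderOf_dvd_iff_pow_eq_one.1 hd)
        rwa [← hsub, Set.mem_toFinset] at hmem
      obtain ⟨i, hi⟩ := mem_zpowers_iff.1 h1
      exact ⟨i, by simpa using congrArg Subtype.val hi⟩
    have hdvd : ∀ a ∈ zpowers z, ∃ i, orderOf a = r ^ i := by
      intro a ha
      have hd : orderOf a ∣ orderOf z := by
        obtain ⟨i, rfl⟩ := mem_zpowers_iff.1 ha
        rw [orderOf_dvd_iff_pow_eq_one, ← zpow_natCast, ← zpow_mul, mul_comm, zpow_mul,
          zpow_natCast, pow_orderOf_eq_one, one_zpow]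
      rw [← hk] at hd
      obtain ⟨i, -, hi⟩ := (Nat.dvd_prime_pow hr).1 hd
      exact ⟨i, hi⟩
    obtain ⟨i, hi⟩ := hdvd x hx
    obtain ⟨j, hj⟩ := hdvd y hy
    rcases le_total i j with hij | hij
    · exact Or.inl (key x y hx hy (by rw [hi, hj]; exact pow_dvd_pow r hij))
    · exact Or.inr (key y x hy hx (by rw [hi, hj]; exact pow_dvd_pow r hij))
  · intro h g hg
    rw [isPrimePow_iff_unique_prime_dvd]
    obtain ⟨p, hp, hpd⟩ := Nat.exists_prime_and_dvd (n := orderOf g) (fun e => hg (orderOf_eq_one_iff.1 e))
    refine ⟨p, ⟨hp, hpd⟩, fun q ⟨hq, hqd⟩ => ?_⟩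
    by_contra hne
    set x := g ^ (orderOf g / p) with hx
    set y := g ^ (orderOf g / q) with hy
    have hox : orderOf x = p := by
      rw [hx, orderOf_pow_orderOf_div (orderOf_pos g).ne' hpd]
    have hoy : orderOf y = q := by
      rw [hy, orderOf_pow_orderOf_div (orderOf_pos g).ne' hqd]
    have hcyc : IsCyclic ↥(closure ({x, y} : Set G)) := by
      have hle : closure ({x, y} : Set G) ≤ zpowers g := by
        rw [closure_le]
        rintro w (rfl | rfl)
        · exact pow_mem (mem_zpowers g) _
        · exact pow_mem (mem_zpowers g) _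
      exact isCyclic_of_injective (inclusion hle) (inclusion_injective hle)
    rcases h x y hcyc with hm | hm
    · have := orderOf_dvd_natCard _ hm
      rw [Nat.card_zpowers, hox, hoy] at this
      exact hne ((Nat.prime_dvd_prime_iff_eq hp hq).1 this).symm
    · have := orderOf_dvd_natCard _ hm
      rw [Nat.card_zpowers, hox, hoy] at this
      exact hne ((Nat.prime_dvd_prime_iff_eq hq hp).1 this)

end Cfsg.Agent.S4086
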