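import Cfsg.Statements.S4088
import Cfsg.Agent.H75.SylowCount

set_option autoImplicit false
open scoped Pointwise
open Cfsg

namespace Cfsg.Agent.S4088

open Subgroup in
/-- A set of conjugates times the stabiliser. -/
theorem card_fibers {G α : Type*} [Group G] [MulAction G α] (a : α) (q : α → Prop) (S : Subgroup G)
    (hS : ∀ x : G, x ∈ S ↔ x • a = a) :
    Nat.card {x : G // q (x • a)} = Nat.card {b : α // q b ∧ ∃ x : G, x • a = b} * Nat.card S := by
  classical
  rw [← Nat.card_prod]
  refine Nat.card_congr
    { toFun := fun x => (⟨(x : G) • a, x.2, x, rfl⟩,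
        ⟨(Classical.choose (show ∃ y : G, y • a = (x : G) • a from ⟨x, rfl⟩))⁻¹ * x, ?_⟩)
      invFun := fun y => ⟨Classical.choose y.1.2.2 * y.2, ?_⟩
      left_inv := fun x => ?_
      right_inv := fun y => ?_ }
  · rw [hS, mul_smul, inv_smul_eq_iff]
    exact (Classical.choose_spec (show ∃ y : G, y • a = (x : G) • a from ⟨x, rfl⟩)).symm
  · rw [mul_smul, (hS _).1 y.2.2, Classical.choose_spec y.1.2.2]
    exact y.1.2.1
  · apply Subtype.ext
    simp
  · have he : (Classical.choose y.1.2.2 * (y.2 : G)) • a = (y.1 : α) := by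
      rw [mul_smul, (hS _).1 y.2.2, Classical.choose_spec y.1.2.2]
    have key : ∀ (c d : α) (h : ∃ x : G, x • a = c) (h' : ∃ x : G, x • a = d),
        c = d → Classical.choose h = Classical.choose h' := by
      rintro c d h h' rfl; rfl
    refine Prod.ext (Subtype.ext he) (Subtype.ext ?_)
    dsimp only
    rw [key _ _ _ y.1.2.2 he, inv_mul_cancel_left]

/-- Let G be a finite group, p a prime dividing the order of G, H a p-subgroup of G and P a Sylow p-subgroup of G. Call the subnormalizer of H the set of elements g of G such that H is subnormal in the subgroup generated by H and g. Then the number of elements of the subnormalizer of H equals the number of Sylow p-subgroups of G containing H times the order of N_G(P), and also equals the number of conjugates of H contained in P times the order of N_G(H). -/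
theorem result {G : Type*} [Group G] [Finite G] (p : ℕ) [Fact p.Prime]
    (hp : p ∣ Nat.card G) (H : Subgroup G) (hH : IsPGroup p H) (P : Sylow p G) :
    Nat.card {g : G // ((H).subgroupOf (H ⊔ Subgroup.zpowers g)).IsSubnormal} =
        Nat.card {Q : Sylow p G // H ≤ (Q : Subgroup G)} * Nat.card (Subgroup.normalizer ((P : Subgroup G) : Set G)) ∧
    Nat.card {g : G // ((H).subgroupOf (H ⊔ Subgroup.zpowers g)).IsSubnormal} =
        Nat.card {K : Subgroup G // K ≤ (P : Subgroup G) ∧ ∃ g : G, K = H.map (MulAut.conj g).toMonoidHom} *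
          Nat.card (Subgroup.normalizer (H : Set G)) := by
  classical
  have h1 : Nat.card {g : G // ((H).subgroupOf (H ⊔ Subgroup.zpowers g)).IsSubnormal} =
      Nat.card {Q : Sylow p G // H ≤ (Q : Subgroup G)} *
        Nat.card (Subgroup.normalizer ((P : Subgroup G) : Set G)) := by
    rw [Nat.card_congr (Equiv.subtypeEquivRight fun g => H75.subnormalizer_iff hH g)]
    exact H75.card_subnormalizer hH P
  refine ⟨h1, h1.trans ?_⟩
  have hQ : Nat.card {Q : Sylow p G // H ≤ (Q : Subgroup G)} =
      Nat.card {Q : Sylow p G // H ≤ (Q : Subgroup G) ∧ ∃ x : G, x • P = Q} :=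
    Nat.card_congr (Equiv.subtypeEquivRight fun Q => by simp [MulAction.exists_smul_eq])
  rw [hQ, ← card_fibers P (fun Q : Sylow p G => H ≤ (Q : Subgroup G))
    (Subgroup.normalizer ((P : Subgroup G) : Set G)) (fun x => Sylow.smul_eq_iff_mem_normalizer.symm)]
  have e := card_fibers (G := ConjAct G) H (fun K : Subgroup G => K ≤ (P : Subgroup G))
    ((Subgroup.normalizer (H : Set G)).comap (ConjAct.ofConjAct (G := G)).toMonoidHom) (fun x => ?_)
  · have e1 : Nat.card ↥((Subgroup.normalizer (H : Set G)).comap (ConjAct.ofConjAct (G := G)).toMonoidHom) =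
        Nat.card (Subgroup.normalizer (H : Set G)) :=
      Nat.card_congr (Equiv.subtypeEquiv (ConjAct.ofConjAct (G := G)).toEquiv fun x => Iff.rfl)
    rw [e1] at e
    refine Eq.trans ?_ (e.trans (congrArg (· * _) (Nat.card_congr (Equiv.subtypeEquivRight fun K => ?_))))
    · refine Nat.card_congr (Equiv.subtypeEquiv ((Equiv.inv G).trans (ConjAct.toConjAct (G := G)).toEquiv) fun x => ?_)
      show H ≤ ((x • P : Sylow p G) : Subgroup G) ↔ ConjAct.toConjAct x⁻¹ • H ≤ (P : Subgroup G)
      rw [Sylow.coe_subgroup_smul]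
      constructor
      · rintro h _ ⟨y, hy, rfl⟩
        obtain ⟨z, hz, hzy⟩ := h hy
        simp [← hzy, ConjAct.smul_def, mul_assoc]
        exact hz
      · intro h y hy
        exact ⟨x⁻¹ * y * x, by
          have := h ⟨y, hy, rfl⟩
          simp [ConjAct.smul_def] at this
          exact this, by simp [mul_assoc]⟩
    · refine and_congr Iff.rfl ⟨fun ⟨g, hg⟩ => ⟨ConjAct.ofConjAct g, ?_⟩, fun ⟨g, hg⟩ => ⟨ConjAct.toConjAct g, ?_⟩⟩
      · rw [← hg]; rfl
      · rw [hg]; rfl
  · rw [Subgroup.mem_comap, Subgroup.mem_normalizer_iff]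
    constructor
    · intro h
      ext y
      constructor
      · rintro ⟨z, hz, rfl⟩
        exact (h z).1 hz
      · intro hy
        refine ⟨x⁻¹ • y, ?_, smul_inv_smul x y⟩
        refine (h _).2 ?_
        simpa [ConjAct.smul_def, mul_assoc] using hy
    · intro h y
      have hm : ∀ z, z ∈ H → x • z ∈ H := fun z hz => h ▸ ⟨z, hz, rfl⟩
      refine ⟨fun hy => hm y hy, fun hy => ?_⟩
      obtain ⟨z, hz, hzy⟩ : (ConjAct.ofConjAct x * y * (ConjAct.ofConjAct x)⁻¹ : G) ∈ x • H := h.symm ▸ hy
      have : z = y := mul_left_cancel (mul_right_cancel hzy)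
      exact this ▸ hz

end Cfsg.Agent.S4088
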