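import Cfsg.Statements.S4089
import Cfsg.Agent.H75.Subnormalizer

set_option autoImplicit false
open Cfsg

namespace Cfsg.Agent.S4089

open Subgroup

theorem result {G : Type*} [Group G] [Finite G] (p : ℕ) [Fact p.Prime]
    (H : Subgroup G) (hH : IsPGroup p H) :
    {g : G | ((H).subgroupOf (H ⊔ Subgroup.zpowers g)).IsSubnormal} =
      {g : G | ∃ R : Subgroup G, H ≤ R ∧ (Cfsg.pCore p (Subgroup.normalizer (R : Set G))).map (Subgroup.normalizer (R : Set G)).subtype = R ∧ g ∈ Subgroup.normalizer (R : Set G)} ∧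
    ∀ g : G, (((H).subgroupOf (H ⊔ Subgroup.zpowers g)).IsSubnormal ↔
      (((sInf {K : Subgroup G | ∃ Q : Sylow p G, H ≤ (Q : Subgroup G) ∧ K = (Q : Subgroup G)})).subgroupOf ((sInf {K : Subgroup G | ∃ Q : Sylow p G, H ≤ (Q : Subgroup G) ∧ K = (Q : Subgroup G)}) ⊔ Subgroup.zpowers g)).IsSubnormal) := by
  have hrad : ∀ R : Subgroup G,
      (Cfsg.pCore p (normalizer (R : Set G))).map (normalizer (R : Set G)).subtype = R → IsPGroup p R := by
    intro R hR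
    rw [← hR]
    exact Cores.pCore_isPGroup.map _
  refine ⟨Set.ext fun g => ⟨fun h => ?_, ?_⟩, fun g => ?_⟩
  · obtain ⟨R, h1, h2, h3⟩ := (H75.subnormalizer_iff hH g).1 h
    obtain ⟨S, s1, s2, s3⟩ := H75.exists_radical h2 h3
    exact ⟨S, h1.trans s1, s3, s2⟩
  · rintro ⟨R, h1, h2, h3⟩
    exact (H75.subnormalizer_iff hH g).2 ⟨R, h1, hrad R h2, h3⟩
  · set D := sInf {K : Subgroup G | ∃ Q : Sylow p G, H ≤ (Q : Subgroup G) ∧ K = (Q : Subgroup G)}
    obtain ⟨Q, hQ⟩ := hH.exists_le_sylow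
    have hD : IsPGroup p D := Q.isPGroup'.to_le (sInf_le ⟨Q, hQ, rfl⟩)
    have hHD : H ≤ D := le_sInf fun K ⟨Q, hQ, hK⟩ => hK ▸ hQ
    rw [H75.subnormalizer_iff hH, H75.subnormalizer_iff hD]
    constructor
    · rintro ⟨R, h1, h2, h3⟩
      obtain ⟨S, s1, s2, s3⟩ := H75.exists_radical h2 h3
      exact ⟨S, H75.sInf_sylow_le_of_radical (hrad S s3) s3 (h1.trans s1), hrad S s3, s2⟩
    · rintro ⟨R, h1, h2, h3⟩
      exact ⟨R, hHD.trans h1, h2, h3⟩

end Cfsg.Agent.S4089
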