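import Cfsg.Statements.S4090
import Cfsg.Agent.H75.SylowCountStep

set_option autoImplicit false
open scoped BigOperators
open Cfsg

namespace Cfsg.Agent.S4090

/-- Let G be a finite p-solvable group, H a p-subgroup of G and P a Sylow p-subgroup, and fix a chain of normal subgroups 1 = M₀ ≤ M₁ ≤ ⋯ ≤ Mₙ = G of G each of whose factors is a p-group or a p'-group. Then the number of elements g of G such that H is subnormal in the subgroup generated by H and g equals the order of P times the product, over the factors Mᵢ₊₁/Mᵢ of order prime to p, of the order of the centralizer of H in Mᵢ₊₁/Mᵢ (counted as the number of u ∈ Mᵢ₊₁ with [h, u] ∈ Mᵢ for all h ∈ H, divided by the order of Mᵢ). -/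
theorem result {G : Type*} [Group G] [Finite G] (p : ℕ) [Fact p.Prime]
    (hG : Cfsg.IsPSolvable p G) (H : Subgroup G) (hH : IsPGroup p H) (P : Sylow p G)
    (n : ℕ) (M : Fin (n + 1) → Subgroup G) (h0 : M 0 = ⊥) (hn : M (Fin.last n) = ⊤) (hmono : Monotone M)
    (hnormal : ∀ i, (M i).Normal)
    (hfac : ∀ i : Fin n, (∃ m : ℕ, (M i.castSucc).relIndex (M i.succ) = p ^ m) ∨ ((M i.castSucc).relIndex (M i.succ)).Coprime p) :
    Nat.card {g : G // ((H).subgroupOf (H ⊔ Subgroup.zpowers g)).IsSubnormal} =
      Nat.card (P : Subgroup G) *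
        ∏ i : Fin n, (if ((M i.castSucc).relIndex (M i.succ)).Coprime p then
          Nat.card {u : G // u ∈ M i.succ ∧ ∀ h ∈ H, h * u * h⁻¹ * u⁻¹ ∈ M i.castSucc} / Nat.card (M i.castSucc)
          else 1) := by
  classical
  have hp : p.Prime := Fact.out
  set W : Fin n → ℕ := fun i => if ((M i.castSucc).relIndex (M i.succ)).Coprime p then
      Nat.card {u : G // u ∈ M i.succ ∧ ∀ h ∈ H, h * u * h⁻¹ * u⁻¹ ∈ M i.castSucc} / Nat.card (M i.castSucc)
    else 1 with hW
  set A : Fin (n + 1) → ℕ := fun i => H75.intoCount H ((P : Subgroup G) ⊔ M i) with hA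
  have hcard : ∀ i : Fin n, Nat.card (M i.castSucc) * (M i.castSucc).relIndex (M i.succ) = Nat.card (M i.succ) :=
    fun i => FusionSys.card_mul_relIndex (hmono (Fin.castSucc_le_succ i))
  have key : ∀ i : Fin (n + 1), A 0 * Nat.card (M i) =
      p ^ (Nat.card (M i)).factorization p * (∏ j ∈ Finset.univ.filter (fun j : Fin n => (j : ℕ) < (i : ℕ)), W j) * A i := by
    intro i
    induction i using Fin.induction with
    | zero => simp [h0]
    | succ i ih =>
      haveI := hnormal i.castSucc
      haveI := hnormal i.succ
      have hle : M i.castSucc ≤ M i.succ := hmono (Fin.castSucc_le_succ i)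
      have hins : Finset.univ.filter (fun j : Fin n => (j : ℕ) < ((i.succ : Fin (n + 1)) : ℕ)) =
          insert i (Finset.univ.filter (fun j : Fin n => (j : ℕ) < ((i.castSucc : Fin (n + 1)) : ℕ))) := by
        ext j
        simp [Fin.ext_iff]
        omega
      rw [hins, Finset.prod_insert (by simp)]
      set Q := ∏ j ∈ Finset.univ.filter (fun j : Fin n => (j : ℕ) < ((i.castSucc : Fin (n + 1)) : ℕ)), W j
      have hv : (Nat.card (M i.succ)).factorization p = (Nat.card (M i.castSucc)).factorization p +
          ((M i.castSucc).relIndex (M i.succ)).factorization p := by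
        rw [← hcard i, Nat.factorization_mul Nat.card_pos.ne' (by rw [Subgroup.relIndex]; exact Subgroup.index_ne_zero_of_finite),
          Finsupp.add_apply]
      by_cases hc : ((M i.castSucc).relIndex (M i.succ)).Coprime p
      · have hz : ((M i.castSucc).relIndex (M i.succ)).factorization p = 0 :=
          Nat.factorization_eq_zero_of_not_dvd (hp.coprime_iff_not_dvd.mp hc.symm)
        rw [hv, hz, add_zero]
        have hstep := H75.intoCount_step_coprime hH P hle hc
        have hK : M i.castSucc ≤ H75.centModulo H (M i.castSucc) (M i.succ) := fun u hu =>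
          H75.mem_centModulo.mpr ⟨hle hu, fun h _ =>
            mul_mem ((hnormal i.castSucc).conj_mem u hu h) (inv_mem hu)⟩
        have hWi : W i * Nat.card (M i.castSucc) = Nat.card (H75.centModulo H (M i.castSucc) (M i.succ)) := by
          simp only [hW]
          rw [if_pos hc, ← Nat.card_congr (Equiv.subtypeEquivRight fun u => H75.mem_centModulo (H := H)
            (K := M i.castSucc) (L := M i.succ) (u := u))]
          exact Nat.div_mul_cancel (Subgroup.card_dvd_of_le hK)
        refine Nat.eq_of_mul_eq_mul_right (m := Nat.card (M i.castSucc)) Nat.card_pos ?_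
        calc A 0 * Nat.card (M i.succ) * Nat.card (M i.castSucc)
            = A 0 * Nat.card (M i.castSucc) * Nat.card (M i.succ) := by ring
          _ = p ^ (Nat.card (M i.castSucc)).factorization p * Q * (A i.castSucc * Nat.card (M i.succ)) := by
              rw [ih]; ring
          _ = p ^ (Nat.card (M i.castSucc)).factorization p * Q * (W i * Nat.card (M i.castSucc) * A i.succ) := by
              rw [show A i.castSucc * Nat.card (M i.succ) = _ from hstep, ← hWi]
          _ = _ := by ring
      · obtain ⟨m, hm⟩ := (hfac i).resolve_right hc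
        rw [hv, hm, hp.factorization_pow, Finsupp.single_eq_same, pow_add]
        have hstep : A i.castSucc = A i.succ := H75.intoCount_step_prime P hle hm
        have hWi : W i = 1 := by simp only [hW]; rw [if_neg hc]
        rw [hWi, one_mul, ← hcard i, hm, ← hstep, ← mul_assoc, ih]
        ring
  have h := key (Fin.last n)
  have hfull : Finset.univ.filter (fun j : Fin n => (j : ℕ) < ((Fin.last n : Fin (n + 1)) : ℕ)) = Finset.univ := by
    simp
  have hlast : A (Fin.last n) = Nat.card G := by
    simp only [hA, hn, sup_top_eq, H75.intoCount]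
    exact Nat.card_congr (Equiv.subtypeUnivEquiv fun x h _ => Subgroup.mem_top _)
  rw [hlast, hn, Subgroup.card_top, hfull, ← P.card_eq_multiplicity] at h
  have hA0 : A 0 = Nat.card {g : G // ((H).subgroupOf (H ⊔ Subgroup.zpowers g)).IsSubnormal} := by
    rw [Nat.card_congr (Equiv.subtypeEquivRight fun g => H75.subnormalizer_iff hH g),
      H75.card_subnormalizer hH P, ← H75.intoCount_bot H P]
    simp only [hA, h0]
  rw [← hA0]
  exact Nat.eq_of_mul_eq_mul_right Nat.card_pos h

end Cfsg.Agent.S4090
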