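import Cfsg.Statements.S4091
import Cfsg.Agent.H75.SylowCountStep
import Cfsg.Agent.H75.FixCount

set_option autoImplicit false
set_option maxHeartbeats 1000000
open Cfsg

namespace Cfsg.Agent.S4091

open Subgroup

universe u

variable {G : Type u} [Group G] [Finite G] {p : ℕ} [Fact p.Prime]

theorem card_centModulo {H K L : Subgroup G} [K.Normal] (hKL : K ≤ L) :
    Nat.card (H75.centModulo H K L) =
      Nat.card K * H75.fixCard (L.map (QuotientGroup.mk' K)) (H.map (QuotientGroup.mk' K)) := by
  set φ := QuotientGroup.mk' K with hφ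
  have e : H75.centModulo H K L =
      (L.map φ ⊓ centralizer ((H.map φ : Subgroup (G ⧸ K)) : Set (G ⧸ K))).comap φ := by
    rw [comap_inf, comap_map_eq_self (by rwa [hφ, QuotientGroup.ker_mk'])]
    rfl
  rw [e, H75.fixCard]
  set X := L.map φ ⊓ centralizer ((H.map φ : Subgroup (G ⧸ K)) : Set (G ⧸ K))
  have hK : K ≤ X.comap φ := fun k hk => by
    show φ k ∈ X
    rw [show φ k = 1 from (QuotientGroup.eq_one_iff k).mpr hk]
    exact one_mem _
  rw [← Subgroup.card_mul_index (K.subgroupOf (X.comap φ)), Nat.card_congr (subgroupOfEquivOfLe hK).toEquiv]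
  congr 1
  have hker : K.subgroupOf (X.comap φ) = (φ.comp (X.comap φ).subtype).ker := by
    ext x
    simp [hφ, mem_subgroupOf]
  rw [hker, index_ker, MonoidHom.range_comp, range_subtype,
    map_comap_eq_self_of_surjective (QuotientGroup.mk'_surjective K)]

/-- The product inequality for conjugation counts along a normal series. -/
theorem count_ineq (P : Sylow p G) (n : ℕ) (M : Fin (n + 1) → Subgroup G) [Fintype (P : Subgroup G)]
    (hn : M (Fin.last n) = ⊤) (hmono : Monotone M) (hnormal : ∀ i, (M i).Normal)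
    (hfac : ∀ i : Fin n, (∃ m : ℕ, (M i.castSucc).relIndex (M i.succ) = p ^ m) ∨
      ((M i.castSucc).relIndex (M i.succ)).Coprime p) :
    ∀ i, (∏ x : (P : Subgroup G), H75.intoCount (zpowers (x : G)) ((P : Subgroup G) ⊔ M i)) ^ p ≤
      Nat.card G ^ Nat.card P * H75.intoCount (P : Subgroup G) ((P : Subgroup G) ⊔ M i) ^ ((p - 1) * Nat.card P) := by
  classical
  have hp : p.Prime := Fact.out
  intro i
  induction i using Fin.reverseInduction with
  | last =>
    have h : ∀ H : Subgroup G, H75.intoCount H ((P : Subgroup G) ⊔ M (Fin.last n)) = Nat.card G := by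
      intro H
      rw [hn, sup_top_eq]
      exact Nat.card_congr (Equiv.subtypeUnivEquiv fun x h _ => mem_top _)
    simp only [h, Finset.prod_const, Finset.card_univ, ← pow_mul, ← pow_add, Nat.card_eq_fintype_card (α := P)]
    refine Nat.pow_le_pow_right Nat.card_pos (le_of_eq ?_)
    obtain ⟨k, rfl⟩ := Nat.exists_eq_succ_of_ne_zero hp.ne_zero
    simp; ring
  | cast i ih =>
    haveI := hnormal i.castSucc
    haveI := hnormal i.succ
    have hle : M i.castSucc ≤ M i.succ := hmono (Fin.castSucc_le_succ i)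
    rcases hfac i with ⟨m, hm⟩ | hc
    · simp only [fun H : Subgroup G => H75.intoCount_step_prime (H := H) P hle hm]
      exact ih
    set K := M i.castSucc with hK
    set L := M i.succ with hL
    set φ := QuotientGroup.mk' K with hφ
    set Lb := L.map φ
    set Pb := (P : Subgroup G).map φ
    haveI := Fintype.ofFinite Pb
    have hcardL : Nat.card L = Nat.card K * Nat.card Lb := by
      rw [← Subgroup.card_mul_index (K.subgroupOf L), Nat.card_congr (subgroupOfEquivOfLe hle).toEquiv]
      congr 1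
      have hker : K.subgroupOf L = (φ.comp L.subtype).ker := by
        ext x
        simp [hφ, mem_subgroupOf]
      rw [hker, index_ker, MonoidHom.range_comp, range_subtype]
    have hLb : (Nat.card Lb).Coprime p := by
      have h1 := FusionSys.card_mul_relIndex hle
      rw [hcardL, Nat.mul_left_cancel_iff Nat.card_pos] at h1
      exact h1 ▸ hc
    have hcop : (Nat.card Pb).Coprime (Nat.card Lb) := by
      obtain ⟨k, hk⟩ := IsPGroup.iff_card.mp (P.isPGroup'.map φ)
      rw [hk]
      exact hLb.symm.pow_left _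
    have hfix := H75.fixIneq (p := p) _ (G ⧸ K) Lb Pb rfl (P.isPGroup'.map φ)
      (le_top.trans (normalizer_eq_top (H := Lb)).ge) hcop
    unfold H75.FixIneq at hfix
    -- pass from `P` to its image
    let ψ : (P : Subgroup G) →* Pb := φ.subgroupMap (P : Subgroup G)
    have hψ : Function.Surjective ψ := φ.subgroupMap_surjective _
    have hfib : ∀ y : Pb, (Finset.univ.filter fun x => ψ x = y).card = Nat.card ψ.ker := by
      intro y
      obtain ⟨x0, rfl⟩ := hψ y
      rw [← Fintype.card_subtype, ← Nat.card_eq_fintype_card]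
      exact Nat.card_congr
        { toFun := fun x => ⟨x0⁻¹ * x.1, MonoidHom.mem_ker.mpr (by rw [map_mul, map_inv, x.2, inv_mul_cancel])⟩
          invFun := fun k => ⟨x0 * k.1, by rw [map_mul, MonoidHom.mem_ker.mp k.2, mul_one]⟩
          left_inv := fun x => Subtype.ext (mul_inv_cancel_left _ _)
          right_inv := fun k => Subtype.ext (inv_mul_cancel_left _ _) }
    have hcardP : Nat.card P = Nat.card Pb * Nat.card ψ.ker := by
      have h := Subgroup.card_mul_index ψ.ker
      rw [index_ker, MonoidHom.range_eq_top.mpr hψ, Subgroup.card_top] at h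
      rw [mul_comm]; exact h.symm
    have hprod : ∏ x : (P : Subgroup G), H75.fixCard Lb ((zpowers (x : G)).map φ) =
        (∏ y : Pb, H75.fixCard Lb (zpowers (y : G ⧸ K))) ^ Nat.card ψ.ker := by
      rw [← Finset.prod_fiberwise Finset.univ ψ, ← Finset.prod_pow]
      refine Finset.prod_congr rfl fun y _ => ?_
      rw [← hfib y, ← Finset.prod_const]
      refine Finset.prod_congr rfl fun x hx => ?_
      rw [MonoidHom.map_zpowers]
      have hxy : ((ψ x : Pb) : G ⧸ K) = (y : G ⧸ K) := by rw [(Finset.mem_filter.mp hx).2]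
      have hval : φ (x : G) = (y : G ⧸ K) := hxy
      rw [hval]
    have hD : (∏ x : (P : Subgroup G), Nat.card (H75.centModulo (zpowers (x : G)) K L)) ^ p ≤
        Nat.card L ^ Nat.card P *
          Nat.card (H75.centModulo (P : Subgroup G) K L) ^ ((p - 1) * Nat.card P) := by
      simp only [card_centModulo hle, Finset.prod_mul_distrib, Finset.prod_const, Finset.card_univ]
      rw [hprod, ← Nat.card_eq_fintype_card (α := P), hcardL, mul_pow, mul_pow, mul_pow]
      calc (Nat.card K ^ Nat.card P) ^ p * ((∏ y : Pb, H75.fixCard Lb (zpowers (y : G ⧸ K))) ^ Nat.card ψ.ker) ^ p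
          = (Nat.card K ^ Nat.card P * Nat.card K ^ ((p - 1) * Nat.card P)) *
              ((∏ y : Pb, H75.fixCard Lb (zpowers (y : G ⧸ K))) ^ p) ^ Nat.card ψ.ker := by
            rw [← pow_mul, ← pow_mul, ← pow_mul, ← pow_add, mul_comm (Nat.card ψ.ker) p]
            congr 2
            obtain ⟨k, rfl⟩ := Nat.exists_eq_succ_of_ne_zero hp.ne_zero
            simp; ring
        _ ≤ (Nat.card K ^ Nat.card P * Nat.card K ^ ((p - 1) * Nat.card P)) *
              (Nat.card Lb ^ Nat.card Pb * H75.fixCard Lb Pb ^ ((p - 1) * Nat.card Pb)) ^ Nat.card ψ.ker :=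
            Nat.mul_le_mul_left _ (Nat.pow_le_pow_left hfix _)
        _ = _ := by
            rw [mul_pow, ← pow_mul, ← pow_mul, hcardP, mul_assoc (p - 1)]
            ring
    have hstep : ∀ H : Subgroup G, IsPGroup p H → H75.intoCount H ((P : Subgroup G) ⊔ K) * Nat.card L =
        Nat.card (H75.centModulo H K L) * H75.intoCount H ((P : Subgroup G) ⊔ L) :=
      fun H hH => H75.intoCount_step_coprime hH P hle hc
    refine Nat.le_of_mul_le_mul_right ?_ (pow_pos (Nat.card_pos (α := L)) (Nat.card P * p))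
    calc (∏ x : (P : Subgroup G), H75.intoCount (zpowers (x : G)) ((P : Subgroup G) ⊔ K)) ^ p *
          Nat.card L ^ (Nat.card P * p)
        = (∏ x : (P : Subgroup G), H75.intoCount (zpowers (x : G)) ((P : Subgroup G) ⊔ K) * Nat.card L) ^ p := by
          rw [Finset.prod_mul_distrib, Finset.prod_const, Finset.card_univ, ← Nat.card_eq_fintype_card,
            mul_pow, ← pow_mul]
      _ = (∏ x : (P : Subgroup G), Nat.card (H75.centModulo (zpowers (x : G)) K L)) ^ p *
            (∏ x : (P : Subgroup G), H75.intoCount (zpowers (x : G)) ((P : Subgroup G) ⊔ L)) ^ p := by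
          rw [Finset.prod_congr rfl fun (x : ↥(P : Subgroup G)) _ =>
            hstep (zpowers (x : G)) (P.isPGroup'.to_le (zpowers_le.mpr x.2)),
            Finset.prod_mul_distrib, mul_pow]
      _ ≤ (Nat.card L ^ Nat.card P * Nat.card (H75.centModulo (P : Subgroup G) K L) ^ ((p - 1) * Nat.card P)) *
            (Nat.card G ^ Nat.card P *
              H75.intoCount (P : Subgroup G) ((P : Subgroup G) ⊔ L) ^ ((p - 1) * Nat.card P)) :=
          Nat.mul_le_mul hD ih
      _ = Nat.card L ^ Nat.card P * Nat.card G ^ Nat.card P *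
            (Nat.card (H75.centModulo (P : Subgroup G) K L) *
              H75.intoCount (P : Subgroup G) ((P : Subgroup G) ⊔ L)) ^ ((p - 1) * Nat.card P) := by ring
      _ = _ := by
          rw [← hstep _ P.isPGroup']
          obtain ⟨k, rfl⟩ := Nat.exists_eq_succ_of_ne_zero hp.ne_zero
          simp only [Nat.succ_eq_add_one, Nat.add_sub_cancel]
          ring

/-- Counting the `p`-elements through the Sylow subgroups. -/
theorem sum_inv_count (P : Sylow p G) [Fintype (P : Subgroup G)] :
    ∑ x : (P : Subgroup G), (Nat.card (Sylow p G) : ℝ) / Nat.card {Q : Sylow p G // (x : G) ∈ Q} =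
      Nat.card {g : G // ∃ k : ℕ, orderOf g = p ^ k} := by
  classical
  haveI := Fintype.ofFinite G
  haveI := Fintype.ofFinite (Sylow p G)
  set lam : G → ℕ := fun g => Nat.card {Q : Sylow p G // g ∈ Q} with hlam
  have hconj : ∀ Q : Sylow p G, ∑ g ∈ Finset.univ.filter (fun g => g ∈ Q), (lam g : ℝ)⁻¹ =
      ∑ g ∈ Finset.univ.filter (fun g => g ∈ P), (lam g : ℝ)⁻¹ := by
    intro Q
    obtain ⟨y, rfl⟩ := MulAction.exists_smul_eq G P Q
    refine (Finset.sum_equiv (MulAut.conj y).toEquiv (fun g => ?_) fun g hg => ?_).symm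
    · simp only [Finset.mem_filter, Finset.mem_univ, true_and]
      constructor
      · exact fun hg => ⟨g, hg, rfl⟩
      · rintro ⟨g', hg', he⟩
        exact (MulAut.conj y).injective he ▸ hg'
    · congr 2
      refine Nat.card_congr (Equiv.subtypeEquiv (MulAction.toPerm y) fun Q => ?_)
      constructor
      · exact fun h => ⟨g, h, rfl⟩
      · rintro ⟨g', hg', he⟩
        exact (MulAut.conj y).injective he ▸ hg'
  have hU : ∀ g : G, 0 < lam g ↔ ∃ k : ℕ, orderOf g = p ^ k := by
    intro g
    constructor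
    · intro h
      obtain ⟨⟨Q, hQ⟩⟩ := (Nat.card_pos_iff.mp h).1
      obtain ⟨k, hk⟩ := IsPGroup.iff_orderOf.mp Q.isPGroup' ⟨g, hQ⟩
      exact ⟨k, by rwa [Subgroup.orderOf_mk] at hk⟩
    · rintro ⟨k, hk⟩
      obtain ⟨Q, hQ⟩ := (IsPGroup.of_card (n := k) (by rw [Nat.card_zpowers, hk]) :
        IsPGroup p (zpowers g)).exists_le_sylow
      exact Nat.card_pos_iff.mpr ⟨⟨⟨Q, hQ (mem_zpowers g)⟩⟩, inferInstance⟩
  have h1 : ∑ g : G, ∑ _Q ∈ Finset.univ.filter (fun Q : Sylow p G => g ∈ Q), (lam g : ℝ)⁻¹ =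
      Nat.card {g : G // ∃ k : ℕ, orderOf g = p ^ k} := by
    rw [Nat.card_eq_fintype_card, Fintype.card_subtype, Finset.card_filter, Nat.cast_sum]
    refine Finset.sum_congr rfl fun g _ => ?_
    rw [Finset.sum_const, nsmul_eq_mul]
    have e : (Finset.univ.filter fun Q : Sylow p G => g ∈ Q).card = lam g := by
      simp only [hlam, Nat.card_eq_fintype_card, Fintype.card_subtype]
    rw [e]
    by_cases hg : ∃ k : ℕ, orderOf g = p ^ k
    · rw [if_pos hg, Nat.cast_one, mul_inv_cancel₀]
      exact_mod_cast ((hU g).mpr hg).ne'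
    · rw [if_neg hg, Nat.cast_zero, show lam g = 0 by
        by_contra h; exact hg ((hU g).mp (Nat.pos_of_ne_zero h))]
      simp
  rw [← h1, Finset.sum_comm' (t' := (Finset.univ : Finset (Sylow p G)))
    (s' := fun Q => Finset.univ.filter (fun g => g ∈ Q)) (by simp)]
  rw [Finset.sum_congr rfl fun Q _ => hconj Q, Finset.sum_const, Finset.card_univ, nsmul_eq_mul,
    ← Nat.card_eq_fintype_card, Finset.mul_sum]
  rw [Finset.sum_subtype (p := fun g => g ∈ (P : Subgroup G)) _ (fun g => by simp only [Finset.mem_filter, Finset.mem_univ, true_and]; exact Iff.rfl)]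
  exact Finset.sum_congr rfl fun x _ => div_eq_mul_inv _ _


/-- Let G be a finite p-solvable group, P a Sylow p-subgroup of G, u the number of p-elements of G (elements of p-power order, the identity included) and n the number of Sylow p-subgroups of G. Then u/#P ≥ n^((p−1)/p), stated as u^p ≥ #P^p · n^(p−1). -/
theorem result {G : Type*} [Group G] [Finite G] (p : ℕ) [Fact p.Prime]
    (hG : Cfsg.IsPSolvable p G) (P : Sylow p G) :
    Nat.card (P : Subgroup G) ^ p * Nat.card (Sylow p G) ^ (p - 1) ≤ Nat.card {g : G // ∃ k : ℕ, orderOf g = p ^ k} ^ p := by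
  classical
  haveI := Fintype.ofFinite (P : Subgroup G)
  obtain ⟨n, M, h0, hn, hmono, hnormal, hfac⟩ := hG
  have hp : p.Prime := Fact.out
  set s := Nat.card (Sylow p G) with hs
  set N := Nat.card (normalizer ((P : Subgroup G) : Set G)) with hN
  set lam : ↥(P : Subgroup G) → ℕ := fun x => Nat.card {Q : Sylow p G // (x : G) ∈ Q} with hlam
  set U := Nat.card {g : G // ∃ k : ℕ, orderOf g = p ^ k}
  set c := Nat.card (P : Subgroup G) with hc
  have hP1 : H75.intoCount (P : Subgroup G) ((P : Subgroup G) ⊔ ⊥) = N := by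
    rw [H75.intoCount_bot]
    have : Nat.card {Q : Sylow p G // (P : Subgroup G) ≤ Q} = 1 :=
      Nat.card_eq_one_iff_unique.mpr ⟨⟨fun a b => Subtype.ext
        ((Sylow.ext (P.3 a.1.isPGroup' a.2)).trans (Sylow.ext (P.3 b.1.isPGroup' b.2)).symm)⟩,
        ⟨⟨P, le_rfl⟩⟩⟩
    rw [this, one_mul]
  have hx1 : ∀ x : (P : Subgroup G),
      H75.intoCount (zpowers (x : G)) ((P : Subgroup G) ⊔ ⊥) = lam x * N := by
    intro x
    rw [H75.intoCount_bot]
    congr 1
    exact Nat.card_congr (Equiv.subtypeEquivRight fun Q => zpowers_le)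
  have hlampos : ∀ x, 0 < lam x := fun x => Nat.card_pos_iff.mpr ⟨⟨⟨P, x.2⟩⟩, inferInstance⟩
  have hGN : Nat.card G = s * N := by
    rw [hs, Sylow.card_eq_index_normalizer P, mul_comm]
    exact (Subgroup.card_mul_index _).symm
  have hcfin : Fintype.card (P : Subgroup G) = c := by rw [hc, Nat.card_eq_fintype_card]
  have hlam' : (∏ x, lam x) ^ p ≤ s ^ c := by
    have h := count_ineq P n M hn hmono hnormal hfac 0
    simp only [h0, hP1, hx1, Finset.prod_mul_distrib, Finset.prod_const, Finset.card_univ, hcfin] at h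
    rw [hGN, mul_pow, mul_pow, mul_assoc (s ^ c)] at h
    refine Nat.le_of_mul_le_mul_right ?_ (pow_pos (Nat.card_pos : 0 < N) (c * p))
    refine le_trans (le_of_eq (by rw [← pow_mul])) (h.trans (le_of_eq ?_))
    rw [← pow_add]
    congr 2
    obtain ⟨k, rfl⟩ := Nat.exists_eq_succ_of_ne_zero hp.ne_zero
    simp only [Nat.succ_sub_one, Nat.succ_eq_add_one, hc]
    ring
  have hc0 : (0 : ℝ) < c := by exact_mod_cast (Nat.card_pos : 0 < c)
  set z : ↥(P : Subgroup G) → ℝ := fun x => (s : ℝ) / lam x with hz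
  have hz0 : ∀ x, 0 ≤ z x := fun x => by positivity
  have hamgm : (∏ x, z x) ≤ ((U : ℝ) / c) ^ c := by
    have h := Real.geom_mean_le_arith_mean_weighted Finset.univ (fun _ => (c : ℝ)⁻¹) z
      (fun _ _ => by positivity) (by rw [Finset.sum_const, Finset.card_univ, hcfin, nsmul_eq_mul, mul_inv_cancel₀ hc0.ne'])
      (fun x _ => hz0 x)
    rw [Real.finsetProd_rpow _ _ (fun x _ => hz0 x), ← Finset.mul_sum,
      show ∑ x, z x = (U : ℝ) from sum_inv_count P, inv_mul_eq_div] at h
    have h2 := pow_le_pow_left₀ (Real.rpow_nonneg (Finset.prod_nonneg fun x _ => hz0 x) _) h c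
    rwa [Real.rpow_inv_natCast_pow (Finset.prod_nonneg fun x _ => hz0 x) (Nat.card_pos).ne'] at h2
  have hfinal : ((c : ℝ) ^ p * (s : ℝ) ^ (p - 1)) ^ c ≤ ((U : ℝ) ^ p) ^ c := by
    have hprodlam : (0 : ℝ) < ∏ x, (lam x : ℝ) := Finset.prod_pos fun x _ => by exact_mod_cast hlampos x
    have h1 : ((s : ℝ) ^ c) ^ (p - 1) ≤ (∏ x, z x) ^ p := by
      rw [hz, Finset.prod_div_distrib, Finset.prod_const, Finset.card_univ, hcfin, div_pow,
        le_div_iff₀ (pow_pos hprodlam p)]
      calc ((s : ℝ) ^ c) ^ (p - 1) * (∏ x, (lam x : ℝ)) ^ p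
          ≤ ((s : ℝ) ^ c) ^ (p - 1) * (s : ℝ) ^ c :=
            mul_le_mul_of_nonneg_left (by exact_mod_cast hlam') (by positivity)
        _ = ((s : ℝ) ^ c) ^ p := by rw [← pow_succ, Nat.sub_add_cancel hp.one_le]
    calc ((c : ℝ) ^ p * (s : ℝ) ^ (p - 1)) ^ c = ((c : ℝ) ^ c) ^ p * ((s : ℝ) ^ c) ^ (p - 1) := by
          rw [mul_pow, ← pow_mul, ← pow_mul, ← pow_mul, ← pow_mul, mul_comm p, mul_comm (p - 1)]
      _ ≤ ((c : ℝ) ^ c) ^ p * (((U : ℝ) / c) ^ c) ^ p :=
          mul_le_mul_of_nonneg_left (h1.trans (pow_le_pow_left₀ (Finset.prod_nonneg fun x _ => hz0 x) hamgm p))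
            (by positivity)
      _ = ((U : ℝ) ^ p) ^ c := by
          rw [← mul_pow, ← mul_pow, mul_div_cancel₀ _ hc0.ne', ← pow_mul, ← pow_mul, mul_comm]
  have := le_of_pow_le_pow_left₀ (Nat.card_pos : 0 < c).ne' (by positivity) hfinal
  exact_mod_cast this

end Cfsg.Agent.S4091
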