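import Mathlib
import Cfsg.Statements.S4092

set_option autoImplicit false
open Cfsg

namespace Cfsg.Agent.S4092

open Subgroup

variable {G : Type*} [Group G] [Finite G] {p : ℕ} [Fact p.Prime]

/-- In a `p`-group a proper subgroup is properly contained in its normaliser. -/
theorem exists_mem_normalizer_not_mem {P D : Subgroup G} (hP : IsPGroup p P) (hDP : D ≤ P)
    (hne : D ≠ P) : ∃ g, g ∈ P ∧ g ∉ D ∧ g ∈ normalizer (D : Set G) := by
  haveI := hP.isNilpotent
  have hlt : D.subgroupOf P < ⊤ := lt_top_iff_ne_top.2 fun h =>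
    hne (le_antisymm hDP (subgroupOf_eq_top.1 h))
  obtain ⟨g, hg, hgD⟩ := SetLike.exists_of_lt (normalizerCondition_of_isNilpotent _ hlt)
  refine ⟨g, g.2, hgD, ?_⟩
  rw [mem_normalizer_iff] at hg ⊢
  intro h
  constructor
  · intro hh
    exact (hg ⟨h, hDP hh⟩).1 hh
  · intro hh
    have hP' : h ∈ P := by
      have := P.mul_mem (P.mul_mem (P.inv_mem g.2) (hDP hh)) g.2
      simpa [mul_assoc] using this
    exact (hg ⟨h, hP'⟩).2 hh

theorem result {G : Type*} [Group G] [Finite G] (p : ℕ) [Fact p.Prime]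
    (P : Sylow p G) (hP : ¬ (P : Subgroup G).Normal) :
    p * Nat.card (P : Subgroup G) ≤ Nat.card {g : G // ∃ k : ℕ, orderOf g = p ^ k} := by
  classical
  have hp := (Fact.out : p.Prime)
  have : Fintype G := Fintype.ofFinite G
  have : Fintype (Sylow p G) := Fintype.ofFinite _
  obtain ⟨P', hP'⟩ : ∃ P' : Sylow p G, P' ≠ P := by
    by_contra h
    push Not at h
    haveI : Subsingleton (Sylow p G) := ⟨fun a b => (h a).trans (h b).symm⟩
    exact hP (Sylow.normal_of_subsingleton P)
  obtain ⟨⟨A, B⟩, hAB, hmax⟩ := Finset.exists_max_image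
    (Finset.univ.filter fun x : Sylow p G × Sylow p G => x.1 ≠ x.2)
    (fun x => Nat.card ↥((x.1 : Subgroup G) ⊓ (x.2 : Subgroup G))) ⟨(P', P), by simp [hP']⟩
  simp only [Finset.mem_filter, Finset.mem_univ, true_and] at hAB hmax
  set D := (A : Subgroup G) ⊓ (B : Subgroup G) with hD
  -- Sylow subgroups through an element of the normaliser outside `D`
  have heq : ∀ R R' : Sylow p G, D ≤ (R : Subgroup G) → D ≤ (R' : Subgroup G) →
      (∃ g, g ∈ (R : Subgroup G) ∧ g ∈ (R' : Subgroup G) ∧ g ∉ D) → R = R' := by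
    intro R R' h1 h2 ⟨g, hg, hg', hgD⟩
    by_contra hne
    have : D = (R : Subgroup G) ⊓ (R' : Subgroup G) :=
      eq_of_le_of_card_ge (le_inf h1 h2) (hmax (R, R') hne)
    exact hgD (this ▸ ⟨hg, hg'⟩)
  set N := normalizer (D : Set G) with hN
  have hDp : IsPGroup p D := A.isPGroup'.to_le inf_le_left
  have hDN : D ≤ N := le_normalizer
  have hext : ∀ S : Sylow p N, ∃ R : Sylow p G, (S : Subgroup N).map N.subtype ≤ R :=
    fun S => (S.isPGroup'.map N.subtype).exists_le_sylow
  choose R hR using hext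
  have hinj : Function.Injective R := by
    intro S T h
    have hle : ∀ S : Sylow p N, ((R S : Subgroup G).subgroupOf N) = (S : Subgroup N) := fun S =>
      S.is_maximal' ((R S).isPGroup'.comap_subtype)
        (fun x hx => hR S (mem_map_of_mem N.subtype hx))
    exact Sylow.ext (by rw [← hle S, ← hle T, h])
  haveI hDn : (D.subgroupOf N).Normal := normal_subgroupOf_of_le_normalizer le_rfl
  have hDS : ∀ S : Sylow p N, D.subgroupOf N ≤ (S : Subgroup N) := by
    intro S
    obtain ⟨T, hT⟩ := (hDp.comap_subtype (H := D) (K := N)).exists_le_sylow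
    obtain ⟨g, rfl⟩ := MulAction.exists_smul_eq N T S
    intro x hx
    rw [Sylow.coe_subgroup_smul, Subgroup.mem_pointwise_smul_iff_inv_smul_mem]
    refine hT ?_
    have := hDn.conj_mem x hx g⁻¹
    simpa [MulAut.conj_symm_apply] using this
  have hDR : ∀ S, D ≤ (R S : Subgroup G) := fun S x hx =>
    hR S ⟨⟨x, hDN hx⟩, hDS S hx, rfl⟩
  have hlast : ∀ A' B' : Sylow p G, A' ≠ B' → D = (A' : Subgroup G) ⊓ (B' : Subgroup G) →
      ∃ (g : G) (S : Sylow p N), g ∈ (A' : Subgroup G) ∧ g ∉ D ∧ g ∈ (R S : Subgroup G) := by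
    intro A' B' hne hd
    obtain ⟨g, hg, hgD, hgN⟩ := exists_mem_normalizer_not_mem A'.isPGroup' (hd ▸ inf_le_left : D ≤ A')
      (fun e => hne (Sylow.ext (A'.is_maximal' B'.isPGroup'
        (e.ge.trans (hd.le.trans inf_le_right))).symm))
    obtain ⟨S, hS⟩ := (A'.isPGroup'.comap_subtype (K := N)).exists_le_sylow
    exact ⟨g, S, hg, hgD, hR S ⟨⟨g, hgN⟩, hS hg, rfl⟩⟩
  obtain ⟨a, S, haA, haD, haR⟩ := hlast A B hAB hD
  obtain ⟨b, T, hbB, hbD, hbR⟩ := hlast B A hAB.symm (hD.trans (inf_comm _ _))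
  have hST : S ≠ T := by
    rintro rfl
    exact hAB ((heq A (R S) inf_le_left (hDR S) ⟨a, haA, haR, haD⟩).trans
      (heq B (R S) inf_le_right (hDR S) ⟨b, hbB, hbR, hbD⟩).symm)
  have : Fintype (Sylow p N) := Fintype.ofFinite _
  have hn : p + 1 ≤ Fintype.card (Sylow p N) := by
    have h1 : 1 < Fintype.card (Sylow p N) := Fintype.one_lt_card_iff.2 ⟨S, T, hST⟩
    have h2 := card_sylow_modEq_one p N
    rw [Nat.card_eq_fintype_card] at h2
    have h3 := Nat.le_of_dvd (by omega) ((Nat.modEq_iff_dvd' h1.le).1 h2.symm)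
    omega
  -- the count
  let F : Subgroup G → Finset G := fun H => Finset.univ.filter fun x => x ∈ H
  have hF : ∀ H : Subgroup G, (F H).card = Nat.card H := fun H => by
    rw [Nat.card_eq_fintype_card, Fintype.card_subtype]
  let E : Finset G := Finset.univ.filter fun g => ∃ k : ℕ, orderOf g = p ^ k
  have hsub : F D ∪ Finset.univ.biUnion (fun S : Sylow p N => F (R S) \ F D) ⊆ E := by
    intro x hx
    have : ∃ H : Sylow p G, x ∈ (H : Subgroup G) := by
      simp only [F, Finset.mem_union, Finset.mem_biUnion, Finset.mem_sdiff, Finset.mem_filter,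
        Finset.mem_univ, true_and] at hx
      rcases hx with hx | ⟨S, hx, -⟩
      · exact ⟨A, hx.1⟩
      · exact ⟨R S, hx⟩
    obtain ⟨H, hH⟩ := this
    obtain ⟨k, hk⟩ := (IsPGroup.iff_orderOf.1 H.isPGroup') ⟨x, hH⟩
    simp only [E, Finset.mem_filter, Finset.mem_univ, true_and]
    exact ⟨k, by rw [← hk, Subgroup.orderOf_mk]⟩
  have hcard := Finset.card_le_card hsub
  rw [Finset.card_union_of_disjoint, Finset.card_biUnion, hF] at hcard
  · have hterm : ∀ S : Sylow p N, (F (R S) \ F D).card = Nat.card (P : Subgroup G) - Nat.card D := by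
      intro S
      rw [Finset.card_sdiff_of_subset (fun x hx => by simp [F] at hx ⊢; exact hDR S hx), hF, hF,
        (R S).card_eq_multiplicity, P.card_eq_multiplicity]
    rw [Finset.sum_congr rfl (fun S _ => hterm S), Finset.sum_const, smul_eq_mul,
      Finset.card_univ] at hcard
    have hE : Nat.card {g : G // ∃ k : ℕ, orderOf g = p ^ k} = E.card := by
      rw [Nat.card_eq_fintype_card, Fintype.card_subtype]
    rw [hE]
    have hDP : p * Nat.card D ≤ Nat.card (P : Subgroup G) := by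
      have hlt : Nat.card D < Nat.card (A : Subgroup G) := by
        refine lt_of_le_of_ne (card_le_of_le inf_le_left) fun e => hAB (Sylow.ext ?_)
        have := eq_of_le_of_card_ge (inf_le_left : D ≤ A) e.ge
        exact (A.is_maximal' B.isPGroup' (this ▸ inf_le_right)).symm
      rw [A.card_eq_multiplicity, ← P.card_eq_multiplicity] at hlt
      obtain ⟨d, hd⟩ := IsPGroup.iff_card.1 hDp
      obtain ⟨e, he⟩ := IsPGroup.iff_card.1 P.isPGroup'
      rw [hd, he] at hlt ⊢
      rw [← pow_succ']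
      exact Nat.pow_le_pow_right hp.pos ((Nat.pow_lt_pow_iff_right hp.one_lt).1 hlt)
    obtain ⟨r, hr⟩ := Nat.exists_eq_add_of_le ((Nat.le_mul_of_pos_left _ hp.pos).trans hDP)
    rw [hr, Nat.add_sub_cancel_left] at hcard
    rw [hr] at hDP ⊢
    have := (Nat.mul_le_mul_right r hn).trans' le_rfl
    nlinarith
  · intro S _ T _ hne
    simp only [Finset.disjoint_left, Finset.mem_sdiff, F, Finset.mem_filter, Finset.mem_univ,
      true_and]
    intro x hx hx'
    exact absurd (heq _ _ (hDR S) (hDR T) ⟨x, hx.1, hx'.1, hx.2⟩) (hinj.ne hne)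
  · simp [Finset.disjoint_left]
    exact fun a h _ _ => h

end Cfsg.Agent.S4092
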