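import Mathlib
import Cfsg.Statements.S4093

set_option autoImplicit false
open Cfsg
open scoped BigOperators

namespace Cfsg.Agent.S4093

open Subgroup

variable {G : Type*} [Group G]

/-- With a normal complement `N` of `Q`, an element of `Q` conjugated by `N` determines it. -/
theorem eq_of_conj_eq {N Q : Subgroup G} [N.Normal] (h : N.IsComplement' Q) {x y : G} (hx : x ∈ Q)
    (hy : y ∈ Q) {n m : G} (hn : n ∈ N) (hm : m ∈ N) (he : n * x * n⁻¹ = m * y * m⁻¹) : x = y := by
  have h1 : x * y⁻¹ ∈ N := by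
    have e : x * y⁻¹ = n⁻¹ * m * (y * (m⁻¹ * n) * y⁻¹) := by
      have : x = n⁻¹ * (m * y * m⁻¹) * n := by rw [← he]; group
      rw [this]; group
    rw [e]
    exact N.mul_mem (N.mul_mem (N.inv_mem hn) hm)
      (‹N.Normal›.conj_mem _ (N.mul_mem (N.inv_mem hm) hn) y)
  exact mul_inv_eq_one.1 (mem_bot.1 (h.disjoint.le_bot ⟨h1, Q.mul_mem hx (Q.inv_mem hy)⟩))

theorem result {G : Type*} [Group G] [Finite G] (p : ℕ) [Fact p.Prime]
    (P : Sylow p G) (N : Subgroup G) [N.Normal] (hNP : N.IsComplement' (P : Subgroup G)) :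
    Nat.card {g : G // ∃ k : ℕ, orderOf g = p ^ k} =
      ∑ᶠ x : (P : Subgroup G), Nat.card N / Nat.card ↥(N ⊓ Subgroup.centralizer ({(x : G)} : Set G)) := by
  classical
  have : Fintype (P : Subgroup G) := Fintype.ofFinite _
  let C : ↥(P : Subgroup G) → Subgroup N := fun x => (centralizer ({(x : G)} : Set G)).subgroupOf N
  have hpow : ∀ (x : (P : Subgroup G)) (n : N),
      ∃ k : ℕ, orderOf ((n : G) * x * (n : G)⁻¹) = p ^ k := by
    intro x n
    obtain ⟨k, hk⟩ := IsPGroup.iff_orderOf.1 P.isPGroup' x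
    exact ⟨k, by rw [← MulAut.conj_apply, MulEquiv.orderOf_eq, Subgroup.orderOf_coe, hk]⟩
  let f : (Σ x : (P : Subgroup G), N ⧸ C x) → {g : G // ∃ k : ℕ, orderOf g = p ^ k} := fun s =>
    Quotient.liftOn' s.2 (fun n : N => ⟨(n : G) * s.1 * (n : G)⁻¹, hpow s.1 n⟩) fun a b hab => by
      have h := QuotientGroup.leftRel_apply.1 hab
      rw [mem_subgroupOf, mem_centralizer_singleton_iff] at h
      push_cast at h
      apply Subtype.ext
      show (a : G) * s.1 * (a : G)⁻¹ = (b : G) * s.1 * (b : G)⁻¹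
      calc (a : G) * s.1 * (a : G)⁻¹
          = a * ((s.1 : G) * ((a : G)⁻¹ * b)) * (b : G)⁻¹ := by group
        _ = a * (((a : G)⁻¹ * b) * s.1) * (b : G)⁻¹ := by rw [h]
        _ = _ := by group
  have hf : Function.Bijective f := by
    constructor
    · rintro ⟨x, qx⟩ ⟨y, qy⟩ h
      induction qx using QuotientGroup.induction_on with
      | H n =>
      induction qy using QuotientGroup.induction_on with
      | H m =>
      have he : (n : G) * x * (n : G)⁻¹ = (m : G) * y * (m : G)⁻¹ := congrArg Subtype.val h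
      obtain rfl : x = y := Subtype.ext (eq_of_conj_eq hNP x.2 y.2 n.2 m.2 he)
      congr 1
      rw [QuotientGroup.eq, mem_subgroupOf, mem_centralizer_singleton_iff]
      push_cast
      calc (n : G)⁻¹ * m * x = (n : G)⁻¹ * ((m : G) * x * (m : G)⁻¹) * m := by group
        _ = (n : G)⁻¹ * ((n : G) * x * (n : G)⁻¹) * m := by rw [he]
        _ = x * ((n : G)⁻¹ * m) := by group
    · rintro ⟨g, k, hk⟩
      have hgp : IsPGroup p (zpowers g) :=
        IsPGroup.iff_card.2 ⟨k, by rw [Nat.card_zpowers, hk]⟩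
      obtain ⟨T, hT⟩ := hgp.exists_le_sylow
      obtain ⟨h, rfl⟩ := MulAction.exists_smul_eq G P T
      have hg : MulAut.conj h⁻¹ g ∈ (P : Subgroup G) := by
        have := hT (mem_zpowers g)
        rw [Sylow.coe_subgroup_smul, Subgroup.mem_pointwise_smul_iff_inv_smul_mem] at this
        simpa [MulAut.conj_symm_apply] using this
      obtain ⟨⟨⟨n, hn⟩, ⟨y, hy⟩⟩, hny⟩ := hNP.2 h
      have hz : y * (h⁻¹ * g * h) * y⁻¹ ∈ (P : Subgroup G) := by
        refine mul_mem (mul_mem hy ?_) (inv_mem hy)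
        simpa using hg
      refine ⟨⟨⟨_, hz⟩, QuotientGroup.mk (⟨n, hn⟩ : N)⟩, ?_⟩
      apply Subtype.ext
      show n * (y * (h⁻¹ * g * h) * y⁻¹) * n⁻¹ = g
      have hh : n * y = h := hny
      rw [← hh]; group
  rw [← Nat.card_eq_of_bijective f hf, Nat.card_sigma, finsum_eq_sum_of_fintype]
  refine Finset.sum_congr rfl fun x _ => ?_
  have hc : Nat.card (C x) = Nat.card ↥(N ⊓ centralizer ({(x : G)} : Set G)) := by
    rw [← card_map_of_injective N.subtype_injective, subgroupOf_map_subtype, inf_comm]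
  rw [← hc, ← (C x).index_mul_card, Nat.mul_div_cancel _ Nat.card_pos]
  rfl

end Cfsg.Agent.S4093
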