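import Cfsg.Statements.S4097
import Cfsg.Agent.S0035
import Cfsg.Agent.H75.SolvableCentral

set_option autoImplicit false
open Cfsg

namespace Cfsg.Agent.S4097

universe u

/-- Frobenius kernels exist. -/
theorem kernelExists : H75.KernelExists.{u} := fun {G} _ _ H hH => by
  obtain ⟨N, -, h2, h3⟩ := S0035.result H hH
  exact ⟨N, h2, h3⟩

theorem result {G : Type*} [Group G] [Finite G]
    (A : Subgroup G) (hA : Group.IsSolvable A)
    (hc : ∀ S : Subgroup G, A ≤ S → Group.IsSolvable S → ∀ a ∈ A, ∀ s ∈ S, a * s = s * a) : A ≤ Subgroup.center G :=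
  H75.le_center_of_solvableCentral kernelExists A hA hc

end Cfsg.Agent.S4097
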