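import Cfsg.Statements.S4100
import Cfsg.Agent.PGroups.AltTenInstance
import Cfsg.Agent.PGroups.AltNineModule
import Cfsg.Agent.Coprime.SchurZassenhaus
import Cfsg.Agent.H25.Transfer
import Mathlib.GroupTheory.Frattini

set_option autoImplicit false
open scoped MatrixGroups
open Cfsg

namespace Cfsg.Agent.S4100

open Subgroup PGroups.GRC

universe u

/-- elements satisfying the relations of `A₅` or of a Hurwitz group lie outside solvable groups -/
theorem eq_one_of_pair {A : Type*} [Group A] (S : Subgroup A) (hS : Group.IsSolvable S) {a b : A}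
    (ha : a ∈ S) (hb : b ∈ S) (h2 : a * a = 1) (h3 : b * b * b = 1)
    (hk : (a * b) ^ 5 = 1 ∨ (a * b) ^ 7 = 1) : a = 1 := by
  by_contra hne
  let H : Subgroup A := closure {a, b}
  have hHS : H ≤ S := (closure_le _).mpr (Set.insert_subset ha (Set.singleton_subset_iff.mpr hb))
  have : Group.IsSolvable H :=
    Group.isSolvable_of_isSolvable_injective (f := Subgroup.inclusion hHS) (inclusion_injective hHS)
  let a' : H := ⟨a, subset_closure (Set.mem_insert _ _)⟩
  let b' : H := ⟨b, subset_closure (Set.mem_insert_of_mem _ rfl)⟩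
  have : Nontrivial H := ⟨a', 1, fun e => hne (congrArg Subtype.val e)⟩
  let α := Abelianization.of a'
  let β := Abelianization.of b'
  have e2 : α * α = 1 := by
    rw [← map_mul, show a' * a' = 1 from Subtype.ext h2, map_one]
  have e3 : β * β * β = 1 := by
    rw [← map_mul, ← map_mul, show b' * b' * b' = 1 from Subtype.ext h3, map_one]
  have hα2 : α ^ 2 = 1 := by rw [pow_two, e2]
  have hβ3 : β ^ 3 = 1 := by rw [pow_succ, pow_two, e3]
  have ek : α = 1 ∧ β = 1 := by
    rcases hk with h | h
    · have e : α ^ 5 * β ^ 5 = 1 := by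
        rw [← mul_pow, ← map_mul, ← map_pow, show (a' * b') ^ 5 = 1 from Subtype.ext h, map_one]
      rw [show α ^ 5 = α by rw [show 5 = 2 * 2 + 1 from rfl, pow_succ, pow_mul, hα2, one_pow, one_mul],
        show β ^ 5 = β ^ 2 by rw [show 5 = 3 + 2 from rfl, pow_add, hβ3, one_mul]] at e
      have hab : α = β := by
        calc α = α * (β ^ 2 * β) := by rw [← pow_succ, hβ3, mul_one]
          _ = β := by rw [← mul_assoc, e, one_mul]
      have hα : α = 1 := by
        have h3' : α ^ 3 = 1 := by rw [hab, hβ3]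
        rwa [pow_succ, hα2, one_mul] at h3'
      exact ⟨hα, hab ▸ hα⟩
    · have e : α ^ 7 * β ^ 7 = 1 := by
        rw [← mul_pow, ← map_mul, ← map_pow, show (a' * b') ^ 7 = 1 from Subtype.ext h, map_one]
      rw [show α ^ 7 = α by rw [show 7 = 2 * 3 + 1 from rfl, pow_succ, pow_mul, hα2, one_pow, one_mul],
        show β ^ 7 = β by rw [show 7 = 3 * 2 + 1 from rfl, pow_succ, pow_mul, hβ3, one_pow, one_mul]] at e
      have hab : β = α⁻¹ := eq_inv_of_mul_eq_one_right e
      have hβ : β = 1 := by
        have h2' : β ^ 2 = 1 := by rw [hab, inv_pow, hα2, inv_one]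
        rwa [pow_succ, h2', one_mul] at hβ3
      refine ⟨?_, hβ⟩
      rwa [hβ, mul_one] at e
  have htop : _root_.commutator H = ⊤ := by
    rw [eq_top_iff, ← Abelianization.ker_of]
    rintro ⟨x, hx⟩ -
    change (⟨x, hx⟩ : H) ∈ (Abelianization.of (G := H)).ker
    induction hx using closure_induction with
    | mem y hy =>
      rcases hy with rfl | rfl
      · exact MonoidHom.mem_ker.mpr ek.1
      · exact MonoidHom.mem_ker.mpr ek.2
    | one => exact one_mem _
    | mul y z hy hz h1 h2 => exact mul_mem h1 h2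
    | inv y hy h1 => exact inv_mem h1
  exact (Group.IsSolvable.commutator_lt_top_of_nontrivial H).ne htop

section General

variable {K A : Type*} [Group K] [Group A]

/-- the stabiliser of a coset of a central subgroup under conjugation -/
def cosetStab (x : K) (Z : Subgroup K) (hZ : Z ≤ center K) : Subgroup K where
  carrier := {y | y * x * y⁻¹ * x⁻¹ ∈ Z}
  one_mem' := by simp
  mul_mem' {a b} ha hb := by
    show (a * b) * x * (a * b)⁻¹ * x⁻¹ ∈ Z
    have e : (a * b) * x * (a * b)⁻¹ * x⁻¹ = (b * x * b⁻¹ * x⁻¹) * (a * x * a⁻¹ * x⁻¹) := by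
      calc (a * b) * x * (a * b)⁻¹ * x⁻¹
          = a * (b * x * b⁻¹ * x⁻¹) * a⁻¹ * (a * x * a⁻¹ * x⁻¹) := by group
        _ = _ := by rw [mem_center_iff.mp (hZ hb) a, mul_inv_cancel_right]
    rw [e]
    exact mul_mem hb ha
  inv_mem' {a} ha := by
    show a⁻¹ * x * a⁻¹⁻¹ * x⁻¹ ∈ Z
    have e : a⁻¹ * x * a⁻¹⁻¹ * x⁻¹ = (a * x * a⁻¹ * x⁻¹)⁻¹ := by
      calc a⁻¹ * x * a⁻¹⁻¹ * x⁻¹ = a⁻¹ * (a * x * a⁻¹ * x⁻¹)⁻¹ * a := by group
        _ = _ := by rw [mem_center_iff.mp (inv_mem (hZ ha)) a⁻¹, inv_mul_cancel_right]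
    rw [e]
    exact inv_mem ha

theorem isSolvable_cosetStab (x : K) (Z : Subgroup K) (hZ : Z ≤ center K)
    (hx : Group.IsSolvable (centralizer ({x} : Set K))) : Group.IsSolvable (cosetStab x Z hZ) := by
  have hcomm : ∀ a b : Z, a * b = b * a := fun a b =>
    Subtype.ext (mem_center_iff.mp (hZ b.2) a)
  have : Group.IsSolvable Z := Group.isSolvable_of_comm hcomm
  let φ : cosetStab x Z hZ →* Z :=
    { toFun := fun y => ⟨(y : K) * x * (y : K)⁻¹ * x⁻¹, y.2⟩
      map_one' := Subtype.ext (by simp)
      map_mul' := fun a b => by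
        rw [hcomm]
        apply Subtype.ext
        show ((a * b : cosetStab x Z hZ) : K) * x * _ * x⁻¹ =
          ((b : K) * x * (b : K)⁻¹ * x⁻¹) * ((a : K) * x * (a : K)⁻¹ * x⁻¹)
        calc _ = (a : K) * ((b : K) * x * (b : K)⁻¹ * x⁻¹) * (a : K)⁻¹ *
              ((a : K) * x * (a : K)⁻¹ * x⁻¹) := by push_cast; group
          _ = _ := by rw [mem_center_iff.mp (hZ b.2) (a : K), mul_inv_cancel_right] }
  let C := (centralizer ({x} : Set K)).subgroupOf (cosetStab x Z hZ)
  have : Group.IsSolvable C := Group.isSolvable_of_isSolvable_injective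
    (f := ((cosetStab x Z hZ).subtype.comp C.subtype).codRestrict (centralizer ({x} : Set K))
      (fun y => y.2)) (by
        intro y z h
        apply Subtype.ext
        apply Subtype.ext
        exact (congrArg Subtype.val h :))
  refine Group.isSolvable_of_ker_le_range C.subtype φ fun y hy => ?_
  rw [range_subtype]
  refine mem_subgroupOf.mpr (mem_centralizer_singleton_iff.mpr ?_)
  have h1 : (y : K) * x * (y : K)⁻¹ * x⁻¹ = 1 := congrArg Subtype.val hy
  calc (y : K) * x = ((y : K) * x * (y : K)⁻¹ * x⁻¹) * x * y := by group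
    _ = x * y := by rw [h1, one_mul]

theorem isSolvable_map {S : Subgroup K} (hS : Group.IsSolvable S) (f : K →* A) :
    Group.IsSolvable (S.map f) :=
  Group.isSolvable_of_surjective (f := f.subgroupMap S) (f.subgroupMap_surjective S)

theorem eq_one_of_pow_mem {p : ℕ} (hp : p.Prime) [Finite K] {M : Subgroup K}
    (hcop : p.Coprime (Nat.card M)) {g : K} (hg : ∃ k : ℕ, g ^ p ^ k = 1) (h : g ∈ M) : g = 1 := by
  obtain ⟨k, hk⟩ := hg
  have h1 : orderOf g ∣ p ^ k := orderOf_dvd_of_pow_eq_one hk
  have h2 : orderOf g ∣ Nat.card M := by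
    rw [← Subgroup.orderOf_mk g h]
    exact orderOf_dvd_natCard _
  exact orderOf_eq_one_iff.mp (Nat.eq_one_of_dvd_coprimes (hcop.pow_left k) h1 h2)

/-- two elements of prime power order in one coset of a coprime subgroup are conjugate -/
theorem conj_coset [Finite K] {p : ℕ} (hp : p.Prime) {M : Subgroup K} (hM : Group.IsSolvable M)
    (hcop : p.Coprime (Nat.card M)) {x u : K} (hnorm : x ∈ normalizer (M : Set K))
    (hx : ∃ k : ℕ, x ^ p ^ k = 1) (hu : ∃ k : ℕ, u ^ p ^ k = 1) (h : x⁻¹ * u ∈ M) :
    ∃ m ∈ M, u = m * x * m⁻¹ := by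
  have hconj : ∀ m ∈ M, x⁻¹ * m * x ∈ M := fun m hm => by
    have := (mem_normalizer_iff.mp (inv_mem hnorm) m).mp hm
    simpa using this
  have hpw : ∀ k : ℕ, (x ^ k)⁻¹ * u ^ k ∈ M := by
    intro k
    induction k with
    | zero => simp
    | succ k ih =>
      have e : (x ^ (k + 1))⁻¹ * u ^ (k + 1) =
          x⁻¹ * ((x ^ k)⁻¹ * u ^ k) * x * (x⁻¹ * u) := by
        rw [pow_succ, pow_succ]; group
      rw [e]
      exact mul_mem (hconj _ ih) h
  obtain ⟨i, hi⟩ := hx
  obtain ⟨j, hj⟩ := hu
  have ho : orderOf x = orderOf u := by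
    apply Nat.dvd_antisymm <;> rw [orderOf_dvd_iff_pow_eq_one]
    · refine eq_one_of_pow_mem hp hcop ⟨i, by rw [← pow_mul, mul_comm, pow_mul, hi, one_pow]⟩ ?_
      have := hpw (orderOf u)
      rw [pow_orderOf_eq_one, mul_one] at this
      exact inv_mem_iff.mp this
    · refine eq_one_of_pow_mem hp hcop ⟨j, by rw [← pow_mul, mul_comm, pow_mul, hj, one_pow]⟩ ?_
      have := hpw (orderOf x)
      rwa [pow_orderOf_eq_one, inv_one, one_mul] at this
  have hle : zpowers u ≤ M ⊔ zpowers x := by
    rw [zpowers_le]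
    have e : u = x * (x⁻¹ * u) := (mul_inv_cancel_left x u).symm
    rw [e]
    exact mul_mem (mem_sup_right (mem_zpowers x)) (mem_sup_left h)
  obtain ⟨n, hn, he⟩ := Coprime.exists_conj_of_le_sup (N := M) (H₁ := zpowers x) (H₂ := zpowers u)
    (zpowers_le.mpr hnorm) hle (by rw [Nat.card_zpowers, Nat.card_zpowers, ho])
    (by
      rw [Nat.card_zpowers]
      exact Nat.Coprime.coprime_dvd_left (orderOf_dvd_of_pow_eq_one hi) (hcop.pow_left i))
    (Or.inr hM)
  obtain ⟨y, hy, hyu⟩ := (he ▸ mem_zpowers u : u ∈ (zpowers x).map (MulAut.conj n).toMonoidHom)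
  refine ⟨n, hn, ?_⟩
  have hyu' : n * y * n⁻¹ = u := hyu
  have hy' : x⁻¹ * y ∈ M := by
    have e : x⁻¹ * y = (x⁻¹ * n⁻¹ * x) * (x⁻¹ * u) * n := by rw [← hyu']; group
    rw [e]
    exact mul_mem (mul_mem (hconj _ (inv_mem hn)) h) hn
  have hz : x⁻¹ * y = 1 := by
    refine eq_one_of_pow_mem hp hcop ⟨i, ?_⟩ hy'
    obtain ⟨z, hz⟩ := mem_zpowers_iff.mp (mul_mem (inv_mem (mem_zpowers x)) hy)
    rw [← hz, ← zpow_natCast, ← zpow_mul, mul_comm, zpow_mul, zpow_natCast, hi, one_zpow]
  rw [inv_mul_eq_one] at hz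
  rw [← hyu', ← hz]

/-- the image of a subgroup fixing a coset is solvable when the centraliser is -/
theorem isSolvable_image [Finite K] {p : ℕ} (hp : p.Prime) (f : K →* A) {Z M R : Subgroup K}
    (hZ : Z ≤ center K) (hZp : ∀ z ∈ Z, ∃ k : ℕ, z ^ p ^ k = 1) (hM : Group.IsSolvable M)
    (hcop : p.Coprime (Nat.card M)) (hMf : M ≤ f.ker) {x : K} (hnorm : x ∈ normalizer (M : Set K))
    (hx : ∃ k : ℕ, x ^ p ^ k = 1) (hC : Group.IsSolvable (centralizer ({x} : Set K)))
    (hR : ∀ y ∈ R, ∃ z ∈ Z, ∃ m ∈ M, y * x * y⁻¹ = x * z * m) : Group.IsSolvable (R.map f) := by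
  have hle : R.map f ≤ (cosetStab x Z hZ).map f := by
    rintro _ ⟨y, hy, rfl⟩
    obtain ⟨z, hz, m, hm, e⟩ := hR y hy
    have hcz : ∀ g : K, g * z = z * g := fun g => mem_center_iff.mp (hZ hz) g
    have hu : ∃ k : ℕ, (x * m) ^ p ^ k = 1 := by
      obtain ⟨i, hi⟩ := hx
      obtain ⟨j, hj⟩ := hZp z hz
      refine ⟨i + j, ?_⟩
      have e' : x * m = y * x * y⁻¹ * z⁻¹ := by
        calc x * m = x * (z * m * z⁻¹) := by rw [← hcz m, mul_inv_cancel_right]
          _ = _ := by rw [e]; group
      have hc : Commute (y * x * y⁻¹) z⁻¹ := Commute.inv_right (hcz _)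
      rw [e', hc.mul_pow, conj_pow, pow_add, pow_mul, hi, one_pow, mul_one, mul_inv_cancel,
        one_mul, inv_pow, mul_comm (p ^ i), pow_mul, hj, one_pow, inv_one]
    obtain ⟨m', hm', e'⟩ := conj_coset hp hM hcop hnorm hx hu (by rwa [inv_mul_cancel_left])
    refine ⟨m'⁻¹ * y, ?_, ?_⟩
    · show m'⁻¹ * y * x * (m'⁻¹ * y)⁻¹ * x⁻¹ ∈ Z
      have e'' : m'⁻¹ * y * x * (m'⁻¹ * y)⁻¹ * x⁻¹ = z := by
        calc m'⁻¹ * y * x * (m'⁻¹ * y)⁻¹ * x⁻¹ = m'⁻¹ * (y * x * y⁻¹) * m' * x⁻¹ := by group
          _ = m'⁻¹ * (z * (m' * x * m'⁻¹)) * m' * x⁻¹ := by rw [e, hcz x, mul_assoc z, e']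
          _ = m'⁻¹ * z * m' := by group
          _ = z := by rw [hcz, inv_mul_cancel_right]
      rwa [e'']
    · rw [map_mul, map_inv, (MonoidHom.mem_ker.mp (hMf hm')), inv_one, one_mul]
  haveI := isSolvable_map (isSolvable_cosetStab x Z hZ hC) f
  exact Group.isSolvable_of_isSolvable_injective (inclusion_injective hle)

/-- a lift of prime power order -/
theorem exists_lift [Finite K] {p : ℕ} (hp : p.Prime) (f : K →* A) {σ : A} (hσ : σ ^ p = 1)
    {y : K} (hy : f y = σ) : ∃ x ∈ zpowers y, f x = σ ∧ ∃ k : ℕ, x ^ p ^ k = 1 := by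
  obtain ⟨a, b, hb, hab⟩ := Nat.exists_eq_pow_mul_and_not_dvd (orderOf_pos y).ne' p hp.ne_one
  obtain ⟨c, -, hc⟩ := Nat.exists_mul_mod_eq_one_of_coprime
    ((hp.coprime_iff_not_dvd.mpr hb).symm) hp.one_lt
  refine ⟨y ^ (b * c), npow_mem_zpowers _ _, ?_, a, ?_⟩
  · rw [map_pow, hy, ← Nat.div_add_mod (b * c) p, hc, pow_succ, pow_mul, hσ, one_pow, one_mul]
  · rw [← pow_mul, show b * c * p ^ a = orderOf y * c by rw [hab]; ring, pow_mul, pow_orderOf_eq_one,
      one_pow]

/-- an automorphism of an abelian group as an endomorphism -/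
def toEnd (W : Type*) [CommGroup W] : MulAut W →* AddMonoid.End (Additive W) where
  toFun e := MonoidHom.toAdditive e.toMonoidHom
  map_one' := rfl
  map_mul' _ _ := rfl

end General

/-- what the homomorphism onto the alternating group must satisfy -/
structure Config (p : ℕ) (A : Type) [Group A] : Prop where
  center : ∀ s : A, (∀ a, a * s = s * a) → s = 1
  exists_split : ∃ (σ : A) (ι : alternatingGroup (Fin 5) →* A), Function.Injective ι ∧
    σ ^ p = 1 ∧ σ ≠ 1 ∧ ∀ s, σ * ι s = ι s * σ
  module : p ∣ 60 → ∀ (V : Type u) [AddCommGroup V], (∀ v : V, p • v = 0) →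
    ∀ ρ : A →* AddMonoid.End V,
      (∀ a b : A, a * a = 1 → b * b * b = 1 → (a * b) ^ 5 = 1 ∨ (a * b) ^ 7 = 1 → a ≠ 1 →
        ∀ v, ρ a v = v → ρ b v = v → v = 0) → ∀ v : V, v = 0

theorem false_of_hom {p : ℕ} (hp : p.Prime) {A : Type} [Group A] (hA : Config.{u} p A) :
    ∀ (n : ℕ) (K : Type u) [Group K] [Finite K], Nat.card K ≤ n →
      (∀ x : K, x ∉ center K → (∃ k : ℕ, orderOf x = p ^ k) →
        Group.IsSolvable (centralizer ({x} : Set K))) →
      ∀ f : K →* A, Function.Surjective f → False := by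
  intro n
  induction n with
  | zero => intro K _ _ h; exact absurd h (Nat.not_le.mpr Nat.card_pos)
  | succ n ih =>
    intro K _ _ hcard hyp f hf
    have : Fact p.Prime := ⟨hp⟩
    -- no proper subgroup maps onto
    have hmin : ∀ H : Subgroup K, H ≠ ⊤ → H.map f ≠ ⊤ := by
      intro H hH htop
      have hlt : Nat.card H < Nat.card K :=
        lt_of_le_of_ne (card_le_card_group H) fun e => hH (eq_top_of_card_eq H e)
      refine ih H (by omega) ?_ (f.comp H.subtype) ?_
      · intro x hx hxp
        have hxK : (x : K) ∉ center K := fun hc =>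
          hx (mem_center_iff.mpr fun g => Subtype.ext (mem_center_iff.mp hc g))
        have := hyp x hxK (by rwa [Subgroup.orderOf_coe])
        refine Group.isSolvable_of_isSolvable_injective
          (f := (H.subtype.comp (centralizer ({x} : Set H)).subtype).codRestrict
            (centralizer ({(x : K)} : Set K)) fun y => mem_centralizer_singleton_iff.mpr
              (congrArg Subtype.val (mem_centralizer_singleton_iff.mp y.2))) ?_
        intro y z h
        apply Subtype.ext
        apply Subtype.ext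
        exact (congrArg Subtype.val h :)
      · intro a
        obtain ⟨y, hy, rfl⟩ := (htop ▸ mem_top a : a ∈ H.map f)
        exact ⟨⟨y, hy⟩, rfl⟩
    -- the kernel is nilpotent
    set N := f.ker with hN
    have hNle : N ≤ frattini K := by
      unfold frattini Order.radical
      refine le_iInf₂ fun M hM => ?_
      by_contra hle
      have hsup : N ⊔ M = ⊤ := hM.2 _ (lt_of_le_of_ne le_sup_right fun e => hle (e ▸ le_sup_left))
      refine hmin M hM.1 ?_
      rw [← map_top_of_surjective f hf, ← hsup, Subgroup.map_sup, (Subgroup.map_eq_bot_iff N).mpr le_rfl,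
        bot_sup_eq]
    have : Group.IsNilpotent (frattini K) := frattini_nilpotent
    have hnilN : Group.IsNilpotent N :=
      Group.nilpotent_of_mulEquiv (subgroupOfEquivOfLe hNle)
    have hsolN : Group.IsSolvable N := inferInstance
    -- its Sylow subgroup and the complement
    let P0 : Sylow p N := default
    have hP0n : ((P0 : Subgroup N)).Normal :=
      Sylow.normal_of_normalizerCondition Group.normalizerCondition_of_isNilpotent P0
    obtain ⟨M0, hM0⟩ := exists_right_complement'_of_coprime (N := (P0 : Subgroup N)) P0.card_coprime_index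
    let P := (P0 : Subgroup N).map N.subtype
    let M := M0.map N.subtype
    have hPN : P ≤ N := map_subtype_le _
    have hMN : M ≤ N := map_subtype_le _
    have hcM : Nat.card M = (P0 : Subgroup N).index := by
      rw [card_map_of_injective N.subtype_injective, hM0.symm.index_eq_card]
    have hcP : Nat.card P = Nat.card (P0 : Subgroup N) := card_map_of_injective N.subtype_injective
    have hcop : p.Coprime (Nat.card M) := by
      rw [hcM]; exact hp.coprime_iff_not_dvd.mpr P0.not_dvd_index
    have hcardN : Nat.card N = Nat.card P * Nat.card M := by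
      rw [hcP, hcM, card_mul_index]
    have hPp : ∀ a ∈ P, ∃ k : ℕ, a ^ p ^ k = 1 := by
      rintro _ ⟨a, ha, rfl⟩
      obtain ⟨k, hk⟩ := P0.isPGroup' ⟨a, ha⟩
      refine ⟨k, ?_⟩
      rw [← map_pow, show a ^ p ^ k = 1 from congrArg Subtype.val hk, map_one]
    have hPM : ∀ a ∈ P, ∀ b ∈ M, a * b = b * a := by
      rintro _ ⟨a, ha, rfl⟩ _ ⟨b, hb, rfl⟩
      rw [← map_mul, ← map_mul, H25.commute_of_coprime_orderOf a b ?_]
      obtain ⟨k, hk⟩ := P0.isPGroup' ⟨a, ha⟩
      refine Nat.Coprime.coprime_dvd_left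
        (orderOf_dvd_of_pow_eq_one (show a ^ p ^ k = 1 from congrArg Subtype.val hk)) ?_
      refine Nat.Coprime.coprime_dvd_right ?_ (hcop.pow_left k)
      rw [card_map_of_injective N.subtype_injective, ← Subgroup.orderOf_mk b hb]
      exact orderOf_dvd_natCard _
    have hdec : ∀ x ∈ N, ∃ a ∈ P, ∃ b ∈ M, x = a * b := by
      intro x hx
      obtain ⟨⟨a, b⟩, hab⟩ := hM0.surjective ⟨x, hx⟩
      exact ⟨_, mem_map_of_mem _ a.2, _, mem_map_of_mem _ b.2, (congrArg Subtype.val hab).symm⟩
    have hNnorm : ∀ g : K, ∀ x ∈ N, g * x * g⁻¹ ∈ N := fun g x hx =>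
      (MonoidHom.normal_ker f).conj_mem x hx g
    have hPn : P.Normal := by
      refine ⟨fun a ha g => ?_⟩
      obtain ⟨k, hk⟩ := hPp a ha
      obtain ⟨c, hc, b, hb, e⟩ := hdec _ (hNnorm g a (hPN ha))
      have hb1 : b = 1 := by
        refine eq_one_of_pow_mem hp hcop ?_ hb
        obtain ⟨l, hl⟩ := hPp c hc
        refine ⟨k + l, ?_⟩
        have h1 : (c * b) ^ p ^ (k + l) = 1 := by
          rw [← e, conj_pow, pow_add, pow_mul, hk, one_pow, mul_one, mul_inv_cancel]
        have hc1 : c ^ p ^ (k + l) = 1 := by rw [pow_add, mul_comm, pow_mul, hl, one_pow]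
        rwa [Commute.mul_pow (hPM c hc b hb), hc1, one_mul] at h1
      rw [e, hb1, mul_one]
      exact hc
    have hMn : M.Normal := by
      refine ⟨fun b hb g => ?_⟩
      obtain ⟨c, hc, b', hb', e⟩ := hdec _ (hNnorm g b (hMN hb))
      have hc1 : c = 1 := by
        obtain ⟨l, hl⟩ := hPp c hc
        have h1 : (c * b') ^ Nat.card M = 1 := by
          rw [← e, conj_pow]
          have := congrArg Subtype.val (pow_card_eq_one' (G := M) (x := ⟨b, hb⟩))
          rw [show b ^ Nat.card M = 1 from this, mul_one, mul_inv_cancel]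
        rw [Commute.mul_pow (hPM c hc b' hb'),
          show b' ^ Nat.card M = 1 from congrArg Subtype.val (pow_card_eq_one' (G := M) (x := ⟨b', hb'⟩)),
          mul_one] at h1
        exact orderOf_eq_one_iff.mp (Nat.eq_one_of_dvd_coprimes (hcop.pow_left l)
          (orderOf_dvd_of_pow_eq_one hl) (orderOf_dvd_of_pow_eq_one h1))
      rw [e, hc1, one_mul]
      exact hb'
    have hsolM : Group.IsSolvable M :=
      Group.isSolvable_of_isSolvable_injective (f := inclusion hMN) (inclusion_injective hMN)
    obtain ⟨σ, ι, hι, hσp, hσ1, hσι⟩ := hA.exists_split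
    obtain ⟨r1, r2, r3, r4⟩ := g5_rels
    have hcontra : ∀ S : Subgroup A, Group.IsSolvable S → (∀ s, ι s ∈ S) → False := fun S hS hmem => by
      have e := eq_one_of_pair S hS (hmem g5a) (hmem g5b) (by rw [← map_mul, r1, map_one])
        (by rw [← map_mul, ← map_mul, ← pow_three', r2, map_one])
        (Or.inl (by rw [← map_mul, ← map_pow, r3, map_one]))
      exact r4 (hι (e.trans (map_one ι).symm))
    have hsolC : ∀ x : K, x ∉ center K → (∃ k : ℕ, x ^ p ^ k = 1) →
        Group.IsSolvable (centralizer ({x} : Set K)) := by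
      rintro x hx ⟨k, hk⟩
      obtain ⟨j, -, hj⟩ := (Nat.dvd_prime_pow hp).mp (orderOf_dvd_of_pow_eq_one hk)
      exact hyp x hx ⟨j, hj⟩
    have hσι' : ∀ s, σ * ι s * σ⁻¹ = ι s := fun s => by rw [hσι, mul_inv_cancel_right]
    have hnc : ∀ x : K, f x = σ → x ∉ center K ∨ ∀ a : A, a * σ = σ * a := fun x hx => by
      by_cases h : x ∈ center K
      · refine Or.inr fun a => ?_
        obtain ⟨g, rfl⟩ := hf a
        rw [← hx, ← map_mul, ← map_mul, mem_center_iff.mp h g]
      · exact Or.inl h
    by_cases hP : P ≤ center K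
    · -- central Sylow subgroup of the kernel
      obtain ⟨y0, hy0⟩ := hf σ
      obtain ⟨x, -, hx, hxp⟩ := exists_lift hp f hσp hy0
      let R := (centralizer ({σ} : Set A)).comap f
      have hsol : Group.IsSolvable (R.map f) := by
        rcases hnc x hx with hxc | hc
        · refine isSolvable_image hp f hP hPp hsolM hcop hMN
            (Subgroup.normalizer_eq_top_iff.mpr hMn ▸ mem_top x) hxp (hsolC x hxc hxp) fun y hy => ?_
          have hy' : f y * σ = σ * f y := mem_centralizer_singleton_iff.mp hy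
          obtain ⟨a, ha, b, hb, e⟩ := hdec (x⁻¹ * (y * x * y⁻¹)) (MonoidHom.mem_ker.mpr (by
            rw [map_mul, map_mul, map_mul, map_inv, map_inv, hx, hy', mul_inv_cancel_right,
              inv_mul_cancel]))
          exact ⟨a, ha, b, hb, by rw [mul_assoc x a b, ← e, mul_inv_cancel_left]⟩
        · exact absurd (hA.center σ hc) hσ1
      rw [map_comap_eq_self_of_surjective hf] at hsol
      exact hcontra _ hsol fun s => mem_centralizer_singleton_iff.mpr (hσι s).symm
    by_cases h60 : p ∣ 60
    · -- a module for the alternating group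
      let Z0 := P ⊓ center K
      have hZ0n : Z0.Normal := Subgroup.normal_inf_normal P (center K)
      let q := QuotientGroup.mk' Z0
      let Pb := P.map q
      have hPb : IsPGroup p Pb := (IsPGroup.map (fun a => by
        obtain ⟨k, hk⟩ := hPp a a.2
        exact ⟨k, Subtype.ext hk⟩) q)
      have hPbne : Nontrivial Pb := by
        rw [nontrivial_iff_ne_bot]
        intro e
        refine hP fun a ha => ?_
        have : q a ∈ Pb := mem_map_of_mem q ha
        rw [e, mem_bot, QuotientGroup.mk'_apply, QuotientGroup.eq_one_iff] at this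
        exact this.2
      have hPbn : Pb.Normal := hPn.map q (QuotientGroup.mk'_surjective Z0)
      let V0 : Subgroup (K ⧸ Z0) :=
        { carrier := {v | v ∈ Pb ∧ (∀ u ∈ Pb, u * v = v * u) ∧ v ^ p = 1}
          one_mem' := ⟨one_mem _, fun u _ => by simp, one_pow _⟩
          mul_mem' := fun {a b} ha hb => ⟨mul_mem ha.1 hb.1, fun u hu =>
            (Commute.mul_right (ha.2.1 u hu) (hb.2.1 u hu) : Commute u (a * b)),
            by rw [Commute.mul_pow (hb.2.1 a ha.1), ha.2.2, hb.2.2, one_mul]⟩
          inv_mem' := fun {a} ha => ⟨inv_mem ha.1, fun u hu =>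
            (Commute.inv_right (ha.2.1 u hu) : Commute u a⁻¹), by rw [inv_pow, ha.2.2, inv_one]⟩ }
      have hV0n : V0.Normal := by
        refine ⟨fun v hv g => ⟨hPbn.conj_mem v hv.1 g, fun u hu => ?_, ?_⟩⟩
        · have e := hv.2.1 _ (hPbn.conj_mem u hu g⁻¹)
          calc u * (g * v * g⁻¹) = g * ((g⁻¹ * u * g⁻¹⁻¹) * v) * g⁻¹ := by group
            _ = g * v * g⁻¹ * u := by rw [e]; group
        · rw [conj_pow, hv.2.2, mul_one, mul_inv_cancel]
      letI : CommGroup V0 := { (inferInstance : Group V0) with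
        mul_comm := fun a b => Subtype.ext (b.2.2.1 a a.2.1) }
      have hne : ∃ v : V0, v ≠ 1 := by
        have := hPb.center_nontrivial
        have hdvd : p ∣ Nat.card (center Pb) := by
          obtain ⟨k, hk⟩ := IsPGroup.iff_card.mp (hPb.to_subgroup (center Pb))
          have h1 : 1 < Nat.card (center Pb) := Finite.one_lt_card
          rw [hk] at h1 ⊢
          exact dvd_pow_self p (by rintro rfl; simp at h1)
        obtain ⟨z, hz⟩ := exists_prime_orderOf_dvd_card' p hdvd
        refine ⟨⟨((z : Pb) : K ⧸ Z0), (z : Pb).2, fun u hu => ?_, ?_⟩, ?_⟩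
        · exact congrArg Subtype.val (mem_center_iff.mp z.2 ⟨u, hu⟩)
        · have := pow_orderOf_eq_one z
          rw [hz] at this
          exact congrArg (fun w : center Pb => ((w : Pb) : K ⧸ Z0)) this
        · intro e
          have hz1 : z = 1 := by
            apply Subtype.ext
            apply Subtype.ext
            exact (congrArg Subtype.val e :)
          rw [hz1, orderOf_one] at hz
          exact hp.ne_one hz.symm
      let φ : K →* MulAut V0 := (MulAut.conjNormal (H := V0)).comp q
      have hker : f.ker ≤ φ.ker := by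
        intro x hx
        obtain ⟨a, ha, b, hb, rfl⟩ := hdec x hx
        refine MonoidHom.mem_ker.mpr (MulEquiv.ext fun v => Subtype.ext ?_)
        show q (a * b) * (v : K ⧸ Z0) * (q (a * b))⁻¹ = v
        have hbv : q b * (v : K ⧸ Z0) = v * q b := by
          obtain ⟨w, hw, e⟩ := v.2.1
          rw [← e, ← map_mul, ← map_mul, hPM w hw b hb]
        have hav : q a * (v : K ⧸ Z0) = v * q a := v.2.2.1 _ (mem_map_of_mem q ha)
        rw [map_mul, (Commute.mul_left hav hbv : Commute (q a * q b) (v : K ⧸ Z0)).eq,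
          mul_inv_cancel_right]
      let ρ : A →* AddMonoid.End (Additive V0) :=
        (toEnd V0).comp (MonoidHom.liftOfSurjective f hf ⟨φ, hker⟩)
      have hlift : ∀ y v, ρ (f y) v = Additive.ofMul (φ y (Additive.toMul v)) := fun y v => by
        show Additive.ofMul ((MonoidHom.liftOfSurjective f hf ⟨φ, hker⟩) (f y) _) = _
        rw [MonoidHom.liftOfRightInverse_comp_apply]
      obtain ⟨v, hv⟩ := hne
      refine hv (Additive.ofMul.injective (hA.module h60 (Additive V0) (fun w => ?_) ρ ?_
        (Additive.ofMul v)))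
      · show Additive.ofMul ((Additive.toMul w) ^ p) = 0
        rw [show (Additive.toMul w) ^ p = 1 from Subtype.ext (Additive.toMul w).2.2.2]
        rfl
      intro a b ha hb hab hane w hwa hwb
      by_contra hw0
      set v' := Additive.toMul w with hv'
      obtain ⟨x, hxP, hx⟩ := v'.2.1
      have hxc : x ∉ center K := fun hc => hw0 (by
        have : q x = 1 := (QuotientGroup.eq_one_iff x).mpr ⟨hxP, hc⟩
        exact Additive.toMul.injective (Subtype.ext (hx.symm.trans this)))
      have hS := isSolvable_map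
        (isSolvable_cosetStab x Z0 inf_le_right (hsolC x hxc (hPp x hxP))) f
      have hmem : ∀ c : A, ρ c w = w → c ∈ (cosetStab x Z0 inf_le_right).map f := by
        intro c hc
        obtain ⟨y, rfl⟩ := hf c
        refine ⟨y, ?_, rfl⟩
        rw [hlift] at hc
        have e : q y * q x * (q y)⁻¹ = q x := by
          rw [hx]; exact congrArg Subtype.val (Additive.ofMul.injective hc)
        show y * x * y⁻¹ * x⁻¹ ∈ Z0
        rw [← QuotientGroup.eq_one_iff]
        show q (y * x * y⁻¹ * x⁻¹) = 1
        rw [map_mul, map_mul, map_mul, map_inv, map_inv, e, mul_inv_cancel]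
      exact hane (eq_one_of_pair _ hS (hmem a hwa) (hmem b hwb) ha hb hab)
    · -- a complement over the group of order sixty
      let R := ι.range.comap f
      have hPR : P ≤ R := fun a ha => by
        show f a ∈ ι.range
        rw [MonoidHom.mem_ker.mp (hPN ha)]
        exact one_mem _
      have hNR : N ≤ R := fun a ha => by
        show f a ∈ ι.range
        rw [MonoidHom.mem_ker.mp ha]
        exact one_mem _
      have hcard5 : Nat.card (alternatingGroup (Fin 5)) = 60 := by
        rw [nat_card_alternatingGroup, Nat.card_fin]; rfl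
      have hcR : Nat.card R = Nat.card P * Nat.card M * 60 := by
        have h1 := card_eq_card_quotient_mul_card_subgroup (f.comp R.subtype).ker
        rw [Nat.card_congr (QuotientGroup.quotientKerEquivRange _).toEquiv] at h1
        have h2 : (f.comp R.subtype).range = ι.range := by
          rw [MonoidHom.range_comp, range_subtype, map_comap_eq_self_of_surjective hf]
        have h3 : Nat.card (f.comp R.subtype).ker = Nat.card N := by
          rw [← MonoidHom.comap_ker]
          exact Nat.card_congr (subgroupOfEquivOfLe hNR).toEquiv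
        rw [h2, h3, hcardN, ← Nat.card_congr (MonoidHom.ofInjective hι).toEquiv, hcard5] at h1
        rw [h1, mul_comm]
      have hcop60 : p.Coprime (Nat.card M * 60) :=
        Nat.Coprime.mul_right hcop (hp.coprime_iff_not_dvd.mpr h60)
      have hidx : (P.subgroupOf R).index = Nat.card M * 60 := by
        have h := card_mul_index (P.subgroupOf R)
        rw [Nat.card_congr (subgroupOfEquivOfLe hPR).toEquiv, hcR, mul_assoc] at h
        exact Nat.eq_of_mul_eq_mul_left Nat.card_pos h
      obtain ⟨k, hk⟩ := IsPGroup.iff_card.mp (P0.isPGroup')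
      have hcopPR : (Nat.card (P.subgroupOf R)).Coprime (P.subgroupOf R).index := by
        rw [Nat.card_congr (subgroupOfEquivOfLe hPR).toEquiv, hidx, hcP, hk]
        exact hcop60.pow_left k
      have : (P.subgroupOf R).Normal := hPn.subgroupOf R
      obtain ⟨L0, hL0⟩ := exists_right_complement'_of_coprime hcopPR
      let L := L0.map R.subtype
      have hLR : L ≤ R := map_subtype_le _
      have hcL : Nat.card L = Nat.card M * 60 := by
        rw [card_map_of_injective R.subtype_injective, ← hL0.symm.index_eq_card, hidx]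
      have hR : R ≤ P ⊔ L := by
        intro r hr
        obtain ⟨⟨a, b⟩, hab⟩ := hL0.surjective ⟨r, hr⟩
        rw [← show (((a : R) * (b : R) : R) : K) = r from congrArg Subtype.val hab, Subgroup.coe_mul]
        exact mul_mem (mem_sup_left (mem_subgroupOf.mp a.2))
          (mem_sup_right (mem_map_of_mem R.subtype b.2))
      obtain ⟨x0, hx0⟩ := hf σ
      have hle2 : L.map (MulAut.conj x0).toMonoidHom ≤ P ⊔ L := by
        rintro _ ⟨l, hl, rfl⟩
        refine hR ?_
        obtain ⟨s, hs⟩ := hLR hl
        refine ⟨s, ?_⟩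
        show ι s = f (x0 * l * x0⁻¹)
        rw [map_mul, map_mul, map_inv, hx0, ← hs, hσι']
      obtain ⟨m, hm, he⟩ := Coprime.exists_conj_of_le_sup (N := P) (H₁ := L)
        (H₂ := L.map (MulAut.conj x0).toMonoidHom)
        (le_top.trans (Subgroup.normalizer_eq_top_iff.mpr hPn).ge) hle2
        (card_map_of_injective (MulEquiv.injective _))
        (by rw [hcL, hcP, hk]; exact (hcop60.pow_left k).symm)
        (Or.inr (Group.isSolvable_of_isSolvable_injective (f := inclusion hPN) (inclusion_injective hPN)))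
      have hy : m⁻¹ * x0 ∈ normalizer (L : Set K) := by
        rw [mem_normalizer_iff]
        intro l
        have h1 : x0 * l * x0⁻¹ ∈ L.map (MulAut.conj x0).toMonoidHom ↔ l ∈ L :=
          mem_map_iff_mem (f := (MulAut.conj x0).toMonoidHom) (MulEquiv.injective _)
        have h2 : x0 * l * x0⁻¹ ∈ L.map (MulAut.conj m).toMonoidHom ↔ m⁻¹ * (x0 * l * x0⁻¹) * m ∈ L := by
          refine ⟨?_, fun h => ⟨_, h, by simp [mul_assoc]⟩⟩
          rintro ⟨w, hw, e⟩
          rw [← e]
          simpa [mul_assoc] using hw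
        rw [← h1, he, h2]
        simp [mul_assoc]
      obtain ⟨x, hxy, hx, hxp⟩ := exists_lift hp f hσp (y := m⁻¹ * x0) (by
        rw [map_mul, map_inv, MonoidHom.mem_ker.mp (hPN hm), inv_one, one_mul, hx0])
      have hxL : x ∈ normalizer (L : Set K) := (zpowers_le.mpr hy) hxy
      rcases hnc x hx with hxc | hc
      · have hxN : x ∈ normalizer (N : Set K) :=
          (Subgroup.normalizer_eq_top_iff.mpr (MonoidHom.normal_ker f)) ▸ mem_top x
        have hsol : Group.IsSolvable (L.map f) := by
          refine isSolvable_image hp f (Z := ⊥) (M := L ⊓ N) bot_le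
            (fun z hz => ⟨0, by rw [mem_bot.mp hz, one_pow]⟩)
            (Group.isSolvable_of_isSolvable_injective (f := inclusion inf_le_right)
              (inclusion_injective inf_le_right))
            (Nat.Coprime.coprime_dvd_right (card_dvd_of_le inf_le_left) (by rwa [hcL]))
            inf_le_right ?_ hxp (hsolC x hxc hxp) fun y hy' => ?_
          · rw [mem_normalizer_iff]
            intro w
            exact and_congr (mem_normalizer_iff.mp hxL w) (mem_normalizer_iff.mp hxN w)
          · refine ⟨1, one_mem _, x⁻¹ * (y * x * y⁻¹), ⟨?_, ?_⟩, by group⟩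
            · have h1 : x⁻¹ * y * x ∈ L := by
                simpa using (mem_normalizer_iff.mp (Subgroup.inv_mem _ hxL) y).mp hy'
              rw [show x⁻¹ * (y * x * y⁻¹) = x⁻¹ * y * x * y⁻¹ by group]
              exact mul_mem h1 (Subgroup.inv_mem _ hy')
            · obtain ⟨s, hs⟩ := hLR hy'
              refine MonoidHom.mem_ker.mpr ?_
              rw [map_mul, map_mul, map_mul, map_inv, map_inv, hx, ← hs, ← hσι s]
              group
        refine hcontra _ hsol fun s => ?_
        obtain ⟨r, hr⟩ := hf (ι s)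
        obtain ⟨a, ha, l, hl, e⟩ := mem_sup_of_normal_left.mp (hR (show r ∈ R from ⟨s, hr.symm⟩))
        exact ⟨l, hl, by rw [← hr, ← e, map_mul, MonoidHom.mem_ker.mp (hPN ha), one_mul]⟩
      · exact hσ1 (hA.center σ hc)

/-- the number of points -/
def deg (p : ℕ) : ℕ := (if p = 2 then 4 else p) + 5

theorem config {p : ℕ} (hp : p.Prime) (hp3 : p ≠ 3) :
    Config.{u} p (alternatingGroup (Fin (deg p))) := by
  refine ⟨fun s hs => ?_, ?_, ?_⟩
  · have h := alternatingGroup.center_eq_bot (α := Fin (deg p))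
      (by rw [Nat.card_fin]; unfold deg; split_ifs <;> omega)
    exact mem_bot.mp (h ▸ mem_center_iff.mpr hs)
  · have hm : 2 ≤ (if p = 2 then 4 else p) := by split_ifs <;> [norm_num; exact hp.two_le]
    set m := if p = 2 then 4 else p with hmdef
    have hdvd : p ∣ Nat.card (alternatingGroup (Fin m)) := by
      by_cases h : p = 2
      · subst h
        rw [hmdef, if_pos rfl, nat_card_alternatingGroup, Nat.card_fin]
        decide
      · have hodd : p.Coprime 2 := (Nat.coprime_primes hp Nat.prime_two).mpr h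
        have : Nontrivial (Fin m) := Fin.nontrivial_iff_two_le.mpr hm
        have h2 : 2 * Nat.card (alternatingGroup (Fin m)) = m.factorial := by
          rw [two_mul_nat_card_alternatingGroup, Nat.card_perm, Nat.card_fin]
        refine hodd.dvd_of_dvd_mul_left ?_
        rw [h2, hmdef, if_neg h]
        exact Nat.dvd_factorial hp.pos le_rfl
    have : Fact p.Prime := ⟨hp⟩
    obtain ⟨c, hc⟩ := exists_prime_orderOf_dvd_card' p hdvd
    let g : _ →* alternatingGroup (Fin (deg p)) := sumHom (finSumFinEquiv (m := m) (n := 5))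
    refine ⟨g (c, 1), g.comp (MonoidHom.inr _ _), ?_, ?_, ?_, fun s => ?_⟩
    · exact fun x y h => congrArg Prod.snd (sumHom_injective _ h)
    · have hcp := pow_orderOf_eq_one c
      rw [hc] at hcp
      rw [← map_pow, Prod.pow_mk, one_pow, hcp, ← Prod.one_eq_mk, map_one]
    · intro e
      have := congrArg Prod.fst (sumHom_injective _ (e.trans (map_one g).symm))
      simp only [Prod.fst_one] at this
      rw [this, orderOf_one] at hc
      exact hp.ne_one hc.symm
    · show g (c, 1) * g (1, s) = g (1, s) * g (c, 1)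
      rw [← map_mul, ← map_mul, Prod.mk_mul_mk, Prod.mk_mul_mk, mul_one, one_mul, mul_one, one_mul]
  · intro h60 V _ hV ρ hρ v
    have h235 : p = 2 ∨ p = 5 := by
      have hle : p ≤ 60 := Nat.le_of_dvd (by norm_num) h60
      interval_cases p <;> norm_num at *
    rcases h235 with rfl | rfl
    · exact PGroups.AltNine.eq_zero_of_free ρ hV hρ v
    · refine PGroups.AltTen.eq_zero_of_free_ten hV ρ ?_ v
      exact fun a b ha hb hab hne => hρ a b ha ((pow_three' b).symm.trans hb) (Or.inl hab) hne

/-- embedding of alternating groups -/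
theorem exists_embedding {m n : ℕ} (h : m ≤ n) :
    ∃ f : alternatingGroup (Fin m) →* alternatingGroup (Fin n), Function.Injective f := by
  obtain ⟨k, rfl⟩ := Nat.exists_eq_add_of_le h
  exact ⟨(sumHom finSumFinEquiv).comp (MonoidHom.inl _ _),
    fun x y e => congrArg Prod.fst (sumHom_injective _ e)⟩

theorem result {G : Type*} [Group G] [Finite G] (p : ℕ) [Fact p.Prime] (hp3 : p ≠ 3)
    (h : ∀ x : G, x ∉ Subgroup.center G → (∃ k : ℕ, orderOf x = p ^ k) → Group.IsSolvable (Subgroup.centralizer ({x} : Set G)))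
    (d : ℕ) (hd : 5 ≤ d) (hinv : Cfsg.Involves (alternatingGroup (Fin d)) G) :
    d ≤ p + 4 + (if p = 2 then 2 else 0) := by
  by_contra hlt
  have hp : p.Prime := Fact.out
  have hdeg : deg p ≤ d := by unfold deg; split_ifs at hlt ⊢ <;> omega
  obtain ⟨ε, hε⟩ := exists_embedding hdeg
  obtain ⟨H, R, hRn, ⟨e⟩⟩ := hinv
  let g : H →* alternatingGroup (Fin d) := e.toMonoidHom.comp (QuotientGroup.mk' _)
  have hg : Function.Surjective g := e.surjective.comp (QuotientGroup.mk'_surjective _)
  let K := ε.range.comap g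
  let f : K →* alternatingGroup (Fin (deg p)) :=
    (MonoidHom.ofInjective hε).symm.toMonoidHom.comp
      ((g.comp K.subtype).codRestrict ε.range fun x => x.2)
  have hf : Function.Surjective f := by
    refine (MonoidHom.ofInjective hε).symm.surjective.comp ?_
    rintro ⟨a, ha⟩
    obtain ⟨x, rfl⟩ := hg a
    exact ⟨⟨x, ha⟩, rfl⟩
  refine false_of_hom hp (config hp hp3) (Nat.card K) K le_rfl ?_ f hf
  intro x hx hxp
  have hxG : ((x : H) : G) ∉ center G := fun hc =>
    hx (mem_center_iff.mpr fun y => Subtype.ext (Subtype.ext (mem_center_iff.mp hc ((y : H) : G))))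
  have := h _ hxG (by rwa [Subgroup.orderOf_coe, Subgroup.orderOf_coe])
  refine Group.isSolvable_of_isSolvable_injective
    (f := ((H.subtype.comp K.subtype).comp (centralizer ({x} : Set K)).subtype).codRestrict
      (centralizer ({((x : H) : G)} : Set G)) fun y => mem_centralizer_singleton_iff.mpr
        (congrArg (fun z : K => ((z : H) : G)) (mem_centralizer_singleton_iff.mp y.2))) ?_
  intro y z e
  apply Subtype.ext
  apply Subtype.ext
  apply Subtype.ext
  exact (congrArg Subtype.val e :)

end Cfsg.Agent.S4100
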