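import Mathlib
import Cfsg.Statements.S4106
import Cfsg.Agent.H75.PiClasses

set_option autoImplicit false
open Cfsg

namespace Cfsg.Agent.S4106

theorem result {G : Type*} [Group G] [Finite G]
    (π : Set ℕ) (hπ : ∀ q ∈ π, q.Prime)
    (m : ℕ) (hm : m ∣ Nat.card G) (hmπ : ∀ q : ℕ, q.Prime → q ∣ m → q ∈ π)
    (hm' : ∀ q ∈ π, ¬ q ∣ Nat.card G / m) :
    Nat.card {C : ConjClasses G // ∀ q : ℕ, q.Prime → (∃ g : G, ConjClasses.mk g = C ∧ q ∣ orderOf g) → q ∈ π} ≤ m := by
  classical
  set s := (Nat.card G).primeFactors.filter (· ∈ π) with hs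
  have h1 := H75.card_piClass_le s
    (fun q hq => Nat.prime_of_mem_primeFactors (Finset.mem_filter.1 hq).1) G
  refine le_trans (Nat.card_le_card_of_injective (fun C => (⟨C.1, fun g hg q hq => ?_⟩ :
    H75.PiClass s G)) ?_) (h1.trans ?_)
  · have hqp := Nat.prime_of_mem_primeFactors hq
    have hqd := Nat.dvd_of_mem_primeFactors hq
    exact Finset.mem_filter.2 ⟨hqp.mem_primeFactors (hqd.trans (orderOf_dvd_natCard g)) Nat.card_pos.ne',
      C.2 q hqp ⟨g, hg, hqd⟩⟩
  · intro C D h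
    exact Subtype.ext (congrArg Subtype.val h :)
  · have hm0 : m ≠ 0 := fun h => Nat.card_pos.ne' (Nat.eq_zero_of_zero_dvd (h ▸ hm))
    have hfac : ∀ q ∈ s, (Nat.card G).factorization q = m.factorization q := by
      intro q hq
      have := hm' q (Finset.mem_filter.1 hq).2
      conv_lhs => rw [← Nat.mul_div_cancel' hm]
      have hd0 : Nat.card G / m ≠ 0 := (Nat.div_ne_zero_iff_of_dvd hm).2 ⟨Nat.card_pos.ne', hm0⟩
      rw [Nat.factorization_mul hm0 hd0, Finsupp.add_apply,
        Nat.factorization_eq_zero_of_not_dvd this, add_zero]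
    rw [Finset.prod_congr rfl fun q hq => by rw [hfac q hq]]
    refine Nat.le_of_dvd (Nat.pos_of_ne_zero hm0) ?_
    refine Finset.prod_dvd_of_isRelPrime ?_ fun q _ => Nat.ordProj_dvd m q
    intro a ha b hb hab
    exact Nat.coprime_iff_isRelPrime.1 (Nat.Coprime.pow _ _ ((Nat.coprime_primes
      (Nat.prime_of_mem_primeFactors (Finset.mem_filter.1 ha).1)
      (Nat.prime_of_mem_primeFactors (Finset.mem_filter.1 hb).1)).2 hab))

end Cfsg.Agent.S4106
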