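import Cfsg.Statements.S4107
import Cfsg.Agent.H75.Basic

set_option autoImplicit false
open Cfsg

namespace Cfsg.Agent.S4107

open Subgroup

variable {G : Type*} [Group G] [Finite G]

/-- If some p-element outside N, lying in a normal p-subgroup, has equal order on its coset, then N is a p-group. -/
theorem isPGroup_N (N : Subgroup G) [N.Normal] (M : Subgroup G) [M.Normal] {p : ℕ} [Fact p.Prime]
    (hM : IsPGroup p M) (x : G) (hx : x ∈ M) (hxN : x ∉ N)
    (heq : ∀ x : G, x ∉ N → ∀ n ∈ N, orderOf (x * n) = orderOf x) : IsPGroup p N := by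
  intro n
  obtain ⟨k, hk⟩ := IsPGroup.iff_orderOf.1 hM ⟨x, hx⟩
  rw [Subgroup.orderOf_mk] at hk
  have h1 : (x * (n : G)) ^ p ^ k = 1 := by
    rw [← hk, ← heq x hxN n n.2, pow_orderOf_eq_one]
  have h2 : (n : G) ^ p ^ k ∈ M := by
    rw [← QuotientGroup.eq_one_iff]
    have : ((x * (n : G) : G) : G ⧸ M) = ((n : G) : G ⧸ M) := by
      rw [QuotientGroup.mk_mul, (QuotientGroup.eq_one_iff x).2 hx, one_mul]
    rw [QuotientGroup.mk_pow, ← this, ← QuotientGroup.mk_pow, h1, QuotientGroup.mk_one]
  obtain ⟨j, hj⟩ := hM ⟨_, h2⟩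
  refine ⟨k + j, Subtype.ext ?_⟩
  have := congrArg Subtype.val hj
  simp only [SubmonoidClass.coe_pow, OneMemClass.coe_one] at this ⊢
  rwa [pow_add, pow_mul]

theorem result {G : Type*} [Group G] [Finite G] (N : Subgroup G) [N.Normal] (hN1 : N ≠ ⊥) (hN2 : N ≠ ⊤)
    (heq : ∀ x : G, x ∉ N → ∀ n ∈ N, orderOf (x * n) = orderOf x) :
    (N ≤ Cfsg.fittingSubgroup G ∨ Cfsg.fittingSubgroup G ≤ N) ∧
    (N < Cfsg.fittingSubgroup G → IsPrimePow (Nat.card (Cfsg.fittingSubgroup G))) := by
  -- if a normal nilpotent subgroup is outside N, then for some prime p: N is a p-group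
  -- and all prime power elements of normal nilpotent subgroups of order prime to p are trivial
  have main : ∀ K : Subgroup G, K.Normal → Group.IsNilpotent K → ¬ K ≤ N →
      ∃ (p : ℕ) (_ : Fact p.Prime) (M : Subgroup G), M.Normal ∧ IsPGroup p M ∧
        IsPGroup p N ∧ ∃ x ∈ M, x ∉ N := by
    intro K hK hnil hKN
    obtain ⟨x, hxK, hxN⟩ := SetLike.not_le_iff_exists.1 hKN
    have : ∃ y ∈ zpowers x, y ∉ N ∧ ∃ r k : ℕ, r.Prime ∧ orderOf y = r ^ k := by
      by_contra hc
      push Not at hc
      refine hxN (H75.mem_of_primePower_parts N x fun y hy ⟨r, k, hr, hk⟩ => ?_)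
      by_contra hyN
      exact hc y hy hyN r k hr hk
    obtain ⟨y, hy, hyN, r, k, hr, hk⟩ := this
    haveI : Fact r.Prime := ⟨hr⟩
    obtain ⟨S⟩ := (inferInstance : Nonempty (Sylow r K))
    haveI hSn : (S : Subgroup K).Normal := inferInstance
    haveI hSc : (S : Subgroup K).Characteristic := Sylow.characteristic_of_normal S hSn
    refine ⟨r, ‹_›, (S : Subgroup K).map K.subtype, ?_, S.isPGroup'.map _, ?_, y, ?_, hyN⟩
    · exact ConjAct.normal_of_characteristic_of_normal
    · have hM : ((S : Subgroup K).map K.subtype).Normal := ConjAct.normal_of_characteristic_of_normal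
      refine isPGroup_N N ((S : Subgroup K).map K.subtype) (S.isPGroup'.map _) y ?_ hyN heq
      have hyK : y ∈ K := zpowers_le.2 hxK hy
      refine ⟨⟨y, hyK⟩, ?_, rfl⟩
      haveI : Unique (Sylow r K) := Sylow.unique_of_normal S hSn
      obtain ⟨T, hT⟩ := (IsPGroup.of_card (n := k) (by rw [Nat.card_zpowers, Subgroup.orderOf_mk, hk]) :
        IsPGroup r (zpowers (⟨y, hyK⟩ : K))).exists_le_sylow
      rw [Subsingleton.elim T S] at hT
      exact hT (mem_zpowers _)
    · have hyK : y ∈ K := zpowers_le.2 hxK hy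
      refine ⟨⟨y, hyK⟩, ?_, rfl⟩
      haveI : Unique (Sylow r K) := Sylow.unique_of_normal S hSn
      have hpg : IsPGroup r (zpowers (⟨y, hyK⟩ : K)) :=
        IsPGroup.of_card (n := k) (by rw [Nat.card_zpowers, Subgroup.orderOf_mk, hk])
      obtain ⟨T, hT⟩ := hpg.exists_le_sylow
      rw [Subsingleton.elim T S] at hT
      exact hT (mem_zpowers _)
  constructor
  · by_cases hF : Cfsg.fittingSubgroup G ≤ N
    · exact Or.inr hF
    · left
      have : ∃ K : Subgroup G, K.Normal ∧ Group.IsNilpotent K ∧ ¬ K ≤ N := by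
        by_contra hc
        push Not at hc
        exact hF (sSup_le fun K hK => hc K hK.1 hK.2)
      obtain ⟨K, hK, hnil, hKN⟩ := this
      obtain ⟨p, hp, M, -, -, hNp, -⟩ := main K hK hnil hKN
      exact le_sSup (show N ∈ {N : Subgroup G | N.Normal ∧ Group.IsNilpotent N} from
        ⟨inferInstance, hNp.isNilpotent⟩)
  · intro hlt
    have hex : ∃ K : Subgroup G, K.Normal ∧ Group.IsNilpotent K ∧ ¬ K ≤ N := by
      by_contra hc
      push Not at hc
      exact hlt.not_ge (sSup_le fun K hK => hc K hK.1 hK.2)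
    obtain ⟨K, hK, hnil, hKN⟩ := hex
    obtain ⟨p, hp, M, hMn, hMp, hNp, x, hxM, hxN⟩ := main K hK hnil hKN
    -- every normal nilpotent subgroup is a p-group
    have hall : ∀ L : Subgroup G, L.Normal → Group.IsNilpotent L → IsPGroup p L := by
      intro L hL hLnil
      rw [IsPGroup.iff_card]
      refine ⟨_, Nat.eq_prime_pow_of_unique_prime_dvd Nat.card_pos.ne' fun {q} hq hdvd => ?_⟩
      by_contra hqp
      haveI : Fact q.Prime := ⟨hq⟩
      obtain ⟨S⟩ := (inferInstance : Nonempty (Sylow q L))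
      haveI hSn : (S : Subgroup L).Normal := inferInstance
      haveI hSc : (S : Subgroup L).Characteristic := Sylow.characteristic_of_normal S hSn
      haveI hM' : ((S : Subgroup L).map L.subtype).Normal :=
        ConjAct.normal_of_characteristic_of_normal
      have hne : (S : Subgroup L).map L.subtype ≠ ⊥ := by
        rw [Ne, (map_eq_bot_iff_of_injective _ L.subtype_injective)]
        exact S.ne_bot_of_dvd_card hdvd
      have hnot : ¬ (S : Subgroup L).map L.subtype ≤ N := by
        intro hle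
        refine hne (disjoint_self.1 (IsPGroup.disjoint_of_ne q p hqp _ _ (S.isPGroup'.map _) ?_))
        exact hNp.to_le hle
      obtain ⟨z, hzS, hzN⟩ := SetLike.not_le_iff_exists.1 hnot
      have hNq := isPGroup_N N _ (S.isPGroup'.map _) z hzS hzN heq
      exact hN1 (disjoint_self.1 (IsPGroup.disjoint_of_ne q p hqp _ _ hNq hNp))
    have hFp : IsPGroup p (Cfsg.fittingSubgroup G) := by
      have hle : Cfsg.fittingSubgroup G ≤ sSup {L : Subgroup G | L.Normal ∧ IsPGroup p L} :=
        sSup_le fun L hL => le_sSup ⟨hL.1, hall L hL.1 hL.2⟩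
      refine IsPGroup.to_le ?_ hle
      obtain ⟨P⟩ := (inferInstance : Nonempty (Sylow p G))
      refine P.isPGroup'.to_le (sSup_le fun L hL => ?_)
      haveI := hL.1
      exact IsPGroup.le_sylow_of_normal hL.2 P
    obtain ⟨m, hm⟩ := IsPGroup.iff_card.1 hFp
    rw [hm]
    refine hp.out.isPrimePow.pow ?_
    rintro rfl
    rw [pow_zero] at hm
    rw [Subgroup.card_eq_one.1 hm] at hlt
    exact not_lt_bot hlt

end Cfsg.Agent.S4107
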