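import Cfsg.Statements.S4108
import Cfsg.Agent.Frobenius.Structure

set_option autoImplicit false
open Cfsg
open scoped Pointwise

namespace Cfsg.Agent.S4108

/-- Let G be a finite group, p a prime and N a proper non-trivial normal p-subgroup such that for every x outside N all elements of the coset xN have the same order as x. Then every non-trivial subgroup H of G of order prime to p acts fixed-point-freely on N: NH is a Frobenius group with complement H and kernel N. -/
theorem result {G : Type*} [Group G] [Finite G] (N : Subgroup G) [N.Normal] (hN1 : N ≠ ⊥) (hN2 : N ≠ ⊤)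
    (heq : ∀ x : G, x ∉ N → ∀ n ∈ N, orderOf (x * n) = orderOf x)
    (p : ℕ) [Fact p.Prime] (hNp : IsPGroup p N) :
    ∀ H : Subgroup G, H ≠ ⊥ → (Nat.card H).Coprime p →
      Cfsg.IsFrobeniusComplement (H.subgroupOf (N ⊔ H)) ∧ Cfsg.frobeniusKernel (H.subgroupOf (N ⊔ H)) = (N.subgroupOf (N ⊔ H) : Set ↥(N ⊔ H)) := by
  intro H hH1 hcop
  have hcopN : (Nat.card H).Coprime (Nat.card N) := by
    obtain ⟨k, hk⟩ := hNp.exists_card_eq
    rw [hk]; exact hcop.pow_right k
  have hdisj : Disjoint N H := disjoint_iff.2 (by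
    rw [inf_comm]; exact Subgroup.inf_eq_bot_of_coprime hcopN)
  have : (N.subgroupOf (N ⊔ H)).Normal := inferInstance
  have hc : Subgroup.IsComplement' (N.subgroupOf (N ⊔ H)) (H.subgroupOf (N ⊔ H)) := by
    refine Subgroup.isComplement'_of_disjoint_and_mul_eq_univ ?_ ?_
    · rw [disjoint_iff, Subgroup.eq_bot_iff_forall]
      rintro x ⟨h1, h2⟩
      exact Subtype.ext (Subgroup.mem_bot.1 (hdisj.eq_bot ▸ Subgroup.mem_inf.2 ⟨h1, h2⟩))
    · refine Set.eq_univ_of_forall fun x => ?_
      have hx : (x : G) ∈ ((N ⊔ H : Subgroup G) : Set G) := x.2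
      rw [Subgroup.normal_mul N H] at hx
      obtain ⟨a, ha, b, hb, hab⟩ := Set.mem_mul.1 hx
      exact Set.mem_mul.2 ⟨⟨a, Subgroup.mem_sup_left ha⟩, ha,
        ⟨b, Subgroup.mem_sup_right hb⟩, hb, Subtype.ext hab⟩
  have hF : Cfsg.IsFrobeniusComplement (H.subgroupOf (N ⊔ H)) := by
    refine Cfsg.Agent.Frobenius.of_fixedPointFree hc ?_ ?_ ?_
    · rw [Ne, Subgroup.subgroupOf_eq_bot, disjoint_iff, inf_eq_left.2 le_sup_left]; exact hN1
    · rw [Ne, Subgroup.subgroupOf_eq_bot, disjoint_iff, inf_eq_left.2 le_sup_right]; exact hH1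
    · intro h hh hh1 k hk hcom
      have hh' : (h : G) ∈ H := hh
      have hk' : (k : G) ∈ N := hk
      have hcom' : Commute (h : G) (k : G) := congrArg Subtype.val hcom
      have hnot : (h : G) ∉ N := fun hN => hh1 (Subtype.ext
        (Subgroup.mem_bot.1 (hdisj.eq_bot ▸ Subgroup.mem_inf.2 ⟨hN, hh'⟩)))
      have hco : (orderOf (h : G)).Coprime (orderOf (k : G)) := by
        refine (hcopN.coprime_dvd_left ?_).coprime_dvd_right ?_
        · rw [← Subgroup.orderOf_mk (H := H) _ hh']; exact orderOf_dvd_natCard _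
        · rw [← Subgroup.orderOf_mk (H := N) _ hk']; exact orderOf_dvd_natCard _
      have h1 := heq (h : G) hnot (k : G) hk'
      rw [hcom'.orderOf_mul_eq_mul_orderOf_of_coprime hco] at h1
      have : orderOf (k : G) = 1 := by
        have hpos : 0 < orderOf (h : G) := orderOf_pos _
        exact Nat.eq_of_mul_eq_mul_left hpos (h1.trans (mul_one _).symm)
      exact Subtype.ext (orderOf_eq_one_iff.1 this)
  exact ⟨hF, (Cfsg.Agent.Frobenius.coe_eq_kernel hF hc).symm⟩

end Cfsg.Agent.S4108
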