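import Cfsg.Statements.S4112
import Cfsg.Agent.H76.PIndex
import Cfsg.Agent.PGroups.Basic

set_option autoImplicit false
open Cfsg

namespace Cfsg.Agent.S4112

/-- Let G be a finite group and M ≤ N non-trivial proper normal subgroups such that for every g outside N the conjugacy class of g is a union of cosets of M (equivalently gm is conjugate to g for every m ∈ M). Then (1) and (2) below are equivalent, and they imply (3): (1) every g outside N acts fixed-point-freely on M, that is C_G(x) ≤ N for every x ∈ M, x ≠ 1; (2) the index of N in G is coprime to the order of M; (3) there is a subgroup H of G with HN = G and H ∩ M = 1. -/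
theorem result {G : Type*} [Group G] [Finite G] (N M : Subgroup G) [N.Normal] [M.Normal] (hMN : M ≤ N) (hM1 : M ≠ ⊥) (hN2 : N ≠ ⊤)
    (hcam : ∀ g : G, g ∉ N → ∀ m ∈ M, ∃ x : G, x * g * x⁻¹ = g * m) :
    ((∀ x ∈ M, x ≠ 1 → Subgroup.centralizer ({x} : Set G) ≤ N) ↔ N.index.Coprime (Nat.card M)) ∧
    ((∀ x ∈ M, x ≠ 1 → Subgroup.centralizer ({x} : Set G) ≤ N) → ∃ H : Subgroup G, H ⊔ N = ⊤ ∧ H ⊓ M = ⊥) := by
  have h12 : (∀ x ∈ M, x ≠ 1 → Subgroup.centralizer ({x} : Set G) ≤ N) →
      N.index.Coprime (Nat.card M) := by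
    intro h
    refine Nat.coprime_of_dvd fun q hq hqN hqM => ?_
    have := Fact.mk hq
    obtain ⟨y, hy⟩ := exists_prime_orderOf_dvd_card' (G := M) q hqM
    have hy' : orderOf (y : G) = q := by rw [Subgroup.orderOf_coe, hy]
    have hpy : IsPGroup q (Subgroup.zpowers (y : G)) :=
      IsPGroup.of_card (n := 1) (by rw [Nat.card_zpowers, hy', pow_one])
    obtain ⟨Q, hQ⟩ := hpy.exists_le_sylow
    have hyQ : (y : G) ∈ (Q : Subgroup G) := hQ (Subgroup.mem_zpowers _)
    have hne : M.subgroupOf (Q : Subgroup G) ≠ ⊥ := by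
      intro hb
      have hm : (⟨y, hyQ⟩ : (Q : Subgroup G)) ∈ M.subgroupOf (Q : Subgroup G) := y.2
      rw [hb, Subgroup.mem_bot] at hm
      have h1 : (y : G) = 1 := congrArg Subtype.val hm
      rw [h1, orderOf_one] at hy'
      exact hq.one_lt.ne hy'
    obtain ⟨⟨z, hz⟩, hz1⟩ := Subgroup.ne_bot_iff_exists_ne_one.mp
      (Cfsg.Agent.PGroups.inf_center_ne_bot Q.2 (M.subgroupOf (Q : Subgroup G)) hne)
    have hQN : (Q : Subgroup G) ≤ N := fun u hu =>
      h (z : G) hz.1 (fun e => hz1 (Subtype.ext (Subtype.ext e))) (by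
        rw [Subgroup.mem_centralizer_iff]
        rintro v rfl
        exact (congrArg Subtype.val (Subgroup.mem_center_iff.mp hz.2 ⟨u, hu⟩)).symm)
    have h1 := Subgroup.card_dvd_of_le hQN
    rw [Q.card_eq_multiplicity, ← N.card_mul_index,
      Nat.factorization_mul Nat.card_pos.ne' Subgroup.index_ne_zero_of_finite] at h1
    have h2 := (hq.pow_dvd_iff_le_factorization Nat.card_pos.ne').mp h1
    have h3 := hq.factorization_pos_of_dvd (Subgroup.index_ne_zero_of_finite) hqN
    simp only [Finsupp.coe_add, Pi.add_apply] at h2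
    omega
  have h21 : N.index.Coprime (Nat.card M) →
      ∀ x ∈ M, x ≠ 1 → Subgroup.centralizer ({x} : Set G) ≤ N := by
    intro hco x hx hx1 g hg
    by_contra hgN
    set gb : G ⧸ N := QuotientGroup.mk g with hgb
    have hgb1 : gb ≠ 1 := fun e => hgN ((QuotientGroup.eq_one_iff g).mp e)
    obtain ⟨q, hq, hqd⟩ := Nat.exists_prime_and_dvd (n := orderOf gb) (by
      rwa [Ne, orderOf_eq_one_iff])
    have hqM : ¬ q ∣ Nat.card M := fun hd => hq.not_dvd_one
      (hco ▸ Nat.dvd_gcd (hqd.trans ((orderOf_dvd_natCard gb).trans (dvd_of_eq rfl))) hd)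
    set m := ordCompl[q] (orderOf g) with hm
    set a := (orderOf g).factorization q with ha
    have hpow : (g ^ m) ^ (q ^ a) = 1 := by
      rw [← pow_mul, hm, mul_comm, Nat.ordProj_mul_ordCompl_eq_self, pow_orderOf_eq_one]
    have hgm : g ^ m ∉ N := by
      intro hmem
      have h1 : gb ^ m = 1 := by
        rw [hgb, ← QuotientGroup.mk_pow, QuotientGroup.eq_one_iff]; exact hmem
      exact Nat.not_dvd_ordCompl hq (orderOf_pos g).ne'
        (hqd.trans (orderOf_dvd_of_pow_eq_one h1))
    obtain ⟨y, hy⟩ := hcam _ hgm x hx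
    have hcomm : Commute (g ^ m) x :=
      Commute.pow_left ((Subgroup.mem_centralizer_iff.mp hg x rfl).symm) m
    have h2 : (g ^ m * x) ^ (q ^ a) = 1 := by rw [← hy, conj_pow, hpow]; group
    rw [hcomm.mul_pow, hpow, one_mul] at h2
    have h3 := orderOf_dvd_of_pow_eq_one h2
    obtain ⟨i, -, hi⟩ := (Nat.dvd_prime_pow hq).mp h3
    rcases Nat.eq_zero_or_pos i with rfl | hi0
    · exact hx1 (orderOf_eq_one_iff.mp (by simpa using hi))
    · refine hqM ((dvd_pow_self q hi0.ne').trans (hi ▸ ?_))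
      rw [← Subgroup.orderOf_mk x hx]
      exact orderOf_dvd_natCard _
  refine ⟨⟨h12, h21⟩, fun h => ?_⟩
  have hco := h12 h
  classical
  obtain ⟨H, hH, hmin⟩ := (Set.toFinite {H : Subgroup G | H ⊔ N = ⊤}).exists_minimal
    ⟨⊤, top_sup_eq N⟩
  refine ⟨H, hH, ?_⟩
  suffices hc : (Nat.card H).Coprime (Nat.card M) from (Subgroup.disjoint_of_coprime_natCard hc).eq_bot
  refine Nat.coprime_of_dvd fun q hq hqH hqM => ?_
  have := Fact.mk hq
  have hqN : ¬ q ∣ N.index := fun hd => hq.not_dvd_one (hco ▸ Nat.dvd_gcd hd hqM)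
  obtain ⟨P⟩ : Nonempty (Sylow q H) := inferInstance
  have hPN : (P : Subgroup H) ≤ N.subgroupOf H := by
    refine Cfsg.Agent.H76.le_of_isPGroup_of_not_dvd_index P.2 _ fun hd => hqN (hd.trans ?_)
    exact Subgroup.relIndex_dvd_index_of_normal N H
  have key : ∀ K : Subgroup H, K ⊔ N.subgroupOf H = ⊤ → K = ⊤ := by
    intro K hK
    have h1 : K.map H.subtype ⊔ N = ⊤ := by
      rw [eq_top_iff, ← hH]
      refine sup_le ?_ le_sup_right
      have h2 := Subgroup.map_mono (f := H.subtype) hK.ge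
      rw [Subgroup.map_sup, ← MonoidHom.range_eq_map, Subgroup.range_subtype] at h2
      refine h2.trans (sup_le le_sup_left (le_trans ?_ le_sup_right))
      rw [Subgroup.map_le_iff_le_comap]; exact le_rfl
    have h3 := hmin h1 (Subgroup.map_subtype_le K)
    rw [eq_top_iff]
    intro z _
    obtain ⟨w, hw, hwz⟩ := h3 z.2
    exact (Subtype.ext hwz : w = z) ▸ hw
  have hPn : (P : Subgroup H).Normal :=
    Subgroup.normalizer_eq_top_iff.mp (key _ (Sylow.normalizer_sup_eq_top' P hPN))
  obtain ⟨K, hK⟩ := Subgroup.exists_right_complement'_of_coprime P.card_coprime_index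
  have hK' := key K (by
    rw [eq_top_iff, ← hK.sup_eq_top]
    exact sup_le (hPN.trans le_sup_right) le_sup_left)
  rw [hK', Subgroup.isComplement'_top_right] at hK
  have h1 := P.card_eq_multiplicity
  rw [hK, Subgroup.card_bot] at h1
  have h2 := hq.factorization_pos_of_dvd Nat.card_pos.ne' hqH
  exact (Nat.one_lt_pow h2.ne' hq.one_lt).ne h1

end Cfsg.Agent.S4112
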