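import Cfsg.Statements.S4113
-- import your own Cfsg.Agent.* helpers here

set_option autoImplicit false
open Cfsg

namespace Cfsg.Agent.S4113

/-- Let G be a finite group, M ≤ N non-trivial proper normal subgroups, and H a subgroup with HM = G and H ∩ M = 1. Then every element of G outside N acts fixed-point-freely on M (C_G(x) ≤ N for every x ∈ M, x ≠ 1) if and only if H ∩ gHg⁻¹ ≤ H ∩ N for every g outside H, with H proper and non-trivial and H ∩ N proper in H. -/
theorem result {G : Type*} [Group G] [Finite G] (N M : Subgroup G) [N.Normal] [M.Normal] (hMN : M ≤ N) (hM1 : M ≠ ⊥) (hN2 : N ≠ ⊤)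
    (H : Subgroup G) (hHM : H ⊔ M = ⊤) (hHM' : H ⊓ M = ⊥) :
    (∀ x ∈ M, x ≠ 1 → Subgroup.centralizer ({x} : Set G) ≤ N) ↔
      (H ≠ ⊥ ∧ H ≠ ⊤ ∧ H ⊓ N < H ∧ ∀ g : G, g ∉ H → H ⊓ H.map (MulAut.conj g).toMonoidHom ≤ N) := by
  have hdec : ∀ g : G, ∃ h ∈ H, ∃ m ∈ M, h * m = g := fun g =>
    Subgroup.mem_sup_of_normal_right.mp (hHM ▸ Subgroup.mem_top g)
  have htriv : ∀ z : G, z ∈ H → z ∈ M → z = 1 := fun z h1 h2 =>
    Subgroup.mem_bot.mp (hHM' ▸ Subgroup.mem_inf.mpr ⟨h1, h2⟩)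
  constructor
  · intro hfix
    refine ⟨?_, ?_, ?_, ?_⟩
    · rintro rfl
      rw [bot_sup_eq] at hHM
      exact hN2 (top_le_iff.mp (hHM ▸ hMN))
    · rintro rfl
      rw [top_inf_eq] at hHM'
      exact hM1 hHM'
    · refine lt_of_le_of_ne inf_le_left fun h => hN2 (top_le_iff.mp ?_)
      rw [← hHM]
      exact sup_le (inf_eq_left.mp h) hMN
    · intro g hg x hx
      obtain ⟨hxH, y, hy, hyx⟩ := hx
      have hyx' : g * y * g⁻¹ = x := hyx
      obtain ⟨h, hh, m, hm, hgm⟩ := hdec g⁻¹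
      have hg' : g = m⁻¹ * h⁻¹ := by rw [← inv_inv g, ← hgm, mul_inv_rev]
      set z := h⁻¹ * y * h with hz
      have hzH : z ∈ H := H.mul_mem (H.mul_mem (H.inv_mem hh) hy) hh
      have hxz : x = m⁻¹ * z * m := by rw [← hyx', hg', hz]; group
      have h1 : z⁻¹ * x ∈ M := by
        have : z⁻¹ * x = z⁻¹ * m⁻¹ * z * m := by rw [hxz]; group
        rw [this]
        exact M.mul_mem (by
          simpa [mul_assoc] using ‹M.Normal›.conj_mem _ (M.inv_mem hm) z⁻¹) hm
      have h2 : z = x := inv_mul_eq_one.mp (htriv _ (H.mul_mem (H.inv_mem hzH) hxH) h1)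
      have hm1 : m ≠ 1 := by
        rintro rfl
        apply hg
        simpa [hg'] using H.inv_mem hh
      apply hfix m hm hm1
      rw [Subgroup.mem_centralizer_iff]
      intro w hw
      rw [Set.mem_singleton_iff.mp hw]
      calc m * x = m * (m⁻¹ * z * m) := by rw [← hxz]
        _ = x * m := by rw [← h2]; group
  · rintro ⟨-, -, -, hW⟩ x hx hx1 g hg
    by_contra hgN
    obtain ⟨h, hh, m, hm, hgm⟩ := hdec g
    have hhN : h ∉ N := fun hn => hgN (hgm ▸ N.mul_mem hn (hMN hm))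
    have hfree : ∀ k ∈ M, k * h * k⁻¹ = h → k = 1 := by
      intro k hk hkh
      by_contra hk1
      refine hhN (hW k (fun hkH => hk1 (htriv k hkH hk)) ⟨hh, h, hh, ?_⟩)
      exact hkh
    let φ : M → M := fun n => ⟨h⁻¹ * ((n : G) * h * (n : G)⁻¹), by
      have : h⁻¹ * ((n : G) * h * (n : G)⁻¹) = h⁻¹ * (n : G) * h * (n : G)⁻¹ := by group
      rw [this]
      exact M.mul_mem (by simpa using ‹M.Normal›.conj_mem _ n.2 h⁻¹) (M.inv_mem n.2)⟩
    have hφ : Function.Injective φ := by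
      intro a b hab
      have hab' : (a : G) * h * (a : G)⁻¹ = (b : G) * h * (b : G)⁻¹ :=
        mul_left_cancel (congrArg Subtype.val hab)
      have h1 := hfree ((b : G)⁻¹ * a) (M.mul_mem (M.inv_mem b.2) a.2) (by
        calc (b : G)⁻¹ * a * h * ((b : G)⁻¹ * a)⁻¹ = (b : G)⁻¹ * ((a : G) * h * (a : G)⁻¹) * b := by group
          _ = h := by rw [hab']; group)
      exact Subtype.ext (inv_mul_eq_one.mp h1).symm
    obtain ⟨n, hn⟩ := Finite.surjective_of_injective hφ ⟨m, hm⟩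
    have hn' : (n : G) * h * (n : G)⁻¹ = g := by
      rw [← hgm, ← show h⁻¹ * ((n : G) * h * (n : G)⁻¹) = m from congrArg Subtype.val hn]
      group
    have hgx : x * g = g * x := Subgroup.mem_centralizer_iff.mp hg x rfl
    have h1 := hfree ((n : G)⁻¹ * x * n) (by simpa using ‹M.Normal›.conj_mem _ hx (n : G)⁻¹) (by
      calc (n : G)⁻¹ * x * n * h * ((n : G)⁻¹ * x * n)⁻¹
          = (n : G)⁻¹ * (x * ((n : G) * h * (n : G)⁻¹)) * x⁻¹ * n := by group
        _ = (n : G)⁻¹ * (((n : G) * h * (n : G)⁻¹) * x) * x⁻¹ * n := by rw [hn', hgx]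
        _ = h := by group)
    apply hx1
    calc x = (n : G) * ((n : G)⁻¹ * x * n) * (n : G)⁻¹ := by group
      _ = 1 := by rw [h1]; group

end Cfsg.Agent.S4113
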