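import Cfsg.Statements.S4115
import Cfsg.Agent.H87.TIHall
import Cfsg.Agent.PGroups.Basic
-- import your own Cfsg.Agent.* helpers here

set_option autoImplicit false
universe u
open Cfsg

namespace Cfsg.Agent.S4115

open Subgroup Cfsg.Agent.H87.TIHall

variable {G : Type u} [Group G] [Finite G] {H : Subgroup G}

/-- The retraction attached to a normal complement. -/
theorem exists_setup (hTI : Cfsg.IsTISubset (H : Set G))
    (hHall : (Nat.card H).Coprime (H.subgroupOf (normalizer (H : Set G))).index)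
    (K : Subgroup (normalizer (H : Set G))) (hK : K.Normal) (hc : K.IsComplement' (H.subgroupOf (normalizer (H : Set G)))) :
    Nonempty (Setup H) := by
  haveI := hK
  let e : ↥H →* ↥(normalizer (H : Set G)) ⧸ K := (QuotientGroup.mk' K).comp (Subgroup.inclusion le_normalizer)
  have hinj : Function.Injective e := by
    rw [← MonoidHom.ker_eq_bot_iff, Subgroup.eq_bot_iff_forall]
    intro x hx
    have h1 : Subgroup.inclusion (le_normalizer (H := H)) x ∈ K := (QuotientGroup.eq_one_iff _).mp hx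
    have h2 := Subgroup.disjoint_def.mp hc.disjoint h1 (show _ ∈ H.subgroupOf _ from x.2)
    exact Subtype.ext (congrArg Subtype.val h2 : (x : G) = 1)
  have hsur : Function.Surjective e := by
    intro q
    obtain ⟨y, rfl⟩ := QuotientGroup.mk'_surjective K q
    obtain ⟨⟨k, h⟩, hkh⟩ := hc.2 y
    refine ⟨⟨(h : ↥(normalizer (H : Set G))), h.2⟩, ?_⟩
    change QuotientGroup.mk' K h.1 = _
    rw [show y = (k : ↥(normalizer (H : Set G))) * h from hkh.symm, map_mul,
      show QuotientGroup.mk' K (k : ↥(normalizer (H : Set G))) = 1 from (QuotientGroup.eq_one_iff _).mpr k.2, one_mul]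
  let E := MulEquiv.ofBijective e ⟨hinj, hsur⟩
  refine ⟨{ π := E.symm.toMonoidHom.comp (QuotientGroup.mk' K), ti := hTI, retr := fun h => ?_, coprime := ?_ }⟩
  · exact E.symm_apply_eq.mpr rfl
  · have hker : (E.symm.toMonoidHom.comp (QuotientGroup.mk' K)).ker = K := by
      ext x; simp [MonoidHom.mem_ker, QuotientGroup.eq_one_iff]
    rw [hker]
    rwa [hc.index_eq_card] at hHall

theorem fpf_action (D : Setup H) (hH : ¬ H.Normal) :
    ∃ (X : Type u) (_ : Group X) (_ : Finite X) (φ : ↥H →* MulAut X), Nontrivial X ∧ Nontrivial ↥H ∧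
      ∀ c : ↥H, c ≠ 1 → ∀ n : X, φ c n = n → n = 1 := by
  classical
  obtain ⟨N, hN, hc, hM, hcov⟩ := exists_complement D
  haveI := hN
  have hHne : H ≠ ⊥ := fun h => hH (by rw [h]; infer_instance)
  haveI : Nontrivial ↥H := (Subgroup.nontrivial_iff_ne_bot H).mpr hHne
  have hNM : ∀ y : G, y ∈ N → y ∈ normalizer (H : Set G) → ∀ h ∈ H, Commute y h := fun y hy hyM h hh =>
    kernel_commute D ⟨y, hyM⟩ (MonoidHom.mem_ker.mpr ((hM ⟨y, hyM⟩).mp hy)) ⟨h, hh⟩
  have hMne : normalizer (H : Set G) ≠ ⊤ := fun h => hH (Subgroup.normalizer_eq_top_iff.mp h)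
  -- the orders are coprime
  have hcop : ∀ r : ℕ, r.Prime → r ∣ Nat.card H → ¬ r ∣ Nat.card N := by
    intro r hr hrH hrN
    haveI := Fact.mk hr
    obtain ⟨x, hx⟩ := exists_prime_orderOf_dvd_card' r hrH
    have hxo : orderOf (x : G) = r := by rw [Subgroup.orderOf_coe]; exact hx
    let A := Subgroup.zpowers (x : G)
    have hA : IsPGroup r A := IsPGroup.of_card (n := 1) (by rw [Nat.card_zpowers, hxo, pow_one])
    have hfix : MulAction.fixedPoints A (G ⧸ normalizer (H : Set G)) = {((1 : G) : G ⧸ normalizer (H : Set G))} := by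
      ext q
      obtain ⟨g, rfl⟩ := QuotientGroup.mk_surjective q
      simp only [MulAction.mem_fixedPoints, Set.mem_singleton_iff, QuotientGroup.eq, mul_one]
      constructor
      · intro h
        have := h ⟨x, Subgroup.mem_zpowers _⟩
        change ((((x : G) * g) : G) : G ⧸ normalizer (H : Set G)) = (g : G ⧸ normalizer (H : Set G)) at this
        rw [QuotientGroup.eq] at this
        have h1 : g⁻¹ * (x : G) * g⁻¹⁻¹ ∈ normalizer (H : Set G) := by
          have := inv_mem this
          simpa [mul_assoc] using this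
        refine mem_of_conj D (y := ⟨(x : G), le_normalizer x.2⟩) ?_ h1
        rw [D.retr x]
        intro h; rw [h, orderOf_one] at hx; exact hr.one_lt.ne hx
      · intro hg a
        change ((((a : G) * g) : G) : G ⧸ normalizer (H : Set G)) = (g : G ⧸ normalizer (H : Set G))
        rw [QuotientGroup.eq]
        have ha : (a : G) ∈ normalizer (H : Set G) := zpowers_le.mpr (le_normalizer x.2) a.2
        have hg' : g ∈ normalizer (H : Set G) := by simpa using inv_mem hg
        exact mul_mem (inv_mem (mul_mem ha hg')) hg'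
    have h1 := hA.card_modEq_card_fixedPoints (G ⧸ normalizer (H : Set G))
    rw [hfix, Nat.card_coe_set_eq, Set.ncard_singleton, ← Subgroup.index_eq_card] at h1
    have h2 : ¬ r ∣ (normalizer (H : Set G)).index := fun h => by
      have h0 := Nat.modEq_zero_iff_dvd.mpr h
      have := (Nat.modEq_zero_iff_dvd).mp (h1.symm.trans h0)
      exact hr.not_dvd_one this
    have h3 : Nat.card N * Nat.card H = (normalizer (H : Set G)).index * (Nat.card D.π.ker * Nat.card H) := by
      rw [hc.card_mul, ← Subgroup.index_mul_card (normalizer (H : Set G))]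
      congr 1
      rw [mul_comm, ← Subgroup.card_mul_index D.π.ker, Subgroup.index_ker,
        MonoidHom.range_eq_top.mpr (surjective D), Subgroup.card_top, mul_comm]
    rw [← mul_assoc] at h3
    rw [Nat.eq_of_mul_eq_mul_right Nat.card_pos h3] at hrN
    rcases hr.dvd_mul.mp hrN with h | h
    · exact h2 h
    · exact hr.not_dvd_one (D.coprime ▸ Nat.dvd_gcd hrH h)
  -- a prime with a Sylow subgroup of `N` outside the normaliser
  have hNle : ¬ N ≤ normalizer (H : Set G) := fun h => hMne (by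
    rw [eq_top_iff, ← hc.sup_eq_top]; exact sup_le h le_normalizer)
  obtain ⟨r, hr, hrd⟩ := Nat.exists_prime_and_dvd (n := ((normalizer (H : Set G)).subgroupOf N).index)
    (fun h => hNle (Subgroup.subgroupOf_eq_top.mp (Subgroup.index_eq_one.mp h)))
  haveI := Fact.mk hr
  have hSyl : ∀ R : Sylow r ↥N, ¬ (R : Subgroup N).map N.subtype ≤ normalizer (H : Set G) := by
    intro R hR
    have h : (R : Subgroup N) ≤ (normalizer (H : Set G)).subgroupOf N := fun x hx => hR ⟨x, hx, rfl⟩
    exact R.not_dvd_index (hrd.trans (Subgroup.index_dvd_of_le h))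
  obtain ⟨R⟩ := (inferInstance : Nonempty (Sylow r ↥N))
  set R1 : Subgroup G := (R : Subgroup N).map N.subtype with hR1
  set T : Subgroup G := normalizer (R1 : Set G) with hT
  have hTN : T ⊔ N = ⊤ := Sylow.normalizer_sup_eq_top R
  let L : Subgroup T := N.subgroupOf T
  have hL : L ≠ ⊤ := fun h => by
    have hle : T ≤ N := Subgroup.subgroupOf_eq_top.mp h
    rw [sup_eq_right.mpr hle] at hTN
    exact hHne (by simpa [hTN] using hc.disjoint.eq_bot)
  obtain ⟨q, hq⟩ := exists_supplement (T := T) (X := G ⧸ normalizer (H : Set G)) L hL (by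
    intro x hx
    have hxN : (x : G) ∉ N := hx
    obtain ⟨a, ha⟩ := hcov x hxN
    have hiff : ∀ b : G, x • (b : G ⧸ normalizer (H : Set G)) = (b : G ⧸ normalizer (H : Set G)) ↔
        b⁻¹ * (x : G) * b ∈ normalizer (H : Set G) := by
      intro b
      change ((((x : G) * b) : G) : G ⧸ normalizer (H : Set G)) = (b : G ⧸ normalizer (H : Set G)) ↔ _
      rw [eq_comm, QuotientGroup.eq, mul_assoc]
    refine ⟨(a : G ⧸ normalizer (H : Set G)), (hiff a).mpr ha, ?_⟩
    intro q hq
    obtain ⟨b, rfl⟩ := QuotientGroup.mk_surjective q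
    rw [QuotientGroup.eq]
    have hne : D.π ⟨_, ha⟩ ≠ 1 := fun h => hxN (by
      have := hN.conj_mem _ ((hM ⟨_, ha⟩).mpr h) a
      simpa [mul_assoc] using this)
    refine mem_of_conj D hne ?_
    have := (hiff b).mp hq
    simpa [mul_assoc] using this)
  obtain ⟨a, rfl⟩ := QuotientGroup.mk_surjective q
  set R2 : Subgroup G := R1.map (MulAut.conj a⁻¹).toMonoidHom with hR2
  have hR2M : ¬ R2 ≤ normalizer (H : Set G) := by
    intro hle
    let ψ : ↥N ≃* ↥N := MulAut.conjNormal a⁻¹
    have hp : IsPGroup r ((R : Subgroup N).map (ψ : ↥N →* ↥N)) := R.isPGroup'.map _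
    have hni : ¬ r ∣ ((R : Subgroup N).map (ψ : ↥N →* ↥N)).index := by
      rw [Subgroup.index_map_equiv]; exact R.not_dvd_index
    refine hSyl (hp.toSylow hni) ?_
    rintro _ ⟨_, ⟨x, hx, rfl⟩, rfl⟩
    refine hle ⟨(x : G), ⟨x, hx, rfl⟩, ?_⟩
    simp [ψ, MulAut.conjNormal_apply]
  have hHR : ∀ h ∈ H, ∀ z, z ∈ R2 ↔ h * z * h⁻¹ ∈ R2 := by
    intro h hh
    have hmem : a * h * a⁻¹ ∈ T ⊔ N := by rw [hTN]; exact Subgroup.mem_top _
    obtain ⟨t, ht, n, hn, htn⟩ := Subgroup.mem_sup_of_normal_right.mp hmem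
    have htop : (⟨t, ht⟩ : T) ∈ L ⊔ MulAction.stabilizer T (a : G ⧸ normalizer (H : Set G)) := by
      rw [hq]; exact Subgroup.mem_top _
    obtain ⟨l, hl, s, hs, hls⟩ := Subgroup.mem_sup_of_normal_left.mp htop
    have hs' : a⁻¹ * (s : G) * a ∈ normalizer (H : Set G) := by
      have h1 : ((((s : G) * a) : G) : G ⧸ normalizer (H : Set G)) = (a : G ⧸ normalizer (H : Set G)) := hs
      rw [eq_comm, QuotientGroup.eq] at h1
      rwa [mul_assoc]
    have hπ : D.π ⟨_, hs'⟩ = ⟨h, hh⟩ := by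
      have h1 : D.π (⟨_, hs'⟩ * ⟨h⁻¹, le_normalizer (inv_mem hh)⟩) = 1 := by
        refine (hM _).mp ?_
        change a⁻¹ * (s : G) * a * h⁻¹ ∈ N
        have e1 : (l : G) * s = t := congrArg Subtype.val hls
        have e2 : a⁻¹ * (s : G) * a * h⁻¹ = (a⁻¹ * (l : G)⁻¹ * a⁻¹⁻¹) * (h * (a⁻¹ * n⁻¹ * a⁻¹⁻¹) * h⁻¹) := by
          rw [show (s : G) = (l : G)⁻¹ * t by rw [← e1]; group, show t = a * h * a⁻¹ * n⁻¹ by rw [← htn]; group]
          group
        rw [e2]
        exact mul_mem (hN.conj_mem _ (inv_mem hl) _) (hN.conj_mem _ (hN.conj_mem _ (inv_mem hn) _) _)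
      rw [map_mul, show D.π ⟨h⁻¹, le_normalizer (inv_mem hh)⟩ = (⟨h, hh⟩ : ↥H)⁻¹ from D.retr ⟨h⁻¹, inv_mem hh⟩,
        mul_inv_eq_one] at h1
      exact h1
    have hpow := pow_eq D ⟨_, hs'⟩
    rw [hπ] at hpow
    change (a⁻¹ * (s : G) * a) ^ _ = h ^ _ at hpow
    obtain ⟨k, hk⟩ := exists_pow_eq_self_of_coprime (x := h) (n := Nat.card D.π.ker) (by
      rw [show orderOf h = orderOf (⟨h, hh⟩ : ↥H) from Subgroup.orderOf_coe (⟨h, hh⟩ : ↥H)]
      exact (D.coprime.coprime_dvd_left (orderOf_dvd_natCard _)).symm)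
    have hnm : h ∈ normalizer (R2 : Set G) := by
      have h2 : a⁻¹ * (s : G) * a ∈ normalizer (R2 : Set G) := by
        have := Subgroup.le_normalizer_map (MulAut.conj a⁻¹).toMonoidHom
          (Subgroup.mem_map_of_mem _ s.2)
        change (MulAut.conj a⁻¹) (s : G) ∈ normalizer (R2 : Set G) at this
        rwa [MulAut.conj_apply, inv_inv] at this
      rw [← hk, ← hpow]
      exact pow_mem (pow_mem h2 _) _
    exact Subgroup.mem_normalizer_iff.mp hnm
  have hR2N : R2 ≤ N := by
    rintro _ ⟨_, ⟨x, -, rfl⟩, rfl⟩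
    exact hN.conj_mem _ x.2 _
  set R0 : Subgroup G := R2 ⊓ normalizer (H : Set G) with hR0
  set W : Subgroup G := R2 ⊓ normalizer (R0 : Set G) with hW
  have hR2p : IsPGroup r R2 := (R.isPGroup'.map _).map _
  have hlt : R0 < W := by
    have h1 : R0.subgroupOf R2 < ⊤ := lt_of_le_of_ne le_top fun h => hR2M fun x hx =>
      ((Subgroup.subgroupOf_eq_top.mp h) hx).2
    obtain ⟨x, -, hx2, hx1⟩ := Cfsg.Agent.PGroups.exists_mem_notMem_normalizer hR2p h1
    refine lt_of_le_of_ne (le_inf inf_le_left le_normalizer) fun h => hx2 ?_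
    have : (x : G) ∈ W := ⟨x.2, Subgroup.mem_normalizer_iff.mpr fun z => by
      constructor
      · intro hz
        exact (Subgroup.mem_normalizer_iff.mp hx1 ⟨z, hz.1⟩).mp hz
      · intro hz
        have hzR : z ∈ R2 := by simpa [mul_assoc] using mul_mem (mul_mem (inv_mem x.2) hz.1) x.2
        exact (Subgroup.mem_normalizer_iff.mp hx1 ⟨z, hzR⟩).mpr hz⟩
    rw [← h] at this
    exact this
  have hR0c : ∀ z ∈ R0, ∀ h ∈ H, Commute z h := fun z hz h hh => hNM z (hR2N hz.1) hz.2 h hh
  have hWinv : ∀ h ∈ H, ∀ w ∈ W, h * w * h⁻¹ ∈ W := by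
    intro h hh w hw
    refine ⟨(hHR h hh w).mp hw.1, Subgroup.mem_normalizer_iff.mpr fun z => ?_⟩
    have key : ∀ z ∈ R0, h * z * h⁻¹ = z := fun z hz => by
      rw [← (hR0c z hz h hh).eq]; group
    constructor
    · intro hz
      have h1 := (Subgroup.mem_normalizer_iff.mp hw.2 z).mp hz
      rw [show h * w * h⁻¹ * z * (h * w * h⁻¹)⁻¹ = h * (w * (h⁻¹ * z * h⁻¹⁻¹) * w⁻¹) * h⁻¹ by group]
      have e1 : h⁻¹ * z * h⁻¹⁻¹ = z := by
        rw [← (hR0c z hz h⁻¹ (inv_mem hh)).eq]; group
      rw [e1, key _ h1]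
      exact h1
    · intro hz
      have h2 := key _ hz
      have e : w * (h⁻¹ * z * h) * w⁻¹ = h * w * h⁻¹ * z * (h * w * h⁻¹)⁻¹ := by
        have h3 : h⁻¹ * (h * w * h⁻¹ * z * (h * w * h⁻¹)⁻¹) * h = h * w * h⁻¹ * z * (h * w * h⁻¹)⁻¹ := by
          conv_lhs => rw [← h2]
          group
        rw [← h3]; group
      rw [← e] at hz
      have h4 := (Subgroup.mem_normalizer_iff.mp hw.2 _).mpr hz
      have h5 := key _ h4
      rw [show h * (h⁻¹ * z * h) * h⁻¹ = z by group] at h5
      rwa [← h5] at h4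
  let W0 : Subgroup W := R0.subgroupOf W
  haveI : W0.Normal := ⟨fun z hz w => (Subgroup.mem_normalizer_iff.mp w.2.2 z.1).mp hz⟩
  let f : ↥H → (↥W ≃* ↥W) := fun h =>
    { toFun := fun w => ⟨h * w * (h : G)⁻¹, hWinv h h.2 w w.2⟩
      invFun := fun w => ⟨(h : G)⁻¹ * w * h, by simpa using hWinv _ (inv_mem h.2) w w.2⟩
      left_inv := fun w => Subtype.ext (by simp [mul_assoc])
      right_inv := fun w => Subtype.ext (by simp [mul_assoc])
      map_mul' := fun v w => Subtype.ext (by simp [mul_assoc]) }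
  have hfW : ∀ h, W0.map (f h : ↥W →* ↥W) = W0 := by
    intro h
    have hfix : ∀ z ∈ W0, f h z = z := fun z hz => Subtype.ext (by
      change (h : G) * z * (h : G)⁻¹ = z
      rw [← (hR0c z hz h h.2).eq]; group)
    ext z
    constructor
    · rintro ⟨w, hw, rfl⟩
      change f h w ∈ W0
      rw [hfix w hw]; exact hw
    · intro hz; exact ⟨z, hz, hfix z hz⟩
  let φ : ↥H →* MulAut (↥W ⧸ W0) :=
    { toFun := fun h => QuotientGroup.congr W0 W0 (f h) (hfW h)
      map_one' := MulEquiv.ext fun q => by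
        obtain ⟨w, rfl⟩ := QuotientGroup.mk'_surjective W0 q
        change ((f 1 w : ↥W) : ↥W ⧸ W0) = (w : ↥W ⧸ W0)
        congr 1
        exact Subtype.ext (by simp [f])
      map_mul' := fun g h => MulEquiv.ext fun q => by
        obtain ⟨w, rfl⟩ := QuotientGroup.mk'_surjective W0 q
        change ((f (g * h) w : ↥W) : ↥W ⧸ W0) = ((f g (f h w) : ↥W) : ↥W ⧸ W0)
        congr 1
        exact Subtype.ext (by simp [f, mul_assoc]) }
  refine ⟨↥W ⧸ W0, inferInstance, inferInstance, φ, ?_, inferInstance, ?_⟩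
  · rw [QuotientGroup.nontrivial_iff]
    exact fun h => not_le_of_gt hlt (Subgroup.subgroupOf_eq_top.mp h)
  intro c hc' q hcq
  obtain ⟨w, rfl⟩ := QuotientGroup.mk'_surjective W0 q
  have h1 : (c : G) * w * (c : G)⁻¹ * (w : G)⁻¹ ∈ R0 := by
    have h0 : ((f c w : ↥W) : ↥W ⧸ W0) = (w : ↥W ⧸ W0) := hcq
    rw [QuotientGroup.eq_iff_div_mem, div_eq_mul_inv] at h0
    exact h0
  set b := (c : G) * w * (c : G)⁻¹ * (w : G)⁻¹ with hb
  have hbc : Commute b (c : G) := hR0c b h1 c c.2
  have hiter : ∀ i : ℕ, (c : G) ^ i * w * ((c : G) ^ i)⁻¹ = b ^ i * w := by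
    intro i
    induction i with
    | zero => simp
    | succ i ih =>
      rw [pow_succ', show (c : G) * (c : G) ^ i * w * ((c : G) * (c : G) ^ i)⁻¹ =
        (c : G) * ((c : G) ^ i * w * ((c : G) ^ i)⁻¹) * (c : G)⁻¹ by group, ih,
        show (c : G) * (b ^ i * w) * (c : G)⁻¹ = ((c : G) * b ^ i) * w * (c : G)⁻¹ by group,
        ← (hbc.pow_left i).eq, show b ^ i * (c : G) * w * (c : G)⁻¹ = b ^ i * ((c : G) * w * (c : G)⁻¹) by group,
        show (c : G) * w * (c : G)⁻¹ = b * w by rw [hb]; group, ← mul_assoc, ← pow_succ]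
  have hb1 : b = 1 := by
    have h2 := hiter (orderOf (c : G))
    rw [pow_orderOf_eq_one, inv_one, mul_one, one_mul] at h2
    have h3 : b ^ orderOf (c : G) = 1 := by simpa using h2.symm
    by_contra hne
    obtain ⟨k, hk⟩ := IsPGroup.iff_orderOf.mp hR2p ⟨b, h1.1⟩
    rw [← Subgroup.orderOf_coe] at hk
    have hk0 : k ≠ 0 := fun h0 => hne (orderOf_eq_one_iff.mp (by rw [hk, h0, pow_zero]))
    have hd : r ∣ Nat.card H := by
      refine ((hk ▸ dvd_pow_self r hk0 : r ∣ orderOf b).trans (orderOf_dvd_of_pow_eq_one h3)).trans ?_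
      rw [Subgroup.orderOf_coe]; exact orderOf_dvd_natCard _
    exact hcop r hr hd (hrd.trans (Subgroup.index_dvd_card _))
  have hwM : (w : G) ∈ normalizer (H : Set G) := by
    refine mem_of_conj D (y := ⟨(c : G), le_normalizer c.2⟩) (by rw [D.retr c]; exact hc') ?_
    change (w : G) * c * (w : G)⁻¹ ∈ _
    have : (w : G) * c * (w : G)⁻¹ = c := by
      rw [hb] at hb1
      have h4 : (c : G) * w = w * c := by
        have := mul_inv_eq_one.mp hb1
        exact mul_inv_eq_iff_eq_mul.mp this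
      rw [← h4]; group
    rw [this]; exact le_normalizer c.2
  exact (QuotientGroup.eq_one_iff w).mpr ⟨w.2.1, hwM⟩

/-- Let G be a finite group and H a subgroup that meets each of its conjugates by elements outside N_G(H) trivially and whose order is coprime to its index in N_G(H). Then H has a normal complement in N_G(H) if and only if H has a normal complement in G. Moreover, if H is not normal in G and has a normal complement in N_G(H), then H is isomorphic to a Frobenius complement of some finite Frobenius group. -/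
theorem result {G : Type u} [Group G] [Finite G] (H : Subgroup G)
    (hTI : Cfsg.IsTISubset (H : Set G)) (hHall : (Nat.card H).Coprime (H.subgroupOf (Subgroup.normalizer (H : Set G))).index) :
    ((∃ K : Subgroup (Subgroup.normalizer (H : Set G)), K.Normal ∧ K.IsComplement' (H.subgroupOf (Subgroup.normalizer (H : Set G)))) ↔
      (∃ N : Subgroup G, N.Normal ∧ N.IsComplement' H)) ∧
    (¬ H.Normal → (∃ K : Subgroup (Subgroup.normalizer (H : Set G)), K.Normal ∧ K.IsComplement' (H.subgroupOf (Subgroup.normalizer (H : Set G)))) →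
      ∃ (F : Type u) (_ : Group F) (_ : Finite F) (C : Subgroup F), Cfsg.IsFrobeniusComplement C ∧ Nonempty (H ≃* C)) := by
  classical
  constructor
  · constructor
    · rintro ⟨K, hK, hc⟩
      obtain ⟨D⟩ := exists_setup hTI hHall K hK hc
      obtain ⟨N, hN, hNc, -, -⟩ := exists_complement D
      exact ⟨N, hN, hNc⟩
    · rintro ⟨N, hN, hc⟩
      refine ⟨N.subgroupOf _, hN.subgroupOf _, ?_⟩
      refine Subgroup.isComplement'_of_disjoint_and_mul_eq_univ ?_ (Set.eq_univ_of_forall fun y => ?_)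
      · rw [Subgroup.disjoint_def]
        intro x h1 h2
        exact Subtype.ext (Subgroup.disjoint_def.mp hc.disjoint h1 h2)
      · obtain ⟨⟨n, h⟩, hnh⟩ := hc.2 (y : G)
        have hnM : (n : G) ∈ Subgroup.normalizer (H : Set G) := by
          rw [show (n : G) = y * (h : G)⁻¹ by rw [← hnh]; simp]
          exact mul_mem y.2 (Subgroup.le_normalizer (inv_mem h.2))
        exact ⟨⟨n, hnM⟩, n.2, ⟨h, Subgroup.le_normalizer h.2⟩, h.2, Subtype.ext hnh⟩
  · rintro hH ⟨K, hK, hc⟩
    obtain ⟨D⟩ := exists_setup hTI hHall K hK hc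
    obtain ⟨X, iX, fX, φ, hX, hH1, hfpf⟩ := fpf_action D hH
    obtain ⟨L, iL, fL, C, hC, ⟨e⟩⟩ := Cfsg.Agent.Frobenius.exists_of_action φ hfpf
    refine ⟨ULift.{u} L, inferInstance, inferInstance, C.map (MulEquiv.ulift.symm : L ≃* ULift.{u} L).toMonoidHom,
      Cfsg.Agent.Frobenius.map_equiv _ hC, ⟨e.trans (C.equivMapOfInjective _ (MulEquiv.ulift.symm : L ≃* ULift.{u} L).injective)⟩⟩

end Cfsg.Agent.S4115
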