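import Cfsg.Agent.H76.HallTI
import Cfsg.Statements.S4116

set_option autoImplicit false
open Cfsg

namespace Cfsg.Agent.S4116

theorem result {G : Type*} [Group G] [Finite G] (H : Subgroup G)
    (hHall : (Nat.card H).Coprime H.index) (hTI : Cfsg.IsTISubset (H : Set G))
    (K : Subgroup G) (hK : ∀ q : ℕ, q.Prime → q ∣ Nat.card K → q ∣ Nat.card H) :
    ∃ g : G, K ≤ H.map (MulAut.conj g).toMonoidHom := by
  obtain ⟨g, hg⟩ := H76.ti_hall_dominates hHall hTI K hK
  exact ⟨g, fun y hy => ⟨_, hg y hy, by simp [MulAut.conj_apply, mul_assoc]⟩⟩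

end Cfsg.Agent.S4116
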