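import Cfsg.Agent.H76.ZGroupAction
import Cfsg.Statements.S4117

set_option autoImplicit false
open Cfsg

namespace Cfsg.Agent.S4117

/-- Let A be a finite group acting on the finite group G by automorphisms with the orders of A and G coprime, and suppose every Sylow subgroup of G is cyclic. Then the fixed-point subgroup C_G(A) is a Hall subgroup of G (its order is coprime to its index), the subgroup [G, A] generated by the elements g⁻¹·a(g) is cyclic and normal with [G, A] ∩ C_G(A) = 1 and [G, A]·C_G(A) = G. -/
theorem result {G A : Type*} [Group G] [Finite G] [Group A] [Finite A]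
    [MulDistribMulAction A G] (hcop : (Nat.card A).Coprime (Nat.card G))
    (hcyc : ∀ (p : ℕ) [Fact p.Prime] (P : Sylow p G), IsCyclic (P : Subgroup G)) :
    (Nat.card (MulAction.fixedPoints A G : Set G)).Coprime (Nat.card G / Nat.card (MulAction.fixedPoints A G : Set G)) ∧
    IsCyclic (Subgroup.closure {y : G | ∃ (a : A) (g : G), y = g⁻¹ * a • g}) ∧
    (Subgroup.closure {y : G | ∃ (a : A) (g : G), y = g⁻¹ * a • g}).Normal ∧
    (Subgroup.closure {y : G | ∃ (a : A) (g : G), y = g⁻¹ * a • g} : Set G) ∩ MulAction.fixedPoints A G = {1} ∧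
    Subgroup.closure {y : G | ∃ (a : A) (g : G), y = g⁻¹ * a • g} ⊔ Subgroup.closure (MulAction.fixedPoints A G) = ⊤ := by
  have : IsZGroup G := ⟨fun p hp P => (have := Fact.mk hp; hcyc p P)⟩
  obtain ⟨hI, hfix, hcov, hc⟩ := H76.zgroup_coprime_action (G := G) (A := A) hcop
  have hn := H76.actionCommutator_normal (G := G) (A := A)
  change IsCyclic (Subgroup.closure _) at hI
  have hF : (MulAction.fixedPoints A G : Set G) = (FixedPoints.subgroup A G : Set G) := rfl
  refine ⟨?_, hI, hn, ?_, ?_⟩
  · have hcomp : (H76.actionCommutator G A).IsComplement' (FixedPoints.subgroup A G) := by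
      refine Subgroup.isComplement'_of_disjoint_and_mul_eq_univ
        (disjoint_iff_inf_le.mpr fun x hx => Subgroup.mem_bot.mpr (hfix x hx.1 fun a => hx.2 a)) ?_
      refine Set.eq_univ_of_forall fun g => ?_
      obtain ⟨w, hw, hwg⟩ := hcov g⁻¹
      exact ⟨w, hw, (g⁻¹ * w)⁻¹, (FixedPoints.subgroup A G).inv_mem hwg, by group⟩
    change (Nat.card (FixedPoints.subgroup A G)).Coprime
      (Nat.card G / Nat.card (FixedPoints.subgroup A G))
    rw [← hcomp.card_mul, Nat.mul_div_cancel _ Nat.card_pos]
    exact hc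
  · ext x
    simp only [Set.mem_inter_iff, Set.mem_singleton_iff]
    exact ⟨fun h => hfix x h.1 fun a => h.2 a,
      fun h => h ▸ ⟨one_mem _, fun a => smul_one a⟩⟩
  · rw [hF, Subgroup.closure_eq, eq_top_iff]
    intro g _
    obtain ⟨w, hw, hwg⟩ := hcov g⁻¹
    have := Subgroup.mul_mem_sup (S := Subgroup.closure _) (T := FixedPoints.subgroup A G) hw
      ((FixedPoints.subgroup A G).inv_mem hwg)
    simpa using this

end Cfsg.Agent.S4117
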