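import Cfsg.Statements.S4118
import Cfsg.Agent.H78.Zass.TISeparable

set_option autoImplicit false
open Cfsg

namespace Cfsg.Agent.S4118

open Subgroup in
open scoped commutatorElement in
theorem solvable_of_core {G : Type*} [Group G] [Finite G] {H O : Subgroup G}
    (hTI : Cfsg.IsTISubset (H : Set G)) [O.Normal] (hOc : (Nat.card O).Coprime (Nat.card H))
    (hO : ¬ O ≤ normalizer (H : Set G))
    (hmax : ∀ K : Subgroup G, K.Normal → (Nat.card K).Coprime (Nat.card H) → K ≤ O)
    (htop : O ⊔ normalizer (H : Set G) = ⊤) (hOH : (O ⊔ H).Normal)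
    (hHall : (Nat.card H).Coprime (H.subgroupOf (normalizer (H : Set G))).index)
    (hOs : Group.IsSolvable O)
    (hnoSL : ∀ K : Subgroup G, K ≤ H → ¬ Nonempty (K ≃* Matrix.SpecialLinearGroup (Fin 2) (ZMod 5))) :
    Group.IsSolvable G := by
  obtain ⟨L, _, _, K, hK, ⟨e⟩⟩ := Cfsg.Agent.H78.Zass.exists_complement_of_ti hTI hOc hO hOs
  have hHs : Group.IsSolvable H := by
    by_contra hns
    obtain ⟨S, D⟩ := Cfsg.Agent.H78.Zass.exists_slNormal hns hK e.toMonoidHom e.injective
    obtain ⟨eS⟩ := D.iso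
    exact hnoSL (S.map H.subtype) (map_subtype_le _)
      ⟨(S.equivMapOfInjective H.subtype H.subtype_injective).symm.trans eS⟩
  set N := normalizer (H : Set G) with hN
  haveI : (H.subgroupOf N).Normal := by rw [hN]; infer_instance
  obtain ⟨A₀, hA₀⟩ := exists_left_complement'_of_coprime (N := H.subgroupOf N) (by
    rwa [Nat.card_congr (subgroupOfEquivOfLe (le_normalizer (H := H))).toEquiv])
  set A : Subgroup G := A₀.map N.subtype with hA
  have hAN : A ≤ N := map_subtype_le _
  have hAcard : (Nat.card A).Coprime (Nat.card H) := by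
    rw [hA, card_map_of_injective N.subtype_injective, ← hA₀.index_eq_card]
    exact hHall.symm
  have hsupN : A ⊔ H = N := by
    refine le_antisymm (sup_le hAN le_normalizer) fun g hg => ?_
    have h1 : (⟨g, hg⟩ : N) ∈ A₀ ⊔ H.subgroupOf N := by rw [hA₀.sup_eq_top]; exact mem_top _
    rw [mem_sup_of_normal_right] at h1
    obtain ⟨u, hu, v, hv, huv⟩ := h1
    rw [← show (u : G) * v = g from congrArg Subtype.val huv]
    exact mul_mem (mem_sup_left (T := H) ⟨u, hu, rfl⟩) (mem_sup_right (mem_subgroupOf.1 hv))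
  have hcomm := Cfsg.Agent.H78.Zass.commutator_le_centralizer_of_complement hK e.toMonoidHom
    e.injective hHs (A := A) hAN hAcard
  set C' : Subgroup G := A ⊓ centralizer (H : Set G) with hC'
  have hNC : N ≤ normalizer (C' : Set G) := by
    have key : ∀ g ∈ N, (∀ c ∈ C', g * c * g⁻¹ ∈ C') → g ∈ normalizer (C' : Set G) := by
      intro g _ h
      refine Cfsg.Agent.Coprime.mem_normalizer_of_map_conj ?_
      refine eq_of_le_of_card_ge ?_ (card_map_of_injective (MulAut.conj g).injective).ge
      rintro _ ⟨c, hc, rfl⟩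
      exact h c hc
    rw [← hsupN]
    refine sup_le (fun g hg => key g (hAN hg) fun c hc => ⟨A.mul_mem (A.mul_mem hg hc.1) (A.inv_mem hg), ?_⟩)
      fun g hg => key g (le_normalizer hg) fun c hc => ?_
    · show g * c * g⁻¹ ∈ centralizer (H : Set G)
      rw [mem_centralizer_iff]
      intro h hh
      have h1 := mem_centralizer_iff.1 hc.2 (g⁻¹ * h * g)
        (by simpa using (mem_normalizer_iff.1 (inv_mem (hAN hg)) h).1 hh)
      calc h * (g * c * g⁻¹) = g * ((g⁻¹ * h * g) * c) * g⁻¹ := by group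
        _ = g * (c * (g⁻¹ * h * g)) * g⁻¹ := by rw [h1]
        _ = g * c * g⁻¹ * h := by group
    · rw [mem_centralizer_iff.1 hc.2 g hg, mul_inv_cancel_right]
      exact hc
  haveI hOC : (O ⊔ C').Normal := by
    rw [← normalizer_eq_top_iff, eq_top_iff, ← htop]
    refine sup_le (le_sup_left.trans le_normalizer) fun g hg => ?_
    apply Cfsg.Agent.Coprime.mem_normalizer_of_map_conj
    rw [Subgroup.map_sup, Cfsg.Agent.Coprime.map_conj_eq (hNC hg), Cfsg.Agent.Coprime.map_conj_eq]
    rw [normalizer_eq_top_iff.mpr inferInstance]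
    trivial
  have hC'O : C' ≤ O := by
    refine le_sup_right.trans (hmax (O ⊔ C') hOC ?_)
    have h1 := Cfsg.Agent.Cores.card_sup_dvd C' O
    rw [sup_comm] at h1
    exact (Nat.Coprime.mul_left (hAcard.coprime_dvd_left (card_dvd_of_le inf_le_left))
      hOc).coprime_dvd_left h1
  -- the bottom
  haveI := hOs
  haveI := hOH
  haveI hbot : Group.IsSolvable (O ⊔ H : Subgroup G) := by
    set π := QuotientGroup.mk' O
    have hmap : (O ⊔ H).map π = H.map π := by
      rw [Subgroup.map_sup, (map_eq_bot_iff O).2 (by rw [QuotientGroup.ker_mk']), bot_sup_eq]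
    haveI : Group.IsSolvable ((O ⊔ H).map π) := by
      rw [hmap]; exact Cfsg.Agent.Coprime.isSolvable_map π hHs
    exact Group.isSolvable_of_ker_le_range (inclusion (le_sup_left : O ≤ O ⊔ H))
      (π.subgroupMap (O ⊔ H)) (by
        intro x hx
        have h1 : π (x : G) = 1 := congrArg Subtype.val (MonoidHom.mem_ker.1 hx)
        exact ⟨⟨x, (QuotientGroup.eq_one_iff _).1 h1⟩, Subtype.ext rfl⟩)
  -- the top
  set q := QuotientGroup.mk' (O ⊔ H)
  have hsurj : ∀ z : G ⧸ (O ⊔ H), ∃ a ∈ A, q a = z := by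
    intro z
    obtain ⟨g, rfl⟩ := QuotientGroup.mk'_surjective _ z
    have hg : g ∈ A ⊔ (O ⊔ H) := by
      rw [sup_left_comm, hsupN, htop]; exact mem_top g
    rw [mem_sup_of_normal_right] at hg
    obtain ⟨a, ha, w, hw, rfl⟩ := hg
    exact ⟨a, ha, by rw [map_mul, show q w = 1 from (QuotientGroup.eq_one_iff _).2 hw, mul_one]⟩
  haveI : Group.IsSolvable (G ⧸ (O ⊔ H)) := Group.isSolvable_of_comm fun z w => by
    obtain ⟨a, ha, rfl⟩ := hsurj z
    obtain ⟨b, hb, rfl⟩ := hsurj w
    have h1 : ⁅a, b⁆ ∈ O := hC'O ⟨A.mul_mem (A.mul_mem (A.mul_mem ha hb) (A.inv_mem ha)) (A.inv_mem hb),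
      hcomm (commutator_mem_commutator ha hb)⟩
    have h2 : q ⁅a, b⁆ = 1 := (QuotientGroup.eq_one_iff _).2 (mem_sup_left h1)
    rw [map_commutatorElement, commutatorElement_eq_one_iff_commute] at h2
    exact h2
  exact Group.isSolvable_of_ker_le_range (O ⊔ H).subtype q (by rw [QuotientGroup.ker_mk', range_subtype])

/-- Let G be a finite group and H a non-normal subgroup meeting each of its conjugates by elements outside N_G(H) trivially, with the order of H coprime to its index in N_G(H); let π be the set of primes dividing the order of H and suppose G is π-separable (it has a chain of normal subgroups from 1 to G each of whose factors has order divisible only by primes in π or coprime to the order of H). Let O be the largest normal subgroup of G of order coprime to the order of H. Then G = O·N_G(H), O·H is normal in G, and G is solvable if and only if O is solvable and H has no subgroup isomorphic to SL₂(5). -/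
theorem result {G : Type*} [Group G] [Finite G] (H : Subgroup G)
    (hTI : Cfsg.IsTISubset (H : Set G)) (hnn : ¬ H.Normal)
    (hHall : (Nat.card H).Coprime (H.subgroupOf (Subgroup.normalizer (H : Set G))).index)
    (hsep : ∃ (n : ℕ) (M : Fin (n + 1) → Subgroup G), M 0 = ⊥ ∧ M (Fin.last n) = ⊤ ∧ Monotone M ∧ (∀ i, (M i).Normal) ∧
      ∀ i : Fin n, (∀ q : ℕ, q.Prime → q ∣ (M i.castSucc).relIndex (M i.succ) → q ∣ Nat.card H) ∨
        ((M i.castSucc).relIndex (M i.succ)).Coprime (Nat.card H))
    (O : Subgroup G) (hO : O = sSup {K : Subgroup G | K.Normal ∧ (Nat.card K).Coprime (Nat.card H)}) :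
    O ⊔ Subgroup.normalizer (H : Set G) = ⊤ ∧ (O ⊔ H).Normal ∧
    (Group.IsSolvable G ↔ Group.IsSolvable O ∧
      ∀ K : Subgroup G, K ≤ H → ¬ Nonempty (K ≃* Matrix.SpecialLinearGroup (Fin 2) (ZMod 5))) := by
  obtain ⟨h1, h2, h3⟩ := Cfsg.Agent.H76.ti_separable_frattini hTI hnn hHall hsep hO
  obtain ⟨hOn, hOc⟩ := Cfsg.Agent.H76.coprime_core (G := G) (Nat.card H)
  rw [← hO] at hOn hOc
  haveI := hOn
  refine ⟨h1, h2, fun hs => ⟨?_, fun K _ ⟨e⟩ => ?_⟩, fun ⟨hOs, hnoSL⟩ =>
    solvable_of_core hTI hOc h3 (fun K a b => hO ▸ le_sSup ⟨a, b⟩) h1 h2 hHall hOs hnoSL⟩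
  · haveI := hs
    infer_instance
  · haveI := hs
    exact Cfsg.Agent.H78.Zass.sl25_not_solvable
      (Group.isSolvable_of_surjective (f := e.toMonoidHom) e.surjective)

end Cfsg.Agent.S4118
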