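import Cfsg.Statements.S4125
import Cfsg.Agent.H79.BaerClasses
import Cfsg.Agent.H79.PPowerOrbits
import Cfsg.Agent.Cores.PCore

set_option autoImplicit false
open Cfsg

namespace Cfsg.Agent.S4125

open H79.BaerClasses Subgroup

universe u

variable {G : Type u} [Group G] [Finite G] {q : ℕ} [hq : Fact q.Prime]

theorem normal_complement (Q : Sylow q G) (hp : ∀ x : G, (∃ k, orderOf x = q ^ k) → ∃ a, cls x = q ^ a) :
    (Q : Subgroup G).Normal ∧ ∃ N : Subgroup G, N.Normal ∧ N.IsComplement' (Q : Subgroup G) := by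
  have hord : ∀ x ∈ (Q : Subgroup G), ∃ k, orderOf x = q ^ k := fun x hx => by
    obtain ⟨k, hk⟩ := IsPGroup.iff_orderOf.mp Q.2 ⟨x, hx⟩
    exact ⟨k, by rwa [Subgroup.orderOf_mk] at hk⟩
  have hQ : (Q : Subgroup G) = pCore q G := le_antisymm (fun x hx => by
    obtain ⟨k, hk⟩ := hord x hx
    obtain ⟨a, ha⟩ := hp x ⟨k, hk⟩
    exact mem_pCore_of_cls hk ha) (Cores.pCore_le_sylow Q)
  haveI hQn : (Q : Subgroup G).Normal := by rw [hQ]; exact pCore_normal q G
  refine ⟨hQn, ?_⟩
  have hcop : (Nat.card (Q : Subgroup G)).Coprime (Q : Subgroup G).index := Q.card_coprime_index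
  obtain ⟨N, hN⟩ := Subgroup.exists_right_complement'_of_coprime hcop
  refine ⟨N, ?_, hN.symm⟩
  have hNq : (Nat.card N).Coprime q := by
    rw [← hN.symm.index_eq_card]
    exact ((hq.out.coprime_iff_not_dvd).mpr Q.not_dvd_index).symm
  have hcent : N ≤ centralizer ((Q : Subgroup G) : Set G) := by
    refine le_centralizer_of_fix_frattini Q.2 hNq fun g _ x hx => ?_
    obtain ⟨k, hk⟩ := hord x hx
    obtain ⟨a, ha⟩ := hp x ⟨k, hk⟩
    obtain ⟨π, hπ, he⟩ := exists_sylow_conj ha Q g
    rw [he]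
    exact conj_mem_frattini Q.2 hπ hx
  rw [← normalizer_eq_top_iff, eq_top_iff, ← hN.sup_eq_top, sup_le_iff]
  refine ⟨fun x hx => ?_, le_normalizer⟩
  rw [mem_normalizer_iff]
  intro n
  have hc : ∀ n ∈ N, x * n * x⁻¹ = n := fun n hn => by
    rw [(mem_centralizer_iff.mp (hcent hn)) x hx, mul_inv_cancel_right]
  constructor <;> intro hh
  · rw [hc n hh]; exact hh
  · have h2 := (mem_centralizer_iff.mp (hcent hh)) x hx
    have : x * n * x⁻¹ = n := by
      calc x * n * x⁻¹ = x⁻¹ * (x * (x * n * x⁻¹)) := by group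
        _ = x⁻¹ * (x * n * x⁻¹ * x) := by rw [h2]
        _ = n := by group
    rwa [this] at hh

theorem normal_qLength (Q : Sylow q G) {p : ℕ} (hpp : p.Prime) (hpq : p ≠ q)
    (hp : ∀ x : G, (∃ k, orderOf x = q ^ k) → ∃ a, cls x = p ^ a) :
    IsMulCommutative (Q : Subgroup G) ∧ (pCore p G ⊔ (Q : Subgroup G)).Normal ∧
      (pPrimeCore q G ⊔ (Q : Subgroup G)).Normal := by
  haveI := Fact.mk hpp
  haveI : (pCore p G).Normal := pCore_normal p G
  set π := QuotientGroup.mk' (pCore p G) with hπ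
  have hsurj : Function.Surjective π := QuotientGroup.mk'_surjective _
  have hord : ∀ x ∈ (Q : Subgroup G), ∃ k, orderOf x = q ^ k := fun x hx => by
    obtain ⟨k, hk⟩ := IsPGroup.iff_orderOf.mp Q.2 ⟨x, hx⟩
    exact ⟨k, by rwa [Subgroup.orderOf_mk] at hk⟩
  have hcore : ∀ x ∈ (Q : Subgroup G), π x ∈ pCore q (G ⧸ pCore p G) := by
    intro x hx
    obtain ⟨k, hk⟩ := hord x hx
    obtain ⟨a, ha⟩ := hp x ⟨k, hk⟩
    set L := (normalClosure ({x} : Set G)).map π with hL
    haveI : L.Normal := normalClosure_normal.map π hsurj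
    haveI : IsMulCommutative L := by
      refine ⟨⟨?_⟩⟩
      rintro ⟨_, s, hs, rfl⟩ ⟨_, t, ht, rfl⟩
      refine Subtype.ext ?_
      show π s * π t = π t * π s
      rw [← commutatorElement_eq_one_iff_mul_comm, ← map_commutatorElement, ← MonoidHom.mem_ker,
        hπ, QuotientGroup.ker_mk']
      exact H79.Kazarin.commutator_normalClosure_le hpp ha (commutator_mem_commutator hs ht)
    have hxL : π x ∈ L := ⟨x, subset_normalClosure rfl, rfl⟩
    obtain ⟨Q', hQ'⟩ : ∃ Q' : Sylow q L, zpowers (⟨π x, hxL⟩ : L) ≤ (Q' : Subgroup L) := by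
      obtain ⟨j, -, hj⟩ := (Nat.dvd_prime_pow hq.out).mp (hk ▸ orderOf_map_dvd π x)
      refine (IsPGroup.of_card (n := j) ?_).exists_le_sylow
      rw [Nat.card_zpowers, Subgroup.orderOf_mk, hj]
    have hQ'n : (Q' : Subgroup L).Normal := inferInstance
    haveI := Q'.characteristic_of_normal hQ'n
    exact Cores.le_pCore (Q'.2.map L.subtype) ⟨_, hQ' (mem_zpowers _), rfl⟩
  let Qb : Sylow q (G ⧸ pCore p G) := Q.mapSurjective hsurj
  have hQb : (Qb : Subgroup (G ⧸ pCore p G)) = (Q : Subgroup G).map π := Sylow.coe_mapSurjective hsurj Q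
  have hQbeq : (Q : Subgroup G).map π = pCore q (G ⧸ pCore p G) :=
    le_antisymm (by rintro _ ⟨x, hx, rfl⟩; exact hcore x hx)
      (hQb ▸ Cores.pCore_le_sylow Qb)
  have hsup : (pCore p G ⊔ (Q : Subgroup G)) = (pCore q (G ⧸ pCore p G)).comap π := by
    rw [← hQbeq, comap_map_eq, hπ, QuotientGroup.ker_mk', sup_comm]
  have hn1 : (pCore p G ⊔ (Q : Subgroup G)).Normal := by
    rw [hsup]
    exact (pCore_normal q _).comap π
  refine ⟨⟨⟨fun x y => Subtype.ext ?_⟩⟩, hn1, ?_⟩
  · -- the Sylow subgroup is abelian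
    obtain ⟨k, hk⟩ := hord y y.2
    obtain ⟨a, ha⟩ := hp y ⟨k, hk⟩
    obtain ⟨Q', hQ'⟩ := exists_sylow_le_centralizer (x := (y : G)) (q := q) (by
      rw [ha]
      exact fun h => hpq ((Nat.prime_dvd_prime_iff_eq hq.out hpp).mp (hq.out.dvd_of_dvd_pow h)).symm)
    let Qb' : Sylow q (G ⧸ pCore p G) := Q'.mapSurjective hsurj
    have hxb : π (x : G) ∈ (Q' : Subgroup G).map π := by
      have := Cores.pCore_le_sylow Qb' (hcore x x.2)
      rwa [show (Qb' : Subgroup (G ⧸ pCore p G)) = (Q' : Subgroup G).map π from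
        Sylow.coe_mapSurjective hsurj Q'] at this
    obtain ⟨x', hx', he⟩ := hxb
    have h1 : (x : G) * y * (x : G)⁻¹ * (y : G)⁻¹ ∈ pCore p G := by
      rw [← QuotientGroup.ker_mk' (pCore p G), MonoidHom.mem_ker, ← hπ, map_mul, map_mul, map_mul,
        ← he, map_inv, map_inv, ← map_mul π x' y, mem_centralizer_singleton_iff.mp (hQ' hx'),
        map_mul, ← he]
      group
    obtain ⟨n, hn⟩ := IsPGroup.iff_orderOf.mp Cores.pCore_isPGroup ⟨_, h1⟩
    obtain ⟨m, hm⟩ := hord _ (mul_mem (mul_mem (mul_mem x.2 y.2) (inv_mem x.2)) (inv_mem y.2))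
    rw [Subgroup.orderOf_mk, hm] at hn
    have h0 : (q ^ m) = 1 := Nat.eq_one_of_dvd_coprimes
      (Nat.Coprime.pow m n ((Nat.coprime_primes hq.out hpp).mpr hpq.symm)) dvd_rfl (hn ▸ dvd_rfl)
    rw [h0, orderOf_eq_one_iff, mul_inv_eq_one, mul_inv_eq_iff_eq_mul] at hm
    exact hm
  · haveI : (pPrimeCore q G).Normal := pPrimeCore_normal q G
    have hle : pCore p G ≤ pPrimeCore q G := by
      obtain ⟨n, hn⟩ := IsPGroup.iff_card.mp (Cores.pCore_isPGroup (p := p) (G := G))
      exact Cores.le_pPrimeCore (by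
        rw [hn]; exact ((Nat.coprime_primes hpp hq.out).mpr hpq).pow_left n)
    haveI := hn1
    have : pPrimeCore q G ⊔ (Q : Subgroup G) = pPrimeCore q G ⊔ (pCore p G ⊔ (Q : Subgroup G)) := by
      rw [← sup_assoc, sup_eq_left.mpr hle]
    rw [this]
    infer_instance

omit hq in
theorem solvable_quotient [Fact q.Prime] (Q : Sylow q G) {p : ℕ} (hpp : p.Prime) (hpq : p ≠ q)
    (hp : ∀ x : G, (∃ k, orderOf x = q ^ k) → ∃ a, cls x = p ^ a)
    (hQ : IsMulCommutative (Q : Subgroup G)) (hL : (pPrimeCore q G ⊔ (Q : Subgroup G)).Normal)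
    [(pPrimeCore q G).Normal] : Group.IsSolvable (G ⧸ pPrimeCore q G) := by
  classical
  haveI := Fact.mk hpp
  have hqp : q.Prime := Fact.out
  set π := QuotientGroup.mk' (pPrimeCore q G) with hπ
  have hsurj : Function.Surjective π := QuotientGroup.mk'_surjective _
  let Qb : Sylow q (G ⧸ pPrimeCore q G) := Q.mapSurjective hsurj
  set B := (Q : Subgroup G).map π with hB
  have hQbB : (Qb : Subgroup (G ⧸ pPrimeCore q G)) = B := Sylow.coe_mapSurjective hsurj Q
  haveI hBn : B.Normal := by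
    have h := hL.map π hsurj
    rwa [Subgroup.map_sup, (Subgroup.map_eq_bot_iff _).mpr (QuotientGroup.ker_mk' _).ge,
      bot_sup_eq] at h
  haveI hBc : IsMulCommutative B := by
    refine ⟨⟨?_⟩⟩
    rintro ⟨_, s, hs, rfl⟩ ⟨_, t, ht, rfl⟩
    refine Subtype.ext ?_
    show π s * π t = π t * π s
    rw [← map_mul, ← map_mul]
    exact congrArg π (congrArg Subtype.val (hQ.is_comm.comm ⟨s, hs⟩ ⟨t, ht⟩))
  have hBp : IsPGroup q B := hQbB ▸ Qb.2
  have hBidx : ¬ q ∣ B.index := hQbB ▸ Qb.not_dvd_index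
  have hcomm : ∀ s ∈ B, ∀ t ∈ B, s * t = t * s := fun s hs t ht =>
    congrArg Subtype.val (hBc.is_comm.comm ⟨s, hs⟩ ⟨t, ht⟩)
  -- the centraliser of the Sylow subgroup
  set C := centralizer (B : Set (G ⧸ pPrimeCore q G)) with hC
  have hBC : B ≤ C := fun t ht => mem_centralizer_iff.mpr fun s hs => hcomm s hs t ht
  have hCB : C ≤ B := by
    haveI : C.Normal := by rw [hC]; infer_instance
    have hidx : ¬ q ∣ B.relIndex C := fun h => hBidx (h.trans (relIndex_dvd_index_of_normal B C))
    haveI : (B.subgroupOf C).Normal := hBn.comap C.subtype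
    obtain ⟨n, hn⟩ := IsPGroup.iff_card.mp hBp
    have hcardB : Nat.card (B.subgroupOf C) = q ^ n :=
      (Nat.card_congr (subgroupOfEquivOfLe hBC).toEquiv).trans hn
    obtain ⟨K, hK⟩ := exists_right_complement'_of_coprime (N := B.subgroupOf C)
      (by rw [hcardB]; exact ((hqp.coprime_iff_not_dvd).mpr hidx).pow_left n)
    have hKn : K.Normal := by
      rw [← normalizer_eq_top_iff, eq_top_iff, ← hK.sup_eq_top, sup_le_iff]
      refine ⟨fun b hb => ?_, le_normalizer⟩
      rw [mem_normalizer_iff]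
      intro c
      have hbc : b * c = c * b :=
        Subtype.ext ((mem_centralizer_iff.mp c.2) b (mem_subgroupOf.mp hb))
      rw [hbc, mul_inv_cancel_right]
    haveI := hKn
    have hKle : K ≤ pPrimeCore q C := Cores.le_pPrimeCore (by
      rw [← hK.symm.index_eq_card]
      exact ((hqp.coprime_iff_not_dvd).mpr hidx).symm)
    have hKbot : K = ⊥ := by
      have h1 := (Subgroup.map_mono (f := C.subtype) hKle).trans
        (Cores.map_pPrimeCore_le_of_normal C)
      rw [Cores.pPrimeCore_quotient_pPrimeCore, le_bot_iff,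
        Subgroup.map_eq_bot_iff_of_injective _ C.subtype_injective] at h1
      exact h1
    have h2 := hK.sup_eq_top
    rw [hKbot, sup_bot_eq, subgroupOf_eq_top] at h2
    exact h2
  -- the elements of order dividing `q`
  let Ω : Subgroup (G ⧸ pPrimeCore q G) :=
    { carrier := {x | x ∈ B ∧ x ^ q = 1}
      one_mem' := ⟨B.one_mem, one_pow q⟩
      mul_mem' := fun {s t} hs ht => ⟨B.mul_mem hs.1 ht.1, by
        rw [(show Commute s t from hcomm s hs.1 t ht.1).mul_pow, hs.2, ht.2, one_mul]⟩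
      inv_mem' := fun {s} hs => ⟨B.inv_mem hs.1, by rw [inv_pow, hs.2, inv_one]⟩ }
  haveI hΩn : Ω.Normal := ⟨fun s hs g =>
    ⟨hBn.conj_mem s hs.1 g, by rw [conj_pow, hs.2, mul_one, mul_inv_cancel]⟩⟩
  letI : CommGroup Ω :=
    { (inferInstance : Group Ω) with
      mul_comm := fun s t => Subtype.ext (hcomm s s.2.1 t t.2.1) }
  letI : DistribMulAction (G ⧸ pPrimeCore q G) (Additive Ω) :=
    { smul := fun g v => Additive.ofMul ⟨g * ((Additive.toMul v : Ω) : G ⧸ pPrimeCore q G) * g⁻¹,
          hΩn.conj_mem _ (Additive.toMul v).2 g⟩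
      one_smul := fun v => by
        refine Additive.toMul.injective (Subtype.ext ?_)
        show 1 * ((Additive.toMul v : Ω) : G ⧸ pPrimeCore q G) * 1⁻¹ = _
        group
      mul_smul := fun g h v => by
        refine Additive.toMul.injective (Subtype.ext ?_)
        show g * h * ((Additive.toMul v : Ω) : G ⧸ pPrimeCore q G) * (g * h)⁻¹ =
          g * (h * ((Additive.toMul v : Ω) : G ⧸ pPrimeCore q G) * h⁻¹) * g⁻¹
        group
      smul_zero := fun g => by
        refine Additive.toMul.injective (Subtype.ext ?_)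
        show g * 1 * g⁻¹ = 1
        group
      smul_add := fun g v w => by
        refine Additive.toMul.injective (Subtype.ext ?_)
        show g * (((Additive.toMul v : Ω) : G ⧸ pPrimeCore q G) * ((Additive.toMul w : Ω) : G ⧸ pPrimeCore q G)) * g⁻¹ =
          g * ((Additive.toMul v : Ω) : G ⧸ pPrimeCore q G) * g⁻¹ *
            (g * ((Additive.toMul w : Ω) : G ⧸ pPrimeCore q G) * g⁻¹)
        group }
  set ρ := (DistribMulAction.toAddMonoidEnd (G ⧸ pPrimeCore q G) (Additive Ω)).toHomUnits with hρ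
  have hker : ρ.ker ≤ B := by
    refine le_trans ?_ hCB
    refine Coprime.le_of_forall_sylow_le fun ℓ hℓ P hPker hP => ?_
    haveI := Fact.mk hℓ
    rcases eq_or_ne ℓ q with rfl | hne
    · obtain ⟨Q', hQ'⟩ := hP.exists_le_sylow
      haveI : (Qb : Subgroup (G ⧸ pPrimeCore ℓ G)).Normal := hQbB ▸ hBn
      haveI : Unique (Sylow ℓ (G ⧸ pPrimeCore ℓ G)) := Sylow.unique_of_normal Qb inferInstance
      have : Q' = Qb := Subsingleton.elim _ _
      exact (hQ'.trans (this ▸ le_of_eq hQbB)).trans hBC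
    · obtain ⟨n, hn⟩ := IsPGroup.iff_card.mp hP
      obtain ⟨m, hm⟩ := IsPGroup.iff_card.mp hBp
      have hcop : (Nat.card P).Coprime (Nat.card B) := by
        rw [hn, hm]
        exact Nat.Coprime.pow n m ((Nat.coprime_primes hℓ hqp).mpr hne)
      have hnorm : P ≤ normalizer (B : Set (G ⧸ pPrimeCore q G)) := fun _ _ => by
        rw [normalizer_eq_top]; trivial
      obtain ⟨hdis, -⟩ := Coprime.abelian_decomposition hnorm hcop
      have hbot : ⁅B, P⁆ = ⊥ := by
        by_contra hne'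
        have hle : ⁅B, P⁆ ≤ B := commutator_le_left B P
        obtain ⟨i, hi⟩ := IsPGroup.iff_card.mp (hBp.to_le hle)
        have hi0 : i ≠ 0 := by
          rintro rfl
          exact hne' (Subgroup.card_eq_one.mp (by rw [hi, pow_zero]))
        obtain ⟨⟨w, hw⟩, hwo⟩ := exists_prime_orderOf_dvd_card' (G := ↥⁅B, P⁆) q
          (hi ▸ dvd_pow_self q hi0)
        rw [Subgroup.orderOf_mk] at hwo
        have hwq : w ^ q = 1 := by
          have := pow_orderOf_eq_one w
          rwa [hwo] at this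
        have hwC : w ∈ centralizer (P : Set (G ⧸ pPrimeCore q G)) := by
          refine mem_centralizer_iff.mpr fun t ht => ?_
          have h1 : ρ t = 1 := hPker ht
          have h2 := congrArg (fun e : (AddMonoid.End (Additive Ω))ˣ =>
            ((Additive.toMul ((e : AddMonoid.End (Additive Ω))
              (Additive.ofMul ⟨w, hle hw, hwq⟩)) : Ω) : G ⧸ pPrimeCore q G)) h1
          have h3 : t * w * t⁻¹ = w := h2
          rw [mul_inv_eq_iff_eq_mul] at h3
          exact h3
        have : w ∈ (⊥ : Subgroup (G ⧸ pPrimeCore q G)) := hdis ▸ ⟨⟨hle hw, hwC⟩, hw⟩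
        rw [Subgroup.mem_bot] at this
        rw [this, orderOf_one] at hwo
        exact hqp.ne_one hwo.symm
      rw [commutator_eq_bot_iff_le_centralizer] at hbot
      rw [hC]
      exact le_centralizer_iff.mp hbot
  haveI : Finite (AddMonoid.End (Additive Ω)) :=
    Finite.of_injective (fun f : AddMonoid.End (Additive Ω) => (f : Additive Ω → Additive Ω))
      DFunLike.coe_injective
  haveI : FaithfulSMul ρ.range (Additive Ω) :=
    ⟨fun {r s} h => Subtype.ext (Units.ext (DFunLike.ext _ _ h))⟩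
  have hBker : B ≤ ρ.ker := fun b hb => by
    refine Units.ext (DFunLike.ext _ _ fun v => ?_)
    refine Additive.toMul.injective (Subtype.ext ?_)
    show b * ((Additive.toMul v : Ω) : G ⧸ pPrimeCore q G) * b⁻¹ = ((Additive.toMul v : Ω) : G ⧸ pPrimeCore q G)
    rw [hcomm b hb _ (Additive.toMul v).2.1, mul_inv_cancel_right]
  have hsol : Group.IsSolvable ρ.range := by
    refine H79.PPowerOrbits.isSolvable_of_orbits (p := p) (q := q) (V := Additive Ω) ?_ ?_ ?_
    · intro v
      refine Additive.toMul.injective ?_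
      rw [toMul_nsmul]
      exact Subtype.ext (by rw [SubmonoidClass.coe_pow]; exact (Additive.toMul v).2.2)
    · refine Nat.Coprime.coprime_dvd_left (dvd_of_eq (Subgroup.index_ker ρ).symm) ?_
      exact Nat.Coprime.coprime_dvd_left (index_dvd_of_le hBker)
        ((hqp.coprime_iff_not_dvd).mpr hBidx).symm
    · intro v
      have hv := (Additive.toMul v).2
      obtain ⟨x, hx, hxe⟩ := hv.1
      obtain ⟨k, hk⟩ := IsPGroup.iff_orderOf.mp Q.2 ⟨x, hx⟩
      rw [Subgroup.orderOf_mk] at hk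
      obtain ⟨a, ha⟩ := hp x ⟨k, hk⟩
      have h1 : (MulAction.stabilizer ρ.range v).index ∣ p ^ a := by
        rw [← Subgroup.index_comap_of_surjective _ ρ.rangeRestrict_surjective, ← ha]
        have hle : (centralizer ({x} : Set G)).map π ≤
            (MulAction.stabilizer ρ.range v).comap ρ.rangeRestrict := by
          rintro _ ⟨c, hc, rfl⟩
          rw [Subgroup.mem_comap, MulAction.mem_stabilizer_iff]
          refine Additive.toMul.injective (Subtype.ext ?_)
          show π c * ((Additive.toMul v : Ω) : G ⧸ pPrimeCore q G) * (π c)⁻¹ =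
            ((Additive.toMul v : Ω) : G ⧸ pPrimeCore q G)
          rw [← hxe, ← map_mul, mem_centralizer_singleton_iff.mp hc, map_mul, mul_inv_cancel_right]
        exact (index_dvd_of_le hle).trans (Subgroup.index_map_dvd _ hsurj)
      obtain ⟨b, -, hb⟩ := (Nat.dvd_prime_pow hpp).mp h1
      exact ⟨b, hb⟩
  haveI := hsol
  haveI : Group.IsSolvable B := Group.isSolvable_of_comm fun s t => hBc.is_comm.comm s t
  exact Group.isSolvable_of_ker_le_range B.subtype ρ.rangeRestrict
    (by rw [MonoidHom.ker_rangeRestrict, Subgroup.range_subtype]; exact hker)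

/-- Let G be a finite group and q a prime dividing its order such that every element of q-power order has a conjugacy class of prime-power size. Then G is q-solvable of q-length 1: there are normal subgroups K ≤ L of G with K of order prime to q, L/K a q-group and L of index prime to q. Moreover there is a prime p such that every element of q-power order has a class of p-power size (one prime serving for all of them), and for a Sylow q-subgroup Q: if p = q then Q is normal with a normal complement (a direct factor), while if p ≠ q then Q is abelian, the product of Q with the largest normal p-subgroup O_p(G) is normal in G, and G/O_{q'}(G) is solvable, where O_{q'}(G) is the largest normal subgroup of order prime to q. -/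
theorem result {G : Type*} [Group G] [Finite G] (q : ℕ) [Fact q.Prime] (hq : q ∣ Nat.card G)
    (hBaer : ∀ x : G, (∃ k : ℕ, orderOf x = q ^ k) → ∃ (r : ℕ) (a : ℕ), r.Prime ∧ (Subgroup.centralizer ({x} : Set G)).index = r ^ a) (Q : Sylow q G) :
    (∃ K L : Subgroup G, K.Normal ∧ L.Normal ∧ K ≤ L ∧ (Nat.card K).Coprime q ∧ (∃ m : ℕ, K.relIndex L = q ^ m) ∧ L.index.Coprime q) ∧
    ∃ p : ℕ, p.Prime ∧ (∀ x : G, (∃ k : ℕ, orderOf x = q ^ k) → ∃ a : ℕ, (Subgroup.centralizer ({x} : Set G)).index = p ^ a) ∧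
      (p = q → (Q : Subgroup G).Normal ∧ ∃ N : Subgroup G, N.Normal ∧ N.IsComplement' (Q : Subgroup G)) ∧
      (p ≠ q → IsMulCommutative (Q : Subgroup G) ∧ (Cfsg.pCore p G ⊔ (Q : Subgroup G)).Normal ∧
        ∀ _h : (Cfsg.pPrimeCore q G).Normal, Group.IsSolvable (G ⧸ Cfsg.pPrimeCore q G)) := by
  have hqp : q.Prime := Fact.out
  obtain ⟨p, hpp, hp⟩ := exists_prime hBaer
  by_cases hpq : p = q
  · subst hpq
    obtain ⟨hQn, N, hN, hNQ⟩ := normal_complement Q hp
    obtain ⟨n, hn⟩ := IsPGroup.iff_card.mp Q.2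
    refine ⟨⟨N, ⊤, hN, inferInstance, le_top, ?_, ⟨n, ?_⟩, ?_⟩, p, hpp, hp,
      fun _ => ⟨hQn, N, hN, hNQ⟩, fun h => absurd rfl h⟩
    · rw [← hNQ.index_eq_card]
      exact ((hqp.coprime_iff_not_dvd).mpr Q.not_dvd_index).symm
    · rw [Subgroup.relIndex_top_right, hNQ.symm.index_eq_card, hn]
    · rw [Subgroup.index_top]; exact Nat.coprime_one_left p
  · obtain ⟨hQc, hn1, hn2⟩ := normal_qLength Q hpp hpq hp
    haveI hKn : (Cfsg.pPrimeCore q G).Normal := pPrimeCore_normal q G
    refine ⟨⟨Cfsg.pPrimeCore q G, Cfsg.pPrimeCore q G ⊔ (Q : Subgroup G), hKn, hn2, le_sup_left,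
      Cores.coprime_card_pPrimeCore, ?_, ?_⟩, p, hpp, hp, fun h => absurd h hpq,
      fun _ => ⟨hQc, hn1, fun _h => solvable_quotient Q hpp hpq hp hQc hn2⟩⟩
    · obtain ⟨n, hn⟩ := IsPGroup.iff_card.mp Q.2
      have h1 : (Cfsg.pPrimeCore q G).relIndex (Cfsg.pPrimeCore q G ⊔ (Q : Subgroup G)) ∣ q ^ n := by
        rw [sup_comm, Subgroup.relIndex_sup_right, ← hn]
        exact Subgroup.index_dvd_card _
      obtain ⟨m, -, hm⟩ := (Nat.dvd_prime_pow hqp).mp h1
      exact ⟨m, hm⟩
    · refine Nat.Coprime.coprime_dvd_left (Subgroup.index_dvd_of_le le_sup_right) ?_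
      exact ((hqp.coprime_iff_not_dvd).mpr Q.not_dvd_index).symm

end Cfsg.Agent.S4125
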