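import Cfsg.Statements.S4126
import Cfsg.Agent.H76.CriticalExp
import Cfsg.Agent.H76.OrbitFixed
import Cfsg.Agent.H76.PElements
import Cfsg.Agent.Coprime.Centralize
import Cfsg.Agent.Cores.PCore
import Cfsg.Agent.Fusion.Complements

set_option autoImplicit false
open Cfsg
open scoped commutatorElement

namespace Cfsg.Agent.S4126

/-- Let G be a finite group and p a prime. Suppose every element of order p, and when p = 2 also every element of order 4, has a conjugacy class of p-power size. Then G has a normal p-complement. -/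
theorem result {G : Type*} [Group G] [Finite G] (p : ℕ) [Fact p.Prime]
    (h : ∀ x : G, (orderOf x = p ∨ (p = 2 ∧ orderOf x = 4)) → ∃ a : ℕ, (Subgroup.centralizer ({x} : Set G)).index = p ^ a) :
    Cfsg.HasNormalPComplement p G := by
  classical
  have hp : p.Prime := Fact.out
  set R := Cfsg.pCore p G with hRdef
  have hgood : ∀ x : G, x ^ p = 1 ∨ p = 2 ∧ x ^ 4 = 1 → x = 1 ∨
      (∃ a : ℕ, (Subgroup.centralizer ({x} : Set G)).index = p ^ a) := by
    intro x hx
    by_cases hx1 : x = 1
    · exact Or.inl hx1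
    refine Or.inr ?_
    rcases hx with hx | ⟨h2, hx⟩
    · exact h x (Or.inl (orderOf_eq_prime hx hx1))
    · obtain ⟨i, hi, hi'⟩ := (Nat.dvd_prime_pow Nat.prime_two).mp
        (show orderOf x ∣ 2 ^ 2 from orderOf_dvd_of_pow_eq_one hx)
      interval_cases i
      · exact absurd (orderOf_eq_one_iff.mp (by simpa using hi')) hx1
      · exact h x (Or.inl (by rw [hi', h2, pow_one]))
      · exact h x (Or.inr ⟨h2, by rw [hi']; rfl⟩)
  -- Wielandt: such elements lie in the `p`-core
  have hR : ∀ x : G, x ^ p = 1 ∨ p = 2 ∧ x ^ 4 = 1 → x ∈ R := by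
    intro x hx
    rcases hgood x hx with rfl | ⟨a, ha⟩
    · exact one_mem _
    have hxp : ∃ k, orderOf x = p ^ k := by
      refine Cfsg.Agent.H76.pElement_iff.mpr ?_
      rcases hx with hx | ⟨h2, hx⟩
      · exact ⟨1, by rwa [pow_one]⟩
      · exact ⟨2, by rw [h2]; exact hx⟩
    obtain ⟨P, hP⟩ := (Cfsg.Agent.H76.pElement_zpowers hxp).exists_le_sylow
    have hxP : x ∈ (P : Subgroup G) := hP (Subgroup.mem_zpowers x)
    have hcop : (P : Subgroup G).index.Coprime (Subgroup.centralizer ({x} : Set G)).index := by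
      rw [ha]; exact ((hp.coprime_iff_not_dvd.mpr P.not_dvd_index).symm).pow_right a
    have hle : Subgroup.normalClosure ({x} : Set G) ≤ (P : Subgroup G) := by
      rw [Subgroup.normalClosure, Subgroup.closure_le]
      intro w hw
      rw [Group.mem_conjugatesOfSet_iff] at hw
      obtain ⟨v, rfl, hv⟩ := hw
      obtain ⟨g, rfl⟩ := isConj_iff.mp hv
      obtain ⟨u, hu, c, hc, rfl⟩ := Cfsg.Agent.H76.exists_mul_of_coprime_index hcop g
      have h1 : c * v * c⁻¹ = v := by
        rw [← Subgroup.mem_centralizer_iff.mp hc v rfl]; group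
      rw [show u * c * v * (u * c)⁻¹ = u * (c * v * c⁻¹) * u⁻¹ by group, h1]
      exact mul_mem (mul_mem hu hxP) (inv_mem hu)
    exact Cfsg.Agent.Cores.le_pCore (P.2.to_le hle) (Subgroup.subset_normalClosure rfl)
  obtain ⟨D0, hD0, hexp, hfaith⟩ := Cfsg.Agent.H76.exists_char_small_exponent
    (Cfsg.Agent.Cores.pCore_isPGroup (p := p) (G := G))
  set D := D0.map R.subtype with hD
  have hDn : D.Normal := Cfsg.Agent.Cores.map_subtype_normal
  have hDexp : ∀ x ∈ D, x ^ p = 1 ∨ p = 2 ∧ x ^ 4 = 1 := by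
    rintro _ ⟨x, hx, rfl⟩
    rcases hexp x hx with h1 | ⟨h2, h1⟩
    · exact Or.inl (congrArg Subtype.val h1)
    · exact Or.inr ⟨h2, congrArg Subtype.val h1⟩
  obtain ⟨P⟩ : Nonempty (Sylow p G) := inferInstance
  -- `p'`-elements centralise the normal subgroups contained in `D`
  have hK : ∀ K : Subgroup G, K.Normal → K ≤ D → ∀ g : G, (orderOf g).Coprime p →
      ∀ k ∈ K, g * k * g⁻¹ = k := by
    intro K
    induction K using WellFoundedLT.induction with
    | _ K ih => ?_
    intro hKn hKD g hg k hk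
    by_cases hKb : K = ⊥
    · rw [hKb, Subgroup.mem_bot] at hk; simp [hk]
    have hKp : IsPGroup p K :=
      (Cfsg.Agent.Cores.pCore_isPGroup (p := p)).to_le (hKD.trans (Subgroup.map_subtype_le _))
    set L := ⁅(⊤ : Subgroup G), K⁆ with hL
    have hLP : L ≤ ⁅K, (P : Subgroup G)⁆ := by
      rw [hL, Subgroup.commutator_le]
      intro v _ w hw
      rcases hgood w (hDexp w (hKD hw)) with rfl | ⟨a, ha⟩
      · simp
      have hcop : (P : Subgroup G).index.Coprime (Subgroup.centralizer ({w} : Set G)).index := by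
        rw [ha]; exact ((hp.coprime_iff_not_dvd.mpr P.not_dvd_index).symm).pow_right a
      obtain ⟨u, hu, c, hc, rfl⟩ := Cfsg.Agent.H76.exists_mul_of_coprime_index hcop v
      have h1 : c * w * c⁻¹ = w := by
        rw [← Subgroup.mem_centralizer_iff.mp hc w rfl]; group
      have h2 : ⁅u * c, w⁆ = ⁅u, w⁆ := by
        simp only [commutatorElement_def]
        calc u * c * w * (u * c)⁻¹ * w⁻¹ = u * (c * w * c⁻¹) * u⁻¹ * w⁻¹ := by group
          _ = _ := by rw [h1]
      rw [h2, Subgroup.commutator_comm]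
      exact Subgroup.commutator_mem_commutator hu hw
    have hlt : L < K := lt_of_le_of_lt hLP (Cfsg.Agent.Coprime.commutator_lt_of_isPGroup hKp P.2
      (by rw [Subgroup.normalizer_eq_top_iff.mpr hKn]; exact le_top) hKb)
    set m := k⁻¹ * (g * k * g⁻¹) with hm
    have hmL : m ∈ L := by
      have h1 : ⁅k⁻¹, g⁆ ∈ L := by
        rw [hL, Subgroup.commutator_comm]
        exact Subgroup.commutator_mem_commutator (inv_mem hk) (Subgroup.mem_top g)
      have h2 : m = ⁅k⁻¹, g⁆ := by rw [hm, commutatorElement_def]; group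
      exact h2 ▸ h1
    have hmfix := ih L hlt inferInstance (hlt.le.trans hKD) g hg m hmL
    have hpow : ∀ n : ℕ, g ^ n * k * (g ^ n)⁻¹ = k * m ^ n := by
      intro n
      induction n with
      | zero => simp
      | succ n ihn =>
        calc g ^ (n + 1) * k * (g ^ (n + 1))⁻¹ = g * (g ^ n * k * (g ^ n)⁻¹) * g⁻¹ := by
              rw [pow_succ']; group
          _ = (g * k * g⁻¹) * (g * m ^ n * g⁻¹) := by rw [ihn]; group
          _ = k * m * m ^ n := by rw [← conj_pow, hmfix, hm]; group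
          _ = k * m ^ (n + 1) := by rw [pow_succ', mul_assoc]
    have h3 := hpow (orderOf g)
    rw [pow_orderOf_eq_one, one_mul, inv_one, mul_one, left_eq_mul] at h3
    obtain ⟨i, hi⟩ := IsPGroup.iff_orderOf.mp hKp ⟨m, hlt.le hmL⟩
    rw [Subgroup.orderOf_mk] at hi
    have h4 : orderOf m = 1 := Nat.eq_one_of_dvd_coprimes (Nat.Coprime.pow_right i hg)
      (orderOf_dvd_of_pow_eq_one h3) (dvd_of_eq hi)
    rw [orderOf_eq_one_iff, hm, inv_mul_eq_one] at h4
    exact h4.symm
  refine Cfsg.Agent.Fusion.hasNormalPComplement_of_fix P fun Q _ g _ hg x _ hx => ?_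
  have hgN : g ∈ Subgroup.normalizer (R : Set G) := by
    rw [Subgroup.normalizer_eq_top_iff.mpr inferInstance]; exact Subgroup.mem_top g
  have ha := hfaith (Cfsg.Agent.H62.conjAut R hgN)
    (Nat.Coprime.coprime_dvd_left (orderOf_dvd_of_pow_eq_one
      (Cfsg.Agent.H62.conjAut_pow_orderOf R hgN)) hg)
    (fun y hy => Subtype.ext (hK D hDn le_rfl g hg y ⟨y, hy, rfl⟩))
  have := congrArg (fun a : MulAut R => ((a ⟨x, hR x hx⟩ : R) : G)) ha
  simpa [Cfsg.Agent.H62.conjAut_coe] using this

end Cfsg.Agent.S4126
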