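import Cfsg.Statements.S4127
import Cfsg.Agent.H76.ClassProportion
import Cfsg.Agent.H76.OrbitFixed
import Cfsg.Agent.H76.PElements
import Cfsg.Agent.H75.Cover
import Cfsg.Agent.Coprime.Centralize
import Cfsg.Agent.Cores.PCore
import Cfsg.Agent.Fusion.PComplement
import Cfsg.Agent.PGroups.Basic

set_option autoImplicit false
open Cfsg

namespace Cfsg.Agent.S4127

/-- Let G be a finite group, p a prime and p^a the largest power of p dividing the size of any conjugacy class of G. If some element of p-power order has a conjugacy class of size exactly p^a, then G has a normal p-complement. -/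
theorem result {G : Type*} [Group G] [Finite G] (p : ℕ) [Fact p.Prime]
    (a : ℕ) (hmax : ∀ y : G, ¬ p ^ (a + 1) ∣ (Subgroup.centralizer ({y} : Set G)).index)
    (hx : ∃ x : G, (∃ k : ℕ, orderOf x = p ^ k) ∧ (Subgroup.centralizer ({x} : Set G)).index = p ^ a) :
    Cfsg.HasNormalPComplement p G := by
  classical
  have hp : p.Prime := Fact.out
  obtain ⟨x, ⟨k, hk⟩, hxa⟩ := hx
  set C := Subgroup.centralizer ({x} : Set G) with hC
  have hxC : x ∈ C := Subgroup.mem_centralizer_iff.mpr (by rintro u rfl; rfl)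
  obtain ⟨S⟩ : Nonempty (Sylow p C) := inferInstance
  have hcomm : ∀ w : C, Commute x (w : G) := fun w => Subgroup.mem_centralizer_iff.mp w.2 x rfl
  have hxS : (⟨x, hxC⟩ : C) ∈ (S : Subgroup C) := by
    have : (Subgroup.zpowers (⟨x, hxC⟩ : C)).Normal := Cfsg.Agent.PGroups.normal_of_le_center
      (Subgroup.zpowers_le.mpr (Subgroup.mem_center_iff.mpr fun w =>
        Subtype.ext (hcomm w).eq.symm))
    exact (Cfsg.Agent.H76.pElement_zpowers (p := p)
      ⟨k, by rw [Subgroup.orderOf_mk, hk]⟩).le_sylow_of_normal S (Subgroup.mem_zpowers _)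
  obtain ⟨P, hP⟩ := (S.2.map C.subtype).exists_le_sylow
  have hxP : x ∈ (P : Subgroup G) := hP ⟨⟨x, hxC⟩, hxS, rfl⟩
  -- `x` lies in the `p`-core
  have hcop : (P : Subgroup G).index.Coprime C.index := by
    rw [hxa]
    exact ((hp.coprime_iff_not_dvd.mpr P.not_dvd_index).symm).pow_right a
  have hconj : ∀ g : G, g * x * g⁻¹ ∈ (P : Subgroup G) := by
    intro g
    obtain ⟨u, hu, c, hc, rfl⟩ := Cfsg.Agent.H76.exists_mul_of_coprime_index hcop g
    have h1 : c * x * c⁻¹ = x := by rw [← (hcomm ⟨c, hc⟩).eq]; group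
    rw [show u * c * x * (u * c)⁻¹ = u * (c * x * c⁻¹) * u⁻¹ by group, h1]
    exact mul_mem (mul_mem hu hxP) (inv_mem hu)
  set R := Cfsg.pCore p G with hR
  have hxR : x ∈ R := by
    have hle : Subgroup.normalClosure ({x} : Set G) ≤ (P : Subgroup G) := by
      rw [Subgroup.normalClosure, Subgroup.closure_le]
      intro w hw
      rw [Group.mem_conjugatesOfSet_iff] at hw
      obtain ⟨v, rfl, hv⟩ := hw
      obtain ⟨g, rfl⟩ := isConj_iff.mp hv
      exact hconj g
    exact Cfsg.Agent.Cores.le_pCore (P.2.to_le hle) (Subgroup.subset_normalClosure rfl)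
  -- every `p'`-element of `C` centralises a Sylow subgroup of `C`
  have hp' : ∀ y : C, (orderOf y).Coprime p →
      ∃ S1 : Sylow p C, (S1 : Subgroup C) ≤ Subgroup.centralizer ({y} : Set C) := by
    intro y hy
    refine Cfsg.Agent.H76.exists_sylow_le_centralizer fun hd => ?_
    have hco : (orderOf x).Coprime (orderOf (y : G)) := by
      rw [hk, Subgroup.orderOf_coe]; exact (hy.symm).pow_left k
    have heq : Subgroup.centralizer ({x * (y : G)} : Set G) =
        C ⊓ Subgroup.centralizer ({(y : G)} : Set G) := by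
      refine le_antisymm ?_ ?_
      · obtain ⟨i, hi⟩ := exists_pow_eq_self_of_coprime hco.symm
        obtain ⟨j, hj⟩ := exists_pow_eq_self_of_coprime hco
        rw [← pow_mul] at hi hj
        have hxi : (x * (y : G)) ^ (orderOf (y : G) * i) = x := by
          rw [(hcomm y).mul_pow, hi, pow_mul (y : G), pow_orderOf_eq_one, one_pow, mul_one]
        have hyj : (x * (y : G)) ^ (orderOf x * j) = (y : G) := by
          rw [(hcomm y).mul_pow, hj, pow_mul x, pow_orderOf_eq_one, one_pow, one_mul]
        intro u hu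
        have hu' : Commute (x * (y : G)) u := Subgroup.mem_centralizer_iff.mp hu _ rfl
        refine ⟨Subgroup.mem_centralizer_iff.mpr ?_, Subgroup.mem_centralizer_iff.mpr ?_⟩
        · rintro v rfl; rw [← hxi]; exact (hu'.pow_left _).eq
        · rintro v rfl; rw [← hyj]; exact (hu'.pow_left _).eq
      · rintro u ⟨h1, h2⟩
        refine Subgroup.mem_centralizer_iff.mpr ?_
        rintro v rfl
        exact ((show Commute x u from Subgroup.mem_centralizer_iff.mp h1 x rfl).mul_left
          (Subgroup.mem_centralizer_iff.mp h2 _ rfl)).eq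
    have hrel : (Subgroup.centralizer ({x * (y : G)} : Set G)).relIndex C =
        (Subgroup.centralizer ({y} : Set C)).index := by
      rw [heq, Subgroup.inf_relIndex_left, Subgroup.relIndex]
      congr 1
      ext u
      rw [Subgroup.mem_subgroupOf, Subgroup.mem_centralizer_iff, Subgroup.mem_centralizer_iff]
      constructor
      · rintro h1 v rfl; exact Subtype.ext (h1 _ rfl)
      · rintro h1 v rfl; exact congrArg Subtype.val (h1 y rfl)
    have hidx := Subgroup.relIndex_mul_index
      (heq.trans_le inf_le_left : Subgroup.centralizer ({x * (y : G)} : Set G) ≤ C)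
    refine hmax (x * y) ?_
    rw [← hidx, hxa, hrel, pow_succ, mul_comm]
    exact mul_dvd_mul_right hd _
  -- the conjugates of `S · C(S)` cover `C`
  set CS := Subgroup.centralizer ((S : Subgroup C) : Set C)
  have hK : (S : Subgroup C) ⊔ CS = ⊤ := by
    refine Cfsg.Agent.H75.eq_top_of_conj_cover _ fun w => ?_
    set m := ordCompl[p] (orderOf w) with hm
    set e := ordProj[p] (orderOf w) with he
    have hem : e * m = orderOf w := Nat.ordProj_mul_ordCompl_eq_self _ _
    have hcop' : e.Coprime m :=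
      Nat.Coprime.pow_left _ (Nat.coprime_ordCompl hp (orderOf_pos w).ne')
    obtain ⟨i, hi⟩ : ∃ i : ℤ, (e : ℤ) ∣ i ∧ (m : ℤ) ∣ 1 - i := by
      obtain ⟨r, s, hrs⟩ := Nat.isCoprime_iff_coprime.mpr hcop'
      exact ⟨r * e, dvd_mul_left _ _, ⟨s, by linear_combination hrs.symm⟩⟩
    obtain ⟨⟨r, hr⟩, ⟨s, hs⟩⟩ := hi
    set y := w ^ i with hy
    set u := w ^ (1 - i) with hu
    have huy : u * y = w := by rw [hu, hy, ← zpow_add, sub_add_cancel, zpow_one]
    have hyco : (orderOf y).Coprime p := by
      have h1 : orderOf y ∣ m := orderOf_dvd_of_pow_eq_one (by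
        rw [hy, hr, ← zpow_natCast, ← zpow_mul, mul_comm ((e : ℤ) * r), ← mul_assoc, ← Nat.cast_mul,
          mul_comm m, hem, zpow_mul, zpow_natCast, pow_orderOf_eq_one, one_zpow])
      exact Nat.Coprime.coprime_dvd_left h1 (Nat.coprime_ordCompl hp (orderOf_pos w).ne').symm
    have hup : ∃ j, orderOf u = p ^ j := by
      refine Cfsg.Agent.H76.pElement_iff.mpr ⟨(orderOf w).factorization p, ?_⟩
      rw [hu, hs, ← zpow_natCast, ← zpow_mul, mul_assoc, mul_comm s, ← mul_assoc, ← Nat.cast_mul,
        mul_comm m, ← he, hem, zpow_mul, zpow_natCast, pow_orderOf_eq_one, one_zpow]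
    obtain ⟨S1, hS1⟩ := hp' y hyco
    have huT : u ∈ Subgroup.centralizer ({y} : Set C) := Subgroup.mem_centralizer_iff.mpr
      (by rintro v rfl; exact (Commute.zpow_zpow (Commute.refl w) i (1 - i)).eq)
    set T := Subgroup.centralizer ({y} : Set C) with hT
    obtain ⟨S2, hS2⟩ := (Cfsg.Agent.H76.pElement_zpowers (g := (⟨u, huT⟩ : T)) (p := p)
      (by obtain ⟨j, hj⟩ := hup; exact ⟨j, by rw [Subgroup.orderOf_mk, hj]⟩)).exists_le_sylow
    obtain ⟨c, hc⟩ := MulAction.exists_smul_eq T S2 (S1.subtype hS1)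
    obtain ⟨d, hd⟩ := MulAction.exists_smul_eq C S1 S
    have hu1 : (c : C) * u * (c : C)⁻¹ ∈ (S1 : Subgroup C) := by
      have h1 : c * ⟨u, huT⟩ * c⁻¹ ∈ ((c • S2 : Sylow p T) : Subgroup T) :=
        ⟨_, hS2 (Subgroup.mem_zpowers _), rfl⟩
      rw [hc] at h1
      exact h1
    refine ⟨d * c, ?_⟩
    have hcy : (c : C) * y * (c : C)⁻¹ = y := by
      have := Subgroup.mem_centralizer_iff.mp c.2 y rfl
      rw [← this]; group
    have h1 : d * ((c : C) * u * (c : C)⁻¹) * d⁻¹ ∈ (S : Subgroup C) := by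
      rw [← hd]; exact ⟨_, hu1, rfl⟩
    have h2 : d * y * d⁻¹ ∈ CS := by
      refine Subgroup.mem_centralizer_iff.mpr fun v hv => ?_
      have hv' : d⁻¹ * v * d ∈ (S1 : Subgroup C) := by
        rw [← hd] at hv
        obtain ⟨z, hz, rfl⟩ := hv
        show d⁻¹ * (d * z * d⁻¹) * d ∈ _
        rwa [show d⁻¹ * (d * z * d⁻¹) * d = z by group]
      have h3 := Subgroup.mem_centralizer_iff.mp (hS1 hv') y rfl
      calc v * (d * y * d⁻¹) = d * ((d⁻¹ * v * d) * y) * d⁻¹ := by group
        _ = d * (y * (d⁻¹ * v * d)) * d⁻¹ := by rw [h3]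
        _ = _ := by group
    have h3 : d * (c : C) * w * (d * (c : C))⁻¹ =
        (d * ((c : C) * u * (c : C)⁻¹) * d⁻¹) * (d * y * d⁻¹) := by
      conv_lhs => rw [← huy]
      conv_rhs => rw [← hcy]
      group
    rw [h3]
    exact Subgroup.mul_mem_sup h1 h2
  have hSn : (S : Subgroup C).Normal := by
    rw [← Subgroup.normalizer_eq_top_iff, eq_top_iff, ← hK]
    exact sup_le Subgroup.le_normalizer (Subgroup.centralizer_le_normalizer _)
  have hcentS : ∀ y : C, (orderOf y).Coprime p → y ∈ CS := by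
    intro y hy
    obtain ⟨S1, hS1⟩ := hp' y hy
    have := (Sylow.unique_of_normal S hSn).instSubsingleton
    rw [Subsingleton.elim S1 S] at hS1
    refine Subgroup.mem_centralizer_iff.mpr fun v hv => ?_
    exact (Subgroup.mem_centralizer_iff.mp (hS1 hv) y rfl).symm
  obtain ⟨B, hB⟩ := Subgroup.exists_left_complement'_of_coprime S.card_coprime_index
  have hBcard : Nat.card B = (S : Subgroup C).index := hB.index_eq_card.symm
  have hBp : ∀ y ∈ B, (orderOf y).Coprime p := by
    intro y hy
    have h1 : orderOf y ∣ Nat.card B := by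
      rw [← Subgroup.orderOf_mk y hy]; exact orderOf_dvd_natCard _
    exact Nat.Coprime.coprime_dvd_left h1
      (hBcard ▸ (hp.coprime_iff_not_dvd.mpr S.not_dvd_index).symm)
  have hBn : B.Normal := by
    rw [← Subgroup.normalizer_eq_top_iff, eq_top_iff, ← hB.sup_eq_top]
    refine sup_le Subgroup.le_normalizer fun v hv => ?_
    refine Subgroup.centralizer_le_normalizer _ (Subgroup.mem_centralizer_iff.mpr fun b hb => ?_)
    exact (Subgroup.mem_centralizer_iff.mp (hcentS b (hBp b hb)) v hv).symm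
  have hBiff : ∀ y : C, y ∈ B ↔ (orderOf y).Coprime p := fun y =>
    Cfsg.Agent.Fusion.mem_iff_coprime_orderOf (hBcard ▸ S.not_dvd_index)
      (Cfsg.Agent.Fusion.isPGroup_quotient_of_isComplement' S hB)
  set B' := B.map C.subtype with hB'
  have hB'card : Nat.card B' = Nat.card B := Subgroup.card_map_of_injective C.subtype_injective
  have hB'p : (Nat.card B').Coprime p :=
    hB'card ▸ hBcard ▸ (hp.coprime_iff_not_dvd.mpr S.not_dvd_index).symm
  -- `B` centralises the `p`-core
  have hBR : B' ≤ Subgroup.centralizer (R : Set G) := by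
    refine Cfsg.Agent.Coprime.thompson_AxB (P := Subgroup.zpowers x) (p := p)
      (Cfsg.Agent.H76.pElement_zpowers ⟨k, hk⟩) hB'p ?_ R Cfsg.Agent.Cores.pCore_isPGroup ?_ ?_ ?_
    · rw [Subgroup.zpowers_le, Subgroup.mem_centralizer_iff]
      rintro _ ⟨b, -, rfl⟩
      exact (hcomm b).eq.symm
    · rw [Subgroup.normalizer_eq_top_iff.mpr inferInstance]; exact le_top
    · rw [Subgroup.normalizer_eq_top_iff.mpr inferInstance]; exact le_top
    · rintro v ⟨hvR, hvx⟩
      rw [Subgroup.mem_centralizer_iff]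
      rintro _ ⟨b, hb, rfl⟩
      have hvC : v ∈ C := Subgroup.mem_centralizer_iff.mpr (by
        rintro u rfl; exact Subgroup.mem_centralizer_iff.mp hvx u (Subgroup.mem_zpowers u))
      have hvS : (⟨v, hvC⟩ : C) ∈ (S : Subgroup C) := by
        have := (Sylow.unique_of_normal S hSn).instSubsingleton
        obtain ⟨j, hj⟩ := IsPGroup.iff_orderOf.mp (Cfsg.Agent.Cores.pCore_isPGroup (p := p)) ⟨v, hvR⟩
        rw [Subgroup.orderOf_mk] at hj
        obtain ⟨S3, hS3⟩ := (Cfsg.Agent.H76.pElement_zpowers (g := (⟨v, hvC⟩ : C)) (p := p)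
          ⟨j, by rw [Subgroup.orderOf_mk, hj]⟩).exists_le_sylow
        rw [Subsingleton.elim S3 S] at hS3
        exact hS3 (Subgroup.mem_zpowers _)
      exact congrArg Subtype.val
        (Subgroup.mem_centralizer_iff.mp (hcentS b (hBp b hb)) _ hvS).symm
  have hB'n : B'.Normal := by
    refine ⟨fun b hb g => ?_⟩
    obtain ⟨b, hb', rfl⟩ := hb
    have h1 : g * (b : G) * g⁻¹ ∈ Subgroup.centralizer (R : Set G) :=
      Subgroup.Normal.conj_mem inferInstance _ (hBR ⟨b, hb', rfl⟩) g
    have h2 : g * (b : G) * g⁻¹ ∈ C := Subgroup.mem_centralizer_iff.mpr (by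
      rintro u rfl; exact Subgroup.mem_centralizer_iff.mp h1 u hxR)
    refine ⟨⟨_, h2⟩, (hBiff _).mpr ?_, rfl⟩
    rw [Subgroup.orderOf_mk]
    have h3 : orderOf (g * (b : G) * g⁻¹) = orderOf (b : G) :=
      orderOf_injective (MulAut.conj g).toMonoidHom (MulAut.conj g).injective (b : G)
    rw [h3, Subgroup.orderOf_coe]
    exact hBp b hb'
  refine ⟨P, B', hB'n, Subgroup.isComplement'_of_coprime ?_ ?_⟩
  · have h1 : Nat.card G = Nat.card B * Nat.card (S : Subgroup C) * p ^ a := by
      rw [hB.card_mul_card, ← hxa, C.card_mul_index]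
    have h2 : Nat.card (P : Subgroup G) = Nat.card (S : Subgroup C) * p ^ a := by
      rw [P.card_eq_multiplicity, h1, S.card_eq_multiplicity]
      rw [Nat.factorization_mul (mul_ne_zero Nat.card_pos.ne' (pow_ne_zero _ hp.ne_zero))
          (pow_ne_zero _ hp.ne_zero),
        Nat.factorization_mul Nat.card_pos.ne' (pow_ne_zero _ hp.ne_zero),
        Finsupp.add_apply, Finsupp.add_apply, hp.factorization_pow, hp.factorization_pow,
        Finsupp.single_eq_same, Finsupp.single_eq_same,
        Nat.factorization_eq_zero_of_not_dvd (hBcard ▸ S.not_dvd_index), zero_add, pow_add]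
    rw [hB'card, h1, h2, mul_assoc]
  · rw [P.card_eq_multiplicity]
    exact hB'p.pow_right _

end Cfsg.Agent.S4127
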