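import Cfsg.Statements.S4130
import Cfsg.Agent.ClassSq.Solvable
import Cfsg.Agent.ClassSq.Fitting
import Cfsg.Agent.S0205
-- import your own Cfsg.Agent.* helpers here

set_option autoImplicit false
open Cfsg

namespace Cfsg.Agent.S4130

/-- Let G be a finite group all of whose conjugacy class sizes are square-free. Then G is supersolvable, G/F(G) and the derived subgroup G′ are cyclic of square-free order (F(G) the Fitting subgroup, which is normal), F(G) has nilpotency class at most 2, and G is metabelian. -/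
theorem result {G : Type*} [Group G] [Finite G]
    (h : ∀ x : G, Squarefree (Subgroup.centralizer ({x} : Set G)).index) :
    Cfsg.IsSupersolvable G ∧ (Cfsg.fittingSubgroup G).Normal ∧
    (∀ _h : (Cfsg.fittingSubgroup G).Normal, IsCyclic (G ⧸ Cfsg.fittingSubgroup G) ∧ Squarefree (Cfsg.fittingSubgroup G).index) ∧
    IsCyclic (commutator G) ∧ Squarefree (Nat.card (commutator G)) ∧
    Subgroup.upperCentralSeries ↥(Cfsg.fittingSubgroup G) 2 = ⊤ ∧ commutator ↥(commutator G) = ⊥ := by
  have h4 : ∀ x : G, ¬ 4 ∣ (Subgroup.centralizer ({x} : Set G)).index := fun x h4 => by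
    have := (h x) 2 (by simpa using h4)
    exact absurd (Nat.isUnit_iff.mp this) (by norm_num)
  have hs : Group.IsSolvable G :=
    ClassSq.isSolvable (fun H _ _ hH => Cfsg.Agent.S0205.result hH) h4
  have hss := ClassSq.isSupersolvable hs h
  obtain ⟨hn, hq, hu⟩ := ClassSq.fitting_structure hss h
  obtain ⟨hc, hsq⟩ := ClassSq.derived_cyclic hss h
  refine ⟨hss, hn, hq, hc, hsq, hu, ?_⟩
  have := hc
  rw [commutator_def ↥(commutator G), Subgroup.commutator_eq_bot_iff_le_centralizer]
  intro a _
  rw [Subgroup.mem_centralizer_iff]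
  intro b _
  obtain ⟨g, hg⟩ := IsCyclic.exists_generator (α := commutator G)
  obtain ⟨i, hi⟩ := Subgroup.mem_zpowers_iff.mp (hg a)
  obtain ⟨j, hj⟩ := Subgroup.mem_zpowers_iff.mp (hg b)
  rw [← hi, ← hj, ← zpow_add, ← zpow_add, add_comm]

end Cfsg.Agent.S4130
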