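import Cfsg.Statements.S4134
import Cfsg.Agent.H76.TwoClassSizes
import Cfsg.Agent.PGroups.Basic

set_option autoImplicit false
open Cfsg

namespace Cfsg.Agent.S4134

/-- Let G be a finite group whose conjugacy classes have exactly two sizes, 1 and n > 1. Then n is a power of a prime p and G is the direct product of a p-group and an abelian group of order prime to p: its Sylow p-subgroup P is normal with an abelian normal complement centralizing it; moreover P has an abelian normal subgroup A with P/A of exponent dividing p. -/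
theorem result {G : Type*} [Group G] [Finite G] (n : ℕ) (hn : 1 < n)
    (h : ∀ x : G, (Subgroup.centralizer ({x} : Set G)).index = 1 ∨ (Subgroup.centralizer ({x} : Set G)).index = n) (hex : ∃ x : G, (Subgroup.centralizer ({x} : Set G)).index = n) :
    ∃ (p : ℕ) (_ : Fact p.Prime) (a : ℕ), n = p ^ a ∧ ∀ P : Sylow p G, (P : Subgroup G).Normal ∧
      (∃ N : Subgroup G, N.Normal ∧ N.IsComplement' (P : Subgroup G) ∧ IsMulCommutative N ∧
        ∀ x ∈ N, ∀ y ∈ (P : Subgroup G), x * y = y * x) ∧
      ∃ A : Subgroup (P : Subgroup G), A.Normal ∧ IsMulCommutative A ∧ ∀ y : (P : Subgroup G), y ^ p ∈ A := by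
  classical
  have hZ : ∀ x : G, x ∉ Subgroup.center G → (Subgroup.centralizer ({x} : Set G)).index = n :=
    fun x hx => (h x).resolve_left fun h1 => hx (Cfsg.Agent.H76.eq_top_or_center_iff.mp h1)
  obtain ⟨x0, hx0⟩ := hex
  have hx0Z : x0 ∉ Subgroup.center G := fun hc => by
    rw [Cfsg.Agent.H76.eq_top_or_center_iff.mpr hc] at hx0; omega
  obtain ⟨p, hp, hpg, B, hBn, hBc, hBp, -⟩ :=
    Cfsg.Agent.H76.ito_two_class_sizes n hn hZ ⟨x0, hx0Z⟩
  have := Fact.mk hp
  obtain ⟨k, hk⟩ := IsPGroup.iff_card.mp hpg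
  obtain ⟨a, -, ha⟩ : ∃ a ≤ k, n = p ^ a := (Nat.dvd_prime_pow hp).mp (by
    rw [← hk, ← hx0]
    exact Subgroup.index_dvd_of_le (Subgroup.center_le_centralizer _))
  refine ⟨p, ⟨hp⟩, a, ha, fun P => ?_⟩
  have hPZ : (P : Subgroup G) ⊔ Subgroup.center G = ⊤ := by
    rw [← Subgroup.index_eq_one]
    refine Nat.eq_one_of_dvd_coprimes (a := (P : Subgroup G).index) (b := p ^ k) ?_
      (Subgroup.index_dvd_of_le le_sup_left) (hk ▸ Subgroup.index_dvd_of_le le_sup_right)
    exact ((hp.coprime_iff_not_dvd.mpr P.not_dvd_index).symm).pow_right k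
  have hPn : (P : Subgroup G).Normal := by
    rw [← Subgroup.normalizer_eq_top_iff, eq_top_iff, ← hPZ]
    exact sup_le Subgroup.le_normalizer
      ((Subgroup.center_le_centralizer _).trans (Subgroup.centralizer_le_normalizer _))
  refine ⟨hPn, ?_, ?_⟩
  · obtain ⟨K, hK⟩ := Subgroup.exists_left_complement'_of_coprime P.card_coprime_index
    have hKZ : K ≤ Subgroup.center G := by
      intro u hu
      rw [← QuotientGroup.eq_one_iff, ← orderOf_eq_one_iff]
      obtain ⟨i, hi⟩ := IsPGroup.iff_orderOf.mp hpg (QuotientGroup.mk u)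
      have h1 : orderOf (QuotientGroup.mk u : G ⧸ Subgroup.center G) ∣ (P : Subgroup G).index := by
        refine (orderOf_map_dvd (QuotientGroup.mk' _) u).trans ?_
        rw [show (P : Subgroup G).index = Nat.card K from hK.index_eq_card,
          ← Subgroup.orderOf_mk u hu]
        exact orderOf_dvd_natCard _
      exact Nat.eq_one_of_dvd_coprimes
        (((hp.coprime_iff_not_dvd.mpr P.not_dvd_index)).pow_left i).symm h1 (dvd_of_eq hi)
    refine ⟨K, Cfsg.Agent.PGroups.normal_of_le_center hKZ, hK, ?_, fun u hu v _ => ?_⟩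
    · exact ⟨⟨fun u v => Subtype.ext (Subgroup.mem_center_iff.mp (hKZ v.2) u)⟩⟩
    · exact (Subgroup.mem_center_iff.mp (hKZ hu) v).symm
  · refine ⟨B.subgroupOf (P : Subgroup G), hBn.subgroupOf _, ?_, fun y => ?_⟩
    · refine ⟨⟨fun u v => ?_⟩⟩
      have := congrArg Subtype.val (IsMulCommutative.is_comm.comm (⟨_, u.2⟩ : B) ⟨_, v.2⟩)
      exact Subtype.ext (Subtype.ext this)
    · rw [Subgroup.mem_subgroupOf]; exact hBp _

end Cfsg.Agent.S4134
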