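import Cfsg.Statements.S4135
import Cfsg.Agent.H34.OneSizeNilpotent
import Cfsg.Agent.H76.TwoClassSizes

set_option autoImplicit false
open Cfsg

namespace Cfsg.Agent.S4135

/-- Let G be a finite group, r a prime and R a Sylow r-subgroup of G that is not central, N a normal subgroup of G containing R, and m a natural number such that every element of N has a conjugacy class in G of size 1 or m. Then N is nilpotent. -/
theorem result {G : Type*} [Group G] [Finite G] (r : ℕ) [Fact r.Prime]
    (R : Sylow r G) (hR : ¬ (R : Subgroup G) ≤ Subgroup.center G) (N : Subgroup G) [N.Normal] (hRN : (R : Subgroup G) ≤ N)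
    (m : ℕ) (h : ∀ x ∈ N, (Subgroup.centralizer ({x} : Set G)).index = 1 ∨ (Subgroup.centralizer ({x} : Set G)).index = m) : Group.IsNilpotent N := by
  refine Cfsg.Agent.H34.OneSize.isNilpotent_of_oneSize R hR N ‹_› hRN fun x hx hxZ y hy hyZ => ?_
  have key : ∀ g ∈ N, g ∉ Subgroup.center G →
      (Subgroup.centralizer ({g} : Set G)).index = m := fun g hg hgZ =>
    (h g hg).resolve_left fun h1 => hgZ (Cfsg.Agent.H76.eq_top_or_center_iff.mp h1)
  apply Nat.eq_of_mul_eq_mul_right (Nat.pos_of_ne_zero
    (Subgroup.index_ne_zero_of_finite (H := Subgroup.centralizer ({x} : Set G))))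
  rw [Subgroup.card_mul_index, key x hx hxZ, ← key y hy hyZ, Subgroup.card_mul_index]

end Cfsg.Agent.S4135
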