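import Cfsg.Statements.S4138
import Cfsg.Agent.H46.TwoLargest
import Cfsg.Agent.Coprime.Basic

set_option autoImplicit false
open Cfsg

namespace Cfsg.Agent.S4138
open Cfsg.Agent

/-- Let G be a finite group whose two largest conjugacy class sizes m > n > 1 are coprime, and let x, y ∈ G have classes of sizes n and m respectively. Then C_G(x) and C_G(y) are abelian, and G/Z(G) is a Frobenius group with kernel C_G(x)/Z(G) and complement C_G(y)/Z(G). -/
theorem result {G : Type*} [Group G] [Finite G] (m n : ℕ) (hmn : n < m) (hn : 1 < n)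
    (hcop : m.Coprime n) (htop : ∀ z : G, (Subgroup.centralizer ({z} : Set G)).index ≤ m) (hsecond : ∀ z : G, (Subgroup.centralizer ({z} : Set G)).index < m → (Subgroup.centralizer ({z} : Set G)).index ≤ n)
    (x y : G) (hx : (Subgroup.centralizer ({x} : Set G)).index = n) (hy : (Subgroup.centralizer ({y} : Set G)).index = m) :
    IsMulCommutative (Subgroup.centralizer ({x} : Set G)) ∧ IsMulCommutative (Subgroup.centralizer ({y} : Set G)) ∧
    Cfsg.IsFrobeniusComplement ((Subgroup.centralizer ({y} : Set G)).map (QuotientGroup.mk' (Subgroup.center G))) ∧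
    Cfsg.frobeniusKernel ((Subgroup.centralizer ({y} : Set G)).map (QuotientGroup.mk' (Subgroup.center G))) =
      ((Subgroup.centralizer ({x} : Set G)).map (QuotientGroup.mk' (Subgroup.center G)) : Set (G ⧸ Subgroup.center G)) := by
  have hyp : H46.TwoLargest.Hyp G m n :=
    ⟨hn, hmn, hcop, htop, hsecond, ⟨x, hx⟩, ⟨y, hy⟩⟩
  obtain ⟨N, H, hNn, hN, hH, -, hNH, hF, hK⟩ := hyp.setup.frobenius
  set π := QuotientGroup.mk' (Subgroup.center G) with hπ
  have hsurj : Function.Surjective π := QuotientGroup.mk'_surjective _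
  have hker : π.ker = Subgroup.center G := QuotientGroup.ker_mk' _
  obtain ⟨hNb, hcompl, hNcard⟩ := Frobenius.of_coe_eq_kernel hF hK.symm
  have hfpf : ∀ a ∈ H, ∀ b ∈ N, Commute a b → a ∈ Subgroup.center G ∨ b ∈ Subgroup.center G := by
    intro a ha b hb hab
    by_cases h1 : a ∈ Subgroup.center G
    · exact Or.inl h1
    · refine Or.inr ((QuotientGroup.eq_one_iff b).mp ?_)
      exact Frobenius.fixedPointFree hF hcompl ⟨a, ha, rfl⟩
        (fun e => h1 ((QuotientGroup.eq_one_iff a).mp e)) (k := π b) ⟨b, hb, rfl⟩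
        (show π a * π b = π b * π a by rw [← map_mul, ← map_mul, hab.eq])
  have hNc : ∀ a ∈ N, ∀ b ∈ N, a * b = b * a := fun a ha b hb =>
    congrArg Subtype.val (mul_comm' (⟨a, ha⟩ : N) ⟨b, hb⟩)
  have hHc : ∀ a ∈ H, ∀ b ∈ H, a * b = b * a := fun a ha b hb =>
    congrArg Subtype.val (mul_comm' (⟨a, ha⟩ : H) ⟨b, hb⟩)
  have hdec : ∀ g : G, ∃ a ∈ N, ∃ b ∈ H, g = a * b := by
    intro g
    obtain ⟨⟨a, b⟩, hab⟩ := hNH.2 g
    exact ⟨a, a.2, b, b.2, hab.symm⟩
  have hsat : ∀ (K : Subgroup G) (g : G), π g ∈ K.map π → ∃ k ∈ K, ∃ c ∈ Subgroup.center G, g = k * c := by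
    rintro K g ⟨k, hk, hkg⟩
    refine ⟨k, hk, k⁻¹ * g, ?_, by group⟩
    rw [← hker, MonoidHom.mem_ker, map_mul, map_inv, hkg, inv_mul_cancel]
  have hCN : ∀ b ∈ N, b ∉ Subgroup.center G →
      Subgroup.centralizer ({b} : Set G) = (N.map π).comap π := by
    intro b hb hbc
    ext g
    rw [Subgroup.mem_centralizer_singleton_iff, Subgroup.mem_comap]
    constructor
    · intro hg
      obtain ⟨a, ha, k, hk, rfl⟩ := hdec g
      have hkb : Commute k b := by
        show k * b = b * k
        apply mul_left_cancel (a := a)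
        rw [← mul_assoc, hg, ← mul_assoc, ← mul_assoc, hNc a ha b hb]
      have hkc := (hfpf k hk b hb hkb).resolve_right hbc
      rw [map_mul, (show π k = 1 from (QuotientGroup.eq_one_iff k).mpr hkc), mul_one]
      exact ⟨a, ha, rfl⟩
    · intro hg
      obtain ⟨a, ha, c, hc, rfl⟩ := hsat N g hg
      exact ((Commute.mul_left (hNc a ha b hb) (Subgroup.mem_center_iff.mp hc b).symm)).eq
  have hCH : ∀ b ∈ H, b ∉ Subgroup.center G →
      Subgroup.centralizer ({b} : Set G) = (H.map π).comap π := by
    intro b hb hbc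
    ext g
    rw [Subgroup.mem_centralizer_singleton_iff, Subgroup.mem_comap]
    constructor
    · intro hg
      obtain ⟨a, ha, k, hk, rfl⟩ := hdec g
      have hab : Commute b a := by
        show b * a = a * b
        apply mul_right_cancel (b := k)
        rw [mul_assoc b a k, ← hg, mul_assoc, hHc k hk b hb, ← mul_assoc]
      have hac := (hfpf b hb a ha hab).resolve_left hbc
      rw [map_mul, (show π a = 1 from (QuotientGroup.eq_one_iff a).mpr hac), one_mul]
      exact ⟨k, hk, rfl⟩
    · intro hg
      obtain ⟨a, ha, c, hc, rfl⟩ := hsat H g hg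
      exact ((Commute.mul_left (hHc a ha b hb) (Subgroup.mem_center_iff.mp hc b).symm)).eq
  have hkey : ∀ z : G, z ∉ Subgroup.center G →
      (Subgroup.centralizer ({z} : Set G) = (N.map π).comap π ∧
        (Subgroup.centralizer ({z} : Set G)).index = Nat.card (H.map π)) ∨
      (∃ g : G, Subgroup.centralizer ({z} : Set G) =
        ((H.map π).map (MulAut.conj (π g)).toMonoidHom).comap π ∧
        (Subgroup.centralizer ({z} : Set G)).index = (H.map π).index) := by
    intro z hz
    have hzc : π z ≠ 1 := fun e => hz ((QuotientGroup.eq_one_iff z).mp e)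
    by_cases hzN : π z ∈ N.map π
    · left
      obtain ⟨a, ha, c, hc, rfl⟩ := hsat N z hzN
      have hac : a ∉ Subgroup.center G := fun e => hz (mul_mem e hc)
      have e : Subgroup.centralizer ({a * c} : Set G) = Subgroup.centralizer ({a} : Set G) := by
        ext g
        have hgc : Commute g c := Subgroup.mem_center_iff.mp hc g
        simp only [Subgroup.mem_centralizer_singleton_iff]
        exact ⟨fun h => by simpa using ((show Commute g (a * c) from h).mul_right hgc.inv_right).eq,
          fun h => ((show Commute g a from h).mul_right hgc).eq⟩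
      rw [e, hCN a ha hac, Subgroup.index_comap_of_surjective _ hsurj]
      exact ⟨rfl, hcompl.symm.index_eq_card⟩
    · right
      rw [← SetLike.mem_coe, ← hK] at hzN
      simp only [Cfsg.frobeniusKernel, Set.mem_ofPred_eq, not_or, not_forall, not_not] at hzN
      obtain ⟨-, gb, hgb⟩ := hzN
      obtain ⟨g, rfl⟩ := hsurj gb
      rw [Frobenius.mem_conj_iff] at hgb
      rw [← map_inv, ← map_mul, ← map_mul] at hgb
      obtain ⟨b, hb, c, hc, hbc⟩ := hsat H _ hgb
      have hbn : b ∉ Subgroup.center G := fun e => hz (by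
        have h1 : g⁻¹ * z * g ∈ Subgroup.center G := hbc ▸ mul_mem e hc
        have h2 := Subgroup.Normal.conj_mem inferInstance _ h1 g
        convert h2 using 1
        group)
      refine ⟨g, ?_⟩
      have e : Subgroup.centralizer ({z} : Set G) =
          ((H.map π).map (MulAut.conj (π g)).toMonoidHom).comap π := by
        ext u
        rw [Subgroup.mem_comap, Coprime.mem_map_conj, ← map_inv, ← map_mul, ← map_mul,
          ← Subgroup.mem_comap, ← hCH b hb hbn, Subgroup.mem_centralizer_singleton_iff,
          Subgroup.mem_centralizer_singleton_iff]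
        have hcu : Commute (g⁻¹ * u * g) c := Subgroup.mem_center_iff.mp hc _
        constructor
        · intro hu
          have h1 : Commute (g⁻¹ * u * g) (g⁻¹ * z * g) := by
            have := (show Commute u z from hu).map (MulAut.conj g⁻¹).toMonoidHom
            simpa using this
          rw [hbc] at h1
          simpa using (h1.mul_right hcu.inv_right).eq
        · intro hu
          have h1 : Commute (g⁻¹ * u * g) (b * c) := (show Commute _ b from hu).mul_right hcu
          rw [← hbc] at h1
          have h2 := h1.map (MulAut.conj g).toMonoidHom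
          simpa [mul_assoc] using h2.eq
      refine ⟨e, ?_⟩
      rw [e, Subgroup.index_comap_of_surjective _ hsurj,
        Subgroup.index_map_of_bijective (MulAut.conj (π g)).bijective]
  have hlt : Nat.card (H.map π) < (H.map π).index := by
    have h1 := Frobenius.one_lt_index hF
    have h2 := Nat.le_of_dvd (by omega) (Frobenius.card_dvd_index_sub_one hF)
    omega
  have hcx : x ∉ Subgroup.center G := hyp.not_center hx
  have hcy : y ∉ Subgroup.center G := fun e => by
    have h1 : (Subgroup.centralizer ({y} : Set G)).index = 1 := H46.CoprimeClasses.cs_eq_one_iff.mpr e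
    omega
  obtain ⟨hxC, gy, hyC⟩ : Subgroup.centralizer ({x} : Set G) = (N.map π).comap π ∧
      ∃ g : G, Subgroup.centralizer ({y} : Set G) =
        ((H.map π).map (MulAut.conj (π g)).toMonoidHom).comap π := by
    rcases hkey x hcx with ⟨e1, e2⟩ | ⟨g1, e1, e2⟩ <;>
      rcases hkey y hcy with ⟨f1, f2⟩ | ⟨g2, f1, f2⟩
    · exfalso; omega
    · exact ⟨e1, g2, f1⟩
    · exfalso; omega
    · exfalso; omega
  have hxA : IsMulCommutative (Subgroup.centralizer ({x} : Set G)) := by
    rw [hxC]
    refine isMulCommutative_iff.mpr fun u v => Subtype.ext ?_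
    obtain ⟨a, ha, c, hc, hu⟩ := hsat N u u.2
    obtain ⟨b, hb, d, hd, hv⟩ := hsat N v v.2
    show (u : G) * v = v * u
    rw [hu, hv]
    exact (((show Commute a b from hNc a ha b hb).mul_right (Subgroup.mem_center_iff.mp hd a)).mul_left
      (Subgroup.mem_center_iff.mp hc (b * d)).symm).eq
  have hyA : IsMulCommutative (Subgroup.centralizer ({y} : Set G)) := by
    rw [hyC]
    refine isMulCommutative_iff.mpr fun u v => Subtype.ext ?_
    have hu := u.2
    have hv := v.2
    rw [Subgroup.mem_comap, Coprime.mem_map_conj, ← map_inv, ← map_mul, ← map_mul] at hu hv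
    obtain ⟨a, ha, c, hc, hu⟩ := hsat H _ hu
    obtain ⟨b, hb, d, hd, hv⟩ := hsat H _ hv
    have h1 : Commute (gy⁻¹ * (u : G) * gy) (gy⁻¹ * (v : G) * gy) := by
      rw [hu, hv]
      exact (((show Commute a b from hHc a ha b hb).mul_right (Subgroup.mem_center_iff.mp hd a)).mul_left
        (Subgroup.mem_center_iff.mp hc (b * d)).symm)
    have h2 := h1.map (MulAut.conj gy).toMonoidHom
    show (u : G) * v = v * u
    simpa [mul_assoc] using h2.eq
  refine ⟨hxA, hyA, ?_⟩
  have hxB : (Subgroup.centralizer ({x} : Set G)).map π = N.map π := by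
    rw [hxC, Subgroup.map_comap_eq_self_of_surjective hsurj]
  have hyB : (Subgroup.centralizer ({y} : Set G)).map π =
      (H.map π).map (MulAut.conj (π gy)).toMonoidHom := by
    rw [hyC, Subgroup.map_comap_eq_self_of_surjective hsurj]
  rw [hxB, hyB]
  have hF' := Frobenius.map_equiv (MulAut.conj (π gy)) hF
  refine ⟨hF', (Frobenius.coe_eq_kernel hF' ?_).symm⟩
  refine Subgroup.isComplement'_of_coprime ?_ ?_
  · rw [Coprime.card_map_conj, hNcard, Subgroup.index_mul_card]
  · rw [Coprime.card_map_conj, hNcard]
    exact (Frobenius.coprime_card_index hF).symm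

end Cfsg.Agent.S4138
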