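import Cfsg.Statements.S4140
import Cfsg.Agent.H75.CaminaPair
import Cfsg.Agent.H75.CaminaChar

set_option autoImplicit false
open Cfsg

namespace Cfsg.Agent.S4140

/-- Let G be a finite group and N a proper non-trivial normal subgroup such that for every g outside N the conjugacy class of g is a union of cosets of N (equivalently gn is conjugate to g for every n ∈ N). Then either every element of G outside N acts fixed-point-freely on N (C_G(x) ≤ N for all x ∈ N, x ≠ 1, so G is a Frobenius group with kernel N), or N has prime-power order, or G/N has prime-power order. -/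
theorem result {G : Type*} [Group G] [Finite G] (N : Subgroup G) [N.Normal] (hN1 : N ≠ ⊥) (hN2 : N ≠ ⊤)
    (hcam : ∀ g : G, g ∉ N → ∀ n ∈ N, ∃ x : G, x * g * x⁻¹ = g * n) :
    (∀ x ∈ N, x ≠ 1 → Subgroup.centralizer ({x} : Set G) ≤ N) ∨ IsPrimePow (Nat.card N) ∨ IsPrimePow N.index := by
  classical
  cases nonempty_fintype G
  have h : Cfsg.Agent.H75.Camina.Pair N := hcam
  by_cases hA : IsPrimePow (Nat.card N)
  · exact Or.inr (Or.inl hA)
  by_cases hB : IsPrimePow N.index
  · exact Or.inr (Or.inr hB)
  refine Or.inl ?_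
  by_cases hnil : Group.IsNilpotent N
  · exact h.frobenius fun q hq hqi => h.not_dvd_card hnil hN1 hA hq hqi
  exfalso
  have hdiv : ∀ q : ℕ, q.Prime → q ∣ N.index → q ∣ Nat.card (Abelianization N) := by
    intro q hq hqi
    refine h.dvd_abelianization hq hqi ?_
    by_contra hqN
    exact hnil (h.isNilpotent hq hqi hqN)
  -- the quotient by the derived subgroup
  let M : Subgroup G := ⁅N, N⁆
  have hMN : M ≤ N := Subgroup.commutator_le_self N
  let f := QuotientGroup.mk' M
  set Nb := N.map f with hNb
  have hf : Function.Surjective f := QuotientGroup.mk'_surjective M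
  haveI : Nb.Normal := Subgroup.Normal.map inferInstance f hf
  have hidx : Nb.index = N.index := by
    rw [hNb, Subgroup.index_map_eq]
    · exact hf
    · rw [QuotientGroup.ker_mk']; exact hMN
  have hcomm : IsMulCommutative Nb := by
    refine ⟨⟨fun a b => Subtype.ext ?_⟩⟩
    obtain ⟨_, x, hx, rfl⟩ := a
    obtain ⟨_, y, hy, rfl⟩ := b
    show f x * f y = f y * f x
    rw [← commutatorElement_eq_one_iff_mul_comm, ← map_commutatorElement, ← MonoidHom.mem_ker,
      QuotientGroup.ker_mk']
    exact Subgroup.commutator_mem_commutator hx hy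
  -- `N / M` is the abelianisation of `N`
  let g : N →* Nb := f.subgroupMap N
  have hg : Function.Surjective g := f.subgroupMap_surjective N
  have hkerg : g.ker = commutator N := by
    ext x
    have hmap : (commutator N).map N.subtype = M := by
      rw [commutator_def, Subgroup.map_commutator, ← MonoidHom.range_eq_map, Subgroup.range_subtype]
    rw [MonoidHom.mem_ker, Subtype.ext_iff, OneMemClass.coe_one,
      show ((g x : Nb) : G ⧸ M) = f (x : G) from rfl, ← MonoidHom.mem_ker, QuotientGroup.ker_mk', ← hmap]
    exact Subgroup.mem_map_iff_mem N.subtype_injective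
  have hcard : Nat.card Nb = Nat.card (Abelianization N) := by
    rw [← Nat.card_congr (QuotientGroup.quotientKerEquivOfSurjective g hg).toEquiv, hkerg]
    rfl
  have hidx1 : N.index ≠ 1 := fun h1 => hN2 (Subgroup.index_eq_one.mp h1)
  have hp := Nat.minFac_prime hidx1
  have hq := hdiv _ hp (Nat.minFac_dvd _)
  rw [← hcard] at hq
  have hnb : Nb ≠ ⊥ := by
    intro hb
    rw [hb, Subgroup.card_bot] at hq
    exact hp.one_lt.ne' (Nat.dvd_one.mp hq)
  have hnilb : Group.IsNilpotent Nb := by
    letI : CommGroup Nb := { (inferInstance : Group Nb) with mul_comm := hcomm.is_comm.comm }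
    infer_instance
  have hpair := h.quotient M hMN
  by_cases hppb : IsPrimePow (Nat.card Nb)
  · obtain ⟨r, k, hr, hk, hrk⟩ := (isPrimePow_nat_iff _).mp hppb
    apply hB
    have huniq : ∀ {d : ℕ}, d.Prime → d ∣ N.index → d = r := by
      intro d hd hdi
      have h1 := hdiv d hd hdi
      rw [← hcard, ← hrk] at h1
      exact (Nat.prime_dvd_prime_iff_eq hd hr).mp (hd.dvd_of_dvd_pow h1)
    have hpow := Nat.eq_prime_pow_of_unique_prime_dvd (n := N.index) Subgroup.index_ne_zero_of_finite huniq
    refine (isPrimePow_nat_iff _).mpr ⟨r, _, hr, Nat.pos_of_ne_zero (fun h0 => hidx1 ?_), hpow.symm⟩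
    rw [hpow, h0, pow_zero]
  · exact hpair.not_dvd_card hnilb hnb hppb hp (hidx.symm ▸ Nat.minFac_dvd _) hq

end Cfsg.Agent.S4140
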