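import Cfsg.Statements.S4144
import Cfsg.Agent.PGroups.MaxClassExponent

set_option autoImplicit false
set_option linter.style.haveILetI false
open Cfsg

namespace Cfsg.Agent.S4144

open PGroups Subgroup
open scoped commutatorElement

/-- Let X be a finite p-group of order p^n, n ≥ 2, of nilpotency class n − 1 (maximal class), and H any subgroup of X. Then the index in H of the subgroup generated by the p-th powers of elements of H is at most p^p. -/
theorem result {X : Type*} [Group X] [Finite X] {p : ℕ} [Fact p.Prime] (n : ℕ) (hn : 2 ≤ n) (hX : Nat.card X = p ^ n)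
    (hmax : Group.nilpotencyClass X = n - 1) (H : Subgroup X) :
    (Subgroup.closure {y : X | ∃ h ∈ H, y = h ^ p}).relIndex H ≤ p ^ p := by
  have hp := (Fact.out : p.Prime)
  have hXp := IsPGroup.of_card hX
  haveI := hXp.isNilpotent
  set U := Subgroup.closure {y : X | ∃ h ∈ H, y = h ^ p}
  have hUH : U ≤ H := (Subgroup.closure_le _).2 (by rintro _ ⟨h, hh, rfl⟩; exact pow_mem hh p)
  have hpow : ∀ h ∈ H, h ^ p ∈ U := fun h hh => Subgroup.subset_closure ⟨h, hh, rfl⟩
  have hrel : U.relIndex H * Nat.card U = Nat.card H := by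
    rw [mul_comm]
    simpa [Subgroup.relIndex_bot_left] using Subgroup.relIndex_mul_relIndex ⊥ U H bot_le hUH
  suffices hcard : Nat.card H ≤ p ^ p * Nat.card U by
    rw [← hrel] at hcard
    exact Nat.le_of_mul_le_mul_right hcard Nat.card_pos
  rcases Nat.lt_or_ge p n with hpn | hpn
  swap
  · exact (Subgroup.card_le_card_group H).trans ((hX.le.trans (Nat.pow_le_pow_right hp.pos hpn)).trans
      (Nat.le_mul_of_pos_right _ Nat.card_pos))
  rcases eq_or_ne p 2 with rfl | hp2
  · obtain ⟨c, hc⟩ := exists_cyclic_index_two n X (by omega) hX hmax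
    set C := H ⊓ zpowers c
    haveI : IsCyclic C := by
      haveI : IsCyclic (zpowers c) := inferInstance
      exact isCyclic_of_injective (Subgroup.inclusion (inf_le_right : C ≤ zpowers c))
        (Subgroup.inclusion_injective _)
    have h1 : Nat.card H ≤ 2 * Nat.card C := by
      have h := (zpowers c).card_mul_index
      rw [Nat.card_zpowers, hc, hX] at h
      nth_rw 2 [show n = n - 1 + 1 by omega] at h
      rw [pow_succ] at h
      have h2 : (zpowers c).index = 2 := Nat.eq_of_mul_eq_mul_left (by positivity) h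
      have h3 := Subgroup.relIndex_le_of_le_right (H := zpowers c) (le_top : H ≤ ⊤) (by
        rw [Subgroup.relIndex_top_right, h2]; norm_num)
      rw [Subgroup.relIndex_top_right, h2] at h3
      have h4 : C.relIndex H * Nat.card C = Nat.card H := by
        rw [mul_comm]
        simpa [Subgroup.relIndex_bot_left] using
          Subgroup.relIndex_mul_relIndex ⊥ C H bot_le (inf_le_left : C ≤ H)
      rw [← h4, Subgroup.inf_relIndex_left]
      exact Nat.mul_le_mul_right _ h3
    obtain ⟨g, hg⟩ := IsCyclic.exists_generator (α := C)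
    have h5 : Nat.card C ≤ 2 * Nat.card U := by
      have hC : Nat.card C = orderOf (g : X) := by
        rw [Subgroup.orderOf_coe, ← Nat.card_zpowers, (eq_top_iff.2 fun a _ => hg a : zpowers g = ⊤),
          Subgroup.card_top]
      have hle : zpowers ((g : X) ^ 2) ≤ U := zpowers_le.2 (hpow _ g.2.1)
      have h6 := Subgroup.card_le_of_le hle
      rw [Nat.card_zpowers, orderOf_pow] at h6
      rw [hC]
      have hdvd : Nat.gcd (orderOf (g : X)) 2 ∣ orderOf (g : X) := Nat.gcd_dvd_left _ _
      have hle2 : Nat.gcd (orderOf (g : X)) 2 ≤ 2 := Nat.le_of_dvd two_pos (Nat.gcd_dvd_right _ _)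
      calc orderOf (g : X) = Nat.gcd (orderOf (g : X)) 2 * (orderOf (g : X) / Nat.gcd (orderOf (g : X)) 2) :=
            (Nat.mul_div_cancel' hdvd).symm
        _ ≤ 2 * Nat.card U := Nat.mul_le_mul hle2 h6
    calc Nat.card H ≤ 2 * Nat.card C := h1
      _ ≤ 2 * (2 * Nat.card U) := Nat.mul_le_mul_left _ h5
      _ = 2 ^ 2 * Nat.card U := by ring
  have h3p : 3 ≤ p := by have := hp.two_le; omega
  have M : MaxClassGrp X p n := by
    refine ⟨hX, by omega, fun h => ?_⟩
    rw [Subgroup.lowerCentralSeries_eq_bot_iff_nilpotencyClass_le] at h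
    omega
  obtain ⟨x, HP⟩ := M.exists_pair hp2
  -- the layers from the second on
  have hlay : ∀ d i, n ≤ i + d → 2 ≤ i →
      Nat.card ↑(H ⊓ lcsFil X i) ≤ p ^ (p - 1) * Nat.card ↑(U ⊓ lcsFil X (i + p - 1)) := by
    intro d
    induction d with
    | zero =>
      intro i hid _
      rw [M.lcsFil_eq_bot (i := i) (by omega), inf_bot_eq, Subgroup.card_bot]
      exact Nat.one_le_iff_ne_zero.2 (Nat.mul_ne_zero (pow_ne_zero _ hp.ne_zero) Nat.card_pos.ne')
    | succ d ih =>
      intro i hid hi
      by_cases hsmall : n ≤ i + p - 1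
      · refine (Subgroup.card_le_of_le inf_le_right).trans ?_
        rcases Nat.lt_or_ge i n with hin | hin
        · rw [M.card_lcsFil hi hin.le]
          exact (Nat.pow_le_pow_right hp.pos (by omega)).trans (Nat.le_mul_of_pos_right _ Nat.card_pos)
        · rw [M.lcsFil_eq_bot hin, Subgroup.card_bot]
          exact Nat.one_le_iff_ne_zero.2 (Nat.mul_ne_zero (pow_ne_zero _ hp.ne_zero) Nat.card_pos.ne')
      have h1 := ih (i + 1) (by omega) (by omega)
      rw [show i + 1 + p - 1 = i + p by omega] at h1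
      have hUle : U ⊓ lcsFil X (i + p) ≤ U ⊓ lcsFil X (i + p - 1) :=
        inf_le_inf_left _ (lcsFil_antitone (by omega))
      by_cases heq : H ⊓ lcsFil X i ≤ lcsFil X (i + 1)
      · exact (Subgroup.card_le_of_le (le_inf inf_le_left heq)).trans
          (h1.trans (Nat.mul_le_mul_left _ (Subgroup.card_le_of_le hUle)))
      obtain ⟨h, hh, hh'⟩ := SetLike.not_le_iff_exists.1 heq
      obtain ⟨hp1, hp2'⟩ := HP.pow_layer i hi h hh.2
      have hlt : U ⊓ lcsFil X (i + p) < U ⊓ lcsFil X (i + p - 1) := lt_of_le_of_ne hUle fun e =>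
        hp2' hh' (by omega) (e ▸ (Subgroup.mem_inf.2 ⟨hpow h hh.1, hp1⟩) : h ^ p ∈ U ⊓ lcsFil X (i + p)).2
      haveI := lcsFil_normal (G := X) (i + 1)
      have h2 := card_eq_card_map_mul (lcsFil X (i + 1)) (H ⊓ lcsFil X i)
      rw [inf_assoc, inf_eq_right.2 (lcsFil_antitone (show i ≤ i + 1 by omega))] at h2
      have h3 : Nat.card ((H ⊓ lcsFil X i).map (QuotientGroup.mk' (lcsFil X (i + 1)))) ≤ p := by
        refine (Subgroup.card_le_of_le (Subgroup.map_mono inf_le_right)).trans (le_of_eq ?_)
        have h4 := card_eq_card_map_mul (lcsFil X (i + 1)) (lcsFil X i)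
        rw [inf_eq_right.2 (lcsFil_antitone (show i ≤ i + 1 by omega)), M.card_lcsFil hi (by omega),
          M.card_lcsFil (i := i + 1) (by omega) (by omega), show n - i = n - (i + 1) + 1 by omega, pow_succ'] at h4
        exact (Nat.eq_of_mul_eq_mul_right (pow_pos hp.pos _) h4).symm
      rw [h2]
      refine (Nat.mul_le_mul h3 h1).trans ?_
      rw [← mul_assoc, mul_comm p, mul_assoc]
      exact Nat.mul_le_mul_left _ (M.mul_card_le_of_lt hlt)
  have hγ := hlay n 2 (by omega) le_rfl
  rw [show 2 + p - 1 = p + 1 by omega] at hγ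
  by_cases htop : H ⊔ lcsFil X 2 = ⊤
  swap
  · haveI := lcsFil_normal (G := X) 2
    have h2 := card_eq_card_map_mul (lcsFil X 2) H
    have h3 : Nat.card (H.map (QuotientGroup.mk' (lcsFil X 2))) ≤ p := by
      have hq : Nat.card (X ⧸ lcsFil X 2) = p ^ 2 := by
        have h := Subgroup.card_eq_card_quotient_mul_card_subgroup (lcsFil X 2)
        rw [hX, M.card_lcsFil le_rfl (by omega), show n = 2 + (n - 2) by omega, pow_add,
          Nat.add_sub_cancel_left] at h
        exact (Nat.eq_of_mul_eq_mul_right (pow_pos hp.pos _) h).symm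
      obtain ⟨b, hb⟩ := IsPGroup.iff_card.1 ((hXp.to_quotient (lcsFil X 2)).to_subgroup
        (H.map (QuotientGroup.mk' (lcsFil X 2))))
      have hlt : Nat.card (H.map (QuotientGroup.mk' (lcsFil X 2))) < p ^ 2 := by
        rw [← hq]
        refine lt_of_le_of_ne (Subgroup.card_le_card_group _) fun h => htop ?_
        have h' := congrArg (Subgroup.comap (QuotientGroup.mk' (lcsFil X 2))) (Subgroup.eq_top_of_card_eq _ h)
        rwa [Subgroup.comap_map_eq, QuotientGroup.ker_mk', Subgroup.comap_top] at h'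
      rw [hb, Nat.pow_lt_pow_iff_right hp.one_lt] at hlt
      rw [hb]
      exact (Nat.pow_le_pow_right hp.pos (show b ≤ 1 by omega)).trans (pow_one p).le
    rw [h2]
    refine (Nat.mul_le_mul h3 hγ).trans ?_
    rw [← mul_assoc, ← pow_succ', Nat.sub_add_cancel hp.one_le]
    exact Nat.mul_le_mul_left _ (Subgroup.card_le_of_le inf_le_left)
  -- the whole group
  obtain rfl : H = ⊤ := frattini_nongenerating
    (eq_top_iff.2 (htop ▸ sup_le_sup_left ((lcsFil_two (G := X)).le.trans (commutator_le_frattini hXp)) H))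
  rw [top_inf_eq, M.card_lcsFil le_rfl (by omega), show n - 2 = p - 1 + (n - (p + 1)) by omega, pow_add] at hγ
  have hle : lcsFil X (p + 1) ≤ U := by
    have hc : Nat.card ↑(U ⊓ lcsFil X (p + 1)) = Nat.card (lcsFil X (p + 1)) :=
      le_antisymm (Subgroup.card_le_of_le inf_le_right) (by
        rw [M.card_lcsFil (by omega) (by omega)]
        exact Nat.le_of_mul_le_mul_left hγ (pow_pos hp.pos _))
    exact inf_eq_right.1 (Subgroup.eq_of_le_of_card_ge inf_le_right hc.ge)
  obtain ⟨a, ha⟩ : ∃ a : X, a ^ p ∉ lcsFil X (p + 1) := by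
    haveI := lcsFil_normal (G := X) (p + 1)
    have M' : MaxClassGrp (X ⧸ lcsFil X (p + 1)) p (p + 1) := by
      refine ⟨?_, by omega, fun hbot => ?_⟩
      · have h := Subgroup.card_eq_card_quotient_mul_card_subgroup (lcsFil X (p + 1))
        rw [hX, M.card_lcsFil (by omega) (by omega), show n = p + 1 + (n - (p + 1)) by omega, pow_add,
          Nat.add_sub_cancel_left] at h
        exact (Nat.eq_of_mul_eq_mul_right (pow_pos hp.pos _) h).symm
      · refine (M.lt_step (i := p) (by omega) (by omega)).not_ge ?_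
        have h1 : (lcsFil X p).map (QuotientGroup.mk' (lcsFil X (p + 1))) = ⊥ := by
          rw [PGroups.map_lcsFil _ (QuotientGroup.mk'_surjective _)]
          show (⊤ : Subgroup (X ⧸ lcsFil X (p + 1))).lowerCentralSeries (p - 1) = ⊥
          rwa [show p + 1 - 2 = p - 1 by omega] at hbot
        rwa [Subgroup.map_eq_bot_iff, QuotientGroup.ker_mk'] at h1
    obtain ⟨q, hq⟩ := M'.exists_pow_ne_one hp2 rfl
    obtain ⟨a, rfl⟩ := QuotientGroup.mk'_surjective _ q
    exact ⟨a, fun h => hq (by rw [← map_pow]; exact (QuotientGroup.eq_one_iff _).2 h)⟩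
  have hlt : lcsFil X (p + 1) < U := lt_of_le_of_ne hle fun e => ha (e ▸ hpow a (mem_top a))
  have hU := M.mul_card_le_of_lt hlt
  rw [M.card_lcsFil (by omega) (by omega)] at hU
  rw [Subgroup.card_top, hX]
  calc p ^ n = p ^ p * (p * p ^ (n - (p + 1))) := by
        rw [← pow_succ', ← pow_add, show p + (n - (p + 1) + 1) = n by omega]
    _ ≤ p ^ p * Nat.card U := Nat.mul_le_mul_left _ hU

end Cfsg.Agent.S4144
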