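import Cfsg.Agent.H76.ClassProportion
import Cfsg.Statements.S4149

set_option autoImplicit false
open Cfsg

namespace Cfsg.Agent.S4149

theorem result {G : Type*} [Group G] [Finite G] (σ : ℕ)
    (hσ : ∀ x : G, ((Subgroup.centralizer ({x} : Set G)).index).primeFactors.card ≤ σ)
    (hnil : ∀ p q : ℕ, p.Prime → q.Prime → p ∣ Nat.card G → q ∣ Nat.card G →
      Cfsg.HasNormalPComplement p G → Cfsg.HasNormalPComplement q G → p = q) :
    Nat.card {p : ℕ | p.Prime ∧ ∃ x : G, p ∣ (Subgroup.centralizer ({x} : Set G)).index} ≤ 2 * σ := by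
  classical
  have := Fintype.ofFinite G
  set ind : G → ℕ := fun x => (Subgroup.centralizer ({x} : Set G)).index with hind
  set R := (Nat.card G).primeFactors.filter (fun p => ∃ x : G, p ∣ ind x) with hR
  have hdvd : ∀ x : G, ind x ∣ Nat.card G := fun x => Subgroup.index_dvd_card _
  have hset : {p : ℕ | p.Prime ∧ ∃ x : G, p ∣ (Subgroup.centralizer ({x} : Set G)).index} = (R : Set ℕ) := by
    ext p
    simp only [hR, Set.mem_ofPred_eq, Finset.coe_filter, Nat.mem_primeFactors]
    constructor
    · rintro ⟨hp, x, hx⟩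
      exact ⟨⟨hp, hx.trans (hdvd x), Nat.card_pos.ne'⟩, x, hx⟩
    · rintro ⟨⟨hp, -, -⟩, hx⟩
      exact ⟨hp, hx⟩
  rw [hset, Nat.card_coe_set_eq, Set.ncard_coe_finset]
  set E := R.filter (fun p => Cfsg.HasNormalPComplement p G) with hE
  have hEcard : E.card ≤ 1 := by
    rw [Finset.card_le_one]
    intro a ha b hb
    simp only [hE, hR, Finset.mem_filter, Nat.mem_primeFactors] at ha hb
    exact hnil a b ha.1.1.1 hb.1.1.1 ha.1.1.2.1 hb.1.1.2.1 ha.2 hb.2
  set T := R.filter (fun p => ¬ Cfsg.HasNormalPComplement p G) with hT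
  have hRT : E.card + T.card = R.card := Finset.card_filter_add_card_filter_not _
  have hlow : ∀ p ∈ T, Nat.card G ≤ 2 * (Finset.univ.filter (fun x => p ∣ ind x)).card := by
    intro p hp
    simp only [hT, hR, Finset.mem_filter, Nat.mem_primeFactors] at hp
    have := Fact.mk hp.1.1.1
    refine (H76.card_le_two_mul_card_index_dvd hp.2).trans (le_of_eq ?_)
    rw [Nat.card_eq_fintype_card, ← Fintype.card_subtype]
    rfl
  have hswap : ∑ p ∈ T, (Finset.univ.filter (fun x => p ∣ ind x)).card =
      ∑ x : G, (T.filter (fun p => p ∣ ind x)).card := by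
    simp only [Finset.card_filter]
    exact Finset.sum_comm
  have hle : ∀ x : G, (T.filter (fun p => p ∣ ind x)).card ≤ σ := by
    intro x
    refine le_trans (Finset.card_le_card ?_) (hσ x)
    intro p hp
    simp only [hT, hR, Finset.mem_filter, Nat.mem_primeFactors] at hp
    exact Nat.mem_primeFactors.mpr ⟨hp.1.1.1.1, hp.2, Subgroup.index_ne_zero_of_finite⟩
  have hone : (T.filter (fun p => p ∣ ind 1)).card = 0 := by
    rw [Finset.card_eq_zero, Finset.filter_eq_empty_iff]
    intro p hp
    simp only [hT, hR, Finset.mem_filter, Nat.mem_primeFactors] at hp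
    exact H76.not_dvd_index_centralizer_one hp.1.1.1
  have hsum : ∑ x : G, (T.filter (fun p => p ∣ ind x)).card ≤ (Nat.card G - 1) * σ := by
    rw [← Finset.sum_erase_add _ _ (Finset.mem_univ (1 : G)), hone, add_zero]
    refine (Finset.sum_le_card_nsmul _ _ σ fun x _ => hle x).trans (le_of_eq ?_)
    rw [Finset.card_erase_of_mem (Finset.mem_univ _), Finset.card_univ, Nat.card_eq_fintype_card,
      smul_eq_mul]
  have hbig : T.card * Nat.card G ≤ 2 * ((Nat.card G - 1) * σ) := by
    calc T.card * Nat.card G = ∑ _p ∈ T, Nat.card G := by rw [Finset.sum_const, smul_eq_mul]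
      _ ≤ ∑ p ∈ T, 2 * (Finset.univ.filter (fun x => p ∣ ind x)).card := Finset.sum_le_sum hlow
      _ = 2 * ∑ x : G, (T.filter (fun p => p ∣ ind x)).card := by rw [← Finset.mul_sum, hswap]
      _ ≤ 2 * ((Nat.card G - 1) * σ) := Nat.mul_le_mul_left 2 hsum
  obtain rfl | hσpos := Nat.eq_zero_or_pos σ
  · have : R = ∅ := by
      rw [Finset.eq_empty_iff_forall_notMem]
      intro p hp
      simp only [hR, Finset.mem_filter, Nat.mem_primeFactors] at hp
      obtain ⟨x, hx⟩ := hp.2
      have : p ∈ (ind x).primeFactors := Nat.mem_primeFactors.mpr ⟨hp.1.1, hx, Subgroup.index_ne_zero_of_finite⟩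
      rw [Finset.card_eq_zero.mp (Nat.le_zero.mp (hσ x))] at this
      simp at this
    simp [this]
  · have hT2 : T.card < 2 * σ := by
      by_contra hcon
      have h1 : 2 * σ * Nat.card G ≤ T.card * Nat.card G := Nat.mul_le_mul_right _ (not_lt.mp hcon)
      have hpos : 1 ≤ Nat.card G := Nat.card_pos
      obtain ⟨k, hk⟩ := Nat.exists_eq_add_of_le hpos
      rw [hk] at h1 hbig
      rw [Nat.add_sub_cancel_left] at hbig
      nlinarith
    omega

end Cfsg.Agent.S4149
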