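import Cfsg.Agent.H76.PairGeneration
import Cfsg.Agent.H76.ThreePrimes
import Cfsg.Statements.S4150

set_option autoImplicit false
open Cfsg

namespace Cfsg.Agent.S4150

/-- Let m ≥ 5. Then there are primes p < q with m/2 ≤ p and q ≤ m such that any two elements x, y of the alternating group of degree m with x of order p and y of order q generate a subgroup isomorphic to an alternating group of some degree d ≥ 5. -/
theorem result (m : ℕ) (hm : 5 ≤ m) :
    ∃ p q : ℕ, p.Prime ∧ q.Prime ∧ m ≤ 2 * p ∧ p < q ∧ q ≤ m ∧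
      ∀ x y : alternatingGroup (Fin m), orderOf x = p → orderOf y = q →
        ∃ d : ℕ, 5 ≤ d ∧ Nonempty (Subgroup.closure ({x, y} : Set (alternatingGroup (Fin m))) ≃* alternatingGroup (Fin d)) := by
  have key : ∀ p q : ℕ, p.Prime → q.Prime → p < q → m ≤ 2 * p → q ≤ m →
      ((m < 2 * p ∧ p + 3 ≤ q) ∨ (m = 2 * p ∧ q + 3 ≤ m ∧ p + 3 ≤ q) ∨ (p = 3 ∧ q = 5) ∨
        (p = 5 ∧ q = 7 ∧ 7 ≤ m ∧ m ≤ 10) ∨ (p = 11 ∧ q = 13 ∧ m < 22)) →
      ∃ p q : ℕ, p.Prime ∧ q.Prime ∧ m ≤ 2 * p ∧ p < q ∧ q ≤ m ∧
        ∀ x y : alternatingGroup (Fin m), orderOf x = p → orderOf y = q →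
          ∃ d : ℕ, 5 ≤ d ∧ Nonempty (Subgroup.closure ({x, y} : Set (alternatingGroup (Fin m))) ≃* alternatingGroup (Fin d)) := by
    intro p q hp hq hpq hmp hqm hc
    refine ⟨p, q, hp, hq, hmp, hpq, hqm, fun x y hx hy => ?_⟩
    classical
    rw [← Subgroup.orderOf_coe] at hx hy
    set x₀ : Equiv.Perm (Fin m) := (x : Equiv.Perm (Fin m)) with hx₀
    set y₀ : Equiv.Perm (Fin m) := (y : Equiv.Perm (Fin m)) with hy₀
    let P : Fin m → Prop := fun z => x₀ z ≠ z ∨ y₀ z ≠ z
    have hPx : ∀ z, P (x₀ z) ↔ P z := by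
      intro z
      by_cases hz : x₀ z = z
      · rw [hz]
      · exact ⟨fun _ => Or.inl hz, fun _ => Or.inl fun h => hz (x₀.injective h)⟩
    have hPy : ∀ z, P (y₀ z) ↔ P z := by
      intro z
      by_cases hz : y₀ z = z
      · rw [hz]
      · exact ⟨fun _ => Or.inr hz, fun _ => Or.inr fun h => hz (y₀.injective h)⟩
    let x' : Equiv.Perm (Subtype P) := x₀.subtypePerm hPx
    let y' : Equiv.Perm (Subtype P) := y₀.subtypePerm hPy
    have hxe : Equiv.Perm.ofSubtype x' = x₀ := Equiv.Perm.ofSubtype_subtypePerm _ fun z hz => Or.inl hz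
    have hye : Equiv.Perm.ofSubtype y' = y₀ := Equiv.Perm.ofSubtype_subtypePerm _ fun z hz => Or.inr hz
    have hx' : orderOf x' = p := by
      rw [← orderOf_injective Equiv.Perm.ofSubtype Equiv.Perm.ofSubtype_injective, hxe, hx]
    have hy' : orderOf y' = q := by
      rw [← orderOf_injective Equiv.Perm.ofSubtype Equiv.Perm.ofSubtype_injective, hye, hy]
    have hsx : x' ∈ alternatingGroup (Subtype P) := by
      rw [Equiv.Perm.mem_alternatingGroup, ← Equiv.Perm.sign_ofSubtype, hxe]
      exact Equiv.Perm.mem_alternatingGroup.mp x.2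
    have hsy : y' ∈ alternatingGroup (Subtype P) := by
      rw [Equiv.Perm.mem_alternatingGroup, ← Equiv.Perm.sign_ofSubtype, hye]
      exact Equiv.Perm.mem_alternatingGroup.mp y.2
    have hd : Fintype.card (Subtype P) ≤ m := (Fintype.card_subtype_le _).trans (by simp)
    have hyc : y₀.IsCycle := Equiv.Perm.isCycle_of_prime_order (hy.symm ▸ hq) (by
      have := y₀.support.card_le_univ
      rw [Fintype.card_fin] at this
      omega)
    have hqd : q ≤ Fintype.card (Subtype P) := by
      rw [← hy, hyc.orderOf, Fintype.card_subtype]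
      exact Finset.card_le_card fun z hz =>
        Finset.mem_filter.mpr ⟨Finset.mem_univ z, Or.inr (Equiv.Perm.mem_support.mp hz)⟩
    obtain ⟨d, hd5, ⟨e⟩⟩ := H76.pair_generates (α := Subtype P) hp hq hx' hy' (by omega) hpq hsx hsy
      (fun z => z.2.imp (fun h h' => h (congrArg Subtype.val h')) (fun h h' => h (congrArg Subtype.val h')))
      (by rcases hc with h | h | h | h | h <;> omega)
    refine ⟨d, hd5, ⟨?_⟩⟩
    let e1 := (Subgroup.closure ({x, y} : Set (alternatingGroup (Fin m)))).equivMapOfInjective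
      (alternatingGroup (Fin m)).subtype (Subgroup.subtype_injective _)
    let e2 := (Subgroup.closure ({x', y'} : Set (Equiv.Perm (Subtype P)))).equivMapOfInjective
      Equiv.Perm.ofSubtype Equiv.Perm.ofSubtype_injective
    have heq : (Subgroup.closure ({x, y} : Set (alternatingGroup (Fin m)))).map (alternatingGroup (Fin m)).subtype =
        (Subgroup.closure ({x', y'} : Set (Equiv.Perm (Subtype P)))).map Equiv.Perm.ofSubtype := by
      rw [MonoidHom.map_closure, MonoidHom.map_closure, Set.image_pair, Set.image_pair, hxe, hye]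
      rfl
    exact e1.trans ((MulEquiv.subgroupCongr heq).trans (e2.symm.trans e))
  rcases lt_or_ge m 17 with h17 | h17
  · interval_cases m
    · exact key 3 5 (by norm_num) (by norm_num) (by omega) (by omega) (by omega) (by omega)
    · exact key 3 5 (by norm_num) (by norm_num) (by omega) (by omega) (by omega) (by omega)
    · exact key 5 7 (by norm_num) (by norm_num) (by omega) (by omega) (by omega) (by omega)
    · exact key 5 7 (by norm_num) (by norm_num) (by omega) (by omega) (by omega) (by omega)
    · exact key 5 7 (by norm_num) (by norm_num) (by omega) (by omega) (by omega) (by omega)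
    · exact key 5 7 (by norm_num) (by norm_num) (by omega) (by omega) (by omega) (by omega)
    · exact key 7 11 (by norm_num) (by norm_num) (by omega) (by omega) (by omega) (by omega)
    · exact key 7 11 (by norm_num) (by norm_num) (by omega) (by omega) (by omega) (by omega)
    · exact key 7 11 (by norm_num) (by norm_num) (by omega) (by omega) (by omega) (by omega)
    · exact key 7 11 (by norm_num) (by norm_num) (by omega) (by omega) (by omega) (by omega)
    · exact key 11 13 (by norm_num) (by norm_num) (by omega) (by omega) (by omega) (by omega)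
    · exact key 11 13 (by norm_num) (by norm_num) (by omega) (by omega) (by omega) (by omega)
  · obtain ⟨p, q, hp, hq, h1, h2, h3⟩ := H76.exists_far_primes m h17
    exact key p q hp hq (by omega) (by omega) h3 (Or.inl ⟨h1, h2⟩)

end Cfsg.Agent.S4150
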