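import Cfsg.Agent.H76.TIHall
import Cfsg.Agent.H76.ZGroupAction
import Cfsg.Statements.S4151

set_option autoImplicit false
open Cfsg

namespace Cfsg.Agent.S4151

/-- Let G be a finite group and H a non-normal subgroup meeting each of its conjugates by elements outside N_G(H) trivially, with the order of H coprime to its index in N_G(H), such that G is π-separable for π the set of primes dividing the order of H (G has a chain of normal subgroups from 1 to G each of whose factors has order divisible only by primes dividing the order of H or coprime to it). Suppose a Sylow 2-subgroup of H is abelian and Q is a complement of H in N_G(H). Then C_H(Q), the subgroup of elements of H commuting with Q, has order coprime to its index in G and has a normal complement in G. -/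
theorem result {G : Type*} [Group G] [Finite G] (H : Subgroup G)
    (hTI : Cfsg.IsTISubset (H : Set G)) (hnn : ¬ H.Normal)
    (hHall : (Nat.card H).Coprime (H.subgroupOf (Subgroup.normalizer (H : Set G))).index)
    (hsep : ∃ (n : ℕ) (M : Fin (n + 1) → Subgroup G), M 0 = ⊥ ∧ M (Fin.last n) = ⊤ ∧ Monotone M ∧ (∀ i, (M i).Normal) ∧
      ∀ i : Fin n, (∀ q : ℕ, q.Prime → q ∣ (M i.castSucc).relIndex (M i.succ) → q ∣ Nat.card H) ∨
        ((M i.castSucc).relIndex (M i.succ)).Coprime (Nat.card H))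
    (h2 : ∀ P : Sylow 2 H, IsMulCommutative (P : Subgroup H))
    (Q : Subgroup G) (hQ : Q ≤ Subgroup.normalizer (H : Set G)) (hQH : Q ⊓ H = ⊥) (hQH' : Q ⊔ H = Subgroup.normalizer (H : Set G)) :
    (Nat.card ↥(H ⊓ Subgroup.centralizer (Q : Set G))).Coprime (H ⊓ Subgroup.centralizer (Q : Set G)).index ∧
    ∃ N : Subgroup G, N.Normal ∧ N.IsComplement' (H ⊓ Subgroup.centralizer (Q : Set G)) := by
  set O := sSup {K : Subgroup G | K.Normal ∧ (Nat.card K).Coprime (Nat.card H)} with hO
  obtain ⟨hOn, hOc⟩ := H76.coprime_core (G := G) (Nat.card H)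
  rw [← hO] at hOn hOc
  obtain ⟨htop, -, hOnle⟩ := H76.ti_separable_frattini hTI hnn hHall hsep hO
  have hidx := H76.ti_coprime_index hTI hHall
  have : IsZGroup H := H76.ti_isZGroup hTI hOc hOnle h2
  set N := Subgroup.normalizer (H : Set G) with hN
  have hHQ : H ⊔ Q = N := by rw [sup_comm, hQH']
  have hHQ0 : H ⊓ Q = ⊥ := by rw [inf_comm, hQH]
  have hcardN : Nat.card N = Nat.card H * Nat.card Q := by
    rw [← Coprime.card_sup hQ hHQ0, hHQ]
  have hHN : Nat.card H * H.relIndex N = Nat.card N := by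
    rw [← Subgroup.relIndex_bot_left, ← Subgroup.relIndex_bot_left]
    exact Subgroup.relIndex_mul_relIndex _ _ _ bot_le Subgroup.le_normalizer
  have hrelQ : H.relIndex N = Nat.card Q :=
    Nat.eq_of_mul_eq_mul_left Nat.card_pos (hHN.trans hcardN)
  have hcop : (Nat.card Q).Coprime (Nat.card H) := by rw [← hrelQ]; exact hHall.symm
  let _ : MulDistribMulAction Q H :=
    { smul := fun q h => ⟨(q : G) * h * (q : G)⁻¹,
        (Subgroup.mem_normalizer_iff.mp (hQ q.2) (h : G)).mp h.2⟩
      one_smul := fun h => Subtype.ext (by show ((1 : Q) : G) * h * ((1 : Q) : G)⁻¹ = h; simp)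
      mul_smul := fun q r h => Subtype.ext (by
        show ((q * r : Q) : G) * h * ((q * r : Q) : G)⁻¹ =
          (q : G) * ((r : G) * h * (r : G)⁻¹) * (q : G)⁻¹
        simp [mul_assoc])
      smul_mul := fun q a b => Subtype.ext (by
        show (q : G) * ((a * b : H) : G) * (q : G)⁻¹ =
          ((q : G) * a * (q : G)⁻¹) * ((q : G) * b * (q : G)⁻¹)
        simp [mul_assoc])
      smul_one := fun q => Subtype.ext (by show (q : G) * ((1 : H) : G) * (q : G)⁻¹ = 1; simp) }
  have hsmul : ∀ (q : Q) (h : H), ((q • h : H) : G) = (q : G) * h * (q : G)⁻¹ := fun _ _ => rfl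
  obtain ⟨-, hfix, hcov, hcopI⟩ := H76.zgroup_coprime_action (G := H) (A := Q) hcop
  set I := H76.actionCommutator H Q with hI
  have hIn : I.Normal := H76.actionCommutator_normal
  set I' : Subgroup G := I.map H.subtype with hI'
  set C : Subgroup G := H ⊓ Subgroup.centralizer (Q : Set G) with hC
  have hI'H : I' ≤ H := Subgroup.map_subtype_le _
  have hmemC : ∀ h : H, (h : G) ∈ C ↔ ∀ q : Q, q • h = h := by
    intro h
    rw [hC, Subgroup.mem_inf, Subgroup.mem_centralizer_iff]
    constructor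
    · intro hh q
      exact Subtype.ext (by rw [hsmul, hh.2 q q.2, mul_inv_cancel_right])
    · intro hh
      refine ⟨h.2, fun q hq => ?_⟩
      have := congrArg Subtype.val (hh ⟨q, hq⟩)
      rw [hsmul, mul_inv_eq_iff_eq_mul] at this
      exact this
  have hdecomp : ∀ h ∈ H, ∃ w ∈ I', h * w ∈ C := by
    intro h hh
    obtain ⟨w, hw, hwf⟩ := hcov ⟨h, hh⟩
    exact ⟨w, ⟨w, hw, rfl⟩, (hmemC (⟨h, hh⟩ * w)).mpr hwf⟩
  have hCI : ∀ x ∈ C, x ∈ I' → x = 1 := by
    rintro _ hx ⟨w, hw, rfl⟩
    have := hfix w hw ((hmemC w).mp hx)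
    simp [this]
  have hI'sm : ∀ (q : Q), ∀ w ∈ I, q • w ∈ I := fun q w hw => by
    have h1 : w⁻¹ * q • w ∈ I := Subgroup.subset_closure ⟨q, w, rfl⟩
    simpa using I.mul_mem hw h1
  have hQI' : Q ≤ Subgroup.normalizer (I' : Set G) := by
    intro q hq
    apply Coprime.mem_normalizer_of_map_conj
    refine Subgroup.eq_of_le_of_card_ge ?_ (le_of_eq (Coprime.card_map_conj q I').symm)
    rintro _ ⟨_, ⟨w, hw, rfl⟩, rfl⟩
    exact ⟨_, hI'sm ⟨q, hq⟩ w hw, by simp [hsmul]⟩
  have hHI' : H ≤ Subgroup.normalizer (I' : Set G) := by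
    intro g hg
    apply Coprime.mem_normalizer_of_map_conj
    refine Subgroup.eq_of_le_of_card_ge ?_ (le_of_eq (Coprime.card_map_conj g I').symm)
    rintro _ ⟨_, ⟨w, hw, rfl⟩, rfl⟩
    exact ⟨_, hIn.conj_mem w hw ⟨g, hg⟩, by simp⟩
  set L := I' ⊔ Q with hL
  set M := O ⊔ L with hM
  have hCL : C ≤ Subgroup.normalizer (L : Set G) := by
    intro c hc
    apply Coprime.mem_normalizer_of_map_conj
    rw [hL, Subgroup.map_sup, Coprime.map_conj_eq (hHI' hc.1), Coprime.map_conj_eq]
    exact Subgroup.centralizer_le_normalizer _ hc.2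
  have hNL : N ≤ Subgroup.normalizer (L : Set G) := by
    rw [← hHQ]
    refine sup_le (fun h hh => ?_) (le_sup_right.trans Subgroup.le_normalizer)
    obtain ⟨w, hw, hwc⟩ := hdecomp h hh
    have h1 : w ∈ Subgroup.normalizer (L : Set G) :=
      Subgroup.le_normalizer ((le_sup_left : I' ≤ L) hw)
    simpa using Subgroup.mul_mem _ (hCL hwc) (Subgroup.inv_mem _ h1)
  have hMn : M.Normal := by
    rw [← Subgroup.normalizer_eq_top_iff, eq_top_iff, ← htop]
    refine sup_le (le_sup_left.trans Subgroup.le_normalizer) fun g hg => ?_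
    apply Coprime.mem_normalizer_of_map_conj
    rw [hM, Subgroup.map_sup, Coprime.map_conj_eq (hNL hg), Coprime.map_conj_eq]
    rw [Subgroup.normalizer_eq_top_iff.mpr hOn]
    trivial
  have hMC : M ⊔ C = ⊤ := by
    rw [eq_top_iff, ← htop]
    refine sup_le (le_sup_left.trans le_sup_left) (hHQ.ge.trans (sup_le (fun h hh => ?_)
      (le_sup_right.trans (le_sup_right.trans le_sup_left))))
    obtain ⟨w, hw, hwc⟩ := hdecomp h hh
    have h1 : w ∈ M ⊔ C := Subgroup.mem_sup_left (Subgroup.mem_sup_right (Subgroup.mem_sup_left hw))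
    simpa using Subgroup.mul_mem _ (Subgroup.mem_sup_right (S := M) hwc) (Subgroup.inv_mem _ h1)
  have hON : O ⊓ N ≤ Q := by
    set O' := O ⊓ N with hO'
    have hsupN : O' ⊔ Q ≤ N := sup_le inf_le_right hQ
    have hd : Nat.card ↥(O' ⊔ Q) ∣ Nat.card O * Nat.card Q := by
      rw [mul_comm]
      exact (Subgroup.card_dvd_of_le (sup_le (inf_le_left.trans le_sup_right) le_sup_left)).trans
        (Cores.card_sup_dvd Q O)
    have hcc : (Nat.card ↥(O' ⊔ Q)).Coprime (Nat.card H) :=
      (Nat.Coprime.mul_left hOc hcop).coprime_dvd_left hd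
    have hle : Nat.card ↥(O' ⊔ Q) ∣ Nat.card Q := by
      refine hcc.dvd_of_dvd_mul_left ?_
      rw [← hcardN]
      exact Subgroup.card_dvd_of_le hsupN
    have heq : Q = O' ⊔ Q :=
      Subgroup.eq_of_le_of_card_ge le_sup_right (Nat.le_of_dvd Nat.card_pos hle)
    exact le_sup_left.trans heq.ge
  have hdisj : M ⊓ C = ⊥ := by
    rw [eq_bot_iff]
    intro x hx
    rw [Subgroup.mem_bot]
    obtain ⟨hxM, hxH, hxQ⟩ := hx
    obtain ⟨o, ho, l, hl, rfl⟩ := Subgroup.mem_sup_of_normal_left.mp hxM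
    have hLN : L ≤ N := sup_le (hI'H.trans Subgroup.le_normalizer) hQ
    have hoQ : o ∈ Q := hON ⟨ho, by
      simpa using N.mul_mem (Subgroup.le_normalizer hxH) (N.inv_mem (hLN hl))⟩
    have hxL : o * l ∈ L := L.mul_mem (Subgroup.mem_sup_right hoQ) hl
    obtain ⟨w, hw, q, hq, hwq⟩ := (Coprime.mem_sup_iff hQI').mp hxL
    have hq1 : q = 1 := by
      rw [← Subgroup.mem_bot, ← hHQ0]
      refine ⟨?_, hq⟩
      have := H.mul_mem (H.inv_mem (hI'H hw)) hxH
      rwa [← hwq, inv_mul_cancel_left] at this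
    rw [hq1, mul_one] at hwq
    exact hCI _ ⟨hxH, hxQ⟩ (hwq ▸ hw)
  refine ⟨?_, M, hMn, ?_⟩
  · have hrel : C.relIndex H = Nat.card I := by
      have hcomp : I.IsComplement' (C.subgroupOf H) := by
        refine Subgroup.isComplement'_of_disjoint_and_mul_eq_univ
          (disjoint_iff_inf_le.mpr fun x hx => Subgroup.mem_bot.mpr
            (Subtype.ext (hCI x (Subgroup.mem_subgroupOf.mp hx.2) ⟨x, hx.1, rfl⟩))) ?_
        refine Set.eq_univ_of_forall fun g => ?_
        obtain ⟨w, hw, hwg⟩ := hcov g⁻¹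
        exact ⟨w, hw, (g⁻¹ * w)⁻¹,
          (C.subgroupOf H).inv_mem (Subgroup.mem_subgroupOf.mpr ((hmemC _).mpr hwg)), by group⟩
      exact hcomp.index_eq_card
    have hCH : C ≤ H := inf_le_left
    rw [← Subgroup.relIndex_mul_index hCH, hrel]
    refine Nat.Coprime.mul_right ?_ (hidx.coprime_dvd_left (Subgroup.card_dvd_of_le hCH))
    have hFC : Nat.card (FixedPoints.subgroup Q H) = Nat.card C := by
      refine Nat.card_eq_of_bijective
        (fun f => (⟨(f.1 : G), (hmemC f.1).mpr fun q => f.2 q⟩ : C)) ⟨?_, ?_⟩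
      · intro a b hab
        exact Subtype.ext (Subtype.ext (congrArg Subtype.val hab :))
      · rintro ⟨x, hx⟩
        exact ⟨⟨⟨x, hx.1⟩, fun q => (hmemC ⟨x, hx.1⟩).mp hx q⟩, rfl⟩
    rw [← hFC]
    exact hcopI
  · refine Subgroup.isComplement'_of_disjoint_and_mul_eq_univ (disjoint_iff.mpr hdisj) ?_
    rw [← Subgroup.normal_mul, hMC, Subgroup.coe_top]

end Cfsg.Agent.S4151
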