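import Cfsg.Statements.S4154
import Cfsg.Agent.H76.FixedPoints

set_option autoImplicit false
open Cfsg

namespace Cfsg.Agent.S4154

/-- Let G be a finite group and α an automorphism of G such that every element of G is the product of an element fixed by α and an element of the form g⁻¹α(g). If N is a normal α-invariant subgroup, then the automorphism ᾱ induced on G/N has the same property, and every coset fixed by ᾱ contains an element fixed by α (so the fixed points of ᾱ are the images of the fixed points of α). -/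
theorem result {G : Type*} [Group G] [Finite G] (α : MulAut G)
    (hccp : ∀ x : G, ∃ c g : G, α c = c ∧ x = c * (g⁻¹ * α g))
    (N : Subgroup G) [N.Normal] (hN : ∀ n ∈ N, α n ∈ N) :
    (∀ x : G, ∃ c g : G, c⁻¹ * α c ∈ N ∧ x⁻¹ * (c * (g⁻¹ * α g)) ∈ N) ∧
    (∀ x : G, x⁻¹ * α x ∈ N → ∃ c : G, α c = c ∧ c⁻¹ * x ∈ N) := by
  classical
  refine ⟨fun x => ?_, fun x hx => ?_⟩
  · obtain ⟨c, g, hc, rfl⟩ := hccp x
    exact ⟨c, g, by rw [hc, inv_mul_cancel]; exact N.one_mem,
      by rw [inv_mul_cancel]; exact N.one_mem⟩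
  let β : G ⧸ N →* G ⧸ N := QuotientGroup.map N N α.toMonoidHom (fun n hn => hN n hn)
  set Cb := (MonoidHom.eqLocus α.toMonoidHom (MonoidHom.id G)).map (QuotientGroup.mk' N)
  set F := β.eqLocus (MonoidHom.id (G ⧸ N))
  have hle : Cb ≤ F := by
    rintro _ ⟨c, hc, rfl⟩
    show β (QuotientGroup.mk c) = QuotientGroup.mk c
    show (QuotientGroup.mk (α c) : G ⧸ N) = QuotientGroup.mk c
    exact congrArg _ (show α c = c from hc)
  set T := Set.range fun g : G ⧸ N => g⁻¹ * β g
  have h1 : Nat.card T * Nat.card F = Nat.card (G ⧸ N) :=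
    Cfsg.Agent.H76.card_range_mul_card_eqLocus β
  have h2 : Nat.card (G ⧸ N) ≤ Nat.card (T × Cb) := by
    refine Nat.card_le_card_of_surjective (fun a => (a.2 : G ⧸ N) * a.1.1) fun y => ?_
    obtain ⟨y, rfl⟩ := QuotientGroup.mk_surjective y
    obtain ⟨c, g, hc, rfl⟩ := hccp y
    exact ⟨(⟨_, (QuotientGroup.mk g : G ⧸ N), rfl⟩, ⟨_, c, hc, rfl⟩), rfl⟩
  rw [Nat.card_prod, ← h1] at h2
  have hT : 0 < Nat.card T := by
    rcases Nat.eq_zero_or_pos (Nat.card T) with h0 | h0
    · rw [h0, zero_mul] at h1; exact absurd h1.symm Nat.card_pos.ne'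
    · exact h0
  have hEq : Cb = F := Subgroup.eq_of_le_of_card_ge hle (Nat.le_of_mul_le_mul_left h2 hT)
  have hxF : (QuotientGroup.mk x : G ⧸ N) ∈ F := by
    show β (QuotientGroup.mk x) = QuotientGroup.mk x
    show (QuotientGroup.mk (α x) : G ⧸ N) = QuotientGroup.mk x
    exact (QuotientGroup.eq.mpr hx).symm
  rw [← hEq] at hxF
  obtain ⟨c, hc, hcx⟩ := hxF
  exact ⟨c, hc, QuotientGroup.eq.mp hcx⟩

end Cfsg.Agent.S4154
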