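import Cfsg.Statements.S4155
import Cfsg.Agent.H76.FPFSylow
import Cfsg.Agent.Cores.Fitting
import Cfsg.Agent.H41.Nilpotent
import Cfsg.Agent.Frobenius.FPFAut

set_option autoImplicit false
open Cfsg

namespace Cfsg.Agent.S4155

/-- Let G be a finite group and N a proper non-trivial normal nilpotent subgroup whose order is not a prime power, such that for every x outside N all elements of the coset xN have the same order as x. Then N is the Fitting subgroup of G, and for every prime q every Sylow q-subgroup of G/N is cyclic or generalized quaternion. -/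
theorem result {G : Type*} [Group G] [Finite G] (N : Subgroup G) [N.Normal] (hN1 : N ≠ ⊥) (hN2 : N ≠ ⊤)
    (heq : ∀ x : G, x ∉ N → ∀ n ∈ N, orderOf (x * n) = orderOf x)
    (hnil : Group.IsNilpotent N) (hnpp : ¬ IsPrimePow (Nat.card N)) :
    N = Cfsg.fittingSubgroup G ∧
    ∀ (q : ℕ) [Fact q.Prime] (Q : Sylow q (G ⧸ N)), IsCyclic (Q : Subgroup (G ⧸ N)) ∨ ∃ n : ℕ, Nonempty ((Q : Subgroup (G ⧸ N)) ≃* QuaternionGroup (2 ^ n)) := by
  classical
  -- an element of `q`-power order outside `N` centralises no element of another prime order of `N`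
  have key : ∀ (q r : ℕ), q.Prime → r.Prime → q ≠ r → ∀ x : G, x ∉ N →
      (∃ k, orderOf x = q ^ k) → ∀ n ∈ N, orderOf n = r → ¬ Commute x n := by
    rintro q r hq hr hqr x hx ⟨k, hk⟩ n hn hnr hc
    have h1 := heq x hx n hn
    rw [hc.orderOf_mul_eq_mul_orderOf_of_coprime (by
      rw [hk, hnr]; exact ((Nat.coprime_primes hq hr).mpr hqr).pow_left k), hnr] at h1
    exact hr.one_lt.ne' ((mul_eq_left₀ (orderOf_pos x).ne').mp h1)
  have hN1' : Nat.card N ≠ 1 := fun e => hN1 (Subgroup.eq_bot_of_card_eq _ e)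
  have hother : ∀ q : ℕ, ∃ r : ℕ, r.Prime ∧ r ≠ q ∧ r ∣ Nat.card N := by
    intro q
    by_contra hno
    push Not at hno
    apply hnpp
    have hq' : ∀ d : ℕ, d.Prime → d ∣ Nat.card N → d = q := fun d hd hdd =>
      not_not.mp fun hne => hno d hd hne hdd
    obtain ⟨d, hd, hdd⟩ := Nat.exists_prime_and_dvd hN1'
    have hqp : q.Prime := hq' d hd hdd ▸ hd
    refine ⟨q, (Nat.card N).primeFactorsList.length, hqp.prime, ?_,
      (Nat.eq_prime_pow_of_unique_prime_dvd Nat.card_pos.ne' fun {d} hd hdd => hq' d hd hdd).symm⟩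
    refine List.length_pos_of_ne_nil fun e => hN1' ?_
    rcases (Nat.primeFactorsList_eq_nil _).mp e with h0 | h1
    · exact absurd h0 Nat.card_pos.ne'
    · exact h1
  refine ⟨le_antisymm (Cfsg.Agent.Cores.le_fittingSubgroup hnil) ?_, fun q hq Q => ?_⟩
  · have hFn := Cfsg.Agent.Cores.fittingSubgroup_isNilpotent (G := G)
    have hle : N ≤ Cfsg.fittingSubgroup G := Cfsg.Agent.Cores.le_fittingSubgroup hnil
    by_contra hlt
    obtain ⟨d, hd, hdd⟩ : ∃ d : ℕ, d.Prime ∧
        d ∣ (N.subgroupOf (Cfsg.fittingSubgroup G)).index := by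
      refine Nat.exists_prime_and_dvd fun e => hlt ?_
      rw [Subgroup.index_eq_one, Subgroup.subgroupOf_eq_top] at e
      exact e
    have := Fact.mk hd
    obtain ⟨S⟩ : Nonempty (Sylow d (Cfsg.fittingSubgroup G)) := inferInstance
    obtain ⟨u, hu, huN⟩ : ∃ u ∈ (S : Subgroup (Cfsg.fittingSubgroup G)), (u : G) ∉ N := by
      by_contra hall
      push Not at hall
      exact S.not_dvd_index (hdd.trans (Subgroup.index_dvd_of_le fun u hu => hall u hu))
    obtain ⟨k, hk⟩ := IsPGroup.iff_orderOf.mp S.2 ⟨u, hu⟩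
    rw [Subgroup.orderOf_mk] at hk
    obtain ⟨r, hr, hrd, hrN⟩ := hother d
    have := Fact.mk hr
    obtain ⟨n, hn⟩ := exists_prime_orderOf_dvd_card' (G := N) r hrN
    refine key d r hd hr hrd.symm u huN ⟨k, by rw [Subgroup.orderOf_coe, hk]⟩ n n.2
      (by rw [Subgroup.orderOf_coe, hn]) ?_
    exact congrArg Subtype.val (Cfsg.Agent.H41.commute_of_coprime_orderOf hFn
      (x := u) (y := ⟨(n : G), hle n.2⟩) (by
        rw [hk, Subgroup.orderOf_mk, Subgroup.orderOf_coe, hn]
        exact ((Nat.coprime_primes hd hr).mpr hrd.symm).pow_left k)).eq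
  · obtain ⟨r, hr, hrq, hrN⟩ := hother q
    have := Fact.mk hr
    obtain ⟨R⟩ : Nonempty (Sylow r N) := inferInstance
    have hR0 : Nontrivial (R : Subgroup N) := by
      rw [← Finite.one_lt_card_iff_nontrivial, R.card_eq_multiplicity]
      exact Nat.one_lt_pow (hr.factorization_pos_of_dvd Nat.card_pos.ne' hrN).ne' hr.one_lt
    have := hnil
    have hRc : (R : Subgroup N).Characteristic :=
      R.characteristic_of_normal (Cfsg.Agent.Frobenius.sylow_normal_of_isNilpotent r R)
    set R' := (R : Subgroup N).map N.subtype with hR'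
    have : R'.Normal := Cfsg.Agent.Cores.map_subtype_normal
    set M := (Subgroup.center (R' : Subgroup G)).map R'.subtype with hM
    have : M.Normal := Cfsg.Agent.Cores.map_subtype_normal
    have hMN : M ≤ N := (Subgroup.map_subtype_le _).trans (Subgroup.map_subtype_le _)
    have hMR : IsPGroup r M :=
      ((R.2.map N.subtype).to_subgroup (Subgroup.center (R' : Subgroup G))).map R'.subtype
    have hMc : IsMulCommutative M := ⟨⟨fun a b => by
      obtain ⟨_, a, ha, rfl⟩ := a
      obtain ⟨_, b, hb, rfl⟩ := b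
      exact Subtype.ext (by simpa using congrArg Subtype.val (Subgroup.mem_center_iff.mp hb a))⟩⟩
    have : Nontrivial (R' : Subgroup G) :=
      (Subgroup.equivMapOfInjective _ N.subtype N.subtype_injective).toEquiv.nontrivial_congr.mp hR0
    have hR'p : IsPGroup r (R' : Subgroup G) := R.2.map N.subtype
    have := hR'p.center_nontrivial
    let _ : CommGroup M := { (inferInstance : Group M) with mul_comm := fun a b => hMc.is_comm.comm a b }
    have : Nontrivial M := (Subgroup.equivMapOfInjective _ R'.subtype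
      R'.subtype_injective).toEquiv.nontrivial_congr.mp inferInstance
    -- a Sylow subgroup over `Q`
    obtain ⟨S, hS⟩ := Sylow.mapSurjective_surjective (QuotientGroup.mk'_surjective N) q Q
    set ψ : (S : Subgroup G) →* MulAut M :=
      (MulAut.conjNormal (H := M)).comp (S : Subgroup G).subtype
    have hψ : ∀ s : (S : Subgroup G), ((s : G) ∈ N → ψ s = 1) ∧
        ((s : G) ∉ N → ∀ m : M, ψ s m = m → m = 1) := by
      intro s
      obtain ⟨k, hk⟩ := IsPGroup.iff_orderOf.mp S.2 s
      rw [← Subgroup.orderOf_coe] at hk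
      constructor
      · intro hsN
        refine MulEquiv.ext fun m => Subtype.ext ?_
        show (s : G) * m * (s : G)⁻¹ = m
        obtain ⟨l, hl⟩ := IsPGroup.iff_orderOf.mp hMR m
        have hc := congrArg Subtype.val (Cfsg.Agent.H41.commute_of_coprime_orderOf hnil
          (x := (⟨(s : G), hsN⟩ : N)) (y := ⟨(m : G), hMN m.2⟩) (by
            rw [Subgroup.orderOf_mk, Subgroup.orderOf_mk, hk, Subgroup.orderOf_coe, hl]
            exact ((Nat.coprime_primes Fact.out hr).mpr hrq.symm).pow k l)).eq
        simp only [Subgroup.coe_mul] at hc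
        rw [hc]; group
      · intro hsN m hm
        by_contra hm1
        obtain ⟨l, hl⟩ := IsPGroup.iff_orderOf.mp hMR m
        have hl0 : 0 < l := Nat.pos_of_ne_zero fun h0 => hm1 (orderOf_eq_one_iff.mp (by
          rw [hl, h0, pow_zero]))
        have hw : orderOf ((m : G) ^ (r ^ (l - 1))) = r := by
          rw [orderOf_pow' _ (pow_ne_zero _ hr.ne_zero), Subgroup.orderOf_coe, hl,
            Nat.gcd_eq_right (Nat.pow_dvd_pow r (Nat.sub_le l 1)),
            Nat.pow_div (Nat.sub_le l 1) hr.pos, show l - (l - 1) = 1 by omega, pow_one]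
        refine key q r Fact.out hr hrq.symm s hsN ⟨k, hk⟩ _ (pow_mem (hMN m.2) _) hw
          (Commute.pow_right ?_ _)
        exact mul_inv_eq_iff_eq_mul.mp (congrArg Subtype.val hm)
    -- the image acts without fixed points
    set π := (QuotientGroup.mk' N).subgroupMap (S : Subgroup G)
    have hker : π.ker ≤ ψ.ker := fun s hs => MonoidHom.mem_ker.mpr ((hψ s).1 (by
      rw [← QuotientGroup.eq_one_iff]
      exact congrArg Subtype.val (MonoidHom.mem_ker.mp hs)))
    let e := QuotientGroup.quotientKerEquivOfSurjective π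
      ((QuotientGroup.mk' N).subgroupMap_surjective (S : Subgroup G))
    let φ : (S : Subgroup G).map (QuotientGroup.mk' N) →* MulAut M :=
      (QuotientGroup.lift π.ker ψ hker).comp e.symm.toMonoidHom
    have hφ : Cfsg.Agent.Frobenius.IsFPF φ := by
      intro c hc m hm
      obtain ⟨s, rfl⟩ := (QuotientGroup.mk' N).subgroupMap_surjective (S : Subgroup G) c
      have he : e.symm (π s) = QuotientGroup.mk s := e.injective (by
        rw [MulEquiv.apply_symm_apply]; rfl)
      refine (hψ s).2 (fun hsN => hc (Subtype.ext ((QuotientGroup.eq_one_iff _).mpr hsN))) m ?_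
      have h2 : φ (π s) = ψ s := by
        show QuotientGroup.lift π.ker ψ hker (e.symm (π s)) = _
        rw [he]; rfl
      rw [← h2]; exact hm
    rcases Cfsg.Agent.H76.cyclic_or_quaternion_of_fpf hφ q (S.2.map _) with hc | ⟨-, n, ⟨g⟩⟩
    · rw [← hS]; exact Or.inl hc
    · rw [← hS]; exact Or.inr ⟨n, ⟨g⟩⟩

end Cfsg.Agent.S4155
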