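import Cfsg.Statements.S4156
import Cfsg.Agent.H76.PermRep

set_option autoImplicit false
open Cfsg

namespace Cfsg.Agent.S4156

/-- Let n ≥ 5 and F a finite field. Then the projective special linear group PSL_n(F) contains a subgroup isomorphic to the alternating group of degree n + 1. -/
theorem result (n : ℕ) (hn : 5 ≤ n) (F : Type*) [Field F] [Finite F] :
    ∃ f : alternatingGroup (Fin (n + 1)) →* Matrix.ProjectiveSpecialLinearGroup (Fin n) F, Function.Injective f := by
  classical
  have : IsSimpleGroup (alternatingGroup (Fin (n + 1))) :=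
    alternatingGroup.isSimpleGroup (by simp; omega)
  have hnc : ¬ IsMulCommutative (alternatingGroup (Fin (n + 1))) := by
    rw [alternatingGroup.isMulCommutative_iff_card_le_three]; simp; omega
  let D : alternatingGroup (Fin (n + 1)) →* Matrix (Fin n) (Fin n) F :=
    LinearMap.toMatrixAlgEquiv'.toAlgHom.toRingHom.toMonoidHom.comp
      ((Cfsg.Agent.H76.szRep n F).comp (alternatingGroup (Fin (n + 1))).subtype)
  have hDinj : Function.Injective D := LinearMap.toMatrixAlgEquiv'.injective.comp
    ((Cfsg.Agent.H76.szRep_injective n F (by omega)).comp Subtype.val_injective)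
  let d : alternatingGroup (Fin (n + 1)) →* F := Matrix.detMonoidHom.comp D
  have hd : ∀ s, d s = 1 := by
    intro s
    have hk := (inferInstance : d.toHomUnits.ker.Normal).eq_bot_or_eq_top
    rcases hk with hk | hk
    · refine absurd ⟨⟨fun a b => ?_⟩⟩ hnc
      exact (MonoidHom.ker_eq_bot_iff _).mp hk (by simp only [map_mul]; exact mul_comm _ _)
    · have h1 : s ∈ d.toHomUnits.ker := hk ▸ Subgroup.mem_top s
      simpa using congrArg Units.val (MonoidHom.mem_ker.mp h1)
  let S : alternatingGroup (Fin (n + 1)) →* Matrix.SpecialLinearGroup (Fin n) F :=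
    { toFun := fun s => ⟨D s, hd s⟩
      map_one' := Subtype.ext (map_one D)
      map_mul' := fun a b => Subtype.ext (map_mul D a b) }
  refine ⟨(QuotientGroup.mk' _).comp S, ?_⟩
  rcases (inferInstance : ((QuotientGroup.mk' (Subgroup.center
      (Matrix.SpecialLinearGroup (Fin n) F))).comp S).ker.Normal).eq_bot_or_eq_top with hk | hk
  · exact (MonoidHom.ker_eq_bot_iff _).mp hk
  · refine absurd ⟨⟨fun a b => ?_⟩⟩ hnc
    have hb : S b ∈ Subgroup.center (Matrix.SpecialLinearGroup (Fin n) F) := by
      rw [← QuotientGroup.eq_one_iff]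
      exact MonoidHom.mem_ker.mp (hk ▸ Subgroup.mem_top b)
    apply hDinj
    have h := congrArg Subtype.val (Subgroup.mem_center_iff.mp hb (S a))
    rw [map_mul, map_mul]
    exact h

end Cfsg.Agent.S4156
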