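import Cfsg.Statements.S4157
import Cfsg.Agent.PGroups.SubgroupCount
import Cfsg.Agent.S4477

set_option autoImplicit false
set_option linter.style.haveILetI false
set_option linter.unusedSectionVars false
open Cfsg

namespace Cfsg.Agent.S4157

open PGroups Subgroup
open scoped commutatorElement

universe u

theorem zero_two : (4 : ZMod (2 ^ 2)) = 0 := by decide

theorem parity {x : ZMod (2 ^ 2)} {n : ℕ} (h : x = 3 + 2 * (n : ZMod (2 ^ 2))) : (x = 3 ↔ Even n) ∧ (x = 1 ↔ Odd n) := by
  rcases Nat.even_or_odd n with ⟨t, rfl⟩ | ⟨t, rfl⟩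
  · have : x = 3 := by
      rw [h]; push_cast
      linear_combination (t : ZMod (2 ^ 2)) * zero_two
    refine ⟨⟨fun _ => ⟨t, rfl⟩, fun _ => this⟩, ⟨fun h1 => ?_, fun h1 => ?_⟩⟩
    · rw [this] at h1; exact absurd h1 (by decide)
    · exact absurd h1 (Nat.not_odd_iff_even.2 ⟨t, rfl⟩)
  · have : x = 1 := by
      rw [h]; push_cast
      linear_combination ((t : ZMod (2 ^ 2)) + 1) * zero_two
    refine ⟨⟨fun h1 => ?_, fun h1 => ?_⟩, ⟨fun _ => ⟨t, rfl⟩, fun _ => this⟩⟩
    · rw [this] at h1; exact absurd h1 (by decide)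
    · exact absurd h1 (Nat.not_even_iff_odd.2 ⟨t, rfl⟩)

theorem sum_ite_card {ι R : Type*} [CommRing R] (s : Finset ι) (P : ι → Prop) [DecidablePred P] (a b : R) :
    (∑ i ∈ s, if P i then a else b) = (s.card : R) * b + ((s.filter P).card : R) * (a - b) := by
  have e : ∀ i, (if P i then a else b) = b + if P i then a - b else 0 := fun i => by split <;> ring
  simp only [e, Finset.sum_add_distrib, Finset.sum_const, nsmul_eq_mul, Finset.sum_ite, mul_zero, add_zero]

variable {G : Type u} [Group G] [Finite G]

theorem odd_case {p : ℕ} [hp : Fact p.Prime] (hp2 : p ≠ 2) : ∀ (m : ℕ) (G : Type u) [Group G] [Finite G],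
    Nat.card G = p ^ m → ¬ IsCyclic G → ∀ k, 1 ≤ k → k < m → (sCount p G k : ZMod (p ^ 2)) = 1 + p := by
  intro m
  induction m with
  | zero => intro G _ _ _ _ k hk hkm; omega
  | succ m ih =>
    intro G _ _ hc hnc k hk hkm
    classical
    have hG := IsPGroup.of_card hc
    rcases (show k = m + 1 - 1 ∨ k + 2 ≤ m + 1 by omega) with rfl | hk2
    · exact sCount_maximal hc (by omega) hnc
    set c := ((maxSubs p G).filter fun M : Subgroup G => IsCyclic M).card
    have hsum := sum_sCount hc hnc hk2
    rw [Finset.sum_congr rfl fun (M : Subgroup G) hM => (show (sCount p M k : ZMod (p ^ 2)) =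
        if IsCyclic M then (1 : ZMod (p ^ 2)) else 1 + (p : ZMod (p ^ 2)) by
      have hMc : Nat.card M = p ^ m := card_of_index (i := 1) hc (by rw [pow_one]; exact mem_maxSubs.1 hM)
      split_ifs with hcy
      · rw [sCount_cyclic (p := p) hMc (by omega), Nat.cast_one]
      · exact ih M hMc hcy k hk (by omega)), sum_ite_card, card_maxSubs hG hnc] at hsum
    have hpp : (p : ZMod (p ^ 2)) * p = 0 := by rw [← Nat.cast_mul, ← sq, ZMod.natCast_self]
    suffices hcp : p ∣ c by
      obtain ⟨t, ht⟩ := hcp
      have ht' : (c : ZMod (p ^ 2)) = (p : ZMod (p ^ 2)) * t := by rw [ht, Nat.cast_mul]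
      linear_combination -hsum + (1 - (t : ZMod (p ^ 2))) * hpp + (-(p : ZMod (p ^ 2))) * ht'
    rcases Finset.eq_empty_or_nonempty ((maxSubs p G).filter fun M : Subgroup G => IsCyclic M) with h | ⟨A, hA⟩
    · simp [c, h]
    obtain ⟨hA, hAc⟩ := Finset.mem_filter.1 hA
    rw [mem_maxSubs] at hA
    set Om := Subgroup.closure {x : G | x ^ p = 1}
    obtain ⟨-, hOc, hOe⟩ := omega_of_cyclic_max hG hp2 hnc hAc hA
    have hiff : ∀ M ∈ maxSubs p G, IsCyclic M ↔ ¬ Om ≤ M := by
      intro M hM
      rw [mem_maxSubs] at hM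
      constructor
      · intro hcy hle
        haveI : IsCyclic Om := isCyclic_of_injective (Subgroup.inclusion hle) (Subgroup.inclusion_injective hle)
        obtain ⟨g, hg⟩ := IsCyclic.exists_generator (α := Om)
        have h1 : orderOf g = p ^ 2 := by
          rw [← hOc, ← Nat.card_zpowers, (eq_top_iff.2 fun a _ => hg a : zpowers g = ⊤), Subgroup.card_top]
        have h2 : orderOf g ∣ p := orderOf_dvd_of_pow_eq_one (Subtype.ext (hOe g g.2))
        rw [h1] at h2
        have := Nat.le_of_dvd hp.out.pos h2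
        nlinarith [hp.out.two_le]
      · intro hle
        by_contra hcy
        set B := (M ⊓ A).subgroupOf M
        have hMA : M ⊓ A ≤ M := inf_le_left
        haveI : IsCyclic B := by
          haveI : IsCyclic ↑(M ⊓ A) := isCyclic_of_injective (Subgroup.inclusion (inf_le_right : M ⊓ A ≤ A))
            (Subgroup.inclusion_injective _)
          exact isCyclic_of_injective (Subgroup.subgroupOfEquivOfLe hMA).toMonoidHom
            (Subgroup.subgroupOfEquivOfLe hMA).injective
        have hBi : B.index ∣ p := by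
          have h1 : (A.subgroupOf M).index ∣ A.index := by
            haveI := normal_of_index_eq hG hA
            exact Subgroup.relIndex_dvd_index_of_normal A M
          rw [show B = A.subgroupOf M from Subgroup.inf_subgroupOf_left A M]
          exact hA ▸ h1
        rcases hp.out.eq_one_or_self_of_dvd _ hBi with h | h
        · rw [Subgroup.index_eq_one] at h
          refine hcy ?_
          haveI : IsCyclic (⊤ : Subgroup M) := h ▸ ‹IsCyclic B›
          exact isCyclic_of_surjective (Subgroup.topEquiv (G := M)).toMonoidHom (Subgroup.topEquiv (G := M)).surjective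
        · obtain ⟨-, hc2, he2⟩ := omega_of_cyclic_max (hG.to_subgroup M) hp2 hcy ‹IsCyclic B› h
          refine hle ?_
          have hsub : (Subgroup.closure {x : M | x ^ p = 1}).map M.subtype ≤ Om := by
            rw [Subgroup.map_le_iff_le_comap, Subgroup.closure_le]
            exact fun v hv => Subgroup.subset_closure (congrArg Subtype.val hv :)
          have heq := Subgroup.eq_of_le_of_card_ge hsub (le_of_eq (by
            rw [Subgroup.card_map_of_injective M.subtype_injective, hc2, hOc]))
          rw [← heq]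
          exact Subgroup.map_subtype_le _
    have hOne : Om ≠ ⊤ := fun h => by
      have hOc' : Nat.card Om = p ^ 2 := hOc
      rw [h, Subgroup.card_top, hc] at hOc'
      have := Nat.pow_right_injective hp.out.two_le hOc'
      omega
    have hsplit := Finset.card_filter_add_card_filter_not (s := maxSubs p G) (fun M => Om ≤ M)
    have hcc : c = ((maxSubs p G).filter fun M => ¬ Om ≤ M).card :=
      congrArg Finset.card (Finset.filter_congr hiff)
    have hover := count_over hG Om hOne
    rw [show Nat.card {M : Subgroup G // M.index = p ∧ Om ≤ M} = ((maxSubs p G).filter fun M => Om ≤ M).card by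
      rw [← Nat.card_eq_finsetCard]
      exact Nat.card_congr (Equiv.subtypeEquivRight fun M => by simp [mem_maxSubs])] at hover
    have hmax := card_maxSubs hG hnc
    rw [← hsplit, ← hcc, Nat.cast_add, hover] at hmax
    have h0 := congrArg (ZMod.castHom (dvd_pow_self p two_ne_zero) (ZMod p)) hmax
    simp only [map_add, map_mul, map_one, map_natCast, ZMod.natCast_self, zero_mul, add_zero] at h0
    rwa [add_eq_left, ZMod.natCast_eq_zero_iff] at h0

/-! ### The prime two -/

local instance : Fact (Nat.Prime 2) := ⟨Nat.prime_two⟩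

theorem card_orderOf_two : Nat.card {x : G // orderOf x = 2} = sCount 2 G 1 := by
  refine Nat.card_congr (Equiv.ofBijective (fun x => ⟨zpowers x.1, by rw [Nat.card_zpowers, x.2, pow_one]⟩) ⟨?_, ?_⟩)
  · rintro ⟨x, hx⟩ ⟨y, hy⟩ h
    have hxy : x ∈ zpowers y := by
      rw [show zpowers y = zpowers x from (congrArg Subtype.val h).symm]; exact mem_zpowers x
    obtain ⟨i, hi⟩ := Subgroup.mem_zpowers_iff.1 hxy
    have hy2 : y ^ (2 : ℤ) = 1 := by rw [zpow_ofNat, ← hy]; exact pow_orderOf_eq_one y
    refine Subtype.ext ?_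
    rcases Int.even_or_odd' i with ⟨t, rfl | rfl⟩
    · exfalso
      rw [zpow_mul, hy2, one_zpow] at hi
      rw [← hi, orderOf_one] at hx
      exact absurd hx (by decide)
    · show x = y
      rw [← hi, zpow_add, zpow_mul, hy2, one_zpow, one_mul, zpow_one]
  · rintro ⟨H, hH⟩
    rw [pow_one] at hH
    haveI : IsCyclic H := isCyclic_of_prime_card hH
    obtain ⟨g, hg⟩ := IsCyclic.exists_generator (α := H)
    have ho : orderOf (g : G) = 2 := by
      rw [Subgroup.orderOf_coe, ← hH, ← Nat.card_zpowers, (eq_top_iff.2 fun a _ => hg a : zpowers g = ⊤),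
        Subgroup.card_top]
    exact ⟨⟨g, ho⟩, Subtype.ext (zpowers_eq_of_card_eq hH g.2 (fun h => by rw [h, orderOf_one] at ho; omega))⟩

theorem index_ge_four (hG : IsPGroup 2 G) (hnc : ¬ IsCyclic G) : 4 ≤ (commutator G).index := by
  obtain ⟨d, hd2, hd⟩ := two_le_of_not_cyclic hG hnc
  have h := Subgroup.index_dvd_of_le (commutator_le_frattini hG)
  rw [Subgroup.index_eq_card (H := frattini G), hd] at h
  exact le_trans (Nat.pow_le_pow_right two_pos hd2)
    (Nat.le_of_dvd (Nat.pos_of_ne_zero Subgroup.index_ne_zero_of_finite) h)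

theorem not_cyclic_of_maxClass {m : ℕ} (hm : 3 ≤ m) (hc : Nat.card G = 2 ^ m)
    (hcl : Group.nilpotencyClass G = m - 1) : ¬ IsCyclic G := fun h => by
  haveI := h
  letI : CommGroup G := IsCyclic.commGroup
  have := CommGroup.nilpotencyClass_le_one (G := G)
  omega

/-- A noncyclic maximal subgroup of a 2-group of maximal class has maximal class. -/
theorem maximal_of_maxClass {m : ℕ} (hm : 4 ≤ m) (hc : Nat.card G = 2 ^ m)
    (hcl : Group.nilpotencyClass G = m - 1) (M : Subgroup G) (hM : M.index = 2) (hMn : ¬ IsCyclic M) :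
    Group.nilpotencyClass M = m - 1 - 1 := by
  have hG := IsPGroup.of_card hc
  obtain ⟨c, hco⟩ := exists_cyclic_index_two m G (by omega) hc hcl
  have hMc : Nat.card M = 2 ^ (m - 1) := card_of_index (i := 1) hc (by rw [hM, pow_one])
  have hC : (zpowers c).index = 2 := by
    have h := (zpowers c).card_mul_index
    rw [Nat.card_zpowers, hco, hc, show m = m - 1 + 1 by omega, pow_succ, Nat.add_sub_cancel] at h
    exact Nat.eq_of_mul_eq_mul_left (by positivity) h
  haveI hCn := normal_of_index_eq hG hC
  obtain ⟨y, hyM, hyC⟩ : ∃ y ∈ M, y ∉ zpowers c := by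
    by_contra hall
    push Not at hall
    exact hMn (isCyclic_of_injective (Subgroup.inclusion hall) (Subgroup.inclusion_injective _))
  obtain ⟨r, hr⟩ := exists_conj_eq_zpow hCn y
  have hgen := sup_zpowers_eq_top hG hC hyC
  have hyc : ⁅y, c⁆ = c ^ (r - 1) := by
    rw [commutatorElement_def, hr, zpow_sub, zpow_one]
  haveI : (zpowers (c ^ (r - 1))).Normal := ⟨fun v hv g => by
    obtain ⟨i, rfl⟩ := Subgroup.mem_zpowers_iff.1 hv
    obtain ⟨e, he⟩ := exists_conj_eq_zpow hCn g
    refine ⟨e * i, ?_⟩
    show (c ^ (r - 1)) ^ (e * i) = g * (c ^ (r - 1)) ^ i * g⁻¹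
    rw [← conj_zpow, ← conj_zpow, he]
    simp only [← zpow_mul]
    congr 1
    ring⟩
  have hle := Subgroup.card_le_of_le (commutator_le_of_generators hgen (zpowers (c ^ (r - 1))) (by rw [hyc]; exact mem_zpowers _))
  rw [Nat.card_zpowers] at hle
  have hd : Nat.card (commutator G) = 2 ^ (m - 2) := by
    have h := (commutator G).card_mul_index
    rw [index_commutator_of_maxClass (by omega) hc hcl, hc, show m = m - 2 + 2 by omega, pow_add] at h
    exact Nat.eq_of_mul_eq_mul_right (by norm_num) h
  rw [hd] at hle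
  have hc2M : c ^ (2 : ℤ) ∈ M := by
    haveI := normal_of_index_eq hG hM
    rw [zpow_ofNat, ← hM]; exact M.pow_index_mem c
  -- the commutator subgroup of `M` contains the square of `c ^ (r - 1)`
  have hmem : (c ^ (r - 1)) ^ 2 ∈ (commutator M).map M.subtype := by
    refine ⟨⁅(⟨y, hyM⟩ : M), ⟨c ^ (2 : ℤ), hc2M⟩⁆, commutator_mem_commutator (mem_top _) (mem_top _), ?_⟩
    simp only [map_commutatorElement, Subgroup.coe_subtype]
    rw [commutatorElement_def, ← conj_zpow, hr, ← zpow_neg, ← zpow_mul, ← zpow_add, ← zpow_natCast, ← zpow_mul]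
    congr 1
    push_cast
    ring
  have h2 := Subgroup.card_le_of_le (zpowers_le.2 hmem)
  rw [Nat.card_zpowers, Subgroup.card_map_of_injective M.subtype_injective, orderOf_pow] at h2
  have h3 : 2 ^ (m - 3) ≤ Nat.card (commutator M) := by
    refine le_trans ?_ h2
    have hg : Nat.gcd (orderOf (c ^ (r - 1))) 2 ≤ 2 := Nat.le_of_dvd two_pos (Nat.gcd_dvd_right _ _)
    calc 2 ^ (m - 3) = 2 ^ (m - 2) / 2 := by
          rw [show m - 2 = m - 3 + 1 by omega, pow_succ, Nat.mul_div_cancel _ two_pos]
      _ ≤ orderOf (c ^ (r - 1)) / 2 := Nat.div_le_div_right hle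
      _ ≤ _ := Nat.div_le_div_left hg (Nat.pos_of_ne_zero fun h => by simp at h)
  refine maxClass_of_index_commutator (m - 1) M (by omega) hMc ?_
  have h := (commutator M).card_mul_index
  rw [hMc, show m - 1 = m - 3 + 2 by omega, pow_add] at h
  have hi := index_ge_four (hG.to_subgroup M) hMn
  nlinarith [Nat.two_pow_pos (m - 3)]

/-- A 2-group with a cyclic maximal subgroup and one of maximal class has maximal class. -/
theorem maxClass_of_pair {m : ℕ} (hm : 4 ≤ m) (hc : Nat.card G = 2 ^ m) (hnc : ¬ IsCyclic G) (A M : Subgroup G)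
    (hA : A.index = 2) (hAc : IsCyclic A) (hM : M.index = 2) (hMcl : Group.nilpotencyClass M = m - 1 - 1) :
    Group.nilpotencyClass G = m - 1 := by
  have hG := IsPGroup.of_card hc
  obtain ⟨a, ha⟩ := A.isCyclic_iff_exists_zpowers_eq_top.mp hAc
  subst ha
  have hMc : Nat.card M = 2 ^ (m - 1) := card_of_index (i := 1) hc (by rw [hM, pow_one])
  have hMn : ¬ IsCyclic M := not_cyclic_of_maxClass (by omega) hMc hMcl
  have hao : orderOf a = 2 ^ (m - 1) := by
    rw [← Nat.card_zpowers]; exact card_of_index (i := 1) hc (by rw [hA, pow_one])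
  haveI hAn := normal_of_index_eq hG hA
  haveI hMnn := normal_of_index_eq hG hM
  have hM' : Nat.card ((commutator M).map M.subtype) = 2 ^ (m - 3) := by
    rw [Subgroup.card_map_of_injective M.subtype_injective]
    have h := (commutator M).card_mul_index
    rw [index_commutator_of_maxClass (by omega) hMc hMcl, hMc, show m - 1 = m - 3 + 2 by omega, pow_add] at h
    exact Nat.eq_of_mul_eq_mul_right (by norm_num) h
  have hle' : (commutator M).map M.subtype ≤ commutator G := by
    rw [commutator_def, Subgroup.map_commutator]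
    exact Subgroup.commutator_mono le_top le_top
  have hG'A : commutator G ≤ zpowers a := commutator_le_of_index_dvd_sq (p := 2) _ (by rw [hA]; norm_num)
  refine maxClass_of_index_commutator m G (by omega) hc ?_
  obtain ⟨b, hb⟩ := IsPGroup.iff_card.1 (hG.to_subgroup (commutator G))
  have hmi := (commutator G).card_mul_index
  have hge : 2 ^ (m - 3) ≤ 2 ^ b := hb ▸ hM' ▸ Subgroup.card_le_of_le hle'
  have hb3 : m - 3 ≤ b := (Nat.pow_le_pow_iff_right one_lt_two).1 hge
  have hb2 : b ≤ m - 2 := by
    by_contra hlt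
    have h4 := index_ge_four hG hnc
    rw [hb, hc] at hmi
    have h5 : 2 ^ (m - 1) * 4 ≤ 2 ^ b * (commutator G).index :=
      Nat.mul_le_mul (Nat.pow_le_pow_right two_pos (by omega)) h4
    rw [hmi, show (4 : ℕ) = 2 ^ 2 by norm_num, ← pow_add, Nat.pow_le_pow_iff_right one_lt_two] at h5
    omega
  rcases (show b = m - 2 ∨ b = m - 3 by omega) with rfl | rfl
  · rw [hb, hc, show 2 ^ m = 2 ^ (m - 2) * 4 by
      rw [show (4 : ℕ) = 2 ^ 2 by norm_num, ← pow_add, show m - 2 + 2 = m by omega]] at hmi
    exact Nat.eq_of_mul_eq_mul_left (by positivity) hmi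
  exfalso
  -- then the derived subgroup is generated by `a ^ 4`, and that of `M` is smaller
  obtain ⟨y, hyM, hyA⟩ : ∃ y ∈ M, y ∉ zpowers a := by
    by_contra hall
    push Not at hall
    exact hMn (isCyclic_of_injective (Subgroup.inclusion hall) (Subgroup.inclusion_injective _))
  have heq : commutator G = zpowers (a ^ 4) := by
    refine Subgroup.eq_of_le_of_card_ge (fun v hv => ?_) (le_of_eq ?_)
    · obtain ⟨i, rfl⟩ := Subgroup.mem_zpowers_iff.1 (hG'A hv)
      have h1 : (a ^ i) ^ ((2 : ℤ) ^ (m - 3)) = 1 := by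
        have h2 := congrArg Subtype.val (pow_card_eq_one' (x := (⟨a ^ i, hv⟩ : commutator G)))
        rw [hb] at h2
        rw [show (2 : ℤ) ^ (m - 3) = ((2 ^ (m - 3) : ℕ) : ℤ) by push_cast; rfl, zpow_natCast]
        exact h2
      rw [← zpow_mul, zpow_eq_one_iff_dvd hao, show m - 1 = 2 + (m - 3) by omega] at h1
      push_cast at h1
      rw [pow_add] at h1
      obtain ⟨j, rfl⟩ := Int.dvd_of_mul_dvd_mul_right (by positivity) h1
      refine ⟨j, ?_⟩
      show (a ^ 4) ^ j = a ^ _
      rw [← zpow_natCast, ← zpow_mul]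
      norm_num
    · rw [Nat.card_zpowers, orderOf_pow, hao, hb, show m - 1 = m - 3 + 2 by omega, pow_add]
      norm_num
  obtain ⟨i, hi⟩ := Subgroup.mem_zpowers_iff.1
    (heq ▸ commutator_mem_commutator (mem_top y) (mem_top a) : ⁅y, a⁆ ∈ zpowers (a ^ 4))
  have hconj : y * a * y⁻¹ = a ^ (1 + 4 * i) := by
    rw [show y * a * y⁻¹ = ⁅y, a⁆ * a by simp only [commutatorElement_def]; group, ← hi, ← zpow_natCast,
      ← zpow_mul, ← zpow_add_one]
    congr 1
    push_cast
    ring
  have ha2 : a ^ 2 ∈ M := by rw [← hM]; exact M.pow_index_mem a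
  set c : M := ⟨a ^ 2, ha2⟩
  set y' : M := ⟨y, hyM⟩
  have hgen : zpowers c ⊔ zpowers y' = ⊤ := by
    refine sup_zpowers_eq_top (hG.to_subgroup M) ?_ (fun h => hyA ?_)
    · have h := (zpowers c).card_mul_index
      rw [Nat.card_zpowers, ← Subgroup.orderOf_coe, show ((c : M) : G) = a ^ 2 from rfl, orderOf_pow, hao, hMc,
        Nat.gcd_eq_right (dvd_pow_self 2 (by omega))] at h
      rw [show m - 1 = m - 2 + 1 by omega, pow_succ, Nat.mul_div_cancel _ two_pos] at h
      exact Nat.eq_of_mul_eq_mul_left (by positivity) h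
    · obtain ⟨j, hj⟩ := Subgroup.mem_zpowers_iff.1 h
      have : (a ^ 2) ^ j = y := congrArg Subtype.val hj
      rw [← this]
      exact zpow_mem (pow_mem (mem_zpowers a) 2) j
  haveI : ((zpowers (a ^ 8)).subgroupOf M).Normal := ⟨fun v hv g => by
    rw [Subgroup.mem_subgroupOf] at hv ⊢
    obtain ⟨j, hj⟩ := Subgroup.mem_zpowers_iff.1 hv
    obtain ⟨e, he⟩ := exists_conj_eq_zpow hAn (g : G)
    refine ⟨e * j, ?_⟩
    show (a ^ 8) ^ (e * j) = _
    rw [Subgroup.coe_mul, Subgroup.coe_mul, Subgroup.coe_inv, ← hj, ← conj_zpow, ← conj_pow, he, zpow_mul]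
    congr 1
    rw [← zpow_natCast, ← zpow_natCast, ← zpow_mul, ← zpow_mul, mul_comm]⟩
  have hN : ⁅y', c⁆ ∈ (zpowers (a ^ 8)).subgroupOf M := by
    rw [Subgroup.mem_subgroupOf]
    refine ⟨i, ?_⟩
    show (a ^ 8) ^ i = y * a ^ 2 * y⁻¹ * (a ^ 2)⁻¹
    rw [← conj_pow, hconj]
    simp only [← zpow_natCast, ← zpow_mul, ← zpow_neg, ← zpow_add]
    congr 1
    push_cast
    ring
  have h8 := Subgroup.card_le_of_le ((Subgroup.map_mono (commutator_le_of_generators hgen _ hN)).trans
    ((Subgroup.subgroupOf_map_subtype _ _).le.trans inf_le_left))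
  rw [hM', Nat.card_zpowers, orderOf_pow, hao] at h8
  rcases Nat.lt_or_ge m 5 with h5 | h5
  · obtain rfl : m = 4 := by omega
    norm_num at h8
  · rw [show Nat.gcd (2 ^ (m - 1)) 8 = 2 ^ 3 from Nat.gcd_eq_right (pow_dvd_pow 2 (show 3 ≤ m - 1 by omega)),
      show m - 1 = m - 4 + 3 by omega, pow_add, Nat.mul_div_cancel _ (by norm_num),
      Nat.pow_le_pow_iff_right one_lt_two] at h8
    omega

/-- The counts in a 2-group of maximal class. -/
theorem maxClass_count : ∀ (m : ℕ) (G : Type u) [Group G] [Finite G], 3 ≤ m → Nat.card G = 2 ^ m →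
    Group.nilpotencyClass G = m - 1 →
    (sCount 2 G (m - 1) : ZMod (2 ^ 2)) = 3 ∧ ∀ k, 1 ≤ k → k + 2 ≤ m → (sCount 2 G k : ZMod (2 ^ 2)) = 1 := by
  intro m
  induction m with
  | zero => intro G _ _ h; omega
  | succ m ih =>
    intro G _ _ hm hc hcl
    classical
    have hG := IsPGroup.of_card hc
    have hnc := not_cyclic_of_maxClass hm hc hcl
    have htop : (sCount 2 G (m + 1 - 1) : ZMod (2 ^ 2)) = 3 := by
      rw [sCount_maximal hc (by omega) hnc]; norm_num
    refine ⟨htop, fun k hk hk2 => ?_⟩
    rcases (show m = 2 ∨ 3 ≤ m by omega) with rfl | hm3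
    · -- order eight
      obtain rfl : k = 1 := by omega
      rw [← card_orderOf_two]
      obtain ⟨c, hco⟩ := exists_cyclic_index_two 3 G le_rfl hc hcl
      obtain ⟨hZ, -, -⟩ := card_center_of_maxClass (le_refl 3) hc hcl
      cases nonempty_fintype G
      rw [Nat.card_eq_fintype_card, Fintype.card_subtype]
      set C := zpowers c
      have hCc : Nat.card C = 4 := by rw [Nat.card_zpowers, hco]; norm_num
      have hC : C.index = 2 := by
        have h := C.card_mul_index
        rw [hCc, hc] at h
        norm_num at h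
        omega
      haveI := normal_of_index_eq hG hC
      have hsplit := Finset.card_filter_add_card_filter_not
        (s := Finset.univ.filter fun x : G => orderOf x = 2) (fun x => x ∈ C)
      rw [Finset.filter_filter, Finset.filter_filter] at hsplit
      have hin : (Finset.univ.filter fun x : G => orderOf x = 2 ∧ x ∈ C).card = 1 := by
        rw [Finset.card_eq_one]
        refine ⟨c ^ 2, Finset.ext fun x => ?_⟩
        have hc2 : orderOf (c ^ 2) = 2 := by rw [orderOf_pow, hco]; norm_num
        simp only [Finset.mem_filter, Finset.mem_univ, true_and, Finset.mem_singleton]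
        refine ⟨fun ⟨ho, hx⟩ => eq_of_sq_eq_one (H := C) inferInstance hx (pow_mem (mem_zpowers c) 2) ?_ ?_ ?_ ?_,
          fun h => h ▸ ⟨hc2, pow_mem (mem_zpowers c) 2⟩⟩
        · rw [← ho]; exact pow_orderOf_eq_one x
        · rw [← orderOf_dvd_iff_pow_eq_one, hc2]
        · intro h; rw [h, orderOf_one] at ho; omega
        · intro h; rw [h, orderOf_one] at hc2; omega
      have hout : (Finset.univ.filter fun x : G => x ∉ C).card = 4 := by
        have h := Finset.card_filter_add_card_filter_not (s := (Finset.univ : Finset G)) (fun x => x ∈ C)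
        rw [Finset.card_univ, ← Nat.card_eq_fintype_card, hc] at h
        have h2 : (Finset.univ.filter fun x : G => x ∈ C).card = 4 := by
          rw [← hCc, Nat.card_eq_fintype_card, Fintype.card_subtype]
        norm_num at h
        omega
      have hsq : ∀ x y : G, x ∉ C → y ∉ C → x ^ 2 = y ^ 2 := by
        intro x y hx hy
        have hxy : x⁻¹ * y ∈ C := by
          rw [Subgroup.mul_mem_iff_of_index_two hC, inv_mem_iff]
          exact iff_of_false hx hy
        obtain ⟨j, hj⟩ := Subgroup.mem_zpowers_iff.1 hxy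
        obtain ⟨r, hr⟩ := exists_conj_eq_zpow (c := c) ‹_› x⁻¹
        rw [inv_inv] at hr
        -- conjugation inverts `c`
        have hgen := sup_zpowers_eq_top hG hC hx
        have hinv : x⁻¹ * c * x = c⁻¹ := by
          rw [hr, ← zpow_neg_one, zpow_eq_zpow_iff_dvd hco]
          norm_num
          by_contra h4
          have hodd : Odd r := by
            rcases Int.even_or_odd r with ⟨t, rfl⟩ | h
            · exfalso
              have h1 : (x⁻¹ * c * x) ^ 2 = 1 := by
                rw [hr, ← zpow_natCast, ← zpow_mul, zpow_eq_one_iff_dvd hco]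
                push_cast
                norm_num
                exact ⟨t, by ring⟩
              have h2 : c ^ 2 = 1 := by
                calc c ^ 2 = x * (x⁻¹ * c * x) ^ 2 * x⁻¹ := by rw [pow_two, pow_two]; group
                  _ = 1 := by rw [h1]; group
              have := orderOf_dvd_of_pow_eq_one h2
              rw [hco] at this
              norm_num at this
            · exact h
          obtain ⟨t, rfl⟩ := hodd
          have hcomm : x⁻¹ * c * x = c := by
            rw [hr]
            conv_rhs => rw [← zpow_one c]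
            rw [zpow_eq_zpow_iff_dvd hco]
            norm_num
            rcases Int.even_or_odd' t with ⟨s, rfl | rfl⟩
            · exact ⟨s, by ring⟩
            · exact absurd ⟨-(s + 1), by ring⟩ h4
          have hcz : c ∈ center G := by
            have hle : C ⊔ zpowers x ≤ centralizer ({c} : Set G) := sup_le
              (zpowers_le.2 (Subgroup.mem_centralizer_iff.2 fun v hv => by rw [Set.mem_singleton_iff.1 hv]))
              (zpowers_le.2 (Subgroup.mem_centralizer_iff.2 fun v hv => by
                rw [Set.mem_singleton_iff.1 hv]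
                calc c * x = x * (x⁻¹ * c * x) := by group
                  _ = x * c := by rw [hcomm]))
            refine Subgroup.mem_center_iff.2 fun g => ?_
            have hg : g ∈ centralizer ({c} : Set G) := hle (hgen ▸ mem_top g)
            exact (Subgroup.mem_centralizer_iff.1 hg c rfl).symm
          have := Subgroup.card_le_of_le (zpowers_le.2 hcz)
          rw [hCc, hZ] at this
          omega
        have hy' : y = x * c ^ j := by rw [hj, mul_inv_cancel_left]
        rw [hy', pow_two, pow_two, show x * c ^ j * (x * c ^ j) = x * x * ((x⁻¹ * c ^ j * x) * c ^ j) by group,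
          show x⁻¹ * c ^ j * x = (x⁻¹ * c * x) ^ j by
            rw [show x⁻¹ * c * x = x⁻¹ * c * x⁻¹⁻¹ by rw [inv_inv], conj_zpow, inv_inv],
          hinv, inv_zpow, inv_mul_cancel, mul_one]
      have h3 : (Finset.univ.filter fun x : G => orderOf x = 2 ∧ x ∉ C).card = 0 ∨
          (Finset.univ.filter fun x : G => orderOf x = 2 ∧ x ∉ C).card = 4 := by
        by_cases hex : ∃ x : G, x ∉ C ∧ orderOf x = 2
        · obtain ⟨x, hx, hxo⟩ := hex
          refine Or.inr (hout ▸ congrArg Finset.card (Finset.filter_congr fun y _ =>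
            ⟨fun h => h.2, fun hy => ⟨orderOf_eq_prime ?_ (fun h => hy (h ▸ one_mem C)), hy⟩⟩))
          rw [hsq y x hy hx, ← hxo]; exact pow_orderOf_eq_one x
        · push Not at hex
          exact Or.inl (Finset.card_eq_zero.2 (Finset.filter_eq_empty_iff.2 fun x _ h => hex x h.2 h.1))
      rw [← hsplit, hin]
      rcases h3 with h3 | h3 <;> rw [h3] <;> decide
    -- larger order
    have hmax : ∀ M ∈ maxSubs 2 G, Nat.card M = 2 ^ m := fun M hM =>
      card_of_index (i := 1) hc (by rw [pow_one]; exact mem_maxSubs.1 hM)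
    have hclM : ∀ M ∈ maxSubs 2 G, ¬ IsCyclic M → Group.nilpotencyClass M = m - 1 := fun M hM hMn => by
      simpa using maximal_of_maxClass (m := m + 1) (by omega) hc hcl M (mem_maxSubs.1 hM) hMn
    have hnum := card_maxSubs (p := 2) hG hnc
    have hsum := sum_sCount hc hnc hk2
    rcases (show k + 2 ≤ m ∨ k = m - 1 by omega) with hk3 | rfl
    · rw [Finset.sum_congr rfl fun (M : Subgroup G) hM => (show (sCount 2 M k : ZMod (2 ^ 2)) = 1 by
        by_cases hcy : IsCyclic M
        · rw [sCount_cyclic (p := 2) (hmax M hM) (by omega), Nat.cast_one]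
        · exact (ih M hm3 (hmax M hM) (hclM M hM hcy)).2 k hk hk3), Finset.sum_const, nsmul_eq_mul, mul_one,
        hnum] at hsum
      linear_combination -hsum
    rw [Finset.sum_congr rfl fun (M : Subgroup G) hM => (show (sCount 2 M (m - 1) : ZMod (2 ^ 2)) = if IsCyclic M then (1 : ZMod (2 ^ 2)) else 3 by
      split_ifs with hcy
      · rw [sCount_cyclic (p := 2) (hmax M hM) (by omega), Nat.cast_one]
      · exact (ih M hm3 (hmax M hM) (hclM M hM hcy)).1), sum_ite_card, hnum] at hsum
    have hC1 : ((maxSubs 2 G).filter fun M : Subgroup G => IsCyclic M).card = 1 := by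
      obtain ⟨c, hco⟩ := exists_cyclic_index_two (m + 1) G hm hc hcl
      have hci : (zpowers c).index = 2 := by
        have h := (zpowers c).card_mul_index
        rw [Nat.card_zpowers, hco, hc, Nat.add_sub_cancel, pow_succ] at h
        exact Nat.eq_of_mul_eq_mul_left (by positivity) h
      rw [Finset.card_eq_one]
      refine ⟨zpowers c, Finset.ext fun M => ⟨fun hM => Finset.mem_singleton.2 ?_, fun hM =>
        Finset.mem_singleton.1 hM ▸ Finset.mem_filter.2 ⟨mem_maxSubs.2 hci, inferInstance⟩⟩⟩
      obtain ⟨hM, hMcy⟩ := Finset.mem_filter.1 hM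
      rw [mem_maxSubs] at hM
      obtain ⟨b, rfl⟩ := M.isCyclic_iff_exists_zpowers_eq_top.mp hMcy
      by_contra hne
      haveI := normal_of_index_eq hG hci
      haveI := normal_of_index_eq hG hM
      have hb : b ∉ zpowers c := fun h => hne (Subgroup.eq_of_le_of_card_ge (zpowers_le.2 h) (le_of_eq (by
        rw [card_of_index (i := 1) hc (by rw [hci, pow_one]), card_of_index (i := 1) hc (by rw [hM, pow_one])])))
      have hgen := sup_zpowers_eq_top hG hci hb
      obtain ⟨hZ, -, -⟩ := card_center_of_maxClass (n := m + 1) hm hc hcl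
      have hcen : c ^ 2 ∈ center G := by
        have hcb : c ^ 2 ∈ zpowers b := hM ▸ (zpowers b).pow_index_mem c
        have hle : zpowers c ⊔ zpowers b ≤ centralizer ({c ^ 2} : Set G) := sup_le
          (zpowers_le.2 (Subgroup.mem_centralizer_iff.2 fun v hv => by
            rw [Set.mem_singleton_iff.1 hv]; exact ((Commute.refl c).pow_left 2).eq))
          (zpowers_le.2 (Subgroup.mem_centralizer_iff.2 fun v hv => by
            rw [Set.mem_singleton_iff.1 hv]
            obtain ⟨j, hj⟩ := Subgroup.mem_zpowers_iff.1 hcb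
            rw [← hj]; exact ((Commute.refl b).zpow_left j).eq))
        exact Subgroup.mem_center_iff.2 fun g =>
          (Subgroup.mem_centralizer_iff.1 (hle (hgen ▸ mem_top g)) (c ^ 2) rfl).symm
      have := Subgroup.card_le_of_le (zpowers_le.2 hcen)
      rw [Nat.card_zpowers, orderOf_pow, hco, hZ, Nat.add_sub_cancel,
        Nat.gcd_eq_right (dvd_pow_self 2 (by omega)), show m = m - 1 + 1 by omega, pow_succ,
        Nat.mul_div_cancel _ two_pos] at this
      have h4 : 2 ^ 2 ≤ 2 ^ (m - 1) := Nat.pow_le_pow_right two_pos (by omega)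
      omega
    rw [hC1] at hsum
    push_cast at hsum ⊢
    linear_combination -hsum + zero_two

theorem two_case : ∀ (m : ℕ) (G : Type u) [Group G] [Finite G], Nat.card G = 2 ^ m → ¬ IsCyclic G →
    Group.nilpotencyClass G ≠ m - 1 → ∀ k, 1 ≤ k → k < m → (sCount 2 G k : ZMod (2 ^ 2)) = 3 := by
  intro m
  induction m with
  | zero => intro G _ _ _ _ _ k hk hkm; omega
  | succ m ih =>
    intro G _ _ hc hnc hncl k hk hkm
    classical
    have hG := IsPGroup.of_card hc
    rcases (show k = m + 1 - 1 ∨ k + 2 ≤ m + 1 by omega) with hkeq | hk2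
    · rw [hkeq, sCount_maximal hc (by omega) hnc]; norm_num
    have hinv : (sCount 2 G 1 : ZMod (2 ^ 2)) = 3 := by
      have h2 : sCount 2 G 1 % 2 = 1 := sCount_modEq_one hc (by omega)
      have hne : sCount 2 G 1 % 4 ≠ 1 := fun h4 => by
        rcases S4477.result hG (by rw [card_orderOf_two]; exact h4) with h | h
        · exact hnc h
        · exact hncl (maxClass_of_index_commutator (m + 1) G (by omega) hc h)
      rw [← ZMod.natCast_mod, show sCount 2 G 1 % 2 ^ 2 = 3 by norm_num; omega]
      norm_num
    rcases (show m = 2 ∨ 3 ≤ m by omega) with rfl | hm3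
    · obtain rfl : k = 1 := by omega
      exact hinv
    have hmax : ∀ M ∈ maxSubs 2 G, Nat.card M = 2 ^ m := fun M hM =>
      card_of_index (i := 1) hc (by rw [pow_one]; exact mem_maxSubs.1 hM)
    have hnum := card_maxSubs (p := 2) hG hnc
    set bad : Subgroup G → Prop := fun M => IsCyclic M ∨ Group.nilpotencyClass M = m - 1
    set B := ((maxSubs 2 G).filter bad).card
    set C := ((maxSubs 2 G).filter fun M : Subgroup G => IsCyclic M).card
    have hlow : ∀ k, 1 ≤ k → k + 2 ≤ m → ((sCount 2 G k : ZMod (2 ^ 2)) = 3 ↔ Even B) := by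
      intro k hk hk3
      have hsum := sum_sCount hc hnc (show k + 2 ≤ m + 1 by omega)
      rw [Finset.sum_congr rfl fun (M : Subgroup G) hM => (show (sCount 2 M k : ZMod (2 ^ 2)) = if bad M then (1 : ZMod (2 ^ 2)) else 3 by
        split_ifs with hb
        · rcases hb with hb | hb
          · rw [sCount_cyclic (p := 2) (hmax M hM) (by omega), Nat.cast_one]
          · exact (maxClass_count m M hm3 (hmax M hM) hb).2 k hk hk3
        · rw [not_or] at hb
          exact ih M (hmax M hM) hb.1 hb.2 k hk (by omega)), sum_ite_card, hnum] at hsum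
      refine (parity ?_).1
      push_cast at hsum ⊢
      linear_combination -hsum + (1 - (B : ZMod (2 ^ 2))) * zero_two
    have hBeven : Even B := (hlow 1 le_rfl (by omega)).1 hinv
    rcases (show k + 2 ≤ m ∨ k = m - 1 by omega) with hk3 | rfl
    · exact (hlow k hk hk3).2 hBeven
    have hsum := sum_sCount hc hnc hk2
    rw [Finset.sum_congr rfl fun (M : Subgroup G) hM => (show (sCount 2 M (m - 1) : ZMod (2 ^ 2)) = if IsCyclic M then (1 : ZMod (2 ^ 2)) else 3 by
      split_ifs with hcy
      · rw [sCount_cyclic (p := 2) (hmax M hM) (by omega), Nat.cast_one]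
      · rw [sCount_maximal (hmax M hM) (by omega) hcy]; norm_num), sum_ite_card, hnum] at hsum
    refine (parity (n := C) ?_).1.2 ?_
    · push_cast at hsum ⊢
      linear_combination -hsum + (1 - (C : ZMod (2 ^ 2))) * zero_two
    by_contra hodd
    rw [Nat.not_even_iff_odd] at hodd
    have hsub : (maxSubs 2 G).filter (fun M : Subgroup G => IsCyclic M) ⊆ (maxSubs 2 G).filter bad := fun M hM =>
      Finset.mem_filter.2 ⟨(Finset.mem_filter.1 hM).1, Or.inl (Finset.mem_filter.1 hM).2⟩
    have hne : (maxSubs 2 G).filter (fun M : Subgroup G => IsCyclic M) ≠ (maxSubs 2 G).filter bad := fun h => by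
      have : C = B := congrArg Finset.card h
      exact Nat.not_even_iff_odd.2 hodd (this ▸ hBeven)
    obtain ⟨M, hM, hM'⟩ := Finset.exists_of_ssubset (lt_of_le_of_ne hsub hne)
    obtain ⟨hMs, hMb⟩ := Finset.mem_filter.1 hM
    rcases hMb with hMb | hMb
    · exact hM' (Finset.mem_filter.2 ⟨hMs, hMb⟩)
    obtain ⟨A, hA⟩ := Finset.card_pos.1 (show 0 < C from hodd.pos)
    obtain ⟨hAs, hAc⟩ := Finset.mem_filter.1 hA
    exact hncl (maxClass_of_pair (m := m + 1) (by omega) hc hnc A M (mem_maxSubs.1 hAs) hAc (mem_maxSubs.1 hMs)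
      (by simpa using hMb))

/-- Let G be a finite p-group of order p^m that is not cyclic and, when p = 2, not of maximal class (nilpotency class m − 1). Then for every 1 ≤ k < m the number of subgroups of G of order p^k is congruent to 1 + p modulo p². -/
theorem result {G : Type*} [Group G] [Finite G] {p : ℕ} [Fact p.Prime] (m : ℕ)
    (hG : Nat.card G = p ^ m) (hnc : ¬ IsCyclic G) (h2 : p = 2 → Group.nilpotencyClass G ≠ m - 1)
    (k : ℕ) (hk1 : 1 ≤ k) (hk2 : k < m) :
    Nat.card {H : Subgroup G // Nat.card H = p ^ k} ≡ 1 + p [MOD p ^ 2] := by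
  rw [← ZMod.natCast_eq_natCast_iff]
  push_cast
  rcases eq_or_ne p 2 with rfl | hp2
  · refine (two_case m G hG hnc (h2 rfl) k hk1 hk2).trans ?_
    norm_num
  · exact odd_case hp2 m G hG hnc k hk1 hk2

end Cfsg.Agent.S4157
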