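import Cfsg.Statements.S4163
-- import your own Cfsg.Agent.* helpers here

set_option autoImplicit false
open Cfsg
open scoped commutatorElement

namespace Cfsg.Agent.S4163

/-- Let G be a finite group with a normal abelian subgroup A satisfying C_G(A) = A. Suppose some conjugacy class of G has size greater than 1, let m be the smallest such size, and let M be the subgroup generated by the elements whose class has size 1 or m. Then M is nilpotent of class at most 3. -/
theorem result {G : Type*} [Group G] [Finite G]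
    (A : Subgroup G) [A.Normal] (hA : IsMulCommutative A) (hCA : Subgroup.centralizer (A : Set G) = A)
    (m : ℕ) (hm1 : 1 < m) (hm : ∃ x : G, (Subgroup.centralizer ({x} : Set G)).index = m) (hmin : ∀ x : G, 1 < (Subgroup.centralizer ({x} : Set G)).index → m ≤ (Subgroup.centralizer ({x} : Set G)).index) :
    Subgroup.upperCentralSeries ↥(Subgroup.closure {x : G | (Subgroup.centralizer ({x} : Set G)).index = 1 ∨ (Subgroup.centralizer ({x} : Set G)).index = m}) 3 = ⊤ := by
  classical
  have key : ∀ a ∈ A, ∀ x : G, ((Subgroup.centralizer ({x} : Set G)).index = 1 ∨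
      (Subgroup.centralizer ({x} : Set G)).index = m) → ⁅a, x⁆ ∈ Subgroup.center G := by
    intro a ha x hx
    set B := Subgroup.centralizer ({x} : Set G) with hB
    rcases hx with hx | hx
    · have hxc : x ∈ Subgroup.center G := by
        rw [Subgroup.mem_center_iff]
        intro g
        have : g ∈ B := by rw [Subgroup.index_eq_one.mp hx]; trivial
        exact (Subgroup.mem_centralizer_iff.mp this x rfl).symm
      rw [commutatorElement_eq_one_iff_mul_comm.mpr (Subgroup.mem_center_iff.mp hxc a)]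
      exact one_mem _
    set c := ⁅a, x⁆ with hc
    have hcA : c ∈ A := by
      rw [hc, commutatorElement_def]
      have := A.mul_mem ha (‹A.Normal›.conj_mem _ (A.inv_mem ha) x)
      simpa [mul_assoc] using this
    have hBx : ∀ b ∈ B, b * x * b⁻¹ = x := fun b hb => by
      rw [← Subgroup.mem_centralizer_iff.mp hb x rfl, mul_inv_cancel_right]
    by_contra hcen
    have hc1 : c ≠ 1 := fun h => hcen (h ▸ one_mem _)
    let R : Set G := Set.range fun a' : A => ⁅(a' : G), x⁆
    have hR1 : (1 : G) ∈ R := ⟨1, commutatorElement_one_left x⟩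
    let T : Set G := Set.range fun qr : (G ⧸ (A ⊔ B)) × ↥(R \ {1}) =>
      qr.1.out * (qr.2 : G) * qr.1.out⁻¹
    have horb : ∀ g : G, g * c * g⁻¹ ∈ T := by
      intro g
      obtain ⟨n, hn⟩ := QuotientGroup.mk_out_eq_mul (A ⊔ B) g
      obtain ⟨a', ha', b, hb, hab⟩ :=
        Subgroup.mem_sup_of_normal_left.mp ((A ⊔ B).inv_mem n.2)
      set q : G ⧸ (A ⊔ B) := QuotientGroup.mk g with hq
      have hg : g = q.out * (a' * b) := by rw [hab, hn]; group
      have hbc : b * c * b⁻¹ = ⁅b * a * b⁻¹, x⁆ := by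
        conv_rhs => rw [← hBx b hb]
        rw [hc, commutatorElement_def, commutatorElement_def]
        group
      have ha'' : b * a * b⁻¹ ∈ A := ‹A.Normal›.conj_mem _ ha b
      have hbcA : b * c * b⁻¹ ∈ A := ‹A.Normal›.conj_mem _ hcA b
      refine ⟨⟨q, ⟨b * c * b⁻¹, ⟨⟨⟨_, ha''⟩, hbc.symm⟩, ?_⟩⟩⟩, ?_⟩
      · rw [Set.mem_singleton_iff, conj_eq_one_iff]
        exact hc1
      · have hcom : a' * (b * c * b⁻¹) * a'⁻¹ = b * c * b⁻¹ := by
          rw [← SetLike.mem_coe] at hbcA
          rw [show a' * (b * c * b⁻¹) = (b * c * b⁻¹) * a' from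
            Subtype.ext_iff.mp (hA.is_comm.comm (⟨a', ha'⟩ : A) ⟨_, hbcA⟩)]
          rw [mul_inv_cancel_right]
        calc q.out * (b * c * b⁻¹) * q.out⁻¹
            = q.out * (a' * (b * c * b⁻¹) * a'⁻¹) * q.out⁻¹ := by rw [hcom]
          _ = g * c * g⁻¹ := by rw [hg]; group
    have h1 : (Subgroup.centralizer ({c} : Set G)).index ≤ T.ncard := by
      rw [← Nat.card_coe_set_eq]
      refine Nat.card_le_card_of_injective
        (fun q : G ⧸ Subgroup.centralizer ({c} : Set G) => (⟨_, horb q.out⟩ : T)) ?_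
      intro q q' h
      have h' : q.out * c * q.out⁻¹ = q'.out * c * q'.out⁻¹ := congrArg Subtype.val h
      rw [← q.out_eq', ← q'.out_eq', QuotientGroup.eq, Subgroup.mem_centralizer_iff]
      intro w hw
      rw [Set.mem_singleton_iff.mp hw]
      calc c * (q.out⁻¹ * q'.out) = q.out⁻¹ * (q.out * c * q.out⁻¹) * q'.out := by group
        _ = q.out⁻¹ * q'.out * c := by rw [h']; group
    have h2 : T.ncard ≤ Nat.card (G ⧸ (A ⊔ B)) * (R.ncard - 1) := by
      rw [← Nat.card_coe_set_eq]
      refine (Finite.card_range_le _).trans (le_of_eq ?_)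
      rw [Nat.card_prod, Nat.card_coe_set_eq, Set.ncard_sdiff_singleton_of_mem hR1]
    have h3 : R.ncard ≤ Nat.card (A ⧸ B.subgroupOf A) := by
      have hsub : R ⊆ Set.range fun q : A ⧸ B.subgroupOf A => ⁅((q.out : A) : G), x⁆ := by
        rintro _ ⟨a', rfl⟩
        obtain ⟨n, hn⟩ := QuotientGroup.mk_out_eq_mul (B.subgroupOf A) a'
        refine ⟨QuotientGroup.mk a', ?_⟩
        have hnx := hBx _ (Subgroup.mem_subgroupOf.mp n.2)
        simp only [hn, Subgroup.coe_mul, commutatorElement_def]
        calc (a' : G) * n.1 * x * ((a' : G) * n.1)⁻¹ * x⁻¹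
            = (a' : G) * ((n.1 : G) * x * (n.1 : G)⁻¹) * (a' : G)⁻¹ * x⁻¹ := by group
          _ = (a' : G) * x * (a' : G)⁻¹ * x⁻¹ := by rw [hnx]
      refine (Set.ncard_le_ncard hsub).trans ?_
      rw [← Nat.card_coe_set_eq]
      exact Finite.card_range_le _
    have h4 : Nat.card (G ⧸ (A ⊔ B)) * Nat.card (A ⧸ B.subgroupOf A) ≤ m := by
      rw [← Nat.card_prod, ← hx]
      refine Nat.card_le_card_of_injective
        (fun qa : (G ⧸ (A ⊔ B)) × (A ⧸ B.subgroupOf A) =>
          ((qa.1.out * (qa.2.out : A) : G) : G ⧸ B)) ?_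
      rintro ⟨q, a1⟩ ⟨q', a2⟩ h
      rw [QuotientGroup.eq] at h
      have e1 : q = q' := by
        rw [← q.out_eq', ← q'.out_eq', QuotientGroup.eq]
        have := (A ⊔ B).mul_mem ((A ⊔ B).mul_mem (le_sup_left (a := A) (a1.out).2)
          (le_sup_right (b := B) h)) ((A ⊔ B).inv_mem (le_sup_left (a := A) (a2.out).2))
        simpa [mul_assoc] using this
      subst e1
      have e2 : a1 = a2 := by
        rw [← a1.out_eq', ← a2.out_eq', QuotientGroup.eq, Subgroup.mem_subgroupOf]
        simpa [mul_assoc] using h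
      rw [e2]
    have hlt : (Subgroup.centralizer ({c} : Set G)).index < m := by
      have hpos : 0 < Nat.card (G ⧸ (A ⊔ B)) := Nat.card_pos
      have hR : 0 < R.ncard := (Set.ncard_pos).mpr ⟨1, hR1⟩
      calc (Subgroup.centralizer ({c} : Set G)).index
          ≤ Nat.card (G ⧸ (A ⊔ B)) * (R.ncard - 1) := h1.trans h2
        _ < Nat.card (G ⧸ (A ⊔ B)) * R.ncard := Nat.mul_lt_mul_of_pos_left (by omega) hpos
        _ ≤ m := (Nat.mul_le_mul_left _ h3).trans h4
    have hidx : (Subgroup.centralizer ({c} : Set G)).index = 1 := by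
      have hne := (Subgroup.centralizer ({c} : Set G)).index_ne_zero_of_finite
      by_contra hcon
      exact absurd (hmin c (by omega)) (not_le.mpr hlt)
    apply hcen
    rw [Subgroup.mem_center_iff]
    intro g
    have : g ∈ Subgroup.centralizer ({c} : Set G) := by
      rw [Subgroup.index_eq_one.mp hidx]; trivial
    exact (Subgroup.mem_centralizer_iff.mp this c rfl).symm
  set S := {x : G | (Subgroup.centralizer ({x} : Set G)).index = 1 ∨
    (Subgroup.centralizer ({x} : Set G)).index = m} with hS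
  set M := Subgroup.closure S with hM
  have hcentral : ∀ g ∈ M, ∀ a ∈ A, ⁅a, g⁆ ∈ Subgroup.center G := by
    intro g hg
    induction hg using Subgroup.closure_induction with
    | mem x hx => exact fun a ha => key a ha x hx
    | one => intro a _; rw [commutatorElement_one_right]; exact one_mem _
    | mul x y _ _ h1 h2 =>
      intro a ha
      have : ⁅a, x * y⁆ = ⁅a, x⁆ * (x * ⁅a, y⁆ * x⁻¹) := by
        simp only [commutatorElement_def]; group
      rw [this]
      exact mul_mem (h1 a ha) ((inferInstance : (Subgroup.center G).Normal).conj_mem _ (h2 a ha) x)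
    | inv x _ h1 =>
      intro a ha
      have : ⁅a, x⁻¹⁆ = x⁻¹ * ⁅a, x⁆⁻¹ * x⁻¹⁻¹ := by simp only [commutatorElement_def]; group
      rw [this]
      exact (inferInstance : (Subgroup.center G).Normal).conj_mem _ (inv_mem (h1 a ha)) _
  have hcomm : ∀ x ∈ M, ∀ y ∈ M, ⁅x, y⁆ ∈ A := by
    intro x hx y hy
    rw [← hCA, Subgroup.mem_centralizer_iff]
    intro a ha
    have h12 : ∀ b ∈ A, (x * y) * b * (x * y)⁻¹ = (y * x) * b * (y * x)⁻¹ := by
      intro a ha
      have conj_eq : ∀ g ∈ M, ∃ z ∈ Subgroup.center G, g * a * g⁻¹ = z * a := by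
        intro g hg
        refine ⟨(⁅a, g⁆)⁻¹, inv_mem (hcentral g hg a ha), ?_⟩
        rw [commutatorElement_def]; group
      obtain ⟨z1, hz1, e1⟩ := conj_eq x hx
      obtain ⟨z2, hz2, e2⟩ := conj_eq y hy
      have c1 : ∀ g, g * z1 = z1 * g := fun g => Subgroup.mem_center_iff.mp hz1 g
      have c2 : ∀ g, g * z2 = z2 * g := fun g => Subgroup.mem_center_iff.mp hz2 g
      calc (x * y) * a * (x * y)⁻¹ = x * (y * a * y⁻¹) * x⁻¹ := by group
        _ = x * z2 * a * x⁻¹ := by rw [e2]; group
        _ = z2 * (x * a * x⁻¹) := by rw [c2 x]; group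
        _ = z1 * (z2 * a) := by rw [e1, ← mul_assoc, c1 z2, mul_assoc]
        _ = z1 * (y * a * y⁻¹) := by rw [e2]
        _ = y * z1 * a * y⁻¹ := by rw [c1 y]; group
        _ = y * (x * a * x⁻¹) * y⁻¹ := by rw [e1]; group
        _ = (y * x) * a * (y * x)⁻¹ := by group
    have hb := h12 ((y * x)⁻¹ * a * (y * x)) (by simpa using ‹A.Normal›.conj_mem _ ha (y * x)⁻¹)
    rw [commutatorElement_def]
    calc a * (x * y * x⁻¹ * y⁻¹)
        = (y * x) * ((y * x)⁻¹ * a * (y * x)) * (y * x)⁻¹ * ((x * y) * (y * x)⁻¹) := by group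
      _ = x * y * ((y * x)⁻¹ * a * (y * x)) * (x * y)⁻¹ * ((x * y) * (y * x)⁻¹) := by rw [← hb]
      _ = x * y * x⁻¹ * y⁻¹ * a := by group
  have hZ : ∀ w : M, (w : G) ∈ Subgroup.center G → w ∈ Subgroup.center M := fun w hw =>
    Subgroup.mem_center_iff.mpr fun u => Subtype.ext (Subgroup.mem_center_iff.mp hw u)
  rw [eq_top_iff]
  intro x _
  rw [Subgroup.mem_upperCentralSeries_succ_iff]
  intro y
  rw [Subgroup.mem_upperCentralSeries_succ_iff]
  intro w
  rw [Subgroup.upperCentralSeries_one]
  exact hZ _ (hcentral w w.2 _ (hcomm x x.2 y y.2))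

end Cfsg.Agent.S4163
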