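import Cfsg.Statements.S4168
-- import your own Cfsg.Agent.* helpers here

set_option autoImplicit false
open Cfsg

namespace Cfsg.Agent.S4168

/-- Let L be a finite quasisimple group (perfect with L/Z(L) simple). Then every prime dividing the order of the centre Z(L) also divides the order of L/Z(L). -/
theorem result {L : Type*} [Group L] [Finite L] (hL : Cfsg.IsQuasisimple L)
    (p : ℕ) (hp : p.Prime) (hdiv : p ∣ Nat.card (Subgroup.center L)) : p ∣ (Subgroup.center L).index := by
  have := Fact.mk hp
  by_contra hnd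
  obtain ⟨P⟩ : Nonempty (Sylow p L) := inferInstance
  have hPZ : (P : Subgroup L) ≤ Subgroup.center L := by
    intro x hx
    rw [← QuotientGroup.eq_one_iff, ← orderOf_eq_one_iff]
    obtain ⟨k, hk⟩ := P.isPGroup' ⟨x, hx⟩
    have hk' : x ^ p ^ k = 1 := by simpa using congrArg Subtype.val hk
    have h1 : orderOf (x : L ⧸ Subgroup.center L) ∣ p ^ k :=
      orderOf_dvd_of_pow_eq_one (by rw [← QuotientGroup.mk_pow, hk']; rfl)
    have h2 : orderOf (x : L ⧸ Subgroup.center L) ∣ (Subgroup.center L).index :=
      orderOf_dvd_natCard _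
    exact Nat.eq_one_of_dvd_coprimes ((hp.coprime_iff_not_dvd.mpr hnd).pow_left k) h1 h2
  have hN : Subgroup.normalizer ((P : Subgroup L) : Set L) ≤
      Subgroup.centralizer ((P : Subgroup L) : Set L) := fun n _ =>
    Subgroup.mem_centralizer_iff.mpr fun x hx => (Subgroup.mem_center_iff.mp (hPZ hx) n).symm
  have hc := MonoidHom.ker_transferSylow_isComplement' P hN
  have hcomm : ∀ a b : (P : Subgroup L), a * b = b * a := fun a b =>
    Subtype.ext (Subgroup.mem_center_iff.mp (hPZ b.2) a)
  have hker : (MonoidHom.transferSylow P hN).ker = ⊤ := by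
    have := hL.1
    rw [eq_top_iff, ← Group.IsPerfect.commutator_eq_top (G := L), commutator_def]
    refine Subgroup.commutator_le.mpr fun a _ b _ => ?_
    rw [MonoidHom.mem_ker, map_commutatorElement]
    exact commutatorElement_eq_one_iff_mul_comm.mpr (hcomm _ _)
  rw [hker, Subgroup.isComplement'_top_left] at hc
  have hpd : p ∣ Nat.card (P : Subgroup L) :=
    P.dvd_card_of_dvd_card (hdiv.trans (Subgroup.card_subgroup_dvd_card _))
  rw [hc, Subgroup.card_bot] at hpd
  exact hp.one_lt.ne' (Nat.dvd_one.mp hpd)

end Cfsg.Agent.S4168
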