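import Cfsg.Statements.S4169
import Cfsg.Agent.H76.MinClassAbelian
import Cfsg.Agent.PGroups.MaxAbelian

set_option autoImplicit false
open Cfsg
open scoped commutatorElement

namespace Cfsg.Agent.S4169

/-- Let P be a finite p-group whose conjugacy classes have exactly two sizes (1 and one other value). Then P has nilpotency class at most 3. -/
theorem result {P : Type*} [Group P] [Finite P] {p : ℕ} [Fact p.Prime] (hP : IsPGroup p P)
    (m : ℕ) (hm : 1 < m) (h : ∀ x : P, (Subgroup.centralizer ({x} : Set P)).index = 1 ∨ (Subgroup.centralizer ({x} : Set P)).index = m) :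
    upperCentralSeries P 3 = ⊤ := by
  classical
  have hm' : ∀ g : P, g ∉ Subgroup.center P → (Subgroup.centralizer ({g} : Set P)).index = m :=
    fun g hg => (h g).resolve_left fun h1 => hg (by
      rw [Subgroup.index_eq_one, Subgroup.centralizer_eq_top_iff_subset,
        Set.singleton_subset_iff] at h1
      exact h1)
  obtain ⟨A, hAn, hAc, -, hmax⟩ := Cfsg.Agent.PGroups.exists_maximal_normal_abelian
    (⊥ : Subgroup P) (Cfsg.Agent.PGroups.isMulCommutative_of_comm fun x hx y hy => by
      rw [Subgroup.mem_bot.mp hx, Subgroup.mem_bot.mp hy])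
  have hCA := Cfsg.Agent.PGroups.centralizer_eq_self hP hAc hmax
  have hkey : ∀ x : P, ∀ a ∈ A, ⁅x, a⁆ ∈ Subgroup.center P := fun x a ha =>
    Cfsg.Agent.H76.commutatorElement_mem_center_of_equal_class hm' A hAc x ha
  have hZ1 : ∀ x : P, x ∈ Subgroup.center P → x ∈ Subgroup.upperCentralSeries P 1 := fun x hx => by
    rwa [Subgroup.upperCentralSeries_one]
  have hA2 : A ≤ Subgroup.upperCentralSeries P 2 := fun a ha => by
    rw [Subgroup.mem_upperCentralSeries_succ_iff]
    intro y
    apply hZ1
    have h1 := inv_mem (hkey y a ha)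
    rw [commutatorElement_inv, commutatorElement_def] at h1
    exact h1
  -- the derived subgroup centralises `A`
  have hP' : ⁅(⊤ : Subgroup P), (⊤ : Subgroup P)⁆ ≤ A := by
    conv_rhs => rw [← hCA]
    rw [← Subgroup.commutator_eq_bot_iff_le_centralizer]
    have h0 : ∀ {H : Subgroup P}, H ≤ Subgroup.center P → ⁅H, (⊤ : Subgroup P)⁆ = ⊥ := fun hH => by
      rw [Subgroup.commutator_eq_bot_iff_le_centralizer, Subgroup.coe_top,
        Subgroup.centralizer_univ]
      exact hH
    refine Subgroup.commutator_commutator_eq_bot_of_rotate (h0 ?_) (h0 ?_)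
    · rw [Subgroup.commutator_le]
      exact fun x _ a ha => hkey x a ha
    · rw [Subgroup.commutator_le]
      intro a ha x _
      rw [← commutatorElement_inv]
      exact inv_mem (hkey x a ha)
  rw [eq_top_iff]
  intro x _
  show x ∈ Subgroup.upperCentralSeries P (2 + 1)
  rw [Subgroup.mem_upperCentralSeries_succ_iff]
  intro y
  have h1 := hA2 (hP' (Subgroup.commutator_mem_commutator (Subgroup.mem_top x) (Subgroup.mem_top y)))
  rw [commutatorElement_def] at h1
  exact h1

end Cfsg.Agent.S4169
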