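import Cfsg.Statements.S4172
import Cfsg.Agent.S0081
import Cfsg.Agent.S0101
import Cfsg.Agent.S0051
import Cfsg.Agent.Components.Layer
import Cfsg.Agent.Cores.PCore
import Cfsg.Agent.PGroups.Basic
import Cfsg.Agent.Hall.MinimalNormal
import Cfsg.Agent.Hall.Basic
import Cfsg.Agent.Coprime.Basic
import Cfsg.Agent.H41.Basic

set_option autoImplicit false
open Cfsg
open Cfsg.Agent.Components

namespace Cfsg.Agent.S4172

universe u

variable {G : Type u} [Group G] [Finite G] {p : ℕ} [hp : Fact p.Prime]

/-- Homomorphisms of `p`-groups map Frattini elements to Frattini elements. -/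
theorem frattini_hom {Q R : Type*} [Group Q] [Finite Q] [Group R] [Finite R] (hR : IsPGroup p R)
    (f : Q →* R) {x : Q} (hx : x ∈ frattini Q) : f x ∈ frattini R := by
  have key : frattini Q ≤ (frattini R).comap f := by
    refine PGroups.frattini_le_of_commutator_le (p := p) _ ?_ fun y => ?_
    · rw [← Subgroup.map_le_iff_le_comap, commutator_def, Subgroup.map_commutator]
      exact (Subgroup.commutator_mono le_top le_top).trans (PGroups.commutator_le_frattini hR)
    · show f (y ^ p) ∈ frattini R
      rw [map_pow]; exact PGroups.pow_mem_frattini hR _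
  exact key hx

/-- The Frattini subgroup of a subgroup of a `p`-subgroup lies in that of the whole. -/
theorem frattini_le {Q R : Subgroup G} (hR : IsPGroup p R) (h : Q ≤ R) :
    (frattini Q).map Q.subtype ≤ (frattini R).map R.subtype := by
  rintro _ ⟨x, hx, rfl⟩
  exact ⟨_, frattini_hom hR (Subgroup.inclusion h) hx, rfl⟩

/-- A subgroup outside the Frattini subgroup of a two-generator `p`-group has a cyclic
supplement. -/
theorem exists_cyclic_supplement {R : Type*} [Group R] [Finite R] (hR : IsPGroup p R)
    (h2 : (frattini R).index = p ^ 2) {Q : Subgroup R} [Q.Normal] (hQ : ¬ Q ≤ frattini R) :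
    ∃ c : R, Subgroup.zpowers c ⊔ Q = ⊤ := by
  set T := Q ⊔ frattini R with hT
  have hlt : frattini R < T := lt_of_le_of_ne le_sup_right fun h => hQ (le_sup_left.trans h.ge)
  have hmul := Subgroup.relIndex_mul_index hlt.le
  have hne : (frattini R).relIndex T ≠ 1 := fun h => hlt.not_ge (Subgroup.relIndex_eq_one.1 h)
  obtain ⟨j, hj, hji⟩ := (Nat.dvd_prime_pow hp.out).1 (h2 ▸ Subgroup.index_dvd_of_le hlt.le)
  have hj2 : j ≠ 2 := by
    intro h
    subst h
    rw [hji, h2] at hmul
    exact hne (Nat.eq_of_mul_eq_mul_right (pow_pos hp.out.pos 2) (hmul.trans (one_mul _).symm))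
  have hcyc : IsCyclic (R ⧸ T) := by
    interval_cases j
    · have : Subsingleton (R ⧸ T) := (Nat.card_eq_one_iff_unique.1 (hji.trans (pow_zero p))).1
      infer_instance
    · exact isCyclic_of_prime_card (hji.trans (pow_one p))
    · exact absurd rfl hj2
  obtain ⟨g, hg⟩ := hcyc.exists_generator
  obtain ⟨c, rfl⟩ := QuotientGroup.mk'_surjective _ g
  refine ⟨c, frattini_nongenerating ?_⟩
  rw [sup_assoc, ← hT, eq_top_iff]
  intro x _
  obtain ⟨i, hi⟩ := Subgroup.mem_zpowers_iff.1 (hg (QuotientGroup.mk' T x))
  rw [← map_zpow] at hi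
  have h1 : (c ^ i)⁻¹ * x ∈ T := QuotientGroup.eq.1 hi
  simpa using Subgroup.mul_mem _ (Subgroup.mem_sup_left (T := T) (zpow_mem
    (Subgroup.mem_zpowers c) i)) (Subgroup.mem_sup_right (S := Subgroup.zpowers c) h1)

/-- A normal subgroup with a cyclic supplement contains the derived subgroup. -/
theorem commutator_le_of_supplement {R : Type*} [Group R] {Q : Subgroup R} [Q.Normal] {c : R}
    (hc : Subgroup.zpowers c ⊔ Q = ⊤) : commutator R ≤ Q := by
  refine Subgroup.Normal.commutator_le_of_self_sup_commutative_eq_top (H := Subgroup.zpowers c) ?_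
    inferInstance
  rwa [sup_comm]

/-- Two normal subgroups of `P` outside the Frattini subgroup cannot be disjoint. -/
theorem not_disjoint {P : Sylow p G} (hna : ¬ IsMulCommutative (P : Subgroup G))
    (h2 : (frattini ↥(P : Subgroup G)).index = p ^ 2) {A B : Subgroup G}
    (hA : (P : Subgroup G) ≤ Subgroup.normalizer (A : Set G))
    (hB : (P : Subgroup G) ≤ Subgroup.normalizer (B : Set G)) (hAB : A ⊓ B = ⊥)
    (hAf : ¬ A ⊓ (P : Subgroup G) ≤ (frattini ↥(P : Subgroup G)).map (P : Subgroup G).subtype)
    (hBf : ¬ B ⊓ (P : Subgroup G) ≤ (frattini ↥(P : Subgroup G)).map (P : Subgroup G).subtype) :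
    False := by
  have hsub : ∀ {X : Subgroup G}, (P : Subgroup G) ≤ Subgroup.normalizer (X : Set G) →
      ¬ X ⊓ (P : Subgroup G) ≤ (frattini ↥(P : Subgroup G)).map (P : Subgroup G).subtype →
      commutator ↥(P : Subgroup G) ≤ X.subgroupOf (P : Subgroup G) := by
    intro X hX hXf
    have : (X.subgroupOf (P : Subgroup G)).Normal :=
      ⟨fun a ha g => ((Subgroup.mem_normalizer_iff.1 (hX g.2) _).1 ha :)⟩
    obtain ⟨c, hc⟩ := exists_cyclic_supplement P.isPGroup' h2 (Q := X.subgroupOf (P : Subgroup G))
      fun h => hXf fun x hx => ⟨⟨x, hx.2⟩, h hx.1, rfl⟩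
    exact commutator_le_of_supplement hc
  have hbot : commutator ↥(P : Subgroup G) = ⊥ := by
    refine le_bot_iff.1 ((le_inf (hsub hA hAf) (hsub hB hBf)).trans ?_)
    rintro x ⟨hxA, hxB⟩
    exact Subgroup.mem_bot.2 (Subtype.ext (Subgroup.mem_bot.1 (hAB ▸ ⟨hxA, hxB⟩ : (x : G) ∈ (⊥ : Subgroup G))))
  refine hna ⟨⟨fun x y => ?_⟩⟩
  rw [← commutatorElement_eq_one_iff_mul_comm, ← Subgroup.mem_bot, ← hbot, commutator_def]
  exact Subgroup.commutator_mem_commutator (Subgroup.mem_top _) (Subgroup.mem_top _)

/-- A nontrivial normal subgroup meets `P` outside the Frattini subgroup. -/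
theorem not_le_frattini (P : Sylow p G) (hcore : Cfsg.pPrimeCore p G = ⊥)
    (hfrat : ((frattini ↥(P : Subgroup G)).map (P : Subgroup G).subtype).normalCore = ⊥)
    {M : Subgroup G} [M.Normal] (hM : M ≠ ⊥) :
    ¬ M ⊓ (P : Subgroup G) ≤ (frattini ↥(P : Subgroup G)).map (P : Subgroup G).subtype := by
  intro hle
  obtain ⟨T, K, hKn, hKT⟩ := S0081.result P M hle
  have hcop : (Nat.card K).Coprime p := by
    have h1 : K.index = Nat.card (T : Subgroup M) := (Subgroup.IsComplement'.symm hKT).index_eq_card
    have h2 := T.not_dvd_index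
    rw [hKT.index_eq_card] at h2
    exact (hp.out.coprime_iff_not_dvd.2 h2).symm
  have hKcore : K ≤ Cfsg.pPrimeCore p M := Cores.le_pPrimeCore hcop
  have hK : K = ⊥ := by
    refine le_bot_iff.1 fun k hk => ?_
    have := Cores.map_pPrimeCore_le_of_normal (p := p) M ⟨k, hKcore hk, rfl⟩
    rw [hcore, Subgroup.mem_bot] at this
    exact Subgroup.mem_bot.2 (Subtype.ext this)
  have hMp : IsPGroup p M := by
    have htop : (T : Subgroup M) = ⊤ := by
      have := hKT
      rw [hK] at this
      exact Subgroup.isComplement'_bot_left.1 this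
    exact (htop ▸ T.isPGroup').of_surjective (Subgroup.topEquiv (G := M)).toMonoidHom
      (Subgroup.topEquiv (G := M)).surjective
  have hMP : M ≤ (P : Subgroup G) :=
    (Cores.le_pCore hMp).trans (Cores.pCore_le_sylow P)
  refine hM (le_bot_iff.1 ?_)
  rw [← hfrat, Subgroup.normal_le_normalCore]
  exact fun x hx => hle ⟨hx, hMP hx⟩

/-- Let p be a prime and G a finite group with a non-commutative Sylow p-subgroup P whose Frattini subgroup has index p² in P (P is generated by two elements). Suppose G has no nontrivial normal subgroup of order prime to p and the Frattini subgroup of P contains no nontrivial normal subgroup of G. Then the generalized Fitting subgroup F*(G) is the unique minimal normal subgroup of G, the image of P in G/F*(G) is cyclic, and if F*(G) is not commutative then P permutes the components of G transitively by conjugation. -/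
theorem result {G : Type*} [Group G] [Finite G] (p : ℕ) [Fact p.Prime] (P : Sylow p G) (hna : ¬ IsMulCommutative (P : Subgroup G)) (hgen : (frattini ↥(P : Subgroup G)).index = p ^ 2) (hcore : Cfsg.pPrimeCore p G = ⊥) (hfrat : ((frattini ↥(P : Subgroup G)).map (P : Subgroup G).subtype).normalCore = ⊥) [hFn : (Cfsg.generalizedFittingSubgroup G).Normal] :
    (Cfsg.generalizedFittingSubgroup G ≠ ⊥ ∧ ∀ K : Subgroup G, K.Normal → K ≠ ⊥ → Cfsg.generalizedFittingSubgroup G ≤ K) ∧
      IsCyclic ↥((P : Subgroup G).map (QuotientGroup.mk' (Cfsg.generalizedFittingSubgroup G))) ∧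
      (¬ IsMulCommutative (Cfsg.generalizedFittingSubgroup G) → ∀ K L : Subgroup G, Cfsg.IsComponent K → Cfsg.IsComponent L → ∃ x ∈ (P : Subgroup G), L = K.map (MulAut.conj x).toMonoidHom) := by
  have hp := (Fact.out : p.Prime)
  set F' := Cfsg.generalizedFittingSubgroup G with hF'
  have hG : (⊤ : Subgroup G) ≠ ⊥ := fun h => hna ⟨⟨fun x y => Subtype.ext (by
    have hx : (x : G) = 1 := Subgroup.mem_bot.1 (h ▸ Subgroup.mem_top _)
    have hy : (y : G) = 1 := Subgroup.mem_bot.1 (h ▸ Subgroup.mem_top _)
    simp [hx, hy])⟩⟩
  obtain ⟨N, hNn, hN, -, hNmin⟩ := Hall.exists_minimal_normal_le (⊤ : Subgroup G) hG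
  have hPn : ∀ X : Subgroup G, X.Normal → (P : Subgroup G) ≤ Subgroup.normalizer (X : Set G) :=
    fun X _ => le_normalizer_of_normal _
  -- uniqueness
  have huniq : ∀ K : Subgroup G, K.Normal → K ≠ ⊥ → N ≤ K := by
    intro K hK hK1
    rcases hNmin (N ⊓ K) inferInstance inf_le_left with h | h
    · exact (not_disjoint hna hgen (hPn N hNn) (hPn K hK) h
        (not_le_frattini P hcore hfrat hN) (not_le_frattini P hcore hfrat hK1)).elim
    · exact h ▸ inf_le_right
  -- `F* = N`
  have hFN : F' = N ∧
      (¬ IsMulCommutative N → ∀ K L : Subgroup G, Cfsg.IsComponent K → Cfsg.IsComponent L →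
        ∃ x ∈ (P : Subgroup G), L = K.map (MulAut.conj x).toMonoidHom) := by
    by_cases hNab : IsMulCommutative N
    · refine ⟨?_, fun h => absurd hNab h⟩
      have hNs : Group.IsSolvable N := Group.isSolvable_of_comm fun a b => hNab.is_comm.comm a b
      obtain ⟨-, q, hq, hqN, -⟩ := Hall.minimal_normal_elementary hN hNmin hNs
      have hqp : q = p := by
        by_contra hne
        have := Fact.mk hq
        obtain ⟨i, hi⟩ := IsPGroup.iff_card.1 hqN
        refine hN (le_bot_iff.1 (hcore ▸ Cores.le_pPrimeCore ?_))
        rw [hi]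
        exact Nat.Coprime.pow_left _ ((Nat.coprime_primes hq hp).2 hne)
      rw [hqp] at hqN
      have hlayer : Cfsg.layer G = ⊥ := by
        by_contra hE
        set E := Cfsg.layer G
        have hNE : N ≤ E := huniq E inferInstance hE
        have hEN : ⁅E, N⁆ = ⊥ := layer_commutator_solvable hNs (le_normalizer_of_normal _)
        set σ := QuotientGroup.mk' (N.subgroupOf E)
        have hker : σ.ker ≤ Subgroup.center E := by
          rw [QuotientGroup.ker_mk']
          intro n hn
          exact Subgroup.mem_center_iff.2 fun g =>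
            Subtype.ext (commute_of_commutator_eq_bot hEN g.2 hn)
        have hperf : commutator E = ⊤ := by
          apply Subgroup.map_injective E.subtype_injective
          rw [commutator_def, Subgroup.map_commutator, ← MonoidHom.range_eq_map,
            Subgroup.range_subtype, layer_perfect]
        obtain ⟨T, hT⟩ := ((P.isPGroup'.comap_subtype :
          IsPGroup p ((P : Subgroup G).subgroupOf E))).exists_le_sylow
        have hTle : (T : Subgroup E).map E.subtype ≤ (P : Subgroup G) := by
          have hPE : ((P : Subgroup G).subgroupOf E) = (T : Subgroup E) := by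
            refine (Subgroup.eq_of_le_of_card_ge hT ?_)
            have h1 := Sylow.not_dvd_index (P := P)
            obtain ⟨i, hi⟩ := IsPGroup.iff_card.1 T.isPGroup'
            obtain ⟨j, hj⟩ := IsPGroup.iff_card.1 (P.isPGroup'.comap_subtype :
              IsPGroup p ((P : Subgroup G).subgroupOf E))
            have h2 : ((P : Subgroup G).subgroupOf E).index ∣ (P : Subgroup G).index := by
              have hc : Nat.card ((P : Subgroup G).subgroupOf E) = Nat.card ↥(E ⊓ (P : Subgroup G)) := by
                rw [← Subgroup.card_map_of_injective E.subtype_injective,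
                  Subgroup.subgroupOf_map_subtype, inf_comm]
              have e1 := ((P : Subgroup G).subgroupOf E).card_mul_index
              have e2 := Hall.card_sup_mul_card_inf E (P : Subgroup G)
              have e3 := ((P : Subgroup G).subgroupOf (E ⊔ (P : Subgroup G))).card_mul_index
              rw [Nat.card_congr (Subgroup.subgroupOfEquivOfLe
                (le_sup_right : (P : Subgroup G) ≤ E ⊔ (P : Subgroup G))).toEquiv] at e3
              rw [hc] at e1
              have e4 : ((P : Subgroup G).subgroupOf E).index =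
                  ((P : Subgroup G).subgroupOf (E ⊔ (P : Subgroup G))).index := by
                refine Nat.eq_of_mul_eq_mul_left (Nat.mul_pos (Nat.card_pos (α := (P : Subgroup G)))
                  (Nat.card_pos (α := ↥(E ⊓ (P : Subgroup G))))) ?_
                calc _ = Nat.card (P : Subgroup G) * Nat.card E := by rw [mul_assoc, e1]
                  _ = Nat.card ↥(E ⊔ (P : Subgroup G)) * Nat.card ↥(E ⊓ (P : Subgroup G)) := by
                      rw [e2, mul_comm]
                  _ = _ := by rw [← e3]; ring
              rw [e4]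
              exact ⟨_, (Subgroup.relIndex_mul_index (le_sup_right :
                (P : Subgroup G) ≤ E ⊔ (P : Subgroup G))).symm⟩
            have h3 : ¬ p ∣ ((P : Subgroup G).subgroupOf E).index := fun h => h1 (h.trans h2)
            have h4 : Nat.card (T : Subgroup E) ∣ Nat.card ((P : Subgroup G).subgroupOf E) *
                ((P : Subgroup G).subgroupOf E).index := by
              rw [Subgroup.card_mul_index]; exact Subgroup.card_subgroup_dvd_card _
            exact Nat.le_of_dvd Nat.card_pos ((Nat.Coprime.dvd_mul_right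
              (by rw [hi]; exact Nat.Coprime.pow_left _ (hp.coprime_iff_not_dvd.2 h3))).1 h4)
          rw [← hPE]
          exact Subgroup.map_subtype_le_map_subtype.2 le_rfl |>.trans (Subgroup.map_comap_le _ _)
        refine hN (le_bot_iff.1 ?_)
        rw [← hfrat, Subgroup.normal_le_normalCore]
        intro x hx
        have hxP : x ∈ (P : Subgroup G) :=
          (Cores.le_pCore hqN).trans (Cores.pCore_le_sylow P) hx
        have hxT : (⟨x, hNE hx⟩ : E) ∈ σ.ker ⊓ (T : Subgroup E) :=
          ⟨by rw [QuotientGroup.ker_mk']; exact hx, hT hxP⟩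
        obtain ⟨t, ht, hte⟩ := S0101.result σ (QuotientGroup.mk'_surjective _) hker hperf T hxT
        let f : (T : Subgroup E) →* (P : Subgroup G) :=
          { toFun := fun u => ⟨((u : E) : G), hTle ⟨u, u.2, rfl⟩⟩
            map_one' := rfl
            map_mul' := fun _ _ => rfl }
        exact ⟨f t, frattini_hom P.isPGroup' f ht, congrArg Subtype.val hte⟩
      have hF : F' = Cfsg.pCore p G := by
        rw [hF', genFitting_eq_sup, hlayer, bot_sup_eq]
        refine le_antisymm ?_ (pCore_le_fitting p)
        rw [fitting_eq_iSup_pCore]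
        refine iSup_le fun r => ?_
        rcases eq_or_ne (r : ℕ) p with h | h
        · rw [h]
        · have := Fact.mk (Nat.mem_primeFactors.1 r.2).1
          have hr : Cfsg.pCore (r : ℕ) G ≤ Cfsg.pPrimeCore p G := by
            refine Cores.le_pPrimeCore ?_
            obtain ⟨i, hi⟩ := IsPGroup.iff_card.1 (Cores.pCore_isPGroup (p := (r : ℕ)) (G := G))
            rw [hi]
            exact Nat.Coprime.pow_left _ ((Nat.coprime_primes (Fact.out) hp).2 h)
          exact hr.trans (hcore.le.trans bot_le)
      rw [hF]
      set M := Cfsg.pCore p G with hM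
      have hNM : N ≤ M := Cores.le_pCore hqN
      have hMP : M ≤ (P : Subgroup G) := Cores.pCore_le_sylow P
      have hMfr : (frattini M).map M.subtype = ⊥ := by
        refine le_bot_iff.1 ?_
        rw [← hfrat, Subgroup.normal_le_normalCore]
        exact frattini_le P.isPGroup' hMP
      rw [Subgroup.map_eq_bot_iff_of_injective _ M.subtype_injective] at hMfr
      have hMe : IsMulCommutative M ∧ ∀ x ∈ M, x ^ p = 1 := by
        have hMp : IsPGroup p M := Cores.pCore_isPGroup
        refine ⟨⟨⟨fun x y => ?_⟩⟩, fun x hx => ?_⟩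
        · rw [← commutatorElement_eq_one_iff_mul_comm, ← Subgroup.mem_bot, ← hMfr]
          exact PGroups.commutator_le_frattini hMp (commutator_def M ▸
            Subgroup.commutator_mem_commutator (Subgroup.mem_top _) (Subgroup.mem_top _))
        · have := PGroups.pow_mem_frattini hMp ⟨x, hx⟩
          rw [hMfr, Subgroup.mem_bot] at this
          exact congrArg Subtype.val this
      obtain ⟨c, hc⟩ := exists_cyclic_supplement P.isPGroup' hgen
        (Q := N.subgroupOf (P : Subgroup G)) (fun h => not_le_frattini P hcore hfrat hN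
          fun x hx => ⟨⟨x, hx.2⟩, h hx.1, rfl⟩)
      set C := Subgroup.zpowers (c : G) with hC
      have hNP : N ≤ (P : Subgroup G) := hNM.trans hMP
      have hCP : C ≤ (P : Subgroup G) := Subgroup.zpowers_le.2 c.2
      have hsup : N ⊔ C = (P : Subgroup G) := by
        refine le_antisymm (sup_le hNP hCP) fun x hx => ?_
        have := (sup_comm (Subgroup.zpowers c) (N.subgroupOf (P : Subgroup G)) ▸ hc).ge
          (Subgroup.mem_top (⟨x, hx⟩ : (P : Subgroup G)))
        have h2 := Subgroup.mem_map_of_mem (P : Subgroup G).subtype this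
        rw [Subgroup.map_sup, MonoidHom.map_zpowers] at h2
        refine SetLike.le_def.1 (sup_le_sup ?_ le_rfl) h2
        exact Subgroup.map_comap_le _ _
      by_contra hMN
      obtain ⟨z, hzM, hzN⟩ : ∃ z ∈ M ⊓ C, z ∉ N := by
        by_contra hall
        push Not at hall
        refine hMN (le_antisymm (fun m hm => ?_) hNM)
        obtain ⟨n, hn, e, he, rfl⟩ := (Agent.Coprime.mem_sup_iff (le_normalizer_of_normal _)).1
          (hsup.ge (hMP hm))
        refine Subgroup.mul_mem _ hn (hall e ⟨?_, he⟩)
        simpa using Subgroup.mul_mem _ (Subgroup.inv_mem _ (hNM hn)) hm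
      have hCN : C ⊓ N = ⊥ := by
        by_contra hne
        obtain ⟨w, hw, hw1⟩ := (Subgroup.bot_or_exists_ne_one (C ⊓ N)).resolve_left hne
        have hz1 : z ≠ 1 := fun h => hzN (h ▸ one_mem N)
        have hwz : Subgroup.zpowers z = Subgroup.zpowers w := by
          have : IsCyclic C := inferInstanceAs (IsCyclic (Subgroup.zpowers (c : G)))
          have ho : ∀ u ∈ M, u ≠ 1 → orderOf u = p := fun u hu h1 =>
            orderOf_eq_prime (hMe.2 u hu) h1
          have heq : Nat.card (Subgroup.zpowers z) = Nat.card (Subgroup.zpowers w) := by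
            rw [Nat.card_zpowers, Nat.card_zpowers, ho z hzM.1 hz1, ho w (hNM hw.2) hw1]
          exact H41.eq_of_card_eq_of_le_cyclic (C := C) this (Subgroup.zpowers_le.2 hzM.2)
            (Subgroup.zpowers_le.2 hw.1) heq
        exact hzN (Subgroup.zpowers_le.2 hw.2 (hwz ▸ Subgroup.mem_zpowers z))
      have hNc : IsMulCommutative N := hNab
      obtain ⟨H, hH⟩ := S0051.result N (P : Subgroup G) hNP (by
        obtain ⟨i, hi⟩ := IsPGroup.iff_card.1 hqN
        rw [hi]
        exact Nat.Coprime.pow_left _ (hp.coprime_iff_not_dvd.2 P.not_dvd_index)) C hCP hCN hsup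
      have hMH : (M ⊓ H).Normal := by
        refine ⟨fun x hx g => ?_⟩
        obtain ⟨⟨n, h⟩, he⟩ := hH.2 g
        have he' : (n : G) * h = g := he
        have hhx : (h : G) * x * (h : G)⁻¹ ∈ M ⊓ H := ⟨(inferInstance : M.Normal).conj_mem x hx.1 h,
          H.mul_mem (H.mul_mem h.2 hx.2) (H.inv_mem h.2)⟩
        have hcm := congrArg Subtype.val (hMe.1.is_comm.comm ⟨_, hNM n.2⟩ ⟨_, hhx.1⟩)
        have e : g * x * g⁻¹ = (n : G) * ((h : G) * x * (h : G)⁻¹) * (n : G)⁻¹ := by
          rw [← he']; group
        have hcm' : (n : G) * ((h : G) * x * (h : G)⁻¹) = (h : G) * x * (h : G)⁻¹ * n := hcm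
        rw [e, hcm', mul_inv_cancel_right]
        exact hhx
      have hne : M ⊓ H ≠ ⊥ := by
        intro h
        refine hMN (le_antisymm (fun m hm => ?_) hNM)
        obtain ⟨⟨n, u⟩, he⟩ := hH.2 m
        have he' : (n : G) * u = m := he
        have hu : (u : G) ∈ M ⊓ H := ⟨by
          simpa [← he'] using Subgroup.mul_mem _ (Subgroup.inv_mem _ (hNM n.2)) hm, u.2⟩
        rw [h, Subgroup.mem_bot] at hu
        rw [← he', hu, mul_one]
        exact n.2
      have h1 : N ≤ M ⊓ H := huniq _ hMH hne
      refine hN (le_bot_iff.1 ((le_inf le_rfl (h1.trans inf_le_right)).trans ?_))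
      exact hH.disjoint.eq_bot.le
    · -- non-abelian minimal normal subgroup
      have hFit : Cfsg.fittingSubgroup G = ⊥ := by
        by_contra hne
        have hle := huniq _ inferInstance hne
        have hnil : Group.IsNilpotent N := by
          refine isNilpotent_of_le ?_ hle
          have := map_fitting_isNilpotent (G := G) (⊤ : Subgroup G)
          exact isNilpotent_of_le this (map_equiv_fitting (Subgroup.topEquiv (G := G))).ge
        have : Nontrivial N := (Subgroup.nontrivial_iff_ne_bot N).2 hN
        have hc := Group.IsNilpotent.center_ne_bot (G := N)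
        rcases hNmin ((Subgroup.center N).map N.subtype) inferInstance
          (Subgroup.map_subtype_le _) with h | h
        · exact hc ((Subgroup.map_eq_bot_iff_of_injective _ N.subtype_injective).1 h)
        · refine hNab ⟨⟨fun x y => ?_⟩⟩
          have hy : y ∈ Subgroup.center N := by
            have := h.ge y.2
            obtain ⟨y', hy', e⟩ := this
            rwa [← N.subtype_injective e]
          exact Subgroup.mem_center_iff.1 hy x
      have hFE : F' = Cfsg.layer G := by rw [hF', genFitting_eq_sup, hFit, sup_bot_eq]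
      have hZE : ∀ z ∈ Cfsg.layer G, (∀ y ∈ Cfsg.layer G, y * z = z * y) → z = 1 := by
        intro z hz hc
        have hzm : z ∈ (Subgroup.center (Cfsg.layer G)).map (Cfsg.layer G).subtype :=
          (mem_center_map_iff _ z).2 ⟨hz, hc⟩
        rw [center_layer_eq_fitting_inf] at hzm
        simpa [hFit] using hzm
      obtain ⟨L₀, hL₀, hL₀N⟩ : ∃ L : Subgroup G, Cfsg.IsComponent L ∧ L ≤ N := by
        by_contra hall
        push Not at hall
        have hNC : N ≤ Subgroup.centralizer (F' : Set G) := by
          rw [hFE, Subgroup.le_centralizer_iff]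
          refine layer_le_iff.2 fun L hL => ?_
          exact Subgroup.commutator_eq_bot_iff_le_centralizer.1
            ((component_le_or_commutator_eq_bot hL (Subgroup.Normal.isSubnormal hNn)).resolve_left (hall L hL))
        have hNE : N ≤ Cfsg.layer G := hFE ▸ hNC.trans centralizer_genFitting_le
        refine hN (le_bot_iff.1 fun z hz => Subgroup.mem_bot.2 (hZE z (hNE hz) fun y hy => ?_))
        exact Subgroup.mem_centralizer_iff.1 (hNC hz) y (hFE ▸ hy)
      have horb : ∀ K L : Subgroup G, Cfsg.IsComponent K → Cfsg.IsComponent L →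
          ∃ x ∈ (P : Subgroup G), L = K.map (MulAut.conj x).toMonoidHom := by
        intro K L hK hL
        by_contra hno
        push Not at hno
        let orb : Subgroup G → Subgroup G := fun K =>
          ⨆ x : (P : Subgroup G), K.map (MulAut.conj (x : G)).toMonoidHom
        have horbn : ∀ K : Subgroup G, (P : Subgroup G) ≤ Subgroup.normalizer (orb K : Set G) := by
          intro K a ha
          refine Agent.Coprime.mem_normalizer_of_map_conj ?_
          simp only [orb, Subgroup.map_iSup]
          refine (Equiv.iSup_congr (Equiv.mulLeft (⟨a, ha⟩ : (P : Subgroup G))) fun x => ?_)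
          rw [Agent.Coprime.map_conj_map_conj]; rfl
        have hcomp : ∀ (K : Subgroup G), Cfsg.IsComponent K → ∀ x : G,
            Cfsg.IsComponent (K.map (MulAut.conj x).toMonoidHom) := fun K hK x => component_conj hK x
        have hle : ∀ K, Cfsg.IsComponent K → orb K ≤ Cfsg.layer G := fun K hK =>
          iSup_le fun x => component_le_layer (hcomp K hK x)
        have hKL : ⁅orb K, orb L⁆ = ⊥ := by
          rw [Subgroup.commutator_eq_bot_iff_le_centralizer]
          refine iSup_le fun x => Subgroup.le_centralizer_iff.1 (iSup_le fun y => ?_)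
          refine Subgroup.commutator_eq_bot_iff_le_centralizer.1
            (components_commute (hcomp L hL y) (hcomp K hK x) fun e => ?_)
          refine hno ((y : G)⁻¹ * x) (mul_mem (inv_mem y.2) x.2) ?_
          rw [← Agent.Coprime.map_conj_map_conj, ← e, Agent.Coprime.map_conj_map_conj, inv_mul_cancel,
            Agent.Coprime.map_conj_one]
        have hdisj : orb K ⊓ orb L = ⊥ := by
          refine le_bot_iff.1 fun z hz => Subgroup.mem_bot.2 (hZE z (hle K hK hz.1) fun y hy => ?_)
          have : Cfsg.layer G ≤ Subgroup.centralizer {z} := by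
            refine layer_le_iff.2 fun J hJ => ?_
            intro w hw
            rw [Subgroup.mem_centralizer_singleton_iff]
            by_cases hJK : ∃ x : (P : Subgroup G), J = K.map (MulAut.conj (x : G)).toMonoidHom
            · obtain ⟨x, rfl⟩ := hJK
              exact commute_of_commutator_eq_bot hKL (Subgroup.mem_iSup_of_mem x hw) hz.2
            · have hJo : ⁅J, orb K⁆ = ⊥ := by
                rw [Subgroup.commutator_eq_bot_iff_le_centralizer, Subgroup.le_centralizer_iff]
                refine iSup_le fun x => Subgroup.commutator_eq_bot_iff_le_centralizer.1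
                  (components_commute (hcomp K hK x) hJ fun e => hJK ⟨x, e.symm⟩)
              exact commute_of_commutator_eq_bot hJo hw hz.1
          exact Subgroup.mem_centralizer_singleton_iff.1 (this hy)
        have hf : ∀ K, Cfsg.IsComponent K → ¬ orb K ⊓ (P : Subgroup G) ≤
            (frattini ↥(P : Subgroup G)).map (P : Subgroup G).subtype := by
          intro K hK hfr
          set H := orb K ⊔ (P : Subgroup G) with hH
          have hPH : (P : Subgroup G) ≤ H := le_sup_right
          have hOH : orb K ≤ H := le_sup_left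
          have : ((orb K).subgroupOf H).Normal :=
            Subgroup.normal_subgroupOf_of_le_normalizer (sup_le Subgroup.le_normalizer (horbn K))
          let PH : Sylow p H := P.subtype hPH
          obtain ⟨T, D, hDn, hDT⟩ := S0081.result PH ((orb K).subgroupOf H) (by
            intro x hx
            obtain ⟨y, hy, hyx⟩ := hfr (⟨hx.1, hx.2⟩ : (x : G) ∈ orb K ⊓ (P : Subgroup G))
            let f : (P : Subgroup G) →* (PH : Subgroup H) :=
              { toFun := fun u => ⟨⟨(u : G), hPH u.2⟩, u.2⟩
                map_one' := rfl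
                map_mul' := fun _ _ => rfl }
            exact ⟨f y, frattini_hom PH.isPGroup' f hy, Subtype.ext hyx⟩)
          -- `orb K` is perfect, so it is the normal complement itself
          have hperf : commutator ((orb K).subgroupOf H) = ⊤ := by
            apply Subgroup.map_injective ((orb K).subgroupOf H).subtype_injective
            apply Subgroup.map_injective H.subtype_injective
            rw [commutator_def, Subgroup.map_commutator, Subgroup.map_commutator,
              ← MonoidHom.range_eq_map, Subgroup.range_subtype, Subgroup.map_subgroupOf_eq_of_le hOH]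
            refine le_antisymm (Subgroup.commutator_le_self _) (iSup_le fun x => ?_)
            refine (component_perfect (hcomp K hK x)).ge.trans (Subgroup.commutator_mono ?_ ?_) <;>
              exact le_iSup (fun x : (P : Subgroup G) => K.map (MulAut.conj (x : G)).toMonoidHom) x
          have := hDn
          have hsolv : Group.IsSolvable (((orb K).subgroupOf H) ⧸ D) := by
            have : IsPGroup p (((orb K).subgroupOf H) ⧸ D) := by
              obtain ⟨i, hi⟩ := IsPGroup.iff_card.1 T.isPGroup'
              refine IsPGroup.of_card (n := i) ?_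
              rw [← Subgroup.index_eq_card, hDT.symm.index_eq_card, hi]
            have := this.isNilpotent
            infer_instance
          have hDtop : D = ⊤ := by
            by_contra hD
            have : Nontrivial (((orb K).subgroupOf H) ⧸ D) := QuotientGroup.nontrivial_iff.2 hD
            refine (Group.IsSolvable.commutator_lt_top_of_nontrivial (G := ((orb K).subgroupOf H) ⧸ D)).ne ?_
            have := congrArg (Subgroup.map (QuotientGroup.mk' D)) hperf
            rwa [Subgroup.map_top_of_surjective _ (QuotientGroup.mk'_surjective D), commutator_def,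
              Subgroup.map_commutator,
              Subgroup.map_top_of_surjective _ (QuotientGroup.mk'_surjective D), ← commutator_def]
              at this
          have hT : Nat.card (T : Subgroup ((orb K).subgroupOf H)) = 1 := by
            rw [← hDT.symm.index_eq_card, hDtop, Subgroup.index_top]
          have hnd : ¬ p ∣ Nat.card ((orb K).subgroupOf H) := by
            rw [← Subgroup.index_mul_card (T : Subgroup ((orb K).subgroupOf H)), hT, mul_one]
            exact T.not_dvd_index
          have hKc : (Nat.card K).Coprime p := by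
            refine (hp.coprime_iff_not_dvd.2 fun hd => hnd (hd.trans ?_)).symm
            rw [Nat.card_congr (Subgroup.subgroupOfEquivOfLe hOH).toEquiv]
            refine Subgroup.card_dvd_of_le ?_
            have := le_iSup (fun x : (P : Subgroup G) => K.map (MulAut.conj (x : G)).toMonoidHom) 1
            rwa [Subgroup.coe_one, Agent.Coprime.map_conj_one] at this
          exact qsSub_ne_bot hK.2 (le_bot_iff.1
            (hcore ▸ Cores.le_pPrimeCore_of_isSubnormal hK.1 hKc))
        exact not_disjoint hna hgen (horbn K) (horbn L) hdisj (hf K hK) (hf L hL)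
      refine ⟨le_antisymm (hFE ▸ layer_le_iff.2 fun L hL => ?_) (hFE ▸ huniq _ inferInstance ?_),
        fun _ => horb⟩
      · obtain ⟨x, -, rfl⟩ := horb L₀ L hL₀ hL
        rintro _ ⟨y, hy, rfl⟩
        exact hNn.conj_mem y (hL₀N hy) x
      · exact fun h => layer_eq_bot_iff.1 h L₀ hL₀
  obtain ⟨hF, hperm⟩ := hFN
  refine ⟨⟨fun h => hN (hF.symm.trans h), fun K hK h1 => hF.le.trans (huniq K hK h1)⟩, ?_, fun h => hperm (hF ▸ h)⟩
  obtain ⟨c, hc⟩ := exists_cyclic_supplement P.isPGroup' hgen
    (Q := F'.subgroupOf (P : Subgroup G)) (fun h => not_le_frattini P hcore hfrat (M := F')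
      (fun h => hN (hF.symm.trans h)) fun x hx => ⟨⟨x, hx.2⟩, h hx.1, rfl⟩)
  refine ⟨⟨QuotientGroup.mk' F' (c : G), c, c.2, rfl⟩, ?_⟩
  rintro ⟨_, x, hx, rfl⟩
  have hn : Subgroup.zpowers c ≤
      Subgroup.normalizer ((F'.subgroupOf (P : Subgroup G) : Subgroup _) : Set _) :=
    le_normalizer_of_normal _
  obtain ⟨f, hf, e, he, hfe⟩ := (Agent.Coprime.mem_sup_iff hn).1
    ((sup_comm (Subgroup.zpowers c) _ ▸ hc).ge (Subgroup.mem_top (⟨x, hx⟩ : (P : Subgroup G))))
  obtain ⟨i, rfl⟩ := Subgroup.mem_zpowers_iff.1 he
  refine ⟨i, Subtype.ext ?_⟩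
  show ((⟨QuotientGroup.mk' F' (c : G), _⟩ : (P : Subgroup G).map (QuotientGroup.mk' F')) ^ i).1 =
    QuotientGroup.mk' F' x
  rw [Subgroup.coe_zpow, ← map_zpow]
  have hx' : (f : G) * (c : G) ^ i = x := by
    rw [← Subgroup.coe_zpow, ← Subgroup.coe_mul, hfe]
  rw [← hx', map_mul, QuotientGroup.mk'_apply, QuotientGroup.mk'_apply,
    (QuotientGroup.eq_one_iff (f : G)).2 hf, one_mul]

end Cfsg.Agent.S4172
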