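import Cfsg.Statements.S4178
-- import your own Cfsg.Agent.* helpers here

set_option autoImplicit false
open Cfsg

namespace Cfsg.Agent.S4178

/-- Let F be a finite field with q elements, V a non-zero finite-dimensional F-space of dimension d, H a group of invertible linear maps of V, and R the subgroup of H generated by the elements of H that fix some non-zero vector (have eigenvalue 1). Then the index of R in H is at most q^d − 1; and if H leaves invariant some proper non-zero subspace, the index is at most q^(d/2) − 1. -/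
theorem result {F V : Type*} [Field F] [Fintype F] [AddCommGroup V] [Module F V] [FiniteDimensional F V] [Nontrivial V]
    (H : Subgroup (V ≃ₗ[F] V)) :
    (Subgroup.closure {h : ↥H | ∃ v : V, v ≠ 0 ∧ (h : V ≃ₗ[F] V) v = v}).index ≤ Fintype.card F ^ Module.finrank F V - 1 ∧
    ((∃ W : Submodule F V, W ≠ ⊥ ∧ W ≠ ⊤ ∧ ∀ h ∈ H, ∀ w ∈ W, h w ∈ W) →
      ((Subgroup.closure {h : ↥H | ∃ v : V, v ≠ 0 ∧ (h : V ≃ₗ[F] V) v = v}).index : ℝ) ≤ Real.sqrt ((Fintype.card F : ℝ) ^ Module.finrank F V) - 1) := by
  classical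
  have : Finite V := Module.finite_of_finite F
  set R := Subgroup.closure {h : ↥H | ∃ v : V, v ≠ 0 ∧ (h : V ≃ₗ[F] V) v = v} with hR
  have horb : ∀ v : V, v ≠ 0 → ∀ h h' : H, (h : V ≃ₗ[F] V) v = (h' : V ≃ₗ[F] V) v → h⁻¹ * h' ∈ R := by
    intro v hv h h' he
    refine Subgroup.subset_closure ⟨v, hv, ?_⟩
    show (h : V ≃ₗ[F] V).symm ((h' : V ≃ₗ[F] V) v) = v
    rw [← he, LinearEquiv.symm_apply_apply]
  have hcard : Nat.card V = Fintype.card F ^ Module.finrank F V := by
    rw [Module.natCard_eq_pow_finrank (K := F), Nat.card_eq_fintype_card]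
  have hinj : ∀ (s : Set V) (v : V), v ≠ 0 → (∀ h : H, (h : V ≃ₗ[F] V) v ∈ s) → R.index ≤ s.ncard := by
    intro s v hv hs
    rw [← Nat.card_coe_set_eq]
    refine Nat.card_le_card_of_injective (fun q : ↥H ⧸ R => (⟨_, hs q.out⟩ : s)) ?_
    intro q q' hq
    rw [← q.out_eq', ← q'.out_eq', QuotientGroup.eq]
    exact horb v hv _ _ (congrArg Subtype.val hq)
  constructor
  · obtain ⟨v, hv⟩ := exists_ne (0 : V)
    refine (hinj ({0}ᶜ) v hv fun h => by simpa using hv).trans (le_of_eq ?_)
    rw [Set.ncard_compl, Set.ncard_singleton, hcard]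
  · rintro ⟨W, hW0, hW1, hWH⟩
    obtain ⟨w, hw, hw0⟩ := (Submodule.ne_bot_iff W).mp hW0
    obtain ⟨u, hu⟩ : ∃ u : V, u ∉ W := by
      by_contra h
      push Not at h
      exact hW1 (Submodule.eq_top_iff'.mpr h)
    have h1 : R.index ≤ Nat.card W - 1 := by
      refine (hinj ((W : Set V) \ {0}) w hw0 fun h => ⟨hWH h h.2 w hw, by simpa using hw0⟩).trans
        (le_of_eq ?_)
      rw [Set.ncard_sdiff_singleton_of_mem W.zero_mem]
      rfl
    have hfix : ∀ h : H, (h : V ≃ₗ[F] V) u - u ∈ W → h ∈ R := by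
      intro h hh
      by_contra hcon
      have hfree : ∀ v : V, (h : V ≃ₗ[F] V) v = v → v = 0 := fun v he => by
        by_contra hv
        exact hcon (Subgroup.subset_closure ⟨v, hv, he⟩)
      let f : W → W := fun x => ⟨(h : V ≃ₗ[F] V) x - x, W.sub_mem (hWH h h.2 x x.2) x.2⟩
      have hf : Function.Injective f := by
        intro x y hxy
        have hxy' : (h : V ≃ₗ[F] V) x - x = (h : V ≃ₗ[F] V) y - y := congrArg Subtype.val hxy
        refine Subtype.ext (sub_eq_zero.mp (hfree _ ?_))
        rw [map_sub, sub_eq_sub_iff_sub_eq_sub]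
        exact hxy'
      obtain ⟨x, hx⟩ := Finite.surjective_of_injective hf ⟨_, hh⟩
      have hx' : (h : V ≃ₗ[F] V) x - x = (h : V ≃ₗ[F] V) u - u := congrArg Subtype.val hx
      have := hfree (u - x) (by rw [map_sub, sub_eq_sub_iff_sub_eq_sub]; exact hx'.symm)
      exact hu (by rw [sub_eq_zero.mp this]; exact x.2)
    have hfinQ : Finite (V ⧸ W) := Finite.of_surjective _ (Submodule.Quotient.mk_surjective W)
    have h2 : R.index ≤ Nat.card (V ⧸ W) - 1 := by
      let F' : ↥H ⧸ R → ↥(({0} : Set (V ⧸ W))ᶜ) := fun q =>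
        ⟨Submodule.Quotient.mk ((q.out : V ≃ₗ[F] V) u), by
          rw [Set.mem_compl_singleton_iff, ne_eq, Submodule.Quotient.mk_eq_zero]
          intro hmem
          apply hu
          simpa using hWH _ (H.inv_mem q.out.2) _ hmem⟩
      have hF' : Function.Injective F' := by
        intro q q' hq
        have hq' := congrArg Subtype.val hq
        rw [Submodule.Quotient.eq] at hq'
        rw [← q.out_eq', ← q'.out_eq', QuotientGroup.eq]
        apply hfix
        have := hWH _ (H.inv_mem q.out.2) _ (W.neg_mem hq')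
        simpa [map_sub] using this
      have := Nat.card_le_card_of_injective F' hF'
      rw [Nat.card_coe_set_eq, Set.ncard_compl, Set.ncard_singleton] at this
      exact this
    have hmul := Submodule.card_eq_card_quotient_mul_card W
    have hWp : 1 ≤ Nat.card W := Nat.card_pos
    have hQp : 1 ≤ Nat.card (V ⧸ W) := Nat.card_pos
    have h3 : (R.index + 1) * (R.index + 1) ≤ Fintype.card F ^ Module.finrank F V := by
      rw [← hcard, hmul]
      exact Nat.mul_le_mul (by omega) (by omega)
    rw [le_sub_iff_add_le]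
    apply Real.le_sqrt_of_sq_le
    rw [sq]
    exact_mod_cast h3

end Cfsg.Agent.S4178
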