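import Cfsg.Statements.S4181
import Cfsg.Agent.H47.SylFix

set_option autoImplicit false
open Cfsg

namespace Cfsg.Agent.S4181

/-- Let p be a prime and G a finite group generated by its elements of p-power order, and let H be a proper subgroup of G containing a Sylow p-subgroup of G. Then 2p − 1 times the number of Sylow p-subgroups of H is at most p − 1 times the number of Sylow p-subgroups of G. -/
theorem result {G : Type*} [Group G] [Finite G] (p : ℕ) [Fact p.Prime] (hgen : Subgroup.closure {g : G | ∃ k : ℕ, orderOf g = p ^ k} = ⊤)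
    (H : Subgroup G) (hH : H ≠ ⊤) (P : Sylow p G) (hP : (P : Subgroup G) ≤ H) :
    (2 * p - 1) * Nat.card (Sylow p ↥H) ≤ (p - 1) * Nat.card (Sylow p G) := by
  classical
  haveI : Fintype (G ⧸ H) := Fintype.ofFinite _
  haveI := Fintype.ofFinite (Sylow p G)
  let a : G ⧸ H := QuotientGroup.mk 1
  have hstab : ∀ g : G, g • a = a ↔ g ∈ H := by
    intro g
    rw [← MulAction.mem_stabilizer_iff, MulAction.stabilizer_quotient]
  have hmv : Agent.H47.SylFix.Moved G a := by
    obtain ⟨g, -, hg⟩ := SetLike.exists_of_lt (lt_top_iff_ne_top.mpr hH)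
    exact ⟨g, fun h => hg ((hstab g).mp h)⟩
  obtain ⟨hlo, -, -⟩ := Agent.H47.SylFix.orbit_facts
    (Agent.H47.SylFix.bnd (p := p) (Nat.card (G ⧸ H) + 1)) hgen (Nat.lt_succ_self _) P hmv
  have hc := Agent.H47.SylFix.count (⊤ : Subgroup G) (P := P) le_top a
  simp only [le_top, true_and, Finset.filter_true] at hc
  have hA : (Finset.univ.filter fun R : Sylow p G => Agent.H47.SylFix.PFix p R a).card
      = Nat.card (Sylow p ↥H) := by
    rw [← Fintype.card_coe, ← Nat.card_eq_fintype_card]
    have hle : ∀ R : {R // R ∈ Finset.univ.filter fun R : Sylow p G => Agent.H47.SylFix.PFix p R a},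
        (R.1 : Subgroup G) ≤ H :=
      fun R g hg => (hstab g).mp ((Finset.mem_filter.mp R.2).2 g hg)
    refine Nat.card_congr (Equiv.ofBijective (fun R => R.1.subtype (hle R)) ⟨?_, ?_⟩)
    · intro R₁ R₂ h
      exact Subtype.ext (Sylow.subtype_injective h)
    · intro R
      obtain ⟨h, hh, rfl⟩ := Agent.H47.SylFix.exists_eq_subtype hP R
      exact ⟨⟨h • P, Finset.mem_filter.mpr ⟨Finset.mem_univ _,
        fun g hg => (hstab g).mpr (Sylow.smul_le hP ⟨h, hh⟩ hg)⟩⟩, rfl⟩
  rw [hA, Finset.card_univ, ← Nat.card_eq_fintype_card] at hc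
  set n := (Agent.H47.SylFix.orb (⊤ : Subgroup G) a).card with hn
  set f := ((Agent.H47.SylFix.orb (⊤ : Subgroup G) a).filter
    fun b => Agent.H47.SylFix.PFix p P b).card with hf
  have hp := (Fact.out : p.Prime).one_le
  have hnpos : 0 < n := Finset.card_pos.mpr ⟨a, Agent.H47.SylFix.self_mem_orb _ a⟩
  have hlo' : (2 * p - 1) * f ≤ (p - 1) * n := by
    zify [hp, (by omega : 1 ≤ 2 * p)]
    exact hlo
  refine Nat.le_of_mul_le_mul_right ?_ hnpos
  calc (2 * p - 1) * Nat.card (Sylow p ↥H) * n = Nat.card (Sylow p G) * ((2 * p - 1) * f) := by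
        rw [mul_assoc, hc]; ring
    _ ≤ Nat.card (Sylow p G) * ((p - 1) * n) := Nat.mul_le_mul le_rfl hlo'
    _ = (p - 1) * Nat.card (Sylow p G) * n := by ring

end Cfsg.Agent.S4181
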