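import Cfsg.Statements.S4184
import Cfsg.Agent.H24.ClassSizeTypes

set_option autoImplicit false
open Cfsg
open Cfsg.Agent.H24.ClassSizeTypes

namespace Cfsg.Agent.S4184


theorem card_eq {G M : Type*}
    [Group G] [Finite G] [Group M] [Finite M] (hZG : Subgroup.center G = ⊥) (hZM : Subgroup.center M = ⊥)
    (h : Set.range (cs : G → ℕ) = Set.range (cs : M → ℕ)) {A : Set ℕ}
    (hA : ∃ a ∈ A, a.Prime ∧ a ∣ Nat.card M) (hB : ∃ b ∉ A, b.Prime ∧ b ∣ Nat.card M)
    (hno : ∀ a ∈ A, ∀ b ∉ A, a.Prime → b.Prime → a ∣ Nat.card M → b ∣ Nat.card M →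
      ¬ ∃ x : M, orderOf x = a * b) : Nat.card G = Nat.card M := by
  set N := Nat.card M with hNdef
  have hN : N ≠ 0 := Nat.card_pos.ne'
  have D : SizeData A N (Set.range (cs : G → ℕ)) := h ▸ sizeData_self hZM hA hB hno
  -- primes dividing `N` divide `Nat.card G`, with at least the same multiplicity
  have hge : ∀ r : ℕ, r.Prime → N.factorization r ≤ (Nat.card G).factorization r := by
    intro r hr
    by_cases hrN : r ∣ N
    swap
    · rw [Nat.factorization_eq_zero_of_not_dvd hrN]; exact Nat.zero_le _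
    obtain ⟨c, hcP, hc, hcd, hcside⟩ : ∃ c, c.Prime ∧ c ∣ N ∧ c ≠ r ∧ (r ∈ A ↔ c ∉ A) := by
      obtain ⟨a, haA, ha, haN⟩ := hA
      obtain ⟨b, hbA, hb, hbN⟩ := hB
      by_cases hrA : r ∈ A
      · exact ⟨b, hb, hbN, fun e => hbA (e ▸ hrA), iff_of_true hrA hbA⟩
      · exact ⟨a, ha, haN, fun e => hrA (e ▸ haA), iff_of_false hrA (not_not.2 haA)⟩
    obtain ⟨s, hs, hs1, hcs⟩ := D.avoid c hcP hc
    have hfull : N.factorization r ≤ s.factorization r := by
      by_cases hrA : r ∈ A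
      · exact D.typeIn_of_avoid hs hs1 hcP hN hc (hcside.1 hrA) hcs r hr hrA
      · exact D.symm.typeIn_of_avoid hs hs1 hcP hN hc
          (fun hc' => hrA (hcside.2 hc')) hcs r hr hrA
    obtain ⟨x, rfl⟩ := hs
    exact hfull.trans ((Nat.factorization_le_iff_dvd Subgroup.index_ne_zero_of_finite Nat.card_pos.ne').2
      (Subgroup.index_dvd_card _) r)
  have hdvdG : ∀ c : ℕ, c.Prime → c ∣ N → c ∣ Nat.card G := fun c hc hcN =>
    Nat.dvd_of_factorization_pos (Nat.ne_of_gt ((hc.factorization_pos_of_dvd hN hcN).trans_le (hge c hc)))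
  have hle : ∀ r : ℕ, r.Prime → (Nat.card G).factorization r ≤ N.factorization r := by
    intro r hr
    have main : ∀ B : Set ℕ, SizeData B N (Set.range (cs : G → ℕ)) → (∃ b ∉ B, b.Prime ∧ b ∣ N ∧ b ≠ r) →
        (r ∣ N → r ∈ B) → (∃ (P : Sylow r G) (z : G), (∀ y ∈ (P : Subgroup G), y * z = z * y) ∧ orderOf z = r ∧
          ¬ TypeIn B N (cs z)) →
        (Nat.card G).factorization r ≤ N.factorization r := by
      rintro B DB ⟨b, hbB, hb, hbN, hbr⟩ hrB hzB
      refine factorization_le hZG DB hN hr hb hbB hbN hbr (hdvdG b hb hbN) (fun s _ hs => ?_) hzB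
      by_cases hrN : r ∣ N
      · exact hs r hr (hrB hrN)
      · rw [Nat.factorization_eq_zero_of_not_dvd hrN]; exact Nat.zero_le _
    obtain ⟨a, haA, ha, haN⟩ := hA
    obtain ⟨b, hbA, hb, hbN⟩ := hB
    by_cases hrG : r ∣ Nat.card G
    swap
    · rw [Nat.factorization_eq_zero_of_not_dvd hrG]; exact Nat.zero_le _
    have := Fact.mk hr
    obtain ⟨P⟩ : Nonempty (Sylow r G) := inferInstance
    obtain ⟨z, hzP, hzo, hznd⟩ := exists_central_sylow_element P hrG
    by_cases hzA : TypeIn A N (cs z)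
    · have hrA : r ∣ N → r ∈ Aᶜ := fun hrN hrA => by
        have := hzA r hr hrA
        rw [Nat.factorization_eq_zero_of_not_dvd hznd, nonpos_iff_eq_zero] at this
        exact (hr.factorization_pos_of_dvd hN hrN).ne' this
      exact main Aᶜ D.symm ⟨a, fun hc => hc haA, ha, haN, fun e => hrA (e ▸ haN) (e ▸ haA)⟩ hrA
        ⟨P, z, hzP, hzo, fun h' => D.excl _ ⟨z, rfl⟩ ⟨hzA, h'⟩⟩
    · have hrA : r ∣ N → r ∈ A := fun hrN => by
        by_contra hrA
        have hz1 : z ≠ 1 := fun e => by rw [e, orderOf_one] at hzo; exact hr.one_lt.ne hzo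
        exact hzA (D.typeIn_of_avoid ⟨z, rfl⟩ (cs_ne_one hZG hz1) hr hN hrN hrA hznd)
      exact main A D ⟨b, hbA, hb, hbN, fun e => hbA (e ▸ hrA (e ▸ hbN))⟩ hrA ⟨P, z, hzP, hzo, hzA⟩
  refine Nat.eq_of_factorization_eq Nat.card_pos.ne' hN fun r => ?_
  by_cases hr : r.Prime
  · exact le_antisymm (hle r hr) (hge r hr)
  · rw [Nat.factorization_eq_zero_of_not_prime _ hr, Nat.factorization_eq_zero_of_not_prime _ hr]

/-- Let G and M be finite groups with trivial centres and the same set of conjugacy class sizes, and suppose the prime graph of M is disconnected: the prime divisors of #M split into two non-empty parts such that M has no element of order pq with p in one part and q in the other. Then #G = #M. -/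
theorem result {G M : Type*}
    [Group G] [Finite G] [Group M] [Finite M] (hZG : Subgroup.center G = ⊥) (hZM : Subgroup.center M = ⊥)
    (h : Set.range (fun g : G => (Subgroup.centralizer ({g} : Set G)).index) = Set.range (fun g : M => (Subgroup.centralizer ({g} : Set M)).index))
    (hdisc : ∃ A : Set ℕ, (∃ a ∈ A, a.Prime ∧ a ∣ Nat.card M) ∧ (∃ b ∉ A, b.Prime ∧ b ∣ Nat.card M) ∧
      ∀ a ∈ A, ∀ b ∉ A, a.Prime → b.Prime → a ∣ Nat.card M → b ∣ Nat.card M → ¬ ∃ x : M, orderOf x = a * b) :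
    Nat.card G = Nat.card M := by
  obtain ⟨A, hA, hB, hno⟩ := hdisc
  exact card_eq hZG hZM h hA hB hno

end Cfsg.Agent.S4184
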