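import Cfsg.Statements.S4186
-- import your own Cfsg.Agent.* helpers here

set_option autoImplicit false
open Cfsg

namespace Cfsg.Agent.S4186

/-- Let T and X be subgroups of a group with T a finite 2-group normalizing X but not centralizing it. Then some element of T inverts some non-identity element of X under conjugation. -/
theorem result {G : Type*} [Group G] (T X : Subgroup G) [Finite ↥T] (hT : IsPGroup 2 ↥T) (hTN : T ≤ Subgroup.normalizer (X : Set G)) (hTC : ¬ T ≤ Subgroup.centralizer (X : Set G)) : ∃ t ∈ T, ∃ x ∈ X, x ≠ 1 ∧ t * x * t⁻¹ = x⁻¹ := by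
  classical
  obtain ⟨t0, ht0T, ht0⟩ := SetLike.not_le_iff_exists.mp hTC
  obtain ⟨k, hk⟩ := hT ⟨t0, ht0T⟩
  have hk' : t0 ^ 2 ^ k = 1 := by simpa using congrArg Subtype.val hk
  have hex : ∃ i : ℕ, t0 ^ 2 ^ i ∈ Subgroup.centralizer (X : Set G) :=
    ⟨k, by rw [hk']; exact one_mem _⟩
  obtain ⟨j, hj⟩ : ∃ j, Nat.find hex = j + 1 := by
    refine Nat.exists_eq_succ_of_ne_zero fun h0 => ht0 ?_
    have := Nat.find_spec hex
    rw [h0] at this
    simpa using this
  set t := t0 ^ 2 ^ j with htdef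
  have ht : t ∉ Subgroup.centralizer (X : Set G) := Nat.find_min hex (by omega)
  have htT : t ∈ T := T.pow_mem ht0T _
  have ht2 : t * t ∈ Subgroup.centralizer (X : Set G) := by
    have := Nat.find_spec hex
    rw [hj, pow_succ, pow_mul, pow_two] at this
    exact this
  rw [Subgroup.mem_centralizer_iff] at ht
  push Not at ht
  obtain ⟨x0, hx0, hne⟩ := ht
  have hconj : t * x0 * t⁻¹ ∈ X := (Subgroup.mem_normalizer_iff.mp (hTN htT) x0).mp hx0
  refine ⟨t, htT, x0⁻¹ * (t * x0 * t⁻¹), X.mul_mem (X.inv_mem hx0) hconj, ?_, ?_⟩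
  · intro h
    apply hne
    rw [inv_mul_eq_one, eq_mul_inv_iff_mul_eq] at h
    exact h
  · have h := Subgroup.mem_centralizer_iff.mp ht2 x0 hx0
    calc t * (x0⁻¹ * (t * x0 * t⁻¹)) * t⁻¹
        = t * x0⁻¹ * t⁻¹ * (t * t * x0) * (t * t)⁻¹ := by group
      _ = t * x0⁻¹ * t⁻¹ * (x0 * (t * t)) * (t * t)⁻¹ := by rw [h]
      _ = (x0⁻¹ * (t * x0 * t⁻¹))⁻¹ := by group

end Cfsg.Agent.S4186
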