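import Cfsg.Statements.S4188
import Cfsg.Agent.H77.TwoRankBound

set_option autoImplicit false
open Cfsg

namespace Cfsg.Agent.S4188

/-- Let G be a finite group that is the semidirect product of a normal abelian subgroup N of odd order by a 2-subgroup P, and suppose N is the unique minimal normal subgroup of G. Then the index of the Frattini subgroup of P in P is at most #N − 1. -/
theorem result {G : Type*} [Group G] [Finite G] (N P : Subgroup G) (hN : N.Normal) (hNab : IsMulCommutative ↥N) (hNodd : Odd (Nat.card ↥N)) (hP : IsPGroup 2 ↥P) (hdisj : N ⊓ P = ⊥) (hprod : N ⊔ P = ⊤) (hmin : N ≠ ⊥ ∧ ∀ M : Subgroup G, M.Normal → M ≠ ⊥ → N ≤ M) : (frattini ↥P).index ≤ Nat.card ↥N - 1 := by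
  haveI := hN
  open scoped IsMulCommutative in
  let f : P →* MulAut N := MulAut.conjNormal.comp P.subtype
  have hf : Function.Injective f := by
    rw [← MonoidHom.ker_eq_bot_iff]
    by_contra hk
    set K := f.ker.map P.subtype with hKdef
    have hKne : K ≠ ⊥ := fun e => hk ((Subgroup.map_eq_bot_iff_of_injective _ P.subtype_injective).mp e)
    have hKn : K.Normal := by
      rw [← Subgroup.normalizer_eq_top_iff, eq_top_iff, ← hprod, sup_le_iff]
      constructor
      · refine le_trans ?_ (Subgroup.centralizer_le_normalizer _)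
        intro n hn
        rw [Subgroup.mem_centralizer_iff]
        rintro _ ⟨k, hk', rfl⟩
        have h1 := congrArg Subtype.val (DFunLike.congr_fun (MonoidHom.mem_ker.mp hk') ⟨n, hn⟩)
        simp [f] at h1
        exact mul_inv_eq_iff_eq_mul.mp h1
      · rw [hKdef]
        exact (Subgroup.le_normalizer_map P.subtype).trans' (by
          rw [Subgroup.normalizer_eq_top, ← MonoidHom.range_eq_map, Subgroup.range_subtype])
    have hle : N ≤ N ⊓ P := le_inf le_rfl ((hmin.2 K hKn hKne).trans (Subgroup.map_subtype_le _))
    rw [hdisj] at hle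
    exact hmin.1 (le_bot_iff.mp hle)
  have hb := H77.boundAt_all (Nat.card N) N le_rfl hNodd P hP f hf
  have h1 : 1 < Nat.card N := N.one_lt_card_iff_ne_bot.mpr hmin.1
  have hH : H77.fidx P ≤ Nat.card N - 1 := by
    rcases (show Nat.card N = 2 ∨ Nat.card N = 3 ∨ 3 < Nat.card N by omega) with h | h | h
    · rw [h] at hNodd; exact absurd hNodd (by decide)
    · have := hb.2.1 h; omega
    · have := hb.2.2 h; omega
  exact hH

end Cfsg.Agent.S4188
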