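import Cfsg.Statements.S4189
import Cfsg.Agent.PGroups.Taussky
import Cfsg.Agent.PGroups.TwoGroups
import Cfsg.Agent.PGroups.MaxClass
import Cfsg.Agent.PGroups.CyclicMaximal

set_option autoImplicit false
open Cfsg

namespace Cfsg.Agent.S4189

/-- Let P be a finite non-abelian 2-group whose commutator subgroup has index 4 and whose automorphism group is not a 2-group (some automorphism has order that is not a power of 2). Then P is isomorphic to the quaternion group of order 8. -/
theorem result {P : Type*} [Group P] [Finite P] (hP : IsPGroup 2 P) (hna : ¬ IsMulCommutative P) (h4 : (commutator P).index = 4) (haut : ¬ IsPGroup 2 (MulAut P)) : Nonempty (P ≃* QuaternionGroup 2) := by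
  haveI : Fact (Nat.Prime 2) := ⟨Nat.prime_two⟩
  obtain ⟨n, hn⟩ := IsPGroup.iff_card.mp hP
  have hmul := (commutator P).card_mul_index
  rw [h4, hn] at hmul
  have hne : commutator P ≠ ⊥ := fun e => hna ((commutator_eq_bot_iff P).mp e)
  have hn3 : 3 ≤ n := by
    have h1 : 1 < Nat.card (commutator P) := (commutator P).one_lt_card_iff_ne_bot.mpr hne
    by_contra hlt
    have : 2 ^ n ≤ 2 ^ 2 := Nat.pow_le_pow_right two_pos (by omega)
    omega
  have hc := PGroups.maxClass_of_index_commutator n P hn3 hn h4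
  obtain ⟨c, y, hk, hy, hcase, -⟩ := PGroups.maxClass_two hn3 hn hc
  have hidx : (Subgroup.zpowers c).index = 2 := by
    have h1 := (Subgroup.zpowers c).card_mul_index
    rw [Nat.card_zpowers, hk, hn] at h1
    nth_rw 2 [show n = (n - 1) + 1 by omega] at h1
    rw [pow_succ] at h1
    exact Nat.eq_of_mul_eq_mul_left (by positivity) h1
  obtain ⟨φ, hφ⟩ : ∃ φ : MulAut P, φ c ∉ Subgroup.zpowers c := by
    by_contra hall
    push Not at hall
    exact haut (PGroups.isPGroup_mulAut hk hidx hy hall)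
  set d := φ c with hd
  have hdo : orderOf d = 2 ^ (n - 1) := by rw [hd, MulEquiv.orderOf_eq, hk]
  have hdy : d * y⁻¹ ∈ Subgroup.zpowers c := by
    rw [Subgroup.mul_mem_iff_of_index_two hidx]
    simp [hφ, hy]
  obtain ⟨i, hi⟩ := Subgroup.mem_zpowers_iff.mp hdy
  have hdi : d = c ^ i * y := by rw [hi, inv_mul_cancel_right]
  have hsq : ∀ r : ℤ, y * c * y⁻¹ = c ^ r → d ^ 2 = c ^ (i + r * i) * y ^ 2 := by
    intro r hr
    have h1 : y * c ^ i * y⁻¹ = c ^ (r * i) := by rw [← conj_zpow, hr, zpow_mul]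
    calc d ^ 2 = c ^ i * (y * c ^ i * y⁻¹) * (y * y) := by rw [hdi, pow_two]; group
      _ = c ^ (i + r * i) * y ^ 2 := by rw [h1, ← zpow_add, pow_two]
  have hle : ∀ m : ℕ, d ^ 2 ^ m = 1 → n - 1 ≤ m := fun m hm => by
    have := orderOf_dvd_of_pow_eq_one hm
    rwa [hdo, Nat.pow_dvd_pow_iff_le_right one_lt_two] at this
  rcases hcase with ⟨h1, h2 | h2⟩ | ⟨hn4, h1, h2⟩
  · exfalso
    have := hle 1 (by rw [pow_one, hsq (-1) (by rw [h1, zpow_neg_one]), h2]; simp)
    omega
  · have hy4 : y ^ 2 * y ^ 2 = 1 := by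
      rw [h2, ← pow_add, ← two_mul, ← pow_succ', show n - 2 + 1 = n - 1 by omega, ← hk, pow_orderOf_eq_one]
    have := hle 2 (by
      rw [show (2 : ℕ) ^ 2 = 2 + 2 by norm_num, pow_add, hsq (-1) (by rw [h1, zpow_neg_one])]
      simpa using hy4)
    have hn' : n = 3 := by omega
    subst hn'
    exact PGroups.nonempty_mulEquiv_quaternion (n := 2) (by rw [hk]; norm_num) hy h2 h1 (by rw [hn]; norm_num)
  · exfalso
    have hr : y * c * y⁻¹ = c ^ ((2 : ℤ) ^ (n - 2) - 1) := by
      rw [h1, ← zpow_natCast, Nat.cast_sub Nat.one_le_two_pow]; push_cast; rfl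
    have := hle 2 (by
      rw [show (2 : ℕ) ^ 2 = 2 + 2 by norm_num, pow_add, hsq _ hr, h2, mul_one, ← zpow_add,
        ← orderOf_dvd_iff_zpow_eq_one, hk]
      refine ⟨i, ?_⟩
      push_cast
      rw [show n - 1 = n - 2 + 1 by omega, pow_succ]; ring)
    omega

end Cfsg.Agent.S4189
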