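import Cfsg.Statements.S4196
import Cfsg.Agent.H77.Real

set_option autoImplicit false
open Cfsg

namespace Cfsg.Agent.S4196

/-- A finite group G has elementary abelian Sylow 2-subgroups (commutative with every element squaring to the identity) if and only if every 2-element of G has a Sylow 2-subgroup in its centralizer and is conjugate to its inverse. -/
theorem result {G : Type*} [Group G] [Finite G] (P : Sylow 2 G) :
    (IsMulCommutative (P : Subgroup G) ∧ ∀ x ∈ (P : Subgroup G), x ^ 2 = 1) ↔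
      ∀ x : G, (∃ k : ℕ, orderOf x = 2 ^ k) → (∃ Q : Sylow 2 G, (Q : Subgroup G) ≤ Subgroup.centralizer ({x} : Set G)) ∧ IsConj x x⁻¹ := by
  constructor
  · rintro ⟨hc, hsq⟩ x ⟨k, hk⟩
    have hp : IsPGroup 2 ↥(Subgroup.zpowers x) :=
      IsPGroup.of_card (n := k) (by rw [Nat.card_zpowers, hk])
    obtain ⟨Q, hQ⟩ := hp.exists_le_sylow
    have hxQ : x ∈ (Q : Subgroup G) := hQ (Subgroup.mem_zpowers x)
    let e : (P : Subgroup G) ≃* (Q : Subgroup G) := P.equiv Q
    have hQc : ∀ a b : (Q : Subgroup G), a * b = b * a := fun a b => by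
      obtain ⟨a, rfl⟩ := e.surjective a
      obtain ⟨b, rfl⟩ := e.surjective b
      rw [← map_mul, ← map_mul, hc.is_comm.comm]
    have hx2 : x ^ 2 = 1 := by
      obtain ⟨a, ha⟩ := e.surjective ⟨x, hxQ⟩
      have : (e a) ^ 2 = 1 := by
        rw [← map_pow, show a ^ 2 = 1 from Subtype.ext (hsq a a.2), map_one]
      rw [ha] at this
      exact congrArg Subtype.val this
    refine ⟨⟨Q, fun y hy => ?_⟩, ?_⟩
    · rw [Subgroup.mem_centralizer_singleton_iff]
      exact congrArg Subtype.val (hQc ⟨y, hy⟩ ⟨x, hxQ⟩)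
    · rw [show x⁻¹ = x from inv_eq_of_mul_eq_one_right (by rw [← pow_two, hx2])]
  · intro h
    have hsq : ∀ x ∈ (P : Subgroup G), x ^ 2 = 1 := by
      intro x hx
      obtain ⟨k, hk⟩ := (Nat.dvd_prime_pow Nat.prime_two).mp
        ((Subgroup.orderOf_dvd_natCard _ hx).trans P.card_eq_multiplicity.dvd)
      obtain ⟨⟨Q, hQ⟩, hr⟩ := h x ⟨k, hk.2⟩
      exact H77.sq_eq_one_of_real_of_two_central x Q hQ hr
    refine ⟨⟨⟨fun a b => Subtype.ext ?_⟩⟩, hsq⟩
    have inv : ∀ x ∈ (P : Subgroup G), x⁻¹ = x := fun x hx =>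
      inv_eq_of_mul_eq_one_right (by rw [← pow_two, hsq x hx])
    have hab := inv _ (mul_mem a.2 b.2)
    rw [mul_inv_rev, inv _ a.2, inv _ b.2] at hab
    exact hab.symm

end Cfsg.Agent.S4196
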