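import Cfsg.Statements.S4198
import Mathlib

set_option autoImplicit false
open Cfsg

namespace Cfsg.Agent.S4198

open Equiv Multiset

/-- Partitions of `n + 1` are at most twice as many as partitions of `n`. -/
theorem card_partition_succ (n : ℕ) (hn : 1 ≤ n) :
    Fintype.card (Nat.Partition (n + 1)) ≤ 2 * Fintype.card (Nat.Partition n) := by
  classical
  rw [two_mul, ← Fintype.card_sum]
  have h1 : 1 ≤ n + 1 := by omega
  -- for a partition without ones, lower the smallest part
  have hmin : ∀ p : Nat.Partition (n + 1), 1 ∉ p.parts → ∃ s ∈ p.parts, 2 ≤ s ∧ ∀ i ∈ p.parts, s ≤ i := by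
    intro p hp
    have hne : p.parts.toFinset.Nonempty := by
      rw [Finset.nonempty_iff_ne_empty, Ne, Multiset.toFinset_eq_empty]
      intro e; have := p.parts_sum; rw [e] at this; simp at this
    obtain ⟨s, hs, hle⟩ := p.parts.toFinset.exists_min_image id hne
    rw [Multiset.mem_toFinset] at hs
    refine ⟨s, hs, ?_, fun i hi => hle i (Multiset.mem_toFinset.mpr hi)⟩
    have := p.parts_pos hs
    rcases Nat.lt_or_ge s 2 with h | h
    · exact absurd ((show s = 1 by omega) ▸ hs) hp
    · exact h
  choose s hs hs2 hsle using hmin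
  let low : ∀ p : Nat.Partition (n + 1), 1 ∉ p.parts → Nat.Partition n := fun p hp =>
    { parts := (s p hp - 1) ::ₘ p.parts.erase (s p hp)
      parts_pos := fun {i} hi => by
        rcases Multiset.mem_cons.mp hi with rfl | hi
        · have := hs2 p hp; omega
        · exact p.parts_pos (Multiset.mem_of_mem_erase hi)
      parts_sum := by
        have h := congrArg Multiset.sum (Multiset.cons_erase (hs p hp))
        rw [Multiset.sum_cons, p.parts_sum] at h
        have := hs2 p hp
        rw [Multiset.sum_cons]; omega }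
  let e := Nat.Partition.partitionWithPartEquiv (n := n + 1) le_rfl h1
  let f : Nat.Partition (n + 1) → Nat.Partition n ⊕ Nat.Partition n := fun p =>
    if hp : 1 ∈ p.parts then Sum.inl (e ⟨p, hp⟩)
    else Sum.inr (low p hp)
  refine Fintype.card_le_of_injective f fun p q h => ?_
  simp only [f] at h
  by_cases hp : 1 ∈ p.parts <;> by_cases hq : 1 ∈ q.parts <;> simp only [hp, hq, dif_pos, dif_neg, not_false_iff] at h
  · exact congrArg Subtype.val (e.injective (Sum.inl_injective h))
  · exact absurd h (by simp)
  · exact absurd h (by simp)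
  · have hm := congrArg Nat.Partition.parts (Sum.inr_injective h)
    simp only [low] at hm
    have hmem : ∀ (r : Nat.Partition (n + 1)) (hr : 1 ∉ r.parts), ∀ i ∈ (s r hr - 1) ::ₘ r.parts.erase (s r hr), s r hr - 1 ≤ i := by
      intro r hr i hi
      rcases Multiset.mem_cons.mp hi with rfl | hi
      · exact le_rfl
      · exact (Nat.sub_le _ _).trans (hsle r hr i (Multiset.mem_of_mem_erase hi))
    have hss : s p hp = s q hq := by
      have a := hmem p hp (s q hq - 1) (by rw [hm]; exact Multiset.mem_cons_self _ _)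
      have b := hmem q hq (s p hp - 1) (by rw [← hm]; exact Multiset.mem_cons_self _ _)
      have := hs2 p hp; have := hs2 q hq
      omega
    rw [hss] at hm
    have h2 := congrArg (s q hq ::ₘ ·) ((Multiset.cons_inj_right _).mp hm)
    simp only [Multiset.cons_erase (hs q hq), Multiset.cons_erase (hss ▸ hs p hp)] at h2
    exact Nat.Partition.ext h2

/-- There are at most eight partitions of five. -/
theorem card_partition_five : Fintype.card (Nat.Partition 5) ≤ 8 := by
  classical
  let M₀ : Multiset ℕ := {1, 1, 1, 1, 1, 2, 2, 3, 4, 5}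
  have hmem : ∀ p : Nat.Partition 5, p.parts ∈ (M₀.powerset.filter (fun T => T.sum = 5)).toFinset := by
    intro p
    rw [Multiset.mem_toFinset, Multiset.mem_filter, Multiset.mem_powerset]
    refine ⟨Multiset.le_iff_count.mpr fun i => ?_, p.parts_sum⟩
    have hle : p.parts.count i * i ≤ 5 := by
      obtain ⟨u, hu⟩ := Multiset.le_iff_exists_add.mp
        (Multiset.le_count_iff_replicate_le.mp (le_refl (p.parts.count i)))
      have := congrArg Multiset.sum hu
      rw [p.parts_sum, Multiset.sum_add, Multiset.sum_replicate, smul_eq_mul] at this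
      omega
    rcases Nat.eq_zero_or_pos (p.parts.count i) with h | h
    · omega
    have hi := p.parts_pos (Multiset.count_pos.mp h)
    have hi5 : i ≤ 5 := p.le_of_mem_parts (Multiset.count_pos.mp h)
    interval_cases i <;> simp [M₀] <;> omega
  have hc := Finset.card_le_card_of_injOn (s := (Finset.univ : Finset (Nat.Partition 5)))
    (fun p => p.parts) (fun p _ => hmem p) (fun p _ q _ h => Nat.Partition.ext h)
  exact hc.trans (by decide +kernel)

theorem card_partition_le (n : ℕ) (hn : 5 ≤ n) : Fintype.card (Nat.Partition n) ≤ 2 ^ (n - 2) := by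
  induction n, hn using Nat.le_induction with
  | base => exact card_partition_five
  | succ n hn ih =>
    refine (card_partition_succ n (by omega)).trans ?_
    rw [show n + 1 - 2 = n - 2 + 1 by omega, pow_succ, mul_comm (2 ^ _)]
    exact Nat.mul_le_mul_left 2 ih

variable {n : ℕ}

/-- A conjugacy class of the alternating group with an odd centralising permutation does not split. -/
theorem isConj_alt {x y : alternatingGroup (Fin n)} (h : IsConj (x : Perm (Fin n)) y)
    (hc : ¬ Subgroup.centralizer {(x : Perm (Fin n))} ≤ alternatingGroup (Fin n)) : IsConj x y := by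
  obtain ⟨c, hcc⟩ := isConj_iff.mp h
  obtain ⟨z, hz, hzA⟩ := SetLike.not_le_iff_exists.mp hc
  rw [Subgroup.mem_centralizer_singleton_iff] at hz
  by_cases hcA : c ∈ alternatingGroup (Fin n)
  · exact isConj_iff.mpr ⟨⟨c, hcA⟩, Subtype.ext hcc⟩
  · rw [Perm.mem_alternatingGroup] at hzA hcA
    have hm : c * z ∈ alternatingGroup (Fin n) := by
      rw [Perm.mem_alternatingGroup, map_mul, (Int.units_eq_one_or _).resolve_left hzA,
        (Int.units_eq_one_or _).resolve_left hcA]; decide
    refine isConj_iff.mpr ⟨⟨c * z, hm⟩, Subtype.ext ?_⟩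
    simp only [Subgroup.coe_mul, Subgroup.coe_inv, mul_inv_rev]
    calc c * z * x * (z⁻¹ * c⁻¹) = c * (z * x * z⁻¹) * c⁻¹ := by group
      _ = y := by rw [show z * (x : Perm (Fin n)) * z⁻¹ = x by rw [hz]; group]; exact hcc

/-- A conjugacy class of the symmetric group contains at most two classes of the alternating group. -/
theorem isConj_alt_three {x y z : alternatingGroup (Fin n)} (hxy : IsConj (x : Perm (Fin n)) y)
    (hxz : IsConj (x : Perm (Fin n)) z) (hy : ¬ IsConj x y) (hz : ¬ IsConj x z) : IsConj y z := by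
  obtain ⟨c, hcc⟩ := isConj_iff.mp hxy
  obtain ⟨d, hdd⟩ := isConj_iff.mp hxz
  have hcA : Perm.sign c = -1 := (Int.units_eq_one_or _).resolve_left
    (fun e => hy (isConj_iff.mpr ⟨⟨c, Perm.mem_alternatingGroup.mpr e⟩, Subtype.ext hcc⟩))
  have hdA : Perm.sign d = -1 := (Int.units_eq_one_or _).resolve_left
    (fun e => hz (isConj_iff.mpr ⟨⟨d, Perm.mem_alternatingGroup.mpr e⟩, Subtype.ext hdd⟩))
  have hm : d * c⁻¹ ∈ alternatingGroup (Fin n) := by
    rw [Perm.mem_alternatingGroup, map_mul, map_inv, hcA, hdA]; decide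
  refine isConj_iff.mpr ⟨⟨d * c⁻¹, hm⟩, Subtype.ext ?_⟩
  simp only [Subgroup.coe_mul, Subgroup.coe_inv, mul_inv_rev, inv_inv]
  rw [← hdd, ← hcc]; group

theorem card_lt (hn : 5 ≤ n) :
    Nat.card (ConjClasses (alternatingGroup (Fin n))) < Nat.card (ConjClasses (Perm (Fin n))) := by
  classical
  let A := alternatingGroup (Fin n)
  let F : ConjClasses A → ConjClasses (Perm (Fin n)) := ConjClasses.map A.subtype
  have hF : ∀ x : A, F (ConjClasses.mk x) = ConjClasses.mk (x : Perm (Fin n)) := fun x => rfl
  -- the odd class attached to a split class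
  have hG : ∀ x : A, Subgroup.centralizer {(x : Perm (Fin n))} ≤ A →
      ∃ (m : ℕ) (τ : Perm (Fin n)), m ∈ (x : Perm (Fin n)).cycleType ∧ 3 ≤ m ∧
        τ.cycleType = (m - 1) ::ₘ (x : Perm (Fin n)).cycleType.erase m ∧ Perm.sign τ = -1 ∧
        τ.cycleType ≠ {2} := by
    intro x hx
    obtain ⟨hodd, hsum, -⟩ := Perm.centralizer_le_alternating_iff.mp hx
    rw [Fintype.card_fin] at hsum
    obtain ⟨m, hm⟩ := Multiset.exists_mem_of_ne_zero (s := (x : Perm (Fin n)).cycleType) (by
      intro e; rw [e] at hsum; simp at hsum; omega)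
    have hm3 : 3 ≤ m := by
      have := Perm.two_le_of_mem_cycleType hm
      obtain ⟨k, hk⟩ := hodd m hm
      omega
    -- take the largest part
    obtain ⟨M, hM, hMmax⟩ := (x : Perm (Fin n)).cycleType.toFinset.exists_max_image id
      ⟨m, Multiset.mem_toFinset.mpr hm⟩
    rw [Multiset.mem_toFinset] at hM
    have hM3 : 3 ≤ M := hm3.trans (hMmax m (Multiset.mem_toFinset.mpr hm))
    set T := (x : Perm (Fin n)).cycleType
    have hsT : M + (T.erase M).sum = T.sum := by
      rw [← Multiset.sum_cons, Multiset.cons_erase hM]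
    have hTn : T.sum ≤ n := by
      have := (x : Perm (Fin n)).support.card_le_univ
      rwa [← Perm.sum_cycleType, Fintype.card_fin] at this
    obtain ⟨τ, hτ⟩ := (Perm.exists_with_cycleType_iff (α := Fin n) (m := (M - 1) ::ₘ T.erase M)).mpr
      ⟨by rw [Multiset.sum_cons, Fintype.card_fin]; omega, fun a ha => by
        rcases Multiset.mem_cons.mp ha with rfl | ha
        · omega
        · exact Perm.two_le_of_mem_cycleType (Multiset.mem_of_mem_erase ha)⟩
    refine ⟨M, τ, hM, hM3, hτ, ?_, ?_⟩
    · have h1 := Perm.mem_alternatingGroup.mp x.2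
      rw [Perm.sign_of_cycleType] at h1 ⊢
      rw [hτ, Multiset.sum_cons, Multiset.card_cons]
      have hc : T.card = (T.erase M).card + 1 := by
        rw [← Multiset.card_cons M, Multiset.cons_erase hM]
      have : T.sum + T.card = M - 1 + (T.erase M).sum + ((T.erase M).card + 1) + 1 := by omega
      rw [this, pow_succ] at h1
      rw [eq_inv_of_mul_eq_one_left h1]; decide
    · rw [hτ]
      intro e
      have h1 := congrArg Multiset.card e
      rw [Multiset.card_cons, Multiset.card_singleton] at h1
      have h2 := Multiset.card_eq_zero.mp (show (T.erase M).card = 0 by omega)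
      rw [h2] at e hsT
      have h3 : M - 1 = 2 := by simpa using e
      simp only [Multiset.sum_zero] at hsT
      omega
  choose m τ hm hm3 hτ hτs hτ2 using hG
  -- the injection
  haveI : Nonempty (ConjClasses A) := ⟨ConjClasses.mk 1⟩
  let base : ConjClasses A → ConjClasses A := fun a => Function.invFun F (F a)
  have hsplit : ∀ x : A, ConjClasses.mk x ≠ base (ConjClasses.mk x) →
      Subgroup.centralizer {(x : Perm (Fin n))} ≤ A := by
    intro x hne
    by_contra hc
    obtain ⟨y, hy⟩ := ConjClasses.exists_rep (base (ConjClasses.mk x))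
    have e : F (base (ConjClasses.mk x)) = F (ConjClasses.mk x) := Function.invFun_eq ⟨_, rfl⟩
    rw [← hy, hF, hF, ConjClasses.mk_eq_mk_iff_isConj] at e
    exact hne (hy ▸ ConjClasses.mk_eq_mk_iff_isConj.mpr (isConj_alt e.symm hc))
  choose rep hrep using fun a : ConjClasses A => ConjClasses.exists_rep a
  let Φ : ConjClasses A → ConjClasses (Perm (Fin n)) := fun a =>
    if h : a = base a then F a
    else ConjClasses.mk (τ (rep a) (hsplit (rep a) (by rw [hrep]; exact h)))
  have hsign : ∀ {σ ρ : Perm (Fin n)}, ConjClasses.mk σ = ConjClasses.mk ρ → Perm.sign σ = Perm.sign ρ := by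
    intro σ ρ h
    obtain ⟨c, rfl⟩ := isConj_iff.mp (ConjClasses.mk_eq_mk_iff_isConj.mp h)
    rw [map_mul, map_mul, map_inv, mul_comm (Perm.sign c), mul_inv_cancel_right]
  have hinj : Function.Injective Φ := by
    intro a b hab
    simp only [Φ] at hab
    split_ifs at hab with ha hb hb
    · rw [ha, hb]; exact congrArg (Function.invFun F) hab
    · rw [← hrep a, hF] at hab
      exact absurd (hsign hab) (by rw [Perm.mem_alternatingGroup.mp (rep a).2, hτs]; decide)
    · rw [← hrep b, hF] at hab
      exact absurd (hsign hab).symm (by rw [Perm.mem_alternatingGroup.mp (rep b).2, hτs]; decide)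
    · have hca := hsplit (rep a) (by rw [hrep]; exact ha)
      have hcb := hsplit (rep b) (by rw [hrep]; exact hb)
      have he := Perm.isConj_iff_cycleType_eq.mp (ConjClasses.mk_eq_mk_iff_isConj.mp hab)
      rw [hτ _ hca, hτ _ hcb] at he
      have hoa := (Perm.centralizer_le_alternating_iff.mp hca).1
      have hob := (Perm.centralizer_le_alternating_iff.mp hcb).1
      have hmm : m (rep a) hca = m (rep b) hcb := by
        have h1 : m (rep a) hca - 1 ∈ (m (rep b) hcb - 1) ::ₘ (rep b : Perm (Fin n)).cycleType.erase (m (rep b) hcb) :=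
          he ▸ Multiset.mem_cons_self _ _
        rcases Multiset.mem_cons.mp h1 with h | h
        · have := hm3 _ hca; have := hm3 _ hcb; omega
        · obtain ⟨k, hk⟩ := hob _ (Multiset.mem_of_mem_erase h)
          obtain ⟨l, hl⟩ := hoa _ (hm _ hca)
          have := hm3 _ hca; omega
      rw [hmm] at he
      have hT := congrArg (m (rep b) hcb ::ₘ ·) ((Multiset.cons_inj_right _).mp he)
      simp only [Multiset.cons_erase (hm _ hcb), Multiset.cons_erase (hmm ▸ hm _ hca)] at hT
      have hFab : F a = F b := by
        rw [← hrep a, ← hrep b, hF, hF, ConjClasses.mk_eq_mk_iff_isConj]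
        exact Perm.isConj_iff_cycleType_eq.mpr hT
      obtain ⟨z, hz⟩ := ConjClasses.exists_rep (base a)
      have e : F (base a) = F a := Function.invFun_eq ⟨_, rfl⟩
      have hbb : base b = base a := congrArg (Function.invFun F) hFab.symm
      rw [← hrep a, ← hrep b, ConjClasses.mk_eq_mk_iff_isConj]
      refine isConj_alt_three (x := z) ?_ ?_ ?_ ?_
      · rw [← ConjClasses.mk_eq_mk_iff_isConj, ← hF, ← hF, hz, hrep]; exact e
      · rw [← ConjClasses.mk_eq_mk_iff_isConj, ← hF, ← hF, hz, hrep]; exact e.trans hFab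
      · rw [← ConjClasses.mk_eq_mk_iff_isConj, hz, hrep]; exact fun h => ha h.symm
      · rw [← ConjClasses.mk_eq_mk_iff_isConj, hz, hrep, ← hbb]; exact fun h => hb h.symm
  -- transpositions are missed
  let t : Perm (Fin n) := Equiv.swap ⟨0, by omega⟩ ⟨1, by omega⟩
  have hswap : (⟨0, by omega⟩ : Fin n) ≠ ⟨1, by omega⟩ := by simp
  have hmiss : ∀ a, Φ a ≠ ConjClasses.mk t := by
    intro a h
    simp only [Φ] at h
    split_ifs at h with ha
    · rw [← hrep a, hF] at h
      exact absurd (hsign h) (by rw [Perm.mem_alternatingGroup.mp (rep a).2, Perm.sign_swap hswap]; decide)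
    · refine hτ2 _ _ ((Perm.isConj_iff_cycleType_eq.mp (ConjClasses.mk_eq_mk_iff_isConj.mp h)).trans ?_)
      rw [(Perm.isCycle_swap hswap).cycleType, Perm.card_support_swap hswap]
  refine lt_of_le_of_ne (Nat.card_le_card_of_injective Φ hinj) fun e => ?_
  obtain ⟨a, ha⟩ := ((Nat.bijective_iff_injective_and_card Φ).mpr ⟨hinj, e⟩).2 (ConjClasses.mk t)
  exact hmiss a ha

theorem card_perm_le (hn : 5 ≤ n) : Nat.card (ConjClasses (Perm (Fin n))) ≤ 2 ^ (n - 2) := by
  let g : ConjClasses (Perm (Fin n)) → Nat.Partition (Fintype.card (Fin n)) :=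
    Quotient.lift (fun σ : Perm (Fin n) => σ.partition) fun a b h => Perm.partition_eq_of_isConj.mp h
  have hg : Function.Injective g := by
    intro a b
    obtain ⟨a, rfl⟩ := ConjClasses.exists_rep a
    obtain ⟨b, rfl⟩ := ConjClasses.exists_rep b
    exact fun h => ConjClasses.mk_eq_mk_iff_isConj.mpr (Perm.partition_eq_of_isConj.mpr h)
  refine (Nat.card_le_card_of_injective g hg).trans ?_
  rw [Nat.card_eq_fintype_card, Fintype.card_fin]
  exact card_partition_le n hn

/-- For n ≥ 5 the alternating group of degree n has strictly fewer conjugacy classes than the symmetric group of degree n, and the symmetric group of degree n (whose classes correspond to the partitions of n) has at most 2^(n−2) conjugacy classes. -/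
theorem result (n : ℕ) (hn : 5 ≤ n) : Nat.card (ConjClasses (alternatingGroup (Fin n))) < Nat.card (ConjClasses (Equiv.Perm (Fin n))) ∧ Nat.card (ConjClasses (Equiv.Perm (Fin n))) ≤ 2 ^ (n - 2) :=
  ⟨card_lt hn, card_perm_le hn⟩

end Cfsg.Agent.S4198
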