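import Cfsg.Statements.S4208
import Cfsg.Agent.H77.AutPGroup

set_option autoImplicit false
open Cfsg

namespace Cfsg.Agent.S4208

/-- Let `P` be a group of order `p^n` whose Frattini subgroup has index `p^r`. Then the order of the automorphism group of `P` divides `p^(r(n-r)) · (p^r - 1)(p^r - p) ⋯ (p^r - p^(r-1))`. -/
theorem result {P : Type*} [Group P] [Finite P] {p n r : ℕ} [Fact p.Prime] (hP : Nat.card P = p ^ n) (hr : (frattini P).index = p ^ r) : Nat.card (MulAut P) ∣ p ^ (r * (n - r)) * ∏ i ∈ Finset.range r, (p ^ r - p ^ i) := by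
  have hPG : IsPGroup p P := IsPGroup.of_card hP
  have h := H77.card_mulAut_dvd hPG hr
  have hc := (frattini P).card_mul_index
  rw [hr, hP] at hc
  obtain ⟨a, -, ha⟩ := (Nat.dvd_prime_pow Fact.out).mp ⟨_, hc.symm⟩
  rw [ha, ← pow_add] at hc
  have := Nat.pow_right_injective (Fact.out : p.Prime).two_le hc
  rw [ha, ← pow_mul, show a = n - r by omega, mul_comm (n - r)] at h
  exact h

end Cfsg.Agent.S4208
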