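import Cfsg.Statements.S4211
import Cfsg.Agent.PGroups.TwoGroups

set_option autoImplicit false
open Cfsg

namespace Cfsg.Agent.S4211

open Subgroup

/-- Elements all of whose coprime factors commute with `y` commute with `y`. -/
theorem commute_of_factors {G : Type*} [Group G] [Finite G] (y : G) :
    ∀ (n : ℕ) (x : G), orderOf x = n → (∀ (p e : ℕ) (i : ℕ), p.Prime → orderOf (x ^ i) = p ^ e → Commute (x ^ i) y) →
      Commute x y := by
  intro n
  induction n using Nat.strong_induction_on with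
  | _ n ih => ?_
  intro x hn h
  rcases eq_or_ne n 1 with h1 | h1
  · rw [orderOf_eq_one_iff.mp (hn.trans h1)]; exact Commute.one_left y
  set p := n.minFac
  have hp : p.Prime := Nat.minFac_prime h1
  have hn0 : n ≠ 0 := hn ▸ (orderOf_pos x).ne'
  set a := p ^ n.factorization p
  set b := n / p ^ n.factorization p
  have hab : a * b = n := Nat.ordProj_mul_ordCompl_eq_self n p
  rcases eq_or_ne b 1 with hb | hb
  · have := h p (n.factorization p) 1 hp (by rw [pow_one, hn]; conv_lhs => rw [← hab, hb, mul_one])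
    rwa [pow_one] at this
  have ha1 : 1 < a := Nat.one_lt_pow (hp.factorization_pos_of_dvd hn0 n.minFac_dvd).ne' hp.one_lt
  have hb1 : 1 < b := by
    have : b ≠ 0 := fun e => hn0 (by rw [← hab, e, mul_zero])
    exact Nat.one_lt_iff_ne_zero_and_ne_one.mpr ⟨this, hb⟩
  have hcop : Nat.Coprime a b := (Nat.coprime_ordCompl hp hn0).pow_left _
  obtain ⟨u, v, huv⟩ := Int.isCoprime_iff_gcd_eq_one.mpr (by simpa using hcop : Int.gcd (a : ℤ) (b : ℤ) = 1)
  have hx : x = (x ^ a) ^ u * (x ^ b) ^ v := by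
    rw [← zpow_natCast x a, ← zpow_natCast x b, ← zpow_mul, ← zpow_mul, ← zpow_add,
      mul_comm (a : ℤ), mul_comm (b : ℤ), huv, zpow_one]
  have key : ∀ c, 1 < c → c ∣ n → Commute (x ^ c) y := by
    intro c hc hcn
    refine ih (orderOf (x ^ c)) ?_ _ rfl fun q e i hq ho => ?_
    · rw [orderOf_pow, hn, Nat.gcd_eq_right hcn]
      exact Nat.div_lt_self (Nat.pos_of_ne_zero hn0) hc
    · rw [← pow_mul] at ho ⊢
      exact h q e _ hq ho
  rw [hx]
  exact ((key a ha1 ⟨b, hab.symm⟩).zpow_left u).mul_left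
    ((key b hb1 ⟨a, by rw [mul_comm]; exact hab.symm⟩).zpow_left v)

/-- Powers of a product of two elements with commutator fixed by both. -/
theorem mul_pow_twisted {G : Type*} [Group G] {u y e : G} (h : y * u = u * e * y) (hue : Commute u e)
    (hye : Commute y e) (n : ℕ) : (u * y) ^ n = u ^ n * y ^ n * e ^ n.choose 2 := by
  have hyn : ∀ k : ℕ, y ^ k * u = u * e ^ k * y ^ k := by
    intro k
    induction k with
    | zero => simp
    | succ k ih =>
      calc y ^ (k + 1) * u = y ^ k * (y * u) := by rw [pow_succ, mul_assoc]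
        _ = y ^ k * u * (e * y) := by rw [h]; simp only [mul_assoc]
        _ = u * e ^ k * (y ^ k * e) * y := by rw [ih]; simp only [mul_assoc]
        _ = u * e ^ k * (e * y ^ k) * y := by rw [(hye.pow_left k).eq]
        _ = u * e ^ (k + 1) * y ^ (k + 1) := by simp only [pow_succ, mul_assoc]
  induction n with
  | zero => simp
  | succ n ih =>
    calc (u * y) ^ (n + 1) = u ^ n * y ^ n * (e ^ n.choose 2 * u) * y := by
          rw [pow_succ, ih]; simp only [mul_assoc]
      _ = u ^ n * (y ^ n * u) * (e ^ n.choose 2 * y) := by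
          rw [← (hue.pow_right _).eq]; simp only [mul_assoc]
      _ = u ^ n * u * e ^ n * (y ^ n * y) * e ^ n.choose 2 := by
          rw [hyn, ← (hye.pow_right _).eq]; simp only [mul_assoc]
      _ = u ^ (n + 1) * y ^ (n + 1) * e ^ (n + 1).choose 2 := by
          rw [← pow_succ, ← pow_succ, mul_assoc (u ^ (n + 1)),
            ← ((hye.pow_pow (n + 1) n)).eq, ← mul_assoc, mul_assoc _ (e ^ n), ← pow_add,
            Nat.choose_succ_succ', Nat.choose_one_right]

variable {G : Type*} [Group G] [Finite G] (hn : ∀ H : Subgroup G, H.Normal)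
include hn

theorem comm_mem (x y : G) : x⁻¹ * (y * x * y⁻¹) ∈ zpowers x ∧ x⁻¹ * (y * x * y⁻¹) ∈ zpowers y := by
  refine ⟨mul_mem (inv_mem (mem_zpowers x)) ((hn _).conj_mem x (mem_zpowers x) y), ?_⟩
  have := mul_mem ((hn _).conj_mem y (mem_zpowers y) x⁻¹) (inv_mem (mem_zpowers y))
  simpa [mul_assoc] using this

theorem exists_smaller {p a b : ℕ} (hp : p.Prime) {x y : G} (hne : ¬ Commute x y)
    (hx : orderOf x = p ^ a) (hy : orderOf y = p ^ b) (hab : b ≤ a)
    (hmin : ∀ (a' b' : ℕ) (x' y' : G), ¬ Commute x' y' → orderOf x' = p ^ a' → orderOf y' = p ^ b' →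
      p ^ a + p ^ b ≤ p ^ a' + p ^ b') :
    p = 2 ∧ a = 2 ∧ b = 2 ∧ x ^ 2 = y ^ 2 ∧ y * x * y⁻¹ = x⁻¹ := by
  haveI := Fact.mk hp
  set d := x⁻¹ * (y * x * y⁻¹) with hd
  obtain ⟨hdx, hdy⟩ := comm_mem hn x y
  rw [← hd] at hdx hdy
  have hxd : Commute x d := by obtain ⟨i, hi⟩ := mem_zpowers_iff.mp hdx; exact hi ▸ Commute.self_zpow x i
  have hyd : Commute y d := by obtain ⟨i, hi⟩ := mem_zpowers_iff.mp hdy; exact hi ▸ Commute.self_zpow y i
  have hd1 : d ≠ 1 := fun e => hne (by
    have : y * x * y⁻¹ = x := (inv_mul_eq_one.mp (hd ▸ e)).symm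
    exact (mul_inv_eq_iff_eq_mul.mp this).symm)
  have ha0 : a ≠ 0 := by rintro rfl; rw [pow_zero, orderOf_eq_one_iff] at hx; exact hne (hx ▸ Commute.one_left y)
  have hb0 : b ≠ 0 := by rintro rfl; rw [pow_zero, orderOf_eq_one_iff] at hy; exact hne (hy ▸ Commute.one_right x)
  -- `x ^ p` commutes with `y`
  have hxp : Commute (x ^ p) y := by
    by_contra hc
    have hdiv := orderOf_pow_dvd (x := x) p
    rw [hx] at hdiv
    obtain ⟨a', -, ha'⟩ := (Nat.dvd_prime_pow hp).mp hdiv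
    have h := hmin a' b (x ^ p) y hc ha' hy
    have : p ^ a' < p ^ a := by
      rw [← ha', ← hx, orderOf_pow, hx, Nat.gcd_eq_right (dvd_pow_self p ha0)]
      exact Nat.div_lt_self (pow_pos hp.pos a) hp.one_lt
    omega
  have hdp : d ^ p = 1 := by
    have e : (y * x * y⁻¹) ^ p = x ^ p := by rw [conj_pow, ← hxp.eq, mul_inv_cancel_right]
    have e2 : y * x * y⁻¹ = x * d := by rw [hd, mul_inv_cancel_left]
    rw [e2, hxd.mul_pow] at e
    exact mul_eq_left.mp e
  have hod : orderOf d = p := ((Nat.dvd_prime hp).mp (orderOf_dvd_of_pow_eq_one hdp)).resolve_left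
    (fun e => hd1 (orderOf_eq_one_iff.mp e))
  -- `d` generates the subgroup of order `p` of `⟨x⟩` and of `⟨y⟩`
  have low : ∀ (z : G) (c : ℕ), orderOf z = p ^ c → c ≠ 0 → d ∈ zpowers z →
      zpowers d = zpowers (z ^ p ^ (c - 1)) := by
    intro z c hz hc hdz
    have ho : orderOf (z ^ p ^ (c - 1)) = p := by
      rw [orderOf_pow, hz, Nat.gcd_eq_right (pow_dvd_pow p (Nat.sub_le c 1))]
      conv_lhs => arg 1; rw [show c = (c - 1) + 1 by omega, pow_succ]
      rw [Nat.mul_div_cancel_left _ (pow_pos hp.pos _)]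
    refine Subgroup.eq_of_le_of_card_ge (zpowers_le.mpr ?_) (by rw [Nat.card_zpowers, Nat.card_zpowers, ho, hod])
    obtain ⟨i, hi⟩ := mem_powers_iff_mem_zpowers.mpr hdz
    simp only at hi
    have hdiv : p ^ c ∣ i * p := by
      rw [← hz, orderOf_dvd_iff_pow_eq_one, pow_mul, hi, hdp]
    have : p ^ (c - 1) ∣ i := by
      rw [show c = (c - 1) + 1 by omega, pow_succ] at hdiv
      exact (Nat.mul_dvd_mul_iff_right hp.pos).mp hdiv
    obtain ⟨k, rfl⟩ := this
    rw [← hi, pow_mul]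
    exact pow_mem (mem_zpowers _) k
  have hX := low x a hx ha0 hdx
  have hY := low y b hy hb0 hdy
  obtain ⟨t, ht⟩ : ∃ t : ℕ, (x ^ p ^ (a - 1)) ^ t = y ^ p ^ (b - 1) := by
    have : y ^ p ^ (b - 1) ∈ zpowers (x ^ p ^ (a - 1)) := by rw [← hX, hY]; exact mem_zpowers _
    exact mem_powers_iff_mem_zpowers.mpr this
  -- the modified element
  set s := t * p ^ (a - b) with hs
  set u := (x ^ s)⁻¹ with hu
  set e := (d ^ s)⁻¹ with he
  have hyu : y * u = u * e * y := by
    have e2 : y * x * y⁻¹ = x * d := by rw [hd, mul_inv_cancel_left]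
    have e3 : (y * x * y⁻¹) ^ s = x ^ s * d ^ s := by rw [e2, hxd.mul_pow]
    rw [conj_pow] at e3
    have e4 : y * u * y⁻¹ = u * e := by
      rw [hu, he, ← mul_inv_rev, (hxd.pow_pow s s).eq.symm.trans rfl]
      calc y * (x ^ s)⁻¹ * y⁻¹ = (y * x ^ s * y⁻¹)⁻¹ := by group
        _ = _ := by rw [e3]
    rw [← e4]; group
  have hue : Commute u e := ((hxd.pow_pow s s).inv_inv)
  have hye : Commute y e := ((hyd.pow_right s).inv_right)
  set P := p ^ (b - 1) with hP
  have hkey : (u * y) ^ P = e ^ P.choose 2 := by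
    rw [mul_pow_twisted hyu hue hye, hu, inv_pow, ← pow_mul, ← ht, ← pow_mul]
    rw [show s * P = p ^ (a - 1) * t by
      rw [hs, hP, mul_assoc, ← pow_add, show a - b + (b - 1) = a - 1 by omega, mul_comm]]
    rw [inv_mul_cancel, one_mul]
  by_cases hdiv : p ∣ s * P.choose 2
  · exfalso
    have h1 : (u * y) ^ P = 1 := by
      rw [hkey, he, inv_pow, ← pow_mul, inv_eq_one]
      obtain ⟨k, hk⟩ := hdiv
      rw [hk, pow_mul, hdp, one_pow]
    have hdiv' := orderOf_dvd_of_pow_eq_one h1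
    obtain ⟨b', hb', hob⟩ := (Nat.dvd_prime_pow hp).mp hdiv'
    have hnc : ¬ Commute x (u * y) := fun h => hne (by
      have h' : Commute x (u⁻¹ * (u * y)) :=
        ((Commute.self_pow x s).inv_right.inv_right).mul_right h
      rwa [inv_mul_cancel_left] at h')
    have := hmin a b' x (u * y) hnc hx hob
    have hlt : p ^ b' < p ^ b := Nat.pow_lt_pow_right hp.one_lt (by omega)
    omega
  have hb2 : 2 ≤ b := by
    by_contra h
    apply hdiv
    rw [hP, show b - 1 = 0 by omega]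
    simp
  have hp2 : p = 2 ∧ b = 2 ∧ a = b := by
    have hcase : p = 2 ∧ b = 2 := by
      by_contra hh
      apply hdiv
      refine dvd_mul_of_dvd_right ?_ s
      rw [hP, Nat.choose_two_right]
      rcases eq_or_ne p 2 with rfl | hp2
      · obtain ⟨k, hk⟩ : ∃ k, b - 1 = k + 2 := ⟨b - 3, by
          have : b ≠ 2 := fun h => hh ⟨rfl, h⟩
          omega⟩
        rw [hk, show 2 ^ (k + 2) * (2 ^ (k + 2) - 1) = 2 * (2 * (2 ^ k * (2 ^ (k + 2) - 1))) by ring,
          Nat.mul_div_cancel_left _ two_pos]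
        exact dvd_mul_right _ _
      · have hodd : Odd (p ^ (b - 1)) := (hp.odd_of_ne_two hp2).pow
        obtain ⟨k, hk⟩ := hodd
        rw [show p ^ (b - 1) - 1 = 2 * k by omega, ← mul_assoc, mul_comm _ 2, mul_assoc,
          Nat.mul_div_cancel_left _ two_pos]
        exact dvd_mul_of_dvd_left (dvd_pow_self p (by omega)) k
    refine ⟨hcase.1, hcase.2, ?_⟩
    by_contra hab'
    apply hdiv
    refine dvd_mul_of_dvd_left (dvd_mul_of_dvd_right (dvd_pow_self p (by omega)) t) _
  obtain ⟨rfl, rfl, rfl⟩ := hp2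
  -- `d` is the involution of both cyclic groups
  have hinv : ∀ z : G, zpowers d = zpowers (z ^ 2 ^ (2 - 1)) → orderOf z = 2 ^ 2 → z ^ 2 = d := by
    intro z hz hoz
    have hzm : z ^ 2 ∈ zpowers d := by rw [hz]; simpa using mem_zpowers (z ^ 2)
    obtain ⟨i, hi⟩ := mem_powers_iff_mem_zpowers.mpr hzm
    simp only at hi
    have hne1 : z ^ 2 ≠ 1 := fun h => by
      have := orderOf_dvd_of_pow_eq_one h; rw [hoz] at this; norm_num at this
    rw [← hi, ← pow_mod_orderOf, hod]
    rcases Nat.mod_two_eq_zero_or_one i with h | h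
    · exfalso; apply hne1; rw [← hi, ← pow_mod_orderOf, hod, h, pow_zero]
    · rw [h, pow_one]
  have hx2 := hinv x hX hx
  refine ⟨rfl, rfl, rfl, hx2.trans (hinv y hY hy).symm, ?_⟩
  have h4 : x ^ 4 = 1 := by rw [show (4 : ℕ) = 2 ^ 2 by norm_num, ← hx, pow_orderOf_eq_one]
  calc y * x * y⁻¹ = x * d := by rw [hd, mul_inv_cancel_left]
    _ = x * x ^ 2 := by rw [hx2]
    _ = x⁻¹ := by
      rw [← pow_succ', eq_inv_iff_mul_eq_one, ← pow_succ]; exact h4

/-- Noncommuting elements both have even order and give rise to a quaternion pair. -/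
theorem core {x y : G} (hne : ¬ Commute x y) : 2 ∣ orderOf x ∧ ∃ a b : G,
    orderOf a = 4 ∧ orderOf b = 4 ∧ a ^ 2 = b ^ 2 ∧ b * a * b⁻¹ = a⁻¹ ∧ ¬ Commute a b := by
  classical
  obtain ⟨p, e, i, hp, ho, hnc⟩ : ∃ p e i : ℕ, p.Prime ∧ orderOf (x ^ i) = p ^ e ∧ ¬ Commute (x ^ i) y := by
    by_contra h
    push Not at h
    exact hne (commute_of_factors y _ x rfl h)
  obtain ⟨q, f, j, hq, ho', hnc'⟩ : ∃ q f j : ℕ, q.Prime ∧ orderOf (y ^ j) = q ^ f ∧ ¬ Commute (y ^ j) (x ^ i) := by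
    by_contra h
    push Not at h
    exact hnc (commute_of_factors (x ^ i) _ y rfl h).symm
  have hqp : q = p := by
    by_contra hqp
    obtain ⟨h1, h2⟩ := comm_mem hn (y ^ j) (x ^ i)
    set d := (y ^ j)⁻¹ * (x ^ i * y ^ j * (x ^ i)⁻¹)
    have d1 : orderOf d ∣ q ^ f := ho' ▸ orderOf_dvd_of_mem_zpowers h1
    have d2 : orderOf d ∣ p ^ e := ho ▸ orderOf_dvd_of_mem_zpowers h2
    have : d = 1 := orderOf_eq_one_iff.mp
      (Nat.eq_one_of_dvd_coprimes (((Nat.coprime_primes hq hp).mpr hqp).pow f e) d1 d2)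
    exact hnc' (mul_inv_eq_iff_eq_mul.mp (inv_mul_eq_one.mp this).symm).symm
  subst hqp
  let S : Set (G × G) := {z | ¬ Commute z.1 z.2 ∧ (∃ a, orderOf z.1 = q ^ a) ∧ ∃ b, orderOf z.2 = q ^ b}
  obtain ⟨⟨a, b⟩, ⟨hab, ⟨ea, hea⟩, ⟨eb, heb⟩⟩, hmin⟩ := Set.exists_min_image S
    (fun z => orderOf z.1 + orderOf z.2) (Set.toFinite _)
    ⟨(y ^ j, x ^ i), hnc', ⟨f, ho'⟩, ⟨e, ho⟩⟩
  have hmin' : ∀ (a' b' : ℕ) (x' y' : G), ¬ Commute x' y' → orderOf x' = q ^ a' → orderOf y' = q ^ b' →
      q ^ ea + q ^ eb ≤ q ^ a' + q ^ b' := fun a' b' x' y' h h1 h2 => by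
    have := hmin (x', y') ⟨h, ⟨a', h1⟩, ⟨b', h2⟩⟩
    simp only [h1, h2, hea, heb] at this
    exact this
  have hdvd : ∀ h2 : q = 2, 2 ∣ orderOf x := fun h2 => by
    have he0 : e ≠ 0 := by
      rintro rfl; rw [pow_zero, orderOf_eq_one_iff] at ho; exact hnc (ho ▸ Commute.one_left y)
    exact h2 ▸ ((dvd_pow_self q he0).trans (ho ▸ orderOf_pow_dvd i))
  rcases le_total eb ea with hle | hle
  · obtain ⟨h2, rfl, rfl, h, h'⟩ := exists_smaller hn hp hab hea heb hle hmin'
    exact ⟨hdvd h2, a, b, by rw [hea, h2]; rfl, by rw [heb, h2]; rfl, h, h', hab⟩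
  · obtain ⟨h2, rfl, rfl, h, h'⟩ := exists_smaller hn hp (fun h => hab h.symm) heb hea hle
      (fun a' b' x' y' h h1 h3 => by
        have := hmin' b' a' y' x' (fun k => h k.symm) h3 h1
        omega)
    exact ⟨hdvd h2, b, a, by rw [heb, h2]; rfl, by rw [hea, h2]; rfl, h, h', fun k => hab k.symm⟩

/-- A finite non-abelian group in which every subgroup is normal is the internal direct product of a subgroup isomorphic to the quaternion group of order `8`, an elementary abelian `2`-subgroup and an abelian subgroup of odd order. -/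
theorem structure_hamiltonian (hna : ¬ IsMulCommutative G) : ∃ Q E A : Subgroup G, Nonempty (Q ≃* QuaternionGroup 2) ∧ Cfsg.IsElementaryAbelian 2 E ∧ IsMulCommutative A ∧ Odd (Nat.card A) ∧ E ⊓ A = ⊥ ∧ Q ⊓ (E ⊔ A) = ⊥ ∧ Q ⊔ (E ⊔ A) = ⊤ := by
  classical
  obtain ⟨x₀, y₀, h0⟩ : ∃ x y : G, ¬ Commute x y := by
    by_contra h
    push Not at h
    exact hna ⟨⟨fun a b => h a b⟩⟩
  obtain ⟨-, a, b, hoa, hob, hab2, hconj, hnab⟩ := core hn h0
  set Q := zpowers a ⊔ zpowers b with hQdef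
  have haQ : a ∈ Q := mem_sup_left (mem_zpowers a)
  have hbQ : b ∈ Q := mem_sup_right (mem_zpowers b)
  have ha4 : a ^ 4 = 1 := hoa ▸ pow_orderOf_eq_one a
  have hb4 : b ^ 4 = 1 := hob ▸ pow_orderOf_eq_one b
  have hba : b ∉ zpowers a := fun h => hnab (by
    obtain ⟨i, hi⟩ := mem_zpowers_iff.mp h; exact hi ▸ Commute.self_zpow a i)
  haveI := hn (zpowers a)
  have hb2a : b ^ 2 ∈ zpowers a := by rw [← hab2]; exact pow_mem (mem_zpowers a) 2
  -- elements of `Q`
  have hQmem : ∀ q ∈ Q, q ∈ zpowers a ∨ q * b⁻¹ ∈ zpowers a := by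
    intro q hq
    rw [hQdef] at hq
    obtain ⟨u, hu, v, hv, rfl⟩ := mem_sup_of_normal_left.mp hq
    obtain ⟨i, rfl⟩ := mem_zpowers_iff.mp hv
    rcases Int.even_or_odd' i with ⟨k, rfl | rfl⟩
    · left
      refine mul_mem hu ?_
      rw [zpow_mul]
      exact zpow_mem (by simpa using hb2a) k
    · right
      rw [zpow_add, zpow_one, mul_assoc, mul_inv_cancel_right, zpow_mul]
      exact mul_mem hu (zpow_mem (by simpa using hb2a) k)
  have hQcard : Nat.card Q = 4 * 2 := by
    have h1 : ((zpowers a).subgroupOf Q).index = 2 := by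
      rw [index_eq_two_iff]
      refine ⟨⟨b, hbQ⟩⁻¹, fun ⟨q, hq⟩ => ?_⟩
      simp only [mem_subgroupOf, Subgroup.coe_mul, InvMemClass.coe_inv]
      rcases hQmem q hq with h | h
      · exact Or.inr ⟨h, fun hh => hba (by simpa using mul_mem (inv_mem hh) h)⟩
      · exact Or.inl ⟨h, fun hh => hba (by simpa using mul_mem (inv_mem h) hh)⟩
    have := ((zpowers a).subgroupOf Q).card_mul_index
    rw [h1, Nat.card_congr (subgroupOfEquivOfLe (le_sup_left : zpowers a ≤ Q)).toEquiv, Nat.card_zpowers, hoa] at this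
    omega
  have hQ8 : Nonempty (Q ≃* QuaternionGroup 2) := by
    refine PGroups.nonempty_mulEquiv_quaternion (n := 2) (c := (⟨a, haQ⟩ : Q)) (y := ⟨b, hbQ⟩) ?_ ?_ ?_ ?_ (by omega)
    · rw [Subgroup.orderOf_mk, hoa]
    · rw [mem_zpowers_iff]
      rintro ⟨k, hk⟩
      exact hba ⟨k, by simpa using congrArg Subtype.val hk⟩
    · exact Subtype.ext (by simpa using hab2.symm)
    · exact Subtype.ext (by simpa using hconj)
  -- the centralizer of `Q`
  set C := centralizer (Q : Set G) with hC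
  have hCab : ∀ {c : G}, c ∈ C → Commute c a ∧ Commute c b := fun hc =>
    ⟨(mem_centralizer_iff.mp hc a haQ).symm, (mem_centralizer_iff.mp hc b hbQ).symm⟩
  have hCof : ∀ c : G, Commute c a → Commute c b → c ∈ C := by
    intro c h1 h2
    have : Q ≤ centralizer ({c} : Set G) := sup_le
      (zpowers_le.mpr (mem_centralizer_singleton_iff.mpr h1.eq.symm))
      (zpowers_le.mpr (mem_centralizer_singleton_iff.mpr h2.eq.symm))
    exact mem_centralizer_iff.mpr fun q hq => mem_centralizer_singleton_iff.mp (this hq)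
  have hno4 : ∀ c ∈ C, orderOf c ≠ 4 := by
    intro c hc hoc
    obtain ⟨hca, hcb⟩ := hCab hc
    have hc4 : c ^ 4 = 1 := hoc ▸ pow_orderOf_eq_one c
    have hm : a⁻¹ * c ∈ zpowers (a * c) := by
      have := (hn (zpowers (a * c))).conj_mem _ (mem_zpowers _) b
      convert this using 1
      rw [← hconj]
      calc b * a * b⁻¹ * c = b * a * (b⁻¹ * c) := by group
        _ = b * a * (c * b⁻¹) := by rw [hcb.inv_right.eq]
        _ = _ := by group
    obtain ⟨k, hk⟩ := mem_powers_iff_mem_zpowers.mpr hm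
    simp only at hk
    rw [hca.symm.mul_pow] at hk
    have h4 : ∀ m : ℕ, a ^ m = a ^ (m % 4) ∧ c ^ m = c ^ (m % 4) := fun m =>
      ⟨by conv_lhs => rw [← pow_mod_orderOf, hoa],
       by conv_lhs => rw [← pow_mod_orderOf, hoc]⟩
    rw [(h4 k).1, (h4 k).2] at hk
    have hlt := Nat.mod_lt k (show 4 > 0 by norm_num)
    have hsq : ∀ {z : G}, orderOf z = 4 → z ^ 2 ≠ 1 := fun hz h => by
      have := orderOf_dvd_of_pow_eq_one h; rw [hz] at this; norm_num at this
    interval_cases k % 4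
    · simp only [pow_zero, mul_one] at hk
      exact hnab (inv_mul_eq_one.mp hk.symm ▸ hcb)
    · simp only [pow_one] at hk
      have := mul_right_cancel hk
      exact hsq hoa (by rw [pow_two]; nth_rw 1 [this]; exact inv_mul_cancel a)
    · have e : c = (a ^ 3)⁻¹ := by
        calc c = (a ^ 3 * c ^ 2) * (a ^ 3 * c ^ 2)⁻¹ * c := by group
          _ = a * (a⁻¹ * c) * (c ^ 2)⁻¹ * (a ^ 3)⁻¹ * c := by rw [← hk]; group
          _ = c * (c ^ 2)⁻¹ * ((a ^ 3)⁻¹ * c) := by group
          _ = c * (c ^ 2)⁻¹ * (c * (a ^ 3)⁻¹) := by rw [((hca.pow_right 3).inv_right).eq]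
          _ = _ := by group
      exact hnab (by rw [e] at hcb; have h := hcb.inv_left; rw [inv_inv] at h
                     have : a ^ 3 = a⁻¹ := eq_inv_of_mul_eq_one_left (by rw [← pow_succ]; exact ha4)
                     rw [this] at h; exact inv_inv a ▸ h.inv_left)
    · have h3 : ∀ {z : G}, z ^ 4 = 1 → z ^ 3 = z⁻¹ := fun hz =>
        eq_inv_of_mul_eq_one_left (by rw [← pow_succ]; exact hz)
      rw [h3 ha4, h3 hc4] at hk
      have := mul_left_cancel hk
      exact hsq hoc (by rw [pow_two]; nth_rw 1 [← this]; exact inv_mul_cancel c)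
  haveI : IsMulCommutative C := by
    refine ⟨⟨fun u v => ?_⟩⟩
    by_contra hne
    have hnC : ∀ H : Subgroup C, H.Normal := fun H => by
      haveI := hn (H.map C.subtype)
      have := (inferInstance : ((H.map C.subtype).subgroupOf C).Normal)
      rwa [subgroupOf, comap_map_eq_self_of_injective C.subtype_injective] at this
    obtain ⟨-, z, -, hz, -⟩ := core hnC (x := u) (y := v) hne
    exact hno4 z z.2 (by rw [Subgroup.orderOf_coe, hz])
  have hCcomm : ∀ {u v : G}, u ∈ C → v ∈ C → Commute u v := fun hu hv =>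
    congrArg Subtype.val (mul_comm' (⟨_, hu⟩ : C) ⟨_, hv⟩)
  have hcent : ∀ z : G, Odd (orderOf z) → ∀ g, Commute z g := fun z hz g => by
    by_contra h
    exact (Nat.not_even_iff_odd.mpr hz) (even_iff_two_dvd.mpr (core hn h).1)
  let A : Subgroup G :=
    { carrier := {z | Odd (orderOf z)}
      one_mem' := by simp
      mul_mem' := fun {u v} hu hv => Odd.of_dvd_nat (hu.mul hv)
        ((hcent u hu v).orderOf_mul_dvd_lcm.trans (Nat.lcm_dvd_mul _ _))
      inv_mem' := fun {u} hu => by simpa using hu }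
  have hAC : A ≤ C := fun z hz => hCof z (hcent z hz a) (hcent z hz b)
  let T : Subgroup G :=
    { carrier := {z | z ∈ C ∧ z ^ 2 = 1}
      one_mem' := ⟨one_mem _, one_pow _⟩
      mul_mem' := fun {u v} hu hv => ⟨mul_mem hu.1 hv.1, by
        rw [(hCcomm hu.1 hv.1).mul_pow, hu.2, hv.2, one_mul]⟩
      inv_mem' := fun {u} hu => ⟨inv_mem hu.1, by rw [inv_pow, hu.2, inv_one]⟩ }
  set c := a ^ 2 with hc
  have hc2 : c ^ 2 = 1 := by rw [hc, ← pow_mul]; exact ha4
  have hc1 : c ≠ 1 := fun h => by have := orderOf_dvd_of_pow_eq_one h; rw [hoa] at this; norm_num at this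
  have hcC : c ∈ C := hCof c (Commute.pow_self a 2) (hab2 ▸ Commute.pow_self b 2)
  obtain ⟨E, ⟨hET, hcE⟩, hmax⟩ := (Set.toFinite {E : Subgroup G | E ≤ T ∧ c ∉ E}).exists_maximal
    ⟨⊥, bot_le, fun h => hc1 (mem_bot.mp h)⟩
  have hTE : ∀ t ∈ T, t ∈ E ∨ c⁻¹ * t ∈ E := by
    intro t ht
    by_cases htE : t ∈ E
    · exact Or.inl htE
    refine Or.inr ?_
    have hcmem : c ∈ E ⊔ zpowers t := by
      by_contra h
      exact htE ((hmax (y := E ⊔ zpowers t) ⟨sup_le hET (zpowers_le.mpr ht), h⟩ le_sup_left :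
        E ⊔ zpowers t ≤ E) (mem_sup_right (mem_zpowers t)))
    haveI := hn E
    obtain ⟨u, hu, v, hv, huv⟩ := mem_sup_of_normal_left.mp hcmem
    obtain ⟨i, rfl⟩ := mem_powers_iff_mem_zpowers.mpr hv
    simp only at huv
    rcases Nat.even_or_odd' i with ⟨k, rfl | rfl⟩
    · rw [pow_mul, ht.2, one_pow, mul_one] at huv
      exact absurd (huv ▸ hu) hcE
    · rw [pow_succ, pow_mul, ht.2, one_pow, one_mul] at huv
      rw [← huv, mul_inv_rev, mul_assoc, ← (hCcomm (inv_mem (hET hu).1) ht.1).eq.symm, inv_mul_cancel_left]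
      exact inv_mem hu
  refine ⟨Q, E, A, hQ8, ⟨⟨⟨fun u v => Subtype.ext (hCcomm (hET u.2).1 (hET v.2).1)⟩⟩, fun u hu => (hET hu).2⟩,
    ⟨⟨fun u v => Subtype.ext (hcent u u.2 v)⟩⟩, ?_, ?_, ?_, ?_⟩
  · rw [Nat.odd_iff, ← Nat.two_dvd_ne_zero]
    intro h
    haveI : Fact (Nat.Prime 2) := ⟨Nat.prime_two⟩
    obtain ⟨z, hz⟩ := exists_prime_orderOf_dvd_card' 2 h
    have := z.2
    change Odd (orderOf (z : G)) at this
    rw [Subgroup.orderOf_coe, hz] at this
    exact absurd this (by decide)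
  · rw [eq_bot_iff]
    rintro z ⟨hzE, hzA⟩
    exact mem_bot.mpr (orderOf_eq_one_iff.mp (Nat.eq_one_of_dvd_coprimes
      (Nat.coprime_two_left.mpr hzA) (orderOf_dvd_of_pow_eq_one (hET hzE).2) dvd_rfl))
  · rw [eq_bot_iff]
    rintro q ⟨hqQ, hqEA⟩
    haveI := hn E
    have hqC : q ∈ C := sup_le (fun z hz => (hET hz).1) hAC hqEA
    obtain ⟨hqa, hqb⟩ := hCab hqC
    -- `q` is a power of `c`
    have hq' : q = 1 ∨ q = c := by
      rcases hQmem q hqQ with h | h
      · obtain ⟨k, hk⟩ := mem_powers_iff_mem_zpowers.mpr h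
        simp only at hk
        rw [← pow_mod_orderOf, hoa] at hk
        have hlt := Nat.mod_lt k (show 4 > 0 by norm_num)
        interval_cases k % 4
        · exact Or.inl (by rw [← hk, pow_zero])
        · exact absurd ((pow_one a ▸ hk).symm ▸ hqb) hnab
        · exact Or.inr hk.symm
        · exfalso; apply hnab
          have : a ^ 3 = a⁻¹ := eq_inv_of_mul_eq_one_left (by rw [← pow_succ]; exact ha4)
          rw [← hk, this] at hqb
          exact inv_inv a ▸ hqb.inv_left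
      · obtain ⟨k, hk⟩ := mem_zpowers_iff.mp h
        exfalso; apply hnab
        have h' : Commute ((a ^ k)⁻¹ * q) a :=
          ((Commute.refl a).zpow_left k).inv_left.mul_left hqa
        rw [hk, mul_inv_rev, inv_inv, mul_assoc, inv_mul_cancel, mul_one] at h'
        exact h'.symm
    rcases hq' with rfl | rfl
    · exact one_mem _
    · exfalso
      obtain ⟨u, hu, v, hv, huv⟩ := mem_sup_of_normal_left.mp hqEA
      have hv2 : v ^ 2 = 1 := by
        have : v = u⁻¹ * c := by rw [← huv]; group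
        rw [this, (hCcomm (inv_mem (hET hu).1) hcC).mul_pow, inv_pow, (hET hu).2, hc2]
        group
      have hv1 : v = 1 := orderOf_eq_one_iff.mp (Nat.eq_one_of_dvd_coprimes
        (Nat.coprime_two_left.mpr hv) (orderOf_dvd_of_pow_eq_one hv2) dvd_rfl)
      rw [hv1, mul_one] at huv
      exact hcE (huv ▸ hu)
  · rw [eq_top_iff]
    intro g _
    have conj_cases : ∀ z g : G, orderOf z = 4 → g * z * g⁻¹ = z ∨ g * z * g⁻¹ = z⁻¹ := by
      intro z g hz
      obtain ⟨k, hk⟩ := mem_powers_iff_mem_zpowers.mpr ((hn (zpowers z)).conj_mem z (mem_zpowers z) g)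
      simp only at hk
      rw [← pow_mod_orderOf, hz] at hk
      have hlt := Nat.mod_lt k (show 4 > 0 by norm_num)
      have ho := (MulAut.conj g).orderOf_eq z
      simp only [MulAut.conj_apply] at ho
      rw [← hk, hz] at ho
      interval_cases k % 4
      · rw [pow_zero, orderOf_one] at ho; norm_num at ho
      · exact Or.inl (by rw [← hk, pow_one])
      · rw [orderOf_pow, hz] at ho; norm_num at ho
      · refine Or.inr (hk.symm.trans (eq_inv_of_mul_eq_one_left ?_))
        rw [← pow_succ]; have := pow_orderOf_eq_one z; rw [hz] at this; exact this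
    -- adjust `g` by an element of `Q` to centralise `Q`
    obtain ⟨w, hw, hwC⟩ : ∃ w ∈ Q, w * g ∈ C := by
      have hcb : a * b * a⁻¹ = b⁻¹ := (conj_cases b a hob).resolve_left
        (fun h => hnab (mul_inv_eq_iff_eq_mul.mp h))
      have comm_of : ∀ z w g : G, w * (g * z * g⁻¹) * w⁻¹ = z → Commute (w * g) z := fun z w g h => by
        have h' : w * g * z * (w * g)⁻¹ = z := by rw [mul_inv_rev]; simpa [mul_assoc] using h
        exact mul_inv_eq_iff_eq_mul.mp h'
      rcases conj_cases a g hoa with ha' | ha' <;> rcases conj_cases b g hob with hb' | hb'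
      · exact ⟨1, one_mem _, hCof _ (comm_of _ _ _ (by rw [ha']; group)) (comm_of _ _ _ (by rw [hb']; group))⟩
      · refine ⟨a, haQ, hCof _ (comm_of _ _ _ (by rw [ha']; group)) (comm_of _ _ _ ?_)⟩
        rw [hb']
        calc a * b⁻¹ * a⁻¹ = (a * b * a⁻¹)⁻¹ := by group
          _ = b := by rw [hcb, inv_inv]
      · refine ⟨b, hbQ, hCof _ (comm_of _ _ _ ?_) (comm_of _ _ _ (by rw [hb']; group))⟩
        rw [ha']
        calc b * a⁻¹ * b⁻¹ = (b * a * b⁻¹)⁻¹ := by group
          _ = a := by rw [hconj, inv_inv]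
      · refine ⟨a * b, mul_mem haQ hbQ, hCof _ (comm_of _ _ _ ?_) (comm_of _ _ _ ?_)⟩
        · rw [ha']
          calc a * b * a⁻¹ * (a * b)⁻¹ = a * (b * a * b⁻¹)⁻¹ * a⁻¹ := by group
            _ = a := by rw [hconj, inv_inv]; group
        · rw [hb']
          calc a * b * b⁻¹ * (a * b)⁻¹ = (a * b * a⁻¹)⁻¹ := by group
            _ = b := by rw [hcb, inv_inv]
    have hgeq : g = w⁻¹ * (w * g) := by group
    rw [hgeq]
    refine mul_mem (mem_sup_left (inv_mem hw)) ?_
    generalize w * g = z at hwC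
    -- split `z` into a `2`-part and an odd part
    have hz0 : orderOf z ≠ 0 := (orderOf_pos z).ne'
    set e := (orderOf z).factorization 2
    have he : e ≤ 1 := by
      by_contra h
      have h4 : 4 ∣ orderOf z := (pow_dvd_pow 2 (show 2 ≤ e by omega)).trans (Nat.ordProj_dvd _ _)
      refine hno4 (z ^ (orderOf z / 4)) (pow_mem hwC _) ?_
      exact orderOf_pow_orderOf_div hz0 h4
    set m := orderOf z / 2 ^ e
    have hm : 2 ^ e * m = orderOf z := Nat.ordProj_mul_ordCompl_eq_self _ _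
    have hmodd : Odd m := Nat.odd_iff.mpr (Nat.two_dvd_ne_zero.mp (Nat.not_dvd_ordCompl Nat.prime_two hz0))
    have htT : z ^ m ∈ T := by
      refine ⟨pow_mem hwC m, ?_⟩
      rw [← pow_mul, ← orderOf_dvd_iff_pow_eq_one, ← hm, mul_comm]
      exact mul_dvd_mul_left m ((pow_dvd_pow 2 he).trans (by norm_num))
    have hvA : z ^ (m + 1) ∈ A ∧ True := by
      refine ⟨?_, trivial⟩
      show Odd (orderOf (z ^ (m + 1)))
      obtain ⟨k, hk⟩ := hmodd
      refine Odd.of_dvd_nat (show Odd m from ⟨k, hk⟩) (orderOf_dvd_of_pow_eq_one ?_)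
      rw [← pow_mul, ← orderOf_dvd_iff_pow_eq_one, ← hm]
      refine mul_dvd_mul ((pow_dvd_pow 2 he).trans ⟨k + 1, by omega⟩) dvd_rfl
    have hze : z = (z ^ m)⁻¹ * z ^ (m + 1) := by rw [pow_succ]; group
    rw [hze]
    refine mul_mem ?_ (mem_sup_right (mem_sup_right hvA.1))
    rcases hTE _ (inv_mem htT) with h | h
    · exact mem_sup_right (mem_sup_left h)
    · have := mul_mem (mem_sup_left (T := E ⊔ A) (show c ∈ Q from pow_mem haQ 2))
        (mem_sup_right (S := Q) (mem_sup_left (T := A) h))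
      simpa using this

omit hn in
/-- A finite non-abelian group in which every subgroup is normal is the internal direct product of a subgroup isomorphic to the quaternion group of order `8`, an elementary abelian `2`-subgroup and an abelian subgroup of odd order. -/
theorem result {G : Type*} [Group G] [Finite G] (hna : ¬ IsMulCommutative G) (hn : ∀ H : Subgroup G, H.Normal) : ∃ Q E A : Subgroup G, Nonempty (Q ≃* QuaternionGroup 2) ∧ Cfsg.IsElementaryAbelian 2 E ∧ IsMulCommutative A ∧ Odd (Nat.card A) ∧ E ⊓ A = ⊥ ∧ Q ⊓ (E ⊔ A) = ⊥ ∧ Q ⊔ (E ⊔ A) = ⊤ :=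
  structure_hamiltonian hn hna

end Cfsg.Agent.S4211
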