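import Cfsg.Statements.S4212
import Mathlib

set_option autoImplicit false
open Cfsg

namespace Cfsg.Agent.S4212

open Subgroup

universe u

variable {G : Type u} [Group G] [Finite G]

/-- The number of elements with `n`th power in a given class. -/
noncomputable def cnt (c : G) (n : ℕ) : ℕ := Nat.card {x : G // IsConj c (x ^ n)}

/-- The solutions of `x ^ n = c`. -/
noncomputable def sol (c : G) (n : ℕ) : ℕ := Nat.card {x : G // x ^ n = c}

theorem card_class (c : G) :
    Nat.card {y : G // IsConj c y} = (centralizer ({c} : Set G)).index := by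
  rw [Subgroup.index_eq_card]
  symm
  let F : G → {y : G // IsConj c y} := fun g => ⟨g * c * g⁻¹, isConj_iff.mpr ⟨g, rfl⟩⟩
  have hF : ∀ a b, (QuotientGroup.leftRel (centralizer ({c} : Set G))).r a b → F a = F b := by
    intro a b h
    rw [QuotientGroup.leftRel_apply, mem_centralizer_singleton_iff] at h
    apply Subtype.ext
    show a * c * a⁻¹ = b * c * b⁻¹
    calc a * c * a⁻¹ = a * (c * (a⁻¹ * b)) * b⁻¹ := by group
      _ = a * ((a⁻¹ * b) * c) * b⁻¹ := by rw [h]
      _ = b * c * b⁻¹ := by group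
  refine Nat.card_congr (Equiv.ofBijective (Quotient.lift F hF) ⟨fun a b => ?_, fun ⟨y, hy⟩ => ?_⟩)
  · obtain ⟨a, rfl⟩ := Quotient.exists_rep a
    obtain ⟨b, rfl⟩ := Quotient.exists_rep b
    intro h
    refine Quotient.sound ?_
    show (QuotientGroup.leftRel _).r a b
    rw [QuotientGroup.leftRel_apply, mem_centralizer_singleton_iff]
    have h' : a * c * a⁻¹ = b * c * b⁻¹ := congrArg Subtype.val h
    calc a⁻¹ * b * c = a⁻¹ * (b * c * b⁻¹) * b := by group
      _ = a⁻¹ * (a * c * a⁻¹) * b := by rw [h']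
      _ = c * (a⁻¹ * b) := by group
  · obtain ⟨g, hg⟩ := isConj_iff.mp hy
    exact ⟨Quotient.mk'' g, Subtype.ext hg⟩

theorem cnt_eq_mul (c : G) (n : ℕ) : cnt c n = Nat.card {y : G // IsConj c y} * sol c n := by
  classical
  rw [cnt, sol, ← Nat.card_prod]
  choose g hg using fun y : {y : G // IsConj c y} => isConj_iff.mp y.2
  symm
  refine Nat.card_congr
    { toFun := fun z => ⟨g z.1 * z.2 * (g z.1)⁻¹, by rw [conj_pow, z.2.2, hg]; exact z.1.2⟩
      invFun := fun x => (⟨_, x.2⟩, ⟨(g ⟨_, x.2⟩)⁻¹ * x.1 * g ⟨_, x.2⟩, by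
        have e := conj_pow (a := (g ⟨_, x.2⟩)⁻¹) (b := x.1) (i := n)
        rw [inv_inv] at e
        rw [e]
        have h := hg ⟨_, x.2⟩
        simp only at h
        conv_lhs => arg 1; arg 2; rw [← h]
        group⟩)
      left_inv := fun z => ?_
      right_inv := fun x => ?_ }
  · have e : (⟨(g z.1 * z.2 * (g z.1)⁻¹) ^ n, by rw [conj_pow, z.2.2, hg]; exact z.1.2⟩ :
        {y : G // IsConj c y}) = z.1 := Subtype.ext (by
      show (g z.1 * z.2 * (g z.1)⁻¹) ^ n = z.1
      rw [conj_pow, z.2.2, hg])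
    refine Prod.ext e (Subtype.ext ?_)
    simp only [e]
    group
  · exact Subtype.ext (by group)

theorem sol_centralizer (c : G) (n : ℕ) :
    sol c n = sol (⟨c, mem_centralizer_singleton_iff.mpr rfl⟩ : centralizer ({c} : Set G)) n :=
  Nat.card_congr
    { toFun := fun x => ⟨⟨x.1, mem_centralizer_singleton_iff.mpr (by
        calc x.1 * c = x.1 * x.1 ^ n := congrArg _ x.2.symm
          _ = x.1 ^ n * x.1 := ((Commute.refl x.1).pow_right n).eq
          _ = c * x.1 := congrArg (· * x.1) x.2)⟩, Subtype.ext x.2⟩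
      invFun := fun x => ⟨x.1.1, congrArg Subtype.val x.2⟩
      left_inv := fun _ => rfl
      right_inv := fun _ => rfl }

theorem class_central {c : G} (hc : c ∈ center G) : Nat.card {y : G // IsConj c y} = 1 := by
  rw [card_class, index_eq_one, eq_top_iff]
  exact fun g _ => mem_centralizer_singleton_iff.mpr (mem_center_iff.mp hc g)

theorem order_of_root {p e : ℕ} (hp : p.Prime) {x c : G} (hx : x ^ p ^ e = c) (hpc : p ∣ orderOf c) :
    orderOf x = p ^ e * orderOf c := by
  obtain ⟨j, hj, hgj⟩ := (Nat.dvd_prime_pow hp).mp (Nat.gcd_dvd_right (orderOf x) (p ^ e))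
  have hoc : orderOf c = orderOf x / p ^ j := by rw [← hx, orderOf_pow, hgj]
  have hdvd : p ^ j ∣ orderOf x := hgj ▸ Nat.gcd_dvd_left _ _
  have hje : j = e := by
    by_contra hne
    have h1 : p ^ (j + 1) ∣ orderOf x := by
      rw [pow_succ, ← Nat.mul_div_cancel' hdvd, ← hoc]
      exact mul_dvd_mul_left _ hpc
    have h2 : p ^ (j + 1) ∣ p ^ j := hgj ▸ Nat.dvd_gcd h1 (pow_dvd_pow p (by omega))
    exact absurd ((Nat.pow_dvd_pow_iff_le_right hp.one_lt).mp h2) (by omega)
  rw [hoc, hje, Nat.mul_div_cancel' (hje ▸ hdvd)]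

/-- Roots of an element of order divisible by `p` come in blocks of `p ^ e`. -/
theorem pow_dvd_sol {p e : ℕ} (hp : p.Prime) {c : G} (hpc : p ∣ orderOf c) :
    p ^ e ∣ sol c (p ^ e) := by
  classical
  rw [sol, ← Nat.card_congr (Equiv.sigmaFiberEquiv (fun x : {x : G // x ^ p ^ e = c} => zpowers (x : G)))]
  haveI := Fintype.ofFinite (Subgroup G)
  rw [Nat.card_sigma]
  refine Finset.dvd_sum fun C _ => ?_
  by_cases hC : ∃ x : {x : G // x ^ p ^ e = c}, zpowers (x : G) = C
  swap
  · haveI : IsEmpty {x : {x : G // x ^ p ^ e = c} // zpowers (x : G) = C} := ⟨fun x => hC ⟨x.1, x.2⟩⟩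
    rw [Nat.card_of_isEmpty]; exact dvd_zero _
  obtain ⟨⟨x, hx⟩, rfl⟩ := hC
  have ho := order_of_root hp hx hpc
  letI : CommGroup (zpowers x) := IsCyclic.commGroup
  have hker : Nat.card (powMonoidHom (p ^ e) : zpowers x →* zpowers x).ker = p ^ e := by
    rw [IsCyclic.card_powMonoidHom_ker, Nat.card_zpowers, Nat.gcd_eq_right ⟨orderOf c, ho⟩]
  refine dvd_of_eq ?_
  conv_lhs => rw [← hker]
  refine Nat.card_congr (Equiv.ofBijective (fun z => ⟨⟨(z.1 : G) * x, ?_⟩, ?_⟩) ⟨?_, ?_⟩)
  · have hz : ((z.1 : zpowers x) : G) ^ p ^ e = 1 := congrArg Subtype.val (MonoidHom.mem_ker.mp z.2)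
    obtain ⟨i, hi⟩ := mem_zpowers_iff.mp z.1.2
    have hcomm : Commute ((z.1 : zpowers x) : G) x := hi ▸ (Commute.refl x).zpow_left i
    rw [hcomm.mul_pow, hz, hx, one_mul]
  · have hm : (z.1 : G) * x ∈ zpowers x := mul_mem z.1.2 (mem_zpowers x)
    refine Subgroup.eq_of_le_of_card_ge (zpowers_le.mpr hm) ?_
    rw [Nat.card_zpowers, Nat.card_zpowers, ho]
    refine le_of_eq (order_of_root hp ?_ hpc).symm
    have hz : ((z.1 : zpowers x) : G) ^ p ^ e = 1 := congrArg Subtype.val (MonoidHom.mem_ker.mp z.2)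
    obtain ⟨i, hi⟩ := mem_zpowers_iff.mp z.1.2
    have hcomm : Commute ((z.1 : zpowers x) : G) x := hi ▸ (Commute.refl x).zpow_left i
    rw [hcomm.mul_pow, hz, hx, one_mul]
  · intro z w h
    have h' : ((z.1 : zpowers x) : G) * x = (w.1 : zpowers x) * x :=
      congrArg (fun a => ((a.1 : {x : G // x ^ p ^ e = c}) : G)) h
    exact Subtype.ext (Subtype.ext (mul_right_cancel h'))
  · rintro ⟨⟨y, hy⟩, hyx⟩
    have hym : y ∈ zpowers x := (show zpowers y = zpowers x from hyx) ▸ mem_zpowers y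
    refine ⟨⟨⟨y * x⁻¹, mul_mem hym (inv_mem (mem_zpowers x))⟩, MonoidHom.mem_ker.mpr (Subtype.ext ?_)⟩,
      Subtype.ext (Subtype.ext ?_)⟩
    · obtain ⟨i, hi⟩ := mem_zpowers_iff.mp hym
      have hcomm : Commute y x := hi ▸ (Commute.refl x).zpow_left i
      show (y * x⁻¹) ^ p ^ e = 1
      rw [hcomm.inv_right.mul_pow, inv_pow, hy, hx, mul_inv_cancel]
    · show y * x⁻¹ * x = y
      group

/-- Divisibility for classes follows from divisibility for central elements. -/
theorem dvd_cnt_of_central {n : ℕ}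
    (hsmall : ∀ H : Subgroup G, H ≠ ⊤ → ∀ c : H, Nat.gcd n (Nat.card H) ∣ sol c n ∨ c ∉ center H)
    (hcen : ∀ c ∈ center G, Nat.gcd n (Nat.card G) ∣ sol c n) (c : G) :
    Nat.gcd (Nat.card {y : G // IsConj c y} * n) (Nat.card G) ∣ cnt c n := by
  rw [cnt_eq_mul]
  by_cases hc : c ∈ center G
  · rw [class_central hc, one_mul, one_mul]; exact hcen c hc
  · have hne : centralizer ({c} : Set G) ≠ ⊤ := fun h => hc (mem_center_iff.mpr fun g =>
      mem_centralizer_singleton_iff.mp (show g ∈ centralizer ({c} : Set G) by rw [h]; trivial))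
    have hg : Nat.card G = Nat.card {y : G // IsConj c y} * Nat.card (centralizer ({c} : Set G)) := by
      rw [card_class, mul_comm, card_mul_index]
    rw [hg, Nat.gcd_mul_left, sol_centralizer]
    refine mul_dvd_mul_left _ ((hsmall _ hne _).resolve_right ?_)
    rw [not_not, mem_center_iff]
    exact fun g => Subtype.ext (mem_centralizer_singleton_iff.mp g.2)

theorem central_main : ∀ (m : ℕ) (G : Type u) [Group G] [Finite G], Nat.card G ≤ m →
    ∀ (n : ℕ) (c : G), c ∈ center G → Nat.gcd n (Nat.card G) ∣ sol c n := by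
  intro m
  induction m with
  | zero => intro G _ _ h; exact absurd h (not_le.mpr Nat.card_pos)
  | succ m ihm => ?_
  intro G _ _ hGm n
  classical
  have hsmall : ∀ (k : ℕ) (H : Subgroup G), H ≠ ⊤ → ∀ c : H, Nat.gcd k (Nat.card H) ∣ sol c k ∨ c ∉ center H := by
    intro k H hH c
    by_cases hc : c ∈ center H
    · refine Or.inl (ihm H ?_ k c hc)
      have : Nat.card H < Nat.card G := lt_of_le_of_ne (Subgroup.card_le_card_group H)
        (fun e => hH (Subgroup.eq_top_of_card_eq H e))
      omega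
    · exact Or.inr hc
  haveI := Fintype.ofFinite (ConjClasses G)
  induction n using Nat.strong_induction_on with
  | _ n ihn => ?_
  intro c hc
  rcases Nat.eq_zero_or_pos n with rfl | hn0
  · rw [Nat.gcd_zero_left]
    by_cases hc1 : c = 1
    · subst hc1
      simp [sol]
    · haveI : IsEmpty {x : G // x ^ 0 = c} := ⟨fun x => hc1 (by simpa using x.2.symm)⟩
      exact ⟨0, by rw [show sol c 0 = 0 from Nat.card_of_isEmpty, mul_zero]⟩
  rcases eq_or_ne n 1 with rfl | hn1
  · rw [Nat.gcd_one_left]; exact one_dvd _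
  set p := n.minFac
  have hp : p.Prime := Nat.minFac_prime hn1
  set e := n.factorization p
  have he : 0 < e := hp.factorization_pos_of_dvd hn0.ne' n.minFac_dvd
  set b := n / p ^ e
  have hab : p ^ e * b = n := Nat.ordProj_mul_ordCompl_eq_self n p
  rcases eq_or_ne b 1 with hb1 | hb1
  swap
  · -- two coprime factors
    have hb0 : 0 < b := Nat.pos_of_ne_zero (by rintro h; rw [h, mul_zero] at hab; omega)
    have hpe : 1 < p ^ e := Nat.one_lt_pow he.ne' hp.one_lt
    have hcop : Nat.Coprime (p ^ e) b := (Nat.coprime_ordCompl hp hn0.ne').pow_left _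
    have key : ∀ a a' : ℕ, a < n → a * a' = n → Nat.gcd a (Nat.card G) ∣ sol c n := by
      intro a a' ha haa
      rw [sol, ← Nat.card_congr (Equiv.sigmaFiberEquiv
        (fun x : {x : G // x ^ n = c} => ConjClasses.mk ((x : G) ^ a)))]
      rw [Nat.card_sigma]
      refine Finset.dvd_sum fun C _ => ?_
      by_cases hC : ∃ x : {x : G // x ^ n = c}, ConjClasses.mk ((x : G) ^ a) = C
      swap
      · haveI : IsEmpty {x : {x : G // x ^ n = c} // ConjClasses.mk ((x : G) ^ a) = C} :=
          ⟨fun x => hC ⟨x.1, x.2⟩⟩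
        rw [Nat.card_of_isEmpty (α := {x : {x : G // x ^ n = c} // ConjClasses.mk ((x : G) ^ a) = C})]
        exact dvd_zero _
      obtain ⟨⟨x, hx⟩, rfl⟩ := hC
      have h1 := dvd_cnt_of_central (hsmall a) (fun d hd => ihn a ha d hd) (x ^ a)
      refine dvd_trans ?_ (h1.trans (dvd_of_eq ?_))
      · exact Nat.gcd_dvd_gcd_of_dvd_left _ (dvd_mul_left _ _)
      · refine Nat.card_congr
          { toFun := fun y => ⟨⟨y.1, ?_⟩, ConjClasses.mk_eq_mk_iff_isConj.mpr y.2.symm⟩
            invFun := fun y => ⟨y.1.1, (ConjClasses.mk_eq_mk_iff_isConj.mp y.2).symm⟩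
            left_inv := fun _ => rfl
            right_inv := fun _ => rfl }
        obtain ⟨g, hg⟩ := isConj_iff.mp y.2
        rw [← haa, pow_mul, ← hg, conj_pow, ← pow_mul, haa, hx, mem_center_iff.mp hc g, mul_inv_cancel_right]
    rw [← hab, Nat.gcd_comm, Nat.Coprime.gcd_mul _ hcop, hab]
    refine Nat.Coprime.mul_dvd_of_dvd_of_dvd ((hcop.coprime_dvd_left (Nat.gcd_dvd_right _ _)).coprime_dvd_right
      (Nat.gcd_dvd_right _ _)) ?_ ?_
    · rw [Nat.gcd_comm]
      refine key (p ^ e) b ?_ hab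
      calc p ^ e = p ^ e * 1 := (mul_one _).symm
        _ < p ^ e * b := Nat.mul_lt_mul_of_pos_left (by omega) (by omega)
        _ = n := hab
    · rw [Nat.gcd_comm]
      refine key b (p ^ e) ?_ (by rw [mul_comm]; exact hab)
      calc b = 1 * b := (one_mul _).symm
        _ < p ^ e * b := Nat.mul_lt_mul_of_pos_right hpe hb0
        _ = n := hab
  -- prime powers
  rw [hb1, mul_one] at hab
  clear_value p e
  subst hab
  by_cases hpc : p ∣ orderOf c
  · exact (Nat.gcd_dvd_left _ _).trans (pow_dvd_sol hp hpc)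
  have htrans : ∀ d ∈ center G, ¬ p ∣ orderOf d → sol d (p ^ e) = sol (1 : G) (p ^ e) := by
    intro d hd hpd
    obtain ⟨i, hi⟩ := exists_pow_eq_self_of_coprime (x := d)
      (((Nat.Prime.coprime_iff_not_dvd hp).mpr hpd).pow_left e)
    rw [← pow_mul, mul_comm, pow_mul] at hi
    have hri : ∀ x : G, Commute x (d ^ i) := fun x => mem_center_iff.mp (pow_mem hd i) x
    exact Nat.card_congr
      { toFun := fun x => ⟨x.1 * (d ^ i)⁻¹, by
          rw [(hri x.1).inv_right.mul_pow, x.2, inv_pow, hi, mul_inv_cancel]⟩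
        invFun := fun x => ⟨x.1 * d ^ i, by rw [(hri x.1).mul_pow, x.2, hi, one_mul]⟩
        left_inv := fun x => Subtype.ext (by simp)
        right_inv := fun x => Subtype.ext (by simp) }
  rw [htrans c hc hpc]
  -- count all elements by the class of their power
  set n := p ^ e
  let B : Finset (ConjClasses G) :=
    Finset.univ.filter (fun C => ∃ d ∈ center G, ¬ p ∣ orderOf d ∧ ConjClasses.mk d = C)
  have htot : Nat.card G = ∑ C : ConjClasses G, Nat.card {x : G // ConjClasses.mk (x ^ n) = C} := by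
    rw [← Nat.card_sigma]
    exact (Nat.card_congr (Equiv.sigmaFiberEquiv (fun x : G => ConjClasses.mk (x ^ n)))).symm
  have hfib : ∀ d : G, Nat.card {x : G // ConjClasses.mk (x ^ n) = ConjClasses.mk d} = cnt d n := fun d =>
    Nat.card_congr (Equiv.subtypeEquivRight fun x => by rw [ConjClasses.mk_eq_mk_iff_isConj, isConj_comm])
  have hgood : ∀ C ∉ B, Nat.gcd n (Nat.card G) ∣ Nat.card {x : G // ConjClasses.mk (x ^ n) = C} := by
    intro C hC
    obtain ⟨d, rfl⟩ := ConjClasses.exists_rep C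
    rw [hfib, cnt_eq_mul]
    by_cases hd : d ∈ center G
    · have hpd : p ∣ orderOf d := by
        by_contra h
        exact hC (Finset.mem_filter.mpr ⟨Finset.mem_univ _, d, hd, h, rfl⟩)
      exact dvd_mul_of_dvd_right ((Nat.gcd_dvd_left _ _).trans (pow_dvd_sol hp hpd)) _
    · have hne : centralizer ({d} : Set G) ≠ ⊤ := fun h => hd (mem_center_iff.mpr fun g =>
        mem_centralizer_singleton_iff.mp (show g ∈ centralizer ({d} : Set G) by rw [h]; trivial))
      have hg : Nat.card G = Nat.card {y : G // IsConj d y} * Nat.card (centralizer ({d} : Set G)) := by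
        rw [card_class, mul_comm, card_mul_index]
      rw [sol_centralizer, hg]
      have h1 := ((hsmall n) _ hne ⟨d, mem_centralizer_singleton_iff.mpr rfl⟩).resolve_right (by
        rw [not_not, mem_center_iff]
        exact fun g => Subtype.ext (mem_centralizer_singleton_iff.mp g.2))
      refine dvd_trans ?_ (mul_dvd_mul_left _ h1)
      rw [← Nat.gcd_mul_left]
      exact Nat.gcd_dvd_gcd_of_dvd_left _ (dvd_mul_left _ _)
  have hbad : ∀ C ∈ B, Nat.card {x : G // ConjClasses.mk (x ^ n) = C} = sol (1 : G) n := by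
    intro C hC
    obtain ⟨-, d, hd, hpd, rfl⟩ := Finset.mem_filter.mp hC
    rw [hfib, cnt_eq_mul, class_central hd, one_mul, htrans d hd hpd]
  rw [← Finset.sum_add_sum_compl B, Finset.sum_congr rfl hbad, Finset.sum_const, smul_eq_mul] at htot
  have hdvd : Nat.gcd n (Nat.card G) ∣ B.card * sol (1 : G) n :=
    (Nat.dvd_add_left (Finset.dvd_sum fun C hC => hgood C (Finset.mem_compl.mp hC))).mp
      (htot ▸ Nat.gcd_dvd_right _ _)
  refine Nat.Coprime.dvd_of_dvd_mul_left ?_ hdvd
  -- the central elements of order prime to `p` form a subgroup of order prime to `p`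
  haveI := Fact.mk hp
  let K : Subgroup G :=
    { carrier := {d | d ∈ center G ∧ ¬ p ∣ orderOf d}
      one_mem' := ⟨one_mem _, by simp [hp.ne_one]⟩
      mul_mem' := fun {a b} ha hb => ⟨mul_mem ha.1 hb.1, fun h => by
        have := h.trans ((show Commute a b from mem_center_iff.mp hb.1 a).orderOf_mul_dvd_lcm.trans
          (Nat.lcm_dvd_mul _ _))
        rcases (Nat.Prime.dvd_mul hp).mp this with h' | h'
        exacts [ha.2 h', hb.2 h']⟩
      inv_mem' := fun {a} ha => ⟨inv_mem ha.1, by rw [orderOf_inv]; exact ha.2⟩ }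
  have hB : B.card = Nat.card K := by
    rw [← Nat.card_eq_finsetCard]
    refine (Nat.card_congr (Equiv.ofBijective
      (fun d : K => (⟨ConjClasses.mk d.1, Finset.mem_filter.mpr ⟨Finset.mem_univ _, d.1, d.2.1, d.2.2, rfl⟩⟩ : B))
      ⟨fun a b h => ?_, fun C => ?_⟩)).symm
    · obtain ⟨g, hg⟩ := isConj_iff.mp (ConjClasses.mk_eq_mk_iff_isConj.mp (congrArg Subtype.val h))
      exact Subtype.ext (by rw [← hg, mem_center_iff.mp a.2.1 g, mul_inv_cancel_right])
    · obtain ⟨-, d, hd, hpd, h⟩ := Finset.mem_filter.mp C.2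
      exact ⟨⟨d, hd, hpd⟩, Subtype.ext h⟩
  have hK : ¬ p ∣ B.card := by
    rw [hB]
    intro h
    obtain ⟨d, hd⟩ := exists_prime_orderOf_dvd_card' p h
    exact d.2.2 (by rw [Subgroup.orderOf_coe, hd])
  exact (((Nat.Prime.coprime_iff_not_dvd hp).mpr hK).pow_left e).coprime_dvd_left (Nat.gcd_dvd_left _ _)

/-- Let `G` be a finite group of order `g`, `c` an element whose conjugacy class has `h` elements, and `n` a natural number. Then the number of elements `x` of `G` with `x^n` conjugate to `c` is a multiple of `gcd(hn, g)`. -/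
theorem result {G : Type*} [Group G] [Finite G] (c : G) (n : ℕ) : Nat.gcd (Nat.card {y : G // IsConj c y} * n) (Nat.card G) ∣ Nat.card {x : G // IsConj c (x ^ n)} := by
  refine dvd_cnt_of_central (fun H _ d => ?_) (fun d hd => central_main _ G le_rfl n d hd) c
  by_cases hd : d ∈ center H
  · exact Or.inl (central_main _ H le_rfl n d hd)
  · exact Or.inr hd

end Cfsg.Agent.S4212
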