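import Cfsg.Statements.S4215
import Cfsg.Agent.H59.YoshidaComm
import Cfsg.Agent.Fusion.Tate

set_option autoImplicit false
open Cfsg

namespace Cfsg.Agent.S4215

universe u

theorem main {G : Type u} [Group G] [Finite G] {p : ℕ} [Fact p.Prime] (P : Sylow p G) (Q : Subgroup G)
    (hQ : Cfsg.IsWeaklyClosed Q (P : Subgroup G))
    (h : ∀ v ∈ (P : Subgroup G), ∀ z ∈ Q, (fun y : G => y⁻¹ * z⁻¹ * y * z)^[p - 1] v = 1) :
    Cfsg.pResidualOf p (Subgroup.normalizer (Q : Set G)) =
      Cfsg.pResidual p G ⊓ Subgroup.normalizer (Q : Set G) := by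
  set N := Subgroup.normalizer (Q : Set G) with hN
  have hPN : (P : Subgroup G) ≤ N := fun s hs => by
    refine H60.cj_eq_self_iff.mp (hQ.2 s ?_)
    exact (H60.cj_mono hQ.1 s).trans (H60.cj_le_of_mem hs)
  have hle : commutator G ⊓ (P : Subgroup G) ≤ ⁅N, N⁆ := by
    by_contra hc
    obtain ⟨x, hx, z, hz, W₀, -, -, hnot⟩ := H59.wielandt_yoshida P hQ hc
    refine hnot ?_
    rw [show (H59.cstep z)^[p - 1] x = 1 from h x hx z hz]
    exact one_mem _
  rw [Cfsg.pResidualOf, ← Fusion.tate_of_commutator_eq P hPN hle, Subgroup.subgroupOf_map_subtype]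

/-- Let `P` be a Sylow `p`-subgroup of the finite group `G`, `Q` a subgroup of `P` weakly closed in `P` with respect to `G`, and `H` the normalizer of `Q`. Suppose that for all `u ∈ P` and `z ∈ Q` the iterated commutator `[u, z, …, z]` with `p - 1` entries `z` is trivial, where `[x, z] = x⁻¹z⁻¹xz` and `[x, z, z] = [[x, z], z]`. Then `O^p(H) = O^p(G) ∩ H`, where `O^p` denotes the subgroup generated by the elements of order prime to `p`; so the largest `p`-factor groups of `G` and of `H` are isomorphic. -/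
theorem result {G : Type*} [Group G] [Finite G] {p : ℕ} [Fact p.Prime] (P : Sylow p G) (Q : Subgroup G) (hQ : Cfsg.IsWeaklyClosed Q (P : Subgroup G)) (h : ∀ u ∈ (P : Subgroup G), ∀ z ∈ Q, (fun y : G => y⁻¹ * z⁻¹ * y * z)^[p - 1] u = 1) : Cfsg.pResidualOf p (Subgroup.normalizer (Q : Set G)) = Cfsg.pResidual p G ⊓ Subgroup.normalizer (Q : Set G) := by
  exact main P Q hQ h

end Cfsg.Agent.S4215
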