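import Cfsg.Statements.S4216
import Mathlib

set_option autoImplicit false
open Cfsg
open scoped commutatorElement

namespace Cfsg.Agent.S4216

open MulAction Function Subgroup
open scoped commutatorElement

variable {G : Type*} [Group G] [Finite G] {p : ℕ} [Fact p.Prime]

/-- Transfer computation in Grün's first theorem: a homomorphism of `P` to a commutative group
killing `P ∩ N(P)'` and all `P ∩ P'^z` kills `P ∩ G'`. -/
theorem grun_ker (P : Sylow p G) {A : Type*} [CommGroup A] (φ : (P : Subgroup G) →* A)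
    (hA : ∀ a : A, ∀ m : ℕ, Nat.Coprime m p → a ^ m = 1 → a = 1)
    (h1 : ∀ y : (P : Subgroup G), (y : G) ∈ ⁅normalizer ((P : Subgroup G) : Set G), normalizer ((P : Subgroup G) : Set G)⁆ → φ y = 1)
    (h2 : ∀ (y : (P : Subgroup G)) (z : G),
      (y : G) ∈ (⁅(P : Subgroup G), (P : Subgroup G)⁆).map (MulAut.conj z).toMonoidHom → φ y = 1) :
    ∀ (n : ℕ) (x : (P : Subgroup G)), orderOf x ≤ n → (x : G) ∈ commutator G → φ x = 1 := by
  classical
  intro n
  induction n with
  | zero => intro x hx; exact absurd hx (by have := orderOf_pos x; omega)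
  | succ n ih => ?_
  intro x hxn hxG
  rcases eq_or_ne x 1 with rfl | hx1
  · exact map_one _
  have hp : p.Prime := Fact.out
  -- conjugates of proper powers are killed
  have small : ∀ (l : ℕ), p ∣ l → ∀ (g : G) (hm : g⁻¹ * (x : G) ^ l * g ∈ (P : Subgroup G)),
      φ ⟨_, hm⟩ = 1 := by
    intro l hl g hm
    refine ih _ ?_ ?_
    · have hlt : orderOf ((x : G) ^ l) < orderOf (x : G) := by
        obtain ⟨k, hk⟩ := IsPGroup.iff_orderOf.mp P.isPGroup' x
        have hk0 : k ≠ 0 := by rintro rfl; exact hx1 (orderOf_eq_one_iff.mp (by simpa using hk))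
        have hpx : p ∣ orderOf (x : G) := by rw [orderOf_coe, hk]; exact dvd_pow_self p hk0
        rw [orderOf_pow]
        refine Nat.div_lt_self (orderOf_pos _) ?_
        exact lt_of_lt_of_le hp.one_lt
          (Nat.le_of_dvd (Nat.gcd_pos_of_pos_left _ (orderOf_pos _)) (Nat.dvd_gcd hpx hl))
      rw [← orderOf_coe]
      have : g⁻¹ * (x : G) ^ l * g = MulAut.conj g⁻¹ ((x : G) ^ l) := by simp
      simp only [this, MulEquiv.orderOf_eq]
      rw [orderOf_coe] at hlt
      omega
    · exact (inferInstance : (commutator G).Normal).conj_mem' _ (pow_mem hxG l) g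
  -- elements of `P` equal modulo `P'` have equal conjugated images
  have theta : ∀ (g : G) (k₁ k₂ : G) (_ : k₁⁻¹ * k₂ ∈ ⁅(P : Subgroup G), (P : Subgroup G)⁆)
      (hm₁ : g⁻¹ * k₁ * g ∈ (P : Subgroup G)) (hm₂ : g⁻¹ * k₂ * g ∈ (P : Subgroup G)),
      φ ⟨_, hm₁⟩ = φ ⟨_, hm₂⟩ := by
    intro g k₁ k₂ hk hm₁ hm₂
    rw [← inv_mul_eq_one, ← map_inv, ← map_mul]
    refine h2 _ g⁻¹ ⟨_, hk, ?_⟩
    simp only [MulEquiv.coe_toMonoidHom, MulAut.conj_apply, coe_mul, coe_inv, inv_inv]
    group
  haveI : FiniteIndex (P : Subgroup G) := inferInstance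
  let Ω := G ⧸ (P : Subgroup G)
  letI : Fintype (Quotient (orbitRel (zpowers (x : G)) Ω)) := Fintype.ofFinite _
  letI : Fintype Ω := Fintype.ofFinite _
  letI : Fintype (Quotient (orbitRel (P : Subgroup G) Ω)) := Fintype.ofFinite _
  have hV : MonoidHom.transfer φ (x : G) = 1 := by
    have hle : commutator G ≤ (MonoidHom.transfer φ).ker := Abelianization.commutator_subset_ker _
    exact hle hxG
  rw [MonoidHom.transfer_eq_prod_quotient_orbitRel_zpowers_quot] at hV
  let π : Quotient (orbitRel (zpowers (x : G)) Ω) → Quotient (orbitRel (P : Subgroup G) Ω) :=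
    Quotient.map' id (fun a b hab => by
      obtain ⟨⟨g, hg⟩, rfl⟩ := hab
      exact ⟨⟨g, (zpowers_le.mpr x.2) hg⟩, rfl⟩)
  let l : Quotient (orbitRel (zpowers (x : G)) Ω) → ℕ := fun q => minimalPeriod ((x : G) • ·) q.out
  let fixd : Quotient (orbitRel (P : Subgroup G) Ω) → Prop := fun D =>
    ∀ u : (P : Subgroup G), u • D.out = D.out
  rw [← Finset.prod_fiberwise (s := Finset.univ) (g := π)] at hV
  -- the contribution of one `P`-orbit
  have key : ∀ D, (∏ q ∈ Finset.univ.filter (fun q => π q = D),
      φ ⟨q.out.out⁻¹ * (x : G) ^ minimalPeriod ((x : G) • ·) q.out * q.out.out,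
        QuotientGroup.out_conj_pow_minimalPeriod_mem _ _ q.out⟩) =
      if fixd D then φ x else 1 := by
    intro D
    have hne : (Finset.univ.filter (fun q => π q = D)).Nonempty := by
      obtain ⟨ω, rfl⟩ := Quotient.exists_rep D
      exact ⟨Quotient.mk'' ω, Finset.mem_filter.mpr ⟨Finset.mem_univ _, rfl⟩⟩
    obtain ⟨q₀, hq₀, hmin⟩ := Finset.exists_min_image _ l hne
    rw [Finset.mem_filter] at hq₀
    set ω₀ := q₀.out with hω₀
    set g := ω₀.out with hg
    set l₀ := l q₀ with hl₀
    have hmem₀ : g⁻¹ * (x : G) ^ l₀ * g ∈ (P : Subgroup G) :=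
      QuotientGroup.out_conj_pow_minimalPeriod_mem _ _ q₀.out
    have hlp : ∀ q, ∃ e, l q = p ^ e := by
      intro q
      obtain ⟨k, hk⟩ := IsPGroup.iff_orderOf.mp P.isPGroup' x
      have hd : l q ∣ p ^ k := by
        refine IsPeriodicPt.minimalPeriod_dvd ?_
        simp only [IsPeriodicPt, IsFixedPt, smul_iterate_apply]
        rw [← hk, ← orderOf_coe, pow_orderOf_eq_one, one_smul]
      obtain ⟨e, -, he⟩ := (Nat.dvd_prime_pow hp).mp hd
      exact ⟨e, he⟩
    have hmap : ∀ q ∈ Finset.univ.filter (fun q => π q = D), q.out ∈ orbit (P : Subgroup G) ω₀ := by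
      intro q hq
      rw [Finset.mem_filter] at hq
      have e : π (Quotient.mk'' q.out) = π (Quotient.mk'' q₀.out) := by
        rw [Quotient.out_eq', Quotient.out_eq', hq.2, hq₀.2]
      exact Quotient.exact' e
    have hterm : ∀ q ∈ Finset.univ.filter (fun q => π q = D),
        φ ⟨q.out.out⁻¹ * (x : G) ^ minimalPeriod ((x : G) • ·) q.out * q.out.out,
          QuotientGroup.out_conj_pow_minimalPeriod_mem _ _ q.out⟩ =
        φ ⟨_, hmem₀⟩ ^ (l q / l₀) := by
      intro q hq
      obtain ⟨⟨v, hv⟩, hvω⟩ := hmap q hq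
      obtain ⟨e, he⟩ := hlp q
      obtain ⟨e₀, he₀⟩ := hlp q₀
      have hdvd : l₀ ∣ l q := by
        have := hmin q hq
        rw [hl₀, he, he₀]
        exact pow_dvd_pow _ ((Nat.pow_le_pow_iff_right hp.one_lt).mp (by rw [← he, ← he₀]; exact this))
      obtain ⟨m, hm⟩ := hdvd
      have hl₀0 : 0 < l₀ := by rw [hl₀, he₀]; exact pow_pos hp.pos _
      rw [hm, Nat.mul_div_cancel_left _ hl₀0]
      obtain ⟨h, hh, hy⟩ : ∃ h ∈ (P : Subgroup G), q.out.out = v * g * h := by
        refine ⟨(v * g)⁻¹ * q.out.out, ?_, by group⟩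
        rw [← QuotientGroup.eq]
        change ((v * g : G) : Ω) = _
        rw [QuotientGroup.out_eq']
        rw [← hvω]
        change ((v * g : G) : Ω) = v • ω₀
        conv_rhs => rw [← QuotientGroup.out_eq' ω₀]
        rfl
      have hmemq : g⁻¹ * (v⁻¹ * (x : G) ^ l q * v) * g ∈ (P : Subgroup G) := by
        have := mul_mem (mul_mem hh (QuotientGroup.out_conj_pow_minimalPeriod_mem (P : Subgroup G) (x : G) q.out))
          (inv_mem hh)
        rw [hy] at this
        convert this using 1
        show _ = h * ((v * g * h)⁻¹ * (x : G) ^ l q * (v * g * h)) * h⁻¹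
        group
      have hmemm : g⁻¹ * ((x : G) ^ l q) * g ∈ (P : Subgroup G) := by
        have := pow_mem hmem₀ m
        rw [hm]
        convert this using 1
        rw [pow_mul]
        simpa using (conj_pow (a := g⁻¹) (b := (x : G) ^ l₀) (i := m)).symm
      have e1 : φ ⟨q.out.out⁻¹ * (x : G) ^ minimalPeriod ((x : G) • ·) q.out * q.out.out,
          QuotientGroup.out_conj_pow_minimalPeriod_mem _ _ q.out⟩ = φ ⟨_, hmemq⟩ := by
        have : (⟨q.out.out⁻¹ * (x : G) ^ minimalPeriod ((x : G) • ·) q.out * q.out.out,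
            QuotientGroup.out_conj_pow_minimalPeriod_mem _ _ q.out⟩ : (P : Subgroup G)) =
            ⟨h, hh⟩⁻¹ * ⟨_, hmemq⟩ * ⟨h, hh⟩ := by
          apply Subtype.ext
          simp only [coe_mul, coe_inv, hy]
          show (v * g * h)⁻¹ * (x : G) ^ l q * (v * g * h) = _
          group
        rw [this, map_mul, map_mul, map_inv, mul_comm _ (φ ⟨_, hmemq⟩), inv_mul_cancel_right]
      rw [e1, theta g _ ((x : G) ^ l q) ?_ hmemq hmemm]
      · rw [← map_pow]
        congr 1
        apply Subtype.ext
        show g⁻¹ * (x : G) ^ l q * g = (g⁻¹ * (x : G) ^ l₀ * g) ^ m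
        conv_lhs => rw [hm, pow_mul]
        simpa using (conj_pow (a := g⁻¹) (b := (x : G) ^ l₀) (i := m)).symm
      · have hc : ⁅v⁻¹, ((x : G) ^ l q)⁻¹⁆ ∈ ⁅(P : Subgroup G), (P : Subgroup G)⁆ :=
          commutator_mem_commutator (inv_mem hv) (inv_mem (pow_mem x.2 _))
        convert hc using 1
        rw [commutatorElement_def]
        group
    rw [Finset.prod_congr rfl hterm, Finset.prod_pow_eq_pow_sum]
    by_cases hl1 : l₀ = 1
    swap
    · have hpl : p ∣ l₀ := by
        obtain ⟨e₀, he₀⟩ := hlp q₀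
        rw [hl₀, he₀]
        exact dvd_pow_self p (by rintro rfl; exact hl1 (by rw [hl₀, he₀, pow_zero]))
      rw [small l₀ hpl g hmem₀, one_pow]
      split_ifs with hf
      · -- a fixed point has period one
        exfalso
        apply hl1
        have hD : D.out = ω₀ := by
          have : π (Quotient.mk'' q₀.out) = Quotient.mk'' D.out := by
            rw [Quotient.out_eq', Quotient.out_eq', hq₀.2]
          obtain ⟨u, hu⟩ := Quotient.exact' this
          exact (hu.symm.trans (hf u)).symm
        simp only [fixd] at hf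
        rw [hD] at hf
        exact minimalPeriod_eq_one_iff_isFixedPt.mpr (hf x)
      · rfl
    simp only [hl1, Nat.div_one]
    -- the sum of the periods is the size of the orbit
    have hsum : ∑ q ∈ Finset.univ.filter (fun q => π q = D), l q =
        (Finset.univ.filter (fun ω : Ω => ω ∈ orbit (P : Subgroup G) ω₀)).card := by
      rw [Finset.card_eq_sum_card_fiberwise (f := fun ω : Ω => (Quotient.mk'' ω : Quotient (orbitRel (zpowers (x : G)) Ω)))
        (t := Finset.univ.filter (fun q => π q = D))]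
      · refine Finset.sum_congr rfl fun q hq => ?_
        show minimalPeriod _ _ = _
        letI : Fintype (orbit (zpowers (x : G)) q.out) := Fintype.ofFinite _
        rw [minimalPeriod_eq_card, ← Set.toFinset_card]
        congr 1
        ext ω
        simp only [Set.mem_toFinset, Finset.mem_filter, Finset.mem_univ, true_and]
        constructor
        · intro hω
          have h' : (Quotient.mk'' ω : Quotient (orbitRel (zpowers (x : G)) Ω)) = q := by
            rw [← Quotient.out_eq' q]; exact Quotient.sound' hω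
          refine ⟨?_, h'⟩
          obtain ⟨⟨c, hc⟩, rfl⟩ := hω
          have hcP : c ∈ (P : Subgroup G) := zpowers_le.mpr x.2 hc
          exact (orbit_eq_iff.mpr (hmap q hq)) ▸ ⟨⟨c, hcP⟩, rfl⟩
        · rintro ⟨-, h'⟩
          rw [← Quotient.out_eq' q] at h'
          exact Quotient.exact' h'
      · intro ω hω
        simp only [Finset.coe_filter, Set.mem_setOf_eq, Finset.mem_univ, true_and] at hω ⊢
        rw [← hq₀.2, ← Quotient.out_eq' q₀]
        exact Quotient.sound' hω
    rw [hsum]
    have hcard : (Finset.univ.filter (fun ω : Ω => ω ∈ orbit (P : Subgroup G) ω₀)).card =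
        Nat.card (orbit (P : Subgroup G) ω₀) := by
      rw [Nat.card_eq_fintype_card, ← Set.toFinset_card]
      congr 1; ext; simp
    rw [hcard]
    obtain ⟨k, hk⟩ := P.isPGroup'.card_orbit ω₀
    rw [hk]
    have hD' : D.out ∈ orbit (P : Subgroup G) ω₀ := by
      have : π (Quotient.mk'' q₀.out) = Quotient.mk'' D.out := by
        rw [Quotient.out_eq', Quotient.out_eq', hq₀.2]
      exact mem_orbit_symm.mp (Quotient.exact' this)
    split_ifs with hf
    · -- fixed point: `g` normalises `P`
      have hωD : D.out = ω₀ := by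
        obtain ⟨u, hu⟩ := mem_orbit_symm.mp hD'
        exact (hf u).symm.trans hu
      simp only [fixd] at hf
      rw [hωD] at hf
      have horb : Nat.card (orbit (P : Subgroup G) ω₀) = 1 := by
        rw [Nat.card_eq_one_iff_exists]
        exact ⟨⟨ω₀, mem_orbit_self _⟩, fun ⟨_, u, hu⟩ => Subtype.ext (hu.symm.trans (hf u))⟩
      rw [← hk, horb, pow_one]
      have hgN : g ∈ normalizer ((P : Subgroup G) : Set G) := by
        have hsub : (P : Subgroup G).map (MulAut.conj g⁻¹).toMonoidHom ≤ (P : Subgroup G) := by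
          rintro _ ⟨u, hu, rfl⟩
          have := hf ⟨u, hu⟩
          rw [← QuotientGroup.out_eq' ω₀] at this
          change ((u * g : G) : Ω) = _ at this
          have := QuotientGroup.eq.mp this.symm
          simpa [mul_assoc] using this
        have := (Subgroup.eq_of_le_of_card_ge hsub (by
          rw [card_map_of_injective]; exact (MulAut.conj g⁻¹).injective)).symm
        have hinv : g⁻¹ ∈ normalizer ((P : Subgroup G) : Set G) := by
          rw [mem_normalizer_iff_map_conj_eq]; exact this.symm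
        simpa using inv_mem hinv
      have hN : ⁅g⁻¹, (x : G)⁆ ∈ ⁅normalizer ((P : Subgroup G) : Set G), normalizer ((P : Subgroup G) : Set G)⁆ :=
        commutator_mem_commutator (inv_mem hgN) (le_normalizer x.2)
      have hmemg : g⁻¹ * (x : G) * g ∈ (P : Subgroup G) := by
        have := hmem₀; rwa [hl1, pow_one] at this
      simp only [pow_one]
      have h3 := h1 (⟨_, hmemg⟩ * x⁻¹) (by
        convert hN using 1
        simp [commutatorElement_def, mul_assoc])
      rwa [map_mul, map_inv, mul_inv_eq_one] at h3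
    · -- a longer orbit
      have hk0 : k ≠ 0 := by
        rintro rfl
        apply hf
        rw [pow_zero, Nat.card_eq_one_iff_exists] at hk
        obtain ⟨a, ha⟩ := hk
        intro u
        obtain ⟨w, hw⟩ := hD'
        have e1 := ha ⟨D.out, ⟨w, hw⟩⟩
        have e2 := ha ⟨u • D.out, ⟨u * w, by rw [← hw]; exact mul_smul u w ω₀⟩⟩
        exact congrArg Subtype.val (e2.trans e1.symm)
      obtain ⟨k', rfl⟩ := Nat.exists_eq_succ_of_ne_zero hk0
      have hxp : g⁻¹ * (x : G) ^ p * g ∈ (P : Subgroup G) := by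
        have := pow_mem hmem₀ p
        rw [hl1, pow_one] at this
        convert this using 1
        simpa using (conj_pow (a := g⁻¹) (b := (x : G)) (i := p)).symm
      rw [pow_succ' p, pow_mul, ← map_pow]
      refine (congrArg (fun a => a ^ p ^ k') ((congrArg φ (Subtype.ext ?_)).trans (small p dvd_rfl g hxp))).trans (one_pow _)
      show (g⁻¹ * (x : G) ^ 1 * g) ^ p = g⁻¹ * (x : G) ^ p * g
      rw [pow_one]
      simpa using (conj_pow (a := g⁻¹) (b := (x : G)) (i := p))
  rw [Finset.prod_congr rfl (fun D _ => key D), Finset.prod_ite, Finset.prod_const, Finset.prod_const_one,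
    mul_one] at hV
  refine hA _ _ ?_ hV
  -- the fixed orbits correspond to the fixed cosets, whose number is prime to `p`
  have hbij : (Finset.univ.filter fixd).card = Nat.card (fixedPoints (P : Subgroup G) Ω) := by
    rw [← Fintype.card_subtype, ← Nat.card_eq_fintype_card]
    refine Nat.card_congr (Equiv.ofBijective (fun D => ⟨D.1.out, fun u => D.2 u⟩) ⟨?_, ?_⟩)
    · rintro ⟨D, hD⟩ ⟨D', hD'⟩ e
      exact Subtype.ext (Quotient.out_injective (congrArg Subtype.val e))
    · rintro ⟨ω, hω⟩
      have h : (Quotient.mk'' ω : Quotient (orbitRel (P : Subgroup G) Ω)).out = ω := by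
        obtain ⟨u, hu⟩ := Quotient.mk_out (s := orbitRel (P : Subgroup G) Ω) ω
        exact hu.symm.trans (hω u)
      exact ⟨⟨Quotient.mk'' ω, fun u => by rw [h]; exact hω u⟩, Subtype.ext h⟩
  rw [hbij]
  have hmod := P.isPGroup'.card_modEq_card_fixedPoints Ω
  rw [Nat.coprime_comm, hp.coprime_iff_not_dvd]
  intro hd
  have : p ∣ (P : Subgroup G).index := (Nat.ModEq.dvd_iff hmod dvd_rfl).mpr hd
  exact P.not_dvd_index this

/-- Grün's first Theorem: if `P` is a Sylow `p`-subgroup of the finite group `G`, then `P ∩ G'` is the subgroup generated by `P ∩ N_G(P)'` together with the subgroups `P ∩ z P' z⁻¹` for all `z ∈ G`, where `'` denotes the derived subgroup and `N_G(P)` the normalizer of `P`. -/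
theorem result {G : Type*} [Group G] [Finite G] {p : ℕ} [Fact p.Prime] (P : Sylow p G) : (P : Subgroup G) ⊓ commutator G = ((P : Subgroup G) ⊓ ⁅Subgroup.normalizer ((P : Subgroup G) : Set G), Subgroup.normalizer ((P : Subgroup G) : Set G)⁆) ⊔ ⨆ z : G, (P : Subgroup G) ⊓ (⁅(P : Subgroup G), (P : Subgroup G)⁆).map (MulAut.conj z).toMonoidHom := by
  set R := ((P : Subgroup G) ⊓ ⁅Subgroup.normalizer ((P : Subgroup G) : Set G), Subgroup.normalizer ((P : Subgroup G) : Set G)⁆) ⊔ ⨆ z : G, (P : Subgroup G) ⊓ (⁅(P : Subgroup G), (P : Subgroup G)⁆).map (MulAut.conj z).toMonoidHom with hR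
  apply le_antisymm
  · rintro y ⟨hyP, hyG⟩
    have hP' : ⁅(P : Subgroup G), (P : Subgroup G)⁆ ≤ R := by
      refine le_trans ?_ le_sup_left
      exact le_inf (commutator_le.mpr fun a ha b hb => by
        rw [commutatorElement_def]
        exact mul_mem (mul_mem (mul_mem ha hb) (inv_mem ha)) (inv_mem hb))
        (commutator_mono le_normalizer le_normalizer)
    let R' : Subgroup (P : Subgroup G) := R.subgroupOf (P : Subgroup G)
    haveI : R'.Normal := ⟨fun a ha b => by
      have : ⁅b, a⁆ * a ∈ R' := mul_mem (by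
        show ((⁅b, a⁆ : (P : Subgroup G)) : G) ∈ R
        exact hP' (by simpa [commutatorElement_def] using commutator_mem_commutator b.2 a.2)) ha
      simpa [commutatorElement_def] using this⟩
    let φ := (QuotientGroup.mk' (R'.map (Abelianization.of))).comp (Abelianization.of (G := (P : Subgroup G)))
    have hφ : ∀ a, φ a = 1 → (a : G) ∈ R := by
      intro a ha
      obtain ⟨b, hb, hbe⟩ := (QuotientGroup.eq_one_iff _).mp ha
      have hker : b⁻¹ * a ∈ (Abelianization.of (G := (P : Subgroup G))).ker := by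
        rw [MonoidHom.mem_ker, map_mul, map_inv, hbe, inv_mul_cancel]
      rw [Abelianization.ker_of] at hker
      have : ((b⁻¹ * a : (P : Subgroup G)) : G) ∈ R := by
        refine hP' ?_
        have hh := mem_map_of_mem (P : Subgroup G).subtype hker
        rwa [_root_.commutator_def, map_commutator, ← MonoidHom.range_eq_map, range_subtype] at hh
      simpa using mul_mem (show (b : G) ∈ R from hb) this
    have hφ' : ∀ a : (P : Subgroup G), (a : G) ∈ R → φ a = 1 := fun a ha =>
      (QuotientGroup.eq_one_iff _).mpr ⟨a, ha, rfl⟩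
    refine hφ ⟨y, hyP⟩ (grun_ker P φ ?_ ?_ ?_ _ ⟨y, hyP⟩ le_rfl hyG)
    · intro a m hm ha
      obtain ⟨b, rfl⟩ : ∃ b, φ b = a := by
        obtain ⟨c, rfl⟩ := QuotientGroup.mk'_surjective _ a
        obtain ⟨b, rfl⟩ := QuotientGroup.mk'_surjective _ c
        exact ⟨b, rfl⟩
      obtain ⟨k, hk⟩ := IsPGroup.iff_orderOf.mp P.isPGroup' b
      rw [← orderOf_eq_one_iff]
      refine Nat.eq_one_of_dvd_coprimes (Nat.Coprime.pow_left k hm.symm) ?_ (orderOf_dvd_of_pow_eq_one ha)
      rw [← hk]; exact orderOf_map_dvd φ b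
    · exact fun a ha => hφ' a (le_sup_left (α := Subgroup G) ⟨a.2, ha⟩)
    · exact fun a z ha => hφ' a (le_sup_right (α := Subgroup G) (le_iSup (fun z : G => (P : Subgroup G) ⊓ (⁅(P : Subgroup G), (P : Subgroup G)⁆).map (MulAut.conj z).toMonoidHom) z ⟨a.2, ha⟩))
  · refine sup_le (inf_le_inf_left _ (commutator_mono le_top le_top)) (iSup_le fun z => inf_le_inf_left _ ?_)
    rw [map_commutator]
    exact commutator_mono le_top le_top

end Cfsg.Agent.S4216
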