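import Cfsg.Statements.S4217
import Cfsg.Agent.S0051

set_option autoImplicit false
open Cfsg

namespace Cfsg.Agent.S4217

open Subgroup
open scoped IsMulCommutative

variable {G : Type*} [Group G] [Finite G]

/-- The `p`-component of an abelian normal subgroup has a complement. -/
theorem exists_complement_component (A : Subgroup G) [A.Normal] [IsMulCommutative A]
    (h : ∀ p : ℕ, p.Prime → p ∣ A.index → ∃ (S : Sylow p (G ⧸ A)) (K : Subgroup G), K ⊓ A = ⊥ ∧
      K ⊔ A = (S : Subgroup (G ⧸ A)).comap (QuotientGroup.mk' A))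
    (p : ℕ) (hp : p.Prime) :
    ∃ H : Subgroup G, H.index = p ^ (Nat.card A).factorization p ∧
      ∀ x ∈ H, x ∈ A → ¬ p ∣ orderOf x := by
  haveI := Fact.mk hp
  classical
  obtain ⟨Sp⟩ : Nonempty (Sylow p A) := inferInstance
  haveI : (Sp : Subgroup A).Normal := ⟨fun x hx g => by rwa [mul_comm g x, mul_inv_cancel_right]⟩
  haveI : (Sp : Subgroup A).Characteristic := Sp.characteristic_of_normal inferInstance
  set K₀ := (Sp : Subgroup A).map A.subtype with hK₀
  haveI : K₀.Normal := ConjAct.normal_of_characteristic_of_normal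
  haveI : IsMulCommutative K₀ := ⟨⟨fun a b => Subtype.ext (by
    simpa using congrArg Subtype.val (mul_comm (⟨a.1, map_subtype_le _ a.2⟩ : A) ⟨b.1, map_subtype_le _ b.2⟩))⟩⟩
  have hK₀card : Nat.card K₀ = p ^ (Nat.card A).factorization p := by
    rw [hK₀, card_map_of_injective A.subtype_injective, Sp.card_eq_multiplicity]
  -- the complement of the component inside `A`
  let C : Subgroup A :=
    { carrier := {x | (orderOf x).Coprime p}
      one_mem' := by simp
      mul_mem' := fun {a b} ha hb => ((Commute.all a b).orderOf_mul_dvd_lcm).trans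
        (Nat.lcm_dvd_mul _ _) |> fun d => (Nat.Coprime.mul_left ha hb).coprime_dvd_left d
      inv_mem' := fun {a} ha => by simpa using ha }
  set C₀ := C.map A.subtype with hC₀
  have hCK : C₀ ⊓ K₀ = ⊥ := by
    rw [eq_bot_iff]
    rintro _ ⟨⟨x, hx, rfl⟩, y, hy, hxy⟩
    obtain rfl : y = x := A.subtype_injective hxy
    obtain ⟨k, hk⟩ := IsPGroup.iff_orderOf.mp Sp.isPGroup' ⟨y, hy⟩
    rw [Subgroup.orderOf_mk] at hk
    have h1 : orderOf y = 1 := Nat.eq_one_of_dvd_coprimes (Nat.Coprime.pow_left k (Nat.Coprime.symm hx))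
      (hk ▸ dvd_rfl) dvd_rfl
    simp [orderOf_eq_one_iff.mp h1]
  have hCsup : K₀ ⊔ C₀ = A := by
    rw [hK₀, hC₀, ← Subgroup.map_sup]
    suffices (Sp : Subgroup A) ⊔ C = ⊤ by rw [this, ← MonoidHom.range_eq_map, range_subtype]
    rw [eq_top_iff]
    intro x _
    -- split `x` by its order
    set o := orderOf x
    have ho : o ≠ 0 := (orderOf_pos x).ne'
    set a := p ^ o.factorization p
    set b := o / p ^ o.factorization p
    have hab : Nat.Coprime a b := (Nat.coprime_ordCompl hp ho).pow_left _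
    obtain ⟨u, v, huv⟩ := Int.isCoprime_iff_gcd_eq_one.mpr (by simpa using hab : Int.gcd (a : ℤ) (b : ℤ) = 1)
    have hx : x = (x ^ a) ^ u * (x ^ b) ^ v := by
      rw [← zpow_natCast x a, ← zpow_natCast x b, ← zpow_mul, ← zpow_mul, ← zpow_add,
        mul_comm (a : ℤ), mul_comm (b : ℤ), huv, zpow_one]
    rw [hx, mul_comm]
    refine mul_mem (mem_sup_left (zpow_mem ?_ v)) (mem_sup_right (zpow_mem ?_ u))
    · have : IsPGroup p (zpowers (x ^ b)) := by
        apply IsPGroup.of_card (n := o.factorization p)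
        rw [Nat.card_zpowers, orderOf_pow, Nat.gcd_eq_right (Nat.ordCompl_dvd o p),
          Nat.div_div_self (Nat.ordProj_dvd o p) ho]
      obtain ⟨T, hT⟩ := this.exists_le_sylow
      have : (T : Subgroup A) = Sp := by
        haveI := Sylow.unique_of_normal Sp inferInstance
        rw [Subsingleton.elim T Sp]
      exact this ▸ hT (mem_zpowers _)
    · show (orderOf (x ^ a)).Coprime p
      rw [orderOf_pow, Nat.gcd_eq_right (Nat.ordProj_dvd o p)]
      exact (Nat.coprime_ordCompl hp ho).symm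
  haveI : C.Characteristic := by
    rw [characteristic_iff_map_le]
    rintro e _ ⟨x, hx, rfl⟩
    show (orderOf (e x)).Coprime p
    rw [MulEquiv.orderOf_eq]; exact hx
  haveI : C₀.Normal := ConjAct.normal_of_characteristic_of_normal
  -- the preimage of a Sylow subgroup of the quotient, with a complement
  obtain ⟨U, B, hAU, hBA, hBU, hcopU⟩ : ∃ U B : Subgroup G, A ≤ U ∧ B ⊓ A = ⊥ ∧ B ⊔ A = U ∧
      (p ^ (Nat.card A).factorization p).Coprime U.index := by
    by_cases hd : p ∣ A.index
    · obtain ⟨S, B, h1, h2⟩ := h p hp hd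
      refine ⟨B ⊔ A, B, le_sup_right, h1, rfl, ?_⟩
      rw [h2, index_comap_of_surjective _ (QuotientGroup.mk'_surjective A)]
      exact ((Nat.Prime.coprime_iff_not_dvd hp).mpr S.not_dvd_index).pow_left _
    · exact ⟨A, ⊥, le_rfl, bot_inf_eq _, bot_sup_eq _,
        ((Nat.Prime.coprime_iff_not_dvd hp).mpr hd).pow_left _⟩
  obtain ⟨H, hH⟩ := S0051.result K₀ U ((map_subtype_le _).trans hAU) (by rwa [hK₀card]) (B ⊔ C₀)
    (sup_le (hBU ▸ le_sup_left) ((map_subtype_le _).trans hAU)) (by
      rw [eq_bot_iff]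
      rintro z ⟨hz, hzK⟩
      rw [sup_comm] at hz
      obtain ⟨c, hc, b, hb, rfl⟩ := mem_sup_of_normal_left.mp hz
      have hbA : b ∈ A := by
        have := mul_mem (inv_mem (map_subtype_le _ hc : c ∈ A)) (map_subtype_le _ hzK : c * b ∈ A)
        simpa using this
      have hb1 : b = 1 := mem_bot.mp (hBA.le ⟨hb, hbA⟩)
      subst hb1
      rw [mul_one] at hzK ⊢
      exact hCK.le ⟨hc, hzK⟩)
    (by rw [← hBU, ← hCsup]; ac_rfl)
  refine ⟨H, by rw [hH.index_eq_card, hK₀card], fun x hxH hxA hpx => ?_⟩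
  -- `H ∩ A` has order prime to `p`
  have hmul : (Nat.card K₀) * Nat.card (H ⊓ A : Subgroup G) ≤ Nat.card A := by
    rw [← Nat.card_prod]
    refine Nat.card_le_card_of_injective
      (fun z : K₀ × (H ⊓ A : Subgroup G) => (⟨z.1 * z.2, mul_mem (map_subtype_le _ z.1.2) z.2.2.2⟩ : A))
      fun z w e => ?_
    have := hH.1 (a₁ := (z.1, ⟨z.2.1, z.2.2.1⟩)) (a₂ := (w.1, ⟨w.2.1, w.2.2.1⟩))
      (congrArg Subtype.val e)
    simp only [Prod.mk.injEq, Subtype.mk.injEq] at this
    exact Prod.ext this.1 (Subtype.ext this.2)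
  have hge : Nat.card A ≤ (Nat.card K₀) * Nat.card (H ⊓ A : Subgroup G) := by
    rw [← Nat.card_prod]
    refine Nat.card_le_card_of_surjective
      (fun z : K₀ × (H ⊓ A : Subgroup G) => (⟨z.1 * z.2, mul_mem (map_subtype_le _ z.1.2) z.2.2.2⟩ : A))
      fun a => ?_
    obtain ⟨⟨k, hh⟩, e⟩ := hH.2 (a : G)
    simp only at e
    have hhA : (hh : G) ∈ A := by
      have := mul_mem (inv_mem (map_subtype_le _ k.2 : (k : G) ∈ A)) a.2
      rw [← e] at this; simpa using this
    exact ⟨⟨k, ⟨hh, hh.2, hhA⟩⟩, Subtype.ext e⟩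
  have hcard := le_antisymm hmul hge
  have hd : p ∣ Nat.card (H ⊓ A : Subgroup G) :=
    hpx.trans (by rw [← Subgroup.orderOf_mk x (show x ∈ H ⊓ A from ⟨hxH, hxA⟩)]; exact orderOf_dvd_natCard _)
  have : p ^ ((Nat.card A).factorization p + 1) ∣ Nat.card A := by
    conv_rhs => rw [← hcard]
    rw [hK₀card, pow_succ]; exact mul_dvd_mul_left _ hd
  exact Nat.pow_succ_factorization_not_dvd Nat.card_pos.ne' hp this

/-- Let `A` be an abelian normal subgroup of the finite group `G`. Then `A` has a complement in `G` if and only if, for every prime `p` dividing the index of `A`, there are a Sylow `p`-subgroup `S` of `G/A` and a subgroup `K` of `G` with `K ∩ A = 1` and `KA` equal to the preimage of `S` (that is, `A` has a complement in the preimage of a Sylow `p`-subgroup of `G/A`). -/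
theorem result {G : Type*} [Group G] [Finite G] (A : Subgroup G) [A.Normal] (hA : IsMulCommutative A) : (∃ K : Subgroup G, K.IsComplement' A) ↔ ∀ p : ℕ, p.Prime → p ∣ A.index → ∃ (S : Sylow p (G ⧸ A)) (K : Subgroup G), K ⊓ A = ⊥ ∧ K ⊔ A = (S : Subgroup (G ⧸ A)).comap (QuotientGroup.mk' A) := by
  classical
  constructor
  · rintro ⟨K, hK⟩ p hp -
    haveI := Fact.mk hp
    obtain ⟨S⟩ : Nonempty (Sylow p (G ⧸ A)) := inferInstance
    set U := (S : Subgroup (G ⧸ A)).comap (QuotientGroup.mk' A)
    have hAU : A ≤ U := fun x hx => by simp [U, (QuotientGroup.eq_one_iff x).mpr hx, one_mem]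
    refine ⟨S, K ⊓ U, ?_, le_antisymm (sup_le inf_le_right hAU) fun u hu => ?_⟩
    · rw [eq_bot_iff, ← hK.disjoint.eq_bot]
      exact fun x hx => ⟨hx.1.1, hx.2⟩
    · obtain ⟨⟨⟨k, hk⟩, ⟨a, ha⟩⟩, rfl⟩ := hK.2 u
      refine mul_mem (mem_sup_left ⟨hk, ?_⟩) (mem_sup_right ha)
      have := mul_mem hu (inv_mem (hAU ha))
      rw [mul_inv_cancel_right] at this
      exact this
  · intro h
    haveI := hA
    choose H hHi hHd using fun p : (Nat.card A).primeFactors =>
      exists_complement_component A h p.1 (Nat.prime_of_mem_primeFactors p.2)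
    refine ⟨⨅ p, H p, ?_⟩
    have hdis : Disjoint (⨅ p, H p) A := by
      rw [disjoint_def]
      intro x hx hxA
      by_contra hx1
      obtain ⟨q, hq, hqd⟩ := Nat.exists_prime_and_dvd (fun e => hx1 (orderOf_eq_one_iff.mp e))
      have hqA : q ∣ Nat.card A := hqd.trans (by
        rw [← Subgroup.orderOf_mk x hxA]; exact orderOf_dvd_natCard _)
      let q' : (Nat.card A).primeFactors := ⟨q, Nat.mem_primeFactors.mpr ⟨hq, hqA, Nat.card_pos.ne'⟩⟩
      exact hHd q' x (mem_iInf.mp hx q') hxA hqd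
    have hidx : (⨅ p, H p).index ≤ Nat.card A := by
      refine (Subgroup.index_iInf_le H).trans ?_
      rw [Finset.prod_congr rfl (fun p _ => hHi p),
        Finset.prod_coe_sort (Nat.card A).primeFactors (fun p => p ^ (Nat.card A).factorization p)]
      conv_rhs => rw [← Nat.prod_factorization_pow_eq_self (Nat.card_pos (α := A)).ne']
      exact le_rfl
    refine isComplement'_of_card_mul_and_disjoint (le_antisymm ?_ ?_) hdis
    · rw [← Nat.card_prod]
      exact Nat.card_le_card_of_injective (fun z : (⨅ p, H p : Subgroup G) × A => (z.1 : G) * z.2)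
        (Subgroup.mul_injective_of_disjoint hdis)
    · rw [← (⨅ p, H p).card_mul_index]
      exact Nat.mul_le_mul_left _ hidx

end Cfsg.Agent.S4217
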