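import Cfsg.Statements.S4218
import Cfsg.Agent.Cores.Constrained
import Cfsg.Agent.Cores.Residual
import Cfsg.Agent.Coprime.Centralize
import Cfsg.Agent.PGroups.Burnside

set_option autoImplicit false
open Cfsg

namespace Cfsg.Agent.S4218

open Subgroup Cfsg.Agent.Cores
open scoped commutatorElement

set_option linter.style.haveILetI false

theorem map_frattini_mulEquiv {A B : Type*} [Group A] [Group B] (e : A ≃* B) :
    (frattini A).map e.toMonoidHom = frattini B := by
  have h := OrderIso.map_radical e.mapSubgroup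
  exact h

/-- For a finite p-soluble group G and R = O_{p',p}(G): an element g centralizes the Frattini quotient of R/O_{p'}(G) (that is, for every x in R the commutator g x g⁻¹ x⁻¹ lies in the preimage of Φ(R/O_{p'}(G))) if and only if g lies in R. -/
theorem result {G : Type*} [Group G] [Finite G] {p : ℕ} [Fact p.Prime] (hG : Cfsg.IsPSolvable p G) (g : G) : (∀ x ∈ Cfsg.pPrimePCore p G, g * x * g⁻¹ * x⁻¹ ∈ ((frattini (↥(Cfsg.pPrimePCore p G) ⧸ (Cfsg.pPrimeCore p G).subgroupOf (Cfsg.pPrimePCore p G))).comap (QuotientGroup.mk' ((Cfsg.pPrimeCore p G).subgroupOf (Cfsg.pPrimePCore p G)))).map (Cfsg.pPrimePCore p G).subtype) ↔ g ∈ Cfsg.pPrimePCore p G := by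
  set R := pPrimePCore p G with hR
  set N := pPrimeCore p G with hN
  set π := QuotientGroup.mk' N with hπ
  set Q := pCore p (G ⧸ N) with hQ
  let θ : R →* Q := (π.comp R.subtype).codRestrict Q fun x => x.2
  have hθs : Function.Surjective θ := fun y => by
    obtain ⟨x, hx, hxy⟩ : (y : G ⧸ N) ∈ R.map π := by rw [map_pPrimePCore]; exact y.2
    exact ⟨⟨x, hx⟩, Subtype.ext hxy⟩
  have hθk : θ.ker = N.subgroupOf R := by
    ext x
    rw [MonoidHom.mem_ker, Subgroup.mem_subgroupOf, ← QuotientGroup.eq_one_iff, Subtype.ext_iff]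
    rfl
  let e : R ⧸ N.subgroupOf R ≃* Q := (QuotientGroup.quotientMulEquivOfEq hθk.symm).trans
    (QuotientGroup.quotientKerEquivOfSurjective θ hθs)
  set Φ := (frattini Q).map Q.subtype with hΦ
  have key : ∀ x : G, ∀ hx : x ∈ R,
      x ∈ ((frattini (R ⧸ N.subgroupOf R)).comap (QuotientGroup.mk' (N.subgroupOf R))).map R.subtype ↔
        π x ∈ Φ := by
    intro x hx
    have h1 : x ∈ ((frattini (R ⧸ N.subgroupOf R)).comap
        (QuotientGroup.mk' (N.subgroupOf R))).map R.subtype ↔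
        (QuotientGroup.mk (⟨x, hx⟩ : R) : R ⧸ N.subgroupOf R) ∈ frattini (R ⧸ N.subgroupOf R) := by
      constructor
      · rintro ⟨y, hy, rfl⟩; exact hy
      · exact fun h => ⟨⟨x, hx⟩, h, rfl⟩
    rw [h1, ← Subgroup.mem_map_iff_mem (f := e.toMonoidHom) e.injective
      (K := frattini (R ⧸ N.subgroupOf R))]
    change e.toMonoidHom _ ∈ (frattini (R ⧸ N.subgroupOf R)).map e.toMonoidHom ↔ _
    rw [map_frattini_mulEquiv, hΦ]
    exact (Subgroup.mem_map_iff_mem Q.subtype_injective).symm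
  haveI : R.Normal := pPrimePCore_normal
  haveI : Φ.Normal := inferInstance
  haveI : (Q.map (QuotientGroup.mk' Φ)).Normal :=
    (inferInstance : Q.Normal).map _ (QuotientGroup.mk'_surjective Φ)
  set K := (centralizer ((Q.map (QuotientGroup.mk' Φ) : Subgroup ((G ⧸ N) ⧸ Φ)) :
      Set ((G ⧸ N) ⧸ Φ))).comap (QuotientGroup.mk' Φ) with hK
  have hKmem : ∀ c, c ∈ K ↔ ∀ y ∈ Q, c * y * c⁻¹ * y⁻¹ ∈ Φ := by
    intro c
    rw [hK, Subgroup.mem_comap, mem_centralizer_iff]
    constructor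
    · intro h y hy
      rw [← QuotientGroup.eq_one_iff]
      have h1 := h _ ⟨y, hy, rfl⟩
      change QuotientGroup.mk' Φ (c * y * c⁻¹ * y⁻¹) = 1
      simp only [map_mul, map_inv]
      rw [← h1]; group
    · rintro h _ ⟨y, hy, rfl⟩
      have h1 : QuotientGroup.mk' Φ (c * y * c⁻¹ * y⁻¹) = 1 :=
        (QuotientGroup.eq_one_iff _).mpr (h y hy)
      simp only [map_mul, map_inv] at h1
      rw [mul_inv_eq_one, mul_inv_eq_iff_eq_mul] at h1
      exact h1.symm
  have hQc : centralizer (Q : Set (G ⧸ N)) ≤ Q :=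
    centralizer_pCore_le (isPSolvable_quotient hG N) pPrimeCore_quotient_pPrimeCore
  have hKQ : K ≤ Q := by
    haveI : K.Normal := inferInstance
    refine le_pCore (pResidual_eq_bot_iff.mp (le_bot_iff.mp (pResidual_le fun c hc => ?_)))
    rw [Subgroup.mem_bot]
    have hcop : (Nat.card (zpowers (c : G ⧸ N))).Coprime (Nat.card (frattini Q)) := by
      rw [Nat.card_zpowers, Subgroup.orderOf_coe]
      obtain ⟨k, hk⟩ := IsPGroup.iff_card.mp
        ((pCore_isPGroup (p := p) (G := G ⧸ N)).to_subgroup (frattini Q))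
      rw [hk]; exact hc.pow_right k
    have h1 : zpowers (c : G ⧸ N) ≤ centralizer (Q : Set (G ⧸ N)) := by
      refine Cfsg.Agent.Coprime.le_centralizer_of_frattini ?_ hcop ?_
      · exact le_normalizer_of_normal
      · intro a ha
        exact (hKmem a).mp (zpowers_le.mpr c.2 ha)
    have h2 : (c : G ⧸ N) ∈ Q := hQc (h1 (mem_zpowers _))
    obtain ⟨k, hk⟩ := isPGroup_iff_orderOf_dvd_pow.mp (pCore_isPGroup (p := p) (G := G ⧸ N)) ⟨_, h2⟩
    rw [Subgroup.orderOf_mk, Subgroup.orderOf_coe] at hk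
    exact orderOf_eq_one_iff.mp (Nat.eq_one_of_dvd_coprimes (hc.symm.pow_left k) hk dvd_rfl)
  constructor
  · intro h
    refine hKQ ((hKmem (π g)).mpr ?_)
    intro y hy
    obtain ⟨x, hx, rfl⟩ : y ∈ R.map π := by rw [map_pPrimePCore]; exact hy
    have h1 := (key _ (mul_mem ((inferInstance : R.Normal).conj_mem x hx g) (inv_mem hx))).mp (h x hx)
    simpa only [map_mul, map_inv] using h1
  · intro hg x hx
    rw [key _ (mul_mem (mul_mem (mul_mem hg hx) (inv_mem hg)) (inv_mem hx))]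
    simp only [map_mul, map_inv]
    refine ⟨⟨π g, hg⟩ * ⟨π x, hx⟩ * ⟨π g, hg⟩⁻¹ * ⟨π x, hx⟩⁻¹, ?_, rfl⟩
    exact Cfsg.Agent.PGroups.commutator_le_frattini (pCore_isPGroup (p := p) (G := G ⧸ N))
      (commutator_mem_commutator (Subgroup.mem_top _) (Subgroup.mem_top _))

end Cfsg.Agent.S4218
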