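import Cfsg.Statements.S4219


set_option autoImplicit false
open Cfsg

namespace Cfsg.Agent.S4219

/-- Let a finite group `G` act `t`-fold transitively on a finite set, let `H` be the stabilizer of `t` distinct points and `P` a Sylow `p`-subgroup of `H`. Then the normalizer of `P` in `G` is `t`-fold transitive on the fixed points of `P`: any `t` distinct fixed points of `P` can be carried to any other `t` distinct fixed points of `P` by an element normalizing `P`. -/
theorem result {G : Type*} [Group G] [Finite G] {α : Type*} [Fintype α] [MulAction G α] {t : ℕ} (hG : MulAction.IsMultiplyPretransitive G α t) (x : Fin t ↪ α) {p : ℕ} [Fact p.Prime] (P : Sylow p (MulAction.stabilizer G x)) (a b : Fin t ↪ α) (ha : ∀ i, a i ∈ MulAction.fixedPoints ((P : Subgroup (MulAction.stabilizer G x)).map (MulAction.stabilizer G x).subtype) α) (hb : ∀ i, b i ∈ MulAction.fixedPoints ((P : Subgroup (MulAction.stabilizer G x)).map (MulAction.stabilizer G x).subtype) α) : ∃ g ∈ Subgroup.normalizer ((((P : Subgroup (MulAction.stabilizer G x)).map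 (MulAction.stabilizer G x).subtype) : Subgroup G) : Set G), g • a = b := by
  obtain ⟨g, hg⟩ := hG.exists_smul_eq a b
  obtain ⟨k, hk⟩ := hG.exists_smul_eq a x
  let H := MulAction.stabilizer G x
  have hH : H = MulAction.stabilizer G x := rfl
  set P' := (P : Subgroup ↥(MulAction.stabilizer G x)).map (MulAction.stabilizer G x).subtype with hP'
  let A := MulAction.stabilizer G a
  have hA : A = MulAction.stabilizer G a := rfl
  let Q := P'.map (MulAut.conj g⁻¹).toMonoidHom
  have hfix : ∀ c : Fin t ↪ α, (∀ i, c i ∈ MulAction.fixedPoints P' α) →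
      P' ≤ MulAction.stabilizer G c := by
    intro c hc y hy
    rw [MulAction.mem_stabilizer_iff]
    ext i
    exact hc i ⟨y, hy⟩
  have hP'A : P' ≤ A := hfix a ha
  have hQA : Q ≤ A := by
    rintro _ ⟨y, hy, rfl⟩
    rw [hA, MulAction.mem_stabilizer_iff]
    have := MulAction.mem_stabilizer_iff.mp (hfix b hb hy)
    simp only [MulEquiv.coe_toMonoidHom, MulAut.conj_apply, inv_inv, mul_smul]
    rw [hg, this, ← hg, inv_smul_smul]
  have hcardA : Nat.card A = Nat.card H := by
    rw [hH, ← hk, MulAction.stabilizer_smul_eq_stabilizer_map_conj]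
    exact Nat.card_congr ((MulAction.stabilizer G a).equivMapOfInjective _ (MulAut.conj k).injective).toEquiv
  have hc1 : Nat.card P' = p ^ (Nat.card A).factorization p := by
    rw [hcardA, hP', ← Nat.card_congr ((P : Subgroup ↥(MulAction.stabilizer G x)).equivMapOfInjective _ (MulAction.stabilizer G x).subtype_injective).toEquiv]
    exact P.card_eq_multiplicity
  have hc2 : Nat.card Q = p ^ (Nat.card A).factorization p := by
    rw [← hc1]
    exact (Nat.card_congr (P'.equivMapOfInjective _ (MulAut.conj g⁻¹).injective).toEquiv).symm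
  let P1 : Sylow p A := Sylow.ofCard (P'.subgroupOf A)
    (by rw [Nat.card_congr (Subgroup.subgroupOfEquivOfLe hP'A).toEquiv, hc1])
  let Q1 : Sylow p A := Sylow.ofCard (Q.subgroupOf A)
    (by rw [Nat.card_congr (Subgroup.subgroupOfEquivOfLe hQA).toEquiv, hc2])
  obtain ⟨h, hh⟩ := MulAction.exists_smul_eq A P1 Q1
  have hconj : P'.map (MulAut.conj (h : G)).toMonoidHom = Q := by
    have h1 := congrArg (fun S : Sylow p A => (S : Subgroup A).map A.subtype) hh
    simp only [Sylow.coe_subgroup_smul] at h1
    rw [show ((P1 : Subgroup A)) = P'.subgroupOf A from rfl, show ((Q1 : Subgroup A)) = Q.subgroupOf A from rfl,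
      Subgroup.map_subgroupOf_eq_of_le hQA] at h1
    rw [← h1]
    ext y
    constructor
    · rintro ⟨z, hz, rfl⟩
      exact ⟨h * ⟨z, hP'A hz⟩ * h⁻¹, ⟨⟨z, hP'A hz⟩, hz, rfl⟩, rfl⟩
    · rintro ⟨_, ⟨w, hw, rfl⟩, rfl⟩
      exact ⟨w, hw, rfl⟩
  refine ⟨g * h, ?_, by rw [mul_smul, MulAction.mem_stabilizer_iff.mp h.2, hg]⟩
  have hall : P'.map (MulAut.conj (g * (h : G))).toMonoidHom = P' := by
    rw [map_mul, show (MulAut.conj g * MulAut.conj (h : G)).toMonoidHom =
      (MulAut.conj g).toMonoidHom.comp (MulAut.conj (h : G)).toMonoidHom from rfl, ← Subgroup.map_map, hconj]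
    rw [Subgroup.map_map]
    have : (MulAut.conj g).toMonoidHom.comp (MulAut.conj g⁻¹).toMonoidHom = MonoidHom.id G := by
      ext y; simp [mul_assoc]
    rw [this, Subgroup.map_id]
  refine Subgroup.mem_normalizer_iff.mpr fun y => ?_
  have := Subgroup.mem_map_equiv (f := MulAut.conj (g * (h : G))) (K := P') (x := g * h * y * (g * h)⁻¹)
  rw [show P'.map (MulAut.conj (g * (h : G))).toMonoidHom = P' from hall] at this
  rw [this]
  have e : (MulAut.conj (g * (h : G))).symm (g * h * y * (g * h)⁻¹) = y := by
    rw [MulEquiv.symm_apply_eq]; simp [mul_assoc]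
  rw [e]

end Cfsg.Agent.S4219
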