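import Cfsg.Statements.S4220
import Mathlib
import Cfsg.Agent.H77.JordanTools

/-!
# Jordan's transitivity bound for degree `k p + r`
-/

set_option autoImplicit false
set_option linter.style.haveILetI false
open Cfsg

namespace Cfsg.Agent.S4220

open Equiv Equiv.Perm MulAction
open scoped commutatorElement

section PermLemmas

variable {β : Type*} [Fintype β] [DecidableEq β] {X : Subgroup (Perm β)}

theorem small_element (hn : X.Normal) (hX : X ≠ ⊥) (h3 : 3 ≤ Fintype.card β) :
    (∃ a b c : β, a ≠ b ∧ a ≠ c ∧ b ≠ c ∧ swap a b * swap a c ∈ X) ∨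
    (∃ a b c d : β, a ≠ b ∧ a ≠ c ∧ a ≠ d ∧ b ≠ c ∧ b ≠ d ∧ c ≠ d ∧ swap a b * swap c d ∈ X) := by
  obtain ⟨σ, hσ, hσ1⟩ : ∃ σ ∈ X, σ ≠ 1 := by
    by_contra h
    push Not at h
    exact hX (eq_bot_iff.2 fun σ hσ => Subgroup.mem_bot.2 (h σ hσ))
  obtain ⟨a, ha⟩ : ∃ a, σ a ≠ a := by
    by_contra h
    push Not at h
    exact hσ1 (Equiv.ext h)
  obtain ⟨c, -, hc⟩ : ∃ c ∈ (Finset.univ : Finset β), c ∉ ({a, σ a} : Finset β) :=
    Finset.exists_mem_notMem_of_card_lt_card (lt_of_le_of_lt Finset.card_le_two (by rw [Finset.card_univ]; omega))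
  simp only [Finset.mem_insert, Finset.mem_singleton, not_or] at hc
  obtain ⟨hca, hcb⟩ := hc
  have hmem : swap (σ a) (σ c) * swap a c ∈ X := by
    have h : swap (σ a) (σ c) * swap a c = σ * (swap a c * σ⁻¹ * (swap a c)⁻¹) := by
      rw [swap_apply_apply, swap_inv]; group
    rw [h]
    exact mul_mem hσ (hn.conj_mem _ (inv_mem hσ) _)
  have hne : σ c ≠ σ a := fun h => hca (σ.injective h)
  by_cases h1 : σ c = a
  · left
    refine ⟨a, σ a, c, Ne.symm ha, Ne.symm hca, Ne.symm hcb, ?_⟩
    rw [h1, swap_comm (σ a) a] at hmem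
    exact hmem
  by_cases h2 : σ c = c
  · left
    refine ⟨c, σ a, a, hcb, hca, ha, ?_⟩
    rw [h2, swap_comm (σ a) c, swap_comm a c] at hmem
    exact hmem
  · exact Or.inr ⟨σ a, σ c, a, c, Ne.symm hne, ha, Ne.symm hcb, h1, h2, Ne.symm hca, hmem⟩

theorem exists_double (hn : X.Normal) (hX : X ≠ ⊥) (h4 : 4 ≤ Fintype.card β) :
    ∃ a b c d : β, a ≠ b ∧ a ≠ c ∧ a ≠ d ∧ b ≠ c ∧ b ≠ d ∧ c ≠ d ∧ swap a b * swap c d ∈ X := by
  rcases small_element hn hX (by omega) with ⟨a, b, c, hab, hac, hbc, hmem⟩ | h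
  swap
  · exact h
  obtain ⟨d, -, hd⟩ : ∃ d ∈ (Finset.univ : Finset β), d ∉ ({a, b, c} : Finset β) :=
    Finset.exists_mem_notMem_of_card_lt_card (lt_of_le_of_lt Finset.card_le_three (by rw [Finset.card_univ]; omega))
  simp only [Finset.mem_insert, Finset.mem_singleton, not_or] at hd
  obtain ⟨hda, hdb, hdc⟩ := hd
  have h' : swap a b * swap a d ∈ X := by
    have e : swap a b * swap a d = swap c d * (swap a b * swap a c) * (swap c d)⁻¹ := by
      rw [show swap c d * (swap a b * swap a c) * (swap c d)⁻¹ =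
          (swap c d * swap a b * (swap c d)⁻¹) * (swap c d * swap a c * (swap c d)⁻¹) by group,
        ← swap_apply_apply, ← swap_apply_apply, swap_apply_left, swap_apply_of_ne_of_ne hac (Ne.symm hda),
        swap_apply_of_ne_of_ne hbc (Ne.symm hdb)]
    rw [e]
    exact hn.conj_mem _ hmem _
  refine ⟨a, d, b, c, Ne.symm hda, hab, hac, hdb, hdc, hbc, ?_⟩
  have e : swap a d * swap b c = (swap a b * swap a c) * (swap a b * swap a d) := by
    ext y
    simp only [mul_apply, swap_apply_def]
    split_ifs <;> simp_all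
  rw [e]
  exact mul_mem hmem h'

theorem eq_bot_of_commutative (hn : X.Normal) (h5 : 5 ≤ Fintype.card β)
    (hcomm : ∀ x ∈ X, ∀ y ∈ X, x * y = y * x) : X = ⊥ := by
  by_contra hX
  obtain ⟨a, b, c, d, hab, hac, had, hbc, hbd, hcd, hmem⟩ := exists_double hn hX (by omega)
  obtain ⟨e, -, he⟩ : ∃ e ∈ (Finset.univ : Finset β), e ∉ ({a, b, c, d} : Finset β) :=
    Finset.exists_mem_notMem_of_card_lt_card (lt_of_le_of_lt Finset.card_le_four (by rw [Finset.card_univ]; omega))
  simp only [Finset.mem_insert, Finset.mem_singleton, not_or] at he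
  obtain ⟨hea, heb, hec, hed⟩ := he
  have h' : swap a b * swap c e ∈ X := by
    have h := hn.conj_mem _ hmem (swap d e)
    rw [show swap d e * (swap a b * swap c d) * (swap d e)⁻¹ =
          (swap d e * swap a b * (swap d e)⁻¹) * (swap d e * swap c d * (swap d e)⁻¹) by group,
      ← swap_apply_apply, ← swap_apply_apply, swap_apply_left, swap_apply_of_ne_of_ne had (Ne.symm hea),
      swap_apply_of_ne_of_ne hbd (Ne.symm heb), swap_apply_of_ne_of_ne hcd (Ne.symm hec)] at h
    exact h
  have h := congrArg (fun f : Perm β => f c) (hcomm _ hmem _ h')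
  simp only [mul_apply, swap_apply_left] at h
  rw [swap_apply_of_ne_of_ne hea heb, swap_apply_of_ne_of_ne hec hed, swap_apply_of_ne_of_ne hea heb,
    swap_apply_of_ne_of_ne (Ne.symm had) (Ne.symm hbd), swap_apply_of_ne_of_ne (Ne.symm hcd) (Ne.symm hed),
    swap_apply_of_ne_of_ne (Ne.symm had) (Ne.symm hbd)] at h
  exact hed h

theorem eq_bot_of_central (h3 : 3 ≤ Fintype.card β) (hcomm : ∀ x ∈ X, ∀ y : Perm β, x * y = y * x) :
    X = ⊥ := by
  rw [eq_bot_iff]
  intro σ hσ
  rw [Subgroup.mem_bot]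
  by_contra hσ1
  obtain ⟨a, ha⟩ : ∃ a, σ a ≠ a := by
    by_contra h
    push Not at h
    exact hσ1 (Equiv.ext h)
  obtain ⟨c, -, hc⟩ : ∃ c ∈ (Finset.univ : Finset β), c ∉ ({a, σ a} : Finset β) :=
    Finset.exists_mem_notMem_of_card_lt_card (lt_of_le_of_lt Finset.card_le_two (by rw [Finset.card_univ]; omega))
  simp only [Finset.mem_insert, Finset.mem_singleton, not_or] at hc
  have h := congrArg (fun f : Perm β => f a) (hcomm σ hσ (swap (σ a) c))
  simp only [mul_apply, swap_apply_left] at h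
  rw [swap_apply_of_ne_of_ne (Ne.symm ha) (Ne.symm hc.1)] at h
  exact hc.2 h.symm

end PermLemmas

section Orbits

variable {α : Type*} [Fintype α] [DecidableEq α] {P : Subgroup (Perm α)} {p : ℕ} [hp : Fact p.Prime]

/-- The orbit as a finite set. -/
noncomputable def orb (P : Subgroup (Perm α)) (x : α) : Finset α := by
  classical exact Finset.univ.filter (fun y => y ∈ orbit P x)

theorem mem_orb {x y : α} : y ∈ orb P x ↔ ∃ u ∈ P, u x = y := by
  classical
  simp only [orb, Finset.mem_filter, Finset.mem_univ, true_and, mem_orbit_iff]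
  exact ⟨fun ⟨u, hu⟩ => ⟨u, u.2, hu⟩, fun ⟨u, hu, h⟩ => ⟨⟨u, hu⟩, h⟩⟩

theorem self_mem_orb (x : α) : x ∈ orb P x := mem_orb.2 ⟨1, one_mem P, rfl⟩

theorem apply_mem_orb {x y : α} {u : Perm α} (hu : u ∈ P) (hy : y ∈ orb P x) : u y ∈ orb P x := by
  obtain ⟨v, hv, rfl⟩ := mem_orb.1 hy
  exact mem_orb.2 ⟨u * v, mul_mem hu hv, rfl⟩

theorem orb_eq {x y : α} (hy : y ∈ orb P x) : orb P y = orb P x := by
  obtain ⟨v, hv, rfl⟩ := mem_orb.1 hy
  ext z
  refine ⟨fun h => ?_, fun h => ?_⟩
  · obtain ⟨w, hw, rfl⟩ := mem_orb.1 h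
    exact mem_orb.2 ⟨w * v, mul_mem hw hv, rfl⟩
  · obtain ⟨w, hw, rfl⟩ := mem_orb.1 h
    exact mem_orb.2 ⟨w * v⁻¹, mul_mem hw (inv_mem hv), by simp⟩

theorem card_orb (x : α) : (orb P x).card = Nat.card (orbit P x) := by
  classical
  rw [Nat.card_eq_fintype_card, orb, ← Fintype.card_coe]
  exact Fintype.card_congr (Equiv.subtypeEquivRight fun y => by simp)

/-- Two elements of `P` agreeing on an orbit have agreeing powers there. -/
theorem pow_agree {x : α} {f g : Perm α} (hg : g ∈ P) (h : ∀ y ∈ orb P x, f y = g y) :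
    ∀ (i : ℕ), ∀ y ∈ orb P x, (f ^ i) y = (g ^ i) y := by
  intro i
  induction i with
  | zero => intro y _; simp
  | succ i ih =>
    intro y hy
    rw [pow_succ', pow_succ', mul_apply, mul_apply, ih y hy]
    exact h _ (apply_mem_orb (pow_mem hg i) hy)

variable (hP : IsPGroup p P)

include hP in
theorem orbit_facts {x : α} (hx : (orb P x).card = p) :
    (∀ u ∈ P, u x = x → ∀ y ∈ orb P x, u y = y) ∧
    (∀ u ∈ P, ∀ y ∈ orb P x, (u ^ p) y = y) ∧
    ∃ u₀ ∈ P, u₀ x ≠ x ∧ ∀ u ∈ P, ∃ i : ℕ, ∀ y ∈ orb P x, u y = (u₀ ^ i) y := by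
  classical
  set H := stabilizer P x with hH
  have hidx : H.index = p := by
    rw [hH, index_stabilizer, ← Nat.card_coe_set_eq, ← card_orb, hx]
  have hn : H.Normal := by
    apply Subgroup.normal_of_index_eq_minFac_card
    obtain ⟨n, hn⟩ := hP.exists_card_eq
    have hn0 : n ≠ 0 := by
      rintro rfl
      have := H.index_dvd_card
      rw [hidx, hn, pow_zero] at this
      exact hp.out.not_dvd_one this
    rw [hidx, hn, hp.out.pow_minFac hn0]
  have hfix : ∀ u ∈ P, u x = x → ∀ y ∈ orb P x, u y = y := by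
    intro u hu hux y hy
    obtain ⟨v, hv, rfl⟩ := mem_orb.1 hy
    have hmem : (⟨u, hu⟩ : P) ∈ H := hux
    have h := hn.conj_mem _ hmem (⟨v, hv⟩ : P)⁻¹
    have h' : (v⁻¹ * u * v⁻¹⁻¹) x = x := h
    rw [inv_inv, mul_apply, mul_apply] at h'
    calc u (v x) = v (v⁻¹ (u (v x))) := by simp
      _ = v x := by rw [h']
  refine ⟨hfix, fun u hu => ?_, ?_⟩
  · have h : (⟨u, hu⟩ : P) ^ H.index ∈ H := H.pow_index_mem _
    rw [hidx] at h
    exact hfix _ (pow_mem hu p) h
  obtain ⟨z, hz, hzx⟩ : ∃ z ∈ orb P x, z ≠ x :=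
    Finset.exists_mem_ne (by rw [hx]; exact hp.out.one_lt) x
  obtain ⟨u₀, hu₀, rfl⟩ := mem_orb.1 hz
  refine ⟨u₀, hu₀, hzx, fun u hu => ?_⟩
  set u₀' : P := ⟨u₀, hu₀⟩ with hu₀'
  have htop : Subgroup.zpowers u₀' ⊔ H = ⊤ := by
    have hd := Subgroup.index_dvd_of_le (le_sup_right : H ≤ Subgroup.zpowers u₀' ⊔ H)
    rw [hidx] at hd
    rcases (Nat.dvd_prime hp.out).1 hd with h | h
    · exact Subgroup.index_eq_one.1 h
    · exfalso
      apply hzx
      have hle : H ≤ Subgroup.zpowers u₀' ⊔ H := le_sup_right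
      have heq : H = Subgroup.zpowers u₀' ⊔ H := by
        refine Subgroup.eq_of_le_of_card_ge hle (le_of_eq ?_)
        refine Nat.eq_of_mul_eq_mul_right hp.out.pos ?_
        conv_lhs => rw [← h, Subgroup.card_mul_index]
        conv_rhs => rw [← hidx, Subgroup.card_mul_index]
      have : u₀' ∈ H := by rw [heq]; exact Subgroup.mem_sup_left (Subgroup.mem_zpowers u₀')
      exact this
  have hmem : (⟨u, hu⟩ : P) ∈ Subgroup.zpowers u₀' ⊔ H := by rw [htop]; exact Subgroup.mem_top _
  obtain ⟨a, ha, b, hb, hab⟩ := Subgroup.mem_sup_of_normal_right.1 hmem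
  rw [← mem_powers_iff_mem_zpowers] at ha
  obtain ⟨i, rfl⟩ := ha
  refine ⟨i, fun y hy => ?_⟩
  have he : u = (u₀ ^ i) * (b : Perm α) := (congrArg Subtype.val hab).symm
  rw [he, mul_apply, hfix _ b.2 hb y hy]

include hP in
/-- The exponent of a normalising element on a preserved orbit. -/
theorem exists_exponent {x : α} (hx : (orb P x).card = p) {m : Perm α}
    (hm : m ∈ Subgroup.normalizer (P : Set (Perm α))) (hmx : ∀ y ∈ orb P x, m⁻¹ y ∈ orb P x) :
    ∃ a : ℕ, ∀ u ∈ P, ∀ y ∈ orb P x, (m * u * m⁻¹) y = (u ^ a) y := by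
  obtain ⟨-, -, u₀, hu₀, -, hgen⟩ := orbit_facts hP hx
  have hg : m * u₀ * m⁻¹ ∈ P := (Subgroup.mem_normalizer_iff.1 hm u₀).1 hu₀
  obtain ⟨a, ha⟩ := hgen _ hg
  refine ⟨a, fun u hu y hy => ?_⟩
  obtain ⟨i, hi⟩ := hgen u hu
  rw [mul_apply, mul_apply, hi _ (hmx y hy), ← mul_apply, ← mul_apply, ← conj_pow,
    pow_agree (pow_mem hu₀ a) ha i y hy, ← pow_mul, mul_comm, pow_mul,
    ← pow_agree (pow_mem hu₀ i) hi a y hy]

end Orbits

section Core

variable {α : Type*} [Fintype α] [DecidableEq α] {G P : Subgroup (Perm α)} {Φ : Finset α} {p k r : ℕ}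

theorem notMem_of_mem_orb (hPfix : ∀ u ∈ P, ∀ x ∈ Φ, u x = x) {x y : α} (hx : x ∉ Φ)
    (hy : y ∈ orb P x) : y ∉ Φ := by
  obtain ⟨v, hv, rfl⟩ := mem_orb.1 hy
  intro h
  have h' := hPfix _ (inv_mem hv) _ h
  rw [← mul_apply, inv_mul_cancel, one_apply] at h'
  exact hx (h'.symm ▸ h)

theorem core [hp : Fact p.Prime] (hG : IsMultiplyPretransitive G α (r + 1))
    (hn : Fintype.card α = k * p + r) (hk : 1 ≤ k) (hpk : k < p) (hrk : k < r) (hr3 : 3 ≤ r)
    (hΦ : Φ.card = r) (hPG : P ≤ G) (hPfix : ∀ u ∈ P, ∀ x ∈ Φ, u x = x) (hP : IsPGroup p P)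
    (horb : ∀ x ∉ Φ, (orb P x).card = p)
    (hFrat : ∀ σ : Perm {x // x ∈ Φ}, ∃ n ∈ G, n ∈ Subgroup.normalizer (P : Set (Perm α)) ∧
      ∀ x : {x // x ∈ Φ}, n x = σ x) : alternatingGroup α ≤ G := by
  classical
  have hp2 := hp.out.two_le
  have hkp : p ≤ k * p := Nat.le_mul_of_pos_left p hk
  haveI := hG
  haveI : IsMultiplyPretransitive G α 2 :=
    MulAction.isMultiplyPretransitive_of_le (n := r + 1) (by omega)
      (by rw [Nat.card_eq_fintype_card]; omega)
  have hprim : IsPreprimitive G α := isPreprimitive_of_is_two_pretransitive inferInstance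
  -- the nontrivial orbits
  set Orb : Finset (Finset α) := Φᶜ.image (orb P) with hOrb
  have horb_mem : ∀ o ∈ Orb, ∃ x, x ∉ Φ ∧ o = orb P x := by
    intro o ho
    obtain ⟨x, hx, rfl⟩ := Finset.mem_image.1 ho
    exact ⟨x, Finset.mem_compl.1 hx, rfl⟩
  have hmemOrb : ∀ x ∉ Φ, orb P x ∈ Orb := fun x hx =>
    Finset.mem_image_of_mem _ (Finset.mem_compl.2 hx)
  have hOcard : Orb.card = k := by
    have h : ∀ o ∈ Orb, (Φᶜ.filter fun x => orb P x = o).card = p := by
      intro o ho
      obtain ⟨x, hx, rfl⟩ := horb_mem o ho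
      rw [← horb x hx]
      congr 1
      ext y
      simp only [Finset.mem_filter, Finset.mem_compl]
      exact ⟨fun ⟨_, h⟩ => h ▸ self_mem_orb y, fun h => ⟨notMem_of_mem_orb hPfix hx h, orb_eq h⟩⟩
    have h2 := Finset.card_eq_sum_card_image (orb P) Φᶜ
    rw [Finset.sum_congr rfl h, Finset.sum_const, smul_eq_mul, Finset.card_compl, hΦ, hn,
      Nat.add_sub_cancel] at h2
    exact (Nat.eq_of_mul_eq_mul_right hp.out.pos h2).symm
  have hfixp : ∀ u ∈ P, u ^ p = 1 := by
    intro u hu
    ext y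
    by_cases hy : y ∈ Φ
    · exact hPfix _ (pow_mem hu p) y hy
    · exact (orbit_facts hP (horb y hy)).2.1 u hu y (self_mem_orb y)
  have hext : ∀ u ∈ P, ∀ v ∈ P, (∀ o ∈ Orb, ∀ y ∈ o, u y = v y) → u = v := by
    intro u hu v hv h
    ext y
    by_cases hy : y ∈ Φ
    · rw [hPfix u hu y hy, hPfix v hv y hy]
    · exact h _ (hmemOrb y hy) y (self_mem_orb y)
  -- a `p`-cycle finishes the proof
  by_cases hcyc : ∃ u ∈ P, u ≠ 1 ∧ ∃ o ∈ Orb, ∀ y ∉ o, u y = y
  · obtain ⟨u, hu, hu1, o, ho, hfix⟩ := hcyc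
    obtain ⟨x, hx, rfl⟩ := horb_mem o ho
    have hord : orderOf u = p := orderOf_eq_prime (hfixp u hu) hu1
    have hsub : u.support ⊆ orb P x := fun y hy => by
      by_contra hy'
      exact mem_support.1 hy (hfix y hy')
    have hle : u.support.card ≤ p := (Finset.card_le_card hsub).trans_eq (horb x hx)
    have hc : u.IsCycle := isCycle_of_prime_order (by rw [hord]; exact hp.out) (by rw [hord]; omega)
    have hsupp : u.support.card = p := hc.orderOf.symm.trans hord
    exact Cfsg.Agent.S0713.result G hprim hp.out (by omega) (by omega) hc hsupp (hPG hu)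
  push Not at hcyc
  have hH : ∀ u ∈ P, ∀ o ∈ Orb, (∀ o' ∈ Orb, o' ≠ o → ∀ y ∈ o', u y = y) → u = 1 := by
    intro u hu o ho h
    by_contra hu1
    obtain ⟨y, hy, hy'⟩ := hcyc u hu hu1 o ho
    by_cases hyΦ : y ∈ Φ
    · exact hy' (hPfix u hu y hyΦ)
    · exact hy' (h _ (hmemOrb y hyΦ) (fun e => hy (e ▸ self_mem_orb y)) y (self_mem_orb y))
  obtain ⟨x₀, hx₀⟩ : ∃ x₀, x₀ ∉ Φ := by
    by_contra h
    push Not at h
    have := Finset.card_le_card (fun x (_ : x ∈ (Finset.univ : Finset α)) => h x)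
    rw [Finset.card_univ, hΦ, hn] at this
    omega
  obtain ⟨u₁, hu₁, hu₁x⟩ : ∃ u ∈ P, u x₀ ≠ x₀ := by
    obtain ⟨-, -, u, hu, h, -⟩ := orbit_facts hP (horb x₀ hx₀)
    exact ⟨u, hu, h⟩
  -- `k ≥ 2`
  have hk2 : 2 ≤ k := by
    by_contra hk'
    have hk1 : Orb.card = 1 := by omega
    obtain ⟨o, ho⟩ := Finset.card_eq_one.1 hk1
    refine hu₁x ?_
    rw [hH u₁ hu₁ o (ho ▸ Finset.mem_singleton_self o)
      (fun o' ho' hne => absurd (Finset.mem_singleton.1 (ho ▸ ho')) hne), one_apply]
  haveI h4G : IsMultiplyPretransitive G α 4 :=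
    MulAction.isMultiplyPretransitive_of_le (n := r + 1) (by omega)
      (by rw [Nat.card_eq_fintype_card]; omega)
  -- degree nine
  by_cases h9 : r = 3 ∧ p = 3
  · obtain ⟨rfl, rfl⟩ := h9
    have hk' : k = 2 := by omega
    subst hk'
    refine H77.alternatingGroup_le_of_nine (by omega) h4G (hPG hu₁) (hfixp u₁ hu₁) ?_
    have hs : u₁.support = Φᶜ := by
      ext y
      rw [mem_support, Finset.mem_compl]
      refine ⟨fun h hy => h (hPfix u₁ hu₁ y hy), fun hy h => ?_⟩
      obtain ⟨o₁, o₂, hne, he⟩ := Finset.card_eq_two.1 hOcard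
      have hfy : ∀ z ∈ orb P y, u₁ z = z := (orbit_facts hP (horb y hy)).1 u₁ hu₁ h
      have hyo := hmemOrb y hy
      rw [he, Finset.mem_insert, Finset.mem_singleton] at hyo
      have h1 : u₁ = 1 := by
        rcases hyo with hyo | hyo
        · refine hH u₁ hu₁ o₂ (by rw [he]; simp) fun o' ho' hne' z hz => ?_
          rw [he, Finset.mem_insert, Finset.mem_singleton] at ho'
          exact hfy z (hyo ▸ (ho'.resolve_right hne') ▸ hz)
        · refine hH u₁ hu₁ o₁ (by rw [he]; simp) fun o' ho' hne' z hz => ?_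
          rw [he, Finset.mem_insert, Finset.mem_singleton] at ho'
          exact hfy z (hyo ▸ (ho'.resolve_left hne') ▸ hz)
      exact hu₁x (by rw [h1, one_apply])
    rw [hs, Finset.card_compl, hΦ]
    omega
  -- the normaliser
  set Nsub : Subgroup (Perm α) := G ⊓ Subgroup.normalizer (P : Set (Perm α)) with hNsub
  have hNconj : ∀ n : Nsub, ∀ u ∈ P, (n : Perm α) * u * (n : Perm α)⁻¹ ∈ P := fun n u hu =>
    (Subgroup.mem_normalizer_iff.1 n.2.2 u).1 hu
  have hNΦ : ∀ (n : Nsub) (x : α), x ∈ Φ → (n : Perm α) x ∈ Φ := by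
    intro n x hx
    by_contra h
    obtain ⟨-, -, u, hu, hne, -⟩ := orbit_facts hP (horb _ h)
    apply hne
    have h' := hPfix _ (hNconj n⁻¹ u hu) x hx
    simp only [InvMemClass.coe_inv, inv_inv, mul_apply] at h'
    calc u ((n : Perm α) x) = (n : Perm α) ((n : Perm α)⁻¹ (u ((n : Perm α) x))) := by simp
      _ = (n : Perm α) x := by rw [h']
  have hNΦiff : ∀ (n : Nsub) (x : α), (n : Perm α) x ∈ Φ ↔ x ∈ Φ := fun n x =>
    ⟨fun h => by simpa using hNΦ n⁻¹ _ h, hNΦ n x⟩
  let res : Nsub →* Perm {x // x ∈ Φ} :=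
    { toFun := fun n => (n : Perm α).subtypePerm (fun x => hNΦiff n x)
      map_one' := by ext; rfl
      map_mul' := fun a b => by ext; rfl }
  have hres : ∀ (n : Nsub) (x : {x // x ∈ Φ}), ((res n x : {x // x ∈ Φ}) : α) = (n : Perm α) x :=
    fun n x => rfl
  have himg : ∀ (n : Nsub) (x : α), (orb P x).image (n : Perm α) = orb P ((n : Perm α) x) := by
    intro n x
    ext y
    simp only [Finset.mem_image, mem_orb]
    constructor
    · rintro ⟨z, ⟨u, hu, rfl⟩, rfl⟩
      exact ⟨_, hNconj n u hu, by simp⟩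
    · rintro ⟨u, hu, rfl⟩
      refine ⟨_, ⟨_, hNconj n⁻¹ u hu, rfl⟩, ?_⟩
      simp
  have hOrbmap : ∀ (n : Nsub) (o : {o // o ∈ Orb}), o.1.image (n : Perm α) ∈ Orb := by
    intro n o
    obtain ⟨x, hx, he⟩ := horb_mem o.1 o.2
    rw [he, himg]
    exact hmemOrb _ fun h => hx ((hNΦiff n x).1 h)
  let π : Nsub →* Perm {o // o ∈ Orb} :=
    MonoidHom.mk' (fun n =>
      { toFun := fun o => ⟨o.1.image (n : Perm α), hOrbmap n o⟩
        invFun := fun o => ⟨o.1.image ((n⁻¹ : Nsub) : Perm α), hOrbmap n⁻¹ o⟩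
        left_inv := fun o => Subtype.ext (by
          show (o.1.image _).image _ = o.1
          rw [Finset.image_image]; ext; simp)
        right_inv := fun o => Subtype.ext (by
          show (o.1.image _).image _ = o.1
          rw [Finset.image_image]; ext; simp) })
      (fun a b => by
        refine Equiv.ext fun o => Subtype.ext ?_
        show o.1.image ((a * b : Nsub) : Perm α) = (o.1.image (b : Perm α)).image (a : Perm α)
        rw [Finset.image_image]; rfl)
  set M : Subgroup Nsub := π.ker with hM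
  have hMorb : ∀ m ∈ M, ∀ x ∉ Φ, ∀ y ∈ orb P x, (m : Perm α) y ∈ orb P x := by
    intro m hm x hx y hy
    have h := congrArg (fun f : Perm {o // o ∈ Orb} => (f ⟨_, hmemOrb x hx⟩).1) (MonoidHom.mem_ker.1 hm)
    have h' : (orb P x).image (m : Perm α) = orb P x := h
    rw [← h']
    exact Finset.mem_image_of_mem _ hy
  have hexp : ∀ m ∈ M, ∀ x ∉ Φ, ∃ a : ℕ, ∀ u ∈ P, ∀ y ∈ orb P x,
      ((m : Perm α) * u * (m : Perm α)⁻¹) y = (u ^ a) y := by
    intro m hm x hx
    exact exists_exponent hP (horb x hx) m.2.2 fun y hy => by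
      simpa using hMorb m⁻¹ (inv_mem hm) x hx y hy
  set Z : Subgroup Nsub := (Subgroup.centralizer (P : Set (Perm α))).subgroupOf Nsub with hZ
  haveI hZn : Z.Normal := ⟨fun c hc n => by
    rw [hZ, Subgroup.mem_subgroupOf, Subgroup.mem_centralizer_iff] at hc ⊢
    intro u hu
    have h := hc _ (hNconj n⁻¹ u hu)
    simp only [InvMemClass.coe_inv, inv_inv] at h
    simp only [Subgroup.coe_mul, InvMemClass.coe_inv]
    calc u * ((n : Perm α) * c * (n : Perm α)⁻¹)
        = (n : Perm α) * (((n : Perm α)⁻¹ * u * n) * c) * (n : Perm α)⁻¹ := by group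
      _ = _ := by rw [h]; group⟩
  set C : Subgroup Nsub := M ⊓ Z with hC
  have hsurj : Function.Surjective res := by
    intro σ
    obtain ⟨n, hnG, hnN, h⟩ := hFrat σ
    exact ⟨⟨n, hnG, hnN⟩, Equiv.ext fun x => Subtype.ext (h x)⟩
  set Y := C.map res with hY
  have hYn : Y.Normal := Subgroup.Normal.map inferInstance res hsurj
  set X := M.map res with hX
  have hXn : X.Normal := Subgroup.Normal.map inferInstance res hsurj
  have hΦcard : Fintype.card {x // x ∈ Φ} = r := by rw [Fintype.card_coe, hΦ]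
  have hXne : X ≠ ⊥ := by
    intro h
    have hle : M ≤ res.ker := (Subgroup.map_eq_bot_iff _).1 h
    have h1 := Subgroup.index_dvd_of_le hle
    rw [hM, Subgroup.index_ker, Subgroup.index_ker] at h1
    have h2 : Nat.card res.range = r.factorial := by
      rw [MonoidHom.range_eq_top.2 hsurj, Subgroup.card_top, Nat.card_perm, Nat.card_eq_fintype_card, hΦcard]
    have h3 : Nat.card π.range ≤ k.factorial := by
      refine (Subgroup.card_le_card_group _).trans_eq ?_
      rw [Nat.card_perm, Nat.card_eq_fintype_card, Fintype.card_coe, hOcard]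
    rw [h2] at h1
    have h4 := (Nat.le_of_dvd Nat.card_pos h1).trans h3
    exact (not_le.2 ((Nat.factorial_lt hk).2 hrk)) h4
  by_cases hYne : Y = ⊥
  · -- the image of `M` is central or abelian: impossible
    exfalso
    have hkill : ∀ c ∈ C, res c = 1 := fun c hc => by
      have h : res c ∈ Y := ⟨c, hc, rfl⟩
      rw [hYne] at h
      exact Subgroup.mem_bot.1 h
    by_cases hr5 : 5 ≤ r
    · refine hXne (eq_bot_of_commutative hXn (by omega) ?_)
      rintro _ ⟨m, hm, rfl⟩ _ ⟨m', hm', rfl⟩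
      rw [← commutatorElement_eq_one_iff_mul_comm, ← map_commutatorElement]
      refine hkill _ ⟨?_, ?_⟩
      · show ⁅m, m'⁆ ∈ M
        rw [commutatorElement_def]
        exact mul_mem (mul_mem (mul_mem hm hm') (inv_mem hm)) (inv_mem hm')
      · show ⁅m, m'⁆ ∈ Z
        rw [hZ, Subgroup.mem_subgroupOf, Subgroup.mem_centralizer_iff]
        intro u hu
        simp only [commutatorElement_def, Subgroup.coe_mul, InvMemClass.coe_inv]
        set A := (m : Perm α) with hA
        set B := (m' : Perm α) with hB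
        have hswap : ∀ v ∈ P, A * B * v * (A * B)⁻¹ = B * A * v * (B * A)⁻¹ := by
          intro v hv
          have hl : A * B * v * (A * B)⁻¹ ∈ P := hNconj (m * m') v hv
          have hr : B * A * v * (B * A)⁻¹ ∈ P := hNconj (m' * m) v hv
          refine hext _ hl _ hr fun o ho y hy => ?_
          obtain ⟨x, hx, rfl⟩ := horb_mem o ho
          obtain ⟨a, ha⟩ := hexp m hm x hx
          obtain ⟨b, hb⟩ := hexp m' hm' x hx
          have hi : A⁻¹ y ∈ orb P x := by simpa using hMorb m⁻¹ (inv_mem hm) x hx y hy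
          have hi' : B⁻¹ y ∈ orb P x := by simpa using hMorb m'⁻¹ (inv_mem hm') x hx y hy
          calc (A * B * v * (A * B)⁻¹) y = A ((B * v * B⁻¹) (A⁻¹ y)) := by simp [mul_assoc]
            _ = A ((v ^ b) (A⁻¹ y)) := by rw [hb v hv _ hi]
            _ = (A * v ^ b * A⁻¹) y := rfl
            _ = ((v ^ b) ^ a) y := ha _ (pow_mem hv b) y hy
            _ = ((v ^ a) ^ b) y := by rw [← pow_mul, ← pow_mul, mul_comm]
            _ = (B * v ^ a * B⁻¹) y := (hb _ (pow_mem hv a) y hy).symm
            _ = B ((v ^ a) (B⁻¹ y)) := rfl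
            _ = B ((A * v * A⁻¹) (B⁻¹ y)) := by rw [ha v hv _ hi']
            _ = (B * A * v * (B * A)⁻¹) y := by simp [mul_assoc]
        have hv : (B * A)⁻¹ * u * (B * A) ∈ P := by simpa using hNconj (m' * m)⁻¹ u hu
        set v := (B * A)⁻¹ * u * (B * A) with hvdef
        have h6 : u * (A * B * A⁻¹ * B⁻¹) = (B * A * v * (B * A)⁻¹) * (A * B * A⁻¹ * B⁻¹) := by
          rw [hvdef]; group
        rw [h6, ← hswap v hv, hvdef]
        group
    · -- few orbits: uniform exponent
      have hk3 : k ≤ 3 := by omega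
      have huni : ∀ m ∈ M, ∃ a : ℕ, ∀ u ∈ P, (m : Perm α) * u * (m : Perm α)⁻¹ = u ^ a := by
        intro m hm
        by_cases hinj : ∃ o ∈ Orb, ∀ w ∈ P, (∀ y ∈ o, w y = y) → w = 1
        · obtain ⟨o, ho, hinj⟩ := hinj
          obtain ⟨x, hx, rfl⟩ := horb_mem o ho
          obtain ⟨a, ha⟩ := hexp m hm x hx
          refine ⟨a, fun u hu => mul_inv_eq_one.1 (hinj _ (mul_mem (hNconj m u hu) (inv_mem (pow_mem hu a))) ?_)⟩
          intro y hy
          rw [mul_apply, ha u hu _ (apply_mem_orb (inv_mem (pow_mem hu a)) hy), ← mul_apply, mul_inv_cancel,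
            one_apply]
        · push Not at hinj
          obtain ⟨x, hx⟩ : ∃ x, x ∉ Φ := ⟨x₀, hx₀⟩
          obtain ⟨a, ha⟩ := hexp m hm x hx
          refine ⟨a, fun u hu => ?_⟩
          refine hext _ (hNconj m u hu) _ (pow_mem hu a) fun o ho y hy => ?_
          obtain ⟨x', hx', rfl⟩ := horb_mem o ho
          by_cases he : orb P x' = orb P x
          · exact ha u hu y (he ▸ hy)
          obtain ⟨b, hb⟩ := hexp m hm x' hx'
          -- a third orbit
          obtain ⟨o₃, ho₃, hne3, hne3'⟩ : ∃ o₃ ∈ Orb, o₃ ≠ orb P x ∧ o₃ ≠ orb P x' := by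
            by_contra h
            push Not at h
            obtain ⟨w, hw, hwfix, hw1⟩ := hinj _ (hmemOrb x hx)
            refine hw1 (hH w hw (orb P x') (hmemOrb x' hx') fun o' ho' hne' => ?_)
            by_cases h' : o' = orb P x
            · rw [h']; exact hwfix
            · exact absurd (h o' ho' h') hne'
          have hall : ∀ o' ∈ Orb, o' = orb P x ∨ o' = orb P x' ∨ o' = o₃ := by
            intro o' ho'
            by_contra h
            push Not at h
            have h4 : ({o', orb P x, orb P x', o₃} : Finset (Finset α)) ⊆ Orb := by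
              intro z hz
              simp only [Finset.mem_insert, Finset.mem_singleton] at hz
              rcases hz with rfl | rfl | rfl | rfl
              exacts [ho', hmemOrb x hx, hmemOrb x' hx', ho₃]
            have h5 := Finset.card_le_card h4
            rw [Finset.card_eq_four.2 ⟨o', orb P x, orb P x', o₃, h.1, h.2.1, h.2.2, Ne.symm he,
              Ne.symm hne3, Ne.symm hne3', rfl⟩] at h5
            omega
          obtain ⟨w, hw, hwfix, hw1⟩ := hinj o₃ ho₃
          have hwx' : w x' ≠ x' := by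
            intro h
            apply hw1
            refine hH w hw (orb P x) (hmemOrb x hx) fun o' ho' hne' => ?_
            rcases hall o' ho' with rfl | rfl | rfl
            · exact absurd rfl hne'
            · exact (orbit_facts hP (horb x' hx')).1 w hw h
            · exact hwfix
          obtain ⟨x₃, hx₃, he3⟩ := horb_mem o₃ ho₃
          obtain ⟨c, hc⟩ := hexp m hm x₃ hx₃
          have hd : (m : Perm α) * w * (m : Perm α)⁻¹ = w ^ a := by
            apply mul_inv_eq_one.1
            refine hH _ (mul_mem (hNconj m w hw) (inv_mem (pow_mem hw a))) (orb P x') (hmemOrb x' hx')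
              fun o' ho' hne' z hz => ?_
            rcases hall o' ho' with rfl | rfl | rfl
            · rw [mul_apply, ha w hw _ (apply_mem_orb (inv_mem (pow_mem hw a)) hz), ← mul_apply,
                mul_inv_cancel, one_apply]
            · exact absurd rfl hne'
            · rw [he3] at hz hwfix
              have h1 : ∀ (i : ℕ), ∀ t ∈ orb P x₃, (w ^ i) t = t := fun i t ht => by
                rw [pow_agree (one_mem P) (fun s hs => by rw [hwfix s hs, one_apply]) i t ht, one_pow, one_apply]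
              have h2 : (w ^ a)⁻¹ z = z := by
                conv_lhs => rw [← h1 a z hz]
                simp
              rw [mul_apply, h2, hc w hw z hz, h1 c z hz]
          have heq : (w ^ b) x' = (w ^ a) x' := by
            rw [← hb w hw x' (self_mem_orb x'), hd]
          -- `a ≡ b (mod p)`
          have hmod : a ≡ b [MOD p] := by
            obtain ⟨hstab, -, -⟩ := orbit_facts hP (horb x' hx')
            have key : ∀ i j : ℕ, i ≤ j → (w ^ i) x' = (w ^ j) x' → p ∣ j - i := by
              intro i j hij h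
              rw [← Nat.add_sub_cancel' hij, pow_add, mul_apply] at h
              have h' := (w ^ i).injective h
              by_contra hnd
              have hcop : (j - i).Coprime p := ((hp.out.coprime_iff_not_dvd).2 hnd).symm
              obtain ⟨s, -, hs⟩ := Nat.exists_mul_mod_eq_one_of_coprime hcop hp.out.one_lt
              apply hwx'
              have e : w = (w ^ (j - i)) ^ s := by
                rw [← pow_mul]
                conv_lhs => rw [← pow_one w, ← hs]
                exact (pow_eq_pow_mod _ (hfixp w hw)).symm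
              rw [e]
              exact pow_apply_eq_self_of_apply_eq_self h'.symm s
            rcases le_total a b with hab | hab
            · exact (Nat.modEq_iff_dvd' hab).2 (key a b hab heq.symm)
            · exact ((Nat.modEq_iff_dvd' hab).2 (key b a hab heq)).symm
          rw [hb u hu y hy, pow_eq_pow_mod b (hfixp u hu), ← hmod, ← pow_eq_pow_mod a (hfixp u hu)]
      refine hXne (eq_bot_of_central (by omega) ?_)
      rintro _ ⟨m, hm, rfl⟩ σ
      obtain ⟨n, rfl⟩ := hsurj σ
      rw [← commutatorElement_eq_one_iff_mul_comm, ← map_commutatorElement]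
      refine hkill _ ⟨?_, ?_⟩
      · show ⁅m, n⁆ ∈ M
        rw [commutatorElement_def, mul_assoc (m * n), mul_assoc m, ← mul_assoc n]
        exact mul_mem hm ((inferInstance : M.Normal).conj_mem _ (inv_mem hm) n)
      · obtain ⟨a, ha⟩ := huni m hm
        show ⁅m, n⁆ ∈ Z
        rw [hZ, Subgroup.mem_subgroupOf, Subgroup.mem_centralizer_iff]
        intro u hu
        simp only [commutatorElement_def, Subgroup.coe_mul, InvMemClass.coe_inv]
        set A := (m : Perm α) with hA
        set B := (n : Perm α) with hB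
        have hv : (B * A)⁻¹ * u * (B * A) ∈ P := by simpa using hNconj (n * m)⁻¹ u hu
        set v := (B * A)⁻¹ * u * (B * A) with hvdef
        have hBv : B * v * B⁻¹ ∈ P := hNconj n v hv
        have h5 : A * B * v * (A * B)⁻¹ = B * A * v * (B * A)⁻¹ := by
          calc A * B * v * (A * B)⁻¹ = A * (B * v * B⁻¹) * A⁻¹ := by group
            _ = (B * v * B⁻¹) ^ a := ha _ hBv
            _ = B * v ^ a * B⁻¹ := conj_pow
            _ = B * (A * v * A⁻¹) * B⁻¹ := by rw [ha v hv]
            _ = _ := by group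
        have h6 : u * (A * B * A⁻¹ * B⁻¹) = (B * A * v * (B * A)⁻¹) * (A * B * A⁻¹ * B⁻¹) := by
          rw [hvdef]; group
        rw [h6, ← h5]
        rw [hvdef]; group
  · -- an element supported on `Φ`
    have hp3 : 3 ≤ p := by omega
    have hpow : ∀ c ∈ C, ∀ y ∉ Φ, ((c : Perm α) ^ p) y = y := by
      intro c hc y hy
      obtain ⟨u, hu, hux⟩ := mem_orb.1 (hMorb c hc.1 y hy y (self_mem_orb y))
      have hcomm : ∀ v ∈ P, v * (c : Perm α) = c * v := Subgroup.mem_centralizer_iff.1 hc.2
      have key : ∀ j : ℕ, ((c : Perm α) ^ j) y = (u ^ j) y := by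
        intro j
        induction j with
        | zero => simp
        | succ j ih =>
          rw [pow_succ', pow_succ, mul_apply, mul_apply, ih, ← mul_apply, ← hcomm _ (pow_mem hu j),
            mul_apply, hux]
      rw [key p, hfixp u hu, one_apply]
    by_cases hr4 : 4 ≤ r
    · obtain ⟨a, b, c, d, hab, hac, had, hbc, hbd, hcd, g, hgC, hg⟩ := exists_double hYn hYne (by omega)
      have hσ : swap a b * swap c d * (swap a b * swap c d) = 1 := by
        have h := swap_apply_apply (swap a b) c d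
        rw [swap_apply_of_ne_of_ne (Ne.symm hac) (Ne.symm hbc), swap_apply_of_ne_of_ne (Ne.symm had) (Ne.symm hbd)] at h
        have hcom : swap a b * swap c d = swap c d * swap a b := mul_inv_eq_iff_eq_mul.1 h.symm
        rw [mul_assoc, ← mul_assoc (swap c d), ← hcom, mul_assoc (swap a b), swap_mul_self, mul_one, swap_mul_self]
      have hodd : Odd p := hp.out.odd_of_ne_two (by omega)
      have heq : (g : Perm α) ^ p = swap (a : α) b * swap (c : α) d := by
        ext y
        by_cases hy : y ∈ Φ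
        · have h1 : res (g ^ p) = swap a b * swap c d := by
            obtain ⟨j, rfl⟩ := hodd
            rw [map_pow, hg, pow_succ, pow_mul, pow_two, hσ, one_pow, one_mul]
          have h2 := congrArg (fun f : Perm {x // x ∈ Φ} => ((f ⟨y, hy⟩ : {x // x ∈ Φ}) : α)) h1
          simp only [hres, SubmonoidClass.coe_pow, mul_apply] at h2
          rw [h2, mul_apply, swap_apply_def, swap_apply_def, swap_apply_def, swap_apply_def]
          simp only [Subtype.ext_iff, apply_ite (fun z : {x // x ∈ Φ} => (z : α))]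
        · have hy' : ∀ z : {x // x ∈ Φ}, y ≠ (z : α) := fun z e => hy (e ▸ z.2)
          rw [hpow g hgC y hy, mul_apply, swap_apply_of_ne_of_ne (hy' c) (hy' d),
            swap_apply_of_ne_of_ne (hy' a) (hy' b)]
      refine H77.alternatingGroup_le_of_double h4G (by omega) (a := (a : α)) (b := (b : α)) (c := (c : α))
        (d := (d : α)) ?_ ?_ ?_ ?_ ?_ ?_ (heq ▸ pow_mem g.2.1 p)
      all_goals (rw [Ne, ← Subtype.ext_iff]; assumption)
    · have hr : r = 3 := by omega
      rcases small_element hYn hYne (by omega) with ⟨a, b, c, hab, hac, hbc, g, hgC, hg⟩ | ⟨a, b, c, d, hab, hac, had, hbc, hbd, hcd, -⟩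
      · have hp3' : p ≠ 3 := fun e => h9 ⟨hr, e⟩
        set σ := swap a b * swap a c with hσdef
        have hσ3 : σ.IsThreeCycle := isThreeCycle_swap_mul_swap_same hab hac hbc
        have hσ : σ ^ 3 = 1 := by rw [← hσ3.orderOf]; exact pow_orderOf_eq_one σ
        have hne : res (g ^ p) ≠ 1 := by
          rw [map_pow, hg]
          intro h
          have hd := orderOf_dvd_of_pow_eq_one h
          rw [hσ3.orderOf] at hd
          exact hp3' ((Nat.prime_dvd_prime_iff_eq Nat.prime_three hp.out).1 hd).symm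
        set t := (g : Perm α) ^ p with ht
        have ht3 : t ^ 3 = 1 := by
          ext y
          by_cases hy : y ∈ Φ
          · have h1 : res ((g ^ p) ^ 3) = 1 := by
              rw [map_pow, map_pow, hg, ← pow_mul, mul_comm, pow_mul, hσ, one_pow]
            have h2 := congrArg (fun f : Perm {x // x ∈ Φ} => ((f ⟨y, hy⟩ : {x // x ∈ Φ}) : α)) h1
            simp only [hres, SubmonoidClass.coe_pow] at h2
            exact h2
          · rw [one_apply]
            exact pow_apply_eq_self_of_apply_eq_self (hpow g hgC y hy) 3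
        have ht1 : t ≠ 1 := by
          intro h
          apply hne
          refine Equiv.ext fun x => Subtype.ext ?_
          rw [hres, SubmonoidClass.coe_pow, ← ht, h]
          rfl
        have hord : orderOf t = 3 := orderOf_eq_prime ht3 ht1
        have hle : t.support.card ≤ 3 := by
          rw [← hr, ← hΦ]
          refine Finset.card_le_card fun y hy => ?_
          by_contra hy'
          exact mem_support.1 hy (hpow g hgC y hy')
        have hc' : t.IsCycle := isCycle_of_prime_order (by rw [hord]; norm_num) (by rw [hord]; omega)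
        exact alternatingGroup_le_of_isPreprimitive_of_isThreeCycle_mem hprim
          (card_support_eq_three_iff.1 (hc'.orderOf.symm.trans hord)) (pow_mem g.2.1 p)
      · exfalso
        have h4 : ({a, b, c, d} : Finset {x // x ∈ Φ}).card = 4 :=
          Finset.card_eq_four.2 ⟨a, b, c, d, hab, hac, had, hbc, hbd, hcd, rfl⟩
        have h5 := Finset.card_le_univ ({a, b, c, d} : Finset {x // x ∈ Φ})
        omega

end Core

theorem result {α : Type*} [Fintype α] [DecidableEq α] (G : Subgroup (Equiv.Perm α)) {k p r : ℕ} (hp : p.Prime) (hn : Fintype.card α = k * p + r) (hk : 1 ≤ k) (hpk : k < p) (hrk : k < r) (hex : ¬ (k = 1 ∧ r = 2)) (hG : MulAction.IsMultiplyPretransitive G α (r + 1)) : alternatingGroup α ≤ G := by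
  classical
  haveI := Fact.mk hp
  have hr3 : 3 ≤ r := by omega
  have hkp : p ≤ k * p := Nat.le_mul_of_pos_left p hk
  have hp2 := hp.two_le
  obtain ⟨Φ, -, hΦ⟩ := Finset.exists_subset_card_eq (s := (Finset.univ : Finset α)) (n := r)
    (by rw [Finset.card_univ]; omega)
  set K : Subgroup (Perm α) := G ⊓ fixingSubgroup (Perm α) (Φ : Set α) with hK
  have hKfix : ∀ u ∈ K, ∀ x ∈ Φ, u x = x := fun u hu x hx => (mem_fixingSubgroup_iff _).1 hu.2 x hx
  obtain ⟨S⟩ := (inferInstance : Nonempty (Sylow p K))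
  set P : Subgroup (Perm α) := (S : Subgroup K).map K.subtype with hP
  have hPK : P ≤ K := Subgroup.map_subtype_le _
  have hPp : IsPGroup p P := S.isPGroup'.map K.subtype
  have hPfix : ∀ u ∈ P, ∀ x ∈ Φ, u x = x := fun u hu => hKfix u (hPK hu)
  obtain ⟨f⟩ : Nonempty (Fin r ≃ {x // x ∈ Φ}) := ⟨(Fintype.equivFinOfCardEq (by rw [Fintype.card_coe, hΦ])).symm⟩
  have hr1 : r + 1 ≤ Fintype.card α := by omega
  have htrans : ∀ x ∉ Φ, ∀ y ∉ Φ, ∃ u ∈ K, u x = y := by
    intro x hx y hy
    obtain ⟨g, hg, hmap⟩ := H77.exists_mem_map (x := Fin.snoc (fun i => (f i : α)) x)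
      (y := Fin.snoc (fun i => (f i : α)) y) hG le_rfl hr1
      (Fin.snoc_injective_of_injective (Subtype.val_injective.comp f.injective)
        (fun ⟨i, hi⟩ => hx ((show (f i : α) = x from hi) ▸ (f i).2)))
      (Fin.snoc_injective_of_injective (Subtype.val_injective.comp f.injective)
        (fun ⟨i, hi⟩ => hy ((show (f i : α) = y from hi) ▸ (f i).2)))
    refine ⟨g, ⟨hg, (mem_fixingSubgroup_iff _).2 fun z hz => ?_⟩, by simpa using hmap (Fin.last r)⟩
    have h := hmap (Fin.castSucc (f.symm ⟨z, hz⟩))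
    simp only [Fin.snoc_castSucc, Equiv.apply_symm_apply] at h
    exact h
  have horb : ∀ x ∉ Φ, (orb P x).card = p := by
    intro x hx
    have hKorb : orb K x = Φᶜ := by
      ext y
      rw [Finset.mem_compl]
      exact ⟨fun h => notMem_of_mem_orb hKfix hx h,
        fun hy => mem_orb.2 (htrans x hx y hy)⟩
    have hPsub : orb P x ⊆ orb K x := fun y hy => by
      obtain ⟨u, hu, e⟩ := mem_orb.1 hy
      exact mem_orb.2 ⟨u, hPK hu, e⟩
    have hKc : (orb K x).card = k * p := by rw [hKorb, Finset.card_compl, hΦ, hn]; omega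
    obtain ⟨e, he⟩ := hPp.card_orbit x
    rw [← card_orb] at he
    rcases e with _ | _ | e
    · exfalso
      rw [pow_zero] at he
      obtain ⟨z, hz⟩ := Finset.card_eq_one.1 he
      have hall : ∀ u ∈ P, u x = x := fun u hu => by
        have h1 : u x ∈ orb P x := apply_mem_orb hu (self_mem_orb x)
        have h2 : x ∈ orb P x := self_mem_orb x
        rw [hz, Finset.mem_singleton] at h1 h2
        exact h1.trans h2.symm
      have hle : (S : Subgroup K) ≤ stabilizer K x := fun u hu =>
        hall u.1 ⟨u, hu, rfl⟩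
      have hd := Subgroup.index_dvd_of_le hle
      rw [index_stabilizer, ← Nat.card_coe_set_eq, ← card_orb, hKc] at hd
      exact S.not_dvd_index ((dvd_mul_left p k).trans hd)
    · rw [he, pow_one]
    · exfalso
      have h1 := Finset.card_le_card hPsub
      rw [he, hKc, pow_succ] at h1
      have h2 : p ≤ p ^ (e + 1) := Nat.le_self_pow (by omega) p
      have h3 : k * p < p * p := (Nat.mul_lt_mul_right hp.pos).2 hpk
      have h4 : p * p ≤ p ^ (e + 1) * p := Nat.mul_le_mul_right p h2
      omega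
  refine core hG hn hk hpk hrk hr3 hΦ (hPK.trans inf_le_left) hPfix hPp horb fun σ => ?_
  obtain ⟨g, hg, hmap⟩ := H77.exists_mem_map (x := fun i => (f i : α)) (y := fun i => (σ (f i) : α)) hG
    (Nat.le_succ r) hr1 (Subtype.val_injective.comp f.injective)
    (Subtype.val_injective.comp (σ.injective.comp f.injective))
  have hgΦ : ∀ x : {x // x ∈ Φ}, g x = σ x := fun x => by
    simpa using hmap (f.symm x)
  have hgK : ∀ u ∈ K, g * u * g⁻¹ ∈ K := by
    intro u hu
    refine Subgroup.mem_inf.2 ⟨mul_mem (mul_mem hg hu.1) (inv_mem hg), (mem_fixingSubgroup_iff _).2 fun z hz => ?_⟩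
    have h1 : g⁻¹ z = (σ⁻¹ ⟨z, hz⟩ : {x // x ∈ Φ}) := by
      rw [inv_eq_iff_eq, hgΦ]; simp
    show g (u (g⁻¹ z)) = z
    rw [h1, hKfix u hu _ (σ⁻¹ ⟨z, hz⟩).2, hgΦ]
    simp
  let φ : K →* K :=
    { toFun := fun u => ⟨g * (u : Perm α) * g⁻¹, hgK u u.2⟩
      map_one' := Subtype.ext (by simp)
      map_mul' := fun a b => Subtype.ext (by simp [mul_assoc]) }
  have hφinj : Function.Injective φ := fun a b h => Subtype.ext (by
    have h' : g * (a : Perm α) * g⁻¹ = g * (b : Perm α) * g⁻¹ := congrArg Subtype.val h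
    exact mul_left_cancel (mul_right_cancel h'))
  have hcard : Nat.card ((S : Subgroup K).map φ) = p ^ (Nat.card K).factorization p := by
    rw [Subgroup.card_map_of_injective hφinj, S.card_eq_multiplicity]
  let T : Sylow p K := Sylow.ofCard _ hcard
  obtain ⟨c, hc⟩ := MulAction.exists_smul_eq K T S
  have key : ∀ u : Perm α, u ∈ P → ((c : Perm α) * g) * u * ((c : Perm α) * g)⁻¹ ∈ P := by
    rintro _ ⟨u, hu, rfl⟩
    have h1 : φ u ∈ (T : Subgroup K) := by
      show φ u ∈ (S : Subgroup K).map φ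
      exact ⟨u, hu, rfl⟩
    have h2 : c * φ u * c⁻¹ ∈ (S : Subgroup K) := by
      rw [← hc]
      have h := Sylow.coe_subgroup_smul (g := c) (P := T)
      show c * φ u * c⁻¹ ∈ ((c • T : Sylow p K) : Subgroup K)
      rw [h, Subgroup.mem_pointwise_smul_iff_inv_smul_mem]
      simpa [mul_assoc] using h1
    refine ⟨_, h2, ?_⟩
    show (c : Perm α) * (g * u * g⁻¹) * (c : Perm α)⁻¹ = _
    simp [mul_assoc]
  refine ⟨(c : Perm α) * g, mul_mem c.2.1 hg, ?_, fun x => ?_⟩
  · apply Subgroup.mem_normalizer_iff.2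
    intro u
    refine ⟨key u, fun h => ?_⟩
    have hinj : Function.Injective (fun v : P => (⟨_, key v v.2⟩ : P)) := fun v w e => Subtype.ext (by
      simpa using congrArg Subtype.val e)
    obtain ⟨v, hv⟩ := Finite.surjective_of_injective hinj ⟨_, h⟩
    have hv' := congrArg Subtype.val hv
    simp only [mul_left_inj, mul_right_inj] at hv'
    exact hv' ▸ v.2
  · rw [mul_apply, hgΦ]
    exact hKfix c c.2 _ (σ x).2

end Cfsg.Agent.S4220
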