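import Cfsg.Statements.S4221
import Cfsg.Agent.H41.FourTransDegree

set_option autoImplicit false
open Cfsg

namespace Cfsg.Agent.S4221

open Cfsg.Agent.H41

/-- Four distinct points as an embedding. -/
def emb {β : Type*} {a b c d : β} (h : D4 a b c d) : Fin 4 ↪ β :=
  ⟨![a, b, c, d], by
    obtain ⟨h1, h2, h3, h4, h5, h6⟩ := h
    intro i j e
    fin_cases i <;> fin_cases j <;> simp_all [Ne.symm]⟩

theorem stabilizer_eq {G β : Type*} [Group G] [MulAction G β] (s : Fin 4 ↪ β) :
    MulAction.stabilizer G s = fix4 G (s 0) (s 1) (s 2) (s 3) := by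
  ext g
  rw [MulAction.mem_stabilizer_iff, mem_fix4]
  constructor
  · intro h
    exact ⟨congrArg (· 0) h, congrArg (· 1) h, congrArg (· 2) h, congrArg (· 3) h⟩
  · rintro ⟨h0, h1, h2, h3⟩
    ext i
    fin_cases i
    exacts [h0, h1, h2, h3]

theorem hallCfg {G β : Type*} [Group G] [Finite G] [MulAction G β]
    (hG : MulAction.IsMultiplyPretransitive G β 4) (x : Fin 4 ↪ β)
    (hodd : Odd (Nat.card (MulAction.stabilizer G x))) : HallCfg G β where
  trans {a b c d a' b' c' d'} h h' := by
    obtain ⟨g, hg⟩ := MulAction.exists_smul_eq G (emb h) (emb h')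
    exact ⟨g, congrArg (· 0) hg, congrArg (· 1) hg, congrArg (· 2) hg, congrArg (· 3) hg⟩
  odd {a b c d} h := by
    obtain ⟨g, hg⟩ := MulAction.exists_smul_eq G x (emb h)
    have e : MulAction.stabilizer G (emb h) = fix4 G a b c d := stabilizer_eq _
    rw [← e, ← hg, ← Nat.card_congr (MulAction.stabilizerEquivStabilizer hg.symm).toEquiv] at *
    exact hodd

/-- A subgroup of index six of the symmetric group of degree seven does not exist. -/
theorem not_index_six {β : Type*} [Fintype β] [DecidableEq β] (hβ : Fintype.card β = 7)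
    (G : Subgroup (Equiv.Perm β)) (hidx : G.index = 6) : False := by
  haveI := G.normalCore_normal
  set A := alternatingGroup β
  have hA : IsSimpleGroup A := alternatingGroup.isSimpleGroup (by rw [Nat.card_eq_fintype_card]; omega)
  haveI : Nontrivial β := Fintype.one_lt_card_iff_nontrivial.1 (by omega)
  have hAc : 2 * Nat.card A = 5040 := by
    rw [Nat.card_eq_fintype_card, two_mul_card_alternatingGroup, Fintype.card_perm, hβ]; rfl
  have hN : G.normalCore.index ∣ 720 := by
    have h := Subgroup.index_ker (MulAction.toPermHom (Equiv.Perm β) (Equiv.Perm β ⧸ G))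
    rw [← Subgroup.normalCore_eq_ker] at h
    rw [h]
    refine (Subgroup.card_subgroup_dvd_card _).trans ?_
    rw [Nat.card_perm, ← Subgroup.index_eq_card, hidx]; rfl
  rcases hA.eq_bot_or_eq_top_of_normal (G.normalCore.subgroupOf A) inferInstance with h | h
  · have h2 : A.relIndex G.normalCore ∣ 2 := alternatingGroup.index_eq_two (α := β) ▸
      Subgroup.relIndex_dvd_index_of_normal A G.normalCore
    have h1 : Nat.card G.normalCore ∣ 2 := by
      have hb : A ⊓ G.normalCore = ⊥ := disjoint_iff.1 (Subgroup.subgroupOf_eq_bot.1 h).symm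
      rw [← Subgroup.relIndex_bot_left, ← hb]
      simpa [Subgroup.inf_relIndex_right] using h2
    have := Subgroup.card_mul_index G.normalCore
    rw [Nat.card_eq_fintype_card (α := Equiv.Perm β), Fintype.card_perm, hβ,
      show (7 : ℕ).factorial = 5040 from rfl] at this
    have := Nat.le_of_dvd two_pos h1
    have := Nat.le_of_dvd (by norm_num) hN
    nlinarith
  · have hle : A ≤ G := (Subgroup.subgroupOf_eq_top.1 h).trans G.normalCore_le
    have := Subgroup.index_antitone hle
    rw [alternatingGroup.index_eq_two, hidx] at this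
    omega

/-- Let `G` be a `4`-fold transitive permutation group on a finite set of `n` points in which the pointwise stabilizer of some four distinct points has odd order. Then `n = 4` or `n = 5` with `G` the full symmetric group, or `n = 6` or `n = 7` with `G` the alternating group, or `n = 11` and `G` has order `7920`. -/
theorem result {α : Type*} [Fintype α] [DecidableEq α] (G : Subgroup (Equiv.Perm α)) (hG : MulAction.IsMultiplyPretransitive G α 4) (x : Fin 4 ↪ α) (hodd : Odd (Nat.card (MulAction.stabilizer G x))) : ((Fintype.card α = 4 ∨ Fintype.card α = 5) ∧ G = ⊤) ∨ ((Fintype.card α = 6 ∨ Fintype.card α = 7) ∧ G = alternatingGroup α) ∨ (Fintype.card α = 11 ∧ Nat.card G = 7920) := by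
  classical
  have hcfg := hallCfg hG x hodd
  set n := Fintype.card α with hn
  have hn4 : 4 ≤ n := by simpa using Fintype.card_le_of_embedding x
  set h := Nat.card (MulAction.stabilizer G x) with hh
  have hcard : n.descFactorial 4 * h = Nat.card G := by
    rw [← Subgroup.index_mul_card (MulAction.stabilizer G x)]
    congr 1
    have huniv : ∀ S : Set (Fin 4 ↪ α), (∀ y, y ∈ S) → S.ncard = n.descFactorial 4 := fun S hS => by
      rw [Set.eq_univ_of_forall hS, Set.ncard_univ, Nat.card_eq_fintype_card,
        Fintype.card_embedding_eq, Fintype.card_fin]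
    rw [MulAction.index_stabilizer, huniv _ fun y => ?_]
    obtain ⟨g, hg⟩ := hG.exists_smul_eq x y
    exact ⟨g, hg⟩
  have hperm : Nat.card (Equiv.Perm α) = n.factorial := by
    rw [Nat.card_eq_fintype_card, Fintype.card_perm]
  have hindex : Nat.card G * G.index = n.factorial := by
    rw [Subgroup.card_mul_index, hperm]
  have hh0 : h ∣ (n - 4).factorial := by
    have h1 : n.descFactorial 4 * h ∣ n.descFactorial 4 * (n - 4).factorial := by
      rw [hcard, mul_comm _ (n - 4).factorial, Nat.factorial_mul_descFactorial hn4, ← hperm]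
      exact Subgroup.card_subgroup_dvd_card G
    exact Nat.dvd_of_mul_dvd_mul_left
      (Nat.descFactorial_pos.2 hn4) h1
  rcases Nat.lt_or_ge n 8 with hlt | hge
  · have hle : h ≤ (n - 4).factorial := Nat.le_of_dvd (Nat.factorial_pos _) hh0
    have hGpos : 0 < h := Nat.card_pos
    obtain ⟨k, hk⟩ := hodd
    interval_cases n <;> simp only [show Nat.descFactorial 4 4 = 24 from rfl,
      show Nat.descFactorial 5 4 = 120 from rfl, show Nat.descFactorial 6 4 = 360 from rfl,
      show Nat.descFactorial 7 4 = 840 from rfl, show (4 : ℕ).factorial = 24 from rfl,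
      show (5 : ℕ).factorial = 120 from rfl, show (6 : ℕ).factorial = 720 from rfl,
      show (7 : ℕ).factorial = 5040 from rfl, show (4 - 4).factorial = 1 from rfl,
      show (5 - 4).factorial = 1 from rfl, show (6 - 4).factorial = 2 from rfl,
      show (7 - 4).factorial = 6 from rfl] at hcard hindex hle hh0 hperm
    · exact Or.inl ⟨Or.inl rfl, Subgroup.eq_top_of_card_eq G (by omega)⟩
    · exact Or.inl ⟨Or.inr rfl, Subgroup.eq_top_of_card_eq G (by omega)⟩
    · refine Or.inr (Or.inl ⟨Or.inl rfl, Equiv.Perm.eq_alternatingGroup_of_index_eq_two ?_⟩)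
      rw [← hcard, show h = 1 by omega] at hindex
      omega
    · refine Or.inr (Or.inl ⟨Or.inr rfl, Equiv.Perm.eq_alternatingGroup_of_index_eq_two ?_⟩)
      obtain h1 | h3 : h = 1 ∨ h = 3 := by
        interval_cases h <;> omega
      · exfalso
        rw [← hcard, h1] at hindex
        exact not_index_six hn.symm G (by omega)
      · rw [← hcard, h3] at hindex
        omega
  · refine Or.inr (Or.inr ⟨hcfg.degree_eq hge, ?_⟩)
    have h11 : n = 11 := hcfg.degree_eq hge
    have hd : D4 (x 0) (x 1) (x 2) (x 3) := by
      refine ⟨?_, ?_, ?_, ?_, ?_, ?_⟩ <;> exact x.injective.ne (by decide)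
    have h1 : h = 1 := by
      have e : MulAction.stabilizer G x = ⊥ :=
        (stabilizer_eq x).trans (hcfg.fix4_eq_bot hge hd)
      rw [hh, e, Subgroup.card_bot]
    rw [← hcard, h1, h11]
    rfl

end Cfsg.Agent.S4221
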