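import Cfsg.Statements.S4223
import Mathlib

set_option autoImplicit false
open Cfsg

namespace Cfsg.Agent.S4223

universe u v

/-- Direct indecomposability. -/
def Indec (G : Type*) [Group G] : Prop :=
  Nontrivial G ∧ ∀ H K : Subgroup G, H.Normal → K.Normal → H ⊓ K = ⊥ → H ⊔ K = ⊤ → H = ⊥ ∨ K = ⊥

/-- A normal endomorphism. -/
def IsNormalEnd {G : Type*} [Group G] (h : G →* G) : Prop :=
  ∀ a x : G, h (a * x * a⁻¹) = a * h x * a⁻¹

/-- **Fitting's lemma**. -/
theorem fitting {G : Type*} [Group G] [Finite G] (hG : Indec G) {h : G →* G} (hn : IsNormalEnd h) :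
    Function.Bijective h ∨ ∀ x, ∃ k : ℕ, h^[k] x = 1 := by
  let H₀ : Monoid.End G := h
  have hnk : ∀ k : ℕ, IsNormalEnd (H₀ ^ k : Monoid.End G) := by
    intro k
    induction k with
    | zero => intro a x; rfl
    | succ k ih =>
      intro a x
      show (H₀ ^ (k + 1) : Monoid.End G) (a * x * a⁻¹) = _
      rw [pow_succ']
      show h ((H₀ ^ k : Monoid.End G) (a * x * a⁻¹)) = a * h ((H₀ ^ k : Monoid.End G) x) * a⁻¹
      exact (congrArg h (ih a x)).trans (hn _ _)
  have hiter : ∀ (k : ℕ) (x : G), (H₀ ^ k : Monoid.End G) x = h^[k] x := by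
    intro k x
    induction k with
    | zero => rfl
    | succ k ih =>
      rw [pow_succ', Function.iterate_succ_apply', ← ih]; rfl
  haveI : Finite (Monoid.End G) := Finite.of_injective (fun f : Monoid.End G => (f : G → G)) DFunLike.coe_injective
  obtain ⟨i, j, hij, heq⟩ : ∃ i j : ℕ, i < j ∧ H₀ ^ i = H₀ ^ j := by
    obtain ⟨i, j, hne, he⟩ := Finite.exists_ne_map_eq_of_infinite (fun k : ℕ => H₀ ^ k)
    rcases Nat.lt_or_gt_of_ne hne with l | l
    exacts [⟨i, j, l, he⟩, ⟨j, i, l, he.symm⟩]
  obtain ⟨d, hd⟩ : ∃ d, j = i + (d + 1) := ⟨j - i - 1, by omega⟩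
  -- an idempotent power
  have hper : ∀ t k : ℕ, H₀ ^ (i + k + t * (d + 1)) = H₀ ^ (i + k) := by
    intro t k
    induction t with
    | zero => simp
    | succ t ih =>
      rw [show i + k + (t + 1) * (d + 1) = j + (k + t * (d + 1)) by rw [hd]; ring, pow_add, ← heq, ← pow_add,
        ← add_assoc, ih]
  set N := (i + 1) * (d + 1)
  have hNi : i ≤ N := le_trans (Nat.le_succ i) (Nat.le_mul_of_pos_right _ (Nat.succ_pos d))
  have hidem : ∀ x, h^[N] (h^[N] x) = h^[N] x := by
    intro x
    rw [← Function.iterate_add_apply, ← hiter, ← hiter,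
      show N + N = i + (N - i) + (i + 1) * (d + 1) by omega, hper, Nat.add_sub_cancel' hNi]
  set f : G →* G := (H₀ ^ N : Monoid.End G)
  have hf : ∀ x, f x = h^[N] x := hiter N
  have hKn : f.ker.Normal := MonoidHom.normal_ker f
  have hIn : f.range.Normal := ⟨by
    rintro _ ⟨x, rfl⟩ a
    exact ⟨a * x * a⁻¹, hnk N a x⟩⟩
  have hdis : f.range ⊓ f.ker = ⊥ := by
    rw [eq_bot_iff]
    rintro _ ⟨⟨x, rfl⟩, hx⟩
    have hx' : f (f x) = 1 := hx
    rw [hf, hf, hidem] at hx'
    rw [Subgroup.mem_bot, hf]
    exact hx'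
  have hsup : f.range ⊔ f.ker = ⊤ := by
    rw [eq_top_iff]
    intro x _
    have hx : x = f x * ((f x)⁻¹ * x) := by group
    rw [hx]
    refine mul_mem (Subgroup.mem_sup_left ⟨x, rfl⟩) (Subgroup.mem_sup_right ?_)
    rw [MonoidHom.mem_ker, map_mul, map_inv, hf, hf, hidem]
    group
  rcases hG.2 _ _ hIn hKn hdis hsup with hb | hb
  · exact Or.inr fun x => ⟨N, by rw [← hf]; exact Subgroup.mem_bot.mp (hb ▸ ⟨x, rfl⟩)⟩
  · left
    have hinj : Function.Injective h := by
      have hfi : Function.Injective (h^[N]) := by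
        intro x y e
        rw [← hf, ← hf] at e
        exact (MonoidHom.ker_eq_bot_iff f).mp hb e
      intro x y e
      refine hfi ?_
      obtain ⟨M, hM⟩ : ∃ M, N = M + 1 := ⟨N - 1, by
        have : 0 < N := Nat.mul_pos (Nat.succ_pos i) (Nat.succ_pos d)
        omega⟩
      rw [hM, Function.iterate_succ_apply, Function.iterate_succ_apply, e]
    exact ⟨hinj, Finite.injective_iff_surjective.mp hinj⟩

/-- Splitting an automorphism into two normal endomorphisms. -/
theorem bijective_of_mul {G : Type*} [Group G] [Finite G] (hG : Indec G) {s h k : G →* G}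
    (hh : IsNormalEnd h) (hk : IsNormalEnd k) (hs : IsNormalEnd s) (hsb : Function.Bijective s)
    (heq : ∀ x, s x = h x * k x) : Function.Bijective h ∨ Function.Bijective k := by
  let u := (MulEquiv.ofBijective s hsb).symm
  have hu : ∀ a x, u (a * x * a⁻¹) = a * u x * a⁻¹ := by
    intro a x
    apply hsb.1
    have e : ∀ y, s (u y) = y := (MulEquiv.ofBijective s hsb).apply_symm_apply
    rw [e, hs, e]
  have hn : ∀ f : G →* G, IsNormalEnd f → IsNormalEnd (u.toMonoidHom.comp f) := fun f hf a x => by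
    show u (f (a * x * a⁻¹)) = a * u (f x) * a⁻¹
    rw [hf, hu]
  have hb : ∀ f : G →* G, Function.Bijective (u.toMonoidHom.comp f) → Function.Bijective f := fun f hf => by
    have : (f : G → G) = s ∘ (u.toMonoidHom.comp f) := funext fun x =>
      ((MulEquiv.ofBijective s hsb).apply_symm_apply (f x)).symm
    rw [this]; exact hsb.comp hf
  rcases fitting hG (hn h hh) with h1 | h1
  · exact Or.inl (hb h h1)
  rcases fitting hG (hn k hk) with h2 | h2
  · exact Or.inr (hb k h2)
  exfalso
  haveI := hG.1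
  obtain ⟨x, hx⟩ := exists_ne (1 : G)
  -- an element killed by the first summand
  obtain ⟨z, hz, hz1⟩ : ∃ z, z ≠ 1 ∧ u (h z) = 1 := by
    obtain ⟨n, hn1⟩ := h1 x
    induction n generalizing x with
    | zero => exact absurd hn1 hx
    | succ n ih =>
      by_cases he : u (h x) = 1
      · exact ⟨x, hx, he⟩
      · exact ih _ he (by rwa [Function.iterate_succ_apply] at hn1)
  have hfix : u (k z) = z := by
    have e : u (s z) = z := (MulEquiv.ofBijective s hsb).symm_apply_apply z
    rw [heq, map_mul, hz1, one_mul] at e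
    exact e
  obtain ⟨n, hn1⟩ := h2 z
  exact hz ((Function.iterate_fixed (f := u.toMonoidHom.comp k) hfix n).symm.trans hn1)

theorem main : ∀ (m n : ℕ) (A : Fin m → Type u) (B : Fin n → Type v) [∀ i, Group (A i)] [∀ j, Group (B j)]
    [∀ i, Finite (A i)] [∀ j, Finite (B j)], (∀ i, Indec (A i)) → (∀ j, Indec (B j)) →
    ((i : Fin m) → A i) ≃* ((j : Fin n) → B j) → ∃ σ : Fin m ≃ Fin n, ∀ i, Nonempty (A i ≃* B (σ i)) := by
  intro m
  induction m with
  | zero =>
    intro n A B _ _ _ _ _ hB e
    cases n with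
    | zero => exact ⟨Equiv.refl _, fun i => i.elim0⟩
    | succ n =>
      exfalso
      haveI := (hB 0).1
      obtain ⟨b, hb⟩ := exists_ne (1 : B 0)
      have h := e.symm.injective (a₁ := Pi.mulSingle 0 b) (a₂ := 1) (Subsingleton.elim _ _)
      exact hb (by simpa using congrFun h 0)
  | succ m ih => ?_
  intro n A B _ _ _ _ hA hB e
  classical
  -- the partial sums of the identity of `A 0`
  let ι : A 0 →* ((i : Fin (m + 1)) → A i) := MonoidHom.mulSingle A 0
  let mask : Finset (Fin n) → (((j : Fin n) → B j) →* ((j : Fin n) → B j)) := fun J =>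
    MonoidHom.mk' (fun y j => if j ∈ J then y j else 1) (fun y z => funext fun j => by
      by_cases h : j ∈ J <;> simp [h])
  let S : Finset (Fin n) → (A 0 →* A 0) := fun J =>
    (Pi.evalMonoidHom A 0).comp (e.symm.toMonoidHom.comp ((mask J).comp (e.toMonoidHom.comp ι)))
  have hι : ∀ a, ι a 0 = a := fun a => Pi.mulSingle_eq_same 0 a
  have hSn : ∀ J, IsNormalEnd (S J) := by
    intro J a x
    have : mask J (e (ι (a * x * a⁻¹))) = e (ι a) * mask J (e (ι x)) * (e (ι a))⁻¹ := by
      funext j
      by_cases h : j ∈ J <;> simp [mask, h]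
    show e.symm (mask J (e (ι (a * x * a⁻¹)))) 0 = _
    rw [this, map_mul, map_mul, map_inv, e.symm_apply_apply]
    simp [S, hι]
  have hStop : ∀ x, S Finset.univ x = x := by
    intro x
    have : mask Finset.univ (e (ι x)) = e (ι x) := funext fun j => if_pos (Finset.mem_univ j)
    show e.symm (mask Finset.univ (e (ι x))) 0 = x
    rw [this, e.symm_apply_apply, hι]
  have key : ∀ J, Function.Bijective (S J) → ∃ j, Function.Bijective (S {j}) := by
    intro J
    induction J using Finset.induction_on with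
    | empty =>
      intro hb
      haveI := (hA 0).1
      obtain ⟨x, hx⟩ := exists_ne (1 : A 0)
      refine absurd (hb.1 ?_) hx
      have : ∀ y, mask ∅ y = 1 := fun y => funext fun j => by simp [mask]
      show e.symm (mask ∅ (e (ι x))) 0 = e.symm (mask ∅ (e (ι 1))) 0
      rw [this, this]
    | @insert j J hj ihJ =>
      intro hb
      have hsplit : ∀ x, S (insert j J) x = S {j} x * S J x := by
        intro x
        have : mask (insert j J) (e (ι x)) = mask {j} (e (ι x)) * mask J (e (ι x)) := by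
          funext k
          by_cases h : k = j
          · subst h; simp [mask, hj]
          · simp [mask, h]
        show e.symm (mask (insert j J) (e (ι x))) 0 = _
        rw [this, map_mul]; rfl
      rcases bijective_of_mul (hA 0) (hSn {j}) (hSn J) (hSn _) hb hsplit with h | h
      · exact ⟨j, h⟩
      · exact ihJ h
  obtain ⟨j, hj⟩ := key Finset.univ (by
    rw [show (S Finset.univ : A 0 → A 0) = id from funext hStop]; exact Function.bijective_id)
  -- `A 0` is isomorphic to `B j`
  let f : A 0 →* B j := (Pi.evalMonoidHom B j).comp (e.toMonoidHom.comp ι)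
  let g : B j →* A 0 := (Pi.evalMonoidHom A 0).comp (e.symm.toMonoidHom.comp (MonoidHom.mulSingle B j))
  have hgf : ∀ x, g (f x) = S {j} x := by
    intro x
    have : mask {j} (e (ι x)) = Pi.mulSingle j (e (ι x) j) := by
      funext k
      by_cases h : k = j
      · subst h; simp [mask]
      · simp [mask, h]
    show e.symm (Pi.mulSingle j (e (ι x) j)) 0 = e.symm (mask {j} (e (ι x))) 0
    rw [this]
  have hfinj : Function.Injective f := fun x y h => hj.1 (by rw [← hgf, ← hgf, h])
  have hrn : f.range.Normal := ⟨by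
    rintro _ ⟨x, rfl⟩ b
    set z := e.symm (Pi.mulSingle j b) with hz
    refine ⟨z 0 * x * (z 0)⁻¹, ?_⟩
    have h1 : ι (z 0 * x * (z 0)⁻¹) = z * ι x * z⁻¹ := by
      funext i
      by_cases h : i = 0
      · subst h; simp [hι]
      · simp [ι, h]
    show e (ι (z 0 * x * (z 0)⁻¹)) j = _
    rw [h1, map_mul, map_mul, map_inv, hz, e.apply_symm_apply]
    simp [f]⟩
  have hsurj : Function.Surjective f := by
    rcases (hB j).2 _ _ hrn (MonoidHom.normal_ker g) (by
      rw [eq_bot_iff]
      rintro _ ⟨⟨x, rfl⟩, hx⟩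
      have : S {j} x = S {j} 1 := by rw [← hgf, map_one]; exact hx
      rw [hj.1 this, map_one]; exact one_mem _) (by
      rw [eq_top_iff]
      intro b _
      obtain ⟨x, hx⟩ := hj.2 (g b)
      have hb : b = f x * ((f x)⁻¹ * b) := by group
      rw [hb]
      refine mul_mem (Subgroup.mem_sup_left ⟨x, rfl⟩) (Subgroup.mem_sup_right ?_)
      rw [MonoidHom.mem_ker, map_mul, map_inv, hgf, hx, inv_mul_cancel]) with h | h
    · exfalso
      haveI := (hA 0).1
      obtain ⟨x, hx⟩ := exists_ne (1 : A 0)
      refine hx (hfinj ?_)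
      have hm : f x ∈ f.range := ⟨x, rfl⟩
      rw [h, Subgroup.mem_bot] at hm
      rw [hm, map_one]
    · intro b
      obtain ⟨x, hx⟩ := hj.2 (g b)
      exact ⟨x, (MonoidHom.ker_eq_bot_iff g).mp h (by rw [hgf, hx])⟩
  have hiso : Nonempty (A 0 ≃* B j) := ⟨MulEquiv.ofBijective f ⟨hfinj, hsurj⟩⟩
  -- cancel the two factors
  obtain ⟨n, rfl⟩ : ∃ k, n = k + 1 := ⟨n - 1, by have := j.pos; omega⟩
  let emb : ((i : Fin m) → A i.succ) →* ((i : Fin (m + 1)) → A i) :=
    MonoidHom.mk' (fun y => Fin.cons (1 : A 0) y) (fun y z => funext fun i => by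
      refine Fin.cases ?_ (fun i => ?_) i <;> simp)
  let φ : ((i : Fin m) → A i.succ) →* ((k : Fin n) → B (j.succAbove k)) :=
    MonoidHom.mk' (fun y k => e (emb y) (j.succAbove k)) (fun y z => funext fun k => by simp)
  have hφ : Function.Injective φ := by
    rw [injective_iff_map_eq_one]
    intro y hy
    have hey : e (emb y) = Pi.mulSingle j (e (emb y) j) := by
      funext k
      by_cases h : k = j
      · subst h; simp
      · obtain ⟨k, rfl⟩ := Fin.exists_succAbove_eq h
        rw [Pi.mulSingle_eq_of_ne (Fin.succAbove_ne j k)]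
        exact congrFun hy k
    have hg : g (e (emb y) j) = 1 := by
      show e.symm (Pi.mulSingle j (e (emb y) j)) 0 = 1
      rw [← hey, e.symm_apply_apply]; simp [emb]
    obtain ⟨x, hx⟩ := hsurj (e (emb y) j)
    have hx1 : x = 1 := hj.1 (by rw [← hgf, hx, hg, map_one])
    rw [hx1, map_one] at hx
    rw [← hx, Pi.mulSingle_one, ← map_one e] at hey
    funext i
    simpa [emb] using congrFun (e.injective hey) i.succ
  have hcard : Nat.card ((i : Fin m) → A i.succ) = Nat.card ((k : Fin n) → B (j.succAbove k)) := by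
    have h1 := Nat.card_congr e.toEquiv
    rw [Nat.card_pi, Nat.card_pi, Fin.prod_univ_succ, Fin.prod_univ_succAbove _ j,
      Nat.card_congr (MulEquiv.ofBijective f ⟨hfinj, hsurj⟩).toEquiv] at h1
    rw [Nat.card_pi, Nat.card_pi]
    exact Nat.eq_of_mul_eq_mul_left Nat.card_pos h1
  obtain ⟨σ, hσ⟩ := ih n (fun i => A i.succ) (fun k => B (j.succAbove k)) (fun i => hA i.succ) (fun k => hB _)
    (MulEquiv.ofBijective φ ((Nat.bijective_iff_injective_and_card φ).mpr ⟨hφ, hcard⟩))
  refine ⟨(finSuccEquiv' 0).trans (σ.optionCongr.trans (finSuccEquiv' j).symm), fun i => ?_⟩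
  refine Fin.cases ?_ (fun i => ?_) i
  · have : ((finSuccEquiv' 0).trans (σ.optionCongr.trans (finSuccEquiv' j).symm)) 0 = j := by
      simp only [Equiv.trans_apply, finSuccEquiv'_at, Equiv.optionCongr_apply, Option.map_none,
        finSuccEquiv'_symm_none]
    rw [this]
    exact hiso
  · have : ((finSuccEquiv' 0).trans (σ.optionCongr.trans (finSuccEquiv' j).symm)) i.succ = j.succAbove (σ i) := by
      rw [show i.succ = (0 : Fin (m + 1)).succAbove i by simp]
      simp only [Equiv.trans_apply, finSuccEquiv'_succAbove, Equiv.optionCongr_apply, Option.map_some,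
        finSuccEquiv'_symm_some]
    rw [this]
    exact hσ i

/-- If a finite group is isomorphic both to a direct product of `m` directly indecomposable nontrivial groups and to a direct product of `n` such groups (a group is directly indecomposable when it is not the internal direct product of two nontrivial normal subgroups), then `m = n` and the factors are isomorphic in pairs after a suitable matching. -/
theorem result {m n : ℕ} {A : Fin m → Type*} {B : Fin n → Type*} [∀ i, Group (A i)] [∀ j, Group (B j)] [∀ i, Finite (A i)] [∀ j, Finite (B j)] (hA : ∀ i, Nontrivial (A i) ∧ ∀ H K : Subgroup (A i), H.Normal → K.Normal → H ⊓ K = ⊥ → H ⊔ K = ⊤ → H = ⊥ ∨ K = ⊥) (hB : ∀ j, Nontrivial (B j) ∧ ∀ H K : Subgroup (B j), H.Normal → K.Normal → H ⊓ K = ⊥ → H ⊔ K = ⊤ → H = ⊥ ∨ K = ⊥) (e : ((i : Fin m) → A i) ≃* ((j : Fin n) → B j)) : ∃ σ : Fin m ≃ Fin n, ∀ i, Nonempty (A i ≃* B (σ i)) :=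
  main m n A B hA hB e

end Cfsg.Agent.S4223
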