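import Cfsg.Statements.S4226
import Cfsg.Agent.S1972
import Cfsg.Agent.Fusion.Tate
import Cfsg.Agent.Fusion.TransferInduction

set_option autoImplicit false
open Cfsg

namespace Cfsg.Agent.S4226

/-- Let `P` be a Sylow `p`-subgroup of the finite group `G` with nilpotency class less than `p` (the term of index `p - 1` of the lower central series of `P`, indexed from `0`, is trivial), and let `N` be its normalizer. Then `O^p(N) = O^p(G) ∩ N`, where `O^p` denotes the subgroup generated by the elements of order prime to `p`; so the largest `p`-factor groups of `G` and of `N` are isomorphic. -/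
theorem result {G : Type*} [Group G] [Finite G] {p : ℕ} [Fact p.Prime] (P : Sylow p G) (hcl : (P : Subgroup G).lowerCentralSeries (p - 1) = ⊥) : Cfsg.pResidualOf p (Subgroup.normalizer ((P : Subgroup G) : Set G)) = Cfsg.pResidual p G ⊓ Subgroup.normalizer ((P : Subgroup G) : Set G) := by
  let W : ∀ (Q : Type _) [Group Q], Subgroup Q := fun _ _ => ⊤
  have hW : Cfsg.IsCharPFunctor p W :=
    ⟨fun Q _ _ _ _ h => by
      haveI : Nontrivial Q := ‹_›
      exact top_ne_bot h, fun Q R _ _ _ _ e => Subgroup.map_top_of_surjective _ e.surjective⟩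
  have hmono : ∀ {H : Type _} [Group H] (A B : Subgroup H) (n : ℕ), A ≤ B →
      A.lowerCentralSeries n ≤ B.lowerCentralSeries n := by
    intro H _ A B n hAB
    induction n with
    | zero => exact hAB
    | succ n ih => exact Subgroup.commutator_mono ih hAB
  have hid : ∀ {H : Type _} [Group H] (T : Subgroup H), Cfsg.inducedFunctor (G := H) W T = T :=
    fun {H} _ T => by
      change (⊤ : Subgroup T).map T.subtype = T
      rw [← MonoidHom.range_eq_map, Subgroup.range_subtype]
  have hctl : Fusion.Ctl {W} p G := by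
    have hmodel := S1972.result (G := G) W hW ?_
    · haveI : ((⊥ : Subgroup G).subgroupOf ⊤).Normal := by
        rw [Subgroup.bot_subgroupOf]; infer_instance
      exact ((Fusion.ctl_singleton_iff hW).mp (hmodel ⊤ ⊥)).congr
        (((QuotientGroup.quotientMulEquivOfEq (Subgroup.bot_subgroupOf ⊤)).trans
          QuotientGroup.quotientBot).trans Subgroup.topEquiv) (by rintro _ rfl; exact hW)
    intro K R _ _ T hT
    rw [hid] at hT
    have hTQ : ¬ (T : Subgroup (↥K ⧸ R.subgroupOf K)) ≤ Cfsg.pCore p (↥K ⧸ R.subgroupOf K) :=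
      fun hle => hT ((le_antisymm hle (Cores.pCore_le_sylow T)) ▸
        Subgroup.normal_of_characteristic _)
    obtain ⟨g, hg, hgQ⟩ := SetLike.not_le_iff_exists.mp hTQ
    refine ⟨g, hg, hgQ, fun U V _ hU => le_trans ?_ bot_le⟩
    have hTc : (T : Subgroup (↥K ⧸ R.subgroupOf K)).lowerCentralSeries (p - 1) = ⊥ := by
      obtain ⟨R₀, hR₀⟩ := Sylow.mapSurjective_surjective
        (f := QuotientGroup.mk' (R.subgroupOf K)) (QuotientGroup.mk'_surjective _) p T
      obtain ⟨P', hP'⟩ := (R₀.isPGroup'.map K.subtype).exists_le_sylow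
      obtain ⟨x, hx⟩ := MulAction.exists_smul_eq G P P'
      rw [← hR₀, show ((R₀.mapSurjective (QuotientGroup.mk'_surjective (R.subgroupOf K)) :
          Sylow p (↥K ⧸ R.subgroupOf K)) : Subgroup (↥K ⧸ R.subgroupOf K)) =
          (R₀ : Subgroup K).map (QuotientGroup.mk' (R.subgroupOf K)) from rfl,
        ← Subgroup.map_lowerCentralSeries, ← le_bot_iff]
      refine le_of_le_of_eq (Subgroup.map_mono (le_bot_iff.mpr ?_)) (Subgroup.map_bot _)
      rw [← Subgroup.map_eq_bot_iff_of_injective _ K.subtype_injective,
        Subgroup.map_lowerCentralSeries, ← le_bot_iff]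
      refine (hmono _ _ _ hP').trans ?_
      rw [← hx, Fusion.sylow_smul_coe, ← Subgroup.map_lowerCentralSeries, hcl, Subgroup.map_bot]
    rw [← hTc]
    have hiter : ∀ i, Cfsg.iterCommutator U (Subgroup.zpowers g) i ≤
        (T : Subgroup (↥K ⧸ R.subgroupOf K)).lowerCentralSeries i := by
      intro i
      induction i with
      | zero => exact hU.trans (Cores.pCore_le_sylow T)
      | succ i ih => exact Subgroup.commutator_mono ih (Subgroup.zpowers_le.mpr hg)
    exact hiter _
  have hN : commutator G ⊓ (P : Subgroup G) ≤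
      ⁅Subgroup.normalizer ((P : Subgroup G) : Set G), Subgroup.normalizer ((P : Subgroup G) : Set G)⁆ := by
    refine (hctl P).trans (iSup₂_le fun V hV => inf_le_right.trans ?_)
    rw [Set.mem_singleton_iff.mp hV, hid]
  rw [Cfsg.pResidualOf, ← Fusion.tate_of_commutator_eq P Subgroup.le_normalizer hN,
    Subgroup.subgroupOf_map_subtype]

end Cfsg.Agent.S4226
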