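import Cfsg.Statements.S4227
import Cfsg.Agent.Cores.UpperSeries
import Cfsg.Agent.Cores.Constrained
import Cfsg.Agent.S0144
import Cfsg.Agent.PGroups.Basic

set_option autoImplicit false
open Cfsg

namespace Cfsg.Agent.S4227

open Subgroup
open scoped commutatorElement

variable {K : Type*} [Group K] [Finite K]

/-- In exponent dividing `6`, a `2`-element squares to one and a `3`-element cubes to one. -/
theorem eq_one_of_pgroup (h : ∀ x : K, x ^ 6 = 1) {p e : ℕ} (hpe : Nat.Coprime (p ^ e) 6)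
    {x : K} (hx : orderOf x ∣ p ^ e) : x = 1 :=
  orderOf_eq_one_iff.mp (Nat.eq_one_of_dvd_coprimes hpe hx (orderOf_dvd_of_pow_eq_one (h x)))

theorem sq_eq_one (h : ∀ x : K, x ^ 6 = 1) {S : Subgroup K} (hS : IsPGroup 2 S) {x : K}
    (hx : x ∈ S) : x ^ 2 = 1 := by
  obtain ⟨k, hk⟩ := IsPGroup.iff_orderOf.mp hS ⟨x, hx⟩
  rw [Subgroup.orderOf_mk] at hk
  have h6 := orderOf_dvd_of_pow_eq_one (h x)
  rw [hk] at h6
  rw [← orderOf_dvd_iff_pow_eq_one, hk]
  have : 2 ^ k ∣ 2 * 3 := h6
  exact (Nat.Coprime.pow_left k (by norm_num)).dvd_of_dvd_mul_right this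

theorem cube_eq_one (h : ∀ x : K, x ^ 6 = 1) {S : Subgroup K} (hS : IsPGroup 3 S) {x : K}
    (hx : x ∈ S) : x ^ 3 = 1 := by
  obtain ⟨k, hk⟩ := IsPGroup.iff_orderOf.mp hS ⟨x, hx⟩
  rw [Subgroup.orderOf_mk] at hk
  have h6 := orderOf_dvd_of_pow_eq_one (h x)
  rw [hk] at h6
  rw [← orderOf_dvd_iff_pow_eq_one, hk]
  have : 3 ^ k ∣ 2 * 3 := h6
  exact (Nat.Coprime.pow_left k (by norm_num)).dvd_of_dvd_mul_left this

theorem card_form (h : ∀ x : K, x ^ 6 = 1) : ∃ a b : ℕ, Nat.card K = 2 ^ a * 3 ^ b := by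
  have h0 : Nat.card K ≠ 0 := Nat.card_pos.ne'
  refine ⟨(Nat.card K).factorization 2, (Nat.card K / 2 ^ (Nat.card K).factorization 2).primeFactorsList.length, ?_⟩
  conv_lhs => rw [← Nat.ordProj_mul_ordCompl_eq_self (Nat.card K) 2]
  congr 1
  refine Nat.eq_prime_pow_of_unique_prime_dvd (Nat.ordCompl_pos 2 h0).ne' fun {q} hq hqd => ?_
  haveI := Fact.mk hq
  obtain ⟨x, hx⟩ := exists_prime_orderOf_dvd_card' q (hqd.trans (Nat.ordCompl_dvd _ _))
  have h6 : q ∣ 2 * 3 := hx ▸ orderOf_dvd_of_pow_eq_one (h x)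
  rcases (Nat.Prime.dvd_mul hq).mp h6 with h2 | h3
  · rw [(Nat.prime_dvd_prime_iff_eq hq Nat.prime_two).mp h2] at hqd
    exact absurd hqd (Nat.not_dvd_ordCompl Nat.prime_two h0)
  · exact (Nat.prime_dvd_prime_iff_eq hq Nat.prime_three).mp h3

theorem solvable (h : ∀ x : K, x ^ 6 = 1) : Group.IsSolvable K := by
  obtain ⟨a, b, hab⟩ := card_form h
  exact S0144.burnside 2 3 Nat.prime_two Nat.prime_three _ K le_rfl a b hab

theorem pPrimeCore_two_isPGroup (h : ∀ x : K, x ^ 6 = 1) : IsPGroup 3 (pPrimeCore 2 K) := fun x =>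
  ⟨1, by
    have hc : Nat.Coprime (orderOf x) 2 :=
      (Cores.coprime_card_pPrimeCore (p := 2) (G := K)).coprime_dvd_left (orderOf_dvd_natCard x)
    have h6 : orderOf x ∣ 2 * 3 := orderOf_dvd_of_pow_eq_one (Subtype.ext (h x))
    rw [pow_one, ← orderOf_dvd_iff_pow_eq_one]
    exact hc.dvd_of_dvd_mul_left h6⟩

/-- The `2`-length part. -/
theorem key_two (h : ∀ x : K, x ^ 6 = 1) (hc : pPrimeCore 2 K = ⊥) :
    (pCore 2 K).index.Coprime 2 := by
  haveI : Fact (Nat.Prime 2) := ⟨Nat.prime_two⟩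
  haveI := solvable h
  have hC := Cores.centralizer_pCore_le (Cores.isPSolvable_of_isSolvable (p := 2) (G := K)) hc
  obtain ⟨P⟩ : Nonempty (Sylow 2 K) := inferInstance
  have hP : (P : Subgroup K) ≤ pCore 2 K := by
    refine le_trans ?_ hC
    intro x hx
    rw [mem_centralizer_iff]
    intro y hy
    have hy' : y ∈ (P : Subgroup K) := Cores.pCore_le_sylow P hy
    have e1 := sq_eq_one h P.isPGroup' hx
    have e2 := sq_eq_one h P.isPGroup' hy'
    have e3 := sq_eq_one h P.isPGroup' (mul_mem hy' hx)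
    rw [pow_two] at e1 e2 e3
    calc y * x = (y * x)⁻¹ := (eq_inv_of_mul_eq_one_left e3)
      _ = x⁻¹ * y⁻¹ := mul_inv_rev _ _
      _ = x * y := by rw [← eq_inv_of_mul_eq_one_left e1, ← eq_inv_of_mul_eq_one_left e2]
  rw [Nat.coprime_comm, Nat.prime_two.coprime_iff_not_dvd]
  exact fun hd => P.not_dvd_index (hd.trans (index_dvd_of_le hP))

/-- An abelian normal `3`-subgroup on which a Klein four-group, permuted cyclically by an
element `x`, acts, with all `x k v` of order dividing three, is centralised by the four-group. -/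
theorem linear {L : Type*} [Group L] (A : Subgroup L) [A.Normal] [IsMulCommutative A]
    (h3 : ∀ v ∈ A, v ^ 3 = 1) {x a b : L} (hab : a * b = b * a) (ha : a * a = 1) (hb : b * b = 1)
    (hxa : x⁻¹ * a * x = b) (hxb : x⁻¹ * b * x = a * b)
    (hcube : ∀ k ∈ ({1, a, b, a * b} : Set L), ∀ v ∈ A, (v * (x * k)) ^ 3 = 1) :
    ∀ v ∈ A, a * v * a⁻¹ = v⁻¹ → v = 1 := by
  open scoped IsMulCommutative in
  intro v hv hav
  let ρ : L →* MulAut A := MulAut.conjNormal
  set v' : A := ⟨v, hv⟩ with hv'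
  have hinv : ρ a v' = v'⁻¹ := Subtype.ext (by simpa [ρ, hv'] using hav)
  have hS : v' * ρ a v' * ρ b v' * ρ (a * b) v' = 1 := by
    have : ρ (a * b) v' = (ρ b v')⁻¹ := by
      rw [hab, map_mul, MulAut.mul_apply, hinv, map_inv]
    rw [this, hinv]; group
  have key : ∀ k ∈ ({1, a, b, a * b} : Set L), v' * ρ (x * k) v' * ρ ((x * k) * (x * k)) v' = 1 := by
    intro k hk
    have e := hcube k hk v hv
    have e1 := hcube k hk 1 (one_mem _)
    rw [one_mul] at e1
    apply Subtype.ext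
    simp only [ρ, hv', Subgroup.coe_mul, MulAut.conjNormal_apply, Subgroup.coe_one]
    generalize x * k = g at e e1 ⊢
    calc v * (g * v * g⁻¹) * (g * g * v * (g * g)⁻¹) = (v * g) ^ 3 * (g ^ 3)⁻¹ := by
          simp only [pow_succ, pow_zero]; group
      _ = 1 := by rw [e, e1]; group
  have k1 := key 1 (by simp)
  have k2 := key a (by simp)
  have k3 := key b (by simp)
  have k4 := key (a * b) (by simp)
  have s1 : (x * 1) * (x * 1) = x * x := by simp
  have hxab : x⁻¹ * (a * b) * x = a := by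
    calc x⁻¹ * (a * b) * x = (x⁻¹ * a * x) * (x⁻¹ * b * x) := by group
      _ = b * (a * b) := by rw [hxa, hxb]
      _ = a := by rw [hab, ← mul_assoc, hb, one_mul]
  have sq : ∀ k : L, (x * k) * (x * k) = x * x * (x⁻¹ * k * x * k) := fun k => by group
  have s2 : (x * a) * (x * a) = x * x * (a * b) := by rw [sq, hxa, hab]
  have s3 : (x * b) * (x * b) = x * x * a := by rw [sq, hxb, mul_assoc a, hb, mul_one]
  have s4 : (x * (a * b)) * (x * (a * b)) = x * x * b := by
    rw [sq, hxab, ← mul_assoc a, ha, one_mul]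
  rw [mul_one, ← mul_one (x * x)] at k1
  rw [s2] at k2
  rw [s3] at k3
  rw [s4] at k4
  simp only [map_mul, map_one, MulAut.mul_apply, MulAut.one_apply] at k1 k2 k3 k4
  have hprod : v' ^ 4 * ρ x (v' * ρ a v' * ρ b v' * ρ (a * b) v') *
      ρ x (ρ x (v' * ρ a v' * ρ b v' * ρ (a * b) v')) = 1 := by
    simp only [map_mul, MulAut.mul_apply]
    calc _ = (v' * ρ x v' * ρ x (ρ x v')) * (v' * ρ x (ρ a v') * ρ x (ρ x (ρ a (ρ b v')))) *
          (v' * ρ x (ρ b v') * ρ x (ρ x (ρ a v'))) * (v' * ρ x (ρ a (ρ b v')) * ρ x (ρ x (ρ b v'))) := by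
          simp only [pow_succ, pow_zero, one_mul]
          ac_rfl
      _ = 1 := by rw [k1, k2, k3, k4]; simp
  rw [hS, map_one, map_one, mul_one, mul_one] at hprod
  have h4 : v ^ 4 = 1 := congrArg Subtype.val hprod
  calc v = v ^ 4 * (v ^ 3)⁻¹ := by group
    _ = 1 := by rw [h4, h3 v hv, inv_one, mul_one]

/-- The `3`-length part. -/
theorem key_three (h : ∀ x : K, x ^ 6 = 1) (hc : pPrimeCore 3 K = ⊥) :
    (pCore 3 K).index.Coprime 3 := by
  haveI : Fact (Nat.Prime 2) := ⟨Nat.prime_two⟩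
  haveI : Fact (Nat.Prime 3) := ⟨Nat.prime_three⟩
  haveI := solvable h
  set U := pCore 3 K with hU
  have hC : centralizer (U : Set K) ≤ U :=
    Cores.centralizer_pCore_le (Cores.isPSolvable_of_isSolvable (p := 3) (G := K)) hc
  have hUp : IsPGroup 3 U := Cores.pCore_isPGroup
  rw [Nat.coprime_comm, Nat.prime_three.coprime_iff_not_dvd, index_eq_card]
  intro hd
  obtain ⟨t, ht⟩ := exists_prime_orderOf_dvd_card' 3 hd
  set π := QuotientGroup.mk' U
  have hQ : ∀ q : K ⧸ U, q ^ 6 = 1 := fun q => by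
    obtain ⟨q, rfl⟩ := QuotientGroup.mk'_surjective U q
    rw [← map_pow, h q, map_one]
  haveI := solvable hQ
  set W := pCore 2 (K ⧸ U) with hW
  have hWc : centralizer (W : Set (K ⧸ U)) ≤ W := by
    refine Cores.centralizer_pCore_le (Cores.isPSolvable_of_isSolvable (p := 2) (G := K ⧸ U)) ?_
    exact le_bot_iff.mp ((Cores.le_pCore (pPrimeCore_two_isPGroup hQ)).trans Cores.pCore_quotient_pCore.le)
  set M := W.comap π with hM
  obtain ⟨S⟩ : Nonempty (Sylow 2 M) := inferInstance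
  set S' := (S : Subgroup M).map M.subtype with hS'
  have hS'p : IsPGroup 2 S' := S.isPGroup'.map _
  have hmapS : S'.map π = W := by
    refine le_antisymm ((map_mono (map_subtype_le _)).trans (map_comap_le _ _)) ?_
    -- the image of a Sylow subgroup of `M` is a Sylow subgroup of the `2`-group `W`
    intro w hw
    obtain ⟨m, rfl⟩ := QuotientGroup.mk'_surjective U w
    let f : M →* W := (π.comp M.subtype).codRestrict W (fun y => y.2)
    have hf : Function.Surjective f := fun ⟨y, hy⟩ => by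
      obtain ⟨z, rfl⟩ := QuotientGroup.mk'_surjective U y
      exact ⟨⟨z, hy⟩, rfl⟩
    let S'' := S.mapSurjective hf
    have htop : (S'' : Subgroup W) = ⊤ := by
      refine (S''.is_maximal' (Q := ⊤) ?_ le_top).symm
      exact (Cores.pCore_isPGroup (p := 2) (G := K ⧸ U) : IsPGroup 2 W).to_subgroup _
    obtain ⟨y, hy, hye⟩ := (mem_map.mp (show (⟨π m, hw⟩ : W) ∈ (S : Subgroup M).map f from by
      rw [← Sylow.coe_mapSurjective hf S, htop]; trivial))
    exact ⟨(y : K), ⟨y, hy, rfl⟩, congrArg Subtype.val hye⟩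
  obtain ⟨n, hn, hnt⟩ : ∃ n ∈ normalizer (S' : Set K), π n = t := by
    have hN := Sylow.normalizer_sup_eq_top S
    have : (normalizer (S' : Set K)).map π = ⊤ := by
      rw [eq_top_iff, ← map_top_of_surjective π (QuotientGroup.mk'_surjective U), ← hN, Subgroup.map_sup, sup_le_iff]
      refine ⟨le_rfl, (map_comap_le _ _).trans ?_⟩
      rw [← hmapS]
      exact map_mono le_normalizer
    exact mem_map.mp (show t ∈ _ from by rw [this]; trivial)
  set x := n ^ 4 with hx
  have hxN : x ∈ normalizer (S' : Set K) := pow_mem hn 4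
  have hx3 : x ^ 3 = 1 := by rw [hx, ← pow_mul, show 4 * 3 = 6 * 2 by rfl, pow_mul, h, one_pow]
  have hxt : π x = t := by
    rw [hx, map_pow, hnt]
    calc t ^ 4 = t ^ orderOf t * t := by rw [ht]; exact pow_succ t 3
      _ = t := by rw [pow_orderOf_eq_one, one_mul]
  have hconj : ∀ s ∈ S', x⁻¹ * s * x ∈ S' := fun s hs =>
    (Subgroup.mem_normalizer_iff''.mp hxN s).mp hs
  have hcomm : ∀ u ∈ S', ∀ v ∈ S', u * v = v * u := fun u hu v hv => by
    have e1 := sq_eq_one h hS'p hu
    have e2 := sq_eq_one h hS'p hv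
    have e3 := sq_eq_one h hS'p (mul_mem hu hv)
    rw [pow_two] at e1 e2 e3
    calc u * v = (u * v)⁻¹ := (eq_inv_of_mul_eq_one_left e3)
      _ = v⁻¹ * u⁻¹ := mul_inv_rev _ _
      _ = v * u := by rw [← eq_inv_of_mul_eq_one_left e1, ← eq_inv_of_mul_eq_one_left e2]
  have hinv : ∀ u ∈ S', u⁻¹ = u := fun u hu => by
    have := sq_eq_one h hS'p hu; rw [pow_two] at this; exact inv_eq_of_mul_eq_one_right this
  obtain ⟨s, hs, hsx⟩ : ∃ s ∈ S', x⁻¹ * s * x ≠ s := by
    by_contra hall
    push Not at hall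
    have htW : t ∈ W := by
      refine hWc ?_
      rw [mem_centralizer_iff]
      intro w hw
      rw [SetLike.mem_coe, ← hmapS] at hw
      obtain ⟨s, hs, rfl⟩ := hw
      rw [← hxt, ← map_mul, ← map_mul]
      congr 1
      calc s * x = x * (x⁻¹ * s * x) := by group
        _ = x * s := by rw [hall s hs]
    have h2 : t ^ 2 = 1 := sq_eq_one hQ (Cores.pCore_isPGroup (p := 2)) htW
    have := orderOf_dvd_of_pow_eq_one h2
    rw [ht] at this; norm_num at this
  set s1 := x⁻¹ * s * x with hs1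
  have hs1m : s1 ∈ S' := hconj s hs
  set a := s * s1 with ha
  set b := x⁻¹ * a * x with hb
  have ham : a ∈ S' := mul_mem hs hs1m
  have hbm : b ∈ S' := hconj a ham
  have ha2 : a * a = 1 := by rw [← pow_two]; exact sq_eq_one h hS'p ham
  have hb2 : b * b = 1 := by rw [← pow_two]; exact sq_eq_one h hS'p hbm
  have hxb : x⁻¹ * b * x = a * b := by
    set s2 := x⁻¹ * s1 * x with hs2
    have hs3 : x⁻¹ * s2 * x = s := by
      calc x⁻¹ * s2 * x = (x ^ 3)⁻¹ * s * x ^ 3 := by
            rw [hs2, hs1]; simp only [pow_succ, pow_zero]; group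
        _ = s := by rw [hx3]; group
    have hs2m : s2 ∈ S' := hconj s1 hs1m
    have eb : b = s1 * s2 := by rw [hb, ha, hs2, hs1]; group
    have eb' : x⁻¹ * b * x = s2 * s := by
      conv_rhs => rw [← hs3]
      rw [eb, hs2]; group
    rw [eb', eb, ha, mul_assoc s, ← mul_assoc s1, ← pow_two, sq_eq_one h hS'p hs1m, one_mul]
    exact hcomm _ hs2m _ hs
  have ha1 : a ≠ 1 := fun e => hsx (by
    have : s1 = s⁻¹ := eq_inv_of_mul_eq_one_right e
    rw [this, hinv s hs])
  have haU : a ∉ U := fun e => ha1 (by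
    have h3 := cube_eq_one h hUp e
    calc a = a ^ 3 * (a * a)⁻¹ := by simp only [pow_succ, pow_zero]; group
      _ = 1 := by rw [h3, ha2]; group)
  -- `a` acts nontrivially on `U / U'`
  haveI : U.Normal := inferInstanceAs (pCore 3 K).Normal
  set D := ⁅U, U⁆ with hD
  haveI : D.Normal := Subgroup.commutator_normal U U
  set σ := QuotientGroup.mk' D
  haveI : (U.map σ).Normal := ‹U.Normal›.map σ (QuotientGroup.mk'_surjective D)
  haveI : IsMulCommutative (U.map σ) := ⟨⟨by
    rintro ⟨_, u, hu, rfl⟩ ⟨_, v, hv, rfl⟩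
    apply Subtype.ext
    simp only [Subgroup.coe_mul]
    rw [← map_mul, ← map_mul]
    apply QuotientGroup.eq.mpr
    have : ⁅v⁻¹, u⁻¹⁆ ∈ D := commutator_mem_commutator (inv_mem hv) (inv_mem hu)
    simpa [commutatorElement_def, mul_assoc] using this⟩⟩
  have hkill : ∀ u ∈ U, a * u * a⁻¹ * u⁻¹ ∈ D := by
    intro u hu
    have hlin := linear (U.map σ) (x := σ x) (a := σ a) (b := σ b)
      (by rintro _ ⟨u, hu, rfl⟩; rw [← map_pow, cube_eq_one h hUp hu, map_one])
      (by rw [← map_mul, ← map_mul, hcomm _ ham _ hbm]) (by rw [← map_mul, ha2, map_one])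
      (by rw [← map_mul, hb2, map_one]) (by rw [← map_inv, ← map_mul, ← map_mul])
      (by rw [← map_inv, ← map_mul, ← map_mul, hxb, map_mul]) ?_
    · have hm : σ (a * u * a⁻¹ * u⁻¹) = 1 := by
        refine hlin _ ⟨_, mul_mem (‹U.Normal›.conj_mem u hu a) (inv_mem hu), rfl⟩ ?_
        rw [← map_inv, ← map_mul, ← map_mul, ← map_inv]
        congr 1
        have : a⁻¹ = a := inv_eq_of_mul_eq_one_right ha2
        rw [this]
        simp only [mul_inv_rev, inv_inv, this]
        calc a * (a * u * a * u⁻¹) * a = (a * a) * u * a * u⁻¹ * a := by group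
          _ = u * a * u⁻¹ * a := by rw [ha2]; group
          _ = _ := by group
      exact (QuotientGroup.eq_one_iff _).mp hm
    · rintro k hk _ ⟨v, hv, rfl⟩
      have hcube0 : ∀ k ∈ ({1, a, b, a * b} : Set K), ∀ v ∈ U, (v * (x * k)) ^ 3 = 1 := by
        intro k hk v hv
        have e : ∀ g : K, (x * g) ^ 3 = x ^ 3 * ((x⁻¹ * (x⁻¹ * g * x) * x) * (x⁻¹ * g * x) * g) := fun g => by
          simp only [pow_succ, pow_zero]; group
        have hxab : x⁻¹ * (a * b) * x = a := by
          calc x⁻¹ * (a * b) * x = (x⁻¹ * a * x) * (x⁻¹ * b * x) := by group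
            _ = a * (b * b) := by rw [← hb, hxb, ← mul_assoc, hcomm _ hbm _ ham, mul_assoc]
            _ = a := by rw [hb2, mul_one]
        have hk3 : (x * k) ^ 3 = 1 := by
          rcases hk with rfl | rfl | rfl | rfl
          · rw [mul_one, hx3]
          · rw [e, hx3, ← hb, hxb, mul_assoc a, hb2, mul_one, one_mul, ha2]
          · rw [e, hx3, hxb, hxab, ← mul_assoc a, ha2, one_mul, one_mul, hb2]
          · rw [e, hx3, hxab, ← hb, one_mul, hcomm _ hbm _ ham]
            rw [← pow_two]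
            exact sq_eq_one h hS'p (mul_mem ham hbm)
        have hmem : (v * (x * k)) ^ 3 ∈ U := by
          rw [← QuotientGroup.eq_one_iff, QuotientGroup.mk_pow]
          have hv1 : (v : K ⧸ U) = 1 := (QuotientGroup.eq_one_iff v).mpr hv
          rw [QuotientGroup.mk_mul, hv1, one_mul, ← QuotientGroup.mk_pow, hk3, QuotientGroup.mk_one]
        have h3' := cube_eq_one h hUp hmem
        have h2' : ((v * (x * k)) ^ 3) ^ 2 = 1 := by rw [← pow_mul]; exact h _
        calc (v * (x * k)) ^ 3 = ((v * (x * k)) ^ 3) ^ 3 * (((v * (x * k)) ^ 3) ^ 2)⁻¹ := by group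
          _ = 1 := by rw [h3', h2', inv_one, mul_one]
      obtain ⟨k', hk', rfl⟩ : ∃ k' ∈ ({1, a, b, a * b} : Set K), σ k' = k := by
        rcases hk with rfl | rfl | rfl | rfl
        exacts [⟨1, by simp, map_one _⟩, ⟨a, by simp, rfl⟩, ⟨b, by simp, rfl⟩, ⟨a * b, by simp, map_mul _ _ _⟩]
      rw [← map_mul, ← map_mul, ← map_pow, hcube0 k' hk' v hv, map_one]
  -- so `a` centralises `U`, as `U' ≤ Φ(U)`
  let C : Subgroup U := (centralizer ({a} : Set K)).subgroupOf U
  have hCtop : C ⊔ _root_.commutator U = ⊤ := by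
    rw [eq_top_iff]
    rintro ⟨u, hu⟩ -
    set c := u⁻¹ * (a * u * a⁻¹) with hcdef
    have hcD : c ∈ D := by
      have := (inferInstance : D.Normal).conj_mem _ (hkill u hu) u⁻¹
      convert this using 1; rw [hcdef]; group
    have hc3 : c ^ 3 = 1 := cube_eq_one h hUp ((commutator_le_self U) hcD)
    have hac : a * c * a⁻¹ = c⁻¹ := by
      have hi : a⁻¹ = a := inv_eq_of_mul_eq_one_right ha2
      rw [hcdef, hi]
      simp only [mul_inv_rev, inv_inv, hi]
      calc a * (u⁻¹ * (a * u * a)) * a = a * u⁻¹ * a * u * (a * a) := by group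
        _ = _ := by rw [ha2]; group
    -- `u * c^2` is fixed by `a`
    have hfix : a * (u * c ^ 2) * a⁻¹ = u * c ^ 2 := by
      calc a * (u * c ^ 2) * a⁻¹ = (a * u * a⁻¹) * (a * c * a⁻¹) ^ 2 := by
            simp only [pow_succ, pow_zero]; group
        _ = u * c * (c⁻¹) ^ 2 := by rw [hac, hcdef]; group
        _ = u * c ^ 2 * (c ^ 3)⁻¹ := by group
        _ = u * c ^ 2 := by rw [hc3, inv_one, mul_one]
    have hcU : c ∈ U := commutator_le_self U hcD
    have hm1 : (⟨u * c ^ 2, mul_mem hu (pow_mem hcU 2)⟩ : U) ∈ C := by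
      rw [mem_subgroupOf, mem_centralizer_iff]
      rintro y rfl
      exact mul_inv_eq_iff_eq_mul.mp hfix
    have hm2 : (⟨c, hcU⟩ : U) ∈ _root_.commutator U := by
      have hcm : c ∈ (_root_.commutator U).map U.subtype := by
        rwa [_root_.commutator_def, map_commutator, ← MonoidHom.range_eq_map, range_subtype]
      obtain ⟨y, hy, hye⟩ := hcm
      exact (show y = ⟨c, hcU⟩ from Subtype.ext hye) ▸ hy
    have := mul_mem (mem_sup_left (T := _root_.commutator U) hm1) (mem_sup_right (S := C) (inv_mem (pow_mem hm2 2)))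
    convert this using 1
    exact Subtype.ext (by simp)
  haveI : Group.IsNilpotent U := hUp.isNilpotent
  have hC' : C = ⊤ := by
    haveI : Fact (Nat.Prime 3) := ⟨Nat.prime_three⟩
    refine frattini_nongenerating (top_le_iff.mp ?_)
    exact hCtop.symm.le.trans (sup_le_sup_left (PGroups.commutator_le_frattini hUp) C)
  apply haU
  apply hC
  rw [mem_centralizer_iff]
  intro u hu
  have : (⟨u, hu⟩ : U) ∈ C := by rw [hC']; trivial
  rw [mem_subgroupOf, mem_centralizer_iff] at this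
  exact (this a rfl).symm

theorem pLength {G : Type*} [Group G] [Finite G] (p : ℕ) [Fact p.Prime] (h : ∀ x : G, x ^ 6 = 1)
    (key : ∀ (_ : ∀ x : G ⧸ pPrimeCore p G, x ^ 6 = 1), pPrimeCore p (G ⧸ pPrimeCore p G) = ⊥ →
      (pCore p (G ⧸ pPrimeCore p G)).index.Coprime p) : PLengthLE p 1 G := by
  rw [Cores.pLengthLE_one_iff, ← index_eq_card, pPrimePCore,
    index_comap_of_surjective _ (QuotientGroup.mk'_surjective _)]
  refine key (fun q => ?_) Cores.pPrimeCore_quotient_pPrimeCore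
  obtain ⟨q, rfl⟩ := QuotientGroup.mk'_surjective _ q
  rw [← map_pow, h q, map_one]

/-- A finite group in which every element has order dividing `6` has `2`-length at most `1` and `3`-length at most `1`. -/
theorem result {G : Type*} [Group G] [Finite G] (h : ∀ x : G, x ^ 6 = 1) : Cfsg.PLengthLE 2 1 G ∧ Cfsg.PLengthLE 3 1 G := by
  haveI : Fact (Nat.Prime 2) := ⟨Nat.prime_two⟩
  haveI : Fact (Nat.Prime 3) := ⟨Nat.prime_three⟩
  exact ⟨pLength 2 h fun hq hc => key_two hq hc, pLength 3 h fun hq hc => key_three hq hc⟩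

end Cfsg.Agent.S4227
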