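import Cfsg.Statements.S4230
import Cfsg.Agent.Arith.PrimDiv
-- import your own Cfsg.Agent.* helpers here

set_option autoImplicit false
open Cfsg

namespace Cfsg.Agent.S4230

/-- Let p be an odd prime, q a natural number not divisible by p, and e the multiplicative order of q modulo p. For a natural number f, p divides the value at q of the f-th cyclotomic polynomial if and only if f = e·p^j for some j ≥ 0. -/
theorem result (p q f : ℕ) (hp : p.Prime) (hp2 : p ≠ 2) (hpq : ¬ p ∣ q) :
    ((p : ℤ) ∣ (Polynomial.cyclotomic f ℤ).eval (q : ℤ)) ↔ ∃ j : ℕ, f = orderOf (q : ZMod p) * p ^ j := by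
  have := Fact.mk hp
  rcases eq_or_ne f 0 with rfl | hf
  · simp only [Polynomial.cyclotomic_zero, Polynomial.eval_one]
    refine iff_of_false (fun h => hp.ne_one ?_) (fun ⟨j, hj⟩ => ?_)
    · exact Nat.dvd_one.1 (by exact_mod_cast h)
    · have hq : (q : ZMod p) ≠ 0 := fun h => hpq ((ZMod.natCast_eq_zero_iff _ _).1 h)
      have h1 := ZMod.orderOf_dvd_card_sub_one hq
      rcases Nat.mul_eq_zero.1 hj.symm with h | h
      · rw [h, zero_dvd_iff] at h1; have := hp.two_le; omega
      · exact absurd h (pow_ne_zero _ hp.ne_zero)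
  · rw [← Arith.dvd_phiVal_iff_int, Arith.dvd_phiVal_iff hp hf hpq]

end Cfsg.Agent.S4230
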