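import Cfsg.Statements.S4231
import Cfsg.Agent.S2119
import Cfsg.Agent.H77.AutAlt

set_option autoImplicit false
open Cfsg Equiv

namespace Cfsg.Agent.S4231

/-- A `p`-subgroup of `S_n` with `n < p²` is abelian. -/
theorem comm_of_small {n p : ℕ} [Fact p.Prime] (hn : n < p ^ 2) {P : Subgroup (Perm (Fin n))}
    (hP : IsPGroup p P) {x y : Perm (Fin n)} (hx : x ∈ P) (hy : y ∈ P) : x * y = y * x := by
  classical
  have hp : p.Prime := Fact.out
  ext ω : 1
  set O := MulAction.orbit P ω
  let f : P →* Perm O := MulAction.toPermHom P O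
  have hR : IsPGroup p f.range := hP.of_surjective f.rangeRestrict f.rangeRestrict_surjective
  obtain ⟨e, he⟩ := IsPGroup.iff_card.mp hR
  have hOn : Nat.card O ≤ n := by
    refine le_trans (Nat.card_le_card_of_injective _ Subtype.val_injective) ?_
    rw [Nat.card_fin]
  obtain ⟨k, hk⟩ := hP.card_orbit ω
  have hk1 : k ≤ 1 := by
    by_contra h
    have : p ^ 2 ≤ p ^ k := Nat.pow_le_pow_right hp.pos (by omega)
    have : p ^ k ≤ n := hk.symm.le.trans hOn
    omega
  have hdvd : Nat.card f.range ∣ (Nat.card O).factorial := by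
    rw [← Nat.card_perm]; exact Subgroup.card_subgroup_dvd_card _
  have he1 : e ≤ 1 := by
    by_contra h
    have h2 : p ^ 2 ∣ (Nat.card O).factorial := (pow_dvd_pow p (by omega)).trans (he ▸ hdvd)
    rw [hk] at h2
    rcases Nat.le_one_iff_eq_zero_or_eq_one.mp hk1 with rfl | rfl
    · rw [pow_zero, Nat.factorial_one, Nat.dvd_one] at h2
      have := hp.one_lt
      nlinarith
    · rw [pow_one, ← Nat.mul_factorial_pred hp.ne_zero, pow_two] at h2
      exact absurd ((hp.dvd_factorial).mp (Nat.dvd_of_mul_dvd_mul_left hp.pos h2)) (by have := hp.pos; omega)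
  haveI : IsCyclic f.range := by
    rcases Nat.le_one_iff_eq_zero_or_eq_one.mp he1 with rfl | rfl
    · haveI : Subsingleton f.range := (Nat.card_eq_one_iff_unique.mp (by simpa using he)).1
      infer_instance
    · exact isCyclic_of_prime_card (p := p) (by simpa using he)
  letI : CommGroup f.range := IsCyclic.commGroup
  have h := congrArg Subtype.val (mul_comm (⟨f ⟨x, hx⟩, _, rfl⟩ : f.range) ⟨f ⟨y, hy⟩, _, rfl⟩)
  exact congrArg Subtype.val (DFunLike.congr_fun h (⟨ω, MulAction.mem_orbit_self ω⟩ : O))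

/-- Automorphisms of odd order are conjugations. -/
theorem exists_conj_of_odd {n : ℕ} (hn : 5 ≤ n) (φ : MulAut (alternatingGroup (Fin n)))
    (hodd : Odd (orderOf φ)) : ∃ g : Perm (Fin n), MulAut.conjNormal g = φ := by
  classical
  rcases eq_or_ne n 6 with rfl | h6
  swap
  · exact (S2119.result n (by omega) h6).2 φ
  refine H77.AutAlt.exists_conjNormal 6 (by norm_num) φ fun x hx => ?_
  let A := alternatingGroup (Fin 6)
  haveI : Fact (Nat.Prime 3) := ⟨Nat.prime_three⟩
  have h5 : 5 ≤ Nat.card (Fin 6) := by simp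
  have hform : ∀ z : A, orderOf z = 3 → (z : Perm (Fin 6)).IsThreeCycle ∨ (z : Perm (Fin 6)).cycleType = {3, 3} := by
    intro z hz
    rw [← Subgroup.orderOf_coe] at hz
    obtain ⟨k, hk⟩ := Perm.cycleType_prime_order (σ := (z : Perm (Fin 6))) (by rw [hz]; exact Nat.prime_three)
    rw [hz] at hk
    have hs := Perm.sum_cycleType_le (z : Perm (Fin 6))
    rw [hk, Multiset.sum_replicate, Fintype.card_fin, smul_eq_mul] at hs
    rcases (show k = 0 ∨ k = 1 by omega) with rfl | rfl
    · exact Or.inl hk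
    · exact Or.inr hk
  have hT : ∀ {z : A}, (z : Perm (Fin 6)).IsThreeCycle → ¬ (z : Perm (Fin 6)).cycleType = {3, 3} := by
    intro z hz h
    have := congrArg Multiset.card (hz.cycleType.symm.trans h)
    simp at this
  have hord : ∀ {z : A}, (z : Perm (Fin 6)).IsThreeCycle → orderOf z = 3 := fun hz => by
    rw [← Subgroup.orderOf_coe]; exact hz.orderOf
  have hord' : ∀ {z : A}, (z : Perm (Fin 6)).cycleType = {3, 3} → orderOf z = 3 := fun {z} hz => by
    rw [← Subgroup.orderOf_coe, ← Perm.lcm_cycleType, hz]; rfl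
  have hconjA : ∀ (σ : MulAut A) {y y' : A}, IsConj y y' →
      (σ y : Perm (Fin 6)).cycleType = (σ y' : Perm (Fin 6)).cycleType := by
    intro σ y y' h
    obtain ⟨c, hc⟩ := isConj_iff.mp h
    rw [← hc, map_mul, map_mul, map_inv, Subgroup.coe_mul, Subgroup.coe_mul, Subgroup.coe_inv, Perm.cycleType_conj]
  have h33 : ∀ {y y' : A}, (y : Perm (Fin 6)).cycleType = {3, 3} → (y' : Perm (Fin 6)).cycleType = {3, 3} → IsConj y y' := by
    intro y y' hy hy'
    obtain ⟨c, hcc⟩ := isConj_iff.mp (Perm.isConj_iff_cycleType_eq.mpr (hy.trans hy'.symm))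
    have hcen : ¬ Subgroup.centralizer {(y : Perm (Fin 6))} ≤ alternatingGroup (Fin 6) := by
      rw [Perm.centralizer_le_alternating_iff]
      rintro ⟨-, -, h⟩
      have := h 3
      rw [hy] at this
      simp at this
    obtain ⟨z, hz, hzA⟩ := SetLike.not_le_iff_exists.mp hcen
    rw [Subgroup.mem_centralizer_singleton_iff] at hz
    by_cases hcA : c ∈ alternatingGroup (Fin 6)
    · exact isConj_iff.mpr ⟨⟨c, hcA⟩, Subtype.ext hcc⟩
    · rw [Perm.mem_alternatingGroup] at hzA hcA
      have hm : c * z ∈ alternatingGroup (Fin 6) := by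
        rw [Perm.mem_alternatingGroup, map_mul, (Int.units_eq_one_or _).resolve_left hzA,
          (Int.units_eq_one_or _).resolve_left hcA]; decide
      refine isConj_iff.mpr ⟨⟨c * z, hm⟩, Subtype.ext ?_⟩
      simp only [Subgroup.coe_mul, Subgroup.coe_inv, mul_inv_rev]
      calc c * z * y * (z⁻¹ * c⁻¹) = c * (z * y * z⁻¹) * c⁻¹ := by group
        _ = y' := by rw [show z * (y : Perm (Fin 6)) * z⁻¹ = y by rw [hz]; group]; exact hcc
  by_contra hbad
  have hx2 : (φ x : Perm (Fin 6)).cycleType = {3, 3} :=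
    (hform _ (by rw [MulEquiv.orderOf_eq, hord hx])).resolve_left hbad
  -- `φ` interchanges the two classes of elements of order three
  have h12 : ∀ z : A, (z : Perm (Fin 6)).IsThreeCycle → (φ z : Perm (Fin 6)).cycleType = {3, 3} := fun z hz =>
    (hconjA φ (alternatingGroup.isThreeCycle_isConj h5 hx hz)).symm.trans hx2
  have h21 : ∀ z : A, (z : Perm (Fin 6)).cycleType = {3, 3} → (φ z : Perm (Fin 6)).IsThreeCycle := by
    intro z hz
    refine (hform _ (by rw [MulEquiv.orderOf_eq, hord' hz])).resolve_right fun h => ?_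
    -- then `φ z` is conjugate to the image of `x`, so `z` is a three-cycle
    obtain ⟨c, hc⟩ := isConj_iff.mp (h33 hx2 h)
    have hzc : φ.symm c * x * (φ.symm c)⁻¹ = z := φ.injective (by
      rw [map_mul, map_mul, map_inv, MulEquiv.apply_symm_apply, hc])
    have : (z : Perm (Fin 6)).IsThreeCycle := by
      unfold Perm.IsThreeCycle at hx ⊢
      rw [← hzc, Subgroup.coe_mul, Subgroup.coe_mul, Subgroup.coe_inv, Perm.cycleType_conj]
      exact hx
    exact hT this hz
  have hiter : ∀ k : ℕ, (Even k → ((φ ^ k) x : Perm (Fin 6)).IsThreeCycle) ∧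
      (Odd k → ((φ ^ k) x : Perm (Fin 6)).cycleType = {3, 3}) := by
    intro k
    induction k with
    | zero => exact ⟨fun _ => by simpa using hx, fun h => absurd h (by decide)⟩
    | succ k ihk =>
      rw [pow_succ', MulAut.mul_apply]
      refine ⟨fun h => h21 _ (ihk.2 ?_), fun h => h12 _ (ihk.1 ?_)⟩
      · exact Nat.not_even_iff_odd.mp (Nat.even_add_one.mp h)
      · exact Nat.not_odd_iff_even.mp (Nat.odd_add_one.mp h)
  have := (hiter (orderOf φ)).2 hodd
  rw [pow_orderOf_eq_one, MulAut.one_apply] at this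
  exact hT hx this

/-- Odd primes with a nonabelian Sylow subgroup satisfy `p² ≤ n`. -/
theorem sq_le {n p : ℕ} [Fact p.Prime] (hn : 5 ≤ n) (hp2 : p ≠ 2)
    (G : Subgroup (MulAut (alternatingGroup (Fin n)))) (P : Sylow p G)
    (hP : ¬ IsMulCommutative (P : Subgroup G)) : p ^ 2 ≤ n := by
  by_contra hlt
  apply hP
  let ψ : Perm (Fin n) →* MulAut (alternatingGroup (Fin n)) := MulAut.conjNormal
  have hψ : Function.Injective ψ := H77.AutAlt.conjNormal_injective n (by omega)
  set Q := ((P : Subgroup G).map G.subtype).comap ψ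
  have hQ : IsPGroup p Q := (P.isPGroup'.map G.subtype).comap_of_injective ψ hψ
  have hmem : ∀ a : (P : Subgroup G), ∃ g ∈ Q, ψ g = ((a : G) : MulAut _) := by
    intro a
    obtain ⟨k, hk⟩ := IsPGroup.iff_orderOf.mp P.isPGroup' a
    have hodd : Odd (orderOf ((a : G) : MulAut (alternatingGroup (Fin n)))) := by
      rw [Subgroup.orderOf_coe, Subgroup.orderOf_coe, hk]
      exact ((Fact.out : p.Prime).odd_of_ne_two hp2).pow
    obtain ⟨g, hg⟩ := exists_conj_of_odd hn _ hodd
    exact ⟨g, ⟨(a : G), a.2, hg.symm⟩, hg⟩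
  refine ⟨⟨fun a b => ?_⟩⟩
  obtain ⟨g, hg, hga⟩ := hmem a
  obtain ⟨h, hh, hhb⟩ := hmem b
  apply Subtype.ext
  apply Subtype.ext
  simp only [Subgroup.coe_mul]
  rw [← hga, ← hhb, ← map_mul, ← map_mul, comm_of_small (not_le.mp hlt) hQ hg hh]

/-- An element of order `p * q` in the alternating group. -/
theorem exists_orderOf_mul {n p q : ℕ} (hp : p.Prime) (hq : q.Prime) (hpq : p ≠ q) (hq2 : q ≠ 2)
    (hqn : q ^ 2 ≤ n) (hpn : p ≠ 2 → p ^ 2 ≤ n) :
    ∃ g : alternatingGroup (Fin n), orderOf g = p * q := by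
  classical
  have hq3 : 3 ≤ q := by have := hq.two_le; omega
  obtain ⟨m, hsum, hge, hlcm, hsign⟩ : ∃ m : Multiset ℕ, m.sum ≤ n ∧ (∀ a ∈ m, 2 ≤ a) ∧ m.lcm = p * q ∧
      Even (m.sum + Multiset.card m) := by
    rcases eq_or_ne p 2 with rfl | hp2
    · refine ⟨q ::ₘ 2 ::ₘ 2 ::ₘ 0, ?_, ?_, ?_, ?_⟩
      · simp only [Multiset.sum_cons, Multiset.sum_zero]; nlinarith
      · simp [hq.two_le]
      · simp only [Multiset.lcm_cons, Multiset.lcm_zero, lcm_eq_nat_lcm, Nat.lcm_one_right, Nat.lcm_self]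
        rw [Nat.Coprime.lcm_eq_mul ((Nat.coprime_primes hq hp).mpr hpq.symm), mul_comm]
      · obtain ⟨k, hk⟩ := hq.odd_of_ne_two hq2
        exact ⟨k + 4, by simp [hk]; omega⟩
    · refine ⟨p ::ₘ q ::ₘ 0, ?_, ?_, ?_, ?_⟩
      · simp only [Multiset.sum_cons, Multiset.sum_zero]
        have := hpn hp2
        rcases le_total p q with h | h <;> nlinarith
      · simp [hq.two_le, hp.two_le]
      · simp only [Multiset.lcm_cons, Multiset.lcm_zero, lcm_eq_nat_lcm, Nat.lcm_one_right]
        rw [Nat.Coprime.lcm_eq_mul ((Nat.coprime_primes hp hq).mpr hpq)]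
      · obtain ⟨k, hk⟩ := hq.odd_of_ne_two hq2
        obtain ⟨j, hj⟩ := hp.odd_of_ne_two hp2
        exact ⟨k + j + 2, by simp [hk, hj]; omega⟩
  obtain ⟨σ, hσ⟩ := (Perm.exists_with_cycleType_iff (α := Fin n) (m := m)).mpr
    ⟨by rwa [Fintype.card_fin], hge⟩
  refine ⟨⟨σ, ?_⟩, ?_⟩
  · rw [Perm.mem_alternatingGroup, Perm.sign_of_cycleType, hσ, hsign.neg_one_pow]
  · rw [Subgroup.orderOf_mk, ← Perm.lcm_cycleType, hσ, hlcm]

/-- Let n ≥ 5 and let G be a group of automorphisms of the alternating group of degree n containing all inner automorphisms. If p ≠ q are primes and G has no element of order pq, then every Sylow p-subgroup of G is abelian or every Sylow q-subgroup of G is abelian. -/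
theorem result (n : ℕ) (hn : 5 ≤ n) (G : Subgroup (MulAut (alternatingGroup (Fin n))))
    (hG : (MulAut.conj : alternatingGroup (Fin n) →* MulAut (alternatingGroup (Fin n))).range ≤ G)
    (p q : ℕ) [Fact p.Prime] [Fact q.Prime] (hpq : p ≠ q) (h : ∀ g : G, orderOf g ≠ p * q) :
    (∀ P : Sylow p G, IsMulCommutative (P : Subgroup G)) ∨ (∀ Q : Sylow q G, IsMulCommutative (Q : Subgroup G)) := by
  by_contra hno
  push Not at hno
  obtain ⟨⟨P, hP⟩, ⟨Q, hQ⟩⟩ := hno
  have hinj : Function.Injective (MulAut.conj : alternatingGroup (Fin n) →* MulAut (alternatingGroup (Fin n))) := by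
    intro a b e
    refine Subtype.ext (H77.AutAlt.conjNormal_injective n (by omega) ?_)
    refine MulEquiv.ext fun z => Subtype.ext ?_
    have e' := congrArg Subtype.val (DFunLike.congr_fun e z)
    simpa using e'
  have key : ∀ g : alternatingGroup (Fin n), orderOf g ≠ p * q := by
    intro g hg
    refine h ⟨MulAut.conj g, hG ⟨g, rfl⟩⟩ ?_
    rw [Subgroup.orderOf_mk, orderOf_injective _ hinj, hg]
  rcases eq_or_ne q 2 with rfl | hq2
  · have hp2 : p ≠ 2 := hpq
    obtain ⟨g, hg⟩ := exists_orderOf_mul (p := 2) (q := p) Nat.prime_two Fact.out hpq.symm hp2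
      (sq_le hn hp2 G P hP) (fun h => absurd rfl h)
    exact key g (by rw [hg, mul_comm])
  · obtain ⟨g, hg⟩ := exists_orderOf_mul (p := p) (q := q) Fact.out Fact.out hpq hq2
      (sq_le hn hq2 G Q hQ) (fun h => sq_le hn h G P hP)
    exact key g hg

end Cfsg.Agent.S4231
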