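import Cfsg.Statements.S4234
import Cfsg.Agent.H65.PSLThirteen.Basic

set_option autoImplicit false
set_option linter.style.haveILetI false
open Cfsg

namespace Cfsg.Agent.S4234

open Matrix Cfsg.Agent.Linear Cfsg.Agent.Linear.Dickson

/-- The property, carried along an isomorphism. -/
theorem of_equiv {K L : Type*} [Group K] [Group L] (e : K ≃* L)
    (h : ∀ A : Subgroup L, ¬ A.Normal → IsCoatom (Subgroup.normalizer (A : Set L)))
    (A : Subgroup K) (hA : ¬ A.Normal) : IsCoatom (Subgroup.normalizer (A : Set K)) := by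
  have h1 := h (A.map e.toMonoidHom) fun hn => hA (by
    have := hn.comap e.toMonoidHom
    rwa [Subgroup.comap_map_eq_self_of_injective (f := e.toMonoidHom) e.injective] at this)
  rw [← Subgroup.map_equiv_normalizer_eq A e] at h1
  exact (e.mapSubgroup.isCoatom_iff _).mp h1

theorem isCoatom_normalizer_sl (A : Subgroup (Matrix.SpecialLinearGroup (Fin 2) (ZMod 13)))
    (hA : ¬ A.Normal) : IsCoatom (Subgroup.normalizer (A : Set (Matrix.SpecialLinearGroup (Fin 2) (ZMod 13)))) := by
  haveI : Fact (Nat.Prime 13) := ⟨by norm_num⟩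
  have h2 : (2 : ZMod 13) ≠ 0 := by decide +revert
  set f := proj (F := ZMod 13) with hf
  set B := A.map f with hB
  have hfs : Function.Surjective f := proj_surjective
  have hker : ∀ x, f x = 1 → x = 1 ∨ x = -1 := fun x hx =>
    mem_center_SL_two.mp ((QuotientGroup.eq_one_iff x).mp hx)
  have hcent : ∀ g : Matrix.SpecialLinearGroup (Fin 2) (ZMod 13), g * (-1) * g⁻¹ = -1 := fun g => by
    rw [Subgroup.mem_center_iff.mp (mem_center_SL_two.mpr (Or.inr rfl)) g, mul_inv_cancel_right]
  have hBn : ¬ B.Normal := by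
    intro hn
    haveI := isSimpleGroup_PSL_fin (F := ZMod 13) (le_refl 2) fun _ => by rw [Nat.card_zmod]; norm_num
    rcases hn.eq_bot_or_eq_top with h | h
    · refine hA ⟨fun x hx g => ?_⟩
      have hx1 : f x = 1 := Subgroup.mem_bot.mp (h ▸ Subgroup.mem_map_of_mem f hx)
      rcases hker x hx1 with rfl | rfl
      · simp
      · rw [hcent]; exact hx
    · refine hA ⟨fun x hx g => ?_⟩
      obtain ⟨a, ha, hag⟩ : f g ∈ B := h ▸ Subgroup.mem_top _
      rcases hker (a⁻¹ * g) (by rw [map_mul, map_inv, hag, inv_mul_cancel]) with e | e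
      · rw [← inv_mul_eq_one.mp e]
        exact mul_mem (mul_mem ha hx) (inv_mem ha)
      · have hg : g = a * (-1) := by rw [← e, mul_inv_cancel_left]
        have hc := Subgroup.mem_center_iff.mp (mem_center_SL_two.mpr (Or.inr rfl)) x
        rw [hg, show a * (-1) * x * (a * (-1))⁻¹ = a * ((-1) * x * (-1)⁻¹) * a⁻¹ by group, ← hc,
          mul_inv_cancel_right]
        exact mul_mem (mul_mem ha hx) (inv_mem ha)
  have hN : Subgroup.normalizer (A : Set (Matrix.SpecialLinearGroup (Fin 2) (ZMod 13))) =
      (Subgroup.normalizer (B : Set (Matrix.ProjectiveSpecialLinearGroup (Fin 2) (ZMod 13)))).comap f := by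
    refine le_antisymm ((Subgroup.map_le_iff_le_comap).mp (Subgroup.le_normalizer_map f)) fun g hg => ?_
    rw [Subgroup.mem_comap] at hg
    have key : ∀ g, f g ∈ Subgroup.normalizer (B : Set (Matrix.ProjectiveSpecialLinearGroup (Fin 2) (ZMod 13))) →
        ∀ x ∈ A, g * x * g⁻¹ ∈ A := by
      intro g hg x hx
      obtain ⟨a, ha, hag⟩ := (Subgroup.mem_normalizer_iff.mp hg (f x)).mp (Subgroup.mem_map_of_mem f hx)
      rw [← map_inv, ← map_mul, ← map_mul] at hag
      by_cases hm : (-1 : Matrix.SpecialLinearGroup (Fin 2) (ZMod 13)) ∈ A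
      · rcases proj_eq_iff.mp hag with e | e
        · rw [e]; exact ha
        · rw [e, ← mul_neg_one a]; exact mul_mem ha hm
      · have hodd : ∀ y ∈ A, Odd (orderOf y) := by
          intro y hy
          by_contra hev
          rw [Nat.not_odd_iff_even] at hev
          obtain ⟨k, hk⟩ := hev
          have hk0 := orderOf_pos y
          have h1 : (y ^ k) * (y ^ k) = 1 := by rw [← pow_add, ← hk, pow_orderOf_eq_one]
          have h4 : IsScalarTwo ((y ^ k : Matrix.SpecialLinearGroup (Fin 2) (ZMod 13)) :
              Matrix (Fin 2) (Fin 2) (ZMod 13)) := by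
            have h5 := congrArg (fun z : Matrix.SpecialLinearGroup (Fin 2) (ZMod 13) =>
              (z : Matrix (Fin 2) (Fin 2) (ZMod 13))) h1
            simp only [Matrix.SpecialLinearGroup.coe_mul, Matrix.SpecialLinearGroup.coe_one] at h5
            rw [SL_sq_eq, sub_eq_iff_eq_add] at h5
            by_contra hns
            set M := ((y ^ k : Matrix.SpecialLinearGroup (Fin 2) (ZMod 13)) :
              Matrix (Fin 2) (Fin 2) (ZMod 13)) with hM
            by_cases ht : M.trace = 0
            · rw [ht, zero_smul] at h5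
              have := congrFun (congrFun h5 0) 0
              simp only [Matrix.zero_apply, Matrix.add_apply, Matrix.one_apply_eq] at this
              exact h2 (by linear_combination -this)
            · refine hns (isScalarTwo_iff.mpr ⟨M.trace⁻¹ * 2, ?_⟩)
              rw [← smul_smul, two_smul, ← h5, inv_smul_smul₀ ht]
          rcases isScalarTwo_SL_iff.mp h4 with h | h
          · have := orderOf_le_of_pow_eq_one (by omega) h
            omega
          · exact hm (h ▸ pow_mem hy k)
        rcases proj_eq_iff.mp hag with e | e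
        · rw [e]; exact ha
        · exfalso
          have ho : Odd (orderOf (g * x * g⁻¹)) := by
            rw [show g * x * g⁻¹ = MulAut.conj g x from rfl, MulEquiv.orderOf_eq]
            exact hodd x hx
          rw [e] at ho
          have h3 : (-a) ^ (orderOf a * orderOf (-a)) = 1 := by
            rw [mul_comm, pow_mul, pow_orderOf_eq_one, one_pow]
          rw [(((hodd a ha).mul ho)).neg_pow, pow_mul, pow_orderOf_eq_one, one_pow] at h3
          have h6 := congrArg (fun z : Matrix.SpecialLinearGroup (Fin 2) (ZMod 13) =>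
            (z : Matrix (Fin 2) (Fin 2) (ZMod 13)) 0 0) h3
          simp at h6
          exact h2 (by linear_combination -h6)
    refine Subgroup.mem_normalizer_iff.mpr fun x => ⟨key g hg x, fun h => ?_⟩
    have := key g⁻¹ (by rw [map_inv]; exact inv_mem hg) _ h
    rwa [show g⁻¹ * (g * x * g⁻¹) * g⁻¹⁻¹ = x by group] at this
  rw [hN]
  exact H65.PSLThirteen.isCoatom_comap f hfs (H65.PSLThirteen.isCoatom_normalizer_psl (ZMod.card 13) B hBn)

theorem of_factor {K S : Type*} [Group K] [CommGroup S] [Finite K] [Finite S]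
    (h : ∀ A : Subgroup K, ¬ A.Normal → IsCoatom (Subgroup.normalizer (A : Set K)))
    (hKS : (Nat.card K).Coprime (Nat.card S)) (H : Subgroup (K × S)) (hH : ¬ H.Normal) :
    IsCoatom (Subgroup.normalizer (H : Set (K × S))) := by
  set A := H.map (MonoidHom.fst K S) with hA
  have hmem : ∀ x : K × S, x ∈ H ↔ x.1 ∈ A ∧ ((1 : K), x.2) ∈ H := by
    intro x
    have split : ∀ y ∈ H, (y.1, (1 : S)) ∈ H ∧ ((1 : K), y.2) ∈ H := by
      intro y hy
      obtain ⟨c, hc⟩ : ∃ c : ℕ, y ^ c = (y.1, (1 : S)) := by
        obtain ⟨c, hc1, hc2⟩ := Nat.chineseRemainder hKS 1 0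
        refine ⟨c, Prod.ext ?_ ?_⟩
        · rw [Prod.pow_fst, ← pow_one y.1, ← pow_mul, one_mul]
          exact pow_eq_pow_iff_modEq.mpr (hc1.of_dvd (orderOf_dvd_natCard y.1))
        · rw [Prod.pow_snd]
          exact orderOf_dvd_iff_pow_eq_one.mp ((orderOf_dvd_natCard y.2).trans
            (Nat.modEq_zero_iff_dvd.mp hc2))
      have h1 : (y.1, (1 : S)) ∈ H := hc ▸ pow_mem hy c
      refine ⟨h1, ?_⟩
      have := mul_mem (inv_mem h1) hy
      rwa [show (y.1, (1 : S))⁻¹ * y = ((1 : K), y.2) from Prod.ext (inv_mul_cancel _) (by simp)] at this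
    constructor
    · exact fun hx => ⟨⟨x, hx, rfl⟩, (split x hx).2⟩
    · rintro ⟨⟨y, hy, hyx⟩, h2⟩
      have := mul_mem (split y hy).1 h2
      rwa [show (y.1, (1 : S)) * ((1 : K), x.2) = x from Prod.ext (by simpa using hyx) (one_mul _)] at this
  have hN : Subgroup.normalizer (H : Set (K × S)) =
      (Subgroup.normalizer (A : Set K)).comap (MonoidHom.fst K S) := by
    ext g
    have e : ∀ x : K × S, g * x * g⁻¹ = (g.1 * x.1 * g.1⁻¹, x.2) := fun x =>
      Prod.ext rfl (by rw [Prod.snd_mul, Prod.snd_mul, Prod.snd_inv, mul_comm g.2, mul_inv_cancel_right])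
    rw [Subgroup.mem_comap, Subgroup.mem_normalizer_iff, Subgroup.mem_normalizer_iff]
    constructor
    · intro hg k
      have := hg (k, 1)
      rw [e, hmem, hmem (g.1 * k * g.1⁻¹, (1 : S))] at this
      simpa [H.one_mem, show ((1 : K), (1 : S)) = 1 from rfl] using this
    · intro hg x
      rw [e, hmem x, hmem (g.1 * x.1 * g.1⁻¹, x.2)]
      exact and_congr_left fun _ => hg x.1
  rw [hN]
  refine H65.PSLThirteen.isCoatom_comap _ (fun k => ⟨(k, 1), rfl⟩) (h A fun hn => hH ?_)
  rw [← Subgroup.normalizer_eq_top_iff] at hn ⊢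
  rw [hN, hn, Subgroup.comap_top]

/-- Let K be isomorphic to PSL(2, 13) or to SL(2, 13) and let S be a finite abelian group of order coprime to the order of K. Then in the direct product K × S every subgroup that is not normal has a normalizer that is a maximal subgroup. -/
theorem result {K S : Type*} [Group K] [CommGroup S] [Finite K] [Finite S]
    (hK : Nonempty (K ≃* Matrix.ProjectiveSpecialLinearGroup (Fin 2) (ZMod 13)) ∨
      Nonempty (K ≃* Matrix.SpecialLinearGroup (Fin 2) (ZMod 13)))
    (hKS : (Nat.card K).Coprime (Nat.card S)) (H : Subgroup (K × S)) (hH : ¬ H.Normal) :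
    IsCoatom (Subgroup.normalizer (H : Set (K × S))) := by
  haveI : Fact (Nat.Prime 13) := ⟨by norm_num⟩
  refine of_factor ?_ hKS H hH
  rcases hK with ⟨⟨e⟩⟩ | ⟨⟨e⟩⟩
  · exact of_equiv e fun A => H65.PSLThirteen.isCoatom_normalizer_psl (ZMod.card 13) A
  · exact of_equiv e isCoatom_normalizer_sl

end Cfsg.Agent.S4234
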