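import Cfsg.Statements.S4236
import Cfsg.Agent.S0713
import Cfsg.Agent.H78.SylowFactors
import Cfsg.Agent.H78.SylowFifteen

set_option autoImplicit false
open Cfsg

namespace Cfsg.Agent.S4236

open Equiv Subgroup

universe u

/-- The permutations of a cycle commuting with it either fix its support pointwise or permute it. -/
theorem mapsTo_support {α : Type*} [Fintype α] [DecidableEq α] {c y : Perm α} (hcy : Commute c y)
    {z : α} (hz : z ∈ y.support) : c z ∈ y.support := by
  rw [Perm.mem_support] at hz ⊢
  intro h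
  apply hz
  apply c.injective
  calc c (y z) = y (c z) := DFunLike.congr_fun hcy.eq z
    _ = c z := h

theorem simple_case {S : Type u} [Group S] [Finite S] [IsSimpleGroup S]
    (hn : Nat.card (Sylow 17 S) = 35) : False := by
  classical
  haveI : Fact (Nat.Prime 17) := ⟨by norm_num⟩
  haveI : Fintype (Sylow 17 S) := Fintype.ofFinite _
  have hcard : Fintype.card (Sylow 17 S) = 35 := by rw [← Nat.card_eq_fintype_card, hn]
  haveI : Nontrivial (Sylow 17 S) := Fintype.one_lt_card_iff_nontrivial.mp (by omega)
  let φ := MulAction.toPermHom S (Sylow 17 S)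
  have hφa : ∀ g (Q : Sylow 17 S), φ g Q = g • Q := fun g Q => rfl
  have hφ : Function.Injective φ := by
    rcases IsSimpleGroup.eq_bot_or_eq_top_of_normal φ.ker inferInstance with h | h
    · exact (MonoidHom.ker_eq_bot_iff φ).mp h
    · exfalso
      obtain ⟨Q, Q', hQ⟩ := exists_pair_ne (Sylow 17 S)
      obtain ⟨g, hg⟩ := MulAction.exists_smul_eq S Q Q'
      have : φ g = 1 := MonoidHom.mem_ker.mp (h ▸ mem_top g)
      exact hQ (by rw [← hg, ← hφa, this]; rfl)
  obtain ⟨P₀⟩ : Nonempty (Sylow 17 S) := inferInstance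
  set H := MulAction.stabilizer S P₀
  have hH : H = normalizer ((P₀ : Subgroup S) : Set S) := Sylow.stabilizer_eq_normalizer P₀
  have hHidx : H.index = 35 := by
    rw [MulAction.index_stabilizer_of_transitive S P₀, hn]
  have hPH : (P₀ : Subgroup S) ≤ H := by rw [hH]; exact le_normalizer
  -- primitivity
  haveI : MulAction.IsPreprimitive S (Sylow 17 S) := by
    rw [← MulAction.isCoatom_stabilizer_iff_preprimitive S P₀]
    refine ⟨fun h => ?_, fun M hM => ?_⟩
    · have : H.index = 1 := by rw [show H = ⊤ from h, index_top]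
      omega
    have hPM : (P₀ : Subgroup S) ≤ M := hPH.trans hM.le
    have h1 := H78.card_sylow_eq_relIndex_of_le M P₀ hPM
    have h2 := card_sylow_modEq_one 17 M
    rw [h1, ← hH] at h2
    have h3 := relIndex_mul_index hM.le
    rw [hHidx] at h3
    have h4 : H.relIndex M ≠ 1 := fun e => hM.not_ge (relIndex_eq_one.mp e)
    have h5 : H.relIndex M ∣ 35 := Dvd.intro _ h3
    have h6 := Nat.le_of_dvd (by norm_num) h5
    have h7 : H.relIndex M = 35 := by
      unfold Nat.ModEq at h2
      interval_cases h : H.relIndex M <;> simp_all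
    rw [h7] at h3
    exact index_eq_one.mp (by omega)
  -- the Sylow subgroup as a group of permutations
  have hPc : ∀ x y : S, x ∈ (P₀ : Subgroup S) → y ∈ (P₀ : Subgroup S) → Commute (φ x) (φ y) := by
    intro x y hx hy
    obtain ⟨e, he⟩ := IsPGroup.iff_card.mp P₀.isPGroup'
    have hd : Nat.card (P₀ : Subgroup S) ∣ Nat.card (Perm (Sylow 17 S)) :=
      (card_subgroup_dvd_card _).trans (card_dvd_of_injective φ hφ)
    rw [Nat.card_perm, hn] at hd
    have he2 : e ≤ 2 := by
      by_contra h
      have h' : 17 ^ 3 ∣ Nat.factorial 35 :=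
        (pow_dvd_pow 17 (show 3 ≤ e by omega)).trans (he ▸ hd)
      revert h'; decide +kernel
    haveI : IsMulCommutative (P₀ : Subgroup S) := by
      rcases (show e = 0 ∨ e = 1 ∨ e = 2 by omega) with rfl | rfl | rfl
      · haveI : Subsingleton (P₀ : Subgroup S) := (Nat.card_eq_one_iff_unique.mp (by simpa using he)).1
        exact ⟨⟨fun a b => Subsingleton.elim _ _⟩⟩
      · haveI : IsCyclic (P₀ : Subgroup S) := isCyclic_of_prime_card (p := 17) (by simpa using he)
        letI : CommGroup (P₀ : Subgroup S) := IsCyclic.commGroup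
        exact ⟨⟨fun a b => mul_comm a b⟩⟩
      · exact ⟨⟨fun a b => IsPGroup.commGroupOfCardEqPrimeSq (p := 17) he |>.mul_comm a b⟩⟩
    exact (show Commute x y from congrArg Subtype.val (mul_comm' (⟨x, hx⟩ : (P₀ : Subgroup S)) ⟨y, hy⟩)).map φ
  -- no nontrivial element of `P₀` fixes another point
  have hsemi : ∀ x ∈ (P₀ : Subgroup S), ∀ Q, Q ≠ P₀ → x • Q = Q → x = 1 := by
    intro x hx Q hQ hxQ
    by_contra hx1
    have hfP : φ x P₀ = P₀ := MulAction.mem_stabilizer_iff.mp (hPH hx)
    have hpx : φ x ≠ 1 := fun e => hx1 (hφ (e.trans (map_one φ).symm))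
    have hsub : (φ x).support ⊆ ({P₀, Q} : Finset (Sylow 17 S))ᶜ := by
      intro R hR
      rw [Finset.mem_compl, Finset.mem_insert, Finset.mem_singleton]
      rintro (rfl | rfl)
      · exact Perm.mem_support.mp hR hfP
      · exact Perm.mem_support.mp hR hxQ
    have hle : (φ x).support.card ≤ 33 := by
      refine (Finset.card_le_card hsub).trans ?_
      rw [Finset.card_compl, hcard, Finset.card_pair hQ.symm]
    obtain ⟨k, hk⟩ := IsPGroup.iff_orderOf.mp P₀.isPGroup' ⟨x, hx⟩
    rw [Subgroup.orderOf_mk, ← orderOf_injective φ hφ x] at hk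
    have hall : ∀ m ∈ (φ x).cycleType, m = 17 := by
      intro m hm
      have h1 : m ∣ 17 ^ k := hk ▸ Perm.dvd_of_mem_cycleType hm
      have h2 : m ≤ 33 := (Perm.le_card_support_of_mem_cycleType hm).trans hle
      obtain ⟨j, -, rfl⟩ := (Nat.dvd_prime_pow (by norm_num)).mp h1
      have h3 := Perm.two_le_of_mem_cycleType hm
      rcases (show j = 0 ∨ j = 1 ∨ 2 ≤ j by omega) with rfl | rfl | h
      · simp at h3
      · simp
      · have := Nat.pow_le_pow_right (show 0 < 17 by norm_num) h; omega
    have hrep := Multiset.eq_replicate_card.mpr hall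
    have hs := (φ x).sum_cycleType
    rw [hrep, Multiset.sum_replicate, smul_eq_mul] at hs
    have hc1 : Multiset.card (φ x).cycleType = 1 := by
      have : Multiset.card (φ x).cycleType ≠ 0 := by
        rw [Ne, Multiset.card_eq_zero, Perm.cycleType_eq_zero]; exact hpx
      omega
    have hcyc : (φ x).IsCycle := Perm.card_cycleType_eq_one.mp hc1
    have hsupp : (φ x).support.card = 17 := by omega
    -- Jordan: the alternating group is contained in the image
    haveI : MulAction.IsPreprimitive φ.range (Sylow 17 S) := by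
      let f : Sylow 17 S →ₑ[(φ.rangeRestrict : S → φ.range)] Sylow 17 S := ⟨id, fun g Q => rfl⟩
      exact MulAction.IsPreprimitive.of_surjective (f := f) Function.surjective_id
    have hA : alternatingGroup (Sylow 17 S) ≤ φ.range :=
      S0713.result φ.range inferInstance (p := 17) (by norm_num) (by omega) (by omega) hcyc hsupp ⟨x, rfl⟩
    -- a three-cycle fixing `P₀` moving one point of the cycle
    obtain ⟨s, hs0⟩ : (φ x).support.Nonempty := Finset.card_pos.mp (by omega)
    have hs' : s ≠ P₀ := fun e => Perm.mem_support.mp (e ▸ hs0) hfP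
    obtain ⟨a, b, ha, hb, hab⟩ : ∃ a b, a ∈ ((φ x).supportᶜ.erase P₀) ∧ b ∈ ((φ x).supportᶜ.erase P₀) ∧ a ≠ b := by
      have : 1 < ((φ x).supportᶜ.erase P₀).card := by
        rw [Finset.card_erase_of_mem (Finset.mem_compl.mpr (fun h => Perm.mem_support.mp h hfP)),
          Finset.card_compl, hcard]
        omega
      obtain ⟨a, ha, b, hb, hab⟩ := Finset.one_lt_card.mp this
      exact ⟨a, b, ha, hb, hab⟩
    rw [Finset.mem_erase, Finset.mem_compl] at ha hb
    have hsa : s ≠ a := fun e => ha.2 (e ▸ hs0)
    have hsb : s ≠ b := fun e => hb.2 (e ▸ hs0)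
    set c := Equiv.swap s a * Equiv.swap s b with hc
    have hcA : c ∈ alternatingGroup (Sylow 17 S) := by
      rw [Perm.mem_alternatingGroup, hc, map_mul, Perm.sign_swap hsa, Perm.sign_swap hsb]; decide
    obtain ⟨g, hg⟩ := hA hcA
    have hgH : g ∈ H := by
      rw [MulAction.mem_stabilizer_iff, ← hφa, hg, hc, Perm.mul_apply,
        Equiv.swap_apply_of_ne_of_ne hs'.symm hb.1.symm, Equiv.swap_apply_of_ne_of_ne hs'.symm ha.1.symm]
    have hy : g * x * g⁻¹ ∈ (P₀ : Subgroup S) := by
      rw [hH] at hgH; exact (mem_normalizer_iff.mp hgH x).mp hx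
    have hcom := hPc x (g * x * g⁻¹) hx hy
    rw [map_mul, map_mul, map_inv, hg] at hcom
    -- the conjugate moves a point outside the support
    set y := c * φ x * c⁻¹ with hyd
    have hcs : c s = b := by
      rw [hc, Perm.mul_apply, Equiv.swap_apply_left, Equiv.swap_apply_of_ne_of_ne hsb.symm hab.symm]
    have hmem : ∀ z, z ∈ y.support ↔ c⁻¹ z ∈ (φ x).support := by
      intro z
      simp only [hyd, Perm.mem_support, Perm.mul_apply, Ne]
      rw [Equiv.Perm.eq_inv_iff_eq]
    have hby : b ∈ y.support := by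
      rw [hmem, ← hcs]; simpa using hs0
    obtain ⟨r, hr, hrs⟩ : ∃ r ∈ (φ x).support, r ≠ s :=
      Finset.exists_mem_ne (by omega) s
    have hra : r ≠ a := fun e => ha.2 (e ▸ hr)
    have hrb : r ≠ b := fun e => hb.2 (e ▸ hr)
    have hry : r ∈ y.support := by
      have hcr : c r = r := by
        rw [hc, Perm.mul_apply, Equiv.swap_apply_of_ne_of_ne hrs hrb, Equiv.swap_apply_of_ne_of_ne hrs hra]
      rw [hmem, show c⁻¹ r = r from Perm.inv_eq_iff_eq.mpr hcr.symm]
      exact hr
    -- the support of `y` is invariant under `φ x`, so contains the whole cycle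
    have hsub' : (φ x).support ⊆ y.support := by
      intro z hz
      obtain ⟨i, rfl⟩ := hcyc.exists_pow_eq (Perm.mem_support.mp hr) (Perm.mem_support.mp hz)
      exact mapsTo_support (hcom.pow_left i) hry
    have hycard : y.support.card = (φ x).support.card := by rw [hyd, Perm.card_support_conj]
    have := Finset.eq_of_subset_of_card_le hsub' hycard.le
    exact hb.2 (this ▸ hby)
  -- the prime 17 divides the order
  obtain ⟨x, hx, hx1⟩ : ∃ x ∈ (P₀ : Subgroup S), x ≠ 1 := by
    by_contra h
    push Not at h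
    have hbot : (P₀ : Subgroup S) = ⊥ := (Subgroup.eq_bot_iff_forall _).mpr h
    have : H = ⊤ := by rw [hH, hbot, normalizer_eq_top]
    rw [this, index_top] at hHidx
    omega
  have horbit : ∀ Q, Q ≠ P₀ → Nat.card (MulAction.orbit (zpowers x) Q) = 17 := by
    intro Q hQ
    have hp : IsPGroup 17 (zpowers x) := P₀.isPGroup'.to_le (zpowers_le.mpr hx)
    obtain ⟨k, hk⟩ := hp.card_orbit Q
    have hle : Nat.card (MulAction.orbit (zpowers x) Q) ≤ 35 := by
      rw [← hn]; exact Nat.card_le_card_of_injective _ Subtype.val_injective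
    rw [hk] at hle ⊢
    rcases (show k = 0 ∨ k = 1 ∨ 2 ≤ k by omega) with rfl | rfl | h
    · exfalso
      rw [pow_zero, Nat.card_eq_one_iff_exists] at hk
      obtain ⟨q, hq⟩ := hk
      have := (hq ⟨x • Q, ⟨⟨x, mem_zpowers x⟩, rfl⟩⟩).trans (hq ⟨Q, MulAction.mem_orbit_self Q⟩).symm
      exact hx1 (hsemi x hx Q hQ (congrArg Subtype.val this))
    · rfl
    · have := Nat.pow_le_pow_right (show 0 < 17 by norm_num) h; omega
  -- 2-elements centralising `P₀` are trivial
  have hC : ∀ t : S, (∃ j, orderOf t = 2 ^ j) → t ∈ centralizer ((P₀ : Subgroup S) : Set S) → t = 1 := by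
    intro t ⟨j, hj⟩ htc
    have htP : t • P₀ = P₀ := Sylow.smul_eq_iff_mem_normalizer.mpr (centralizer_le_normalizer _ htc)
    have hcomm : ∀ z ∈ zpowers x, Commute t z := fun z hz =>
      (mem_centralizer_iff.mp htc z (zpowers_le.mpr hx hz)).symm
    have hfix1 : ∀ Q : Sylow 17 S, t • Q ∈ MulAction.orbit (zpowers x) Q → t • Q = Q := by
      rintro Q ⟨⟨z, hz⟩, e⟩
      change z • Q = t • Q at e
      have hiter : ∀ m : ℕ, t ^ m • Q = z ^ m • Q := by
        intro m
        induction m with
        | zero => simp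
        | succ m ih =>
          rw [pow_succ, mul_smul, ← e, ← mul_smul, ((hcomm z hz).pow_left m).eq, mul_smul, ih,
            ← mul_smul, ← pow_succ']
      have h0 := hiter (2 ^ j)
      rw [← hj, pow_orderOf_eq_one, one_smul, hj] at h0
      rcases eq_or_ne Q P₀ with rfl | hQ
      · exact htP
      have hz1 : z ^ 2 ^ j = 1 := hsemi _ (pow_mem (zpowers_le.mpr hx hz) _) Q hQ h0.symm
      obtain ⟨k, hk⟩ := IsPGroup.iff_orderOf.mp P₀.isPGroup' ⟨z, zpowers_le.mpr hx hz⟩
      rw [Subgroup.orderOf_mk] at hk
      have : z = 1 := orderOf_eq_one_iff.mp (Nat.eq_one_of_dvd_coprimes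
        (Nat.Coprime.pow k j (by norm_num : Nat.Coprime 17 2)) (hk ▸ dvd_rfl) (orderOf_dvd_of_pow_eq_one hz1))
      rw [← e, this, one_smul]
    have htwo : ∀ Q, t • Q ≠ Q → ∀ R, R ∈ MulAction.orbit (zpowers x) Q ∨ R ∈ MulAction.orbit (zpowers x) (t • Q) ∨ R = P₀ := by
      intro Q hQ R
      by_contra hR
      push Not at hR
      obtain ⟨hR1, hR2, hR3⟩ := hR
      have hQ0 : Q ≠ P₀ := fun e => hQ (e ▸ htP)
      have hQ0' : t • Q ≠ P₀ := fun e => hQ0 (by
        have := congrArg (fun T => t⁻¹ • T) (e.trans htP.symm); simpa using this)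
      have hd : Disjoint (MulAction.orbit (zpowers x) Q).toFinset (MulAction.orbit (zpowers x) (t • Q)).toFinset := by
        rw [Finset.disjoint_left]
        intro z hz hz'
        rw [Set.mem_toFinset] at hz hz'
        refine hQ (hfix1 Q ?_)
        rw [← MulAction.orbit_eq_iff.mpr hz, MulAction.orbit_eq_iff.mpr hz']
        exact MulAction.mem_orbit_self _
      have hd' : Disjoint ((MulAction.orbit (zpowers x) Q).toFinset ∪ (MulAction.orbit (zpowers x) (t • Q)).toFinset)
          {P₀, R} := by
        have hP₀ : ∀ T, T ≠ P₀ → P₀ ∉ MulAction.orbit (zpowers x) T := by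
          rintro T hT ⟨⟨z, hz⟩, e⟩
          change z • T = P₀ at e
          have hzP : z • P₀ = P₀ := hPH (zpowers_le.mpr hx hz)
          exact hT (by have := congrArg (fun T => z⁻¹ • T) (e.trans hzP.symm); simpa using this)
        rw [Finset.disjoint_right]
        intro z hz
        simp only [Finset.mem_insert, Finset.mem_singleton] at hz
        simp only [Finset.mem_union, Set.mem_toFinset, not_or]
        rcases hz with rfl | rfl
        exacts [⟨hP₀ Q hQ0, hP₀ _ hQ0'⟩, ⟨hR1, hR2⟩]
      have h := Finset.card_le_univ ((MulAction.orbit (zpowers x) Q).toFinset ∪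
        (MulAction.orbit (zpowers x) (t • Q)).toFinset ∪ {P₀, R})
      rw [Finset.card_union_of_disjoint hd', Finset.card_union_of_disjoint hd, Finset.card_pair (Ne.symm hR3),
        Set.toFinset_card, Set.toFinset_card, ← Nat.card_eq_fintype_card, ← Nat.card_eq_fintype_card,
        horbit Q hQ0, horbit _ hQ0', hcard] at h
      omega
    by_contra ht1
    obtain ⟨Q, hQ⟩ : ∃ Q, t • Q ≠ Q := by
      by_contra h
      push Not at h
      exact ht1 (hφ (by rw [map_one]; exact Equiv.ext h))
    -- `t` has no further fixed point and squares to the identity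
    have hall : ∀ R, R ≠ P₀ → t • R ≠ R := by
      intro R hR hfix
      rcases htwo Q hQ R with ⟨⟨z, hz⟩, e⟩ | ⟨⟨z, hz⟩, e⟩ | h
      · apply hQ
        change z • Q = R at e
        have : t • z • Q = z • Q := by rw [e]; exact hfix
        rw [← mul_smul, (hcomm z hz).eq, mul_smul] at this
        exact smul_left_cancel z this
      · apply hQ
        change z • t • Q = R at e
        have : t • z • t • Q = z • t • Q := by rw [e]; exact hfix
        rw [← mul_smul, (hcomm z hz).eq, mul_smul] at this
        exact smul_left_cancel t (smul_left_cancel z this)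
      · exact hR h
    have hsq : ∀ R : Sylow 17 S, t • t • R = R := by
      intro R
      rcases eq_or_ne R P₀ with rfl | hR
      · rw [htP, htP]
      rcases htwo R (hall R hR) (t • t • R) with h | h | h
      · by_contra hne
        have h2 : (t * t) • R ∈ MulAction.orbit (zpowers x) R := by rw [mul_smul]; exact h
        obtain ⟨⟨z, hz⟩, e⟩ := h2
        change z • R = (t * t) • R at e
        -- the same argument for `t * t`
        have hiter : ∀ m : ℕ, (t * t) ^ m • R = z ^ m • R := by
          intro m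
          induction m with
          | zero => simp
          | succ m ih =>
            rw [pow_succ, mul_smul, ← e, ← mul_smul, (((hcomm z hz).mul_left (hcomm z hz)).pow_left m).eq,
              mul_smul, ih, ← mul_smul, ← pow_succ']
        have h0 := hiter (2 ^ j)
        rw [← pow_two, ← pow_mul, mul_comm, pow_mul, ← hj, pow_orderOf_eq_one, one_pow, one_smul, hj] at h0
        have hz1 : z ^ 2 ^ j = 1 := hsemi _ (pow_mem (zpowers_le.mpr hx hz) _) R hR h0.symm
        obtain ⟨k, hk⟩ := IsPGroup.iff_orderOf.mp P₀.isPGroup' ⟨z, zpowers_le.mpr hx hz⟩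
        rw [Subgroup.orderOf_mk] at hk
        have : z = 1 := orderOf_eq_one_iff.mp (Nat.eq_one_of_dvd_coprimes
          (Nat.Coprime.pow k j (by norm_num : Nat.Coprime 17 2)) (hk ▸ dvd_rfl) (orderOf_dvd_of_pow_eq_one hz1))
        rw [this, one_smul, mul_smul] at e
        exact hne e.symm
      · exact absurd (hfix1 (t • R) h) (fun e => hall R hR (smul_left_cancel t e))
      · exfalso
        apply hR
        have : t • t • R = t • t • P₀ := by rw [h, htP, htP]
        exact smul_left_cancel t (smul_left_cancel t this)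
    have hord : orderOf (φ t) = 2 := by
      refine orderOf_eq_prime ?_ (fun e => ht1 (hφ (e.trans (map_one φ).symm)))
      refine Equiv.ext fun R => ?_
      rw [pow_two, Perm.mul_apply, Perm.one_apply]
      exact hsq R
    have hsupp : (φ t).support = {P₀}ᶜ := by
      ext R
      rw [Perm.mem_support, Finset.mem_compl, Finset.mem_singleton]
      exact ⟨fun h e => h (e ▸ htP), fun h => hall R h⟩
    refine H78.false_of_involution (G := S) ?_ φ t hord 8 (by rw [hsupp, Finset.card_compl, hcard, Finset.card_singleton])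
    have h35 : H.index ≤ Nat.card S := Nat.le_of_dvd Nat.card_pos (index_dvd_card H)
    omega
  -- a Sylow 2-subgroup normalising `P₀`
  have h17 : 17 ∣ Nat.card S := by
    obtain ⟨k, hk⟩ := IsPGroup.iff_orderOf.mp P₀.isPGroup' ⟨x, hx⟩
    rw [Subgroup.orderOf_mk] at hk
    have : k ≠ 0 := by rintro rfl; exact hx1 (orderOf_eq_one_iff.mp (by simpa using hk))
    exact (dvd_pow_self 17 this).trans (hk ▸ orderOf_dvd_natCard x)
  have h35S : 35 ≤ Nat.card S := hHidx ▸ Nat.le_of_dvd Nat.card_pos (index_dvd_card H)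
  have hnormal : ∀ {q : ℕ} [Fact q.Prime] (T : Sylow q S), q ∣ Nat.card S →
      normalizer ((T : Subgroup S) : Set S) ≤ centralizer ((T : Subgroup S) : Set S) → False := by
    intro q _ T hq hle
    refine H78.false_of_normalizer_le_centralizer T hq (fun e => ?_) hle
    obtain ⟨k, hk⟩ := IsPGroup.iff_card.mp T.isPGroup'
    rw [e] at hk
    have h17' : 17 = q := (Nat.prime_dvd_prime_iff_eq (by norm_num) Fact.out).mp
      ((Fact.out : Nat.Prime 17).dvd_of_dvd_pow (hk ▸ h17))
    have h5 : 5 ∣ 17 ^ k := h17' ▸ hk ▸ (dvd_trans ⟨7, hHidx.trans (by norm_num)⟩ (index_dvd_card H))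
    exact absurd ((Nat.prime_five).dvd_of_dvd_pow h5) (by norm_num)
  by_cases h2 : 2 ∣ Nat.card S
  · haveI := Fact.mk Nat.prime_two
    obtain ⟨T₀⟩ : Nonempty (Sylow 2 H) := inferInstance
    have hT₀ : ¬ 2 ∣ ((T₀ : Subgroup H).map H.subtype).index := by
      rw [index_map_subtype, Nat.prime_two.dvd_mul, hHidx]
      exact not_or.mpr ⟨T₀.not_dvd_index, by norm_num⟩
    let T : Sylow 2 S := (T₀.isPGroup'.map H.subtype).toSylow hT₀
    have hT : (T : Subgroup S) ≤ H := by
      rw [IsPGroup.toSylow_coe]; exact map_subtype_le _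
    -- `T` embeds in the automorphisms of a subgroup of order 17
    have hTN : (T : Subgroup S) ≤ normalizer ((P₀ : Subgroup S) : Set S) := hH ▸ hT
    have hP17 : Nat.card (P₀ : Subgroup S) = 17 := by
      obtain ⟨e, he⟩ := IsPGroup.iff_card.mp P₀.isPGroup'
      -- `P₀` acts semiregularly, so its order is that of an orbit
      obtain ⟨Q, hQ⟩ := exists_ne P₀
      obtain ⟨k, hk⟩ := P₀.isPGroup'.card_orbit Q
      have hle : Nat.card (MulAction.orbit (P₀ : Subgroup S) Q) ≤ 35 := by
        rw [← hn]; exact Nat.card_le_card_of_injective _ Subtype.val_injective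
      have hbot : MulAction.stabilizer (P₀ : Subgroup S) Q = ⊥ :=
        (Subgroup.eq_bot_iff_forall _).mpr fun z hz => Subtype.ext (hsemi z z.2 Q hQ hz)
      have hc := Nat.card_congr (MulAction.orbitEquivQuotientStabilizer (P₀ : Subgroup S) Q)
      rw [← index_eq_card, hbot, index_bot] at hc
      rw [hc] at hk hle
      rw [he] at hle ⊢
      rcases (show e = 0 ∨ e = 1 ∨ 2 ≤ e by omega) with rfl | rfl | h
      · exfalso
        rw [pow_zero] at he
        exact hx1 (mem_bot.mp (card_eq_one.mp he ▸ hx))
      · rfl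
      · have := Nat.pow_le_pow_right (show 0 < 17 by norm_num) h; omega
    haveI : IsCyclic (P₀ : Subgroup S) := isCyclic_of_prime_card hP17
    haveI : IsCyclic (MulAut (P₀ : Subgroup S)) := by
      haveI : IsCyclic (ZMod (Nat.card (P₀ : Subgroup S)))ˣ := by rw [hP17]; infer_instance
      exact isCyclic_of_injective (IsCyclic.mulAutMulEquiv (P₀ : Subgroup S)).toMonoidHom
        (IsCyclic.mulAutMulEquiv (P₀ : Subgroup S)).injective
    have hinj : Function.Injective ((P₀ : Subgroup S).normalizerMonoidHom.comp (inclusion hTN)) := by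
      rw [injective_iff_map_eq_one]
      intro z hz
      have hzC : (z : S) ∈ centralizer ((P₀ : Subgroup S) : Set S) := by
        have : inclusion hTN z ∈ (P₀ : Subgroup S).normalizerMonoidHom.ker := hz
        rw [normalizerMonoidHom_ker] at this
        exact this
      obtain ⟨j, hj⟩ := IsPGroup.iff_orderOf.mp T.isPGroup' z
      exact Subtype.ext (hC z ⟨j, by rw [Subgroup.orderOf_coe, hj]⟩ hzC)
    have hTc : IsCyclic (T : Subgroup S) := isCyclic_of_injective _ hinj
    have hmin : (Nat.card S).minFac = 2 := (Nat.minFac_eq_two_iff _).mpr h2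
    exact hnormal T h2 (IsCyclic.normalizer_le_centralizer hmin hTc)
  · -- odd order: `P₀` is central in its normalizer
    refine hnormal P₀ h17 fun g hg => ?_
    rw [mem_centralizer_iff]
    intro y hy
    have hP17 : ∀ z ∈ (P₀ : Subgroup S), z ^ 17 = 1 := by
      intro z hz
      obtain ⟨Q, hQ⟩ := exists_ne P₀
      obtain ⟨k, hk⟩ := (P₀.isPGroup'.to_le (zpowers_le.mpr hz)).card_orbit Q
      have hle : Nat.card (MulAction.orbit (zpowers z) Q) ≤ 35 := by
        rw [← hn]; exact Nat.card_le_card_of_injective _ Subtype.val_injective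
      have hbot : MulAction.stabilizer (zpowers z) Q = ⊥ :=
        (Subgroup.eq_bot_iff_forall _).mpr fun w hw =>
          Subtype.ext (hsemi w (zpowers_le.mpr hz w.2) Q hQ hw)
      have hc := Nat.card_congr (MulAction.orbitEquivQuotientStabilizer (zpowers z) Q)
      rw [← index_eq_card, hbot, index_bot, Nat.card_zpowers] at hc
      rw [hc] at hk hle
      rw [← orderOf_dvd_iff_pow_eq_one, hk]
      rw [hk] at hle
      rcases (show k ≤ 1 ∨ 2 ≤ k by omega) with h | h
      · exact (pow_dvd_pow 17 h).trans (by norm_num)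
      · have := Nat.pow_le_pow_right (show 0 < 17 by norm_num) h; omega
    -- `g` fixes or permutes the cyclic group `P₀` by an automorphism of `2`-power order
    obtain ⟨k, hk, hN⟩ := H78.card_normalizer_dvd (P₀ : Subgroup S)
    have hPcard : Nat.card (P₀ : Subgroup S) = 17 := by
      obtain ⟨Q, hQ⟩ := exists_ne P₀
      obtain ⟨e, he⟩ := P₀.isPGroup'.card_orbit Q
      have hle : Nat.card (MulAction.orbit (P₀ : Subgroup S) Q) ≤ 35 := by
        rw [← hn]; exact Nat.card_le_card_of_injective _ Subtype.val_injective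
      have hbot : MulAction.stabilizer (P₀ : Subgroup S) Q = ⊥ :=
        (Subgroup.eq_bot_iff_forall _).mpr fun z hz => Subtype.ext (hsemi z z.2 Q hQ hz)
      have hc := Nat.card_congr (MulAction.orbitEquivQuotientStabilizer (P₀ : Subgroup S) Q)
      rw [← index_eq_card, hbot, index_bot] at hc
      rw [hc] at he hle
      rw [he] at hle ⊢
      rcases (show e = 0 ∨ e = 1 ∨ 2 ≤ e by omega) with rfl | rfl | h
      · exfalso
        rw [pow_zero] at he
        exact hx1 (mem_bot.mp (card_eq_one.mp he ▸ hx))
      · rfl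
      · have := Nat.pow_le_pow_right (show 0 < 17 by norm_num) h; omega
    haveI : IsCyclic (P₀ : Subgroup S) := isCyclic_of_prime_card hPcard
    rw [IsCyclic.card_mulAut, hPcard, Nat.totient_prime (by norm_num)] at hk
    have hk1 : k = 1 := by
      refine Nat.eq_one_of_dvd_coprimes ?_ (show k ∣ 2 ^ 4 from hk)
        ((Dvd.intro _ hN.symm).trans (card_subgroup_dvd_card _))
      exact (Nat.Prime.coprime_iff_not_dvd Nat.prime_two).mpr h2 |>.pow_left 4
    rw [hk1, one_mul] at hN
    have heq := Subgroup.eq_of_le_of_card_ge (centralizer_le_normalizer _) hN.le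
    rw [← heq] at hg
    exact mem_centralizer_iff.mp hg y hy

/-- No finite group has exactly 35 Sylow 17-subgroups. -/
theorem result {G : Type*} [Group G] [Finite G] : Nat.card (Sylow 17 G) ≠ 35 := by
  haveI : Fact (Nat.Prime 17) := ⟨by norm_num⟩
  intro hn
  obtain ⟨l, hl, hgood⟩ := H78.goodFactors_card_sylow G 17
  rw [hn] at hl
  have hone : ∀ m ∈ l, m = 1 := by
    intro m hm
    have hdvd : m ∣ 35 := hl ▸ List.dvd_prod hm
    have hle := Nat.le_of_dvd (by norm_num) hdvd
    rcases hgood m hm with ⟨hpp, hmod⟩ | ⟨S, hG, hF, hS, rfl⟩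
    · obtain ⟨q, k, hq, -, rfl⟩ := hpp
      have hq' : q.Prime := Nat.prime_iff.mpr hq
      have h35 : q ^ k ≠ 35 := by
        intro h
        have h5 := (Nat.prime_dvd_prime_iff_eq Nat.prime_five hq').mp
          (Nat.prime_five.dvd_of_dvd_pow (h.symm ▸ by norm_num : 5 ∣ q ^ k))
        have h7 := (Nat.prime_dvd_prime_iff_eq (by norm_num) hq').mp
          ((by norm_num : Nat.Prime 7).dvd_of_dvd_pow (h.symm ▸ by norm_num : 7 ∣ q ^ k))
        omega
      generalize q ^ k = m at hdvd hle hmod h35 ⊢
      interval_cases m <;> omega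
    · have hmod := card_sylow_modEq_one 17 S
      have hne : Nat.card (Sylow 17 S) ≠ 35 := fun h => simple_case h
      unfold Nat.ModEq at hmod
      generalize Nat.card (Sylow 17 S) = m at hdvd hle hmod hne ⊢
      interval_cases m <;> first | omega | exact absurd rfl hne
  rw [List.prod_eq_one hone] at hl
  omega

end Cfsg.Agent.S4236
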