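import Cfsg.Statements.S4237
import Cfsg.Agent.H62.Kulakoff
-- import your own Cfsg.Agent.* helpers here

set_option autoImplicit false
open Cfsg

namespace Cfsg.Agent.S4237

/-- Let G be a finite group, p a prime and a a natural number such that p^(a+1) divides the order of G. Then the number of subgroups of G of order p^a is congruent to 1 or to 1 + p modulo p². -/
theorem result {G : Type*} [Group G] [Finite G] (p a : ℕ) (hp : p.Prime) (hdvd : p ^ (a + 1) ∣ Nat.card G) :
    Nat.card {H : Subgroup G // Nat.card H = p ^ a} ≡ 1 [MOD p ^ 2] ∨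
      Nat.card {H : Subgroup G // Nat.card H = p ^ a} ≡ 1 + p [MOD p ^ 2] := by
  haveI : Fact p.Prime := ⟨hp⟩
  have h := H62.SubsetSquare.card_subgroups_modEq_sq (G := G) p a hp hdvd
  set u := Nat.card {L : Subgroup G // Nat.card L = p ^ (a + 1) ∧ ¬ IsCyclic L} with hu
  have key : (u ≡ 0 [MOD p]) ∨ (u ≡ 1 [MOD p]) := by
    rcases eq_or_ne p 2 with rfl | hp2
    · exact Nat.mod_two_eq_zero_or_one u
    by_cases hc : IsCyclic (default : Sylow p G)
    · left
      rw [hu, H62.Kulakoff.card_noncyclic_eq_zero _ default hc]
    cases a with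
    | zero =>
      left
      haveI : IsEmpty {L : Subgroup G // Nat.card L = p ^ (0 + 1) ∧ ¬ IsCyclic L} :=
        ⟨fun L => L.2.2 (isCyclic_of_prime_card (by simpa using L.2.1))⟩
      rw [hu, Nat.card_of_isEmpty]
    | succ b =>
      right
      exact H62.Kulakoff.card_noncyclic_modEq_one hp2 b hdvd default hc
  rcases key with hk | hk
  · left
    refine h.trans ?_
    have := Nat.ModEq.mul_left' p hk
    rw [← sq, mul_zero] at this
    simpa using this.add_left 1
  · right
    refine h.trans ?_
    have := Nat.ModEq.mul_left' p hk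
    rw [← sq, mul_one] at this
    exact this.add_left 1

end Cfsg.Agent.S4237
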