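import Cfsg.Statements.S4238
import Cfsg.Agent.Fusion.Frobenius
import Cfsg.Agent.Cores.PCore
import Cfsg.Agent.PGroups.Basic

set_option autoImplicit false
open Cfsg

namespace Cfsg.Agent.S4238

open Subgroup

/-- The final configuration: a fixed-point-free element of prime order on an elementary abelian
`p`-group gives a group with trivial `O_{p'}` whose exponent is not an element order. -/
theorem config {K : Type*} [Group K] [Finite K] {p q : ℕ} (hp : p.Prime) (hq : q.Prime)
    (hne : p ≠ q) (V : Subgroup K) [V.Normal] [IsMulCommutative V] (t : K)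
    (hV : ∀ v ∈ V, v ^ p = 1) (hV1 : V ≠ ⊥) (htV : t ∉ V) (htq : t ^ q = 1)
    (hgen : ∀ k : K, ∃ v ∈ V, ∃ i : ℕ, k = v * t ^ i)
    (hfix : ∀ v ∈ V, t * v = v * t → v = 1) :
    pPrimeCore p K = ⊥ ∧ ∀ k : K, orderOf k ≠ Monoid.exponent K := by
  have houter : ∀ k : K, k ∉ V → (∀ v ∈ V, v * k = k * v → v = 1) ∧ k ^ q = 1 := by
    intro k hk
    obtain ⟨v, hv, i, rfl⟩ := hgen k
    have hi : ¬ q ∣ i := by
      rintro ⟨j, rfl⟩
      exact hk (by rw [pow_mul, htq, one_pow, mul_one]; exact hv)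
    have hcomm : ∀ w ∈ V, w * (v * t ^ i) = v * t ^ i * w → w = 1 := by
      intro w hw e
      have e2 : w * v = v * w := congrArg Subtype.val (mul_comm' (⟨w, hw⟩ : V) ⟨v, hv⟩)
      rw [← mul_assoc, e2, mul_assoc, mul_assoc] at e
      have e3 : Commute (t ^ i) w := (mul_left_cancel e).symm
      obtain ⟨j, hj⟩ := Nat.exists_mul_mod_eq_one_of_coprime
        ((Nat.Prime.coprime_iff_not_dvd hq).mpr hi).symm hq.one_lt
      have e4 : Commute ((t ^ i) ^ j) w := e3.pow_left j
      have e5 : (t ^ i) ^ j = t := by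
        rw [← pow_mul]
        conv_rhs => rw [← pow_one t]
        rw [pow_eq_pow_iff_modEq]
        have ho : orderOf t = q := (Nat.dvd_prime hq).mp (orderOf_dvd_of_pow_eq_one htq)
          |>.resolve_left (fun e => htV (by rw [orderOf_eq_one_iff.mp e]; exact one_mem V))
        rw [ho]
        unfold Nat.ModEq
        rw [Nat.mod_eq_of_lt hq.one_lt]; exact hj.2
      rw [e5] at e4
      exact hfix w hw e4
    refine ⟨hcomm, hcomm _ ?_ (Commute.self_pow _ q).eq.symm⟩
    rw [← QuotientGroup.eq_one_iff, QuotientGroup.mk_pow, QuotientGroup.mk_mul,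
      (QuotientGroup.eq_one_iff v).mpr hv, one_mul, ← QuotientGroup.mk_pow, ← pow_mul, mul_comm i q,
      pow_mul, htq, one_pow, QuotientGroup.mk_one]
  obtain ⟨v, hv, hv1⟩ := V.ne_bot_iff_exists_ne_one.mp hV1 |> fun ⟨⟨v, hv⟩, h⟩ =>
    (⟨v, hv, fun e => h (Subtype.ext e)⟩ : ∃ v ∈ V, v ≠ 1)
  refine ⟨?_, fun k hk => ?_⟩
  · rw [eq_bot_iff]
    intro n hn
    have hVp : IsPGroup p V := fun x => ⟨1, by rw [pow_one]; exact Subtype.ext (hV x x.2)⟩
    haveI := Fact.mk hp
    have hdis : Disjoint V (pPrimeCore p K) :=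
      disjoint_iff.mpr (Cores.disjoint_of_isPGroup_of_coprime hVp Cores.coprime_card_pPrimeCore)
    have hcom := Subgroup.commute_of_normal_of_disjoint V (pPrimeCore p K) inferInstance inferInstance hdis v n hv hn
    by_cases hnV : n ∈ V
    · exact disjoint_def.mp hdis hnV hn
    · exact absurd ((houter n hnV).1 v hv hcom.eq) hv1
  · have hop : orderOf v = p := by
      rcases (Nat.dvd_prime hp).mp (orderOf_dvd_of_pow_eq_one (hV v hv)) with h | h
      exacts [absurd (orderOf_eq_one_iff.mp h) hv1, h]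
    have hoq : orderOf t = q := by
      rcases (Nat.dvd_prime hq).mp (orderOf_dvd_of_pow_eq_one htq) with h | h
      exacts [absurd (orderOf_eq_one_iff.mp h ▸ one_mem V) htV, h]
    have h1 : p ∣ orderOf k := hk ▸ hop ▸ Monoid.order_dvd_exponent v
    have h2 : q ∣ orderOf k := hk ▸ hoq ▸ Monoid.order_dvd_exponent t
    by_cases hkV : k ∈ V
    · exact hne ((Nat.prime_dvd_prime_iff_eq hq hp).mp (h2.trans (orderOf_dvd_of_pow_eq_one (hV k hkV)))).symm
    · exact hne ((Nat.prime_dvd_prime_iff_eq hp hq).mp (h1.trans (orderOf_dvd_of_pow_eq_one (houter k hkV).2)))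

variable {G : Type*} [Group G] [Finite G] {p : ℕ} [Fact p.Prime]

/-- A unipotent automorphism of coprime order is trivial. -/
theorem fix_of_unipotent {H : Type*} [Group H] {g x m : H} (hm : g * m = m * g) (hx : g * x * g⁻¹ = x * m)
    {q : ℕ} (hq : g ^ q * x = x * g ^ q) {P : Subgroup H} (hP : IsPGroup p P) (hmP : m ∈ P)
    (hpq : q.Coprime p) : m = 1 := by
  have key : ∀ i : ℕ, g ^ i * x = x * m ^ i * g ^ i := by
    intro i
    induction i with
    | zero => simp
    | succ i ih =>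
      have hmi : g * m ^ i = m ^ i * g := (Commute.pow_right (show Commute g m from hm) i).eq
      calc g ^ (i + 1) * x = g * (g ^ i * x) := by rw [pow_succ']; group
        _ = g * x * g⁻¹ * (g * m ^ i) * g ^ i := by rw [ih]; group
        _ = x * m * (m ^ i * g) * g ^ i := by rw [hx, hmi]
        _ = x * m ^ (i + 1) * g ^ (i + 1) := by rw [pow_succ' m, pow_succ' g]; group
  have h1 := key q
  rw [hq] at h1
  have h2 : m ^ q = 1 := mul_left_cancel (a := x) (by rw [mul_one]; exact (mul_right_cancel h1).symm)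
  obtain ⟨k, hk⟩ := IsPGroup.iff_orderOf.mp hP ⟨m, hmP⟩
  rw [Subgroup.orderOf_mk] at hk
  exact orderOf_eq_one_iff.mp (Nat.eq_one_of_dvd_coprimes (hpq.symm.pow_left k) (by rw [← hk])
    (orderOf_dvd_of_pow_eq_one h2))

theorem bad_section (hG : ¬ HasNormalPComplement p G) :
    ∃ (H : Subgroup G) (N : Subgroup H) (_ : N.Normal), pPrimeCore p (H ⧸ N) = ⊥ ∧
      ∀ k : H ⧸ N, orderOf k ≠ Monoid.exponent (H ⧸ N) := by
  classical
  have hp : p.Prime := Fact.out
  obtain ⟨P⟩ : Nonempty (Sylow p G) := inferInstance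
  let Bad : Subgroup G → G → Prop := fun Q g => IsPGroup p Q ∧ g ∈ normalizer (Q : Set G) ∧
    (orderOf g).Coprime p ∧ g ∉ centralizer (Q : Set G)
  obtain ⟨Q₀, g₀, hb₀⟩ : ∃ Q g, Bad Q g := by
    by_contra hnot
    exact hG ((Fusion.frobenius_criterion P).mpr fun Q hQ g hg hgp => by
      by_contra hc
      exact hnot ⟨Q, g, P.isPGroup'.to_le hQ, hg, hgp, hc⟩)
  obtain ⟨⟨Q₁, g⟩, hb₁, hming⟩ := Set.exists_min_image {z : Subgroup G × G | Bad z.1 z.2}
    (fun z => orderOf z.2) (Set.toFinite _) ⟨(Q₀, g₀), hb₀⟩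
  obtain ⟨Q, hb, hminQ⟩ := Set.exists_min_image {Q : Subgroup G | Bad Q g}
    (fun Q => Nat.card Q) (Set.toFinite _) ⟨Q₁, hb₁⟩
  obtain ⟨hQp, hgN, hgp, hgC⟩ := hb
  have hg1 : g ≠ 1 := fun e => hgC (e ▸ one_mem _)
  obtain ⟨q, hq, hqg⟩ := Nat.exists_prime_and_dvd (fun e => hg1 (orderOf_eq_one_iff.mp e))
  have hpq : p ≠ q := fun e => hp.not_dvd_one (by
    have := Nat.dvd_gcd (e ▸ hqg) (dvd_refl p); rwa [hgp] at this)
  have hgq : ∀ x ∈ Q, g ^ q * x = x * g ^ q := by
    have : g ^ q ∈ centralizer (Q : Set G) := by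
      by_contra hc
      have := hming (Q, g ^ q) ⟨hQp, pow_mem hgN q,
        hgp.coprime_dvd_left (orderOf_pow_dvd q), hc⟩
      simp only [orderOf_pow, Nat.gcd_eq_right hqg] at this
      exact absurd this (not_le.mpr (Nat.div_lt_self (orderOf_pos g) hq.one_lt))
    exact fun x hx => (mem_centralizer_iff.mp this x hx).symm
  have hqp : q.Coprime p := (Nat.coprime_primes hq hp).mpr hpq.symm
  have hsmall : ∀ R : Subgroup G, R < Q → (∀ x ∈ R, g * x * g⁻¹ ∈ R) → ∀ x ∈ R, g * x = x * g := by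
    intro R hR hinv x hx
    by_contra hne
    refine absurd (hminQ R ⟨hQp.to_le hR.le, ?_, hgp, fun hc => hne (mem_centralizer_iff.mp hc x hx).symm⟩)
      (not_le.mpr ?_)
    · rw [mem_normalizer_iff_map_conj_eq]
      refine Subgroup.eq_of_le_of_card_ge ?_ (card_map_of_injective (MulAut.conj g).injective).ge
      rintro _ ⟨y, hy, rfl⟩; exact hinv y hy
    · exact Set.Finite.card_lt_card (Set.toFinite _) hR
  -- `M = Φ(Q)`
  set M := (frattini Q).map Q.subtype with hMdef
  have hMQ : M ≤ Q := map_subtype_le _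
  have hQinv : ∀ x ∈ Q, g * x * g⁻¹ ∈ Q := fun x hx => (mem_normalizer_iff.mp hgN x).mp hx
  have hMn : ∀ h ∈ normalizer (Q : Set G), ∀ x ∈ M, h * x * h⁻¹ ∈ M := by
    rintro h hh _ ⟨x, hx, rfl⟩
    let e : Q ≃* Q :=
      { toFun := fun y => ⟨h * y * h⁻¹, (mem_normalizer_iff.mp hh y).mp y.2⟩
        invFun := fun y => ⟨h⁻¹ * y * h, by
          have := (mem_normalizer_iff.mp (inv_mem hh) y).mp y.2; rwa [inv_inv] at this⟩
        left_inv := fun y => Subtype.ext (by simp [mul_assoc])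
        right_inv := fun y => Subtype.ext (by simp [mul_assoc])
        map_mul' := fun y z => Subtype.ext (by simp [mul_assoc]) }
    haveI : (frattini Q).Characteristic := frattini_characteristic
    exact ⟨e x, (characteristic_iff_map_eq.mp ‹_› e).le (mem_map_of_mem _ hx), rfl⟩
  have hQne : Q ≠ ⊥ := fun e => hgC (by
    rw [e, mem_centralizer_iff]; intro x hx; rw [SetLike.mem_coe, mem_bot] at hx; simp [hx])
  have hMlt : M < Q := by
    refine lt_of_le_of_ne hMQ fun e => ?_
    haveI : Nontrivial Q := (Subgroup.nontrivial_iff_ne_bot Q).mpr hQne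
    have hf : frattini Q = ⊤ := map_injective Q.subtype_injective
      (by rw [← hMdef, e, ← MonoidHom.range_eq_map, range_subtype])
    have : (⊥ : Subgroup Q) = ⊤ := frattini_nongenerating (by rw [hf, bot_sup_eq])
    exact bot_ne_top this
  have hgM : ∀ x ∈ M, g * x = x * g := hsmall M hMlt (hMn g hgN)
  -- `g` centralises the invariant proper subgroups above `M`, and moves `Q` modulo `M`
  have hfix : ∀ x ∈ Q, x⁻¹ * (g * x * g⁻¹) ∈ M → g * x = x * g := by
    intro x hx hm
    have := fix_of_unipotent (hgM _ hm) (show g * x * g⁻¹ = x * (x⁻¹ * (g * x * g⁻¹)) by group)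
      (hgq x hx) hQp (hMQ hm) hqp
    exact mul_inv_eq_iff_eq_mul.mp (inv_mul_eq_one.mp this).symm
  have hcommM : ∀ x ∈ Q, ∀ y ∈ Q, x⁻¹ * y⁻¹ * x * y ∈ M := by
    intro x hx y hy
    refine ⟨⟨x, hx⟩⁻¹ * ⟨y, hy⟩⁻¹ * ⟨x, hx⟩ * ⟨y, hy⟩, PGroups.commutator_le_frattini hQp ?_, rfl⟩
    have := commutator_mem_commutator (mem_top (⟨x, hx⟩⁻¹ : Q)) (mem_top (⟨y, hy⟩⁻¹ : Q))
    rw [_root_.commutator_def]
    simpa [commutatorElement_def, mul_assoc] using this
  set H := Q ⊔ zpowers g with hH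
  have hgH : g ∈ H := mem_sup_right (mem_zpowers g)
  have hQH : Q ≤ H := le_sup_left
  set N₀ := M ⊔ zpowers (g ^ q) with hN₀
  have hN₀H : H ≤ normalizer (N₀ : Set G) := by
    intro h hh
    have hA : h ∈ normalizer (M : Set G) ∧ h ∈ centralizer ((zpowers (g ^ q) : Subgroup G) : Set G) := by
      refine ⟨?_, ?_⟩
      · have hHN : h ∈ normalizer (Q : Set G) := sup_le le_normalizer (zpowers_le.mpr hgN) hh
        rw [mem_normalizer_iff_map_conj_eq]
        refine Subgroup.eq_of_le_of_card_ge ?_ (card_map_of_injective (MulAut.conj h).injective).ge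
        rintro _ ⟨y, hy, rfl⟩; exact hMn h hHN y hy
      · have : H ≤ centralizer ((zpowers (g ^ q) : Subgroup G) : Set G) := by
          refine sup_le (fun x hx => ?_) (zpowers_le.mpr ?_) <;> rw [mem_centralizer_iff] <;>
            rintro _ ⟨i, rfl⟩
          · exact (Commute.zpow_left (hgq x hx) i).eq
          · exact (Commute.zpow_left (Commute.pow_self g q) i).eq
        exact this hh
    rw [mem_normalizer_iff_map_conj_eq, hN₀, Subgroup.map_sup,
      mem_normalizer_iff_map_conj_eq.mp hA.1,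
      mem_normalizer_iff_map_conj_eq.mp (centralizer_le_normalizer _ hA.2)]
  have hN₀le : N₀ ≤ H := sup_le (hMQ.trans hQH) (zpowers_le.mpr (pow_mem hgH q))
  let N : Subgroup H := N₀.subgroupOf H
  haveI hNn : N.Normal := normal_subgroupOf_of_le_normalizer hN₀H
  refine ⟨H, N, hNn, ?_⟩
  let π := QuotientGroup.mk' N
  have hπ : ∀ x : H, π x = 1 ↔ (x : G) ∈ N₀ := fun x => QuotientGroup.eq_one_iff x
  set V := (Q.subgroupOf H).map π with hVdef
  have hQn : (Q.subgroupOf H).Normal :=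
    normal_subgroupOf_of_le_normalizer (sup_le le_normalizer (zpowers_le.mpr hgN))
  haveI : V.Normal := hQn.map π (QuotientGroup.mk'_surjective N)
  haveI : IsMulCommutative V := ⟨⟨by
    rintro ⟨_, x, hx, rfl⟩ ⟨_, y, hy, rfl⟩
    apply Subtype.ext
    simp only [Subgroup.coe_mul]
    rw [← map_mul, ← map_mul]
    apply QuotientGroup.eq.mpr
    show ((x * y)⁻¹ * (y * x) : H).1 ∈ N₀
    have := mem_sup_left (T := zpowers (g ^ q)) (hcommM _ hy _ hx)
    simpa [mul_assoc] using this⟩⟩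
  -- intersection with `Q`
  have hQN : ∀ x ∈ Q, x ∈ N₀ → x ∈ M := by
    intro x hx hxN
    have hzn : zpowers (g ^ q) ≤ normalizer (M : Set G) := zpowers_le.mpr (by
      rw [mem_normalizer_iff_map_conj_eq]
      refine Subgroup.eq_of_le_of_card_ge ?_ (card_map_of_injective (MulAut.conj (g ^ q)).injective).ge
      rintro _ ⟨y, hy, rfl⟩; exact hMn _ (pow_mem hgN q) y hy)
    rw [hN₀, ← SetLike.mem_coe, Subgroup.coe_mul_of_right_le_normalizer_left M _ hzn] at hxN
    obtain ⟨m, hm, z, hz, rfl⟩ := hxN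
    have hzQ : z ∈ Q := (Subgroup.mul_mem_cancel_left Q (hMQ hm)).mp hx
    have hdis : Disjoint Q (zpowers g) :=
      disjoint_iff.mpr (Cores.disjoint_of_isPGroup_of_coprime hQp (by rw [Nat.card_zpowers]; exact hgp))
    have : z = 1 := disjoint_def.mp hdis hzQ (zpowers_le.mpr (pow_mem (mem_zpowers g) q) hz)
    simpa [this] using hm
  refine config hp hq hpq V (π ⟨g, hgH⟩) ?_ ?_ ?_ ?_ ?_ ?_
  · rintro _ ⟨x, hx, rfl⟩
    rw [← map_pow, hπ]
    exact mem_sup_left ⟨(⟨x, hx⟩ : Q) ^ p, PGroups.pow_mem_frattini hQp _, by simp⟩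
  · intro e
    obtain ⟨x, hx, hxM⟩ := SetLike.exists_of_lt hMlt
    have : π ⟨x, hQH hx⟩ ∈ V := mem_map_of_mem _ hx
    rw [e, mem_bot, hπ] at this
    exact hxM (hQN x hx this)
  · rintro ⟨x, hx, hxe⟩
    have h1 : (x : G)⁻¹ * g ∈ N₀ := (QuotientGroup.eq (s := N)).mp hxe
    rw [hN₀, ← SetLike.mem_coe] at h1
    have h2 : g ∈ Q ⊔ zpowers (g ^ q) := by
      have := mul_mem (mem_sup_left (T := zpowers (g ^ q)) (show (x : G) ∈ Q from hx))
        ((sup_le_sup_right hMQ _) h1)
      simpa using this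
    have hzn : zpowers (g ^ q) ≤ normalizer (Q : Set G) := zpowers_le.mpr (pow_mem hgN q)
    rw [← SetLike.mem_coe, Subgroup.coe_mul_of_right_le_normalizer_left Q _ hzn] at h2
    obtain ⟨y, hy, z, hz, hyz⟩ := h2
    simp only at hyz
    have hdis : Disjoint Q (zpowers g) :=
      disjoint_iff.mpr (Cores.disjoint_of_isPGroup_of_coprime hQp (by rw [Nat.card_zpowers]; exact hgp))
    have hy1 : y = 1 := disjoint_def.mp hdis hy (by
      rw [eq_mul_inv_of_mul_eq hyz]
      exact mul_mem (mem_zpowers g) (inv_mem (zpowers_le.mpr (pow_mem (mem_zpowers g) q) hz)))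
    rw [hy1, one_mul] at hyz
    rw [hyz] at hz
    have hlt : orderOf (g ^ q) < orderOf g := by
      rw [orderOf_pow, Nat.gcd_eq_right hqg]
      exact Nat.div_lt_self (orderOf_pos g) hq.one_lt
    exact absurd ((orderOf_dvd_natCard (⟨_, hz⟩ : zpowers (g ^ q))) |> fun d => by
      rw [Subgroup.orderOf_mk, Nat.card_zpowers] at d
      exact Nat.le_of_dvd (orderOf_pos _) d) (not_le.mpr hlt)
  · rw [← map_pow, hπ]
    exact mem_sup_right (mem_zpowers _)
  · intro k
    obtain ⟨⟨k, hk⟩, rfl⟩ := QuotientGroup.mk'_surjective N k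
    have hk' := hk
    rw [hH, ← SetLike.mem_coe, Subgroup.coe_mul_of_right_le_normalizer_left Q _ (zpowers_le.mpr hgN)] at hk'
    obtain ⟨x, hx, z, hz, hxz⟩ := hk'
    simp only at hxz
    obtain ⟨i, rfl⟩ := mem_powers_iff_mem_zpowers.mpr hz
    refine ⟨π ⟨x, hQH hx⟩, mem_map_of_mem _ hx, i, ?_⟩
    rw [← map_pow, ← map_mul]
    exact congrArg π (Subtype.ext (by simpa using hxz.symm))
  · -- no fixed points
    open scoped IsMulCommutative in
    set t := π ⟨g, hgH⟩ with ht
    let δ : V →* V := MonoidHom.mk' (fun v => v⁻¹ * MulAut.conjNormal t v)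
      (fun a b => by rw [map_mul, mul_inv]; exact mul_mul_mul_comm _ _ _ _)
    suffices hinj : Function.Injective δ by
      intro v hv e
      have : δ ⟨v, hv⟩ = 1 := Subtype.ext (by simp [δ, e])
      exact congrArg Subtype.val (hinj (this.trans (map_one δ).symm))
    by_contra hninj
    have hns : ¬ Function.Surjective δ := fun h => hninj (Finite.injective_iff_surjective.mpr h)
    -- the preimage of the image is a proper invariant subgroup
    set R := (((δ.range.map V.subtype).comap π).map H.subtype) ⊓ Q with hR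
    have hRinv : ∀ x ∈ R, g * x * g⁻¹ ∈ R := by
      rintro _ ⟨⟨y, ⟨_, ⟨w, rfl⟩, hw⟩, rfl⟩, hyQ⟩
      refine ⟨⟨⟨g, hgH⟩ * y * ⟨g, hgH⟩⁻¹, ⟨_, ⟨MulAut.conjNormal t w, rfl⟩, ?_⟩, rfl⟩, hQinv _ hyQ⟩
      rw [map_mul, map_mul, map_inv, ← ht, ← hw]
      simp only [δ, MonoidHom.mk'_apply, coe_subtype, Subgroup.coe_mul, Subgroup.coe_inv,
        MulAut.conjNormal_apply]
      group
    have hRlt : R < Q := by
      refine lt_of_le_of_ne inf_le_right fun e => hns fun v => ?_
      obtain ⟨_, x, hx, rfl⟩ := v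
      have hxR : (x : G) ∈ R := e.symm ▸ hx
      obtain ⟨⟨y, ⟨w, hw, hwy⟩, hyx⟩, -⟩ := hxR
      obtain ⟨u, rfl⟩ := hw
      obtain rfl : y = x := Subtype.ext hyx
      exact ⟨u, Subtype.ext hwy⟩
    have hRc := hsmall R hRlt hRinv
    apply hgC
    rw [mem_centralizer_iff]
    intro x hx
    refine (?_ : g * x = x * g).symm
    have hdR : x⁻¹ * (g * x * g⁻¹) ∈ R := by
      refine ⟨⟨⟨x, hQH hx⟩⁻¹ * (⟨g, hgH⟩ * ⟨x, hQH hx⟩ * ⟨g, hgH⟩⁻¹),
        ⟨_, ⟨(⟨π ⟨x, hQH hx⟩, mem_map_of_mem π (show (⟨x, hQH hx⟩ : H) ∈ Q.subgroupOf H from hx)⟩ : V), rfl⟩, ?_⟩, rfl⟩, Q.mul_mem (Q.inv_mem hx) (hQinv x hx)⟩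
      rw [map_mul, map_mul, map_mul, map_inv, map_inv, ← ht]
      simp only [δ, MonoidHom.mk'_apply, coe_subtype, Subgroup.coe_mul, Subgroup.coe_inv,
        MulAut.conjNormal_apply]
    have := fix_of_unipotent (hRc _ hdR) (show g * x * g⁻¹ = x * (x⁻¹ * (g * x * g⁻¹)) by group)
      (hgq x hx) hQp (inf_le_right (a := ((δ.range.map V.subtype).comap π).map H.subtype) hdR) hqp
    exact mul_inv_eq_iff_eq_mul.mp (inv_mul_eq_one.mp this).symm

/-- Let G be a finite group and p a prime. Then G has a normal p-complement if and only if every section K = H/N of G (N a normal subgroup of a subgroup H) whose largest normal subgroup of order prime to p is trivial contains an element whose order equals the exponent of K. -/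
theorem result {G : Type*} [Group G] [Finite G] (p : ℕ) [Fact p.Prime] :
    Cfsg.HasNormalPComplement p G ↔
      ∀ (H : Subgroup G) (N : Subgroup H) [N.Normal], Cfsg.pPrimeCore p (H ⧸ N) = ⊥ →
        ∃ k : H ⧸ N, orderOf k = Monoid.exponent (H ⧸ N) := by
  constructor
  · intro h H N _ hc
    have hK := Fusion.hasNormalPComplement_quotient (Fusion.hasNormalPComplement_subgroup h H) N
    obtain ⟨P⟩ : Nonempty (Sylow p (H ⧸ N)) := inferInstance
    obtain ⟨C, hCn, hC⟩ := (Fusion.hasNormalPComplement_iff_exists P).mp hK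
    have hCb : C = ⊥ := by
      rw [eq_bot_iff, ← hc]
      haveI := hCn
      refine Cores.le_pPrimeCore ?_
      rw [Nat.coprime_comm, (Fact.out : p.Prime).coprime_iff_not_dvd]
      exact Fusion.not_dvd_card_of_isComplement' P hC
    subst hCb
    have hPtop : (P : Subgroup (H ⧸ N)) = ⊤ := Subgroup.isComplement'_bot_left.mp hC
    have hp' : IsPGroup p (H ⧸ N) := IsPGroup.of_equiv (hPtop ▸ P.isPGroup') Subgroup.topEquiv
    obtain ⟨k, hk⟩ := Finite.exists_max (fun k : H ⧸ N => orderOf k)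
    refine ⟨k, Nat.dvd_antisymm (Monoid.order_dvd_exponent k) (Monoid.exponent_dvd.mpr fun g => ?_)⟩
    obtain ⟨a, ha⟩ := IsPGroup.iff_orderOf.mp hp' g
    obtain ⟨b, hb⟩ := IsPGroup.iff_orderOf.mp hp' k
    have := hk g
    rw [ha, hb] at this ⊢
    exact pow_dvd_pow p ((Nat.pow_le_pow_iff_right (Fact.out : p.Prime).one_lt).mp this)
  · intro h
    by_contra hG
    obtain ⟨H, N, hN, hc, hne⟩ := bad_section hG
    obtain ⟨k, hk⟩ := h H N hc
    exact hne k hk

end Cfsg.Agent.S4238
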