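import Cfsg.Statements.S4242
import Cfsg.Agent.H77.MaximalNilpotent

set_option autoImplicit false
open Cfsg

namespace Cfsg.Agent.S4242

/-- Let G be a finite group and p a prime dividing its order. Every maximal subgroup of G of order divisible by p is nilpotent if and only if G is nilpotent, or G is a minimal non-nilpotent group, or G is the internal direct product of a normal subgroup of order p and a normal minimal non-nilpotent subgroup of order prime to p. -/
theorem result {G : Type*} [Group G] [Finite G] (p : ℕ) (hp : p.Prime) (hpG : p ∣ Nat.card G) :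
    (∀ M : Subgroup G, IsCoatom M → p ∣ Nat.card M → Group.IsNilpotent M) ↔
      (Group.IsNilpotent G ∨ Cfsg.IsMinimalNonNilpotent G ∨
        ∃ Z K : Subgroup G, Z.Normal ∧ K.Normal ∧ Z ⊓ K = ⊥ ∧ Z ⊔ K = ⊤ ∧ Nat.card Z = p ∧
          Cfsg.IsMinimalNonNilpotent K ∧ ¬ p ∣ Nat.card K) := by
  constructor
  · intro h
    by_cases hn : Group.IsNilpotent G
    · exact Or.inl hn
    by_cases hall : ∀ H : Subgroup G, H ≠ ⊤ → Group.IsNilpotent H
    · exact Or.inr (Or.inl ⟨hn, hall⟩)
    push Not at hall
    obtain ⟨H, hH, hHn⟩ := hall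
    obtain ⟨M, hM, hHM⟩ := (eq_top_or_exists_le_coatom H).resolve_left hH
    refine Or.inr (Or.inr (H77.exists_direct_factor_of_maximal_nilpotent p hp hpG h hM fun hMn => hHn ?_))
    haveI := hMn
    exact H77.nilpotent_of_inj (Subgroup.inclusion hHM) (Subgroup.inclusion_injective hHM)
  · rintro (hn | hm | ⟨Z, K, hZ, hK, hd, hsup, hcard, hKm, hpK⟩) M hM hpM
    · haveI := hn
      exact inferInstance
    · exact hm.2 M hM.1
    · exact H77.maximal_nilpotent_of_direct_factor p hM hpM hZ hK hd hsup hcard hp hKm hpK

end Cfsg.Agent.S4242
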