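import Cfsg.Statements.S4250
import Cfsg.Agent.Fusion.AlperinFocal
import Cfsg.Agent.Coprime.Action

set_option autoImplicit false
open Cfsg

namespace Cfsg.Agent.S4250
open scoped commutatorElement

/-- Let P be a Sylow p-subgroup of a finite group G. Call an intersection H = P ∩ Q with a Sylow p-subgroup Q tame when N_P(H) and N_Q(H) are Sylow p-subgroups of N_G(H). Then P ∩ G′ is generated by [P, N_G(P)] together with the commutator subgroups [P ∩ Q, ⟨x⟩] for all tame intersections P ∩ Q and all p-elements x of N_G(P ∩ Q). -/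
theorem result {G : Type*} [Group G] [Finite G] (p : ℕ) [Fact p.Prime] (P : Sylow p G) :
    (P : Subgroup G) ⊓ commutator G =
      ⁅(P : Subgroup G), Subgroup.normalizer ((P : Subgroup G) : Set G)⁆ ⊔
        ⨆ (Q : Sylow p G) (_ : (¬ p ∣ ((P : Subgroup G) ⊓ Subgroup.normalizer (((P : Subgroup G) ⊓ (Q : Subgroup G) : Subgroup G) : Set G)).relIndex (Subgroup.normalizer (((P : Subgroup G) ⊓ (Q : Subgroup G) : Subgroup G) : Set G)) ∧ ¬ p ∣ ((Q : Subgroup G) ⊓ Subgroup.normalizer (((P : Subgroup G) ⊓ (Q : Subgroup G) : Subgroup G) : Set G)).relIndex (Subgroup.normalizer (((P : Subgroup G) ⊓ (Q : Subgroup G) : Subgroup G) : Set G))))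
          (x : G) (_ : x ∈ Subgroup.normalizer (((P : Subgroup G) ⊓ (Q : Subgroup G) : Subgroup G) : Set G) ∧ ∃ k : ℕ, orderOf x = p ^ k),
          ⁅(P : Subgroup G) ⊓ (Q : Subgroup G), Subgroup.zpowers x⁆ := by
  set N := Subgroup.normalizer ((P : Subgroup G) : Set G)
  apply le_antisymm
  · rw [inf_comm, Subgroup.commutator_inf_eq_focalSubgroup, Subgroup.focalSubgroup_def,
      Subgroup.closure_le]
    rintro w ⟨hwP, x, hx, u, rfl⟩
    have hag : u⁻¹⁻¹ * x⁻¹ * u⁻¹ ∈ (P : Subgroup G) := by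
      have := mul_mem (inv_mem hx) hwP
      simpa [commutatorElement_def, mul_assoc] using this
    refine (show x⁻¹⁻¹ * (u⁻¹⁻¹ * x⁻¹ * u⁻¹) = ⁅x, u⁆ by simp [commutatorElement_def, mul_assoc]) ▸
      Fusion.diff_mem_of_tame P ?_ ?_ (inv_mem hx) hag
    · intro b hb n hn
      refine Subgroup.mem_sup_left ?_
      rw [show b⁻¹ * (n⁻¹ * b * n) = ⁅b⁻¹, n⁻¹⁆ by simp [commutatorElement_def, mul_assoc]]
      exact Subgroup.commutator_mem_commutator (inv_mem hb) (inv_mem hn)
    · intro Q hQ y hy hyo b hb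
      refine Subgroup.mem_sup_right ?_
      refine Subgroup.mem_iSup_of_mem Q (Subgroup.mem_iSup_of_mem hQ (Subgroup.mem_iSup_of_mem y
        (Subgroup.mem_iSup_of_mem ⟨hy, hyo⟩ ?_)))
      rw [show b⁻¹ * (y⁻¹ * b * y) = ⁅b⁻¹, y⁻¹⁆ by simp [commutatorElement_def, mul_assoc]]
      exact Subgroup.commutator_mem_commutator (inv_mem hb) (inv_mem (Subgroup.mem_zpowers y))
  · refine sup_le (le_inf ?_ (Subgroup.commutator_mono le_top le_top))
      (iSup_le fun Q => iSup_le fun _ => iSup_le fun y => iSup_le fun hy =>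
        le_inf ?_ (Subgroup.commutator_mono le_top le_top))
    · exact Coprime.commutator_le_left_of_normalizer le_rfl
    · exact (Coprime.commutator_le_left_of_normalizer (Subgroup.zpowers_le.mpr hy.1)).trans
        inf_le_left

end Cfsg.Agent.S4250
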