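import Cfsg.Statements.S4252
import Cfsg.Agent.Frobenius.Action

set_option autoImplicit false
open Cfsg

namespace Cfsg.Agent.S4252

/-- Let a finite group G act on a finite set Ω with more than one point, transitively but not regularly, so that no non-identity element of G fixes two distinct points. Then the stabilizer H of any point is a Frobenius complement in G (nontrivial, proper, meeting its other conjugates trivially), and the Frobenius kernel of G with respect to H (the identity together with the elements lying in no conjugate of H) is exactly the set consisting of the identity and the elements fixing no point. -/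
theorem result {G Ω : Type*} [Group G] [Finite G] [Fintype Ω] [MulAction G Ω] (hΩ : 1 < Fintype.card Ω)
    (htrans : ∀ α β : Ω, ∃ g : G, g • α = β) (hnreg : ∃ g : G, g ≠ 1 ∧ ∃ α : Ω, g • α = α)
    (hfix : ∀ g : G, g ≠ 1 → ∀ α β : Ω, g • α = α → g • β = β → α = β) (α : Ω) :
    Cfsg.IsFrobeniusComplement (MulAction.stabilizer G α) ∧
      Cfsg.frobeniusKernel (MulAction.stabilizer G α) = {g : G | g = 1 ∨ ∀ ω : Ω, g • ω ≠ ω} := by
  refine ⟨Cfsg.Agent.Frobenius.stabilizer_isFrobeniusComplement hfix α ?_ ?_,
    Cfsg.Agent.Frobenius.kernel_stabilizer_eq htrans α⟩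
  · obtain ⟨g, hg1, β, hβ⟩ := hnreg
    obtain ⟨c, rfl⟩ := htrans α β
    rw [Subgroup.ne_bot_iff_exists_ne_one]
    refine ⟨⟨c⁻¹ * g * c, ?_⟩, fun h => hg1 ?_⟩
    · rw [MulAction.mem_stabilizer_iff, mul_assoc, mul_smul, mul_smul, hβ, inv_smul_smul]
    · simpa [mul_assoc, inv_mul_eq_one] using congrArg Subtype.val h
  · intro h
    obtain ⟨β, hβ⟩ := Fintype.exists_ne_of_one_lt_card hΩ α
    obtain ⟨g, hg⟩ := htrans α β
    exact hβ (hg ▸ MulAction.mem_stabilizer_iff.1 (h ▸ Subgroup.mem_top g))

end Cfsg.Agent.S4252
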