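import Cfsg.Statements.S4255
import Cfsg.Agent.H46.CoprimeClasses

set_option autoImplicit false
open Cfsg

namespace Cfsg.Agent.S4255
open Cfsg.Agent

/-- Let G be a finite group. Call a prime a vertex if it divides some conjugacy class size of G, and two distinct vertices adjacent if their product divides some class size. Suppose this graph is disconnected: the vertices split into two nonempty parts with no vertex of one part adjacent to a vertex of the other. Then G/Z(G) is a Frobenius group with abelian Frobenius complement and with a Frobenius kernel all of whose elements commute. -/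
theorem result {G : Type*} [Group G] [Finite G] (S : Set ℕ) (hS : ∃ p ∈ S, (p.Prime ∧ ∃ g : G, p ∣ (Subgroup.centralizer ({g} : Set G)).index)) (hS' : ∃ q ∉ S, (q.Prime ∧ ∃ g : G, q ∣ (Subgroup.centralizer ({g} : Set G)).index))
    (hdisc : ∀ p q : ℕ, (p.Prime ∧ ∃ g : G, p ∣ (Subgroup.centralizer ({g} : Set G)).index) → (q.Prime ∧ ∃ g : G, q ∣ (Subgroup.centralizer ({g} : Set G)).index) → p ∈ S → q ∉ S → ¬ (∃ g : G, p * q ∣ (Subgroup.centralizer ({g} : Set G)).index)) :
    ∃ H : Subgroup (G ⧸ Subgroup.center G), Cfsg.IsFrobeniusComplement H ∧ IsMulCommutative H ∧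
      ∀ x ∈ Cfsg.frobeniusKernel H, ∀ y ∈ Cfsg.frobeniusKernel H, x * y = y * x := by
  open H46.CoprimeClasses in
  have hsplit : ∀ x : G, Cores.IsPiNumber S (cs x) ∨ Cores.IsPiNumber Sᶜ (cs x) := by
    intro x
    by_contra hcon
    simp only [not_or, Cores.IsPiNumber, not_forall, Set.mem_compl_iff, not_not] at hcon
    obtain ⟨⟨q, hq, hqd, hqS⟩, ⟨p, hp, hpd, hpS⟩⟩ := hcon
    have hne : p ≠ q := fun e => hqS (e ▸ hpS)
    exact hdisc p q ⟨hp, x, hpd⟩ ⟨hq, x, hqd⟩ hpS hqS
      ⟨x, ((Nat.coprime_primes hp hq).mpr hne).mul_dvd_of_dvd_of_dvd hpd hqd⟩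
  open H46.CoprimeClasses in
  obtain ⟨T, hT⟩ : ∃ T : Set ℕ, Setup T G := by
    obtain ⟨x0, hx0⟩ := Finite.exists_max (fun x : G => cs x)
    obtain ⟨p, hpS, hp, g, hg⟩ := hS
    obtain ⟨q, hqS, hq, g', hg'⟩ := hS'
    rcases hsplit x0 with h | h
    · refine ⟨S, hsplit, ⟨x0, h, hx0⟩, g', fun e => hq.ne_one (Nat.dvd_one.mp ?_), ?_⟩
      · change cs g' = 1 at e
        exact e ▸ hg'
      · exact (hsplit g').resolve_left fun h' => hqS (h' q hq hg')
    · refine ⟨Sᶜ, fun x => by rw [compl_compl]; exact (hsplit x).symm, ⟨x0, h, hx0⟩, g,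
        fun e => hp.ne_one (Nat.dvd_one.mp ?_), ?_⟩
      · change cs g = 1 at e
        exact e ▸ hg
      · rw [compl_compl]
        exact (hsplit g).resolve_right fun h' => h' p hp hg hpS
  obtain ⟨N, H, -, hN, hH, -, -, hF, hK⟩ := hT.frobenius
  refine ⟨_, hF, isMulCommutative_iff.mpr ?_, ?_⟩
  · rintro ⟨_, a, ha, rfl⟩ ⟨_, b, hb, rfl⟩
    refine Subtype.ext ?_
    show QuotientGroup.mk' _ a * QuotientGroup.mk' _ b = QuotientGroup.mk' _ b * QuotientGroup.mk' _ a
    rw [← map_mul, ← map_mul]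
    exact congrArg _ (congrArg Subtype.val (mul_comm' (⟨a, ha⟩ : H) ⟨b, hb⟩))
  · intro x hx y hy
    rw [hK] at hx hy
    obtain ⟨a, ha, rfl⟩ := hx
    obtain ⟨b, hb, rfl⟩ := hy
    rw [← map_mul, ← map_mul]
    exact congrArg _ (congrArg Subtype.val (mul_comm' (⟨a, ha⟩ : N) ⟨b, hb⟩))

end Cfsg.Agent.S4255
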