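import Cfsg.Statements.S4263
import Cfsg.Agent.H77.FittingClass
import Cfsg.Agent.H77.Subnormal

set_option autoImplicit false
open Cfsg

namespace Cfsg.Agent.S4263

/-- Let G be a finite group. An element x lies in the Fitting subgroup F(G) if and only if, for every subgroup H of G, the power x^[G : H] lies in H. -/
theorem result {G : Type*} [Group G] [Finite G] (x : G) :
    x ∈ Cfsg.fittingSubgroup G ↔ ∀ H : Subgroup G, x ^ H.index ∈ H := by
  obtain ⟨hn, hnil⟩ := H77.fitting_normal_nilpotent (G := G)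
  haveI := hn
  refine ⟨fun hx H => H77.pow_index_mem_of_mem_normal_nilpotent hnil hx H, fun h => ?_⟩
  rw [← QuotientGroup.eq_one_iff (N := Cfsg.fittingSubgroup G), ← orderOf_eq_one_iff]
  refine Nat.eq_one_iff_not_exists_prime_dvd.mpr fun p hp hpd => ?_
  haveI := Fact.mk hp
  let P : Sylow p G := default
  refine P.not_dvd_index (hpd.trans ?_)
  rw [orderOf_dvd_iff_pow_eq_one, ← QuotientGroup.mk_pow, QuotientGroup.eq_one_iff]
  have hmem : x ^ (P : Subgroup G).index ∈ ⨅ Q : Sylow p G, (Q : Subgroup G) := by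
    rw [Subgroup.mem_iInf]
    intro Q
    have e : (P : Subgroup G).index = (Q : Subgroup G).index := by
      have h1 := (P : Subgroup G).card_mul_index
      rw [Nat.card_congr (P.equiv Q).toEquiv, ← (Q : Subgroup G).card_mul_index] at h1
      exact Nat.eq_of_mul_eq_mul_left Nat.card_pos h1
    rw [e]; exact h Q
  haveI hN : (⨅ Q : Sylow p G, (Q : Subgroup G)).Normal := by
    refine ⟨fun y hy g => ?_⟩
    rw [Subgroup.mem_iInf] at hy ⊢
    intro Q
    have := hy (g⁻¹ • Q)
    rw [Sylow.coe_subgroup_smul, Subgroup.mem_pointwise_smul_iff_inv_smul_mem] at this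
    simpa [MulAut.conj] using this
  have hle : (⨅ Q : Sylow p G, (Q : Subgroup G)) ≤ Cfsg.fittingSubgroup G :=
    le_sSup ⟨hN, (P.isPGroup'.to_le (iInf_le _ P)).isNilpotent⟩
  exact hle hmem

end Cfsg.Agent.S4263
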