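import Cfsg.Statements.S4265
import Cfsg.Agent.H30.ClassFit.Complex
-- import your own Cfsg.Agent.* helpers here

set_option autoImplicit false
open Cfsg

namespace Cfsg.Agent.S4265

/-- Let G be a finite solvable subgroup of GL_r(ℂ), r ≥ 1, with Fitting subgroup F(G) normal in G. Then for every subgroup H of G the quotient H/(H ∩ F(G)) has at most 3^{r−1} conjugacy classes. -/
theorem result (r : ℕ) (hr : 1 ≤ r) (G : Subgroup (GL (Fin r) ℂ)) [Finite ↥G] (hsolv : Group.IsSolvable ↥G) [hF : (Cfsg.fittingSubgroup ↥G).Normal] (H : Subgroup ↥G) : Nat.card (ConjClasses (↥H ⧸ (Cfsg.fittingSubgroup ↥G).subgroupOf H)) ≤ 3 ^ (r - 1) := by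
  haveI := hsolv
  let ρ : ↥G →* Module.End ℂ (Fin r → ℂ) :=
    ((Matrix.toLinAlgEquiv' : Matrix (Fin r) (Fin r) ℂ ≃ₐ[ℂ] _).toRingEquiv.toRingHom.toMonoidHom.comp
      (Units.coeHom _)).comp G.subtype
  have hρ : Function.Injective ρ := fun a b h => by
    apply Subtype.ext
    apply Units.ext
    exact Matrix.toLinAlgEquiv'.injective h
  have hK := H30.ClassFit.boundBelow (r + 1) ↥G (Fin r → ℂ) ρ hρ (by simp)
  rw [Module.finrank_fin_fun] at hK
  let f : ↥H ⧸ (Cfsg.fittingSubgroup ↥G).subgroupOf H →* ↥G ⧸ Cfsg.fittingSubgroup ↥G :=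
    QuotientGroup.map _ _ H.subtype (fun x hx => hx)
  have hf : Function.Injective f := by
    intro x y hxy
    induction x using QuotientGroup.induction_on with
    | _ a =>
      induction y using QuotientGroup.induction_on with
      | _ b =>
        have h := QuotientGroup.eq.1 hxy
        rw [QuotientGroup.eq, Subgroup.mem_subgroupOf]
        simpa using h
  exact (hK.of_injective f hf).kcard

end Cfsg.Agent.S4265
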