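import Cfsg.Statements.S4269

set_option autoImplicit false
open Cfsg

namespace Cfsg.Agent.S4269

open scoped commutatorElement

open Subgroup in
theorem mem_conj_map {G : Type*} [Group G] {H : Subgroup G} {g y : G} :
    y ∈ H.map (MulAut.conj g).toMonoidHom ↔ g⁻¹ * y * g ∈ H := by
  simp only [mem_map, MulEquiv.toMonoidHom_eq_coe, MonoidHom.coe_coe, MulAut.conj_apply]
  constructor
  · rintro ⟨x, hx, rfl⟩
    simpa [mul_assoc] using hx
  · intro h
    exact ⟨_, h, by group⟩

open Subgroup in
theorem conj_eq_self_of_normalizer {G : Type*} [Group G] {H : Subgroup G} {g : G}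
    (hg : g ∈ normalizer (H : Set G)) : H.map (MulAut.conj g).toMonoidHom = H := by
  ext y
  rw [mem_conj_map]
  exact (mem_normalizer_iff''.mp hg y).symm

/-- Let G be a finite group, V an abelian normal subgroup and H a subgroup with HV = G. Then H is pronormal in G (H and gHg⁻¹ are conjugate inside the subgroup they generate, for every g) if and only if every H-invariant subgroup U of V satisfies U = N_U(H)·[H, U], that is, U is the join of U ∩ N_G(H) and the commutator subgroup [H, U]. -/
theorem result {G : Type*} [Group G] [Finite G]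
    (V : Subgroup G) [V.Normal] (hV : IsMulCommutative ↥V) (H : Subgroup G) (hHV : H ⊔ V = ⊤) :
    Cfsg.IsPronormal H ↔
      ∀ U : Subgroup G, U ≤ V → (∀ h ∈ H, U.map (MulAut.conj h).toMonoidHom = U) →
        U = (U ⊓ Subgroup.normalizer (H : Set G)) ⊔ ⁅H, U⁆ := by
  have hmul : ∀ a b : G, a ∈ V → b ∈ V → a * b = b * a := fun a b ha hb =>
    congrArg Subtype.val (mul_comm' (⟨a, ha⟩ : V) ⟨b, hb⟩)
  have hsplit : ∀ g : G, ∃ v ∈ V, ∃ h ∈ H, g = v * h := fun g => by
    have : g ∈ V ⊔ H := by rw [sup_comm, hHV]; exact Subgroup.mem_top g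
    obtain ⟨v, hv, h, hh, rfl⟩ := Subgroup.mem_sup_of_normal_left.mp this
    exact ⟨v, hv, h, hh, rfl⟩
  have hmapmap : ∀ a b : G, (H.map (MulAut.conj b).toMonoidHom).map (MulAut.conj a).toMonoidHom
      = H.map (MulAut.conj (a * b)).toMonoidHom := fun a b => by
    ext y
    simp only [mem_conj_map]
    simp [mul_assoc]
  constructor
  · intro hpro U hUV hUinv
    set C : Subgroup G := ⁅H, U⁆ with hC
    have hconj : ∀ h ∈ H, ∀ u ∈ U, h * u * h⁻¹ ∈ U := fun h hh u hu => by
      have := Subgroup.mem_map_of_mem (MulAut.conj h).toMonoidHom hu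
      rw [hUinv h hh] at this
      exact this
    have hCU : C ≤ U := Subgroup.commutator_le.mpr fun h hh u hu => by
      rw [commutatorElement_def]
      exact U.mul_mem (hconj h hh u hu) (U.inv_mem hu)
    refine le_antisymm (fun u hu => ?_) (sup_le inf_le_left hCU)
    have hHC : H ≤ Subgroup.normalizer (C : Set G) := by
      intro h hh
      refine Subgroup.mem_normalizer_iff.mpr fun y => ?_
      have key : ∀ h ∈ H, ∀ y ∈ C, h * y * h⁻¹ ∈ C := by
        intro h hh y hy
        have hle : C.map (MulAut.conj h).toMonoidHom ≤ C := by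
          rw [hC, Subgroup.map_commutator, hUinv h hh, conj_eq_self_of_normalizer (Subgroup.le_normalizer hh)]
        exact hle (Subgroup.mem_map_of_mem (MulAut.conj h).toMonoidHom hy)
      exact ⟨key h hh y, fun hy => by simpa [mul_assoc] using key h⁻¹ (H.inv_mem hh) _ hy⟩
    obtain ⟨x, hx, hxe⟩ := hpro u
    have hK : H ⊔ H.map (MulAut.conj u).toMonoidHom ≤ C ⊔ H := by
      refine sup_le le_sup_right fun y hy => ?_
      rw [mem_conj_map] at hy
      have h1 : ⁅u⁻¹ * y * u, u⁆ ∈ C := Subgroup.commutator_mem_commutator hy hu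
      have h2 := (C ⊔ H).mul_mem ((C ⊔ H).inv_mem (Subgroup.mem_sup_left h1))
        (Subgroup.mem_sup_right (S := C) hy)
      have h3 : (⁅u⁻¹ * y * u, u⁆)⁻¹ * (u⁻¹ * y * u) = y := by
        rw [commutatorElement_def]; group
      rwa [h3] at h2
    have hx' := hK hx
    rw [← SetLike.mem_coe, Subgroup.coe_mul_of_right_le_normalizer_left C H hHC] at hx'
    obtain ⟨c, hc, h, hh, rfl⟩ := hx'
    have hxc : H.map (MulAut.conj u).toMonoidHom = H.map (MulAut.conj c).toMonoidHom := by
      rw [hxe, ← hmapmap, conj_eq_self_of_normalizer (Subgroup.le_normalizer hh)]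
    have hn : c⁻¹ * u ∈ Subgroup.normalizer (H : Set G) := by
      have h4 : H.map (MulAut.conj (c⁻¹ * u)).toMonoidHom = H := by
        rw [← hmapmap, hxc, hmapmap, inv_mul_cancel]
        exact conj_eq_self_of_normalizer (Subgroup.one_mem _)
      rw [Subgroup.mem_normalizer_iff'']
      intro y
      rw [← mem_conj_map, h4]
    have h5 : u = c * (c⁻¹ * u) := by group
    rw [h5]
    exact Subgroup.mul_mem _ (Subgroup.mem_sup_right hc)
      (Subgroup.mem_sup_left ⟨U.mul_mem (U.inv_mem (hCU hc)) hu, hn⟩)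
  · intro hU g
    obtain ⟨v, hv, h, hh, rfl⟩ := hsplit g
    rw [← hmapmap v h, conj_eq_self_of_normalizer (Subgroup.le_normalizer hh)]
    set K : Subgroup G := H ⊔ H.map (MulAut.conj v).toMonoidHom with hK
    set U : Subgroup G := Subgroup.zpowers v ⊔ (K ⊓ V) with hUdef
    have hUV : U ≤ V := sup_le (Subgroup.zpowers_le.mpr hv) inf_le_right
    have hcomm : ∀ a ∈ H, ⁅a, v⁆ ∈ K ⊓ V := by
      intro a ha
      refine ⟨?_, ?_⟩
      · have h1 : v * a⁻¹ * v⁻¹ ⁻¹⁻¹ ∈ K := Subgroup.mem_sup_right (mem_conj_map.mpr (by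
          simpa [mul_assoc] using H.inv_mem ha))
        have h2 := K.mul_mem (Subgroup.mem_sup_left (T := H.map (MulAut.conj v).toMonoidHom) ha) h1
        rw [commutatorElement_def]
        simpa [mul_assoc] using h2
      · rw [commutatorElement_def]
        exact V.mul_mem (Subgroup.Normal.conj_mem inferInstance v hv a) (V.inv_mem hv)
    have hKV : ∀ a ∈ H, ∀ w ∈ K ⊓ V, a * w * a⁻¹ ∈ K ⊓ V := fun a ha w hw =>
      ⟨K.mul_mem (K.mul_mem (Subgroup.mem_sup_left ha) hw.1) (K.inv_mem (Subgroup.mem_sup_left ha)),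
        Subgroup.Normal.conj_mem inferInstance w hw.2 a⟩
    have hle : ∀ a ∈ H, U.map (MulAut.conj a).toMonoidHom ≤ U := by
      intro a ha
      rw [hUdef, Subgroup.map_sup, MonoidHom.map_zpowers]
      refine sup_le (Subgroup.zpowers_le.mpr ?_) ?_
      · change a * v * a⁻¹ ∈ U
        have h1 : a * v * a⁻¹ = ⁅a, v⁆ * v := by rw [commutatorElement_def]; group
        rw [h1]
        exact U.mul_mem (Subgroup.mem_sup_right (hcomm a ha))
          (Subgroup.mem_sup_left (Subgroup.mem_zpowers v))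
      · rintro _ ⟨w, hw, rfl⟩
        exact Subgroup.mem_sup_right (hKV a ha w hw)
    have hinv : ∀ a ∈ H, U.map (MulAut.conj a).toMonoidHom = U := fun a ha => by
      refine Subgroup.eq_of_le_of_card_ge (hle a ha) (le_of_eq ?_)
      exact Nat.card_congr (Subgroup.equivMapOfInjective _ _ (MulAut.conj a).injective).toEquiv
    have hCW : ⁅H, U⁆ ≤ K ⊓ V := by
      refine Subgroup.commutator_le.mpr fun a ha u hu => ?_
      have hu' : u ∈ ((Subgroup.zpowers v ⊔ (K ⊓ V) : Subgroup G) : Set G) := hu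
      rw [Subgroup.coe_mul_of_left_le_normalizer_right] at hu'
      · obtain ⟨z, hz, w, hw, rfl⟩ := hu'
        obtain ⟨n, rfl⟩ := Subgroup.mem_zpowers_iff.mp hz
        have haz : ∀ n : ℤ, (a * v * a⁻¹) ^ n * (v ^ n)⁻¹ ∈ K ⊓ V := by
          intro n
          have h1 : a * v * a⁻¹ = ⁅a, v⁆ * v := by rw [commutatorElement_def]; group
          have h2 : Commute ⁅a, v⁆ v := hmul _ _ (hcomm a ha).2 hv
          rw [h1, h2.mul_zpow, mul_inv_cancel_right]
          exact Subgroup.zpow_mem _ (hcomm a ha) n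
        have h3 : ⁅a, v ^ n * w⁆ = ((a * v * a⁻¹) ^ n * (v ^ n)⁻¹) * ((a * w * a⁻¹) * w⁻¹) := by
          rw [commutatorElement_def, ← MulAut.conj_apply, map_mul, map_zpow, MulAut.conj_apply,
            MulAut.conj_apply, mul_inv_rev]
          have e2 : (a * w * a⁻¹) * w⁻¹ ∈ V := V.mul_mem (hKV a ha w hw).2 (V.inv_mem hw.2)
          have e3 : (v ^ n)⁻¹ ∈ V := V.inv_mem (V.zpow_mem hv n)
          calc (a * v * a⁻¹) ^ n * (a * w * a⁻¹) * (w⁻¹ * (v ^ n)⁻¹)
              = (a * v * a⁻¹) ^ n * (((a * w * a⁻¹) * w⁻¹) * (v ^ n)⁻¹) := by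
                simp only [mul_assoc]
            _ = _ := by rw [hmul _ _ e2 e3]; simp only [mul_assoc]
        rw [h3]
        exact Subgroup.mul_mem _ (haz n) (Subgroup.mul_mem _ (hKV a ha w hw)
          (Subgroup.inv_mem _ hw))
      · intro z hz
        rw [Subgroup.mem_normalizer_iff]
        intro y
        have hzV : z ∈ V := Subgroup.zpowers_le.mpr hv hz
        constructor
        · intro hy
          rwa [hmul z y hzV hy.2, mul_inv_cancel_right]
        · intro hy
          have hyV : y ∈ V := by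
            simpa [mul_assoc] using Subgroup.Normal.conj_mem inferInstance _ hy.2 z⁻¹
          rwa [hmul z y hzV hyV, mul_inv_cancel_right] at hy
    have hvU : v ∈ U := Subgroup.mem_sup_left (Subgroup.mem_zpowers v)
    rw [hU U hUV hinv, sup_comm] at hvU
    have hnC : (U ⊓ Subgroup.normalizer (H : Set G)) ≤ Subgroup.normalizer ((⁅H, U⁆ : Subgroup G) : Set G) := by
      intro z hz
      rw [Subgroup.mem_normalizer_iff]
      intro y
      have hzV := hUV hz.1
      have hCV : ⁅H, U⁆ ≤ V := hCW.trans inf_le_right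
      constructor
      · intro hy
        rwa [hmul z y hzV (hCV hy), mul_inv_cancel_right]
      · intro hy
        have hyV : y ∈ V := by
          simpa [mul_assoc] using Subgroup.Normal.conj_mem inferInstance _ (hCV hy) z⁻¹
        rwa [hmul z y hzV hyV, mul_inv_cancel_right] at hy
    rw [← SetLike.mem_coe, Subgroup.coe_mul_of_right_le_normalizer_left _ _ hnC] at hvU
    obtain ⟨c, hc, n, hn, hvn⟩ := hvU
    refine ⟨c, (hCW hc).1, ?_⟩
    rw [← hvn]
    simp only
    rw [← hmapmap, conj_eq_self_of_normalizer hn.2]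

end Cfsg.Agent.S4269
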