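import Cfsg.Statements.S4274
import Cfsg.Agent.H36.Numeric
import Cfsg.Agent.H36.NoSimple
import Cfsg.Agent.H36.Orbits
import Cfsg.Agent.H36.Count
-- import your own Cfsg.Agent.* helpers here

set_option autoImplicit false
set_option linter.unusedSectionVars false
set_option linter.style.haveILetI false
open Cfsg

namespace Cfsg.Agent.S4274

open Subgroup Agent.H36

universe u

section General

variable {G : Type*} [Group G] [Finite G] {p : ℕ} [hp : Fact p.Prime]

theorem card_sylow_index (P : Sylow p G) :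
    Nat.card (Sylow p G) = (normalizer ((P : Subgroup G) : Set G)).index :=
  P.card_eq_index_normalizer

theorem normal_of_normal_le (M : Subgroup G) [M.Normal] (hM : p ∣ Nat.card M)
    (h : ∀ R : Sylow p M, (R : Subgroup M).Normal) (P : Sylow p G)
    (hP : Nat.card (P : Subgroup G) = p) : (P : Subgroup G).Normal := by
  obtain ⟨R⟩ := Sylow.nonempty (p := p) (G := M)
  haveI := h R
  haveI := Sylow.characteristic_of_normal R inferInstance
  haveI hn : ((R : Subgroup M).map M.subtype).Normal :=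
    ConjAct.normal_of_characteristic_of_normal
  have hR : IsPGroup p ((R : Subgroup M).map M.subtype) := R.2.map _
  have hle : (R : Subgroup M).map M.subtype ≤ P := by
    obtain ⟨Q, hQ⟩ := hR.exists_le_sylow
    obtain ⟨g, hg⟩ := MulAction.exists_smul_eq G P Q
    intro x hx
    have h1 := hQ (hn.conj_mem x hx g)
    rw [← hg, mem_smul_sylow_iff] at h1
    simpa [mul_assoc] using h1
  have hcard : p ∣ Nat.card ((R : Subgroup M).map M.subtype) := by
    rw [card_map_of_injective M.subtype_injective]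
    exact R.dvd_card_of_dvd_card hM
  rw [← eq_of_le_of_card_ge hle (le_of_eq_of_le hP (Nat.le_of_dvd Nat.card_pos hcard))]
  exact hn

theorem le_centralizer_of_normal (P : Sylow p G) (hP : Nat.card (P : Subgroup G) = p)
    (M : Subgroup G) [M.Normal] (hM : ¬ p ∣ Nat.card M)
    (hsmall : ∀ q k : ℕ, q.Prime → q ^ k ∣ Nat.card M → q ^ k < p) :
    M ≤ centralizer ((P : Subgroup G) : Set G) := by
  suffices h : Nat.card M ∣ Nat.card (M ⊓ centralizer ((P : Subgroup G) : Set G) : Subgroup G) from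
    inf_eq_left.1 (eq_of_le_of_card_ge inf_le_left (Nat.le_of_dvd Nat.card_pos h))
  rw [Nat.dvd_iff_prime_pow_dvd_dvd]
  intro q k hq hk
  haveI := Fact.mk hq
  obtain ⟨Q⟩ := Sylow.nonempty (p := q) (G := M)
  set Q' := (Q : Subgroup M).map M.subtype with hQ'
  set N := normalizer (Q' : Set G) with hN
  have hpN : p ∣ Nat.card N := by
    have hsup : N ⊔ M = ⊤ := Sylow.normalizer_sup_eq_top Q
    have hidx : M.index = M.relIndex N := by
      rw [← relIndex_top_right, ← hsup, relIndex_sup_right]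
    have hd : M.index ∣ Nat.card N := hidx ▸ relIndex_dvd_card M N
    have h1 : p ∣ Nat.card M * M.index := by
      rw [card_mul_index]; exact hP ▸ card_subgroup_dvd_card _
    exact (((Nat.Prime.dvd_mul hp.out).1 h1).resolve_left hM).trans hd
  obtain ⟨u, hu⟩ := exists_prime_orderOf_dvd_card' p hpN
  have hu' : orderOf (u : G) = p := by rw [orderOf_coe, hu]
  obtain ⟨R, hR⟩ := exists_sylow_mem hu'
  obtain ⟨g, rfl⟩ := MulAction.exists_smul_eq G P R
  have hPN : ∀ a ∈ (P : Subgroup G), g * a * g⁻¹ ∈ N := by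
    intro a ha
    have h1 : g * a * g⁻¹ ∈ ((g • P : Sylow p G) : Subgroup G) := by
      rw [mem_smul_sylow_iff]; simpa [mul_assoc] using ha
    rw [← sylow_eq_zpowers (g • P) ((card_sylow_congr _ P).trans hP) hu' hR] at h1
    exact zpowers_le.2 u.2 h1
  -- the conjugate of `Q'` normalized by `P`
  set Q'' := Q'.map (MulAut.conj g⁻¹).toMonoidHom with hQ''
  have memQ : ∀ x, x ∈ Q'' ↔ g * x * g⁻¹ ∈ Q' := fun x => by
    constructor
    · rintro ⟨y, hy, rfl⟩; simpa [mul_assoc] using hy
    · exact fun h => ⟨_, h, by simp [mul_assoc]⟩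
  have hPQ : (P : Subgroup G) ≤ normalizer (Q'' : Set G) := by
    intro a ha
    rw [mem_normalizer_iff]
    intro x
    rw [memQ, memQ, mem_normalizer_iff.1 (hPN a ha)]
    congr! 1
    group
  have hc : Nat.card Q'' = q ^ (Nat.card M).factorization q := by
    rw [hQ'', card_map_of_injective (MulAut.conj g⁻¹).injective, hQ',
      card_map_of_injective M.subtype_injective, Q.card_eq_multiplicity]
  have hlt : Nat.card Q'' < p := hc ▸ hsmall q _ hq (Nat.ordProj_dvd _ _)
  let f : normalizer (Q'' : Set G) →* Equiv.Perm Q'' :=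
    { toFun := fun a => (Q''.normalizerMonoidHom a).toEquiv
      map_one' := by rw [map_one]; rfl
      map_mul' := fun a b => by rw [map_mul]; rfl }
  have hcen : ∀ a ∈ (P : Subgroup G), ∀ x ∈ Q'', a * x * a⁻¹ = x := by
    intro a ha x hx
    have h1 : orderOf (f ⟨a, hPQ ha⟩) ∣ p := by
      refine (orderOf_map_dvd f _).trans ?_
      rw [Subgroup.orderOf_mk]
      exact hP ▸ Subgroup.orderOf_dvd_natCard _ ha
    have h2 : orderOf (f ⟨a, hPQ ha⟩) ∣ (Nat.card Q'').factorial := by
      rw [← Nat.card_perm]; exact orderOf_dvd_natCard _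
    have h3 : f ⟨a, hPQ ha⟩ = 1 := by
      rw [← orderOf_eq_one_iff]
      exact ((Nat.dvd_prime hp.out).1 h1).resolve_right fun h =>
        absurd ((Nat.Prime.dvd_factorial hp.out).1 (h ▸ h2)) (by omega)
    exact congrArg Subtype.val (DFunLike.congr_fun h3 ⟨x, hx⟩)
  have hle : Q'' ≤ M ⊓ centralizer ((P : Subgroup G) : Set G) := by
    refine le_inf (fun x hx => ?_) fun x hx => mem_centralizer_iff.2 fun a ha => ?_
    · have h1 : g * x * g⁻¹ ∈ M := map_subtype_le _ ((memQ x).1 hx)
      simpa [mul_assoc] using (inferInstance : M.Normal).conj_mem _ h1 g⁻¹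
    · exact mul_inv_eq_iff_eq_mul.1 (hcen a ha x hx)
  refine Dvd.dvd.trans ?_ (card_dvd_of_le hle)
  rw [hc]
  exact pow_dvd_pow q ((hq.pow_dvd_iff_le_factorization Nat.card_pos.ne').1 hk)

/-- The data of a Sylow subgroup of prime order: Sylow number and cofactor of its centralizer;
`(0, 1)` when `p` does not divide `|G|`. -/
def Dat (G : Type*) [Group G] (p : ℕ) (a : ℕ × ℕ) : Prop :=
  (Nat.card (Sylow p G) = a.1 ∧
    ∀ P : Sylow p G, Nat.card (P : Subgroup G) = p ∧
      Nat.card (centralizer ((P : Subgroup G) : Set G)) = p * a.2) ∨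
  (¬ p ∣ Nat.card G ∧ a = (0, 1))

theorem card_centralizer_sylow_congr (P Q : Sylow p G) :
    Nat.card (centralizer ((P : Subgroup G) : Set G)) =
      Nat.card (centralizer ((Q : Subgroup G) : Set G)) := by
  obtain ⟨g, rfl⟩ := MulAction.exists_smul_eq G P Q
  refine Nat.card_congr ((MulAut.conj g).toEquiv.subtypeEquiv fun x => ?_)
  simp only [MulEquiv.toEquiv_eq_coe, EquivLike.coe_coe, MulAut.conj_apply, mem_centralizer_iff,
    SetLike.mem_coe, mem_smul_sylow_iff]
  constructor
  · intro h y hy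
    have := h _ hy
    calc y * (g * x * g⁻¹) = g * (g⁻¹ * y * g * x) * g⁻¹ := by group
      _ = g * x * g⁻¹ * y := by rw [this]; group
  · intro h y hy
    have := h (g * y * g⁻¹) (by simpa [mul_assoc] using hy)
    calc y * x = g⁻¹ * (g * y * g⁻¹ * (g * x * g⁻¹)) * g := by group
      _ = x * y := by rw [this]; group

/-- The elements with order divisible by `p`. -/
noncomputable def A (G : Type*) [Group G] [Finite G] (p : ℕ) : Finset G :=
  haveI := Fintype.ofFinite G
  Finset.univ.filter fun g => p ∣ orderOf g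

theorem mem_A {g : G} : g ∈ A G p ↔ p ∣ orderOf g := by simp [A]

theorem exists_mem_centralizer {g : G} (hg : p ∣ orderOf g) :
    ∃ (P : Sylow p G) (u : G), orderOf u = p ∧ u ∈ (P : Subgroup G) ∧
      u ∈ zpowers g := by
  obtain ⟨u, hu⟩ := exists_prime_orderOf_dvd_card' (G := zpowers g) p
    (by rwa [Nat.card_zpowers])
  have hu' : orderOf (u : G) = p := by rw [orderOf_coe, hu]
  obtain ⟨P, hP⟩ := exists_sylow_mem hu'
  exact ⟨P, u, hu', hP, u.2⟩

theorem commute_of_mem_zpowers {g u : G} (h : u ∈ zpowers g) : u * g = g * u := by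
  obtain ⟨i, rfl⟩ := mem_zpowers_iff.1 h
  exact ((Commute.refl g).zpow_left i).eq

theorem mem_centralizer_of_generator {P : Sylow p G} (hP : Nat.card (P : Subgroup G) = p)
    {u g : G} (hu : orderOf u = p) (huP : u ∈ (P : Subgroup G)) (h : u * g = g * u) :
    g ∈ centralizer ((P : Subgroup G) : Set G) := by
  rw [mem_centralizer_iff]
  intro y hy
  rw [SetLike.mem_coe, ← sylow_eq_zpowers P hP hu huP] at hy
  obtain ⟨i, rfl⟩ := mem_zpowers_iff.1 hy
  exact ((show Commute u g from h).zpow_left i).eq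

theorem Dat.commute {q : ℕ} [Fact q.Prime] (hpq : p ≠ q) {a b : ℕ × ℕ} (ha : Dat G p a)
    (hb : Dat G q b) (h : q ∣ a.2) : p ∣ b.2 := by
  rcases ha with ⟨-, ha⟩ | ⟨-, rfl⟩
  · obtain ⟨P⟩ := Sylow.nonempty (p := p) (G := G)
    obtain ⟨hP, hC⟩ := ha P
    obtain ⟨v, hv⟩ := exists_prime_orderOf_dvd_card'
      (G := centralizer ((P : Subgroup G) : Set G)) q (hC ▸ dvd_mul_of_dvd_right h p)
    have hv' : orderOf (v : G) = q := by rw [orderOf_coe, hv]
    obtain ⟨Q, hQ⟩ := exists_sylow_mem hv'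
    rcases hb with ⟨-, hb⟩ | ⟨hb, -⟩
    · obtain ⟨hQc, hC'⟩ := hb Q
      have hle : (P : Subgroup G) ≤ centralizer ((Q : Subgroup G) : Set G) := fun x hx =>
        mem_centralizer_of_generator hQc hv' hQ (mem_centralizer_iff.1 v.2 x hx).symm
      have := card_dvd_of_le hle
      rw [hP, hC'] at this
      exact (hp.out.dvd_mul.1 this).resolve_left fun h' =>
        hpq ((Nat.prime_dvd_prime_iff_eq hp.out Fact.out).1 h')
    · exact absurd (hv' ▸ orderOf_dvd_natCard (v : G)) hb
  · exact absurd h (Fact.out : q.Prime).not_dvd_one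

theorem Dat.disjoint {q : ℕ} [Fact q.Prime] (hpq : p ≠ q) {a : ℕ × ℕ} (ha : Dat G p a)
    (h : ¬ q ∣ a.2) : Disjoint (A G p) (A G q) := by
  rw [Finset.disjoint_left]
  intro g hg hg'
  rw [mem_A] at hg hg'
  rcases ha with ⟨-, ha⟩ | ⟨ha, -⟩
  · obtain ⟨P, u, hu, huP, huz⟩ := exists_mem_centralizer hg
    obtain ⟨hP, hC⟩ := ha P
    have hgC := mem_centralizer_of_generator hP hu huP (commute_of_mem_zpowers huz)
    have := hg'.trans (Subgroup.orderOf_dvd_natCard _ hgC)
    rw [hC] at this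
    exact h (((Fact.out : q.Prime).dvd_mul.1 this).resolve_left fun h' =>
      hpq.symm ((Nat.prime_dvd_prime_iff_eq Fact.out hp.out).1 h'))
  · exact ha (hg.trans (orderOf_dvd_natCard g))

theorem Dat.le_card {a : ℕ × ℕ} (ha : Dat G p a) : a.1 * ((p - 1) * a.2) ≤ (A G p).card := by
  classical
  rcases ha with ⟨hn, ha⟩ | ⟨-, rfl⟩
  swap; · simp
  have hfib : ∀ P : Sylow p G, (p - 1) * a.2 ≤
      Nat.card {x : centralizer ((P : Subgroup G) : Set G) // p ∣ orderOf (x : G)} := by
    intro P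
    obtain ⟨hP, hC⟩ := ha P
    set C := centralizer ((P : Subgroup G) : Set G)
    have hS : Nat.card {x : C // ¬ p ∣ orderOf (x : G)} * p ≤ p * a.2 := by
      rw [← hC]
      rw [show Nat.card {x : C // ¬ p ∣ orderOf (x : G)} * p =
        Nat.card {x : C // ¬ p ∣ orderOf (x : G)} * Nat.card (P : Subgroup G) by rw [hP],
        ← Nat.card_prod]
      have hcm : ∀ (x : C) (v : (P : Subgroup G)), (v : G) * (x : G) = (x : G) * v :=
        fun x v => mem_centralizer_iff.1 x.2 v v.2
      haveI : IsCyclic (P : Subgroup G) := isCyclic_of_prime_card hP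
      letI : CommGroup (P : Subgroup G) := IsCyclic.commGroup
      have hPC : (P : Subgroup G) ≤ C := fun v hv => mem_centralizer_iff.2 fun w hw =>
        congrArg Subtype.val (mul_comm (⟨w, hw⟩ : (P : Subgroup G)) ⟨v, hv⟩)
      refine Nat.card_le_card_of_injective
        (fun t => (⟨(t.1.1 : G) * (t.2 : G), C.mul_mem t.1.1.2 (hPC t.2.2)⟩ : C)) ?_
      rintro ⟨⟨x, hx⟩, v⟩ ⟨⟨y, hy⟩, w⟩ h
      have h : (x : G) * v = y * w := congrArg Subtype.val h
      set N := orderOf (x : G) * orderOf (y : G)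
      have hpN : ¬ p ∣ N := fun h' => (hp.out.dvd_mul.1 h').elim hx hy
      have hv : (v : G) ^ N = (w : G) ^ N := by
        have e := congrArg (· ^ N) h
        beta_reduce at e
        rwa [(show Commute (x : G) v from (hcm x v).symm).mul_pow,
          (show Commute (y : G) w from (hcm y w).symm).mul_pow,
          orderOf_dvd_iff_pow_eq_one.1 (dvd_mul_right _ _),
          orderOf_dvd_iff_pow_eq_one.1 (dvd_mul_left _ _), one_mul, one_mul] at e
      have hvw : v = w := by
        have hcop : (Nat.card (P : Subgroup G)).Coprime N := by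
          rw [hP]; exact hp.out.coprime_iff_not_dvd.2 hpN
        exact (powCoprime hcop).injective (Subtype.ext (by simpa [powCoprime] using hv))
      subst hvw
      have hxy : x = y := Subtype.ext (mul_right_cancel h)
      subst hxy
      rfl
    have hsum : Nat.card {x : C // p ∣ orderOf (x : G)} +
        Nat.card {x : C // ¬ p ∣ orderOf (x : G)} = p * a.2 := by
      rw [← Nat.card_sum, Nat.card_congr (Equiv.sumCompl _), hC]
    have h2 : Nat.card {x : C // ¬ p ∣ orderOf (x : G)} ≤ a.2 :=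
      Nat.le_of_mul_le_mul_left (mul_comm _ p ▸ hS) hp.out.pos
    rw [Nat.sub_mul, one_mul]
    omega
  let f : (Σ P : Sylow p G, {x : centralizer ((P : Subgroup G) : Set G) // p ∣ orderOf (x : G)}) →
      {g // g ∈ A G p} := fun s => ⟨(s.2.1 : G), mem_A.2 s.2.2⟩
  have hf : Function.Injective f := by
    rintro ⟨P, ⟨x, hxC⟩, hx⟩ ⟨Q, ⟨y, hyC⟩, hy⟩ h
    have h : x = y := congrArg Subtype.val h
    subst h
    obtain ⟨R, u, hu, huR, huz⟩ := exists_mem_centralizer hx
    have key : ∀ S : Sylow p G, x ∈ centralizer ((S : Subgroup G) : Set G) →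
        (S : Subgroup G) = zpowers u := by
      intro S hS
      have huS : u ∈ centralizer ((S : Subgroup G) : Set G) := zpowers_le.2 hS huz
      exact (sylow_eq_zpowers S (ha S).1 hu (mem_sylow_of_mem_normalizer S hu
        (centralizer_le_normalizer _ huS))).symm
    have : P = Q := Sylow.ext ((key P hxC).trans (key Q hyC).symm)
    subst this
    rfl
  have h := Nat.card_le_card_of_injective f hf
  haveI := Fintype.ofFinite (Sylow p G)
  rw [Nat.card_sigma, Nat.card_eq_finsetCard] at h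
  refine le_trans ?_ h
  rw [← hn, Nat.card_eq_fintype_card, ← Finset.card_univ, ← smul_eq_mul]
  exact Finset.card_nsmul_le_sum _ _ _ fun P _ => hfib P

end General

section Counting

variable {G : Type*} [Group G] [Finite G]

theorem sum_lt {p q l : ℕ} [Fact p.Prime] [Fact q.Prime] [Fact l.Prime] {a b c : ℕ × ℕ}
    (ha : Dat G p a) (hb : Dat G q b) (hc : Dat G l c) (hpq : p ≠ q) (hpl : p ≠ l) (hql : q ≠ l)
    (h1 : ¬ q ∣ a.2) (h2 : ¬ l ∣ a.2) (h3 : ¬ l ∣ b.2) :
    a.1 * ((p - 1) * a.2) + b.1 * ((q - 1) * b.2) + c.1 * ((l - 1) * c.2) < Nat.card G := by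
  classical
  haveI := Fintype.ofFinite G
  have h0 : (1 : G) ∉ A G p ∪ A G q ∪ A G l := by
    have hne : ∀ r : ℕ, Fact r.Prime → (1 : G) ∉ A G r := fun r hr h => by
      haveI := hr
      rw [mem_A, orderOf_one] at h
      exact hr.out.not_dvd_one h
    simp [hne _ ‹Fact p.Prime›, hne _ ‹Fact q.Prime›, hne _ ‹Fact l.Prime›]
  have hd : Disjoint (A G p ∪ A G q) (A G l) :=
    Finset.disjoint_union_left.2 ⟨ha.disjoint hpl h2, hb.disjoint hql h3⟩
  have h := Finset.card_lt_univ_of_notMem h0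
  rw [Finset.card_union_of_disjoint hd, Finset.card_union_of_disjoint (ha.disjoint hpq h1),
    ← Nat.card_eq_fintype_card] at h
  have := ha.le_card
  have := hb.le_card
  have := hc.le_card
  omega

end Counting

/-- The divisors of `9240`. -/
def D : List ℕ := divProds [8, 3, 5, 7, 11]

/-- The possible pairs (Sylow number, centralizer cofactor) at `q` in a simple group of order
`19 k`. -/
def opts (k q : ℕ) : List (ℕ × ℕ) :=
  if 19 * k % q ≠ 0 then [(0, 1)] else
    let M := 19 * k / q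
    (((divProds [8, 3, 5, 7, 11, 19]).filter fun n => n % q = 1 ∧ 19 ≤ n ∧ M % n = 0).flatMap
      fun n => (((List.range q).filter fun r => 1 < r ∧ (q - 1) % r = 0 ∧ M % (n * r) = 0).map
        fun r => (n, M / (n * r)))).filter
      fun a : ℕ × ℕ => ([2, 3, 5, 7, 11, 19] : List ℕ).all fun l => decide (a.2 % l ≠ 0 ∨ l ≤ (a.1 - 1) / q)

/-- Counting leads to a contradiction. -/
def check (k : ℕ) (a b c d : ℕ × ℕ) : Prop :=
  (a.2 % 11 = 0 ↔ b.2 % 19 = 0) → (a.2 % 7 = 0 ↔ c.2 % 19 = 0) →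
  (a.2 % 5 = 0 ↔ d.2 % 19 = 0) → (b.2 % 7 = 0 ↔ c.2 % 11 = 0) →
  (b.2 % 5 = 0 ↔ d.2 % 11 = 0) → (c.2 % 5 = 0 ↔ d.2 % 7 = 0) →
  (a.2 % 11 ≠ 0 ∧ a.2 % 7 ≠ 0 ∧ b.2 % 7 ≠ 0 ∧
    19 * k ≤ a.1 * (18 * a.2) + b.1 * (10 * b.2) + c.1 * (6 * c.2)) ∨
  (a.2 % 7 ≠ 0 ∧ a.2 % 5 ≠ 0 ∧ c.2 % 5 ≠ 0 ∧
    19 * k ≤ a.1 * (18 * a.2) + c.1 * (6 * c.2) + d.1 * (4 * d.2))

instance (k : ℕ) (a b c d : ℕ × ℕ) : Decidable (check k a b c d) := by
  unfold check; infer_instance

theorem check_all : ∀ k ∈ D, k = 9240 ∨ k = 40 ∨ k = 120 ∨ k = 840 ∨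
    ∀ a ∈ opts k 19, ∀ b ∈ opts k 11, ∀ c ∈ opts k 7, ∀ d ∈ opts k 5, check k a b c d := by
  decide +kernel

theorem opts_special : opts 40 19 = [(20, 1)] ∧ opts 120 19 = [(20, 1)] ∧
    opts 840 19 = [(210, 2)] := by
  decide +kernel

section Simple

variable {G : Type*} [Group G] [Finite G] [IsSimpleGroup G]

theorem exists_dat (hG : ¬ IsMulCommutative G) {k : ℕ} (hk : k ∣ 9240)
    (hn : Nat.card G = 19 * k) (q : ℕ) [hq : Fact q.Prime] (hq' : q ∈ [19, 11, 7, 5]) :
    ∃ a ∈ opts k q, Dat G q a := by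
  by_cases hqd : q ∣ Nat.card G
  swap
  · refine ⟨(0, 1), ?_, Or.inr ⟨hqd, rfl⟩⟩
    rw [opts, if_pos (fun h => hqd (hn ▸ Nat.dvd_of_mod_eq_zero h))]
    exact List.mem_singleton.2 rfl
  haveI : Fact (Nat.Prime 19) := ⟨by norm_num⟩
  have h175 : 19 * k ∣ 175560 := (mul_dvd_mul_left 19 hk : 19 * k ∣ 19 * 9240)
  obtain ⟨M, hM⟩ : q ∣ 19 * k := hn ▸ hqd
  have hqM : ¬ q ∣ M := by
    intro h
    have h2 : q * q ∣ 175560 := (mul_dvd_mul_left q h).trans (hM ▸ h175)
    simp only [List.mem_cons, List.not_mem_nil, or_false] at hq'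
    rcases hq' with rfl | rfl | rfl | rfl <;> norm_num at h2
  have hnp : ¬ (Nat.card G).Prime := fun h => hG <| by
    haveI := Fact.mk h
    haveI : IsCyclic G := isCyclic_of_prime_card (p := Nat.card G) rfl
    exact ⟨⟨fun a b => (IsCyclic.commGroup (α := G)).mul_comm a b⟩⟩
  obtain ⟨P⟩ := Sylow.nonempty (p := q) (G := G)
  have hP : Nat.card (P : Subgroup G) = q := by
    simpa using card_sylow_eq (a := 1) (m := M) (hn.trans hM) P (by simp) hqM
  set n := Nat.card (Sylow q G) with hndef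
  obtain ⟨hnd, hnmod⟩ := card_sylow_dvd (p := q) (a := 1) (m := M) (hn.trans hM) (by simp) hqM
  obtain ⟨N, hN⟩ := hnd
  have hNc : Nat.card (normalizer ((P : Subgroup G) : Set G)) = q * N :=
    card_normalizer_of_card_sylow P (hn.trans hM) rfl (by rw [hN]; ring)
  obtain ⟨r, c, hr1, hrd, hrc, hC⟩ := exists_relIndex_centralizer hG P hP hNc
  have hn1 : n ≠ 1 := card_sylow_ne_one hqd fun i hi => hnp (by
    have h19 : 19 ∣ q ^ i := hi ▸ hn ▸ dvd_mul_right 19 k
    have hq19 : q = 19 := ((Nat.prime_dvd_prime_iff_eq (by norm_num) hq.out).1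
      ((Nat.prime_iff.1 (by norm_num : Nat.Prime 19)).dvd_of_dvd_pow h19)).symm
    subst hq19
    have hi2 : i ≤ 1 := by
      by_contra hlt
      apply hqM
      obtain ⟨j, rfl⟩ : ∃ j, i = j + 2 := ⟨i - 2, by omega⟩
      rw [hn, hM] at hi
      exact ⟨19 ^ j, Nat.eq_of_mul_eq_mul_left hq.out.pos (hi.trans (by ring))⟩
    interval_cases i
    · exfalso
      have := (Nat.le_of_dvd Nat.card_pos hqd)
      omega
    · rw [hi, pow_one]; exact hq.out)
  have h19n : 19 ≤ n := by
    have hne : normalizer ((P : Subgroup G) : Set G) ≠ ⊤ := fun h => hn1 (by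
      rw [hndef, card_sylow_index P, h, index_top])
    have h := card_dvd_factorial hne
    rw [← card_sylow_index P, hn] at h
    exact (Nat.Prime.dvd_factorial (by norm_num)).1 ((dvd_mul_right 19 k).trans h)
  have hMk : 19 * k / q = M := by rw [hM, Nat.mul_div_cancel_left _ hq.out.pos]
  have hMnr : M = n * r * c := by rw [hN, ← hrc]; ring
  have hr0 : r < q := by
    have := Nat.le_of_dvd (by have := hq.out.two_le; omega) hrd
    have := hq.out.two_le
    omega
  refine ⟨(n, c), ?_, Or.inl ⟨rfl, fun Q => ⟨(card_sylow_congr Q P).trans hP,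
    (card_centralizer_sylow_congr Q P).trans hC⟩⟩⟩
  rw [opts, if_neg (not_not.2 (Nat.mod_eq_zero_of_dvd (Dvd.intro M hM.symm)))]
  simp only [List.mem_filter, List.mem_flatMap, List.mem_map, List.mem_range,
    decide_eq_true_eq, hMk]
  refine ⟨⟨n, ⟨?_, hnmod, h19n, Nat.mod_eq_zero_of_dvd ⟨N, hN⟩⟩, r,
    ⟨hr0, hr1, Nat.mod_eq_zero_of_dvd hrd, ?_⟩, ?_⟩, ?_⟩
  · refine mem_divProds _ (by decide) n ?_
    exact (Dvd.intro N hN.symm).trans ((Dvd.intro_left q hM.symm).trans h175)
  · exact Nat.mod_eq_zero_of_dvd ⟨c, hMnr⟩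
  · rw [hMnr, Nat.mul_div_cancel_left _
      (Nat.mul_pos (by omega) (by omega))]
  · rw [List.all_eq_true]
    intro l hl
    simp only [decide_eq_true_eq]
    refine or_iff_not_imp_left.2 fun hlc => ?_
    rw [not_not] at hlc
    have hlp : l.Prime := by fin_cases hl <;> norm_num
    haveI := Fact.mk hlp
    have hlc : l ∣ c := Nat.dvd_of_mod_eq_zero hlc
    have hlq : l ≠ q := by
      rintro rfl
      exact hqM (hlc.trans (Dvd.intro_left _ hMnr.symm))
    obtain ⟨v, hv⟩ := exists_prime_orderOf_dvd_card'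
      (G := centralizer ((P : Subgroup G) : Set G)) l (hC ▸ dvd_mul_of_dvd_right hlc q)
    have hcard : Nat.card (zpowers (v : G)) = l := by rw [Nat.card_zpowers, orderOf_coe, hv]
    have hnm : n = 1 + (n - 1) / q * q := by
      have h2 := Nat.div_add_mod n q
      rw [hnmod] at h2
      have h3 : (n - 1) / q = n / q := by
        rw [← h2, Nat.add_sub_cancel, Nat.mul_div_cancel_left _ hq.out.pos, h2]
      rw [h3, mul_comm]; omega
    have hm0 : 0 < (n - 1) / q := Nat.pos_of_ne_zero fun h => by rw [h] at hnm; omega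
    have h := card_dvd_factorial_orbits P hP _ hnm hm0 _ (zpowers_le.2 v.2)
      (by rw [hcard]; exact (Nat.coprime_primes hlp hq.out).2 hlq)
    rw [hcard] at h
    exact hlp.dvd_factorial.1 h

theorem false_of_twenty (hG : ¬ IsMulCommutative G) [Fact (Nat.Prime 19)] {k : ℕ}
    (hn : Nat.card G = 19 * k) (hk : k = 40 ∨ k = 120) (h : Dat G 19 (20, 1)) : False := by
  rcases h with ⟨hn20, h⟩ | ⟨hd, -⟩
  swap; · exact hd (hn ▸ dvd_mul_right 19 k)
  obtain ⟨P⟩ := Sylow.nonempty (p := 19) (G := G)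
  obtain ⟨hP, hC⟩ := h P
  obtain ⟨c, hc, h2⟩ : ∃ c, 19 * k = 20 * (19 * c) ∧ 2 ∣ 19 * c := by
    rcases hk with rfl | rfl
    · exact ⟨2, rfl, by norm_num⟩
    · exact ⟨6, rfl, by norm_num⟩
  have hN := card_normalizer_of_card_sylow P hn hn20 hc
  obtain ⟨x, hx⟩ := exists_prime_orderOf_dvd_card'
    (G := normalizer ((P : Subgroup G) : Set G)) (hp := ⟨Nat.prime_two⟩) 2 (hN ▸ h2)
  have hx' : orderOf (x : G) = 2 := by rw [orderOf_coe, hx]
  have hxC : (x : G) ∉ centralizer ((P : Subgroup G) : Set G) := fun hh => by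
    have := Subgroup.orderOf_dvd_natCard _ hh
    rw [hx', hC] at this
    norm_num at this
  set X := G ⧸ normalizer ((P : Subgroup G) : Set G)
  have hX : Nat.card X = 20 := by
    rw [← index_eq_card, ← card_sylow_index P, hn20]
  have hle : Nat.card (MulAction.fixedBy X (x : G)) ≤ 2 :=
    (card_fixedBy_le_orbits (X := X) (by norm_num) (P : Subgroup G) hP x.2 hxC).trans
      (card_orbits_le P hP 1 hn20)
  have hpos : 0 < Nat.card (MulAction.fixedBy X (x : G)) := by
    haveI : Nonempty (MulAction.fixedBy X (x : G)) := ⟨⟨((1 : G) : X), by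
      show (x : G) • ((1 : G) : X) = _
      rw [smul_mk_eq_iff, inv_one, one_mul, mul_one]; exact x.2⟩⟩
    exact Nat.card_pos
  have h4 := four_dvd_moved (X := X) hG (x := (x : G))
    (by rw [← pow_two, ← hx', pow_orderOf_eq_one])
  rw [hX] at h4
  omega

theorem false_of_840 (hG : ¬ IsMulCommutative G) [Fact (Nat.Prime 19)]
    (hn : Nat.card G = 19 * 840) (h : Dat G 19 (210, 2)) : False := by
  rcases h with ⟨hn19, h⟩ | ⟨hd, -⟩
  swap; · exact hd (hn ▸ dvd_mul_right 19 840)
  obtain ⟨P⟩ := Sylow.nonempty (p := 19) (G := G)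
  obtain ⟨hP, hC⟩ := h P
  set C := centralizer ((P : Subgroup G) : Set G) with hCdef
  set N := normalizer ((P : Subgroup G) : Set G) with hNdef
  have hN : Nat.card N = 76 := card_normalizer_of_card_sylow P hn hn19 (by norm_num)
  obtain ⟨v, hv⟩ := exists_prime_orderOf_dvd_card' (G := C) (hp := ⟨Nat.prime_two⟩) 2
    (hC ▸ by norm_num)
  set t : G := (v : G) with htdef
  have ht2 : orderOf t = 2 := by rw [htdef, orderOf_coe, hv]
  have ht : t * t = 1 := by rw [← pow_two, ← ht2, pow_orderOf_eq_one]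
  have ht1 : t ≠ 1 := fun hh => by rw [hh, orderOf_one] at ht2; omega
  set X := G ⧸ N
  have hX : Nat.card X = 210 := by rw [← index_eq_card, ← card_sylow_index P, hn19]
  set F := Nat.card (MulAction.fixedBy X t) with hFdef
  have hFlt : F < 210 := by
    have hne : N ≠ ⊤ := fun hh => by
      have := hN; rw [hh, card_top, hn] at this; norm_num at this
    have := card_fixedBy_lt_index hne ht1
    rwa [← card_sylow_index P, hn19] at this
  have hFmod : F ≡ 1 [MOD 19] := card_fixedBy_modEq_one P hP v.2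
  have h4 : 4 ∣ 210 - F := hX ▸ four_dvd_moved (X := X) hG ht
  -- the conjugates of `t` in `N`
  set x := Nat.card {g : G // IsConj t g ∧ g ∈ N}
  have hle : x ≤ 39 := by
    classical
    have hPC : (P : Subgroup G) ≤ C := by
      haveI : IsCyclic (P : Subgroup G) := isCyclic_of_prime_card hP
      letI : CommGroup (P : Subgroup G) := IsCyclic.commGroup
      exact fun v hv => mem_centralizer_iff.2 fun w hw =>
        congrArg Subtype.val (mul_comm (⟨w, hw⟩ : (P : Subgroup G)) ⟨v, hv⟩)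
    have hidx : ((P : Subgroup G).subgroupOf C).index = 2 := by
      have h := ((P : Subgroup G).subgroupOf C).card_mul_index
      rw [Nat.card_congr (subgroupOfEquivOfLe hPC).toEquiv, hP, hC] at h
      omega
    have hodd : ∀ g : G, g * g = 1 → g ∈ (P : Subgroup G) → g = 1 := fun g hg hgP => by
      have h1 := Subgroup.orderOf_dvd_natCard _ hgP
      rw [hP] at h1
      have h2 := orderOf_dvd_of_pow_eq_one ((pow_two g).trans hg)
      exact orderOf_eq_one_iff.1 (Nat.dvd_one.1 ((Nat.dvd_gcd h1 h2).trans (by norm_num)))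
    have huniq : ∀ g : G, IsConj t g → g ∈ C → g = t := by
      intro g hg hgC
      obtain ⟨w, hw⟩ := isConj_iff.1 hg
      have hg2 : g * g = 1 := by
        rw [← hw, show w * t * w⁻¹ * (w * t * w⁻¹) = w * (t * t) * w⁻¹ by group, ht]
        group
      have hg1 : g ≠ 1 := fun hh => ht1 (by
        rw [hh] at hw
        calc t = w⁻¹ * (w * t * w⁻¹) * w := by group
          _ = 1 := by rw [hw]; group)
      have hgt : g * t ∈ (P : Subgroup G) := by
        have h1 : ((⟨g, hgC⟩ : C) * v) ∈ (P : Subgroup G).subgroupOf C := by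
          rw [mul_mem_iff_of_index_two hidx, mem_subgroupOf, mem_subgroupOf]
          exact iff_of_false (fun hh => hg1 (hodd g hg2 hh)) fun hh => ht1 (hodd t ht hh)
        simpa [mem_subgroupOf] using h1
      have hcm : g * t * t = t * (g * t) := (mem_centralizer_iff.1 v.2 _ hgt)
      have hsq : g * t * (g * t) = 1 := by
        have : g * t = t * g := by
          rw [mul_assoc, ht, mul_one] at hcm
          calc g * t = t * (g * t) * t := by rw [← hcm]
            _ = t * g * (t * t) := by group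
            _ = t * g := by rw [ht, mul_one]
        calc g * t * (g * t) = g * (t * g) * t := by group
          _ = g * g * (t * t) := by rw [← this]; group
          _ = 1 := by rw [hg2, ht, one_mul]
      have h1 := hodd _ hsq hgt
      calc g = g * t * t := by rw [mul_assoc, ht, mul_one]
        _ = t := by rw [h1, one_mul]
    let f : {g : G // IsConj t g ∧ g ∈ N} → Option {g : N // (g : G) ∉ C} := fun g =>
      if hg : g.1 ∈ C then none else some ⟨⟨g.1, g.2.2⟩, hg⟩
    have hf : Function.Injective f := by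
      rintro ⟨g, hg⟩ ⟨g', hg'⟩ hgg
      simp only [f] at hgg
      split_ifs at hgg with h1 h2
      · exact Subtype.ext ((huniq g hg.1 h1).trans (huniq g' hg'.1 h2).symm)
      · simpa using hgg
    have hcard := Nat.card_le_card_of_injective f hf
    have hcompl : Nat.card {g : N // (g : G) ∈ C} + Nat.card {g : N // (g : G) ∉ C} = 76 := by
      rw [← Nat.card_sum, Nat.card_congr (Equiv.sumCompl _), hN]
    have hCN : Nat.card {g : N // (g : G) ∈ C} = 38 :=
      (Nat.card_congr (subgroupOfEquivOfLe (centralizer_le_normalizer _)).toEquiv).trans hC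
    rw [Finite.card_option] at hcard
    omega
  -- the centralizer of `t`
  set K := centralizer ({t} : Set G)
  have hCK : 38 ∣ Nat.card K := by
    have h19 : 19 ∣ Nat.card K := hP ▸ card_dvd_of_le (fun y hy =>
      mem_centralizer_singleton_iff.2 (mem_centralizer_iff.1 v.2 y hy))
    have h2 : 2 ∣ Nat.card K := ht2 ▸ Subgroup.orderOf_dvd_natCard _
      (mem_centralizer_singleton_iff.2 rfl)
    exact Nat.Coprime.mul_dvd_of_dvd_of_dvd (m := 2) (n := 19) (by norm_num) h2 h19
  obtain ⟨j, hj⟩ := hCK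
  have hjd : j ∣ 420 := by
    have := Subgroup.card_subgroup_dvd_card K
    rw [hn, hj] at this
    exact Nat.dvd_of_mul_dvd_mul_left (by norm_num : 0 < 38) this
  have heq : x * j = 2 * F := by
    have e1 := card_fixedBy_mul_card_class N t
    have e2 := card_class_mul_centralizer t
    rw [hn, hj] at e2
    rw [← card_sylow_index P, hn19] at e1
    have e3 : F * (19 * 840) = 210 * x * (38 * j) := by rw [← e2, ← mul_assoc, e1]
    nlinarith
  have hF : F = 58 ∨ F = 134 := by
    have : F % 19 = 1 := hFmod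
    omega
  have key : ∀ a < 40, ∀ b ∈ divProds [4, 3, 5, 7], a * b = 116 ∨ a * b = 268 → b = 4 := by
    decide +kernel
  have hj4 : j = 4 := key x (by omega) j (mem_divProds _ (by decide) j (by simpa using hjd))
    (by omega)
  have hK : Nat.card K = 152 := by rw [hj, hj4]
  have hPK : (P : Subgroup G) ≤ K := fun y hy =>
    mem_centralizer_singleton_iff.2 (mem_centralizer_iff.1 v.2 y hy)
  obtain ⟨hd, hmod⟩ := card_sylow_dvd (G := K) (p := 19) (a := 1) (m := 8) hK (by norm_num)
    (by norm_num)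
  have h1 : Nat.card (Sylow 19 K) = 1 := by
    have := Nat.le_of_dvd (by norm_num) hd
    interval_cases (Nat.card (Sylow 19 K)) <;> omega
  have hKN : K ≤ N := by
    rw [card_sylow_index (P.subtype hPK), index_eq_one, normalizer_eq_top_iff] at h1
    exact (normal_subgroupOf_iff_le_normalizer hPK).1 h1
  have := Nat.le_of_dvd Nat.card_pos (card_dvd_of_le hKN)
  omega

theorem false_of_simple (hG : ¬ IsMulCommutative G) {k : ℕ} (hk : k ∣ 9240) (hk' : k ≠ 9240)
    (hn : Nat.card G = 19 * k) : False := by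
  haveI h19 : Fact (Nat.Prime 19) := ⟨by norm_num⟩
  haveI : Fact (Nat.Prime 11) := ⟨by norm_num⟩
  haveI : Fact (Nat.Prime 7) := ⟨by norm_num⟩
  haveI : Fact (Nat.Prime 5) := ⟨by norm_num⟩
  obtain ⟨a, hao, ha⟩ := exists_dat hG hk hn 19 (by simp)
  obtain ⟨b, hbo, hb⟩ := exists_dat hG hk hn 11 (by simp)
  obtain ⟨c, hco, hc⟩ := exists_dat hG hk hn 7 (by simp)
  obtain ⟨d, hdo, hd⟩ := exists_dat hG hk hn 5 (by simp)
  rcases check_all k (mem_divProds _ (by decide) k (by simpa using hk)) with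
    h | rfl | rfl | rfl | h
  · exact hk' h
  · rw [opts_special.1, List.mem_singleton] at hao
    exact false_of_twenty hG hn (Or.inl rfl) (hao ▸ ha)
  · rw [opts_special.2.1, List.mem_singleton] at hao
    exact false_of_twenty hG hn (Or.inr rfl) (hao ▸ ha)
  · rw [opts_special.2.2, List.mem_singleton] at hao
    exact false_of_840 hG hn (hao ▸ ha)
  have cm : ∀ {p q : ℕ} [Fact p.Prime] [Fact q.Prime], p ≠ q → ∀ {s t : ℕ × ℕ},
      Dat G p s → Dat G q t → (s.2 % q = 0 ↔ t.2 % p = 0) := fun hpq _ _ hs ht => by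
    rw [← Nat.dvd_iff_mod_eq_zero, ← Nat.dvd_iff_mod_eq_zero]
    exact ⟨hs.commute hpq ht, ht.commute hpq.symm hs⟩
  rcases h a hao b hbo c hco d hdo (cm (by norm_num) ha hb) (cm (by norm_num) ha hc)
      (cm (by norm_num) ha hd) (cm (by norm_num) hb hc) (cm (by norm_num) hb hd)
      (cm (by norm_num) hc hd) with ⟨h1, h2, h3, h4⟩ | ⟨h1, h2, h3, h4⟩
  · have := sum_lt ha hb hc (by norm_num) (by norm_num) (by norm_num)
      (fun hh => h1 (Nat.mod_eq_zero_of_dvd hh)) (fun hh => h2 (Nat.mod_eq_zero_of_dvd hh))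
      (fun hh => h3 (Nat.mod_eq_zero_of_dvd hh))
    norm_num at this
    omega
  · have := sum_lt ha hc hd (by norm_num) (by norm_num) (by norm_num)
      (fun hh => h1 (Nat.mod_eq_zero_of_dvd hh)) (fun hh => h2 (Nat.mod_eq_zero_of_dvd hh))
      (fun hh => h3 (Nat.mod_eq_zero_of_dvd hh))
    norm_num at this
    omega

end Simple

theorem pow_lt_nineteen {q i : ℕ} (hq : q.Prime) (h : q ^ i ∣ 9240) : q ^ i < 19 := by
  have hm := mem_divProds [8, 3, 5, 7, 11] (by decide) (q ^ i) (by simpa using h)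
  have key : ∀ d ∈ D, d < 19 ∨ (d % 2 = 0 ∧ (d % 3 = 0 ∨ d % 5 = 0 ∨ d % 7 = 0 ∨ d % 11 = 0)) ∨
      (d % 3 = 0 ∧ (d % 5 = 0 ∨ d % 7 = 0 ∨ d % 11 = 0)) ∨
      (d % 5 = 0 ∧ (d % 7 = 0 ∨ d % 11 = 0)) ∨ (d % 7 = 0 ∧ d % 11 = 0) := by
    decide +kernel
  have hd : ∀ r : ℕ, r.Prime → q ^ i % r = 0 → r = q := fun r hr hh =>
    (Nat.prime_dvd_prime_iff_eq hr hq).1 (hr.dvd_of_dvd_pow (Nat.dvd_of_mod_eq_zero hh))
  have h2 := hd 2 Nat.prime_two
  have h3 := hd 3 Nat.prime_three
  have h5 := hd 5 (by norm_num)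
  have h7 := hd 7 (by norm_num)
  have h11 := hd 11 (by norm_num)
  rcases key _ hm with h | h | h | h | h <;> omega

/-- Reduction through a proper nontrivial normal subgroup. -/
theorem normal_of_normal {G : Type u} [Group G] [Finite G] [Fact (Nat.Prime 19)] {k : ℕ}
    (hn : Nat.card G = 19 * k) (hk : k ∣ 9240) (M : Subgroup G) [M.Normal] (hM : M ≠ ⊤)
    (IH : ∀ k' < k, ∀ (H : Type u) [Group H] [Finite H], Nat.card H = 19 * k' → k' ∣ 9240 →
      k' ≠ 9240 → ∀ R : Sylow 19 H, (R : Subgroup H).Normal)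
    (hM' : M ≠ ⊥) (P : Sylow 19 G) : (P : Subgroup G).Normal := by
  have hk19 : ¬ 19 ∣ k := fun h => by have := h.trans hk; norm_num at this
  have hk0 : 0 < k := Nat.pos_of_ne_zero fun h => by rw [h] at hk; norm_num at hk
  have hP : Nat.card (P : Subgroup G) = 19 := by
    simpa using card_sylow_eq (a := 1) (m := k) hn P (by simp) hk19
  have hidx := M.card_mul_index
  rw [hn] at hidx
  have hi1 : 1 < M.index := one_lt_index_of_ne_top hM
  have hc1 : 1 < Nat.card M := (one_lt_card_iff_ne_bot M).2 hM'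
  by_cases h19 : 19 ∣ Nat.card M
  · obtain ⟨k', hk'⟩ := h19
    rw [hk', mul_assoc] at hidx
    have e : k' * M.index = k := Nat.eq_of_mul_eq_mul_left (by norm_num) hidx
    have hlt : k' < k := by
      rw [← e]
      exact lt_mul_of_one_lt_right (Nat.pos_of_ne_zero fun h => by rw [h] at hk'; omega) hi1
    refine normal_of_normal_le M ⟨k', hk'⟩ (fun R => IH k' hlt M hk' ?_ ?_ R) P hP
    · exact (Dvd.intro _ e).trans hk
    · exact fun h => by have := Nat.le_of_dvd (by norm_num) hk; omega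
  -- `M` is centralized by `P`
  have hMk : Nat.card M ∣ k := (Nat.Coprime.dvd_of_dvd_mul_left
    ((Nat.Prime.coprime_iff_not_dvd (by norm_num)).2 h19).symm
    (hn ▸ M.card_subgroup_dvd_card))
  have hMC : M ≤ centralizer ((P : Subgroup G) : Set G) :=
    le_centralizer_of_normal P hP M h19 fun q i hq hi =>
      pow_lt_nineteen hq ((hi.trans hMk).trans hk)
  obtain ⟨k', e⟩ := hMk
  have hq : Nat.card (G ⧸ M) = 19 * k' := by
    rw [← index_eq_card]
    refine Nat.eq_of_mul_eq_mul_left (show 0 < Nat.card M by omega) ?_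
    rw [hidx, e]; ring
  have hlt : k' < k := by
    rw [e]
    exact lt_mul_of_one_lt_left (Nat.pos_of_ne_zero fun h => by rw [h] at e; omega) hc1
  set Pb := P.mapSurjective (QuotientGroup.mk'_surjective M) with hPbdef
  haveI hPb : (Pb : Subgroup (G ⧸ M)).Normal := IH k' hlt (G ⧸ M) hq
    ((Dvd.intro_left _ e.symm).trans hk)
    (fun h => by have := Nat.le_of_dvd (by norm_num) hk; omega) Pb
  set L := (Pb : Subgroup (G ⧸ M)).comap (QuotientGroup.mk' M) with hL
  haveI : L.Normal := hPb.comap _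
  have hLeq : L = (P : Subgroup G) ⊔ M := by
    rw [hL, hPbdef, Sylow.coe_mapSurjective, comap_map_eq, QuotientGroup.ker_mk']
  have hPL : (P : Subgroup G) ≤ L := hLeq ▸ le_sup_left
  have hLN : L ≤ normalizer ((P : Subgroup G) : Set G) :=
    hLeq ▸ sup_le le_normalizer (hMC.trans (centralizer_le_normalizer _))
  refine normal_of_normal_le L (hP ▸ card_dvd_of_le hPL) (fun R => ?_) P hP
  haveI : ((P.subtype hPL : Sylow 19 L) : Subgroup L).Normal :=
    (normal_subgroupOf_iff_le_normalizer hPL).2 hLN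
  haveI := Sylow.unique_of_normal (P.subtype hPL) inferInstance
  rwa [Subsingleton.elim R (P.subtype hPL)]

theorem normal_sylow : ∀ (k : ℕ) (G : Type u) [Group G] [Finite G], Nat.card G = 19 * k →
    k ∣ 9240 → k ≠ 9240 → ∀ P : Sylow 19 G, (P : Subgroup G).Normal := by
  intro k
  induction k using Nat.strong_induction_on with
  | _ k IH =>
    intro G _ _ hn hk hk' P
    haveI : Fact (Nat.Prime 19) := ⟨by norm_num⟩
    have hk19 : ¬ 19 ∣ k := fun h => by have := h.trans hk; norm_num at this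
    have hP : Nat.card (P : Subgroup G) = 19 := by
      simpa using card_sylow_eq (a := 1) (m := k) hn P (by simp) hk19
    by_cases h : IsSimpleGroup G
    · by_cases hG : IsMulCommutative G
      · letI : CommGroup G := { (inferInstance : Group G) with mul_comm := hG.is_comm.comm }
        infer_instance
      · exact (false_of_simple hG hk hk' hn).elim
    · haveI : Nontrivial G := Finite.one_lt_card_iff_nontrivial.1
        (lt_of_lt_of_le (by rw [hP]; norm_num) (card_le_card_group (P : Subgroup G)))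
      obtain ⟨M, hM, h1, h2⟩ : ∃ M : Subgroup G, M.Normal ∧ M ≠ ⊥ ∧ M ≠ ⊤ := by
        by_contra hc
        exact h ⟨fun H hH => or_iff_not_imp_left.2 fun h1 =>
          by_contra fun h2 => hc ⟨H, hH, h1, h2⟩⟩
      exact normal_of_normal hn hk M h2 IH h1 P

/-- A finite group of order 175560 = 2³·3·5·7·11·19 is either simple or has a normal Sylow 19-subgroup. -/
theorem result {G : Type*} [Group G] [Finite G] (hG : Nat.card G = 175560) : IsSimpleGroup G ∨ ∀ P : Sylow 19 G, (P : Subgroup G).Normal := by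
  refine or_iff_not_imp_left.2 fun h P => ?_
  haveI : Fact (Nat.Prime 19) := ⟨by norm_num⟩
  haveI : Nontrivial G := Finite.one_lt_card_iff_nontrivial.1 (by omega)
  obtain ⟨M, hM, h1, h2⟩ : ∃ M : Subgroup G, M.Normal ∧ M ≠ ⊥ ∧ M ≠ ⊤ := by
    by_contra hc
    exact h ⟨fun H hH => or_iff_not_imp_left.2 fun h1 =>
      by_contra fun h2 => hc ⟨H, hH, h1, h2⟩⟩
  exact normal_of_normal (k := 9240) (hG.trans (by norm_num)) dvd_rfl M h2
    (fun k' _ H _ _ => normal_sylow k' H) h1 P

end Cfsg.Agent.S4274
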