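import Cfsg.Statements.S4280
import Cfsg.Agent.H37.OddInv.F4

set_option autoImplicit false
open Cfsg

namespace Cfsg.Agent.S4280

/-- In the Chevalley group of type F₄ over a finite field of odd order q there are exactly two conjugacy classes of involutions; the centralizer of an involution in one class has order q¹⁶(q² − 1)(q⁴ − 1)(q⁶ − 1)(q⁸ − 1), and in the other class q¹⁰(q² − 1)²(q⁴ − 1)(q⁶ − 1). -/
theorem result {F : Type*} [Field F] [Fintype F] (hF : Odd (Fintype.card F)) : ∃ s t : ↥(Cfsg.Lie.chevF4.group F), orderOf s = 2 ∧ orderOf t = 2 ∧ ¬ IsConj s t ∧ (∀ u : ↥(Cfsg.Lie.chevF4.group F), orderOf u = 2 → IsConj u s ∨ IsConj u t) ∧ Nat.card (Subgroup.centralizer ({s} : Set ↥(Cfsg.Lie.chevF4.group F))) = Fintype.card F ^ 16 * (Fintype.card F ^ 2 - 1) * (Fintype.card F ^ 4 - 1) * (Fintype.card F ^ 6 - 1) * (Fintype.card F ^ 8 - 1) ∧ Nat.card (Subgroup.centralizer ({t} : Set ↥(Cfsg.Lie.chevF4.group F)))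 = Fintype.card F ^ 10 * (Fintype.card F ^ 2 - 1) ^ 2 * (Fintype.card F ^ 4 - 1) * (Fintype.card F ^ 6 - 1) := by
  have hs := Cfsg.Agent.H37.OddInv.F4.z_order hF (Cfsg.Lie.chevF4.simple 0) ⟨0, by decide +kernel⟩
  have ht := Cfsg.Agent.H37.OddInv.F4.z_order hF (Cfsg.Lie.chevF4.simple 3) ⟨3, by decide +kernel⟩
  refine ⟨_, _, hs, ht, fun hc => ?_, fun u hu => Cfsg.Agent.H37.OddInv.F4.conj_class hF hu,
    Cfsg.Agent.H37.OddInv.F4.card_s hF, Cfsg.Agent.H37.OddInv.F4.card_t hF⟩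
  obtain ⟨g, hg⟩ := isConj_iff.1 hc
  have hcard : Nat.card (Subgroup.centralizer {Cfsg.Agent.H37.OddInv.F4.z F (Cfsg.Lie.chevF4.simple 0)}) =
      Nat.card (Subgroup.centralizer {Cfsg.Agent.H37.OddInv.F4.z F (Cfsg.Lie.chevF4.simple 3)}) := by
    refine Nat.card_congr ((MulAut.conj g).toEquiv.subtypeEquiv fun x => ?_)
    show x ∈ Subgroup.centralizer _ ↔ g * x * g⁻¹ ∈ Subgroup.centralizer _
    rw [← hg, Subgroup.mem_centralizer_singleton_iff, Subgroup.mem_centralizer_singleton_iff,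
      show ∀ a b : ↥(Cfsg.Lie.chevF4.group F), g * a * g⁻¹ * (g * b * g⁻¹) = g * (a * b) * g⁻¹ from
        fun a b => by group, show ∀ a b : ↥(Cfsg.Lie.chevF4.group F),
        g * a * g⁻¹ * (g * b * g⁻¹) = g * (a * b) * g⁻¹ from fun a b => by group,
      mul_left_inj, mul_right_inj]
  rw [Cfsg.Agent.H37.OddInv.F4.card_s hF, Cfsg.Agent.H37.OddInv.F4.card_t hF] at hcard
  -- compare the powers of q dividing both sides
  set q := Fintype.card F with hq
  have h2 : 2 ≤ q := Fintype.one_lt_card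
  have hpow : ∀ n, 0 < n → 0 < q ^ n - 1 ∧ Nat.Coprime q (q ^ n - 1) := by
    intro n hn
    have h1 : 1 < q ^ n := Nat.one_lt_pow (by omega) h2
    refine ⟨by omega, ?_⟩
    have h3 := (Nat.coprime_self_sub_right (m := 1) (n := q ^ n) (by omega)).2 (Nat.coprime_one_right _)
    exact Nat.Coprime.coprime_dvd_left (dvd_pow_self q (by omega)) h3
  have hA : Nat.Coprime (q ^ 16) ((q ^ 2 - 1) ^ 2 * (q ^ 4 - 1) * (q ^ 6 - 1)) :=
    Nat.Coprime.pow_left _ (((hpow 2 (by omega)).2.pow_right 2).mul_right (hpow 4 (by omega)).2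
      |>.mul_right (hpow 6 (by omega)).2)
  have hdvd : q ^ 16 ∣ q ^ 10 * ((q ^ 2 - 1) ^ 2 * (q ^ 4 - 1) * (q ^ 6 - 1)) :=
    ⟨(q ^ 2 - 1) * (q ^ 4 - 1) * (q ^ 6 - 1) * (q ^ 8 - 1), by linarith [hcard]⟩
  have h16 := Nat.le_of_dvd (by positivity) (hA.dvd_of_dvd_mul_right hdvd)
  have := Nat.pow_lt_pow_right h2 (show 10 < 16 by omega)
  omega

end Cfsg.Agent.S4280
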