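import Cfsg.Statements.S4281
import Cfsg.Agent.H37.OddInv.E8

set_option autoImplicit false
open scoped BigOperators
open Cfsg

namespace Cfsg.Agent.S4281

/-- In the Chevalley group of type E₈ over a finite field of odd order q there are exactly two conjugacy classes of involutions; the centralizer of an involution in one class has order q⁵⁶(q⁸ − 1)·∏_{i=1}^{7}(q^{2i} − 1), and in the other class q⁶⁴(q² − 1)²(q⁶ − 1)(q⁸ − 1)(q¹⁰ − 1)(q¹² − 1)(q¹⁴ − 1)(q¹⁸ − 1). -/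
theorem result {F : Type*} [Field F] [Fintype F] (hF : Odd (Fintype.card F)) : ∃ s t : ↥(Cfsg.Lie.chevE8.group F), orderOf s = 2 ∧ orderOf t = 2 ∧ ¬ IsConj s t ∧ (∀ u : ↥(Cfsg.Lie.chevE8.group F), orderOf u = 2 → IsConj u s ∨ IsConj u t) ∧ Nat.card (Subgroup.centralizer ({s} : Set ↥(Cfsg.Lie.chevE8.group F))) = Fintype.card F ^ 56 * (Fintype.card F ^ 8 - 1) * ∏ i ∈ Finset.Icc 1 7, (Fintype.card F ^ (2 * i) - 1) ∧ Nat.card (Subgroup.centralizer ({t} : Set ↥(Cfsg.Lie.chevE8.group F))) = Fintype.card F ^ 64 * (Fintype.card F ^ 2 - 1) ^ 2 * (Fintype.card F ^ 6 - 1) * (Fintype.card F ^ 8 - 1) * (Fintype.card F ^ 10 - 1) * (Fintype.card F ^ 12 - 1) * (Fintype.card F ^ 14 - 1) * (Fintype.card F ^ 18 - 1) := by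
  have hs := Cfsg.Agent.H37.OddInv.E8.z_order (F := F) hF 6 ⟨1, by omega, by decide⟩
  have ht := Cfsg.Agent.H37.OddInv.E8.z_order (F := F) hF 82 ⟨1, by omega, by decide⟩
  refine ⟨_, _, hs, ht, fun hc => ?_, fun u hu => Cfsg.Agent.H37.OddInv.E8.conj_class hF hu,
    Cfsg.Agent.H37.OddInv.E8.card_s hF, Cfsg.Agent.H37.OddInv.E8.card_t hF⟩
  obtain ⟨g, hg⟩ := isConj_iff.1 hc
  have hcard : ∀ (x y : ↥(Cfsg.Lie.chevE8.group F)), g * x * g⁻¹ = y →
      Nat.card (Subgroup.centralizer ({x} : Set ↥(Cfsg.Lie.chevE8.group F))) =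
      Nat.card (Subgroup.centralizer ({y} : Set ↥(Cfsg.Lie.chevE8.group F))) := by
    intro x y hxy
    refine Nat.card_congr ((MulAut.conj g).toEquiv.subtypeEquiv fun a => ?_)
    show a ∈ Subgroup.centralizer _ ↔ g * a * g⁻¹ ∈ Subgroup.centralizer _
    rw [← hxy, Subgroup.mem_centralizer_singleton_iff, Subgroup.mem_centralizer_singleton_iff,
      show ∀ a b : ↥(Cfsg.Lie.chevE8.group F), g * a * g⁻¹ * (g * b * g⁻¹) = g * (a * b) * g⁻¹ from
        fun a b => by group, show ∀ a b : ↥(Cfsg.Lie.chevE8.group F),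
        g * a * g⁻¹ * (g * b * g⁻¹) = g * (a * b) * g⁻¹ from fun a b => by group,
      mul_left_inj, mul_right_inj]
  have h := hcard _ _ hg
  rw [Cfsg.Agent.H37.OddInv.E8.card_s hF, Cfsg.Agent.H37.OddInv.E8.card_t hF] at h
  set q := Fintype.card F with hq
  have h2 : 2 ≤ q := Fintype.one_lt_card
  have hcop : ∀ n, 0 < n → Nat.Coprime q (q ^ n - 1) := by
    intro n hn
    have h1 : 1 < q ^ n := Nat.one_lt_pow (by omega) h2
    have h3 := (Nat.coprime_self_sub_right (m := 1) (n := q ^ n) (by omega)).2 (Nat.coprime_one_right _)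
    exact Nat.Coprime.coprime_dvd_left (dvd_pow_self q (by omega)) h3
  have hA : Nat.Coprime (q ^ 64) ((q ^ 8 - 1) * ∏ i ∈ Finset.Icc 1 7, (q ^ (2 * i) - 1)) :=
    Nat.Coprime.pow_left _ ((hcop 8 (by omega)).mul_right (Nat.Coprime.prod_right fun i hi =>
      hcop (2 * i) (by rw [Finset.mem_Icc] at hi; omega)))
  rw [mul_assoc (q ^ 56)] at h
  have hdvd : q ^ 64 ∣ q ^ 56 * ((q ^ 8 - 1) * ∏ i ∈ Finset.Icc 1 7, (q ^ (2 * i) - 1)) := by
    rw [h]
    simp only [mul_assoc]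
    exact dvd_mul_right _ _
  have h64 := Nat.le_of_dvd (by positivity) (hA.dvd_of_dvd_mul_right hdvd)
  have := Nat.pow_lt_pow_right h2 (show 56 < 64 by omega)
  omega

end Cfsg.Agent.S4281
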