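import Cfsg.Statements.S4282
import Cfsg.Agent.PGroups.FreeEnd
import Mathlib.LinearAlgebra.Charpoly.Basic
import Mathlib.LinearAlgebra.Eigenspace.Zero

set_option autoImplicit false
open Cfsg

namespace Cfsg.Agent.S4282

/-- A critical case behind the Hall–Higman theorem. Let p ≠ q be primes and G a finite group generated by a normal q-subgroup Q and a cyclic p-subgroup generated by x, such that the centralizer of every non-identity element of that cyclic subgroup is its product with the centre of G. Let K be an algebraically closed field of characteristic p and ρ a faithful representation of G on a nonzero finite-dimensional K-space whose restriction to Q is irreducible. If s is the least exponent with (ρ(x) − 1)^s = 0, then |⟨x⟩| − 1 ≤ s ≤ |⟨x⟩|; and if s = |⟨x⟩| − 1 then |⟨x⟩| − 1 is a power of q and Q is non-abelian. -/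
theorem result {G : Type*} [Group G] [Finite G] (p q : ℕ) [Fact p.Prime] [Fact q.Prime] (hpq : p ≠ q) (Q : Subgroup G) [Q.Normal] (hQ : IsPGroup q Q) (x : G) (hx : IsPGroup p (Subgroup.zpowers x)) (hgen : Q ⊔ Subgroup.zpowers x = ⊤) (hC : ∀ y ∈ Subgroup.zpowers x, y ≠ 1 → Subgroup.centralizer ({y} : Set G) = Subgroup.zpowers x ⊔ Subgroup.center G) {K : Type*} [Field K] [IsAlgClosed K] [CharP K p] {V : Type*} [AddCommGroup V] [Module K V] [FiniteDimensional K V] [Nontrivial V] (ρ : Representation K G V) (hfaith : Function.Injective ρ) (hirr : ∀ W : Submodule K V, (∀ g ∈ Q, Submodule.map (ρ g) W ≤ W) → W = ⊥ ∨ W = ⊤) (s : ℕ) (hs : (ρ x - 1) ^ s = 0) (hmin : ∀ k < s, (ρ x - 1) ^ k ≠ 0) : Nat.card (Subgroup.zpowers x) - 1 ≤ s ∧ s ≤ Nat.card (Subgroup.zpowers x) ∧ (s = Nat.card (Subgroup.zpowers x) - 1 → (∃ b : ℕ, Nat.card (Subgroup.zpowers x) - 1 = q ^ b) ∧ ¬ IsMulCommutative Q) := by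
  classical
  have hp : p.Prime := Fact.out
  have hq : q.Prime := Fact.out
  have hsim : Agent.PGroups.IrrDegree.Simple ρ Q ⊤ :=
    ⟨top_ne_bot, fun _ _ _ _ => Submodule.mem_top, fun U _ hU => hirr U fun g hg => by
      rintro _ ⟨v, hv, rfl⟩; exact hU g hg v hv⟩
  obtain ⟨n, hn⟩ := IsPGroup.iff_card.mp hx
  have hord : orderOf x = p ^ n := by rw [← Nat.card_zpowers, hn]
  obtain ⟨c, hc⟩ := IsPGroup.iff_card.mp hQ
  have hreg : ∀ u ∈ Q, u ∉ Subgroup.center G → ∀ i, 0 < i → i < orderOf x →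
      x ^ i * u ≠ u * x ^ i := by
    intro u hu huc i hi0 hilt he
    apply huc
    have hy : x ^ i ≠ 1 := pow_ne_one_of_lt_orderOf hi0.ne' hilt
    have h := hC _ (Subgroup.pow_mem _ (Subgroup.mem_zpowers x) i) hy
    have hu' : u ∈ Subgroup.zpowers x ⊔ Subgroup.center G := by
      rw [← h, Subgroup.mem_centralizer_singleton_iff]
      exact he.symm
    obtain ⟨a, ha, z, hz, rfl⟩ := Subgroup.mem_sup_of_normal_right.mp hu'
    refine (Subgroup.center G).mul_mem ?_ hz
    have haz : (a * z) ^ q ^ c = 1 := by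
      have h1 := pow_card_eq_one' (x := (⟨a * z, hu⟩ : Q))
      rw [hc] at h1
      exact congrArg Subtype.val h1
    have hcomm : Commute a z := Subgroup.mem_center_iff.mp hz a
    rw [hcomm.mul_pow] at haz
    have haC : a ^ q ^ c ∈ Subgroup.center G := by
      rw [eq_inv_of_mul_eq_one_left haz]
      exact Subgroup.inv_mem _ (Subgroup.pow_mem _ hz _)
    have hao : orderOf a ∣ p ^ n := hord ▸ orderOf_dvd_of_mem_zpowers ha
    obtain ⟨j, hj⟩ := exists_pow_eq_self_of_coprime (x := a) (n := q ^ c)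
      (Nat.Coprime.coprime_dvd_right hao
        (((Nat.coprime_primes hq hp).mpr hpq.symm).pow c n))
    rw [← hj]
    exact Subgroup.pow_mem _ haC _
  rw [hn]
  have hT := Agent.PGroups.FreeEnd.sum_pow_eq (K := K) (p := p) n (ρ x)
  have hTP : (ρ x - 1) ^ p ^ n = 0 := by
    rw [hT.2, ← map_pow, ← hord, pow_orderOf_eq_one, map_one, sub_self]
  have hs0 : s ≠ 0 := fun h0 => by
    rw [h0, pow_zero] at hs
    exact one_ne_zero hs
  have hsP : s ≤ p ^ n := not_lt.mp fun hlt => hmin _ hlt hTP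
  by_cases hn0 : n = 0
  · subst hn0
    rw [pow_zero] at hsP ⊢
    exact ⟨by omega, hsP, fun h => absurd h (by omega)⟩
  have hxne : x ≠ 1 := fun h => by
    rw [h, orderOf_one] at hord
    exact (Nat.one_lt_pow hn0 hp.one_lt).ne hord
  have hxρ : ρ x ≠ 1 := fun h => hxne (hfaith (by rw [h, map_one]))
  have hs1 : s ≠ 1 := fun h1 => by
    rw [h1, pow_one, sub_eq_zero] at hs
    exact hxρ hs
  have hfor := Agent.PGroups.FreeEnd.sq_add_eq (p := p) hpq hQ hsim inferInstance hord hreg
  have hcom := Agent.H71.sq_finrank_le_commutant_aux s (ρ x - 1) hs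
  have hsd : s ≤ Module.finrank K V := by
    refine not_lt.mp fun hlt => hmin _ hlt ?_
    have h := LinearMap.aeval_self_charpoly (ρ x - 1)
    rwa [_root_.IsNilpotent.charpoly_eq_X_pow_finrank (⟨s, hs⟩ : IsNilpotent (ρ x - 1)),
      map_pow, Polynomial.aeval_X] at h
  have hd1 : IsMulCommutative Q → Module.finrank K V = 1 := by
    intro hQc
    have hsc : ∀ g ∈ Q, ∃ a : K, ρ g = a • 1 := fun g hg =>
      Agent.PGroups.FreeEnd.exists_eq_smul_one hsim fun u hu => by
        have e : g * u = u * g := congrArg Subtype.val (hQc.is_comm.comm (⟨g, hg⟩ : Q) ⟨u, hu⟩)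
        show ρ g * ρ u = ρ u * ρ g
        rw [← map_mul, ← map_mul, e]
    obtain ⟨v, hv⟩ := exists_ne (0 : V)
    have htop : Submodule.span K {v} = ⊤ := by
      refine (hirr _ fun g hg => ?_).resolve_left (by simp [hv])
      obtain ⟨a, ha⟩ := hsc g hg
      rintro _ ⟨w, hw, rfl⟩
      rw [ha, LinearMap.smul_apply, Module.End.one_apply]
      exact Submodule.smul_mem _ a hw
    rw [← finrank_top K V, ← htop, finrank_span_singleton hv]
  obtain ⟨b, hb⟩ := Agent.PGroups.IrrDegree.exists_finrank_eq_pow hQ hsim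
  rw [finrank_top] at hb
  have hd0 : 0 < Module.finrank K V := Module.finrank_pos
  generalize Module.finrank K (Agent.H71.commutant (ρ x - 1)) = f at hfor hcom
  generalize Module.finrank K V = d at *
  generalize p ^ n = P at *
  have hkey : P * (d * d) ≤ s * (d * d + (P - 1)) := by
    rw [hfor]
    calc P * (d * d) ≤ P * (s * f) := Nat.mul_le_mul_left _ hcom
      _ = s * (P * f) := by ring
  have hlow : P - 1 ≤ s := by
    by_contra hlt
    obtain ⟨t, rfl⟩ : ∃ t, P = s + t + 2 := ⟨P - s - 2, by omega⟩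
    rw [show s + t + 2 - 1 = s + t + 1 by omega] at hkey
    have h1 : (t + 2) * (d * d) ≤ s * (s + t + 1) := by nlinarith
    have h2 : (t + 2) * (s * s) ≤ (t + 2) * (d * d) :=
      Nat.mul_le_mul_left _ (Nat.mul_le_mul hsd hsd)
    have h3' : s * ((t + 2) * s) ≤ s * (s + t + 1) := by nlinarith
    have h3 : (t + 2) * s ≤ s + t + 1 := Nat.le_of_mul_le_mul_left h3' (by omega)
    nlinarith [Nat.mul_le_mul_left (t + 1) (show 2 ≤ s by omega)]
  refine ⟨hlow, hsP, fun hsE => ?_⟩
  obtain ⟨t, rfl⟩ : ∃ t, P = t + 1 := ⟨P - 1, by omega⟩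
  rw [Nat.add_sub_cancel] at hsE hkey ⊢
  subst hsE
  have h1 : d * d ≤ s * s := by nlinarith
  have h2 : d ≤ s := Nat.mul_self_le_mul_self_iff.mp h1
  have he : d = s := le_antisymm h2 hsd
  exact ⟨⟨b, by omega⟩, fun hQc => hs1 (by have := hd1 hQc; omega)⟩

end Cfsg.Agent.S4282
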