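import Cfsg.Statements.S4283
import Cfsg.Agent.Frobenius.Basic

set_option autoImplicit false
open Cfsg

namespace Cfsg.Agent.S4283

open Subgroup Cfsg.Agent

theorem centralizer_eq {G : Type*} [Group G] {L : Subgroup G} (hL : IsMulCommutative L) {x : G}
    (hx : x ∈ L) (h : centralizer ({x} : Set G) ≤ L) : centralizer ({x} : Set G) = L :=
  le_antisymm h fun g hg => mem_centralizer_singleton_iff.mpr
    (congrArg Subtype.val (hL.is_comm.comm (⟨g, hg⟩ : L) ⟨x, hx⟩))

/-- Let G be a finite group with centre Z and let K, H be abelian subgroups of G containing Z such that G/Z is a Frobenius group with complement H/Z and kernel K/Z. Then the conjugacy class sizes of G are exactly 1, [G : K] and [G : H], and these two indices are coprime. (This is the converse half of the characterization of finite groups whose conjugacy class sizes are exactly 1, m and n with m and n coprime.) -/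
theorem result {G : Type*} [Group G] [Finite G] (K H : Subgroup G) (hZK : Subgroup.center G ≤ K) (hZH : Subgroup.center G ≤ H) (hK : IsMulCommutative K) (hH : IsMulCommutative H) (hFrob : Cfsg.IsFrobeniusComplement (H.map (QuotientGroup.mk' (Subgroup.center G)))) (hker : Cfsg.frobeniusKernel (H.map (QuotientGroup.mk' (Subgroup.center G))) = (K.map (QuotientGroup.mk' (Subgroup.center G)) : Set (G ⧸ Subgroup.center G))) : Set.range (fun x : G => (Subgroup.centralizer ({x} : Set G)).index) = ({1, K.index, H.index} : Set ℕ) ∧ K.index.Coprime H.index := by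
  set Z := Subgroup.center G with hZ
  set π := QuotientGroup.mk' Z with hπ
  set H' := H.map π with hH'
  set K' := K.map π with hK'
  have hcomap : ∀ L : Subgroup G, Z ≤ L → ∀ g : G, π g ∈ L.map π → g ∈ L := fun L hL g hg => by
    have h : L = (L.map π).comap π := (comap_map_eq_self (by rwa [QuotientGroup.ker_mk'])).symm
    rw [h]; exact hg
  have hidx : ∀ L : Subgroup G, Z ≤ L → (L.map π).index = L.index := fun L hL =>
    index_map_eq L (QuotientGroup.mk'_surjective Z) (by rwa [QuotientGroup.ker_mk'])
  have h1 : ∀ g : G, π g = 1 ↔ g ∈ Z := QuotientGroup.eq_one_iff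
  have hKx : ∀ x ∈ K, x ∉ Z → centralizer ({x} : Set G) = K := by
    intro x hx hxZ
    refine centralizer_eq hK hx fun g hg => hcomap K hZK g ?_
    rw [← SetLike.mem_coe, ← hker]
    by_contra hgk
    obtain ⟨hg1, a, ha⟩ := (Frobenius.notMem_kernel_iff H' _).mp hgk
    have hxk : π x ∈ Cfsg.frobeniusKernel H' := by
      rw [hker]; exact mem_map_of_mem π hx
    rcases (Frobenius.mem_kernel_iff H' _).mp hxk with h | h
    · exact hxZ ((h1 x).mp h)
    · refine h a (Frobenius.fixed_unique hFrob hg1 ?_ ha)
      rw [smul_smul, ← map_mul, mem_centralizer_singleton_iff.mp hg, map_mul, mul_smul, ha]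
  have hHx : ∀ x ∈ H, x ∉ Z → centralizer ({x} : Set G) = H := by
    intro x hx hxZ
    refine centralizer_eq hH hx fun g hg => hcomap H hZH g ?_
    refine Frobenius.centralizer_le hFrob (mem_map_of_mem π hx) (fun h => hxZ ((h1 x).mp h)) ?_
    rw [mem_centralizer_singleton_iff, ← map_mul, mem_centralizer_singleton_iff.mp hg, map_mul]
  have hconj : ∀ c x : G, (centralizer ({c⁻¹ * x * c} : Set G)).index =
      (centralizer ({x} : Set G)).index := by
    intro c x
    have e : centralizer ({c⁻¹ * x * c} : Set G) =
        (centralizer ({x} : Set G)).map (MulAut.conj c⁻¹).toMonoidHom := by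
      ext g
      rw [mem_map_equiv, mem_centralizer_singleton_iff, mem_centralizer_singleton_iff,
        MulAut.conj_symm_apply, inv_inv]
      constructor <;> intro h
      · calc c * g * c⁻¹ * x = c * (g * (c⁻¹ * x * c)) * c⁻¹ := by group
          _ = x * (c * g * c⁻¹) := by rw [h]; group
      · calc g * (c⁻¹ * x * c) = c⁻¹ * (c * g * c⁻¹ * x) * c := by group
          _ = c⁻¹ * x * c * g := by rw [h]; group
    rw [e]
    exact index_map_equiv _ (MulAut.conj c⁻¹)
  refine ⟨Set.ext fun k => ⟨?_, ?_⟩, ?_⟩
  · rintro ⟨x, rfl⟩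
    by_cases hxZ : x ∈ Z
    · left
      rw [index_eq_one, eq_top_iff]
      exact fun g _ => mem_centralizer_singleton_iff.mpr (mem_center_iff.mp hxZ g)
    by_cases hxK : x ∈ K
    · right; left
      exact congrArg Subgroup.index (hKx x hxK hxZ)
    · right; right
      have hxk : π x ∉ Cfsg.frobeniusKernel H' := by
        rw [hker]; exact fun h => hxK (hcomap K hZK x h)
      obtain ⟨-, a, ha⟩ := (Frobenius.notMem_kernel_iff H' _).mp hxk
      induction a using QuotientGroup.induction_on with
      | H a =>
        obtain ⟨c, rfl⟩ := QuotientGroup.mk'_surjective Z a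
        have hx0 : c⁻¹ * x * c ∈ H := hcomap H hZH _ (by
          rw [map_mul, map_mul, map_inv]; exact (Frobenius.smul_coset_eq_iff H' _ _).mp ha)
        have hx0Z : c⁻¹ * x * c ∉ Z := fun h => hxZ (by
          simpa [mul_assoc] using (inferInstance : Z.Normal).conj_mem _ h c)
        show (centralizer ({x} : Set G)).index = H.index
        rw [← hconj c x, hHx _ hx0 hx0Z]
  · rintro (rfl | rfl | rfl)
    · exact ⟨1, index_eq_one.mpr (eq_top_iff.mpr fun g _ =>
        mem_centralizer_singleton_iff.mpr (by simp))⟩
    · obtain ⟨y, hy, hy1⟩ : ∃ y ∈ K', y ≠ 1 := by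
        have h := Frobenius.card_kernel hFrob
        rw [hker] at h
        exact (Subgroup.ne_bot_iff_exists_ne_one.mp fun hb : K' = ⊥ => by
          change Nat.card K' = _ at h
          rw [hb, card_bot] at h
          exact (Frobenius.one_lt_index hFrob).ne h).elim fun a ha =>
            ⟨a, a.2, fun e => ha (Subtype.ext e)⟩
      obtain ⟨x, hx, rfl⟩ := hy
      exact ⟨x, congrArg Subgroup.index (hKx x hx fun h => hy1 ((h1 x).mpr h))⟩
    · obtain ⟨y, hy, hy1⟩ := Frobenius.exists_ne_one hFrob
      obtain ⟨x, hx, rfl⟩ := hy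
      exact ⟨x, congrArg Subgroup.index (hHx x hx fun h => hy1 ((h1 x).mpr h))⟩
  · obtain ⟨hn, hc, hcard⟩ := Frobenius.of_coe_eq_kernel hFrob hker.symm
    rw [← hidx K hZK, ← hidx H hZH]
    change (K'.index).Coprime H'.index
    rw [hc.symm.index_eq_card]
    exact Frobenius.coprime_card_index hFrob

end Cfsg.Agent.S4283
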