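import Cfsg.Statements.S4291
import Cfsg.Agent.H78.Zass.CoreQuotient

set_option autoImplicit false
open Cfsg

namespace Cfsg.Agent.S4291

/-- Let G be a finite group that occurs as a Frobenius complement. Then G has exactly one normal subgroup N such that every Sylow subgroup of N is cyclic and the quotient of G by N is trivial or isomorphic to one of the following five groups: the Klein four-group, the alternating group of degree 4, the symmetric group of degree 4, the alternating group of degree 5, the symmetric group of degree 5. (The quotient is described by a surjective homomorphism with kernel N; the Klein four-group is written as the dihedral group of order 4.) -/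
theorem result {G : Type*} [Group G] [Finite G]
    (hFC : (∃ (L : Type) (_ : Group L) (_ : Finite L) (H : Subgroup L), Cfsg.IsFrobeniusComplement H ∧ Nonempty (G ≃* H))) :
    ∃! N : Subgroup G, N.Normal ∧ (∀ (p : ℕ) [Fact p.Prime] (P : Sylow p N), IsCyclic P) ∧
      (N = ⊤ ∨
        (∃ f : G →* DihedralGroup 2, Function.Surjective f ∧ f.ker = N) ∨
        (∃ f : G →* alternatingGroup (Fin 4), Function.Surjective f ∧ f.ker = N) ∨
        (∃ f : G →* Equiv.Perm (Fin 4), Function.Surjective f ∧ f.ker = N) ∨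
        (∃ f : G →* alternatingGroup (Fin 5), Function.Surjective f ∧ f.ker = N) ∨
        (∃ f : G →* Equiv.Perm (Fin 5), Function.Surjective f ∧ f.ker = N)) := by
  obtain ⟨L, _, _, H, hH, ⟨e⟩⟩ := hFC
  have hG := Cfsg.Agent.H78.Zass.pqGroup_of_complement hH e.toMonoidHom e.injective
  obtain ⟨N, hN, hNz, hT⟩ := Cfsg.Agent.H78.Zass.exists_hasTop hH e.toMonoidHom e.injective
  haveI := hN
  haveI := hNz
  refine ⟨N, ⟨hN, fun p _ P => inferInstance, ?_⟩, ?_⟩
  · rcases hT with h | h | ⟨n, rfl | rfl, f, hf, hfa⟩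
    · exact Or.inl h
    · exact Or.inr (Or.inl h)
    · rcases Cfsg.Agent.H78.Zass.range_cases (by norm_num) f hfa with h | ⟨g, hg, hgk⟩
      · exact Or.inr (Or.inr (Or.inr (Or.inl ⟨f, h, hf⟩)))
      · exact Or.inr (Or.inr (Or.inl ⟨g, hg, hgk.trans hf⟩))
    · rcases Cfsg.Agent.H78.Zass.range_cases (by norm_num) f hfa with h | ⟨g, hg, hgk⟩
      · exact Or.inr (Or.inr (Or.inr (Or.inr (Or.inr ⟨f, h, hf⟩))))
      · exact Or.inr (Or.inr (Or.inr (Or.inr (Or.inl ⟨g, hg, hgk.trans hf⟩))))
  · rintro M ⟨hM, hMz, hMT⟩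
    haveI := hM
    haveI : IsZGroup M := ⟨fun p hp P => @hMz p ⟨hp⟩ P⟩
    refine Cfsg.Agent.H78.Zass.hasTop_unique hG ?_ hT
    have hlift : ∀ (n : ℕ), ∀ g : G →* alternatingGroup (Fin n), Function.Surjective g → g.ker = M →
        ((alternatingGroup (Fin n)).subtype.comp g).ker = M ∧
          alternatingGroup (Fin n) ≤ ((alternatingGroup (Fin n)).subtype.comp g).range := by
      intro n g hg hgk
      refine ⟨?_, fun w hw => ?_⟩
      · rw [← MonoidHom.comap_ker, Subgroup.ker_subtype, MonoidHom.comap_bot, hgk]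
      · obtain ⟨x, hx⟩ := hg ⟨w, hw⟩
        exact ⟨x, congrArg Subtype.val hx⟩
    rcases hMT with h | h | ⟨g, hg, hgk⟩ | ⟨g, hg, hgk⟩ | ⟨g, hg, hgk⟩ | ⟨g, hg, hgk⟩
    · exact Or.inl h
    · exact Or.inr (Or.inl h)
    · exact Or.inr (Or.inr ⟨4, Or.inl rfl, _, hlift 4 g hg hgk⟩)
    · exact Or.inr (Or.inr ⟨4, Or.inl rfl, g, hgk, by rw [MonoidHom.range_eq_top.2 hg]; exact le_top⟩)
    · exact Or.inr (Or.inr ⟨5, Or.inr rfl, _, hlift 5 g hg hgk⟩)
    · exact Or.inr (Or.inr ⟨5, Or.inr rfl, g, hgk, by rw [MonoidHom.range_eq_top.2 hg]; exact le_top⟩)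

end Cfsg.Agent.S4291
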