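import Cfsg.Statements.S4292
import Cfsg.Agent.Frobenius.DirectProduct

set_option autoImplicit false
open Cfsg

namespace Cfsg.Agent.S4292

/-- Let A and B be nontrivial finite groups. Then the direct product A × B occurs as a Frobenius complement if and only if A and B both occur as Frobenius complements and the orders of A and B are coprime. -/
theorem result {A B : Type*} [Group A] [Finite A] [Nontrivial A] [Group B] [Finite B] [Nontrivial B] :
    (∃ (L : Type) (_ : Group L) (_ : Finite L) (H : Subgroup L), Cfsg.IsFrobeniusComplement H ∧ Nonempty ((A × B) ≃* H)) ↔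
    ((∃ (L : Type) (_ : Group L) (_ : Finite L) (H : Subgroup L), Cfsg.IsFrobeniusComplement H ∧ Nonempty (A ≃* H)) ∧
     (∃ (L : Type) (_ : Group L) (_ : Finite L) (H : Subgroup L), Cfsg.IsFrobeniusComplement H ∧ Nonempty (B ≃* H)) ∧
     (Nat.card A).Coprime (Nat.card B)) := by
  constructor
  · rintro ⟨L, _, _, H, hH, ⟨e⟩⟩
    exact ⟨Frobenius.exists_of_injective hH (e.toMonoidHom.comp (MonoidHom.inl A B))
        (e.injective.comp fun x y h => congrArg Prod.fst h),
      Frobenius.exists_of_injective hH (e.toMonoidHom.comp (MonoidHom.inr A B))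
        (e.injective.comp fun x y h => congrArg Prod.snd h),
      Frobenius.coprime_of_prod hH e⟩
  · rintro ⟨⟨L, _, _, H, hH, ⟨e⟩⟩, ⟨L', _, _, H', hH', ⟨e'⟩⟩, hco⟩
    obtain ⟨ℓ, hle, hℓ⟩ := Nat.exists_infinite_primes (Nat.card A * Nat.card B + 1)
    haveI := Fact.mk hℓ
    have hApos : 0 < Nat.card A := Nat.card_pos
    have hBpos : 0 < Nat.card B := Nat.card_pos
    have hA : ¬ ℓ ∣ Nat.card A := fun h => by
      have h1 := Nat.le_of_dvd hApos h
      have h2 := Nat.le_mul_of_pos_right (Nat.card A) hBpos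
      omega
    have hB : ¬ ℓ ∣ Nat.card B := fun h => by
      have h1 := Nat.le_of_dvd hBpos h
      have h2 := Nat.le_mul_of_pos_left (Nat.card B) hApos
      omega
    obtain ⟨V, _, _, _, ρ, hV, hρ⟩ := Frobenius.FPFRep.exists_finite_module hA
      ((Frobenius.FPFRep.of_complement hH e.toMonoidHom e.injective).2 ℓ)
    obtain ⟨W, _, _, _, σ, hW, hσ⟩ := Frobenius.FPFRep.exists_finite_module hB
      ((Frobenius.FPFRep.of_complement hH' e'.toMonoidHom e'.injective).2 ℓ)
    exact Frobenius.exists_prod hco hV hW ρ σ hρ hσ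

end Cfsg.Agent.S4292
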