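import Cfsg.Statements.S4294
import Cfsg.Agent.S4293
import Cfsg.Agent.S3359
import Cfsg.Agent.H2.Amitsur.Division

set_option autoImplicit false
open Cfsg

namespace Cfsg.Agent.S4294

/-- A finite non-solvable subgroup of the multiplicative group of a division ring is isomorphic to the binary icosahedral group SL(2,5). -/
theorem result {D : Type*} [DivisionRing D] (H : Subgroup Dˣ) [Finite H] (hH : ¬ Group.IsSolvable H) :
    Nonempty (H ≃* Matrix.SpecialLinearGroup (Fin 2) (ZMod 5)) := by
  classical
  let ι : H →* D := (Units.coeHom D).comp H.subtype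
  have hι : Function.Injective ι := Units.val_injective.comp H.subtype_injective
  have hcomm_false : (∀ a b : H, a * b = b * a) → False := fun h => by
    letI : CommGroup H := { (inferInstance : Group H) with mul_comm := h }
    exact hH inferInstance
  -- characteristic zero
  haveI : CharZero D := by
    obtain ⟨p, hp⟩ := CharP.exists D
    rcases CharP.char_is_prime_or_zero D p with hpp | rfl
    · haveI : Fact p.Prime := ⟨hpp⟩
      refine (hcomm_false fun a b => hι ?_).elim
      rw [map_mul, map_mul]
      exact H2.Amitsur.commute_of_charP p (MonoidHom.mrange ι)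
        (by rw [MonoidHom.coe_mrange]; exact Set.finite_range ι) ⟨a, rfl⟩ ⟨b, rfl⟩
    · exact CharP.charP_to_charZero D
  have hne : H ≠ ⊥ := fun e => hcomm_false fun a b => by
    have ha : (a : Dˣ) = 1 := by simpa [e] using a.2
    have hb : (b : Dˣ) = 1 := by simpa [e] using b.2
    exact Subtype.ext (by simp [ha, hb])
  obtain ⟨G₀, hG₀, hidx, S, M, hSM, hdisj, hcom, ⟨e⟩, -, hM30⟩ :=
    S3359.result (G := H) hH (S4293.result H hne)
  let φ : H2.Amitsur.SL25 →* D := (ι.comp S.subtype).comp e.symm.toMonoidHom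
  have hφ : Function.Injective φ := (hι.comp S.subtype_injective).comp e.symm.injective
  have hM : M = ⊥ := by
    by_contra hne'
    haveI : Nontrivial M := (Subgroup.nontrivial_iff_ne_bot M).2 hne'
    obtain ⟨r, hr, hrd⟩ := Nat.exists_prime_and_dvd (Finite.one_lt_card (α := M)).ne'
    haveI : Fact r.Prime := ⟨hr⟩
    obtain ⟨x, hx⟩ := exists_prime_orderOf_dvd_card' r hrd
    have h7 : 7 ≤ r := by
      by_contra hlt
      have hco := Nat.Coprime.coprime_dvd_left hrd hM30
      have : r ≤ 6 := by omega
      have := hr.two_le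
      interval_cases r <;> first | (norm_num at hco; done) | (norm_num at hr)
    refine H2.Amitsur.no_central φ hφ (x := ι (x : H)) h7 ?_ fun y => ?_
    · rw [orderOf_injective ι hι, Subgroup.orderOf_coe, hx]
    · show ι (x : H) * ι _ = ι _ * ι (x : H)
      rw [← map_mul, ← map_mul]
      exact congrArg ι (hcom _ (e.symm y).2 _ x.2).symm
  subst hM
  rw [sup_bot_eq] at hSM
  subst hSM
  rcases hidx with h1 | h2
  · exact ⟨((MulEquiv.subgroupCongr (Subgroup.index_eq_one.1 h1)).trans Subgroup.topEquiv).symm.trans e⟩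
  · exfalso
    obtain ⟨h, hh⟩ : ∃ h : H, h ∉ S := by
      by_contra hc
      push Not at hc
      rw [(Subgroup.eq_top_iff' S).2 hc, Subgroup.index_top] at h2
      omega
    have hrange : ∀ s : H, s ∈ S → ∃ y, ι s = φ y := fun s hs => ⟨e ⟨s, hs⟩, by simp [φ]⟩
    refine H2.Amitsur.no_outer φ hφ (h := ι h) ⟨fun y hy => hh ?_, ?_, fun x => ?_⟩
    · rw [hι (show ι h = ι ((e.symm y : S) : H) from hy)]
      exact (e.symm y).2
    · obtain ⟨y, hy⟩ := hrange _ (Subgroup.mul_self_mem_of_index_two h2 h)
      exact ⟨y, by rw [← map_mul, hy]⟩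
    · obtain ⟨y, hy⟩ := hrange _ (hG₀.conj_mem _ (e.symm x).2 h)
      refine ⟨y, ?_⟩
      rw [← hy]
      show ι h * ι _ = _
      rw [← map_mul, ← map_mul, inv_mul_cancel_right]
      rfl

end Cfsg.Agent.S4294
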