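import Cfsg.Statements.S4295
import Cfsg.Agent.Frobenius.QuaternionKernel

set_option autoImplicit false
open Cfsg

namespace Cfsg.Agent.S4295

/-- For a natural number m the following are equivalent: (a) some finite group has a Frobenius complement isomorphic to the quaternion group of order 8 whose Frobenius kernel (the identity together with the elements lying in no conjugate of the complement) has exactly m elements; (b) m is an odd perfect square greater than 1. -/
theorem result (m : ℕ) :
    (∃ (L : Type) (_ : Group L) (_ : Finite L) (H : Subgroup L), Cfsg.IsFrobeniusComplement H ∧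
        Nonempty (H ≃* QuaternionGroup 2) ∧ Nat.card (Cfsg.frobeniusKernel H) = m) ↔
    (Odd m ∧ IsSquare m ∧ 1 < m) := by
  constructor
  · rintro ⟨L, i1, i2, H, hF, ⟨e⟩, rfl⟩
    let f : QuaternionGroup 2 →* L := H.subtype.comp e.symm.toMonoidHom
    have hf : Function.Injective f := H.subtype_injective.comp e.symm.injective
    let a : QuaternionGroup 2 := QuaternionGroup.a 1
    let b : QuaternionGroup 2 := QuaternionGroup.xa 0
    have h := Frobenius.QuaternionSquare.odd_isSquare_of_commutator hF (a := f a) (b := f b)
      ((e.symm a : H).2) ((e.symm b : H).2)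
      (by rw [← map_commutatorElement, ← map_one f, Ne, hf.eq_iff]; decide)
      (by rw [← map_commutatorElement, ← map_mul, ← map_one f, hf.eq_iff]; decide)
    exact ⟨h.1, h.2, by rw [Frobenius.card_kernel hF]; exact Frobenius.one_lt_index hF⟩
  · rintro ⟨hodd, ⟨k, rfl⟩, h1⟩
    exact Frobenius.QuaternionKernel.exists_complement (Nat.odd_mul.1 hodd).1 (by nlinarith)

end Cfsg.Agent.S4295
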