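import Cfsg.Statements.S4297
import Cfsg.Agent.Frobenius.Construct
import Mathlib.NumberTheory.PrimesCongruentOne
import Mathlib.GroupTheory.SpecificGroups.Quaternion
import Mathlib.RingTheory.IntegralDomain
import Mathlib.FieldTheory.Finite.Basic

set_option autoImplicit false
open Cfsg

namespace Cfsg.Agent.S4297

/-- For every n ≥ 2 the dicyclic group of order 4n (generated by an element a of order 2n and an element x with x² = aⁿ and x a x⁻¹ = a⁻¹) occurs as a Frobenius complement of some finite Frobenius group. -/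
theorem result (n : ℕ) (hn : 2 ≤ n) :
    ∃ (L : Type) (_ : Group L) (_ : Finite L) (H : Subgroup L), Cfsg.IsFrobeniusComplement H ∧ Nonempty (H ≃* QuaternionGroup n) := by
  have : NeZero n := ⟨by omega⟩
  obtain ⟨p, hp, hgt, hmod⟩ := Nat.exists_prime_gt_modEq_one (k := 2 * n) (4 * n) (by omega)
  have := Fact.mk hp
  have hdvd : 2 * n ∣ Nat.card (ZMod p)ˣ := by
    rw [Nat.card_eq_fintype_card, ZMod.card_units]
    exact (Nat.modEq_iff_dvd' hp.one_le).1 hmod.symm
  obtain ⟨g, hg⟩ := IsCyclic.exists_ofOrder_eq_natCard (α := (ZMod p)ˣ)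
  obtain ⟨ζ, hζ⟩ : ∃ ζ : (ZMod p)ˣ, orderOf ζ = 2 * n := by
    refine ⟨g ^ (Nat.card (ZMod p)ˣ / (2 * n)), ?_⟩
    have h := orderOf_pow_orderOf_div (x := g) (n := 2 * n) (by rw [hg]; exact Nat.card_pos.ne')
      (by rw [hg]; exact hdvd)
    rwa [hg] at h
  let z : ZMod (2 * n) → (ZMod p)ˣ := fun i => ζ ^ i.val
  have zadd : ∀ i j, z (i + j) = z i * z j := fun i j => by
    simp only [z]
    rw [ZMod.val_add, ← pow_add, ← pow_mod_orderOf ζ (i.val + j.val), hζ]
  have z0 : z 0 = 1 := by simp [z]
  have zinj : Function.Injective z := fun i j hij => by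
    refine ZMod.val_injective _ (pow_injOn_Iio_orderOf ?_ ?_ hij) <;>
      simp only [Set.mem_Iio, hζ] <;> exact ZMod.val_lt _
  have zn : ((z (n : ZMod (2 * n))) : ZMod p) = -1 := by
    have h2 : ((z (n : ZMod (2 * n))) : ZMod p) ^ 2 = 1 := by
      rw [sq, ← Units.val_mul, ← zadd, ← Nat.cast_add, ← two_mul, ZMod.natCast_self, z0,
        Units.val_one]
    refine (sq_eq_one_iff.1 h2).resolve_left fun h => ?_
    have := congrArg ZMod.val (zinj (Units.ext h |>.trans z0.symm))
    rw [ZMod.val_natCast, ZMod.val_zero, Nat.mod_eq_of_lt (by omega)] at this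
    omega
  have zneg : ∀ i, ((z (-i)) : ZMod p) * (z i : ZMod p) = 1 := fun i => by
    rw [← Units.val_mul, ← zadd, neg_add_cancel, z0, Units.val_one]
  have zneg' : ∀ i, ((z i) : ZMod p) * (z (-i) : ZMod p) = 1 := fun i => by rw [mul_comm, zneg]
  have zsub : ∀ i j, z (i - j) = z i * z (-j) := fun i j => by rw [← zadd, sub_eq_add_neg]
  have znegn : -(n : ZMod (2 * n)) = n := by
    rw [neg_eq_iff_add_eq_zero, ← Nat.cast_add, ← two_mul, ZMod.natCast_self]
  let f : QuaternionGroup n → Matrix.SpecialLinearGroup (Fin 2) (ZMod p) := fun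
    | .a i => ⟨!![(z i : ZMod p), 0; 0, (z (-i) : ZMod p)], by simp [Matrix.det_fin_two, zneg']⟩
    | .xa i => ⟨!![0, -(z (-i) : ZMod p); (z i : ZMod p), 0], by simp [Matrix.det_fin_two, zneg]⟩
  have hmul : ∀ x y, f (x * y) = f x * f y := by
    rintro (i | i) (j | j) <;> apply Subtype.ext <;>
      rw [Matrix.SpecialLinearGroup.coe_mul] <;>
      ext r c <;> fin_cases r <;> fin_cases c <;>
      simp [f, Matrix.mul_apply, Fin.sum_univ_two, zadd, zsub, znegn, zn] <;> ring
  let F : QuaternionGroup n →* Matrix.SpecialLinearGroup (Fin 2) (ZMod p) := MonoidHom.mk' f hmul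
  have hF : Function.Injective F := by
    rintro (i | i) (j | j) h <;> replace h := congrArg Subtype.val h
    · have := congrFun (congrFun h 0) 0
      simp [F, f] at this
      rw [zinj (Units.ext this)]
    · have := congrFun (congrFun h 0) 0
      simp [F, f] at this
    · have := congrFun (congrFun h 0) 0
      simp [F, f] at this
      exact absurd this.symm (Units.ne_zero _)
    · have := congrFun (congrFun h 1) 0
      simp [F, f] at this
      rw [zinj (Units.ext this)]
  refine Cfsg.Agent.Frobenius.exists_symm (Cfsg.Agent.Frobenius.exists_of_sl2 p ?_ F hF)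
  rw [Nat.card_eq_fintype_card, QuaternionGroup.card, Nat.coprime_comm, hp.coprime_iff_not_dvd]
  intro h
  have := Nat.le_of_dvd (by omega) h
  omega

end Cfsg.Agent.S4297
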