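import Cfsg.Statements.S4299
import Cfsg.Agent.Frobenius.Construct
import Mathlib.RingTheory.RootsOfUnity.Complex

set_option autoImplicit false
open Cfsg

namespace Cfsg.Agent.S4299

/-- Every nontrivial finite cyclic group occurs as a Frobenius complement of some finite Frobenius group. -/
theorem result {C : Type*} [Group C] [Finite C] [IsCyclic C] [Nontrivial C] :
    ∃ (L : Type) (_ : Group L) (_ : Finite L) (H : Subgroup L), Cfsg.IsFrobeniusComplement H ∧ Nonempty (C ≃* H) := by
  have : NeZero (Nat.card C) := ⟨Nat.card_pos.ne'⟩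
  have : Fintype (rootsOfUnity (Nat.card C) ℂ) := Fintype.ofFinite _
  have hcard : Nat.card C = Nat.card (rootsOfUnity (Nat.card C) ℂ) :=
    (Complex.card_rootsOfUnity (Nat.card C)).symm
  let e : C ≃* rootsOfUnity (Nat.card C) ℂ := mulEquivOfCyclicCardEq hcard
  exact Cfsg.Agent.Frobenius.exists_of_divisionRing
    ((Units.coeHom ℂ).comp ((rootsOfUnity (Nat.card C) ℂ).subtype.comp e.toMonoidHom))
    (Units.val_injective.comp ((Subgroup.subtype_injective _).comp e.injective))

end Cfsg.Agent.S4299
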