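import Cfsg.Statements.S4300
import Cfsg.Agent.Perm.Basic

set_option autoImplicit false
open Cfsg

namespace Cfsg.Agent.S4300

/-- Let G act faithfully and primitively on a set X, and suppose the stabilizer of some point is a simple group. Then either G is simple, or G has a normal subgroup, neither trivial nor the whole group, that acts regularly on X (transitively with trivial point stabilizers). -/
theorem result {G : Type*} [Group G] {X : Type*} [MulAction G X] [FaithfulSMul G X]
    (hprim : MulAction.IsPreprimitive G X) (x : X) (hsimple : IsSimpleGroup (MulAction.stabilizer G x)) :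
    IsSimpleGroup G ∨ ∃ N : Subgroup G, N.Normal ∧ N ≠ ⊥ ∧ N ≠ ⊤ ∧
      MulAction.IsPretransitive N X ∧ ∀ y : X, MulAction.stabilizer N y = ⊥ := by
  haveI := hprim
  haveI : Nontrivial (MulAction.stabilizer G x) := hsimple.toNontrivial
  haveI : Nontrivial G := (Subgroup.nontrivial_iff_ne_bot _).mp ‹_› |> fun h => by
    obtain ⟨g, -, hg⟩ := (Subgroup.bot_or_exists_ne_one _).resolve_left h
    exact ⟨⟨g, 1, hg⟩⟩
  refine or_iff_not_imp_right.mpr fun hno => ⟨fun N hN => ?_⟩
  by_contra hcon
  push Not at hcon
  obtain ⟨hNb, hNt⟩ := hcon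
  have ht := Cfsg.Agent.Perm.transitive_of_normal (X := X) hNb
  rcases hsimple.eq_bot_or_eq_top_of_normal (N.subgroupOf (MulAction.stabilizer G x))
    inferInstance with h | h
  · have hx : MulAction.stabilizer N x = ⊥ := by
      rw [eq_bot_iff]
      intro n hn
      have hmem : (⟨(n : G), hn⟩ : MulAction.stabilizer G x) ∈
          N.subgroupOf (MulAction.stabilizer G x) := Subgroup.mem_subgroupOf.mpr n.2
      rw [h, Subgroup.mem_bot] at hmem
      rw [Subgroup.mem_bot]
      exact Subtype.ext (by simpa using congrArg Subtype.val hmem)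
    exact hno ⟨N, hN, hNb, hNt, ht, Cfsg.Agent.Perm.free_of_stabilizer_eq_bot ht hx⟩
  · rw [Subgroup.subgroupOf_eq_top] at h
    apply hNt
    rw [← Cfsg.Agent.Perm.sup_stabilizer_eq_top ht x, sup_eq_left.mpr h]
end Cfsg.Agent.S4300
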