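import Cfsg.Statements.S4301

set_option autoImplicit false
open Cfsg

namespace Cfsg.Agent.S4301

theorem exists_embedding_pair {X : Type*} {k : ℕ} (hk : 2 ≤ k) (e : Fin k ↪ X) {u v : X} (huv : u ≠ v) :
    ∃ a : Fin k ↪ X, a ⟨0, by omega⟩ = u ∧ a ⟨1, by omega⟩ = v := by
  classical
  set i0 : Fin k := ⟨0, by omega⟩
  set i1 : Fin k := ⟨1, by omega⟩
  have h01 : i0 ≠ i1 := fun h => Nat.zero_ne_one (congrArg Fin.val h)
  set e1 : Fin k ↪ X := e.trans (Equiv.swap (e i0) u).toEmbedding
  have h0 : e1 i0 = u := Equiv.swap_apply_left _ _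
  have hu : e1 i1 ≠ u := fun h => h01 (e1.injective (h0.trans h.symm))
  refine ⟨e1.trans (Equiv.swap (e1 i1) v).toEmbedding, ?_, Equiv.swap_apply_left _ _⟩
  change Equiv.swap (e1 i1) v (e1 i0) = u
  rw [h0, Equiv.swap_apply_of_ne_of_ne hu.symm huv]

/-- One-point extension of a multiply transitive group. Let X be a set and G a group of permutations of Option X (the set X with one extra point ∗ = none) all of whose elements fix ∗, such that G is k-transitive on the points of X for some k ≥ 2, X having at least k points. Suppose a permutation h of Option X and an element g of G satisfy: h interchanges ∗ with a point x of X and fixes a point y of X; g interchanges x and y; (g h)³ and h² lie in G; and for every f in G fixing x, the product h f h lies in G and fixes x. Then an element of the group generated by G and h fixes ∗ exactly when it lies in G, and that group acts (k+1)-transitively on Option X. -/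
theorem result {X : Type*} (G : Subgroup (Equiv.Perm (Option X))) (hfix : ∀ f ∈ G, f none = none)
    (k : ℕ) (hk : 2 ≤ k) (hkX : Nonempty (Fin k ↪ X))
    (htrans : ∀ a b : Fin k ↪ X, ∃ f ∈ G, ∀ i, f (some (a i)) = some (b i))
    (h g : Equiv.Perm (Option X)) (hg : g ∈ G) (x y : X)
    (h1 : h none = some x) (h2 : h (some x) = none) (h3 : h (some y) = some y)
    (h4 : g (some x) = some y) (h5 : g (some y) = some x)
    (h6 : (g * h) ^ 3 ∈ G) (h7 : h ^ 2 ∈ G)
    (h8 : ∀ f ∈ G, f (some x) = some x → h * f * h ∈ G ∧ (h * f * h) (some x) = some x) :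
    (∀ f ∈ Subgroup.closure ((G : Set (Equiv.Perm (Option X))) ∪ {h}), f none = none ↔ f ∈ G) ∧
      MulAction.IsMultiplyPretransitive (Subgroup.closure ((G : Set (Equiv.Perm (Option X))) ∪ {h})) (Option X) (k + 1) := by
  classical
  obtain ⟨e⟩ := hkX
  set c := h ^ 2 with hc
  set d := (g * h) ^ 3 with hd
  have hinv : h⁻¹ = c⁻¹ * h := by rw [hc]; group
  have hinv' : h⁻¹ = h * c⁻¹ := by rw [hc]; group
  have hsome : ∀ f ∈ G, ∀ z : X, ∃ z', f (some z) = some z' := by
    intro f hf z
    rcases hz : f (some z) with _ | z'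
    · exact absurd (f.injective (hz.trans (hfix f hf).symm)) (Option.some_ne_none z)
    · exact ⟨z', rfl⟩
  let InS : Equiv.Perm (Option X) → Prop := fun l =>
    l ∈ G ∨ ∃ f ∈ G, ∃ f' ∈ G, l = f * h * f'
  have hhGh : ∀ f ∈ G, InS (h * f * h) := by
    intro f hf
    obtain ⟨z, hz⟩ := hsome f hf x
    by_cases hzx : z = x
    · exact Or.inl (h8 f hf (hz.trans (congrArg some hzx))).1
    have hxy : x ≠ y := fun hxy => by
      rw [← hxy, h2] at h3
      exact Option.some_ne_none x h3.symm
    obtain ⟨u, hu0, hu1⟩ := exists_embedding_pair hk e (Ne.symm hzx)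
    obtain ⟨v, hv0, hv1⟩ := exists_embedding_pair hk e hxy
    obtain ⟨a, ha, hab⟩ := htrans u v
    have ha1 : a (some x) = some x := by have := hab ⟨0, by omega⟩; rwa [hu0, hv0] at this
    have ha2 : a (some z) = some y := by have := hab ⟨1, by omega⟩; rwa [hu1, hv1] at this
    set b := g⁻¹ * a * f with hb
    have hbG : b ∈ G := G.mul_mem (G.mul_mem (G.inv_mem hg) ha) hf
    have hbx : b (some x) = some x := by
      rw [hb, Equiv.Perm.mul_apply, Equiv.Perm.mul_apply, hz, ha2]
      exact Equiv.Perm.inv_eq_iff_eq.mpr h4.symm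
    have hax : a⁻¹ (some x) = some x := Equiv.Perm.inv_eq_iff_eq.mpr ha1.symm
    refine Or.inr ⟨(h * a⁻¹ * h) * c⁻¹ * g⁻¹ * d * c⁻¹, ?_, g⁻¹ * c⁻¹ * (h * b * h), ?_, ?_⟩
    · exact G.mul_mem (G.mul_mem (G.mul_mem (G.mul_mem (h8 _ (G.inv_mem ha) hax).1 (G.inv_mem h7))
        (G.inv_mem hg)) h6) (G.inv_mem h7)
    · exact G.mul_mem (G.mul_mem (G.inv_mem hg) (G.inv_mem h7)) (h8 b hbG hbx).1
    · rw [hb, hd, hc]
      simp only [pow_succ, pow_zero, one_mul]
      group
  have hmul : ∀ l m, InS l → InS m → InS (l * m) := by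
    intro l m hl hm
    rcases hl with hl | ⟨f, hf, f', hf', rfl⟩
    · rcases hm with hm | ⟨f, hf, f', hf', rfl⟩
      · exact Or.inl (G.mul_mem hl hm)
      · exact Or.inr ⟨l * f, G.mul_mem hl hf, f', hf', by group⟩
    · rcases hm with hm | ⟨f₂, hf₂, f₂', hf₂', rfl⟩
      · exact Or.inr ⟨f, hf, f' * m, G.mul_mem hf' hm, by group⟩
      · rcases hhGh (f' * f₂) (G.mul_mem hf' hf₂) with h9 | ⟨a, ha, b, hb, h9⟩
        · refine Or.inl ?_
          rw [show f * h * f' * (f₂ * h * f₂') = f * (h * (f' * f₂) * h) * f₂' by group]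
          exact G.mul_mem (G.mul_mem hf h9) hf₂'
        · refine Or.inr ⟨f * a, G.mul_mem hf ha, b * f₂', G.mul_mem hb hf₂', ?_⟩
          rw [show f * h * f' * (f₂ * h * f₂') = f * (h * (f' * f₂) * h) * f₂' by group, h9]
          group
  have hS : ∀ l ∈ Subgroup.closure ((G : Set (Equiv.Perm (Option X))) ∪ {h}), InS l := by
    intro l hl
    induction hl using Subgroup.closure_induction with
    | mem l hl =>
      rcases hl with hl | hl
      · exact Or.inl hl
      · exact Or.inr ⟨1, G.one_mem, 1, G.one_mem, by rw [Set.mem_singleton_iff.mp hl]; group⟩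
    | one => exact Or.inl G.one_mem
    | mul a b _ _ iha ihb => exact hmul a b iha ihb
    | inv a _ iha =>
      rcases iha with iha | ⟨f, hf, f', hf', rfl⟩
      · exact Or.inl (G.inv_mem iha)
      · refine Or.inr ⟨f'⁻¹ * c⁻¹, G.mul_mem (G.inv_mem hf') (G.inv_mem h7), f⁻¹, G.inv_mem hf, ?_⟩
        rw [mul_inv_rev, mul_inv_rev, hinv]
        group
  refine ⟨fun l hl => ⟨fun hn => ?_, hfix l⟩, ⟨fun a b => ?_⟩⟩
  · rcases hS l hl with h9 | ⟨f, hf, f', hf', rfl⟩
    · exact h9
    · exfalso
      rw [Equiv.Perm.mul_apply, Equiv.Perm.mul_apply, hfix f' hf', h1] at hn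
      exact Option.some_ne_none x (f.injective (hn.trans (hfix f hf).symm))
  · set L := Subgroup.closure ((G : Set (Equiv.Perm (Option X))) ∪ {h}) with hL
    have hGL : ∀ f ∈ G, f ∈ L := fun f hf => Subgroup.subset_closure (Or.inl hf)
    have hhL : h ∈ L := Subgroup.subset_closure (Or.inr rfl)
    have htr : ∀ u : Option X, ∃ l : L, l • u = none := by
      intro u
      cases u with
      | none => exact ⟨1, rfl⟩
      | some u =>
        by_cases hux : u = x
        · exact ⟨⟨h, hhL⟩, by rw [hux]; exact h2⟩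
        obtain ⟨u', hu0, hu1⟩ := exists_embedding_pair hk e hux
        obtain ⟨v, hv0, hv1⟩ := exists_embedding_pair hk e (Ne.symm hux)
        obtain ⟨f, hf, hfab⟩ := htrans u' v
        have := hfab ⟨0, by omega⟩
        rw [hu0, hv0] at this
        refine ⟨⟨h * f, L.mul_mem hhL (hGL f hf)⟩, ?_⟩
        change h (f (some u)) = none
        rw [this, h2]
    obtain ⟨la, hla⟩ := htr (a 0)
    obtain ⟨lb, hlb⟩ := htr (b 0)
    have htail : ∀ (l : L) (t : Fin (k + 1) ↪ Option X), l • t 0 = none →
        ∃ s : Fin k ↪ X, ∀ i, l • t i.succ = some (s i) := by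
      intro l t ht
      have hne : ∀ i : Fin k, ∃ z, l • t i.succ = some z := fun i => by
        rcases hz : l • t i.succ with _ | z
        · exact absurd (t.injective (smul_left_cancel l (hz.trans ht.symm))) (Fin.succ_ne_zero i)
        · exact ⟨z, rfl⟩
      choose s hs using hne
      exact ⟨⟨s, fun i j hij => Fin.succ_injective _
        (t.injective (smul_left_cancel l ((hs i).trans ((congrArg some hij).trans (hs j).symm))))⟩, hs⟩
    obtain ⟨sa, hsa⟩ := htail la a hla
    obtain ⟨sb, hsb⟩ := htail lb b hlb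
    obtain ⟨f, hf, hfs⟩ := htrans sa sb
    refine ⟨lb⁻¹ * (⟨f, hGL f hf⟩ * la), Function.Embedding.ext fun i => ?_⟩
    change (lb⁻¹ * (⟨f, hGL f hf⟩ * la)) • a i = b i
    rw [mul_smul, inv_smul_eq_iff, mul_smul]
    cases i using Fin.cases with
    | zero => rw [hla, hlb]; exact hfix f hf
    | succ i => rw [hsa, hsb]; exact hfs i

end Cfsg.Agent.S4301
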