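import Cfsg.Statements.S4302
import Cfsg.Agent.H47.TransvectionClosure
import Cfsg.Agent.Thompson.Jay
import Cfsg.Agent.Thompson.ZJ

set_option autoImplicit false
open Cfsg

namespace Cfsg.Agent.S4302

set_option linter.style.haveILetI false
set_option maxHeartbeats 1000000

open Subgroup H47
open H47.SB (apply_mul inv_apply apply_inv fixed mem_fixed)

universe u

/-- An automorphism of odd order of an abelian 2-group fixing the involutions is trivial. -/
theorem fix_of_fix_involutions {G : Type u} [Group G] {V : Type u} [CommGroup V] (φ : G →* MulAut V)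
    {g : G} {n : ℕ} (hn : Odd n) (hg : g ^ n = 1) (hfix : ∀ x : V, x * x = 1 → φ g x = x) :
    ∀ (k : ℕ) (x : V), x ^ 2 ^ k = 1 → φ g x = x := by
  intro k
  induction k with
  | zero => intro x hx; rw [pow_zero, pow_one] at hx; rw [hx, map_one]
  | succ k ih =>
    intro x hx
    rw [pow_succ', pow_mul] at hx
    have h2 := ih _ hx
    rw [map_pow] at h2
    set w := x⁻¹ * φ g x with hw
    have hw2 : w * w = 1 := by
      rw [hw, mul_mul_mul_comm, ← mul_inv, ← pow_two, ← pow_two, h2, inv_mul_cancel]
    have he : φ g x = x * w := by rw [hw, mul_inv_cancel_left]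
    have := SB.apply_pow_eq φ he (hfix w hw2) n
    rw [hg, map_one] at this
    have hw1 : w = 1 := SB.eq_one_of_pow_odd hw2 hn (mul_eq_left.mp this.symm)
    rw [he, hw1, mul_one]

theorem main {X : Type u} [Group X] [Finite X]
    [Group.IsSolvable X] (hF : Cfsg.fittingSubgroup X = Cfsg.pCore 2 X) (T : Sylow 2 X)
    (J Z : Subgroup X) (hJ : J = Thompson.jay 0 (T : Subgroup X))
    (hZdef : Z = (T : Subgroup X) ⊓ centralizer ((T : Subgroup X) : Set X)) :
    ((centralizer (Z : Set X)).normalCore ⊔ normalClosure (J : Set X) ⊔ normalizer (J : Set X) = ⊤) ∧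
    (normalClosure (J : Set X) ≤ (centralizer (Z : Set X)).normalCore
      ∨ ∃ n : ℕ, 1 ≤ n ∧
        Nonempty (↥(normalClosure (J : Set X)) ⧸
            ((centralizer (Z : Set X)).normalCore).subgroupOf (normalClosure (J : Set X))
          ≃* (Fin n → Equiv.Perm (Fin 3)))) := by
  haveI : Fact (Nat.Prime 2) := ⟨Nat.prime_two⟩
  set C := (centralizer (Z : Set X)).normalCore with hC
  set Y := normalClosure (J : Set X) with hY
  constructor
  · haveI : (C ⊔ Y).Normal := sup_normal C Y
    have hJL : J ≤ C ⊔ Y := le_normalClosure.trans le_sup_right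
    rw [eq_top_iff, ← Thompson.frattini_inf T (C ⊔ Y)]
    refine sup_le (le_sup_of_le_right ?_) le_sup_left
    refine (Thompson.normalizer_le_normalizer_jay 0 _).trans (le_of_eq ?_)
    rw [Thompson.jay_eq_of_le (le_inf Thompson.jay_le (hJ ▸ hJL)) inf_le_left, ← hJ]
  by_cases hYC : Y ≤ C
  · exact .inl hYC
  right
  -- the normal closure of the centre
  set Q := Cfsg.pCore 2 X with hQ
  have hQT : Q ≤ (T : Subgroup X) := Cores.pCore_le_sylow T
  have hZQ : Z ≤ Q := by
    intro z hz
    rw [hZdef] at hz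
    refine hF ▸ Cores.centralizer_fittingSubgroup_le (mem_centralizer_iff.mpr fun q hq => ?_)
    exact mem_centralizer_iff.mp hz.2 q (hQT (hF ▸ hq))
  set V := normalClosure (Z : Set X) with hV
  haveI : Q.Normal := Cfsg.pCore_normal 2 X
  have hVQ : V ≤ Q := normalClosure_le_normal hZQ
  have hVT : V ≤ (T : Subgroup X) := hVQ.trans hQT
  have hCV : C = centralizer (V : Set X) := by
    refine le_antisymm (le_centralizer_iff.mp ?_) ?_
    · haveI : (centralizer (C : Set X)).Normal := inferInstance
      exact normalClosure_le_normal (le_centralizer_iff.mp (normalCore_le _))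
    · haveI : (centralizer (V : Set X)).Normal := inferInstance
      exact normal_le_normalCore.mpr (centralizer_le le_normalClosure)
  have hZT : (T : Subgroup X) ≤ centralizer (Z : Set X) := by
    refine le_centralizer_iff.mp ?_
    rw [hZdef]; exact inf_le_right
  have hVC : V ≤ C := normal_le_normalCore.mpr (hVT.trans hZT)
  have hVab : ∀ a ∈ V, ∀ b ∈ V, a * b = b * a := fun a ha b hb =>
    mem_centralizer_iff.mp (hCV ▸ hVC hb) a ha
  haveI hCn : C.Normal := inferInstance
  set π := QuotientGroup.mk' C with hπ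
  have hπsurj : Function.Surjective π := QuotientGroup.mk'_surjective C
  haveI : Group.IsSolvable (X ⧸ C) := Group.isSolvable_of_surjective hπsurj
  -- the quotient has trivial 2-core
  have hO : Cfsg.pCore 2 (X ⧸ C) = ⊥ := by
    set P := Cfsg.pCore 2 (X ⧸ C)
    haveI : P.Normal := Cfsg.pCore_normal 2 _
    set R := P.comap π with hR
    haveI : R.Normal := Normal.comap inferInstance π
    have hTP : P ≤ (T : Subgroup X).map π := by
      have := Cores.pCore_le_sylow (T.mapSurjective hπsurj)
      rwa [Sylow.coe_mapSurjective] at this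
    have hRfix : R ≤ centralizer (Z : Set X) := by
      intro r hr
      obtain ⟨t, ht, htr⟩ := hTP hr
      have h1 : t⁻¹ * r ∈ C := by
        rw [← QuotientGroup.eq_one_iff]
        show π (t⁻¹ * r) = 1
        rw [map_mul, map_inv, htr, inv_mul_cancel]
      rw [← mul_inv_cancel_left t r]
      exact mul_mem (hZT ht) (normalCore_le _ h1)
    set T0 := (T : Subgroup X) ⊓ R with hT0
    have hfr : normalizer (T0 : Set X) ⊔ R = ⊤ := Thompson.frattini_inf T R
    have hT0C : T0 ≤ C := by
      intro x hx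
      show ∀ g : X, g * x * g⁻¹ ∈ centralizer (Z : Set X)
      intro g
      have hg : g⁻¹ ∈ normalizer (T0 : Set X) ⊔ R := hfr ▸ mem_top _
      rw [← SetLike.mem_coe, Subgroup.mul_normal] at hg
      obtain ⟨m, hm, r, hr, hg⟩ := hg
      have hg' : g = r⁻¹ * m⁻¹ := by
        rw [← mul_inv_rev, show m * r = g⁻¹ from hg, inv_inv]
      have hxm : m⁻¹ * x * m ∈ T0 := by
        have := (mem_normalizer_iff.mp (inv_mem hm) x).mp hx
        rwa [inv_inv] at this
      have h1 : m⁻¹ * x * m ∈ centralizer (Z : Set X) := hZT hxm.1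
      rw [hg', show r⁻¹ * m⁻¹ * x * (r⁻¹ * m⁻¹)⁻¹ = r⁻¹ * (m⁻¹ * x * m) * r by group]
      exact mul_mem (mul_mem (inv_mem (hRfix hr)) h1) (hRfix hr)
    rw [eq_bot_iff]
    intro p hp
    obtain ⟨t, ht, rfl⟩ := hTP hp
    exact mem_bot.mpr ((QuotientGroup.eq_one_iff t).mpr (hT0C ⟨ht, hp⟩))
  -- the involutions of the normal closure
  let W : Subgroup X :=
    { carrier := {x | x ∈ V ∧ x * x = 1}
      one_mem' := ⟨one_mem _, mul_one 1⟩
      mul_mem' := fun {a b} ha hb => ⟨mul_mem ha.1 hb.1, by
        rw [show a * b * (a * b) = a * (b * a) * b by group, ← hVab a ha.1 b hb.1,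
          show a * (a * b) * b = (a * a) * (b * b) by group, ha.2, hb.2, one_mul]⟩
      inv_mem' := fun {a} ha => ⟨inv_mem ha.1, by rw [← mul_inv_rev, ha.2, inv_one]⟩ }
  haveI : W.Normal := ⟨fun x hx g => ⟨normalClosure_normal.conj_mem x hx.1 g, by
    rw [show g * x * g⁻¹ * (g * x * g⁻¹) = g * (x * x) * g⁻¹ by group, hx.2]; group⟩⟩
  letI : CommGroup V :=
    { (inferInstance : Group V) with mul_comm := fun a b => Subtype.ext (hVab a a.2 b b.2) }
  letI : CommGroup W :=
    { (inferInstance : Group W) with mul_comm := fun a b => Subtype.ext (hVab a a.2.1 b b.2.1) }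
  have hCW : centralizer (W : Set X) = C := by
    refine le_antisymm ?_ (hCV ▸ centralizer_le fun x hx => hx.1)
    intro g hg
    obtain ⟨a, m, hm, ham⟩ := Nat.exists_eq_two_pow_mul_odd (orderOf_pos g).ne'
    have hsub : (centralizer (W : Set X)).map π ≤ Cfsg.pCore 2 (X ⧸ C) := by
      haveI : (centralizer (W : Set X)).Normal := inferInstance
      haveI : ((centralizer (W : Set X)).map π).Normal := Normal.map inferInstance π hπsurj
      refine Cores.le_pCore ?_
      rintro ⟨_, h, hh, rfl⟩
      obtain ⟨a, m, hm, ham⟩ := Nat.exists_eq_two_pow_mul_odd (orderOf_pos h).ne'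
      refine ⟨a, Subtype.ext ?_⟩
      show π h ^ 2 ^ a = 1
      rw [← map_pow]
      refine (QuotientGroup.eq_one_iff _).mpr (hCV ▸ mem_centralizer_iff.mpr fun v hv => ?_)
      have hk : ∃ k, (⟨v, hv⟩ : V) ^ 2 ^ k = 1 := by
        obtain ⟨k, hk⟩ := (Cores.pCore_isPGroup (p := 2) (G := X)).to_le hVQ ⟨v, hv⟩
        exact ⟨k, hk⟩
      obtain ⟨k, hk⟩ := hk
      have := fix_of_fix_involutions (MulAut.conjNormal : X →* MulAut V) (g := h ^ 2 ^ a) hm
        (by rw [← pow_mul, ← ham, pow_orderOf_eq_one]) (fun x hx => Subtype.ext (by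
          show h ^ 2 ^ a * (x : X) * (h ^ 2 ^ a)⁻¹ = x
          rw [← mem_centralizer_iff.mp (pow_mem hh _) (x : X) ⟨x.2, congrArg Subtype.val hx⟩,
            mul_inv_cancel_right])) k ⟨v, hv⟩ hk
      have h' : h ^ 2 ^ a * v * (h ^ 2 ^ a)⁻¹ = v := congrArg Subtype.val this
      exact (mul_inv_eq_iff_eq_mul.mp h').symm
    exact (QuotientGroup.eq_one_iff g).mp (mem_bot.mp (hO ▸ hsub ⟨g, hg, rfl⟩))
  set ψ : X →* MulAut W := MulAut.conjNormal with hψ
  have hker : C = ψ.ker := by
    rw [← hCW]
    ext g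
    rw [MonoidHom.mem_ker]
    constructor
    · intro hg
      refine MulEquiv.ext fun x => Subtype.ext ?_
      show g * (x : X) * g⁻¹ = x
      rw [← mem_centralizer_iff.mp hg (x : X) x.2, mul_inv_cancel_right]
    · intro hg
      refine mem_centralizer_iff.mpr fun x hx => ?_
      have h : g * x * g⁻¹ = x := congrArg Subtype.val (DFunLike.congr_fun hg (⟨x, hx⟩ : W))
      exact (mul_inv_eq_iff_eq_mul.mp h).symm
  set φ : X ⧸ C →* MulAut W := QuotientGroup.lift C ψ hker.le with hφ
  have hinj : Function.Injective φ := by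
    rw [injective_iff_map_eq_one]
    intro g hg
    induction g using QuotientGroup.induction_on with | _ g => ?_
    exact (QuotientGroup.eq_one_iff g).mpr (hker.ge (MonoidHom.mem_ker.mpr hg))
  have hW2 : ∀ x : W, x * x = 1 := fun x => Subtype.ext x.2.2
  -- abelian subgroups of largest order
  have hoff : ∀ A ∈ Thompson.maxIn 0 (T : Subgroup X),
      A.map π ≤ closure {t | t ∈ A.map π ∧ TV.IsTV φ t} := by
    intro A hA
    have hAc : ∀ a ∈ A.map π, ∀ b ∈ A.map π, a * b = b * a := by
      rintro _ ⟨a, ha, rfl⟩ _ ⟨b, hb, rfl⟩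
      rw [← map_mul, ← map_mul, hA.2.1.comm ha hb]
    have hAp : IsPGroup 2 (A.map π) := (T.isPGroup'.to_le hA.1).map π
    obtain ⟨hle, heq⟩ := TV.card_le_index hinj hW2 hO (A.map π) hAp hAc
    refine heq (le_antisymm hle ?_)
    set A0 := A ⊓ C with hA0
    have hB : Thompson.IsAbExp 0 (A0 ⊔ V) := by
      refine ⟨?_, fun a _ => pow_zero a⟩
      rw [← le_centralizer_iff_isMulCommutative]
      have h1 : A0 ≤ centralizer (A0 : Set X) := fun a ha => mem_centralizer_iff.mpr fun b hb =>
        hA.2.1.comm hb.1 ha.1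
      have h2 : A0 ≤ centralizer (V : Set X) := inf_le_right.trans hCV.le
      have h3 : V ≤ centralizer (V : Set X) := hVC.trans hCV.le
      have h4 : V ≤ centralizer (A0 : Set X) := le_centralizer_iff.mp h2
      exact sup_le (le_centralizer_iff.mp (sup_le h1 h4)) (le_centralizer_iff.mp (sup_le h2 h3))
    have hcard := hA.2.2 _ (sup_le (inf_le_left.trans hA.1) hVT) hB
    rw [TV.card_eq_mul_relIndex (le_sup_left : A0 ≤ A0 ⊔ V), TV.card_eq_mul_relIndex (inf_le_left : A0 ≤ A)]
      at hcard
    have h5 := Nat.le_of_mul_le_mul_left hcard Nat.card_pos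
    have h6 : A0.relIndex A = Nat.card (A.map π) := by
      rw [hA0, inf_relIndex_left, ← relIndex_bot_left (A.map π), ← relIndex_comap, MonoidHom.comap_bot,
        hπ, QuotientGroup.ker_mk']
    rw [← hA0] at h5
    have h7 : A.relIndex W ≤ A0.relIndex (A0 ⊔ V) :=
      (relIndex_le_of_le_left (inf_le_left : A0 ≤ A) (index_ne_zero_of_finite)).trans
        (relIndex_le_of_le_right (show W ≤ A0 ⊔ V from fun x hx => mem_sup_right hx.1)
          (index_ne_zero_of_finite))
    have h8 : (fixed φ (A.map π)).index ≤ A.relIndex W := by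
      refine Nat.le_of_dvd (Nat.pos_of_ne_zero index_ne_zero_of_finite) (index_dvd_of_le ?_)
      rintro x hx _ ⟨a, ha, rfl⟩
      refine Subtype.ext ?_
      show a * (x : X) * a⁻¹ = x
      rw [hA.2.1.comm ha (mem_subgroupOf.mp hx), mul_inv_cancel_right]
    omega
  -- the transvections of the normal closure
  set Tv := {t | t ∈ Y.map π ∧ TV.IsTV φ t} with hTv
  have hTconj : ∀ t ∈ Tv, ∀ g, g * t * g⁻¹ ∈ Tv := fun t ht g =>
    ⟨(Normal.map normalClosure_normal π hπsurj).conj_mem t ht.1 g, ht.2.conj g⟩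
  have hclos : Y.map π = closure Tv := by
    refine le_antisymm ?_ ((closure_le _).mpr fun t ht => ht.1)
    rw [map_le_iff_le_comap]
    have hn : (closure Tv).Normal := by
      refine normalizer_eq_top_iff.mp (eq_top_iff.mpr fun g _ => ?_)
      have key : ∀ g : X ⧸ C, ∀ z ∈ closure Tv, g * z * g⁻¹ ∈ closure Tv := fun g z hz => by
        have : closure Tv ≤ (closure Tv).comap (MulAut.conj g).toMonoidHom :=
          (closure_le _).mpr fun t ht => subset_closure (hTconj t ht g)
        exact this hz
      rw [mem_normalizer_iff]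
      intro z
      refine ⟨key g z, fun h => ?_⟩
      have := key g⁻¹ _ h
      rwa [show g⁻¹ * (g * z * g⁻¹) * g⁻¹⁻¹ = z by group] at this
    haveI := hn
    refine normalClosure_le_normal ?_
    rw [SetLike.coe_subset_coe, hJ, Thompson.jay, sSup_le_iff]
    intro A hA
    rw [← map_le_iff_le_comap]
    refine (hoff A hA).trans (closure_mono fun t ht => ⟨?_, ht.2⟩)
    exact map_mono ((Thompson.le_jay hA).trans (hJ ▸ le_normalClosure)) ht.1
  have hTne : Tv.Nonempty := by
    by_contra hne
    rw [Set.not_nonempty_iff_eq_empty] at hne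
    rw [hne, Subgroup.closure_empty, Subgroup.map_eq_bot_iff, hπ, QuotientGroup.ker_mk'] at hclos
    exact hYC hclos
  obtain ⟨n, hn, ⟨e⟩⟩ := TV.closure_equiv_pi hinj hW2 hO Tv hTne (fun t ht => ht.2) hTconj
  refine ⟨n, hn, ⟨?_⟩⟩
  have hk : (π.comp Y.subtype).ker = C.subgroupOf Y := by
    rw [← MonoidHom.comap_ker, hπ, QuotientGroup.ker_mk']; rfl
  have hr : (π.comp Y.subtype).range = closure Tv := by
    rw [MonoidHom.range_comp, range_subtype, hclos]
  exact (QuotientGroup.quotientMulEquivOfEq hk.symm).trans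
    ((QuotientGroup.quotientKerEquivRange _).trans ((MulEquiv.subgroupCongr hr).trans e))

/-- Let `X` be a finite solvable group whose Fitting subgroup is a 2-group (equivalently `F(X) = O₂(X)`), `T` a Sylow 2-subgroup of `X`, `J(T)` the subgroup generated by the abelian subgroups of `T` of largest order, `C` the largest normal subgroup of `X` centralizing the centre `Z(T)`, and `Y` the normal closure of `J(T)` in `X`. Then `X = C · Y · N_X(J(T))`, and either `Y ≤ C`, or `CY/C` is isomorphic to a direct product of at least one copy of the symmetric group of degree 3. -/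
theorem result {X : Type*} [Group X] [Finite X]
    [Group.IsSolvable X] (hF : Cfsg.fittingSubgroup X = Cfsg.pCore 2 X) (T : Sylow 2 X) :
    ((Subgroup.centralizer (((T : Subgroup X) ⊓ Subgroup.centralizer ((T : Subgroup X) : Set X) : Subgroup X) : Set X)).normalCore
        ⊔ Subgroup.normalClosure (Cfsg.thompsonSubgroupAOf (T : Subgroup X) : Set X)
        ⊔ Subgroup.normalizer (Cfsg.thompsonSubgroupAOf (T : Subgroup X) : Set X) = ⊤) ∧
    (Subgroup.normalClosure (Cfsg.thompsonSubgroupAOf (T : Subgroup X) : Set X)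
        ≤ (Subgroup.centralizer (((T : Subgroup X) ⊓ Subgroup.centralizer ((T : Subgroup X) : Set X) : Subgroup X) : Set X)).normalCore
      ∨ ∃ n : ℕ, 1 ≤ n ∧
        Nonempty (↥(Subgroup.normalClosure (Cfsg.thompsonSubgroupAOf (T : Subgroup X) : Set X)) ⧸
            ((Subgroup.centralizer (((T : Subgroup X) ⊓ Subgroup.centralizer ((T : Subgroup X) : Set X) : Subgroup X) : Set X)).normalCore).subgroupOf
              (Subgroup.normalClosure (Cfsg.thompsonSubgroupAOf (T : Subgroup X) : Set X))
          ≃* (Fin n → Equiv.Perm (Fin 3)))) := by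
  exact main hF T _ _ (Thompson.thompsonSubgroupAOf_eq _) rfl

end Cfsg.Agent.S4302
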