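import Cfsg.Statements.S4309
import Cfsg.Agent.H78.SylowCount

set_option autoImplicit false
open Cfsg

namespace Cfsg.Agent.S4309

set_option maxHeartbeats 200000 in
/-- Let `π` be a set of primes, `G` a finite group with a Hall `π`-subgroup `H` (every prime divisor of the order of `H` lies in `π` and no prime of `π` divides its index), and `A` a normal subgroup of `G`. Then `H ∩ A` is a Hall `π`-subgroup of `A` and the image of `H` in `G/A` is a Hall `π`-subgroup of `G/A`. -/
theorem result {G : Type*} [Group G] [Finite G] (π : Set ℕ)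
    (H A : Subgroup G) [A.Normal] (hH : Cfsg.IsPiHall π H) :
    Cfsg.IsPiHall π ((H ⊓ A).subgroupOf A) ∧ Cfsg.IsPiHall π (H.map (QuotientGroup.mk' A)) := by
  obtain ⟨h1, h2⟩ := hH
  have hfac : ∀ b ∈ A ⊔ H, ∃ m ∈ A, ∃ a ∈ H, b = m * a := fun b hb => by
    obtain ⟨m, hm, a, ha, rfl⟩ := Subgroup.mem_sup_of_normal_left.mp hb
    exact ⟨m, hm, a, ha, rfl⟩
  refine ⟨⟨fun p hp hd => h1 p hp ?_, fun p hp hpπ hd => h2 p hp hpπ ?_⟩,
    ⟨fun p hp hd => h1 p hp ?_, fun p hp hpπ hd => h2 p hp hpπ ?_⟩⟩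
  · refine hd.trans ?_
    rw [Nat.card_congr (Subgroup.subgroupOfEquivOfLe inf_le_right).toEquiv]
    exact Subgroup.card_dvd_of_le inf_le_left
  · have he : ((H ⊓ A).subgroupOf A).index = H.relIndex A := Subgroup.inf_relIndex_right H A
    rw [he, ← Cfsg.Agent.H78.relIndex_eq_of_factor le_sup_right le_sup_left hfac] at hd
    exact hd.trans (Dvd.intro _ (Subgroup.relIndex_mul_index le_sup_right))
  · exact dvd_trans hd (Subgroup.card_map_dvd (H := H) (QuotientGroup.mk' A))
  · exact dvd_trans hd (Subgroup.index_map_dvd (H := H) (f := QuotientGroup.mk' A) (QuotientGroup.mk'_surjective A))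

end Cfsg.Agent.S4309
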