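import Cfsg.Statements.S4314
import Cfsg.Agent.H75.Cover
import Cfsg.Agent.Frobenius.Basic

set_option autoImplicit false
open Cfsg

namespace Cfsg.Agent.S4314

open Subgroup Cfsg.Agent
open scoped commutatorElement

variable {G : Type*} [Group G]

/-- the conjugacy class of `x`. -/
def cls (x : G) : Set G := Set.range fun g : G => g * x * g⁻¹

abbrev C (x : G) : Subgroup G := centralizer ({x} : Set G)

theorem mem_C {x g : G} : g ∈ C x ↔ g * x = x * g := mem_centralizer_singleton_iff

theorem conj_eq_iff {x g h : G} : g * x * g⁻¹ = h * x * h⁻¹ ↔ g⁻¹ * h ∈ C x := by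
  rw [mem_C]
  constructor
  · intro e
    calc g⁻¹ * h * x = g⁻¹ * (h * x * h⁻¹) * h := by group
      _ = g⁻¹ * (g * x * g⁻¹) * h := by rw [e]
      _ = x * (g⁻¹ * h) := by group
  · intro e
    calc g * x * g⁻¹ = g * (x * (g⁻¹ * h)) * h⁻¹ := by group
      _ = g * (g⁻¹ * h * x) * h⁻¹ := by rw [e]
      _ = h * x * h⁻¹ := by group

theorem card_cls [Finite G] (x : G) : Nat.card (cls x) = (C x).index := by
  rw [index_eq_card]
  refine (Nat.card_eq_of_bijective (fun q : G ⧸ C x => Quotient.liftOn' q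
    (fun g => (⟨g * x * g⁻¹, g, rfl⟩ : cls x)) fun a b hab =>
      Subtype.ext (conj_eq_iff.mpr (QuotientGroup.leftRel_apply.mp hab))) ⟨?_, ?_⟩).symm
  · intro a b
    induction a using QuotientGroup.induction_on with | H a =>
    induction b using QuotientGroup.induction_on with | H b =>
    intro h
    exact QuotientGroup.eq.mpr (conj_eq_iff.mp (congrArg Subtype.val h))
  · rintro ⟨-, g, rfl⟩
    exact ⟨(g : G ⧸ C x), rfl⟩

theorem exists_split [Finite G] {H K : Subgroup G} (h : H.index.Coprime K.index) (g : G) :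
    ∃ t ∈ H, t⁻¹ * g ∈ K := by
  have hi : (H ⊓ K).index = H.index * K.index := by
    refine le_antisymm index_inf_le (Nat.le_of_dvd (Nat.pos_of_ne_zero index_ne_zero_of_finite) ?_)
    exact h.mul_dvd_of_dvd_of_dvd (index_dvd_of_le inf_le_left) (index_dvd_of_le inf_le_right)
  let f : G ⧸ (H ⊓ K) → (G ⧸ H) × (G ⧸ K) := fun q => Quotient.liftOn' q
    (fun a => ((a : G ⧸ H), (a : G ⧸ K))) fun a b hab => by
      have hab' := QuotientGroup.leftRel_apply.mp hab
      exact Prod.ext (QuotientGroup.eq.mpr hab'.1) (QuotientGroup.eq.mpr hab'.2)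
  have hinj : Function.Injective f := by
    intro a b
    induction a using QuotientGroup.induction_on with | H a =>
    induction b using QuotientGroup.induction_on with | H b =>
    intro e
    exact QuotientGroup.eq.mpr ⟨QuotientGroup.eq.mp (congrArg Prod.fst e),
      QuotientGroup.eq.mp (congrArg Prod.snd e)⟩
  have hbij := hinj.bijective_of_nat_card_le
    (by rw [Nat.card_prod, ← index_eq_card, ← index_eq_card, ← index_eq_card, hi])
  obtain ⟨q, hq⟩ := hbij.2 (((1 : G) : G ⧸ H), (g : G ⧸ K))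
  induction q using QuotientGroup.induction_on with | H t =>
  refine ⟨t, ?_, QuotientGroup.eq.mp (congrArg Prod.snd hq)⟩
  simpa using QuotientGroup.eq.mp (congrArg Prod.fst hq).symm

/-- two classes of coprime size multiply to one class. -/
theorem mul_cls [Finite G] {x y : G} (h : (C x).index.Coprime (C y).index) (g k : G) :
    g * x * g⁻¹ * (k * y * k⁻¹) ∈ cls (x * y) := by
  obtain ⟨t, ht, hu⟩ := exists_split h (g⁻¹ * k)
  refine ⟨g * t, ?_⟩
  have e1 : g * t * x * (g * t)⁻¹ = g * x * g⁻¹ :=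
    conj_eq_iff.mpr (by simpa [mul_assoc] using inv_mem ht)
  have e2 : g * t * y * (g * t)⁻¹ = k * y * k⁻¹ :=
    conj_eq_iff.mpr (by simpa [mul_assoc] using hu)
  rw [← e1, ← e2]; group

theorem key [Finite G] (hh : ∀ x : G, (C x).index = 1 ∨ ((C x).index).Prime) {q : ℕ}
    (hmax : ∀ x : G, (C x).index ≤ q) {x y : G} (hx1 : (C x).index ≠ 1) (hxq : (C x).index ≠ q)
    (hy : (C y).index = q) (hq : q.Prime) :
    ∃ S : Subgroup G, S.Normal ∧ Nat.card S = q ∧ ∀ g : G, ⁅g, x⁆ ∈ S ∧ ⁅g, y⁆ ∈ S := by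
  have hp := (hh x).resolve_left hx1
  have hcop : (C x).index.Coprime (C y).index := hy ▸ (Nat.coprime_primes hp hq).mpr hxq
  have hB : Nat.card (cls y) = q := (card_cls y).trans hy
  have heq : ∀ g : G, ∀ b, b ∈ cls y → (g * x * g⁻¹)⁻¹ * (x * b) ∈ cls y := by
    intro g
    let F : cls y → cls (x * y) := fun b => ⟨g * x * g⁻¹ * b, by
      obtain ⟨k, hk⟩ := b.2
      rw [← hk]; exact mul_cls hcop g k⟩
    have hF : Function.Injective F := fun a b e =>
      Subtype.ext (mul_left_cancel (congrArg Subtype.val e))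
    have hbij := hF.bijective_of_nat_card_le (by rw [hB, card_cls]; exact hmax _)
    intro b hb
    obtain ⟨k, rfl⟩ := hb
    obtain ⟨b', hb'⟩ := hbij.2 ⟨x * (k * y * k⁻¹), by simpa using mul_cls hcop 1 k⟩
    rw [← show g * x * g⁻¹ * (b' : G) = x * (k * y * k⁻¹) from congrArg Subtype.val hb',
      inv_mul_cancel_left]
    exact b'.2
  let S : Subgroup G :=
    { carrier := {n | ∀ b, b ∈ cls y ↔ n * b ∈ cls y}
      one_mem' := fun b => by simp
      mul_mem' := fun {u v} hu hv b => (hv b).trans ((hu (v * b)).trans (by rw [mul_assoc]))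
      inv_mem' := fun {u} hu b => by simpa using (hu (u⁻¹ * b)).symm }
  have hconj : ∀ b g : G, b ∈ cls y → g * b * g⁻¹ ∈ cls y := by
    rintro _ g ⟨k, rfl⟩; exact ⟨g * k, by simp [mul_assoc]⟩
  have hconj' : ∀ b g : G, b ∈ cls y ↔ g * b * g⁻¹ ∈ cls y := fun b g =>
    ⟨hconj b g, fun h => by simpa [mul_assoc] using hconj _ g⁻¹ h⟩
  have hSn : S.Normal := ⟨fun n hn g b => by
    rw [hconj' b g⁻¹, hn, hconj' _ g]
    simp [mul_assoc]⟩
  have hmemx : ∀ g : G, ⁅g, x⁆ ∈ S := by
    intro g
    suffices h : (g * x * g⁻¹)⁻¹ * x ∈ S by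
      have h2 := hSn.conj_mem _ (inv_mem h) x
      simpa [commutatorElement_def, mul_assoc] using h2
    intro b
    constructor
    · intro hb; simpa [mul_assoc] using heq g b hb
    · intro hb
      have hfin : Function.Bijective (fun c : cls y =>
          (⟨(g * x * g⁻¹)⁻¹ * (x * c), heq g c c.2⟩ : cls y)) :=
        Finite.injective_iff_bijective.mp fun a c e =>
          Subtype.ext (mul_left_cancel (mul_left_cancel (congrArg Subtype.val e)))
      obtain ⟨c, hc⟩ := hfin.2 ⟨_, hb⟩
      have h3 : (g * x * g⁻¹)⁻¹ * (x * (c : G)) = (g * x * g⁻¹)⁻¹ * x * b := congrArg Subtype.val hc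
      rw [mul_assoc _ x b] at h3
      exact mul_left_cancel (mul_left_cancel h3) ▸ c.2
  letI : MulAction S (cls y) :=
    { smul := fun n b => ⟨(n : G) * b, (n.2 b).mp b.2⟩
      one_smul := fun b => Subtype.ext (one_mul _)
      mul_smul := fun u v b => Subtype.ext (mul_assoc _ _ _) }
  have hdvd : Nat.card S ∣ q := hB ▸ Frobenius.dvd_card_of_free S (X := cls y) fun n b e =>
    Subtype.ext (mul_eq_right.mp (congrArg Subtype.val e))
  have hne : S ≠ ⊥ := by
    intro h0
    refine hx1 (index_eq_one.mpr (eq_top_iff.mpr fun g _ => mem_C.mpr ?_))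
    have := hmemx g
    rw [h0, mem_bot, commutatorElement_eq_one_iff_mul_comm] at this
    exact this
  have hcardS : Nat.card S = q :=
    ((Nat.dvd_prime hq).mp hdvd).resolve_left ((Subgroup.one_lt_card_iff_ne_bot S).mpr hne).ne'
  refine ⟨S, hSn, hcardS, fun g => ⟨hmemx g, ?_⟩⟩
  have hbij : Function.Bijective (fun n : S => (⟨(n : G) * y, (n.2 y).mp ⟨1, by simp⟩⟩ : cls y)) :=
    Function.Injective.bijective_of_nat_card_le
      (fun a c e => Subtype.ext (mul_right_cancel (congrArg Subtype.val e))) (by rw [hB, hcardS])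
  obtain ⟨n, hn⟩ := hbij.2 ⟨g * y * g⁻¹, g, rfl⟩
  have hn' : (n : G) * y = g * y * g⁻¹ := congrArg Subtype.val hn
  rw [show ⁅g, y⁆ = (n : G) by rw [commutatorElement_def, ← hn', mul_inv_cancel_right]]
  exact n.2

/-- a single class size `> 1`. -/
theorem one_prime [Finite G] {p : ℕ} (hp : p.Prime)
    (h : ∀ x : G, (C x).index = 1 ∨ (C x).index = p) : Subgroup.upperCentralSeries G 2 = ⊤ := by
  haveI := Fact.mk hp
  have hcentral : ∀ r : ℕ, r.Prime → r ≠ p → ∀ R : Sylow r G, (R : Subgroup G) ≤ center G := by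
    intro r hr hrp R
    haveI := Fact.mk hr
    suffices hT : centralizer ((R : Subgroup G) : Set G) = ⊤ from fun v hv => mem_center_iff.mpr fun g =>
      (mem_centralizer_iff.mp (hT ▸ mem_top g) v hv).symm
    refine H75.eq_top_of_conj_cover _ fun g => ?_
    obtain ⟨Q⟩ : Nonempty (Sylow r (C g)) := inferInstance
    have hQp : IsPGroup r ((Q : Subgroup (C g)).map (C g).subtype) := Q.isPGroup'.map _
    obtain ⟨Q', hQ'⟩ := hQp.exists_le_sylow
    obtain ⟨a, ha⟩ := MulAction.exists_smul_eq G Q' R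
    have hnd : ¬ r ∣ (C g).index := by
      rcases h g with h' | h' <;> rw [h']
      · exact hr.not_dvd_one
      · exact fun hd => hrp ((Nat.prime_dvd_prime_iff_eq hr hp).mp hd)
    have hcardQ : Nat.card Q' ≤ Nat.card ((Q : Subgroup (C g)).map (C g).subtype) := by
      rw [card_map_of_injective (C g).subtype_injective, Q'.card_eq_multiplicity, Q.card_eq_multiplicity,
        ← (C g).card_mul_index, Nat.factorization_mul Nat.card_pos.ne' index_ne_zero_of_finite,
        Finsupp.add_apply, Nat.factorization_eq_zero_of_not_dvd hnd, add_zero]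
    have hQe := eq_of_le_of_card_ge hQ' hcardQ
    refine ⟨a, mem_centralizer_iff.mpr fun v hv => ?_⟩
    have hv' : a⁻¹ * v * a ∈ (Q' : Subgroup G) := by
      rw [← ha, SetLike.mem_coe, Sylow.coe_subgroup_smul, Subgroup.mem_pointwise_smul_iff_inv_smul_mem] at hv
      simpa [MulAut.smul_def, mul_assoc] using hv
    have hvC : a⁻¹ * v * a ∈ C g := map_subtype_le (Q : Subgroup (C g)) (hQe.symm ▸ hv')
    calc v * (a * g * a⁻¹) = a * ((a⁻¹ * v * a) * g) * a⁻¹ := by group
      _ = a * g * a⁻¹ * v := by rw [mem_C.mp hvC]; group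
  have hpg : IsPGroup p (G ⧸ center G) := by
    obtain ⟨k, hk⟩ : ∃ k, (center G).index = p ^ k := by
      refine ⟨(center G).index.primeFactorsList.length, Nat.eq_prime_pow_of_unique_prime_dvd
        index_ne_zero_of_finite fun {r} hr hrd => ?_⟩
      by_contra hrp
      haveI := Fact.mk hr
      obtain ⟨R⟩ : Nonempty (Sylow r G) := inferInstance
      exact R.not_dvd_index (hrd.trans (index_dvd_of_le (hcentral r hr hrp R)))
    exact IsPGroup.of_card (n := k) (by rw [← index_eq_card, hk])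
  haveI := hpg.isNilpotent
  haveI : Group.IsNilpotent G := Group.of_quotient_center_nilpotent inferInstance
  have hcomm : ∀ x a b : G, ⁅a, b⁆ * x = x * ⁅a, b⁆ := by
    intro x a b
    refine mem_C.mp ?_
    rcases h x with hx | hx
    · rw [index_eq_one.mp hx]; exact mem_top _
    have hco : IsCoatom (C x) := by
      refine ⟨fun e => hp.ne_one (by rw [← hx, e, index_top]), fun K hK => ?_⟩
      by_contra hne
      have h1 := relIndex_mul_index hK.le
      rw [hx] at h1
      rcases hp.eq_one_or_self_of_dvd _ ⟨_, h1.symm⟩ with h2 | h2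
      · exact hK.2 (relIndex_eq_one.mp h2)
      · exact hne (index_eq_one.mp (Nat.eq_of_mul_eq_mul_left hp.pos (by rw [mul_one]; rw [h2] at h1; exact h1)))
    haveI := Group.normalizerCondition_of_isNilpotent.normal_of_coatom (C x) hco
    haveI : IsCyclic (G ⧸ C x) := isCyclic_of_prime_card (p := p) (by rw [← index_eq_card, hx])
    letI := IsCyclic.commGroup (α := G ⧸ C x)
    rw [← QuotientGroup.eq_one_iff]
    change QuotientGroup.mk' (C x) ⁅a, b⁆ = 1
    rw [map_commutatorElement, commutatorElement_eq_one_iff_mul_comm]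
    exact mul_comm _ _
  rw [eq_top_iff]
  intro a _
  refine Subgroup.mem_upperCentralSeries_succ_iff.mpr fun b => ?_
  rw [Subgroup.upperCentralSeries_one, mem_center_iff]
  exact fun g => (hcomm g a b).symm

/-- Let `G` be a finite group every conjugacy class of which has size 1 or a prime. Then either `G` is nilpotent of class at most 2, or `G/Z(G)` is a non-abelian group of order `pq` for distinct primes `p, q` (a Frobenius group of order `pq`). -/
theorem result {G : Type*} [Group G] [Finite G]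
    (h : ∀ x : G, (Subgroup.centralizer ({x} : Set G)).index = 1 ∨ ((Subgroup.centralizer ({x} : Set G)).index).Prime) :
    Subgroup.upperCentralSeries G 2 = ⊤ ∨
      ∃ p q : ℕ, p.Prime ∧ q.Prime ∧ p ≠ q ∧ Nat.card (G ⧸ Subgroup.center G) = p * q ∧ ¬ IsMulCommutative (G ⧸ Subgroup.center G) := by
  haveI : Nonempty G := ⟨1⟩
  obtain ⟨y₀, hmax⟩ := Finite.exists_max fun g : G => (C g).index
  set q := (C y₀).index with hq0
  rcases h y₀ with hq1 | hq
  · left
    refine one_prime Nat.prime_two fun g => Or.inl ?_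
    exact le_antisymm ((hmax g).trans hq1.le)
      (Nat.one_le_iff_ne_zero.mpr index_ne_zero_of_finite)
  by_cases hall : ∀ x : G, (C x).index = 1 ∨ (C x).index = q
  · exact Or.inl (one_prime hq hall)
  push Not at hall
  obtain ⟨x₀, hx1, hxq⟩ := hall
  obtain ⟨N, hNn, hN, hN₀⟩ := key h hmax hx1 hxq rfl hq
  haveI := hNn
  haveI := Fact.mk hq
  have hz : ∀ S : Subgroup G, Nat.card S = q → ∀ v : G, v ≠ 1 → v ∈ S → v ∈ N → S = N := by
    intro S hS v hv1 hvS hvN
    have hgen : ∀ T : Subgroup G, Nat.card T = q → v ∈ T → zpowers v = T := fun T hT hvT => by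
      refine eq_of_le_of_card_ge (zpowers_le.mpr hvT) ?_
      rw [hT, Nat.card_zpowers, orderOf_eq_prime
        (orderOf_dvd_iff_pow_eq_one.mp (hT ▸ Subgroup.orderOf_dvd_natCard T hvT)) hv1]
    rw [← hgen S hS hvS, hgen N hN hvN]
  have hwit : ∀ g : G, (C g).index ≠ 1 → ∃ k, ⁅k, g⁆ ≠ 1 := fun g hg => by
    by_contra hc
    push Not at hc
    exact hg (index_eq_one.mpr (eq_top_iff.mpr fun k _ =>
      mem_C.mpr (commutatorElement_eq_one_iff_mul_comm.mp (hc k))))
  have hder : ∀ w g : G, ⁅g, w⁆ ∈ N := by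
    intro w g
    by_cases hw1 : (C w).index = 1
    · have : ⁅g, w⁆ = 1 := commutatorElement_eq_one_iff_mul_comm.mpr
        (mem_C.mp (index_eq_one.mp hw1 ▸ mem_top g))
      rw [this]; exact one_mem N
    by_cases hwq : (C w).index = q
    · obtain ⟨S, -, hS, hS'⟩ := key h hmax hx1 hxq hwq hq
      obtain ⟨k, hk⟩ := hwit x₀ hx1
      exact hz S hS _ hk (hS' k).1 (hN₀ k).1 ▸ (hS' g).2
    · obtain ⟨S, -, hS, hS'⟩ := key h hmax hw1 hwq (rfl : (C y₀).index = q) hq
      obtain ⟨k, hk⟩ := hwit y₀ hq.ne_one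
      exact hz S hS _ hk (hS' k).2 (hN₀ k).2 ▸ (hS' g).1
  have hnc : ¬ N ≤ center G := by
    intro hle
    let φ : G →* G := MonoidHom.mk' (fun g => ⁅g, x₀⁆) fun a b => by
      have hb := mem_center_iff.mp (hle (hder x₀ b))
      calc ⁅a * b, x₀⁆ = a * ⁅b, x₀⁆ * (x₀ * a⁻¹ * x₀⁻¹) := by
            simp only [commutatorElement_def]; group
        _ = ⁅a, x₀⁆ * ⁅b, x₀⁆ := by
            rw [mul_assoc, ← hb, ← mul_assoc]; simp only [commutatorElement_def]; group
    have hker : φ.ker = C x₀ := by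
      ext g
      rw [MonoidHom.mem_ker, mem_C]
      exact commutatorElement_eq_one_iff_mul_comm
    have hd : (C x₀).index ∣ q := by
      rw [← hker, index_ker, ← hN]
      exact card_dvd_of_le (by rintro _ ⟨g, rfl⟩; exact hder x₀ g)
    rcases (Nat.dvd_prime hq).mp hd with h' | h'
    · exact hx1 h'
    · exact hxq h'
  obtain ⟨n, hnN, hnZ⟩ := SetLike.not_le_iff_exists.mp hnc
  have hn1 : n ≠ 1 := fun e => hnZ (e ▸ one_mem _)
  have hgenN : zpowers n = N := by
    refine eq_of_le_of_card_ge (zpowers_le.mpr hnN) ?_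
    rw [hN, Nat.card_zpowers, orderOf_eq_prime
      (orderOf_dvd_iff_pow_eq_one.mp (hN ▸ Subgroup.orderOf_dvd_natCard N hnN)) hn1]
  have hnC : (C n).index ≠ 1 := fun e => hnZ (mem_center_iff.mpr fun g =>
    mem_C.mp (index_eq_one.mp e ▸ mem_top g))
  have hp' := (h n).resolve_left hnC
  have hltq : (C n).index < q := by
    rw [← card_cls, ← hN, Nat.card_coe_set_eq, ← SetLike.coe_sort_coe, Nat.card_coe_set_eq]
    refine Set.ncard_lt_ncard ⟨?_, fun hsub => ?_⟩ (Set.toFinite _)
    · rintro _ ⟨g, rfl⟩; exact hNn.conj_mem n hnN g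
    · obtain ⟨g, hg⟩ := hsub (one_mem N)
      exact hn1 (conj_eq_one_iff.mp hg)
  have hNC : ∀ v ∈ N, Commute v n := fun v hv => by
    obtain ⟨i, rfl⟩ := mem_zpowers_iff.mp (hgenN ▸ hv)
    exact (Commute.refl n).zpow_left i
  have hCN : ∀ c ∈ C n, ∀ v ∈ N, Commute c v := fun c hc v hv => by
    obtain ⟨i, rfl⟩ := mem_zpowers_iff.mp (hgenN ▸ hv)
    exact (show Commute c n from mem_C.mp hc).zpow_right i
  obtain ⟨g, hg⟩ : ∃ g, g ∉ C n := by
    by_contra hc
    push Not at hc
    exact hnC (index_eq_one.mpr (eq_top_iff.mpr fun g _ => hc g))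
  have hfree : ∀ v ∈ N, Commute v g → v = 1 := by
    intro v hv hvg
    by_contra hv1
    have hvgen : zpowers v = N := by
      refine eq_of_le_of_card_ge (zpowers_le.mpr hv) ?_
      rw [hN, Nat.card_zpowers, orderOf_eq_prime
        (orderOf_dvd_iff_pow_eq_one.mp (hN ▸ Subgroup.orderOf_dvd_natCard N hv)) hv1]
    obtain ⟨i, hi⟩ := mem_zpowers_iff.mp (hvgen ▸ hnN : n ∈ zpowers v)
    exact hg (mem_C.mpr (hi ▸ (hvg.symm.zpow_right i).eq))
  set D := C n ⊓ C g with hD
  have hdec : ∀ c ∈ C n, ∃ v ∈ N, v⁻¹ * c ∈ D := by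
    intro c hc
    -- commutation with `g` maps `N` onto itself
    have hbij : Function.Bijective (fun v : N => (⟨⁅(v : G), g⁆, hder g v⟩ : N)) := by
      refine Finite.injective_iff_bijective.mp fun a b e => ?_
      have e' : ⁅(a : G), g⁆ = ⁅(b : G), g⁆ := congrArg Subtype.val e
      have e'' : Commute ((b : G)⁻¹ * a) g := by
        show _ = _
        calc (b : G)⁻¹ * a * g = (b : G)⁻¹ * ⁅(a : G), g⁆ * g * a := by
              simp only [commutatorElement_def]; group
          _ = g * ((b : G)⁻¹ * a) := by rw [e']; simp only [commutatorElement_def]; group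
      exact Subtype.ext (inv_mul_eq_one.mp (hfree _ (N.mul_mem (N.inv_mem b.2) a.2) e'')).symm
    obtain ⟨v, hv⟩ := hbij.2 ⟨⁅c, g⁆, hder g c⟩
    have hv' : ⁅(v : G), g⁆ = ⁅c, g⁆ := congrArg Subtype.val hv
    refine ⟨v, v.2, (C n).mul_mem ((C n).inv_mem (mem_C.mpr (hNC v v.2))) hc, mem_C.mpr ?_⟩
    calc (v : G)⁻¹ * c * g = (v : G)⁻¹ * ⁅c, g⁆ * g * c := by simp only [commutatorElement_def]; group
      _ = g * ((v : G)⁻¹ * c) := by rw [← hv']; simp only [commutatorElement_def]; group
  have hDD : ∀ a ∈ D, ∀ b ∈ D, Commute a b := by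
    intro a ha b hb
    have h1 : Commute ⁅a, b⁆ g := by
      have ha' : Commute a g := mem_C.mp ha.2
      have hb' : Commute b g := mem_C.mp hb.2
      rw [commutatorElement_def]
      exact ((ha'.mul_left hb').mul_left ha'.inv_left).mul_left hb'.inv_left
    exact commutatorElement_eq_one_iff_commute.mp (hfree _ (hder b a) h1)
  have hab : ∀ a ∈ C n, ∀ b ∈ C n, Commute a b := by
    intro a ha b hb
    obtain ⟨u, hu, hud⟩ := hdec a ha
    obtain ⟨v, hv, hvd⟩ := hdec b hb
    rw [← mul_inv_cancel_left u a, ← mul_inv_cancel_left v b]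
    exact ((hCN u (mem_C.mpr (hNC u hu)) v hv).mul_right (hCN _ hvd.1 u hu).symm).mul_left
      ((hCN _ hud.1 v hv).mul_right (hDD _ hud _ hvd))
  have hgen : C n ⊔ zpowers g = ⊤ := by
    by_contra hne
    have h1 := relIndex_mul_index (le_sup_left : C n ≤ C n ⊔ zpowers g)
    rcases hp'.eq_one_or_self_of_dvd _ ⟨_, h1.symm⟩ with h2 | h2
    · exact hg (relIndex_eq_one.mp h2 (mem_sup_right (mem_zpowers g)))
    · refine hne (index_eq_one.mp (Nat.eq_of_mul_eq_mul_left hp'.pos ?_))
      rw [mul_one]; rw [h2] at h1; exact h1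
  have hDZ : D = center G := by
    refine le_antisymm (fun d hd => ?_) (fun d hd => ⟨mem_C.mpr ((mem_center_iff.mp hd n).symm),
      mem_C.mpr ((mem_center_iff.mp hd g).symm)⟩)
    have hle : C n ⊔ zpowers g ≤ C d :=
      sup_le (fun c hc => mem_C.mpr (hab c hc d hd.1)) (zpowers_le.mpr (mem_C.mpr (mem_C.mp hd.2).symm))
    rw [hgen] at hle
    exact mem_center_iff.mpr fun k => mem_C.mp (hle (mem_top k))
  have hDidx : D.relIndex (C n) = q := by
    rw [relIndex, index_eq_card, ← hN]
    refine (Nat.card_eq_of_bijective (fun v : N =>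
      ((⟨v, mem_C.mpr (hNC v v.2)⟩ : C n) : C n ⧸ D.subgroupOf (C n))) ⟨?_, ?_⟩).symm
    · intro a b e
      have e' := QuotientGroup.eq.mp e
      rw [mem_subgroupOf] at e'
      exact Subtype.ext (inv_mul_eq_one.mp (hfree _ (N.mul_mem (N.inv_mem a.2) b.2) (mem_C.mp e'.2)))
    · intro c
      induction c using QuotientGroup.induction_on with | H c =>
      obtain ⟨v, hv, hvd⟩ := hdec c c.2
      exact ⟨⟨v, hv⟩, QuotientGroup.eq.mpr (mem_subgroupOf.mpr hvd)⟩
  right
  refine ⟨(C n).index, q, hp', hq, hltq.ne, ?_, fun hcom => ?_⟩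
  · rw [← index_eq_card, ← hDZ, ← relIndex_mul_index (inf_le_left : D ≤ C n), hDidx, mul_comm]
  · have hc := hcom.is_comm.comm (g : G ⧸ center G) (n : G ⧸ center G)
    rw [← QuotientGroup.mk_mul, ← QuotientGroup.mk_mul] at hc
    have hmem : ⁅g, n⁆ ∈ center G := by
      rw [← QuotientGroup.eq_one_iff, commutatorElement_def, QuotientGroup.mk_mul, QuotientGroup.mk_mul,
        QuotientGroup.mk_mul, QuotientGroup.mk_inv, QuotientGroup.mk_inv, ← QuotientGroup.mk_mul, hc,
        QuotientGroup.mk_mul]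
      group
    refine hg (mem_C.mpr (commutatorElement_eq_one_iff_mul_comm.mp (hfree _ (hder n g) ?_)))
    exact (mem_center_iff.mp hmem g).symm

end Cfsg.Agent.S4314
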