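import Cfsg.Statements.S4321
import Cfsg.Agent.H75.Cover
import Cfsg.Agent.H24.Basic
import Cfsg.Agent.PGroups.Basic
import Mathlib

set_option autoImplicit false
open Cfsg

namespace Cfsg.Agent.S4321

open Subgroup
open scoped commutatorElement

variable {G : Type*} [Group G] [Finite G] {p : ℕ} [Fact p.Prime]

/-- Size of the conjugacy class. -/
noncomputable def cidx (g : G) : ℕ := (Subgroup.centralizer ({g} : Set G)).index

omit [Finite G] [Fact p.Prime] in
theorem mem_cent {g x : G} : x ∈ Subgroup.centralizer ({g} : Set G) ↔ x * g = g * x :=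
  Subgroup.mem_centralizer_singleton_iff

omit [Finite G] [Fact p.Prime] in
theorem cidx_conj (g a : G) : cidx (a * g * a⁻¹) = cidx g := by
  have h : (Subgroup.centralizer ({g} : Set G)).map (MulAut.conj a).toMonoidHom =
      Subgroup.centralizer ({a * g * a⁻¹} : Set G) := by
    ext x
    rw [Subgroup.mem_map, mem_cent]
    constructor
    · rintro ⟨y, hy, rfl⟩
      show (a * y * a⁻¹) * (a * g * a⁻¹) = (a * g * a⁻¹) * (a * y * a⁻¹)
      rw [mem_cent] at hy
      calc (a * y * a⁻¹) * (a * g * a⁻¹) = a * (y * g) * a⁻¹ := by group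
        _ = _ := by rw [hy]; group
    · intro hx
      refine ⟨a⁻¹ * x * a, mem_cent.2 ?_, by show a * _ * a⁻¹ = x; group⟩
      calc a⁻¹ * x * a * g = a⁻¹ * (x * (a * g * a⁻¹)) * a := by group
        _ = g * (a⁻¹ * x * a) := by rw [hx]; group
  rw [cidx, cidx, ← h]
  exact Subgroup.index_map_of_bijective (MulAut.conj a).bijective _

omit [Fact p.Prime] in
theorem cidx_dvd {u x : G} (h : ∀ y : G, y * x = x * y → y * u = u * y) : cidx u ∣ cidx x :=
  Subgroup.index_dvd_of_le fun y hy => mem_cent.2 (h y (mem_cent.1 hy))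

omit [Fact p.Prime] in
theorem cidx_pos (g : G) : 0 < cidx g := Nat.pos_of_ne_zero Subgroup.index_ne_zero_of_finite

theorem cidx_ne_one (hZ : ¬ p ∣ Nat.card ↥(Subgroup.center G)) {g : G} (hg : g ≠ 1)
    {k : ℕ} (hk : g ^ p ^ k = 1) : cidx g ≠ 1 := by
  intro h
  apply hZ
  rw [cidx, Subgroup.index_eq_one] at h
  have hc : g ∈ Subgroup.center G := Subgroup.mem_center_iff.2 fun x => mem_cent.1 (h ▸ mem_top x)
  obtain ⟨j, -, hj⟩ := (Nat.dvd_prime_pow Fact.out).1 (orderOf_dvd_of_pow_eq_one hk)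
  have hd : p ∣ orderOf g := by
    rcases Nat.eq_zero_or_pos j with rfl | hjp
    · exact absurd (orderOf_eq_one_iff.1 hj) hg
    · exact hj ▸ dvd_pow_self p hjp.ne'
  exact hd.trans (Subgroup.orderOf_dvd_natCard _ hc)

omit [Fact p.Prime] in
/-- With coprime class sizes, one class is an orbit of the other centralizer. -/
theorem exists_conj_in {a b : G} (h : (cidx a).Coprime (cidx b)) (g : G) :
    ∃ x : G, x * a = a * x ∧ g * b * g⁻¹ = x * b * x⁻¹ := by
  obtain ⟨x, hx, y, hy, rfl⟩ := H24.exists_mul_of_coprime_index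
    (Subgroup.centralizer ({a} : Set G)) (Subgroup.centralizer ({b} : Set G)) h g
  refine ⟨x, mem_cent.1 hx, ?_⟩
  rw [mul_assoc x y b, mem_cent.1 hy]; group

/-- Commuting elements of order dividing `p`, the second with class size prime to `p` and to
the class size of the first: the product shares a prime with the first. -/
theorem not_coprime_mul (hZ : ¬ p ∣ Nat.card ↥(Subgroup.center G)) {a b : G} (ha : a ≠ 1)
    (hap : a ^ p = 1) (hc : a * b = b * a) (hab : (cidx a).Coprime (cidx b))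
    (hb : ¬ p ∣ cidx b) : ¬ (cidx (a * b)).Coprime (cidx a) := by
  classical
  intro hcop
  cases nonempty_fintype G
  -- every conjugate of `b` commutes with `a`
  have hcomm : ∀ g : G, a * (g * b * g⁻¹) = (g * b * g⁻¹) * a := by
    intro g
    obtain ⟨x, hx, e⟩ := exists_conj_in hab g
    rw [e]
    calc a * (x * b * x⁻¹) = (a * x) * b * x⁻¹ := by group
      _ = (x * a) * b * x⁻¹ := by rw [hx]
      _ = x * (b * a) * x⁻¹ := by rw [mul_assoc x a b, hc]
      _ = x * b * (x⁻¹ * (x * a)) * x⁻¹ := by group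
      _ = x * b * x⁻¹ * a := by rw [hx]; group
  -- the class of `b` is stable under the translations `a⁻¹ a^h`
  let S : Finset G := Finset.univ.filter fun y => ∃ g, g * b * g⁻¹ = y
  have hS : S.card = cidx b := by
    have e : MulAction.orbit (ConjAct G) b = ↑S := by
      ext y
      simp only [MulAction.mem_orbit_iff, S, Finset.coe_filter, Finset.mem_univ, true_and,
        Set.mem_ofPred_eq, ConjAct.smul_def]
      exact ⟨fun ⟨g, hg⟩ => ⟨ConjAct.ofConjAct g, hg⟩,
        fun ⟨g, hg⟩ => ⟨ConjAct.toConjAct g, by rwa [ConjAct.ofConjAct_toConjAct]⟩⟩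
    rw [cidx, ← Subgroup.index_comap_of_surjective (Subgroup.centralizer ({b} : Set G))
      (f := (ConjAct.ofConjAct (G := G)).toMonoidHom) ConjAct.ofConjAct.surjective,
      ← show MulAction.stabilizer (ConjAct G) b =
        (Subgroup.centralizer ({b} : Set G)).comap (ConjAct.ofConjAct (G := G)).toMonoidHom from ?_,
      MulAction.index_stabilizer, e, Set.ncard_coe_finset]
    ext g
    rw [MulAction.mem_stabilizer_iff, Subgroup.mem_comap, mem_cent, ConjAct.smul_def,
      mul_inv_eq_iff_eq_mul]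
    rfl
  have hstab : ∀ h : G, ∀ y ∈ S, a⁻¹ * (h * a * h⁻¹) * y ∈ S := by
    intro h y hy
    obtain ⟨g, rfl⟩ := (Finset.mem_filter.1 hy).2
    -- `h (a (h⁻¹ g b g⁻¹ h)) h⁻¹` is a conjugate of `a b`
    obtain ⟨x, hx, e⟩ := exists_conj_in hab (h⁻¹ * g)
    obtain ⟨x', hx', e'⟩ := exists_conj_in (hcop.symm) (h * x)
    refine Finset.mem_filter.2 ⟨Finset.mem_univ _, x', ?_⟩
    have hxa : x * a * x⁻¹ = a := by rw [hx]; group
    have hx'a : x' * a * x'⁻¹ = a := by rw [hx']; group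
    have e2 : (h * x) * (a * b) * (h * x)⁻¹ = (h * a * h⁻¹) * (g * b * g⁻¹) := by
      calc (h * x) * (a * b) * (h * x)⁻¹ = h * ((x * a * x⁻¹) * (x * b * x⁻¹)) * h⁻¹ := by group
        _ = _ := by rw [hxa, ← e]; group
    rw [e2, show x' * (a * b) * x'⁻¹ = (x' * a * x'⁻¹) * (x' * b * x'⁻¹) by group, hx'a] at e'
    rw [mul_assoc a⁻¹, e', inv_mul_cancel_left]
  -- each such translation is trivial
  have hcen : ∀ h : G, h * a * h⁻¹ = a := by
    intro h
    set c := a⁻¹ * (h * a * h⁻¹) with hc'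
    have hca : c * a = a * c := by
      obtain ⟨y, hy⟩ : ∃ y, y ∈ S := ⟨b, Finset.mem_filter.2 ⟨Finset.mem_univ _, 1, by simp⟩⟩
      obtain ⟨g, hg⟩ := (Finset.mem_filter.1 (hstab h y hy)).2
      obtain ⟨g', hg'⟩ := (Finset.mem_filter.1 hy).2
      have h1 := hcomm g
      rw [hg] at h1
      have h2 := hcomm g'
      rw [hg'] at h2
      apply mul_right_cancel (b := y)
      calc c * a * y = c * y * a := by rw [mul_assoc, h2, ← mul_assoc]
        _ = a * (c * y) := h1.symm
        _ = a * c * y := by group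
    have hcp : c ^ p = 1 := by
      have hh : Commute a⁻¹ (h * a * h⁻¹) := by
        have : Commute a (h * a * h⁻¹) := by
          show a * (h * a * h⁻¹) = (h * a * h⁻¹) * a
          rw [show h * a * h⁻¹ = a * c by rw [hc']; group]
          rw [mul_assoc a c a, hca]
        exact this.inv_left
      rw [hc', hh.mul_pow, inv_pow, hap, conj_pow, hap]
      simp
    let D : Subgroup G := Subgroup.zpowers c
    have hDS : ∀ d ∈ D, ∀ y ∈ S, d * y ∈ S := by
      intro d hd y hy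
      obtain ⟨i, rfl⟩ := (Submonoid.mem_powers_iff _ _).1 (mem_powers_iff_mem_zpowers.2 hd)
      clear hd
      induction i with
      | zero => simpa using hy
      | succ i ih => rw [pow_succ', mul_assoc]; exact hstab h _ ih
    let act : MulAction D S :=
      { smul := fun d y => ⟨(d : G) * y, hDS d d.2 y y.2⟩
        one_smul := fun y => Subtype.ext (one_mul _)
        mul_smul := fun d d' y => Subtype.ext (mul_assoc _ _ _) }
    letI := act
    have hfree : ∀ y : S, MulAction.stabilizer D y = ⊥ := fun y => by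
      rw [Subgroup.eq_bot_iff_forall]
      intro d hd
      have := congrArg Subtype.val (MulAction.mem_stabilizer_iff.1 hd)
      exact Subtype.ext (mul_eq_right.1 this)
    have hdvd : Nat.card D ∣ Nat.card S := by
      refine Nat.card_congr (MulAction.selfEquivSigmaOrbits D S) ▸ ?_
      rw [Nat.card_sigma]
      refine Finset.dvd_sum fun q _ => ?_
      rw [Nat.card_congr (MulAction.orbitEquivQuotientStabilizer D q.out), ← Subgroup.index_eq_card,
        hfree, Subgroup.index_bot]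
    rw [Nat.card_eq_fintype_card (α := S), Fintype.card_coe, hS, Nat.card_zpowers] at hdvd
    have h1 : orderOf c = 1 := by
      rcases (Nat.dvd_prime Fact.out).1 (orderOf_dvd_of_pow_eq_one hcp) with e | e
      · exact e
      · exact absurd (e ▸ hdvd) hb
    have h2 := orderOf_eq_one_iff.1 h1
    rw [hc', inv_mul_eq_one] at h2
    exact h2.symm
  apply cidx_ne_one hZ ha (k := 1) (by rwa [pow_one])
  rw [cidx, Subgroup.index_eq_one, Subgroup.eq_top_iff']
  exact fun h => mem_cent.2 (mul_inv_eq_iff_eq_mul.1 (hcen h))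

theorem mem_sylow_normalCore_comm {y w : G} (S : Sylow p G)
    (hS : ∀ z ∈ (S : Subgroup G), z * y = y * z) (P : Sylow p G)
    (hw : w ∈ (P : Subgroup G).normalCore) : w * y = y * w := by
  obtain ⟨g, hg⟩ := MulAction.exists_smul_eq G P S
  refine hS w ?_
  rw [← hg, Sylow.coe_subgroup_smul]
  exact ⟨g⁻¹ * w * g⁻¹⁻¹, hw g⁻¹, show g * (g⁻¹ * w * g⁻¹⁻¹) * g⁻¹ = w by group⟩

/-- If some `p`-element has class size divisible by `p` and `w` is nontrivial and central in a
Sylow subgroup, some `p`-singular class size is divisible by `p` and by a prime of `w`'s. -/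
theorem exists_linked (hZ : ¬ p ∣ Nat.card ↥(Subgroup.center G)) (P : Sylow p G) {w u : G}
    (hwP : w ∈ (P : Subgroup G)) (hwc : ∀ z ∈ (P : Subgroup G), z * w = w * z) (hw1 : w ≠ 1)
    (huP : u ∈ (P : Subgroup G)) (hup : p ∣ cidx u) :
    ∃ x : G, p ∣ orderOf x ∧ p ∣ cidx x ∧ ¬ (cidx x).Coprime (cidx w) := by
  classical
  by_contra hN
  push Not at hN
  have hp : p.Prime := Fact.out
  have hpcard : ∀ y ∈ (P : Subgroup G), ∃ k, y ^ p ^ k = 1 := fun y hy => by
    obtain ⟨k, hk⟩ := P.2 ⟨y, hy⟩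
    exact ⟨k, by simpa using congrArg Subtype.val hk⟩
  have hord : ∀ y : G, (∃ k, y ^ p ^ k = 1) → y ≠ 1 → p ∣ orderOf y := by
    rintro y ⟨k, hk⟩ hy
    obtain ⟨j, -, hj⟩ := (Nat.dvd_prime_pow hp).1 (orderOf_dvd_of_pow_eq_one hk)
    rcases Nat.eq_zero_or_pos j with rfl | hjp
    · exact absurd (orderOf_eq_one_iff.1 hj) hy
    · exact hj ▸ dvd_pow_self p hjp.ne'
  -- a Sylow subgroup inside the centralizer when `p` does not divide the class size
  have hsyl : ∀ y : G, ¬ p ∣ cidx y → ∃ S : Sylow p G, ∀ z ∈ (S : Subgroup G), z * y = y * z := by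
    intro y hy
    obtain ⟨T⟩ : Nonempty (Sylow p (Subgroup.centralizer ({y} : Set G))) := inferInstance
    have hT : ¬ p ∣ ((T : Subgroup _).map (Subgroup.centralizer ({y} : Set G)).subtype).index := by
      rw [Subgroup.index_map_subtype]
      exact hp.not_dvd_mul T.not_dvd_index hy
    refine ⟨(IsPGroup.map T.2 _).toSylow hT, fun z hz => ?_⟩
    obtain ⟨⟨z', hz'⟩, -, rfl⟩ := hz
    exact mem_cent.1 hz'
  set H := Subgroup.centralizer ({w} : Set G) with hH
  have hPH : (P : Subgroup G) ≤ H := fun z hz => mem_cent.2 (hwc z hz)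
  have hwnp : ¬ p ∣ cidx w := fun h =>
    P.not_dvd_index (h.trans (Subgroup.index_dvd_of_le hPH))
  -- the centralizer of `w` is `P` times a centralizer of `P`
  have hcover : ∀ h ∈ H, ∃ a ∈ (P : Subgroup G),
      ∃ r, (∀ z ∈ (P : Subgroup G), z * r = r * z) ∧ h = a * r := by
    let PH : Sylow p H := P.subtype hPH
    let CP : Subgroup H := Subgroup.centralizer ((PH : Subgroup H) : Set H)
    have hCP : CP ≤ Subgroup.normalizer ((PH : Subgroup H) : Set H) :=
      Subgroup.centralizer_le_normalizer _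
    have htop : (PH : Subgroup H) ⊔ CP = ⊤ := by
      refine H75.eq_top_of_conj_cover _ fun h => ?_
      -- split `h` into commuting parts
      obtain ⟨e, m, hm, he⟩ := Nat.exists_eq_pow_mul_and_not_dvd (orderOf_pos h).ne' p hp.ne_one
      have hco : (p ^ e).Coprime m := (hp.coprime_iff_not_dvd.mpr hm).pow_left e
      obtain ⟨k, hk1, hk0⟩ := Nat.chineseRemainder hco 1 0
      obtain ⟨l, hl0, hl1⟩ := Nat.chineseRemainder hco 0 1
      have ha : (h ^ k) ^ p ^ e = 1 := by
        rw [← pow_mul, ← orderOf_dvd_iff_pow_eq_one, he, mul_comm k]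
        exact Nat.mul_dvd_mul_left _ (Nat.modEq_zero_iff_dvd.mp hk0)
      have hb : (h ^ l) ^ m = 1 := by
        rw [← pow_mul, ← orderOf_dvd_iff_pow_eq_one, he]
        exact Nat.mul_dvd_mul_right (Nat.modEq_zero_iff_dvd.mp hl0) _
      have hab : h ^ k * h ^ l = h := by
        rw [← pow_add]
        conv_rhs => rw [← pow_one h]
        rw [pow_eq_pow_iff_modEq, he, Nat.ModEq, ← Nat.ModEq, ← Nat.modEq_and_modEq_iff_modEq_mul hco]
        exact ⟨by simpa using hk1.add hl0, by simpa using hk0.add hl1⟩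
      set a := h ^ k with ha'
      set b := h ^ l with hb'
      have hcomm : Commute a b := (Commute.refl h).pow_pow k l
      -- the product of `w` with the part of order prime to `p`
      have hbw : Commute (b : G) w := mem_cent.1 b.2
      have hbcop : (orderOf w).Coprime (orderOf (b : G)) := by
        obtain ⟨j, hj⟩ := hpcard w hwP
        refine Nat.Coprime.coprime_dvd_left (orderOf_dvd_of_pow_eq_one hj)
          (Nat.Coprime.coprime_dvd_right ?_ ((hp.coprime_iff_not_dvd.mpr hm).pow_left j))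
        rw [Subgroup.orderOf_coe]
        exact orderOf_dvd_of_pow_eq_one hb
      have hox : p ∣ orderOf (w * b) := by
        rw [(hbw.symm).orderOf_mul_eq_mul_orderOf_of_coprime hbcop]
        exact (hord w (hpcard w hwP) hw1).mul_right _
      have hcx : ∀ y : G, y * (w * b) = (w * b) * y → y * w = w * y ∧ y * (b : G) = b * y := by
        intro y hy
        obtain ⟨j, hj0, hj1⟩ := Nat.chineseRemainder hbcop 1 0
        have e1 : (w * (b : G)) ^ j = w := by
          rw [hbw.symm.mul_pow, pow_eq_pow_mod j (pow_orderOf_eq_one (b : G)),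
            Nat.modEq_zero_iff_dvd.mp hj1 |> Nat.mod_eq_zero_of_dvd, pow_zero, mul_one,
            pow_eq_pow_iff_modEq.2 (show j ≡ 1 [MOD orderOf w] from hj0), pow_one]
        have hyw : y * w = w * y := by
          rw [← e1]
          exact (Commute.pow_right (show Commute y (w * b) from hy) j)
        refine ⟨hyw, mul_left_cancel (a := w) ?_⟩
        calc w * (y * b) = y * (w * b) := by rw [← mul_assoc, ← hyw, mul_assoc]
          _ = (w * b) * y := hy
          _ = w * (b * y) := mul_assoc _ _ _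
      have hwx : cidx w ∣ cidx (w * b) := cidx_dvd fun y hy => (hcx y hy).1
      have hpx : ¬ p ∣ cidx (w * b) := by
        intro hd
        have := hN _ hox hd
        exact cidx_ne_one hZ hw1 (hpcard w hwP).choose_spec
          (Nat.Coprime.eq_one_of_dvd this.symm hwx)
      obtain ⟨S, hS⟩ := hsyl _ hpx
      have hSH : (S : Subgroup G) ≤ H := fun z hz => mem_cent.2 (hcx z (hS z hz)).1
      -- Sylow subgroup of the centralizer of `b` in `H` containing `a`
      let C : Subgroup H := Subgroup.centralizer ({b} : Set H)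
      let A : Subgroup C := Subgroup.zpowers ⟨a, mem_cent.2 hcomm⟩
      have hA : IsPGroup p A := by
        obtain ⟨j, -, hj⟩ := (Nat.dvd_prime_pow hp).1 (orderOf_dvd_of_pow_eq_one ha)
        exact IsPGroup.of_card (n := j) (by rw [Nat.card_zpowers, Subgroup.orderOf_mk, hj])
      obtain ⟨T, hT⟩ := hA.exists_le_sylow
      let T' : Subgroup H := (T : Subgroup C).map C.subtype
      have hSC : (S.subtype hSH : Subgroup H) ≤ C := fun z hz =>
        mem_cent.2 (Subtype.ext (hcx (z : G) (hS z hz)).2)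
      have hTidx : ¬ p ∣ T'.index := by
        rw [Subgroup.index_map_subtype]
        exact hp.not_dvd_mul T.not_dvd_index fun hd =>
          (S.subtype hSH).not_dvd_index (hd.trans (Subgroup.index_dvd_of_le hSC))
      obtain ⟨g, hg⟩ := MulAction.exists_smul_eq H ((IsPGroup.map T.2 C.subtype).toSylow hTidx) PH
      refine ⟨g, ?_⟩
      have hmem : ∀ z : H, z ∈ T' → g * z * g⁻¹ ∈ (PH : Subgroup H) := by
        intro z hz
        rw [← hg, Sylow.coe_subgroup_smul]
        exact ⟨z, hz, rfl⟩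
      rw [← hab, show g * (a * b) * g⁻¹ = (g * a * g⁻¹) * (g * b * g⁻¹) by group]
      refine mul_mem (Subgroup.mem_sup_left (hmem a ⟨_, hT (Subgroup.mem_zpowers _), rfl⟩))
        (Subgroup.mem_sup_right (Subgroup.mem_centralizer_iff.2 fun z hz => ?_))
      rw [← hg, Sylow.coe_subgroup_smul] at hz
      obtain ⟨z', hz', rfl⟩ := hz
      obtain ⟨z'', -, rfl⟩ := hz'
      show (g * (z'' : H) * g⁻¹) * (g * b * g⁻¹) = (g * b * g⁻¹) * (g * z'' * g⁻¹)
      calc (g * (z'' : H) * g⁻¹) * (g * b * g⁻¹) = g * ((z'' : H) * b) * g⁻¹ := by group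
        _ = _ := by rw [mem_cent.1 z''.2]; group
    intro h hh
    obtain ⟨a, ha, r, hr, e⟩ : ∃ a ∈ (PH : Subgroup H), ∃ r ∈ CP, (⟨h, hh⟩ : H) = a * r := by
      have := Subgroup.coe_mul_of_right_le_normalizer_left _ _ hCP
      rw [htop, Subgroup.coe_top] at this
      obtain ⟨a, ha, r, hr, e⟩ := Set.mem_mul.1 (this ▸ Set.mem_univ (⟨h, hh⟩ : H))
      exact ⟨a, ha, r, hr, e.symm⟩
    exact ⟨a, ha, r, fun z hz => congrArg Subtype.val
      (Subgroup.mem_centralizer_iff.1 hr ⟨z, hPH hz⟩ hz), congrArg Subtype.val e⟩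
  -- classes of non-central-in-Sylow `p`-elements of `P` are `P`-orbits
  have horb : ∀ y ∈ (P : Subgroup G), p ∣ cidx y →
      ∀ g : G, ∃ t ∈ (P : Subgroup G), g * y * g⁻¹ = t * y * t⁻¹ := by
    intro y hy hpy g
    have hy1 : y ≠ 1 := by
      rintro rfl
      have h1 : cidx (1 : G) = 1 := by
        rw [cidx, Subgroup.index_eq_one, Subgroup.eq_top_iff']
        exact fun h => mem_cent.2 (by simp)
      rw [h1] at hpy
      exact hp.one_lt.not_ge (Nat.le_of_dvd Nat.one_pos hpy)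
    obtain ⟨x, hx, e⟩ := exists_conj_in (hN y (hord y (hpcard y hy) hy1) hpy).symm g
    obtain ⟨t, ht, r, hr, rfl⟩ := hcover x (mem_cent.2 hx)
    refine ⟨t, ht, e.trans ?_⟩
    rw [show t * r * y * (t * r)⁻¹ = t * (r * y) * r⁻¹ * t⁻¹ by group, ← hr y hy]
    group
  set O := (P : Subgroup G).normalCore with hO
  have hOP : O ≤ (P : Subgroup G) := Subgroup.normalCore_le _
  haveI : O.Normal := Subgroup.normalCore_normal _
  have hin : ∀ y ∈ (P : Subgroup G), p ∣ cidx y → y ∈ O := fun y hy hpy g => by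
    obtain ⟨t, ht, e⟩ := horb y hy hpy g
    rw [e]
    exact mul_mem (mul_mem ht hy) (inv_mem ht)
  have hcen : ∀ y : G, ¬ p ∣ cidx y → ∀ v ∈ O, v * y = y * v := by
    intro y hy v hv
    obtain ⟨S, hS⟩ := hsyl y hy
    exact mem_sylow_normalCore_comm S hS P hv
  have huO : u ∈ O := hin u huP hup
  -- the core is non-abelian
  obtain ⟨y₀, hy₀, hy₀u⟩ : ∃ y₀ ∈ O, y₀ * u ≠ u * y₀ := by
    by_contra hab
    push Not at hab
    refine (show ¬ p ∣ cidx u from fun h => P.not_dvd_index (h.trans ?_)) hup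
    refine Subgroup.index_dvd_of_le fun z hz => mem_cent.2 ?_
    by_cases hzp : p ∣ cidx z
    · exact hab z (hin z hz hzp)
    · exact (hcen z hzp u huO).symm
  -- a coset of `Z(O)` fixed by `G`
  let Z : Subgroup G := O ⊓ Subgroup.centralizer (O : Set G)
  haveI : Z.Normal := Subgroup.normal_inf_normal _ _
  have hmemZ : ∀ v : G, v ∈ Z ↔ v ∈ O ∧ ∀ y ∈ O, y * v = v * y := fun v => by
    rw [Subgroup.mem_inf, Subgroup.mem_centralizer_iff]; rfl
  obtain ⟨v, hvO, hvZ, hvfix⟩ : ∃ v ∈ O, v ∉ Z ∧ ∀ t ∈ (P : Subgroup G), v⁻¹ * (t * v * t⁻¹) ∈ Z := by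
    let θ := QuotientGroup.mk' Z
    let A : Subgroup ((P : Subgroup G).map θ : Subgroup (G ⧸ Z)) := (O.map θ).subgroupOf ((P : Subgroup G).map θ)
    haveI : A.Normal := (Subgroup.Normal.map inferInstance θ (QuotientGroup.mk'_surjective Z)).subgroupOf _
    have hne : A ≠ ⊥ := by
      intro h
      have : θ u ∈ (⊥ : Subgroup (G ⧸ Z)) := by
        have h1 : (⟨θ u, Subgroup.mem_map_of_mem θ huP⟩ : (P : Subgroup G).map θ) ∈ A :=
          Subgroup.mem_map_of_mem θ huO
        rw [h, Subgroup.mem_bot] at h1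
        exact Subgroup.mem_bot.2 (congrArg Subtype.val h1)
      rw [Subgroup.mem_bot, QuotientGroup.mk'_apply, QuotientGroup.eq_one_iff] at this
      exact hy₀u (((hmemZ u).1 this).2 y₀ hy₀)
    haveI : Group.IsNilpotent ((P : Subgroup G).map θ) := (P.2.map θ).isNilpotent
    obtain ⟨⟨⟨q, hqP⟩, hqA⟩, hqne⟩ := Subgroup.ne_bot_iff_exists_ne_one.1
      (Cfsg.Agent.PGroups.inf_center_ne_bot (P.2.map θ) A hne)
    obtain ⟨v, hvO, rfl⟩ := hqA.1
    refine ⟨v, hvO, fun h => hqne (Subtype.ext (Subtype.ext ((QuotientGroup.eq_one_iff v).2 h))), fun t ht => ?_⟩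
    have h1 : θ t * θ v = θ v * θ t := congrArg Subtype.val
      (Subgroup.mem_center_iff.1 hqA.2 ⟨θ t, Subgroup.mem_map_of_mem θ ht⟩)
    rw [← QuotientGroup.eq_one_iff]
    show θ (v⁻¹ * (t * v * t⁻¹)) = 1
    simp only [map_mul, map_inv]
    rw [h1]
    group
  have hnonc : ∀ v ∈ O, v ∉ Z → p ∣ cidx v := fun v hv hvZ => by
    by_contra h
    exact hvZ ((hmemZ v).2 ⟨hv, fun y hy => hcen v h y hy⟩)
  have hvG : ∀ g : G, v⁻¹ * (g * v * g⁻¹) ∈ Z := fun g => by
    obtain ⟨t, ht, e⟩ := horb v (hOP hvO) (hnonc v hvO hvZ) g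
    rw [e]; exact hvfix t ht
  -- commutation with `v` is equivariant
  have hequiv : ∀ g : G, ∀ y ∈ O, g * ⁅v, y⁆ * g⁻¹ = ⁅v, g * y * g⁻¹⁆ := by
    intro g y hy
    obtain ⟨z, hz, e⟩ : ∃ z ∈ Z, g * v * g⁻¹ = v * z := ⟨_, hvG g, by group⟩
    have hy' : g * y * g⁻¹ ∈ O := Subgroup.Normal.conj_mem inferInstance y hy g
    set y' := g * y * g⁻¹
    have hzy : z * y' * z⁻¹ = y' := by rw [← ((hmemZ z).1 hz).2 y' hy']; group
    calc g * ⁅v, y⁆ * g⁻¹ = ⁅g * v * g⁻¹, y'⁆ := by
          simp only [commutatorElement_def, y']; group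
      _ = v * (z * y' * z⁻¹) * v⁻¹ * y'⁻¹ := by rw [e, commutatorElement_def]; group
      _ = ⁅v, y'⁆ := by rw [hzy, commutatorElement_def]
  have hvy : ∀ y ∈ O, ⁅v, y⁆ ∈ Z := by
    intro y hy
    have := Z.inv_mem (Subgroup.Normal.conj_mem inferInstance _ (hvG y) v)
    convert this using 1
    rw [commutatorElement_def]
    group
  have hhom : ∀ y₁ ∈ O, ∀ y₂ ∈ O, ⁅v, y₁ * y₂⁆ = ⁅v, y₁⁆ * ⁅v, y₂⁆ := by
    intro y₁ h₁ y₂ h₂
    have e : y₁ * ⁅v, y₂⁆ * y₁⁻¹ = ⁅v, y₂⁆ := by
      rw [((hmemZ _).1 (hvy y₂ h₂)).2 y₁ h₁]; group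
    calc ⁅v, y₁ * y₂⁆ = ⁅v, y₁⁆ * (y₁ * ⁅v, y₂⁆ * y₁⁻¹) := by
          simp only [commutatorElement_def]; group
      _ = _ := by rw [e]
  let φ : O →* G :=
    { toFun := fun y => ⁅v, (y : G)⁆
      map_one' := by simp [commutatorElement_def]
      map_mul' := fun y₁ y₂ => hhom _ y₁.2 _ y₂.2 }
  let I : Subgroup G := φ.range
  have hIZ : I ≤ Z := by rintro _ ⟨y, rfl⟩; exact hvy y y.2
  haveI : I.Normal := ⟨by
    rintro _ ⟨y, rfl⟩ g
    exact ⟨⟨g * y * g⁻¹, Subgroup.Normal.conj_mem inferInstance _ y.2 g⟩, (hequiv g y y.2).symm⟩⟩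
  have hIne : I.subgroupOf (P : Subgroup G) ≠ ⊥ := by
    intro h
    refine hvZ ((hmemZ v).2 ⟨hvO, fun y hy => ?_⟩)
    have h1 : (⟨⁅v, y⁆, hOP (hIZ ⟨⟨y, hy⟩, rfl⟩).1⟩ : (P : Subgroup G)) ∈ I.subgroupOf (P : Subgroup G) :=
      ⟨⟨y, hy⟩, rfl⟩
    rw [h, Subgroup.mem_bot] at h1
    exact (commutatorElement_eq_one_iff_mul_comm.1 (congrArg Subtype.val h1)).symm
  haveI : Group.IsNilpotent (P : Subgroup G) := P.2.isNilpotent
  obtain ⟨⟨i, hi⟩, hi1⟩ := Subgroup.ne_bot_iff_exists_ne_one.1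
    (Cfsg.Agent.PGroups.inf_center_ne_bot P.2 (I.subgroupOf (P : Subgroup G)) hIne)
  obtain ⟨⟨y, hyO⟩, hy⟩ := hi.1
  have hiv : (i : G) = ⁅v, y⁆ := hy.symm
  have hi1' : (i : G) ≠ 1 := fun e => hi1 (Subtype.ext (Subtype.ext e))
  have hy1 : p ∣ cidx y := by
    refine hnonc y hyO fun h => hi1' ?_
    rw [hiv, commutatorElement_eq_one_iff_mul_comm]
    exact ((hmemZ y).1 h).2 v hvO
  refine cidx_ne_one hZ hi1' (hpcard i i.2).choose_spec ?_
  rw [cidx, Subgroup.index_eq_one, Subgroup.eq_top_iff']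
  intro g
  rw [mem_cent, hiv]
  obtain ⟨t, ht, e⟩ := horb y (hOP hyO) hy1 g
  have h1 := hequiv g y hyO
  rw [e, ← hequiv t y hyO, ← hiv] at h1
  have h2 : t * (i : G) * t⁻¹ = i := by
    rw [show t * (i : G) = i * t from congrArg Subtype.val (Subgroup.mem_center_iff.1 hi.2 ⟨t, ht⟩)]
    group
  rw [h2] at h1
  rw [← hiv]
  exact mul_inv_eq_iff_eq_mul.1 h1

/-- Equal or adjacent. -/
def Rel (p : ℕ) (G : Type*) [Group G] (a b : ℕ) : Prop :=
  a = b ∨ ∃ x : G, p ∣ orderOf x ∧ a * b ∣ (Subgroup.centralizer ({x} : Set G)).index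

omit [Finite G] in
theorem rel_of {x : G} {a b : ℕ} (hx : p ∣ orderOf x) (ha : a.Prime) (hb : b.Prime)
    (h1 : a ∣ cidx x) (h2 : b ∣ cidx x) : Rel p G a b := by
  by_cases h : a = b
  · exact Or.inl h
  · exact Or.inr ⟨x, hx, ((Nat.coprime_primes ha hb).2 h).mul_dvd_of_dvd_of_dvd h1 h2⟩

omit [Finite G] [Fact p.Prime] in
theorem Rel.symm {a b : ℕ} (h : Rel p G a b) : Rel p G b a := by
  rcases h with h | ⟨x, h1, h2⟩
  · exact Or.inl h.symm
  · exact Or.inr ⟨x, h1, mul_comm a b ▸ h2⟩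

/-- Let `G` be a finite group and `p` a prime not dividing the order of the centre of `G`. Consider the primes dividing the size of some conjugacy class of a `p`-singular element (an element of order divisible by `p`), two of them adjacent when their product divides such a class size. Then any two distinct such primes are joined by a path with at most 3 edges (the graph is connected of diameter at most 3). -/
theorem result {G : Type*} [Group G] [Finite G] (p : ℕ) [Fact p.Prime]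
    (hZ : ¬ p ∣ Nat.card ↥(Subgroup.center G)) (r s : ℕ) (hr : (r.Prime ∧ ∃ x : G, p ∣ orderOf x ∧ r ∣ (Subgroup.centralizer ({x} : Set G)).index)) (hs : (s.Prime ∧ ∃ x : G, p ∣ orderOf x ∧ s ∣ (Subgroup.centralizer ({x} : Set G)).index)) (hrs : r ≠ s) :
    (∃ x : G, p ∣ orderOf x ∧ r * s ∣ (Subgroup.centralizer ({x} : Set G)).index) ∨ (∃ t : ℕ, (t.Prime ∧ ∃ x : G, p ∣ orderOf x ∧ t ∣ (Subgroup.centralizer ({x} : Set G)).index) ∧ t ≠ r ∧ t ≠ s ∧ (∃ x : G, p ∣ orderOf x ∧ r * t ∣ (Subgroup.centralizer ({x} : Set G)).index) ∧ (∃ x : G, p ∣ orderOf x ∧ t * s ∣ (Subgroup.centralizer ({x} : Set G)).index)) ∨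
      (∃ t u : ℕ, (t.Prime ∧ ∃ x : G, p ∣ orderOf x ∧ t ∣ (Subgroup.centralizer ({x} : Set G)).index) ∧ (u.Prime ∧ ∃ x : G, p ∣ orderOf x ∧ u ∣ (Subgroup.centralizer ({x} : Set G)).index) ∧ t ≠ r ∧ u ≠ s ∧ t ≠ u ∧ (∃ x : G, p ∣ orderOf x ∧ r * t ∣ (Subgroup.centralizer ({x} : Set G)).index) ∧ (∃ x : G, p ∣ orderOf x ∧ t * u ∣ (Subgroup.centralizer ({x} : Set G)).index) ∧ (∃ x : G, p ∣ orderOf x ∧ u * s ∣ (Subgroup.centralizer ({x} : Set G)).index)) := by
  classical
  have hp : p.Prime := Fact.out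
  obtain ⟨hrp, xr, hxr, hrx⟩ := hr
  obtain ⟨hsp, xs, hxs, hsx⟩ := hs
  -- powers of order `p`
  have hpow : ∀ x : G, p ∣ orderOf x → ∃ u : G, orderOf u = p ∧ cidx u ∣ cidx x := by
    intro x hx
    refine ⟨x ^ (orderOf x / p), orderOf_pow_orderOf_div (orderOf_pos x).ne' hx, cidx_dvd fun y hy => ?_⟩
    exact Commute.pow_right (show Commute y x from hy) _
  obtain ⟨u, hu, hux⟩ := hpow xr hxr
  obtain ⟨w, hw, hwx⟩ := hpow xs hxs
  -- conversion to the required statement
  have hfin2 : ∀ t, t.Prime → Rel p G r t → Rel p G t s →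
      (∃ x : G, p ∣ orderOf x ∧ r * s ∣ (Subgroup.centralizer ({x} : Set G)).index) ∨
      (∃ t : ℕ, (t.Prime ∧ ∃ x : G, p ∣ orderOf x ∧ t ∣ (Subgroup.centralizer ({x} : Set G)).index) ∧
        t ≠ r ∧ t ≠ s ∧
        (∃ x : G, p ∣ orderOf x ∧ r * t ∣ (Subgroup.centralizer ({x} : Set G)).index) ∧
        (∃ x : G, p ∣ orderOf x ∧ t * s ∣ (Subgroup.centralizer ({x} : Set G)).index)) := by
    intro t ht h1 h2
    rcases h1 with rfl | h1
    · rcases h2 with rfl | h2
      · exact absurd rfl hrs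
      · exact Or.inl h2
    rcases h2 with rfl | h2
    · exact Or.inl h1
    by_cases htr : t = r
    · exact Or.inl (htr ▸ h2)
    by_cases hts : t = s
    · exact Or.inl (hts ▸ h1)
    exact Or.inr ⟨t, ⟨ht, h1.choose, h1.choose_spec.1,
      dvd_trans (dvd_mul_left t r) h1.choose_spec.2⟩, htr, hts, h1, h2⟩
  have hfin3 : ∀ t v, t.Prime → v.Prime → Rel p G r t → Rel p G t v → Rel p G v s →
      (∃ x : G, p ∣ orderOf x ∧ r * s ∣ (Subgroup.centralizer ({x} : Set G)).index) ∨ (∃ t : ℕ, (t.Prime ∧ ∃ x : G, p ∣ orderOf x ∧ t ∣ (Subgroup.centralizer ({x} : Set G)).index) ∧ t ≠ r ∧ t ≠ s ∧ (∃ x : G, p ∣ orderOf x ∧ r * t ∣ (Subgroup.centralizer ({x} : Set G)).index) ∧ (∃ x : G, p ∣ orderOf x ∧ t * s ∣ (Subgroup.centralizer ({x} : Set G)).index)) ∨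
      (∃ t u : ℕ, (t.Prime ∧ ∃ x : G, p ∣ orderOf x ∧ t ∣ (Subgroup.centralizer ({x} : Set G)).index) ∧ (u.Prime ∧ ∃ x : G, p ∣ orderOf x ∧ u ∣ (Subgroup.centralizer ({x} : Set G)).index) ∧ t ≠ r ∧ u ≠ s ∧ t ≠ u ∧ (∃ x : G, p ∣ orderOf x ∧ r * t ∣ (Subgroup.centralizer ({x} : Set G)).index) ∧ (∃ x : G, p ∣ orderOf x ∧ t * u ∣ (Subgroup.centralizer ({x} : Set G)).index) ∧ (∃ x : G, p ∣ orderOf x ∧ u * s ∣ (Subgroup.centralizer ({x} : Set G)).index)) := by
    intro t v ht hv h1 h2 h3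
    by_cases htr : t = r
    · exact (hfin2 v hv (htr ▸ h2) h3).imp_right Or.inl
    by_cases hvs : v = s
    · exact (hfin2 t ht h1 (hvs ▸ h2)).imp_right Or.inl
    by_cases htv : t = v
    · exact (hfin2 t ht h1 (htv ▸ h3)).imp_right Or.inl
    rcases h1 with e | h1
    · exact absurd e.symm htr
    rcases h2 with e | h2
    · exact absurd e htv
    rcases h3 with e | h3
    · exact absurd e hvs
    exact Or.inr (Or.inr ⟨t, v, ⟨ht, h1.choose, h1.choose_spec.1,
      dvd_trans (dvd_mul_left t r) h1.choose_spec.2⟩,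
      ⟨hv, h3.choose, h3.choose_spec.1, dvd_trans (dvd_mul_right v s) h3.choose_spec.2⟩,
      htr, hvs, htv, h1, h2, h3⟩)
  have hru : ∀ t, t.Prime → t ∣ cidx u → Rel p G r t := fun t ht h =>
    rel_of hxr hrp ht hrx (h.trans hux)
  have hsw : ∀ t, t.Prime → t ∣ cidx w → Rel p G t s := fun t ht h =>
    rel_of hxs ht hsp (h.trans hwx) hsx
  have hu1 : u ≠ 1 := by rintro rfl; rw [orderOf_one] at hu; exact hp.one_lt.ne hu
  have hw1 : w ≠ 1 := by rintro rfl; rw [orderOf_one] at hw; exact hp.one_lt.ne hw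
  -- an element whose class size is prime to `p` lies in the centre of a Sylow subgroup
  have hcent : ∀ y : G, orderOf y = p → ¬ p ∣ cidx y →
      ∃ P : Sylow p G, y ∈ (P : Subgroup G) ∧ ∀ z ∈ (P : Subgroup G), z * y = y * z := by
    intro y hy hyp
    let C := Subgroup.centralizer ({y} : Set G)
    have hA : IsPGroup p (Subgroup.zpowers (⟨y, mem_cent.2 rfl⟩ : C)) :=
      IsPGroup.of_card (n := 1) (by rw [Nat.card_zpowers, Subgroup.orderOf_mk, hy, pow_one])
    obtain ⟨T, hT⟩ := hA.exists_le_sylow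
    have hidx : ¬ p ∣ ((T : Subgroup C).map C.subtype).index := by
      rw [Subgroup.index_map_subtype]
      exact hp.not_dvd_mul T.not_dvd_index hyp
    refine ⟨(IsPGroup.map T.2 _).toSylow hidx, ⟨_, hT (Subgroup.mem_zpowers _), rfl⟩, fun z hz => ?_⟩
    obtain ⟨⟨z', hz'⟩, -, rfl⟩ := hz
    exact mem_cent.1 hz'
  have hconjP : ∀ y : G, orderOf y = p → ∀ P : Sylow p G, ∃ g : G, g * y * g⁻¹ ∈ (P : Subgroup G) := by
    intro y hy P
    have hA : IsPGroup p (Subgroup.zpowers y) :=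
      IsPGroup.of_card (n := 1) (by rw [Nat.card_zpowers, hy, pow_one])
    obtain ⟨Q, hQ⟩ := hA.exists_le_sylow
    obtain ⟨g, hg⟩ := MulAction.exists_smul_eq G Q P
    refine ⟨g, ?_⟩
    rw [← hg, Sylow.coe_subgroup_smul]
    exact ⟨y, hQ (Subgroup.mem_zpowers y), rfl⟩
  by_cases hup : p ∣ cidx u
  · by_cases hwp : p ∣ cidx w
    · exact (hfin2 p hp (hru p hp hup) (hsw p hp hwp)).imp_right Or.inl
    · obtain ⟨P, hwP, hwc⟩ := hcent w hw hwp
      obtain ⟨g, hg⟩ := hconjP u hu P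
      obtain ⟨x, hx, hpx, hxw⟩ := exists_linked hZ P hwP hwc hw1 hg (by rwa [cidx_conj])
      obtain ⟨t, ht, ht1, ht2⟩ := Nat.Prime.not_coprime_iff_dvd.1 hxw
      exact hfin3 p t hp ht (hru p hp hup) (rel_of hx hp ht hpx ht1) (hsw t ht ht2)
  · by_cases hwp : p ∣ cidx w
    · obtain ⟨P, huP, huc⟩ := hcent u hu hup
      obtain ⟨g, hg⟩ := hconjP w hw P
      obtain ⟨x, hx, hpx, hxu⟩ := exists_linked hZ P huP huc hu1 hg (by rwa [cidx_conj])
      obtain ⟨t, ht, ht1, ht2⟩ := Nat.Prime.not_coprime_iff_dvd.1 hxu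
      exact hfin3 t p ht hp (hru t ht ht2) (rel_of hx ht hp ht1 hpx) (hsw p hp hwp)
    · obtain ⟨P, hwP, hwc⟩ := hcent w hw hwp
      obtain ⟨g, hg⟩ := hconjP u hu P
      set u' := g * u * g⁻¹ with hu'
      have hu'i : cidx u' = cidx u := cidx_conj u g
      by_cases hcop : (cidx u').Coprime (cidx w)
      · have hu'p : u' ^ p = 1 := by rw [hu', conj_pow, ← hu, pow_orderOf_eq_one]; group
        have hwpow : w ^ p = 1 := by rw [← hw, pow_orderOf_eq_one]
        have hc : u' * w = w * u' := hwc u' hg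
        have hu'1 : u' ≠ 1 := fun e => hu1 (conj_eq_one_iff.1 e)
        have hA := not_coprime_mul hZ hu'1 hu'p hc hcop hwp
        have hB := not_coprime_mul hZ hw1 hwpow hc.symm hcop.symm (by rwa [hu'i])
        rw [← hc] at hB
        have hne : u' * w ≠ 1 := by
          intro e
          have h1 : cidx (u' * w) = 1 := by
            rw [e, cidx, Subgroup.index_eq_one, Subgroup.eq_top_iff']
            exact fun h => mem_cent.2 (by simp)
          rw [h1] at hA
          exact hA (Nat.coprime_one_left _)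
        have hord : p ∣ orderOf (u' * w) := by
          have h : (u' * w) ^ p = 1 := by
            rw [(show Commute u' w from hc).mul_pow, hu'p, hwpow, one_mul]
          rcases (Nat.dvd_prime hp).1 (orderOf_dvd_of_pow_eq_one h) with e | e
          · exact absurd (orderOf_eq_one_iff.1 e) hne
          · rw [e]
        obtain ⟨t, ht, ht1, ht2⟩ := Nat.Prime.not_coprime_iff_dvd.1 hA
        obtain ⟨v, hv, hv1, hv2⟩ := Nat.Prime.not_coprime_iff_dvd.1 hB
        exact hfin3 t v ht hv (hru t ht (hu'i ▸ ht2)) (rel_of hord ht hv ht1 hv1) (hsw v hv hv2)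
      · obtain ⟨t, ht, ht1, ht2⟩ := Nat.Prime.not_coprime_iff_dvd.1 hcop
        exact (hfin2 t ht (hru t ht (hu'i ▸ ht1)) (hsw t ht ht2)).imp_right Or.inl

end Cfsg.Agent.S4321
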