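import Cfsg.Statements.S4323
import Cfsg.Agent.H42.AbelFix.Main

set_option autoImplicit false
open Cfsg

namespace Cfsg.Agent.S4323

/-- Let `q` be a prime and `A` a non-cyclic group of order `q²` acting by automorphisms on a finite group `G` of order prime to `q`, such that the fixed-point subgroup `C_G(a)` is abelian for every non-identity `a ∈ A`. Then `G` is solvable. -/
theorem result {A G : Type*} [Group A] [Finite A]
    [Group G] [Finite G] [MulDistribMulAction A G] (q : ℕ) (hq : q.Prime) (hA : Nat.card A = q ^ 2) (hnc : ¬ IsCyclic A)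
    (hcop : ¬ q ∣ Nat.card G) (h : ∀ a : A, a ≠ 1 → IsMulCommutative ↥(FixedPoints.subgroup (Subgroup.zpowers a) G)) :
    Group.IsSolvable G := by
  refine H42.AbelFix.solvable hq hA hnc hcop fun a ha g k hg hk => ?_
  haveI := h a ha
  have hmem : ∀ x : G, a • x = x → x ∈ FixedPoints.subgroup (Subgroup.zpowers a) G := by
    rintro x hx ⟨y, hy⟩
    exact (Subgroup.zpowers_le.mpr hx : Subgroup.zpowers a ≤ MulAction.stabilizer A x) hy
  exact congrArg Subtype.val (mul_comm' (⟨g, hmem g hg⟩ : FixedPoints.subgroup (Subgroup.zpowers a) G) ⟨k, hmem k hk⟩)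

end Cfsg.Agent.S4323
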