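import Cfsg.Statements.S4325
import Cfsg.Agent.Perm.Basic

set_option autoImplicit false
open Cfsg

namespace Cfsg.Agent.S4325

theorem not_transitive {r m : ℕ} (hm : m + 1 < r) (t : Fin m → Equiv.Perm (Fin r)) (ht : ∀ i, (t i).IsSwap) :
    ∃ x y : Fin r, ∀ g ∈ Subgroup.closure (Set.range t), g x ≠ y := by
  classical
  choose a b _ hab using ht
  let o : Fin r := ⟨0, by omega⟩
  let L : (Fin r → ℚ) →ₗ[ℚ] (Option (Fin m) → ℚ) := LinearMap.pi fun k => match k with
    | none => LinearMap.proj (R := ℚ) (φ := fun _ : Fin r => ℚ) o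
    | some i => LinearMap.proj (R := ℚ) (φ := fun _ : Fin r => ℚ) (a i) - LinearMap.proj (b i)
  have hni : ¬ Function.Injective L := fun h => by
    have := LinearMap.finrank_le_finrank_of_injective h
    simp only [Module.finrank_fintype_fun_eq_card, Fintype.card_option, Fintype.card_fin] at this
    omega
  obtain ⟨f, hf, hf0⟩ : ∃ f, L f = 0 ∧ f ≠ 0 := by
    rw [← LinearMap.ker_eq_bot] at hni
    obtain ⟨f, hf, hf0⟩ := (Submodule.ne_bot_iff _).1 hni
    exact ⟨f, hf, hf0⟩
  have ho : f o = 0 := congrFun hf none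
  have he : ∀ i, f (a i) = f (b i) := fun i => sub_eq_zero.1 (congrFun hf (some i))
  obtain ⟨y, hy⟩ : ∃ y, f y ≠ 0 := Function.ne_iff.1 hf0
  refine ⟨o, y, fun g hg hgo => hy ?_⟩
  rw [← hgo]
  suffices h : ∀ x, f (g x) = f x by rw [h, ho]
  clear hgo
  intro x
  induction hg using Subgroup.closure_induction generalizing x with
  | mem u hu =>
    obtain ⟨i, rfl⟩ := hu
    rw [hab i]
    rcases eq_or_ne x (a i) with rfl | h1
    · rw [Equiv.swap_apply_left, he]
    · rcases eq_or_ne x (b i) with rfl | h2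
      · rw [Equiv.swap_apply_right, he]
      · rw [Equiv.swap_apply_of_ne_of_ne h1 h2]
  | one => rfl
  | mul u v _ _ hu hv => rw [Equiv.Perm.mul_apply, hu, hv]
  | inv u _ hu =>
    conv_rhs => rw [show x = u (u⁻¹ x) from (u.apply_symm_apply x).symm, hu]

/-- Let r be a prime and m a natural number with m + 1 < r, and let π be a set of primes containing every prime below r but not r itself. Then in the symmetric group of degree r any m transpositions generate a π-subgroup, while O_π of the symmetric group is trivial. (So no bound on the number of conjugates that works for all π exists in the π-radical analogue of the Baer–Suzuki Theorem.) -/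
theorem result (r m : ℕ) (hr : r.Prime)
    (hm : m + 1 < r) (π : Set ℕ) (hπ : ∀ q : ℕ, q.Prime → q < r → q ∈ π) (hrπ : r ∉ π)
    (t : Fin m → Equiv.Perm (Fin r)) (ht : ∀ i, (t i).IsSwap) :
    Cfsg.IsPiSubgroup π (Subgroup.closure (Set.range t)) ∧ Cfsg.piCore π (Equiv.Perm (Fin r)) = ⊥ := by
  classical
  refine ⟨fun p hp hpd => hπ p hp (lt_of_le_of_ne ?_ ?_), ?_⟩
  · have h := hpd.trans (Subgroup.card_subgroup_dvd_card _)
    rw [Nat.card_perm, Nat.card_fin] at h
    exact hp.dvd_factorial.1 h
  · rintro rfl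
    haveI := Fact.mk hp
    obtain ⟨⟨σ, hσ⟩, hσo⟩ := exists_prime_orderOf_dvd_card' p hpd
    rw [Subgroup.orderOf_mk] at hσo
    have hc : σ.IsCycle := Equiv.Perm.isCycle_of_prime_order'' (by rwa [Fintype.card_fin]) (by rw [hσo, Fintype.card_fin])
    have hs : σ.support = Finset.univ := Finset.eq_univ_of_card _ (by rw [← hc.orderOf, hσo, Fintype.card_fin])
    obtain ⟨x, y, hxy⟩ := not_transitive hm t ht
    obtain ⟨i, hi⟩ := hc.exists_zpow_eq (Equiv.Perm.mem_support.1 (hs ▸ Finset.mem_univ x))
      (Equiv.Perm.mem_support.1 (hs ▸ Finset.mem_univ y))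
    exact hxy _ (Subgroup.zpow_mem _ hσ i) hi
  · rw [Cfsg.piCore, sSup_eq_bot]
    rintro N ⟨hN, hNπ⟩
    by_contra hne
    haveI := hN
    haveI : MulAction.IsPretransitive N (Fin r) := Cfsg.Agent.Perm.transitive_of_normal hne
    haveI : Nonempty (Fin r) := ⟨⟨0, hr.pos⟩⟩
    have hd : r ∣ Nat.card N := by
      have h := MulAction.index_stabilizer_of_transitive N (Classical.arbitrary (Fin r))
      rw [Nat.card_fin] at h
      have h2 := (MulAction.stabilizer N (Classical.arbitrary (Fin r))).index_dvd_card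
      rwa [h] at h2
    exact hrπ (hNπ r hr hd)

end Cfsg.Agent.S4325
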