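import Cfsg.Statements.S4326

set_option autoImplicit false
open Pointwise
open Cfsg

namespace Cfsg.Agent.S4326

open Subgroup in
theorem mem_conj_smul {G : Type*} [Group G] {A : Subgroup G} {g y : G} :
    y ∈ MulAut.conj g • A ↔ g⁻¹ * y * g ∈ A := by
  rw [mem_pointwise_smul_iff_inv_smul_mem]
  simp [MulAut.smul_def]

/-- Let G be a finite group, p a prime, x an automorphism of G of p-power order and M the subgroup of fixed points of x. Suppose that p divides the index of M and that either M is self-normalizing or M has trivial center. Then some conjugate of M is mapped onto itself by x but is not fixed elementwise by x. -/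
theorem result {G : Type*} [Group G] [Finite G]
    (p : ℕ) [Fact p.Prime] (x : MulAut G) (hx : ∃ k : ℕ, orderOf x = p ^ k) (M : Subgroup G)
    (hM : ∀ g : G, g ∈ M ↔ x g = g) (hp : p ∣ M.index)
    (hself : Subgroup.normalizer (M : Set G) = M ∨ Subgroup.center M = ⊥) :
    ∃ g : G, (∀ y ∈ MulAut.conj g • M, x y ∈ MulAut.conj g • M) ∧ ∃ y ∈ MulAut.conj g • M, x y ≠ y := by
  classical
  -- `zpowers x` acts on the cosets of `M`
  have hpow : ∀ σ ∈ Subgroup.zpowers x, ∀ m ∈ M, σ m = m := by
    intro σ hσ m hm
    have hsub : Subgroup.zpowers x ≤ MulAction.stabilizer (MulAut G) m :=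
      Subgroup.zpowers_le.mpr ((hM m).mp hm)
    exact hsub hσ
  let act : MulAction (Subgroup.zpowers x) (G ⧸ M) :=
    { smul := fun σ => Quotient.map' (fun g => (σ : MulAut G) g) (fun a b hab => by
        rw [QuotientGroup.leftRel_apply] at hab ⊢
        rw [← map_inv, ← map_mul, hpow σ σ.2 _ hab]
        exact hab)
      one_smul := fun q => Quotient.inductionOn' q fun g => rfl
      mul_smul := fun σ τ q => Quotient.inductionOn' q fun g => rfl }
  obtain ⟨k, hk⟩ := hx
  have hP : IsPGroup p (Subgroup.zpowers x) :=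
    IsPGroup.of_card (n := k) (by rw [Nat.card_zpowers, hk])
  have hfix1 : ((1 : G) : G ⧸ M) ∈ MulAction.fixedPoints (Subgroup.zpowers x) (G ⧸ M) :=
    fun σ => congrArg (QuotientGroup.mk (s := M)) (map_one (σ : MulAut G))
  obtain ⟨q, hq, hq1⟩ := hP.exists_fixed_point_of_prime_dvd_card_of_fixed_point (G ⧸ M) hp hfix1
  induction q using QuotientGroup.induction_on with
  | H g =>
    have hgM : g ∉ M := fun h => hq1 (QuotientGroup.eq.mpr (by simpa using h))
    have hxg : (x g)⁻¹ * g ∈ M :=
      QuotientGroup.eq.mp (hq ⟨x, Subgroup.mem_zpowers x⟩)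
    have hfixm : ∀ m ∈ M, x m = m := fun m hm => (hM m).mp hm
    refine ⟨g, ?_, ?_⟩
    · intro y hy
      rw [mem_conj_smul] at hy ⊢
      have h1 : g⁻¹ * x y * g = (g⁻¹ * x g) * x (g⁻¹ * y * g) * ((x g)⁻¹ * g) := by
        rw [map_mul, map_mul, map_inv]; group
      rw [h1, hfixm _ hy]
      have h2 : g⁻¹ * x g = ((x g)⁻¹ * g)⁻¹ := by group
      rw [h2]
      exact M.mul_mem (M.mul_mem (M.inv_mem hxg) hy) hxg
    · by_contra hcon
      push_neg at hcon
      rcases hself with hN | hZ
      · apply hgM
        rw [← hN, Subgroup.mem_normalizer_iff]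
        have hle : MulAut.conj g • M ≤ M := fun y hy => (hM y).mpr (hcon y hy)
        have heq := Subgroup.eq_of_le_of_card_ge hle
          (Nat.card_congr (Subgroup.equivSMul (MulAut.conj g) M).toEquiv).le
        intro y
        have h1 : g * y * g⁻¹ ∈ MulAut.conj g • M ↔ y ∈ M := by
          rw [mem_conj_smul]; simp [mul_assoc]
        rw [← h1, heq]
      · apply hgM
        rw [hM]
        -- `g⁻¹ * x g` is central in `M`
        have hm : g⁻¹ * x g ∈ M := by
          have := M.inv_mem hxg
          simpa using this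
        have hc : (⟨g⁻¹ * x g, hm⟩ : M) ∈ Subgroup.center M := by
          rw [Subgroup.mem_center_iff]
          intro y
          apply Subtype.ext
          have h1 := hcon (g * y * g⁻¹) (mem_conj_smul.mpr (by simp [mul_assoc]))
          rw [map_mul, map_mul, map_inv, hfixm y y.2] at h1
          have h2 : g⁻¹ * x g * y = y * (g⁻¹ * x g) := by
            have h3 : g⁻¹ * (x g * y * (x g)⁻¹) * x g = g⁻¹ * (g * y * g⁻¹) * x g := by rw [h1]
            simpa [mul_assoc] using h3
          exact h2.symm
        rw [hZ, Subgroup.mem_bot] at hc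
        exact (inv_mul_eq_one.mp (congrArg Subtype.val hc)).symm

end Cfsg.Agent.S4326
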