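import Cfsg.Statements.S4331
import Cfsg.Agent.Cores.PCore
import Cfsg.Agent.H77.Subnormal

set_option autoImplicit false
open Cfsg

namespace Cfsg.Agent.S4331

open Matrix Subgroup

/-- The vector space `F_3^2`, written multiplicatively. -/
abbrev V := Multiplicative (Fin 2 → ZMod 3)

/-- Similitudes of the form `x^2 + y^2` over `F_3`. -/
def H : Subgroup (GL (Fin 2) (ZMod 3)) where
  carrier := {M | ∃ c : ZMod 3, (M : Matrix (Fin 2) (Fin 2) (ZMod 3))ᵀ * M = c • 1}
  one_mem' := ⟨1, by simp⟩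
  mul_mem' := by
    rintro M N ⟨c, hc⟩ ⟨d, hd⟩
    refine ⟨c * d, ?_⟩
    rw [Units.val_mul, transpose_mul, Matrix.mul_assoc,
      ← Matrix.mul_assoc (M : Matrix (Fin 2) (Fin 2) (ZMod 3))ᵀ, hc]
    rw [Matrix.smul_mul, Matrix.one_mul, Matrix.mul_smul, hd, smul_smul]
  inv_mem' := by
    rintro M ⟨c, hc⟩
    have h1 : ((M⁻¹ : GL (Fin 2) (ZMod 3)) : Matrix (Fin 2) (Fin 2) (ZMod 3))ᵀ *
        ((M : Matrix (Fin 2) (Fin 2) (ZMod 3))ᵀ * (M : Matrix (Fin 2) (Fin 2) (ZMod 3))) *
        ((M⁻¹ : GL (Fin 2) (ZMod 3)) : Matrix (Fin 2) (Fin 2) (ZMod 3)) = 1 := by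
      rw [← Matrix.mul_assoc, ← transpose_mul, Matrix.mul_assoc, ← Units.val_mul, mul_inv_cancel,
        Units.val_one, transpose_one, Matrix.one_mul]
    rw [hc, Matrix.mul_smul, Matrix.smul_mul, Matrix.mul_one] at h1
    refine ⟨c, ?_⟩
    have h2 : ∀ x : ZMod 3, x = 0 ∨ x * x = 1 := by decide
    rcases h2 c with h3 | h3
    · exfalso
      rw [h3, zero_smul] at h1
      exact zero_ne_one h1
    · calc (↑M⁻¹ : Matrix (Fin 2) (Fin 2) (ZMod 3))ᵀ * ↑M⁻¹
          = (c * c) • ((↑M⁻¹ : Matrix (Fin 2) (Fin 2) (ZMod 3))ᵀ * ↑M⁻¹) := by rw [h3, one_smul]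
        _ = c • (1 : Matrix (Fin 2) (Fin 2) (ZMod 3)) := by rw [← smul_smul, h1]

/-- The underlying matrix. -/
abbrev mat (M : H) : Matrix (Fin 2) (Fin 2) (ZMod 3) := ((M : GL (Fin 2) (ZMod 3)) : Matrix _ _ _)

theorem mat_mul (M N : H) : mat (M * N) = mat M * mat N := rfl

theorem pow_eight : ∀ a b c d : ZMod 3, (∃ k : ZMod 3, !![a, b; c, d]ᵀ * !![a, b; c, d] = k • 1) →
    (!![a, b; c, d]).det ≠ 0 → !![a, b; c, d] ^ 8 = 1 := by
  decide +kernel

theorem fix_first : ∀ a b c d : ZMod 3, (∃ k : ZMod 3, !![a, b; c, d]ᵀ * !![a, b; c, d] = k • 1) →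
    (!![a, b; c, d]).det ≠ 0 → !![a, b; c, d] *ᵥ ![1, 0] = ![1, 0] →
    (!![a, b; c, d] = 1 ∨ !![a, b; c, d] = !![1, 0; 0, -1]) := by
  decide +kernel

/-- The reflection. -/
def refl : GL (Fin 2) (ZMod 3) :=
  ⟨!![1, 0; 0, -1], !![1, 0; 0, -1], by decide +kernel, by decide +kernel⟩

theorem refl_mem : refl ∈ H := ⟨1, by decide +kernel⟩

theorem det_ne (M : GL (Fin 2) (ZMod 3)) : (M : Matrix (Fin 2) (Fin 2) (ZMod 3)).det ≠ 0 := by
  intro h
  have := congrArg Matrix.det (Units.mul_inv M)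
  rw [det_mul, h, zero_mul, det_one] at this
  exact zero_ne_one this

theorem isPGroup_H : IsPGroup 2 H := by
  rintro ⟨M, hM⟩
  refine ⟨3, Subtype.ext (Units.ext ?_)⟩
  have := pow_eight ((M : Matrix (Fin 2) (Fin 2) (ZMod 3)) 0 0) ((M : Matrix (Fin 2) (Fin 2) (ZMod 3)) 0 1) ((M : Matrix (Fin 2) (Fin 2) (ZMod 3)) 1 0)
    ((M : Matrix (Fin 2) (Fin 2) (ZMod 3)) 1 1) (by rw [← eta_fin_two (M : Matrix (Fin 2) (Fin 2) (ZMod 3))]; exact hM)
    (by rw [← eta_fin_two (M : Matrix (Fin 2) (Fin 2) (ZMod 3))]; exact det_ne M)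
  rw [← eta_fin_two (M : Matrix (Fin 2) (Fin 2) (ZMod 3))] at this
  simpa using this

/-- The action of `H` on the vectors. -/
def φ : H →* MulAut V where
  toFun M :=
    { toFun := fun v => Multiplicative.ofAdd (mat M *ᵥ v.toAdd)
      invFun := fun v => Multiplicative.ofAdd (mat M⁻¹ *ᵥ v.toAdd)
      left_inv := fun v => by
        apply Multiplicative.toAdd.injective
        rw [toAdd_ofAdd, toAdd_ofAdd, mulVec_mulVec, ← mat_mul, inv_mul_cancel]
        exact one_mulVec _
      right_inv := fun v => by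
        apply Multiplicative.toAdd.injective
        rw [toAdd_ofAdd, toAdd_ofAdd, mulVec_mulVec, ← mat_mul, mul_inv_cancel]
        exact one_mulVec _
      map_mul' := fun v w => by rw [toAdd_mul, mulVec_add, ofAdd_add] }
  map_one' := MulEquiv.ext fun v => Multiplicative.toAdd.injective
    (by show mat 1 *ᵥ v.toAdd = v.toAdd; exact one_mulVec _)
  map_mul' M N := MulEquiv.ext fun v => Multiplicative.toAdd.injective
    (by
      show mat (M * N) *ᵥ v.toAdd = mat M *ᵥ (mat N *ᵥ v.toAdd)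
      rw [mat_mul, mulVec_mulVec])

/-- The affine group. -/
abbrev G := V ⋊[φ] H

theorem finite_G : Finite G := Finite.of_equiv _ SemidirectProduct.equivProd.symm

/-- The involution. -/
def a : G := SemidirectProduct.inr ⟨refl, refl_mem⟩

theorem rot_exists : ∀ x y : ZMod 3, ¬ (x = 0 ∧ y = 0) →
    (!![x, -y; y, x]).det ≠ 0 ∧ (∃ k : ZMod 3, !![x, -y; y, x]ᵀ * !![x, -y; y, x] = k • 1) ∧
      !![x, -y; y, x] *ᵥ ![1, 0] = ![x, y] := by
  decide +kernel

theorem exists_rot (w : Fin 2 → ZMod 3) (hw : w ≠ 0) :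
    ∃ R : H, mat R *ᵥ ![1, 0] = w := by
  have hw' : w = ![w 0, w 1] := by ext i; fin_cases i <;> rfl
  obtain ⟨h1, h2, h3⟩ := rot_exists (w 0) (w 1) (fun h => hw (by rw [hw', h.1, h.2]; simp))
  exact ⟨⟨GeneralLinearGroup.mkOfDetNeZero _ h1, h2⟩, h3.trans hw'.symm⟩

theorem solve_first : ∀ x y : ZMod 3, ∃ z t : ZMod 3,
    (![x, y] : Fin 2 → ZMod 3) + (![0, t] - !![1, 0; 0, -1] *ᵥ ![0, t]) = ![z, 0] ∧
      !![1, 0; 0, -1] *ᵥ ![z, 0] = ![z, 0] := by
  decide +kernel

theorem commutes_witness (c : G) :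
    (∃ g : G, IsConj c g ∧ a * g = g * a) ∨ ∃ M : H, IsConj c (SemidirectProduct.inr M) := by
  obtain ⟨v, M⟩ := c
  set Mm : Matrix (Fin 2) (Fin 2) (ZMod 3) := mat M with hMm
  by_cases hfix : ∃ w : Fin 2 → ZMod 3, w ≠ 0 ∧ Mm *ᵥ w = w
  · left
    obtain ⟨w, hw, hMw⟩ := hfix
    obtain ⟨R, hR⟩ := exists_rot w hw
    set M' : H := R⁻¹ * M * R with hM'
    set v' : V := φ R⁻¹ v with hv'
    have hc1 : IsConj (⟨v, M⟩ : G) ⟨v', M'⟩ := by
      refine isConj_iff.mpr ⟨SemidirectProduct.inr R⁻¹, ?_⟩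
      apply SemidirectProduct.ext <;> simp [hv', hM', mul_assoc]
    have he : mat M' *ᵥ ![1, 0] = ![1, 0] := by
      rw [hM']
      rw [mat_mul, mat_mul, ← mulVec_mulVec, hR, ← mulVec_mulVec, ← hMm, hMw, ← hR, mulVec_mulVec,
        ← mat_mul, inv_mul_cancel]
      exact one_mulVec _
    have hM'' := fix_first _ _ _ _
      (by rw [← eta_fin_two]; exact M'.2) (by rw [← eta_fin_two]; exact det_ne _)
      (by rw [← eta_fin_two]; exact he)
    rw [← eta_fin_two] at hM''
    rcases hM'' with h1 | h1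
    · have hM1 : M' = 1 := Subtype.ext (Units.ext h1)
      by_cases hv0 : v'.toAdd = 0
      · refine ⟨⟨v', M'⟩, hc1, ?_⟩
        have : (⟨v', M'⟩ : G) = 1 := SemidirectProduct.ext hv0 hM1
        rw [this, mul_one, one_mul]
      obtain ⟨S, hS⟩ := exists_rot v'.toAdd hv0
      refine ⟨⟨Multiplicative.ofAdd ![1, 0], 1⟩, hc1.trans ?_, ?_⟩
      · refine isConj_iff.mpr ⟨SemidirectProduct.inr S⁻¹, ?_⟩
        have hS' : φ S⁻¹ v' = Multiplicative.ofAdd ![1, 0] := by
          have : φ S (Multiplicative.ofAdd ![1, 0]) = v' := congrArg Multiplicative.ofAdd hS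
          rw [← this, map_inv, MulAut.inv_apply_self]
        apply SemidirectProduct.ext <;> simp [hM1, ← hS', mul_assoc]
      · have hfa : φ ⟨refl, refl_mem⟩ (Multiplicative.ofAdd ![1, 0]) = Multiplicative.ofAdd ![1, 0] :=
          congrArg Multiplicative.ofAdd (by decide +kernel :
            !![(1 : ZMod 3), 0; 0, -1] *ᵥ ![1, 0] = ![1, 0])
        apply SemidirectProduct.ext <;> simp [a, hfa]
    · have hM1 : M' = ⟨refl, refl_mem⟩ := Subtype.ext (Units.ext h1)
      have hv2 : v'.toAdd = ![v'.toAdd 0, v'.toAdd 1] := by ext i; fin_cases i <;> rfl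
      obtain ⟨z, t, hzt, hz⟩ := solve_first (v'.toAdd 0) (v'.toAdd 1)
      refine ⟨⟨Multiplicative.ofAdd ![z, 0], M'⟩, hc1.trans ?_, ?_⟩
      · refine isConj_iff.mpr ⟨SemidirectProduct.inl (Multiplicative.ofAdd ![0, t]), ?_⟩
        apply SemidirectProduct.ext
        · simp only [SemidirectProduct.mul_left, SemidirectProduct.mul_right,
            SemidirectProduct.left_inl, SemidirectProduct.right_inl, SemidirectProduct.inv_left,
            inv_one, map_one, MulAut.one_apply, one_mul]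
          apply Multiplicative.toAdd.injective
          rw [toAdd_mul, toAdd_mul]
          change ![0, t] + v'.toAdd + mat M' *ᵥ (-![0, t]) = ![z, 0]
          rw [← hzt, ← hv2, show mat M' = _ from h1, mulVec_neg]
          abel
        · simp
      · have hfa : φ ⟨refl, refl_mem⟩ (Multiplicative.ofAdd ![z, 0]) = Multiplicative.ofAdd ![z, 0] :=
          congrArg Multiplicative.ofAdd hz
        apply SemidirectProduct.ext <;> simp [a, hfa, hM1]
  · right
    push Not at hfix
    refine ⟨M, ?_⟩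
    let f : (Fin 2 → ZMod 3) → (Fin 2 → ZMod 3) := fun w => w - Mm *ᵥ w
    have hinj : Function.Injective f := by
      intro w w' h
      by_contra hne
      refine hfix (w - w') (sub_ne_zero.mpr hne) ?_
      have h' : w - w' = Mm *ᵥ w - Mm *ᵥ w' := by
        have := sub_eq_zero.mpr h
        simp only [f] at this
        rw [← sub_eq_zero]
        rw [← this]; abel
      rw [mulVec_sub, h']
    obtain ⟨w, hw⟩ := (Finite.injective_iff_surjective.mp hinj) (-v.toAdd)
    refine isConj_iff.mpr ⟨SemidirectProduct.inl (Multiplicative.ofAdd w), ?_⟩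
    apply SemidirectProduct.ext
    · simp only [SemidirectProduct.mul_left, SemidirectProduct.mul_right,
        SemidirectProduct.left_inl, SemidirectProduct.right_inl, SemidirectProduct.inv_left,
        SemidirectProduct.left_inr, inv_one, map_one, MulAut.one_apply, one_mul]
      apply Multiplicative.toAdd.injective
      rw [toAdd_mul, toAdd_mul]
      change w + v.toAdd + Mm *ᵥ (-w) = 0
      simp only [f] at hw
      rw [mulVec_neg, show w + v.toAdd + -(Mm *ᵥ w) = (w - Mm *ᵥ w) + v.toAdd by abel, hw,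
        neg_add_cancel]
    · simp

theorem orderOf_a : orderOf a = 2 := by
  rw [orderOf_eq_prime_iff]
  constructor
  · rw [a, ← map_pow]
    have : (⟨refl, refl_mem⟩ : H) ^ 2 = 1 := Subtype.ext (Units.ext (by decide +kernel))
    rw [this, map_one]
  · intro h
    have : (⟨refl, refl_mem⟩ : H) = 1 := congrArg SemidirectProduct.right h
    exact absurd (congrArg (fun M : H => mat M (1 : Fin 2) (1 : Fin 2)) this)
      (by decide +kernel)

/-- There is a finite solvable group G with a subgroup A of order 2 such that every conjugacy class of G contains an element g for which A is subnormal in the subgroup generated by A and g, and yet A is not contained in O_2(G). (So the corresponding criteria for odd primes fail at the prime 2, even for solvable groups.) -/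
theorem result :
    ∃ (G : Type) (_ : Group G) (_ : Finite G) (A : Subgroup G), Group.IsSolvable G ∧ Nat.card A = 2 ∧
      (∀ c : G, ∃ g : G, IsConj c g ∧ (A.subgroupOf (A ⊔ Subgroup.zpowers g)).IsSubnormal) ∧
      ¬ A ≤ Cfsg.pCore 2 G := by
  haveI := finite_G
  haveI : Fact (Nat.Prime 2) := ⟨Nat.prime_two⟩
  refine ⟨G, inferInstance, inferInstance, zpowers a, ?_, by rw [Nat.card_zpowers, orderOf_a], ?_, ?_⟩
  · haveI : Group.IsSolvable H := by
      have := isPGroup_H.isNilpotent
      infer_instance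
    exact Group.isSolvable_of_ker_le_range (SemidirectProduct.inl : V →* G) SemidirectProduct.rightHom
      (by rw [SemidirectProduct.range_inl_eq_ker_rightHom])
  · intro c
    rcases commutes_witness c with ⟨g, hg, hcomm⟩ | ⟨M, hM⟩
    · refine ⟨g, hg, Subgroup.Normal.isSubnormal ?_⟩
      rw [normal_subgroupOf_iff_le_normalizer le_sup_left]
      refine sup_le le_normalizer (le_trans ?_ (centralizer_le_normalizer _))
      rw [zpowers_le, mem_centralizer_iff]
      intro x hx
      obtain ⟨n, rfl⟩ := mem_zpowers_iff.mp hx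
      exact (Commute.zpow_left (show Commute a g from hcomm) n).eq
    · refine ⟨SemidirectProduct.inr M, hM, ?_⟩
      refine Cfsg.Agent.H77.isSubnormal_of_isNilpotent (IsPGroup.isNilpotent (p := 2) ?_) _
      refine (((isPGroup_H.to_subgroup (⊤ : Subgroup H)).map (SemidirectProduct.inr : H →* G))).to_le ?_
      exact sup_le (zpowers_le.mpr ⟨_, mem_top _, rfl⟩) (zpowers_le.mpr ⟨_, mem_top _, rfl⟩)
  · intro hle
    have ha : a ∈ Cfsg.pCore 2 G := hle (mem_zpowers a)
    set u : G := SemidirectProduct.inl (Multiplicative.ofAdd ![0, 1])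
    have hmem : u * a * u⁻¹ * a⁻¹ ∈ Cfsg.pCore 2 G :=
      mul_mem ((Cfsg.pCore_normal 2 G).conj_mem a ha u) (inv_mem ha)
    have hcomm : u * a * u⁻¹ * a⁻¹ = SemidirectProduct.inl (Multiplicative.ofAdd ![0, 2]) := by
      have hfa : φ ⟨refl, refl_mem⟩ (Multiplicative.ofAdd ![0, 1])⁻¹ = Multiplicative.ofAdd ![0, 1] :=
        congrArg Multiplicative.ofAdd (by decide +kernel :
          !![(1 : ZMod 3), 0; 0, -1] *ᵥ (-![0, 1]) = ![0, 1])
      apply SemidirectProduct.ext
      · simp only [u, a, SemidirectProduct.mul_left, SemidirectProduct.mul_right,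
          SemidirectProduct.left_inl, SemidirectProduct.right_inl, SemidirectProduct.left_inr,
          SemidirectProduct.right_inr, SemidirectProduct.inv_left, SemidirectProduct.inv_right,
          inv_one, map_one, MulAut.one_apply, one_mul, mul_one, hfa]
        exact congrArg Multiplicative.ofAdd (by decide +kernel : (![0, 1] + ![0, 1] : Fin 2 → ZMod 3) = ![0, 2])
      · simp [u, a]
    rw [hcomm] at hmem
    obtain ⟨k, hk⟩ := Cfsg.Agent.Cores.pCore_isPGroup ⟨_, hmem⟩
    have hk' := congrArg (fun x : Cfsg.pCore 2 G => (x : G).left) hk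
    simp only [SubmonoidClass.coe_pow, ← map_pow, SemidirectProduct.left_inl, OneMemClass.coe_one,
      SemidirectProduct.one_left] at hk'
    have h3 : (Multiplicative.ofAdd ![0, 2] : V) ^ 3 = 1 :=
      congrArg Multiplicative.ofAdd (by decide +kernel : (3 • (![0, 2] : Fin 2 → ZMod 3)) = 0)
    have h1 : (Multiplicative.ofAdd ![0, 2] : V) = 1 :=
      orderOf_eq_one_iff.mp (Nat.eq_one_of_dvd_coprimes (Nat.Coprime.pow_left k (by norm_num : Nat.Coprime 2 3))
        (orderOf_dvd_of_pow_eq_one hk') (orderOf_dvd_of_pow_eq_one h3))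
    exact absurd (congrArg Multiplicative.toAdd h1) (by decide +kernel)

end Cfsg.Agent.S4331
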