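import Cfsg.Statements.S4332
import Cfsg.Agent.Perm.Basic

set_option autoImplicit false
open Pointwise
open Cfsg

namespace Cfsg.Agent.S4332

theorem exists_triple (c : Equiv.Perm (Fin 8)) : ∃ a b d : Fin 8, a ≠ b ∧ a ≠ d ∧ b ≠ d ∧
    Commute (c * (Equiv.swap a b * Equiv.swap a d) * c⁻¹) (Equiv.swap a b * Equiv.swap a d) := by
  have hconj : ∀ a b d : Fin 8, c * (Equiv.swap a b * Equiv.swap a d) * c⁻¹ =
      Equiv.swap (c a) (c b) * Equiv.swap (c a) (c d) := fun a b d => by
    rw [Equiv.swap_apply_apply, Equiv.swap_apply_apply]; group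
  let F : Finset (Fin 8) := Finset.univ.filter fun x => c x = x
  by_cases h3 : 2 < F.card
  · obtain ⟨a, b, d, ha, hb, hd, hab, had, hbd⟩ := Finset.two_lt_card_iff.1 h3
    simp only [F, Finset.mem_filter, Finset.mem_univ, true_and] at ha hb hd
    exact ⟨a, b, d, hab, had, hbd, by rw [hconj, ha, hb, hd]⟩
  by_cases hcyc : ∃ a, c (c (c a)) = a ∧ c a ≠ a
  · obtain ⟨a, h, ha⟩ := hcyc
    have hb : c (c a) ≠ c a := fun e => ha (c.injective e)
    have had : a ≠ c (c a) := fun e => ha (by rw [← e] at h; exact h)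
    refine ⟨a, c a, c (c a), ha.symm, had, hb.symm, ?_⟩
    rw [hconj, h, show Equiv.swap (c a) (c (c a)) * Equiv.swap (c a) a = Equiv.swap a (c a) * Equiv.swap a (c (c a)) from ?_]
    ext x
    simp only [Equiv.Perm.mul_apply, Equiv.swap_apply_def]
    grind
  by_cases h2 : F.Nonempty ∧ ∃ a, c (c a) = a ∧ c a ≠ a
  · obtain ⟨⟨f, hf⟩, a, h, ha⟩ := h2
    simp only [F, Finset.mem_filter, Finset.mem_univ, true_and] at hf
    have haf : a ≠ f := fun e => ha (e ▸ hf)
    have hbf : c a ≠ f := fun e => haf (by rw [← h, e, hf])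
    refine ⟨a, c a, f, ha.symm, haf, hbf, ?_⟩
    rw [hconj, h, hf, show Equiv.swap (c a) a * Equiv.swap (c a) f = (Equiv.swap a (c a) * Equiv.swap a f)⁻¹ from ?_]
    · exact (Commute.refl _).inv_left
    rw [eq_inv_iff_mul_eq_one]
    ext x
    simp only [Equiv.Perm.mul_apply, Equiv.swap_apply_def, Equiv.Perm.one_apply]
    grind
  push Not at h3 hcyc
  let E : Fin 8 → Finset (Fin 8) := fun x => {x, c x, c⁻¹ x}
  have hE : ∀ x, (E x).card ≤ 3 := fun x => Finset.card_le_three
  obtain ⟨a, ha, b, hbF, hb, hlt⟩ : ∃ a, c a ≠ a ∧ ∃ b, c b ≠ b ∧ b ∉ E a ∧ (F ∪ E a ∪ E b).card < 8 := by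
    obtain ⟨a, -, ha⟩ := Finset.exists_mem_notMem_of_card_lt_card (t := (Finset.univ : Finset (Fin 8))) (s := F) (by simp; omega)
    simp only [F, Finset.mem_filter, Finset.mem_univ, true_and] at ha
    refine ⟨a, ha, ?_⟩
    by_cases hk : F.card ≤ 1
    · obtain ⟨b, -, hb⟩ := Finset.exists_mem_notMem_of_card_lt_card (t := (Finset.univ : Finset (Fin 8)))
        (s := F ∪ E a) (by have := Finset.card_union_le F (E a); have := hE a; simp; omega)
      simp only [Finset.mem_union, not_or] at hb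
      refine ⟨b, by simpa [F] using hb.1, hb.2, ?_⟩
      have := Finset.card_union_le F (E a); have := Finset.card_union_le (F ∪ E a) (E b)
      have := hE a; have := hE b
      omega
    · have h2' : ∀ x, c (c x) = x → c x = x := fun x hx => by
        by_contra hne
        exact h2 ⟨Finset.card_pos.1 (by omega), x, hx, hne⟩
      refine ⟨c (c a), fun e => ha (c.injective (c.injective e)), ?_, ?_⟩
      · simp only [E, Finset.mem_insert, Finset.mem_singleton, not_or]
        refine ⟨fun e => ha (h2' a e), fun e => ha (c.injective e), fun e => ?_⟩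
        apply ha
        apply hcyc a
        rw [e]
        exact c.apply_symm_apply a
      · have hsub : F ∪ E a ∪ E (c (c a)) ⊆ F ∪ ({a, c a, c⁻¹ a, c (c a), c (c (c a))} : Finset (Fin 8)) := by
          intro x
          simp only [E, Finset.mem_union, Finset.mem_insert, Finset.mem_singleton,
            show c⁻¹ (c (c a)) = c a from c.symm_apply_apply _]
          tauto
        have := Finset.card_le_card hsub
        have := Finset.card_union_le F ({a, c a, c⁻¹ a, c (c a), c (c (c a))} : Finset (Fin 8))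
        have : ({a, c a, c⁻¹ a, c (c a), c (c (c a))} : Finset (Fin 8)).card ≤ 5 := Finset.card_le_five
        omega
  obtain ⟨d, -, hd⟩ := Finset.exists_mem_notMem_of_card_lt_card (t := (Finset.univ : Finset (Fin 8)))
    (s := F ∪ E a ∪ E b) (by simpa using hlt)
  simp only [F, E, Finset.mem_union, Finset.mem_insert, Finset.mem_singleton, Finset.mem_filter,
    Finset.mem_univ, true_and, not_or] at hd hb
  obtain ⟨⟨hdF, hda, hdca, hdia⟩, hdb, hdcb, hdib⟩ := hd
  obtain ⟨hba, hbca, hbia⟩ := hb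
  have hi : ∀ x y : Fin 8, c x = y → x = c⁻¹ y := fun x y e => by rw [← e]; exact (c.symm_apply_apply x).symm
  refine ⟨a, b, d, Ne.symm hba, Ne.symm hda, Ne.symm hdb, ?_⟩
  rw [hconj]
  refine (Equiv.Perm.disjoint_iff_eq_or_eq.2 fun x => ?_).commute
  by_cases hx : x = a ∨ x = b ∨ x = d
  · left
    have h1 : x ≠ c a ∧ x ≠ c b ∧ x ≠ c d := by
      rcases hx with rfl | rfl | rfl
      · exact ⟨Ne.symm ha, fun e => hbia (hi _ _ e.symm), fun e => hdia (hi _ _ e.symm)⟩
      · exact ⟨hbca, Ne.symm hbF, fun e => hdib (hi _ _ e.symm)⟩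
      · exact ⟨hdca, hdcb, Ne.symm hdF⟩
    simp [Equiv.swap_apply_of_ne_of_ne, h1]
  · right
    push Not at hx
    simp [Equiv.swap_apply_of_ne_of_ne, hx]

/-- In the symmetric group of degree 8, let A be the subgroup generated by a 3-cycle. Then every conjugacy class contains an element g for which A is subnormal in the subgroup generated by A and its conjugate by g, although O_3 of the symmetric group of degree 8 is trivial. -/
theorem result
    (σ : Equiv.Perm (Fin 8)) (hσ : σ.IsThreeCycle) :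
    (∀ c : Equiv.Perm (Fin 8), ∃ g : Equiv.Perm (Fin 8), IsConj c g ∧
      ((Subgroup.zpowers σ).subgroupOf (Subgroup.zpowers σ ⊔ MulAut.conj g • Subgroup.zpowers σ)).IsSubnormal) ∧
    Cfsg.pCore 3 (Equiv.Perm (Fin 8)) = ⊥ := by
  refine ⟨fun c => ?_, ?_⟩
  · obtain ⟨a, b, d, hab, had, hbd, hcomm⟩ := exists_triple c
    obtain ⟨x, hx⟩ := isConj_iff.1 (Equiv.Perm.isConj_iff_cycleType_eq.2
      ((Equiv.Perm.isThreeCycle_swap_mul_swap_same hab had hbd).cycleType.trans hσ.cycleType.symm))
    refine ⟨x * c * x⁻¹, isConj_iff.2 ⟨x, rfl⟩, ?_⟩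
    have hc : Commute (x * c * x⁻¹ * σ * (x * c * x⁻¹)⁻¹) σ := by
      have := hcomm.map (MulAut.conj x)
      simp only [MulAut.conj_apply] at this
      have e : x * c * x⁻¹ * σ * (x * c * x⁻¹)⁻¹ =
          x * (c * (Equiv.swap a b * Equiv.swap a d) * c⁻¹) * x⁻¹ := by rw [← hx]; group
      rw [hx] at this
      rw [e]; exact this
    apply Subgroup.Normal.isSubnormal
    rw [Subgroup.normal_subgroupOf_iff_le_normalizer le_sup_left, sup_le_iff]
    refine ⟨Subgroup.le_normalizer, le_trans ?_ (Subgroup.centralizer_le_normalizer _)⟩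
    intro y hy
    rw [Subgroup.mem_pointwise_smul_iff_inv_smul_mem, MulAut.smul_def, MulAut.conj_inv_apply] at hy
    obtain ⟨i, hi⟩ := Subgroup.mem_zpowers_iff.1 hy
    rw [Subgroup.mem_centralizer_iff]
    intro z hz
    obtain ⟨j, rfl⟩ := Subgroup.mem_zpowers_iff.1 hz
    have hy' : y = (x * c * x⁻¹ * σ * (x * c * x⁻¹)⁻¹) ^ i := by
      rw [conj_zpow, hi]; group
    rw [hy']
    exact (hc.zpow_zpow i j).eq.symm
  · rw [Cfsg.pCore, sSup_eq_bot]
    rintro N ⟨hN, hNp⟩
    by_contra hne
    have := hN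
    have : MulAction.IsPretransitive N (Fin 8) := Cfsg.Agent.Perm.transitive_of_normal hne
    have h2 := (MulAction.stabilizer N (0 : Fin 8)).index_dvd_card
    rw [MulAction.index_stabilizer_of_transitive N (0 : Fin 8), Nat.card_fin] at h2
    haveI : Fact (Nat.Prime 3) := ⟨by norm_num⟩
    obtain ⟨k, hk⟩ := IsPGroup.iff_card.1 hNp
    rw [hk] at h2
    have := Nat.Prime.dvd_of_dvd_pow Nat.prime_two ((show (2:ℕ) ∣ 8 by norm_num).trans h2)
    norm_num at this

end Cfsg.Agent.S4332
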