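import Cfsg.Statements.S4337
import Cfsg.Agent.H77.MaximalIndex

set_option autoImplicit false
open Cfsg

namespace Cfsg.Agent.S4337

theorem solvable_of_support {α : Type*} [Fintype α] [DecidableEq α] (T : Finset α) (hT : T.card ≤ 4)
    (H : Subgroup (Equiv.Perm α)) (hH : ∀ g ∈ H, g.support ⊆ T) : Group.IsSolvable H := by
  obtain ⟨e⟩ : Nonempty ({x // x ∈ T} ↪ Fin 4) :=
    Function.Embedding.nonempty_of_card_le (by simpa using hT)
  haveI : Group.IsSolvable (Equiv.Perm (Fin 4)) := Cfsg.Agent.H77.isSolvable_perm_four (by simp)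
  haveI : Group.IsSolvable (Equiv.Perm {x // x ∈ T}) :=
    Group.isSolvable_of_isSolvable_injective (Equiv.Perm.viaEmbeddingHom_injective e)
  have hle : H ≤ (Equiv.Perm.ofSubtype : Equiv.Perm {x // x ∈ T} →* Equiv.Perm α).range := by
    intro g hg
    have hmem : ∀ x, g x ≠ x → x ∈ T := fun x hx => hH g hg (Equiv.Perm.mem_support.2 hx)
    have hiff : ∀ x, g x ∈ T ↔ x ∈ T := fun x => by
      by_cases hx : g x = x
      · rw [hx]
      · exact iff_of_true (hmem (g x) (fun h => hx (g.injective h))) (hmem x hx)
    exact ⟨g.subtypePerm hiff, Equiv.Perm.ofSubtype_subtypePerm hiff fun x hx => hmem x hx⟩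
  haveI : Group.IsSolvable (Equiv.Perm.ofSubtype : Equiv.Perm {x // x ∈ T} →* Equiv.Perm α).range :=
    Group.isSolvable_of_surjective (MonoidHom.rangeRestrict_surjective _)
  exact Group.isSolvable_of_isSolvable_injective (Subgroup.inclusion_injective hle)

theorem solvable_pair_sup {α : Type*} [Fintype α] [DecidableEq α] {a b c : Equiv.Perm α}
    (ha : a.IsSwap) (hb : b.IsSwap) (hac : a.Disjoint c) (hbc : b.Disjoint c) :
    Group.IsSolvable (Subgroup.closure ({a, b, c} : Set (Equiv.Perm α))) := by
  have hT : (a.support ∪ b.support).card ≤ 4 :=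
    (Finset.card_union_le _ _).trans (by rw [Equiv.Perm.card_support_eq_two.2 ha, Equiv.Perm.card_support_eq_two.2 hb])
  have hsol : Group.IsSolvable (Subgroup.closure ({a, b} : Set (Equiv.Perm α))) := by
    refine solvable_of_support _ hT _ fun g hg => ?_
    induction hg using Subgroup.closure_induction with
    | mem x hx => rcases hx with rfl | rfl
                  · exact Finset.subset_union_left
                  · exact Finset.subset_union_right
    | one => simp
    | mul x y _ _ hx hy =>
      exact (Equiv.Perm.support_mul_le x y).trans (Finset.union_subset hx hy)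
    | inv x _ hx => rwa [Equiv.Perm.support_inv]
  haveI := hsol
  haveI : Group.IsSolvable (Subgroup.zpowers c) := Group.isSolvable_of_comm fun x y => by
    obtain ⟨x, i, rfl⟩ := x
    obtain ⟨y, j, rfl⟩ := y
    exact Subtype.ext ((Commute.refl c).zpow_zpow i j)
  have hcomm : ∀ (h : Subgroup.closure ({a, b} : Set (Equiv.Perm α))) (z : Subgroup.zpowers c),
      Commute ((h : Equiv.Perm α)) (z : Equiv.Perm α) := by
    rintro ⟨h, hh⟩ ⟨z, i, rfl⟩
    have : Subgroup.closure ({a, b} : Set (Equiv.Perm α)) ≤ Subgroup.centralizer ({c} : Set (Equiv.Perm α)) := by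
      rw [Subgroup.closure_le]
      rintro x (rfl | rfl) <;> rw [SetLike.mem_coe, Subgroup.mem_centralizer_singleton_iff]
      · exact hac.commute
      · exact hbc.commute
    exact (Commute.zpow_right (Subgroup.mem_centralizer_singleton_iff.1 (this hh)) i)
  let φ := MonoidHom.noncommCoprod (Subgroup.closure ({a, b} : Set (Equiv.Perm α))).subtype
    (Subgroup.zpowers c).subtype hcomm
  have hle : Subgroup.closure ({a, b, c} : Set (Equiv.Perm α)) ≤ φ.range := by
    rw [Subgroup.closure_le]
    rintro x (rfl | rfl | rfl)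
    · exact ⟨(⟨x, Subgroup.subset_closure (Or.inl rfl)⟩, 1), mul_one _⟩
    · exact ⟨(⟨x, Subgroup.subset_closure (Or.inr rfl)⟩, 1), mul_one _⟩
    · exact ⟨(1, ⟨x, Subgroup.mem_zpowers x⟩), one_mul _⟩
  haveI : Group.IsSolvable φ.range := Group.isSolvable_of_surjective φ.rangeRestrict_surjective
  exact Group.isSolvable_of_isSolvable_injective (Subgroup.inclusion_injective hle)

theorem card_union_le_three {α : Type*} [DecidableEq α] {s t : Finset α} (hs : s.card = 2) (ht : t.card = 2)
    (h : ¬ Disjoint s t) : (s ∪ t).card ≤ 3 := by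
  have := Finset.card_union_add_card_inter s t
  have : 0 < (s ∩ t).card := Finset.card_pos.2 (Finset.not_disjoint_iff_nonempty_inter.1 h)
  omega

/-- In a finite symmetric group, any three transpositions generate a solvable subgroup. -/
theorem result (n : ℕ) (a b c : Equiv.Perm (Fin n))
    (ha : a.IsSwap) (hb : b.IsSwap) (hc : c.IsSwap) :
    Group.IsSolvable (Subgroup.closure ({a, b, c} : Set (Equiv.Perm (Fin n)))) := by
  classical
  by_cases h1 : a.Disjoint c ∧ b.Disjoint c
  · exact solvable_pair_sup ha hb h1.1 h1.2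
  by_cases h2 : b.Disjoint a ∧ c.Disjoint a
  · have e : ({a, b, c} : Set (Equiv.Perm (Fin n))) = {b, c, a} := by ext x; simp; tauto
    rw [e]; exact solvable_pair_sup hb hc h2.1 h2.2
  by_cases h3 : a.Disjoint b ∧ c.Disjoint b
  · have e : ({a, b, c} : Set (Equiv.Perm (Fin n))) = {a, c, b} := by ext x; simp; tauto
    rw [e]; exact solvable_pair_sup ha hc h3.1 h3.2
  have hA := Equiv.Perm.card_support_eq_two.2 ha
  have hB := Equiv.Perm.card_support_eq_two.2 hb
  have hC := Equiv.Perm.card_support_eq_two.2 hc
  simp only [Equiv.Perm.disjoint_iff_disjoint_support] at h1 h2 h3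
  have hU : (a.support ∪ b.support ∪ c.support).card ≤ 4 := by
    have hsum : ∀ s t u : Finset (Fin n), t.card = 2 → (s ∪ u).card ≤ 3 → ¬ Disjoint (s ∪ u) t → (s ∪ u ∪ t).card ≤ 4 := by
      intro s t u ht hle hd
      have := Finset.card_union_add_card_inter (s ∪ u) t
      have : 0 < ((s ∪ u) ∩ t).card := Finset.card_pos.2 (Finset.not_disjoint_iff_nonempty_inter.1 hd)
      omega
    by_cases hab : Disjoint a.support b.support
    · have hca : ¬ Disjoint c.support a.support := fun h => h2 ⟨hab.symm, h⟩
      have hcb : ¬ Disjoint c.support b.support := fun h => h3 ⟨hab, h⟩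
      rw [Finset.union_right_comm]
      exact hsum _ _ _ hB (card_union_le_three hA hC (fun h => hca h.symm))
        (fun h => hcb (Finset.disjoint_union_left.1 h).2)
    · refine hsum _ _ _ hC (card_union_le_three hA hB hab) fun h => ?_
      exact h1 ⟨(Finset.disjoint_union_left.1 h).1, (Finset.disjoint_union_left.1 h).2⟩
  refine solvable_of_support _ hU _ fun g hg => ?_
  induction hg using Subgroup.closure_induction with
  | mem x hx =>
    rcases hx with rfl | rfl | rfl
    · exact Finset.subset_union_left.trans Finset.subset_union_left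
    · exact Finset.subset_union_right.trans Finset.subset_union_left
    · exact Finset.subset_union_right
  | one => simp
  | mul x y _ _ hx hy => exact (Equiv.Perm.support_mul_le x y).trans (Finset.union_subset hx hy)
  | inv x _ hx => rwa [Equiv.Perm.support_inv]

end Cfsg.Agent.S4337
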