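import Cfsg.Statements.S4342
import Cfsg.Agent.H78.SylowCount

set_option autoImplicit false
open Cfsg

namespace Cfsg.Agent.S4342

open Subgroup in
theorem sylow_le_of_not_dvd_index {G : Type*} [Group G] [Finite G] (p : ℕ) [Fact p.Prime]
    (H : Subgroup G) [H.Normal] (hp : ¬ p ∣ H.index) (P : Sylow p G) : (P : Subgroup G) ≤ H := by
  have h : IsPGroup p ((P : Subgroup G).map (QuotientGroup.mk' H)) := P.2.map _
  obtain ⟨k, hk⟩ := IsPGroup.iff_card.mp h
  have hd : Nat.card ((P : Subgroup G).map (QuotientGroup.mk' H)) ∣ H.index :=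
    Subgroup.card_subgroup_dvd_card _
  rcases k with _ | k
  · rw [pow_zero, Subgroup.card_eq_one, Subgroup.map_eq_bot_iff, QuotientGroup.ker_mk'] at hk
    exact hk
  · exact absurd ((dvd_pow_self p k.succ_ne_zero).trans (hk ▸ hd)) hp

/-- Let H be a normal subgroup of a finite group G and p a prime not dividing the index of H. Then the number of Sylow p-subgroups of H/Z(H) equals the number of Sylow p-subgroups of G. -/
theorem result {G : Type*} [Group G] [Finite G]
    (p : ℕ) [Fact p.Prime] (H : Subgroup G) [H.Normal] (hp : ¬ p ∣ H.index) :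
    Nat.card (Sylow p (H ⧸ Subgroup.center H)) = Nat.card (Sylow p G) := by
  have hle := sylow_le_of_not_dvd_index p H hp
  have e1 : Nat.card (Sylow p H) = Nat.card (Sylow p G) := by
    refine (Nat.card_congr (Equiv.ofBijective (fun P : Sylow p G => P.subtype (hle P))
      ⟨fun P Q h => Sylow.subtype_injective h, fun Q => ?_⟩)).symm
    obtain ⟨P, hP⟩ := (Q.2.map H.subtype).exists_le_sylow
    exact ⟨P, Sylow.ext (Q.is_maximal' (P.subtype (hle P)).2 (Subgroup.map_le_iff_le_comap.mp hP))⟩
  rw [← e1]
  obtain ⟨Q⟩ : Nonempty (Sylow p H) := inferInstance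
  rw [Cfsg.Agent.H78.card_sylow_quotient (Subgroup.center H) Q, Q.card_eq_index_normalizer]
  congr 1
  refine le_antisymm (fun g hg => ?_) (Cfsg.Agent.H78.normalizer_sylow_le _ _)
  have hM : (Q : Subgroup H) ≤ (Q : Subgroup H) ⊔ Subgroup.center H := le_sup_left
  have hn : ((Q.subtype hM : Sylow p ↥((Q : Subgroup H) ⊔ Subgroup.center H)) : Subgroup ↥((Q : Subgroup H) ⊔ Subgroup.center H)).Normal := by
    rw [Sylow.coe_subtype, Subgroup.normal_subgroupOf_iff_le_normalizer hM]
    exact sup_le Subgroup.le_normalizer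
      ((Subgroup.center_le_centralizer _).trans (Subgroup.centralizer_le_normalizer _))
  have := Sylow.unique_of_normal (Q.subtype hM) hn
  have h2 : ((g • Q : Sylow p H) : Subgroup H) ≤ (Q : Subgroup H) ⊔ Subgroup.center H := by
    intro x hx
    rw [Sylow.coe_subgroup_smul, Subgroup.mem_pointwise_smul_iff_inv_smul_mem] at hx
    have h3 := (Subgroup.mem_normalizer_iff.mp hg _).mp (hM hx)
    simpa [MulAut.smul_def, mul_assoc] using h3
  have h4 : g • Q = Q :=
    Sylow.subtype_injective (hP := h2) (hQ := hM) (Subsingleton.elim _ _)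
  exact Sylow.smul_eq_iff_mem_normalizer.mp h4

end Cfsg.Agent.S4342
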