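import Cfsg.Statements.S4344

set_option autoImplicit false
open Cfsg

namespace Cfsg.Agent.S4344

/-- Let S be a finite non-abelian simple group, M a maximal subgroup of S and C a cyclic normal subgroup of M. If a Sylow p-subgroup P of S (for a prime p dividing the order of S) is contained in C, then the number of Sylow p-subgroups of S equals the index of M. -/
theorem result {S : Type*} [Group S] [Finite S]
    [IsSimpleGroup S] (hS : ¬ IsMulCommutative S) (p : ℕ) [Fact p.Prime] (hp : p ∣ Nat.card S)
    (M : Subgroup S) (hM : IsCoatom M) (C : Subgroup S) (hCM : C ≤ M) (hCn : (C.subgroupOf M).Normal)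
    (hC : IsCyclic C) (P : Sylow p S) (hP : (P : Subgroup S) ≤ C) :
    Nat.card (Sylow p S) = M.index := by
  have hab : IsMulCommutative C := ⟨⟨fun a b => by
    obtain ⟨g, hg⟩ := hC.exists_generator
    obtain ⟨i, rfl⟩ := Subgroup.mem_zpowers_iff.mp (hg a)
    obtain ⟨j, rfl⟩ := Subgroup.mem_zpowers_iff.mp (hg b)
    rw [← zpow_add, add_comm, zpow_add]⟩⟩
  have : (P.subtype hP : Subgroup C).Normal := Subgroup.normal_of_comm _
  have := Sylow.unique_of_normal (P.subtype hP) this
  have hMN : M ≤ Subgroup.normalizer ((P : Subgroup S) : Set S) := by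
    intro m hm
    have hle : ((m • P : Sylow p S) : Subgroup S) ≤ C := by
      intro x hx
      rw [Sylow.coe_subgroup_smul, Subgroup.mem_pointwise_smul_iff_inv_smul_mem] at hx
      have h3 := (Subgroup.normal_subgroupOf_iff hCM).mp hCn _ m (hP hx) hm
      simpa [MulAut.smul_def, mul_assoc] using h3
    exact Sylow.smul_eq_iff_mem_normalizer.mp
      (Sylow.subtype_injective (hP := hle) (hQ := hP) (Subsingleton.elim _ _))
  have hne : Subgroup.normalizer ((P : Subgroup S) : Set S) ≠ ⊤ := by
    intro h
    have hn : (P : Subgroup S).Normal := Subgroup.normalizer_eq_top_iff.mp h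
    rcases IsSimpleGroup.eq_bot_or_eq_top_of_normal _ hn with h1 | h1
    · exact P.ne_bot_of_dvd_card hp h1
    · exact hS ⟨⟨fun a b => by
        have ha : a ∈ C := hP (h1 ▸ Subgroup.mem_top a)
        have hb : b ∈ C := hP (h1 ▸ Subgroup.mem_top b)
        exact congrArg Subtype.val (mul_comm' (⟨a, ha⟩ : C) ⟨b, hb⟩)⟩⟩
  have heq := hM.le_iff.mp hMN
  rcases heq with h | h
  · exact absurd h hne
  · rw [P.card_eq_index_normalizer, ← Sylow.coe_coe, h]

end Cfsg.Agent.S4344
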