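import Cfsg.Statements.S4346
import Cfsg.Agent.H79.SylowTwentyTwo
import Cfsg.Agent.H78.SylowFactors

set_option autoImplicit false
open Cfsg

namespace Cfsg.Agent.S4346

universe u

theorem list_case : ∀ l : List ℕ, l.prod = 22 → (∀ m ∈ l, m % 3 = 1) → 22 ∈ l := by
  intro l
  induction l with
  | nil => intro h _; simp at h
  | cons a t ih =>
    intro h hm
    rw [List.prod_cons] at h
    have ha : a ∈ (22 : ℕ).divisors :=
      Nat.mem_divisors.2 ⟨⟨_, h.symm⟩, by norm_num⟩
    have ha1 := hm a (by simp)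
    have key : ∀ d ∈ (22 : ℕ).divisors, d % 3 = 1 → d = 1 ∨ d = 22 := by decide
    rcases key a ha ha1 with rfl | rfl
    · exact List.mem_cons_of_mem _ (ih (by simpa using h) fun m hm' => hm m (List.mem_cons_of_mem _ hm'))
    · simp

/-- No finite group has exactly 22 Sylow 3-subgroups. -/
theorem result {G : Type*} [Group G] [Finite G] : Nat.card (Sylow 3 G) ≠ 22 := by
  intro h
  haveI : Fact (Nat.Prime 3) := ⟨Nat.prime_three⟩
  obtain ⟨l, hl, hm⟩ := Cfsg.Agent.H78.goodFactors_card_sylow G 3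
  have h22 : 22 ∈ l := list_case l (hl.trans h) fun m hml => by
    rcases hm m hml with ⟨-, h1⟩ | ⟨S, _, _, -, rfl⟩
    · exact h1
    · exact (card_sylow_modEq_one 3 S)
  rcases hm 22 h22 with ⟨hp, -⟩ | ⟨S, _, _, hS, hc⟩
  · obtain ⟨p, k, hp, hk, he⟩ := hp
    have hp' := hp.nat_prime
    have h2 : 2 ∣ p ^ k := he ▸ by norm_num
    have h11 : 11 ∣ p ^ k := he ▸ by norm_num
    have e1 := (Nat.prime_dvd_prime_iff_eq Nat.prime_two hp').1 (Nat.prime_two.dvd_of_dvd_pow h2)
    have e2 := (Nat.prime_dvd_prime_iff_eq (by norm_num) hp').1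
      ((by norm_num : Nat.Prime 11).dvd_of_dvd_pow h11)
    omega
  · exact Cfsg.Agent.H79.Deg22.false_of_card_sylow (S := S) hc.symm

end Cfsg.Agent.S4346
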