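import Cfsg.Statements.S4347

set_option autoImplicit false
open Cfsg

namespace Cfsg.Agent.S4347

/-- Let G be a finite group and p a prime. Say a Sylow p-subgroup Q is redundant when every element of p-power order lies in some Sylow p-subgroup other than Q. Then G has no redundant Sylow p-subgroup if and only if some element of p-power order lies in exactly one Sylow p-subgroup. -/
theorem result {G : Type*} [Group G] [Finite G]
    (p : ℕ) [Fact p.Prime] :
    (¬ ∃ Q : Sylow p G, ∀ x : G, (∃ k : ℕ, orderOf x = p ^ k) → ∃ P : Sylow p G, P ≠ Q ∧ x ∈ P) ↔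
      ∃ x : G, (∃ k : ℕ, orderOf x = p ^ k) ∧ ∃! P : Sylow p G, x ∈ P := by
  constructor
  · intro h
    let Q : Sylow p G := default
    push Not at h
    obtain ⟨x, ⟨k, hk⟩, hu⟩ := h Q
    refine ⟨x, ⟨k, hk⟩, ?_⟩
    have hp : IsPGroup p (Subgroup.zpowers x) := IsPGroup.of_card (n := k) (by rw [Nat.card_zpowers, hk])
    obtain ⟨P, hP⟩ := hp.exists_le_sylow
    have hxP : x ∈ P := hP (Subgroup.mem_zpowers x)
    have hPQ : P = Q := by
      by_contra hne
      exact hu P hne hxP
    refine ⟨P, hxP, fun R hR => ?_⟩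
    by_contra hne
    exact hu R (hPQ ▸ hne) hR
  · rintro ⟨x, hx, P, hxP, hu⟩ ⟨Q, hQ⟩
    obtain ⟨g, hg⟩ := MulAction.exists_smul_eq G P Q
    obtain ⟨R, hR, hxR⟩ := hQ (g * x * g⁻¹) (by
      obtain ⟨k, hk⟩ := hx
      exact ⟨k, by
        have := (MulAut.conj g).orderOf_eq x
        rw [MulAut.conj_apply] at this
        rw [this, hk]⟩)
    apply hR
    have h1 : x ∈ g⁻¹ • R := by
      show x ∈ ((g⁻¹ • R : Sylow p G) : Subgroup G)
      rw [Sylow.coe_subgroup_smul, Subgroup.mem_pointwise_smul_iff_inv_smul_mem]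
      simpa [MulAut.smul_def, mul_assoc] using (show g * x * g⁻¹ ∈ (R : Subgroup G) from hxR)
    have h2 := hu _ h1
    rw [← hg, ← h2, smul_inv_smul]

end Cfsg.Agent.S4347
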