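import Cfsg.Statements.S4348

set_option autoImplicit false
open Cfsg

namespace Cfsg.Agent.S4348

/-- Let G be a finite group, p a prime and P a Sylow p-subgroup of G, and let O_p(G) be the largest normal p-subgroup of G. If P/O_p(G) is cyclic, then some element of p-power order of G lies in exactly one Sylow p-subgroup. -/
theorem result {G : Type*} [Group G] [Finite G]
    (p : ℕ) [Fact p.Prime] (P : Sylow p G)
    [hn : ((Cfsg.pCore p G).subgroupOf (P : Subgroup G)).Normal]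
    (hc : IsCyclic ((P : Subgroup G) ⧸ (Cfsg.pCore p G).subgroupOf (P : Subgroup G))) :
    ∃ x : G, (∃ k : ℕ, orderOf x = p ^ k) ∧ ∃! Q : Sylow p G, x ∈ Q := by
  have hO : ∀ Q : Sylow p G, Cfsg.pCore p G ≤ (Q : Subgroup G) := by
    intro Q
    refine sSup_le fun N hN => ?_
    obtain ⟨hNn, hNp⟩ := hN
    have hsup : IsPGroup p ↥((Q : Subgroup G) ⊔ N) := Q.isPGroup'.to_sup_of_normal_right hNp
    have := Q.is_maximal' hsup le_sup_left
    exact le_sup_right.trans this.le
  obtain ⟨g, hg⟩ := IsCyclic.exists_generator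
    (α := (P : Subgroup G) ⧸ (Cfsg.pCore p G).subgroupOf (P : Subgroup G))
  obtain ⟨x, rfl⟩ := QuotientGroup.mk_surjective g
  obtain ⟨k, hk⟩ := IsPGroup.iff_orderOf.1 P.isPGroup' x
  refine ⟨(x : G), ⟨k, by rw [Subgroup.orderOf_coe, hk]⟩, P, x.2, fun Q hxQ => ?_⟩
  have hle : (P : Subgroup G) ≤ (Q : Subgroup G) := by
    intro y hy
    obtain ⟨n, hn'⟩ := Subgroup.mem_zpowers_iff.1 (hg (QuotientGroup.mk ⟨y, hy⟩))
    rw [← QuotientGroup.mk_zpow, QuotientGroup.eq, Subgroup.mem_subgroupOf] at hn'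
    have h1 : ((x : G) ^ n)⁻¹ * y ∈ (Q : Subgroup G) := by
      simpa using hO Q hn'
    have h2 : (x : G) ^ n ∈ (Q : Subgroup G) := Subgroup.zpow_mem _ hxQ n
    simpa using Subgroup.mul_mem _ h2 h1
  exact Sylow.ext (P.is_maximal' Q.isPGroup' hle)

end Cfsg.Agent.S4348
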