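import Cfsg.Statements.S4354
import Cfsg.Agent.H76.PElements
import Cfsg.Agent.Cores.Basic

set_option autoImplicit false
open Cfsg

namespace Cfsg.Agent.S4354

variable {G : Type*} [Group G] [Finite G] {p : ℕ} [Fact p.Prime]

/-- Every element of `p`-power order is centralized by a Sylow subgroup. -/
def Central (p : ℕ) (G : Type*) [Group G] : Prop :=
  ∀ x : G, (∃ k : ℕ, orderOf x = p ^ k) → ∃ Q : Sylow p G,
    (Q : Subgroup G) ≤ Subgroup.centralizer ({x} : Set G)

theorem exists_sylow_le {K : Subgroup G} (h : p ^ (Nat.card G).factorization p ∣ Nat.card K) :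
    ∃ Q : Sylow p G, (Q : Subgroup G) ≤ K := by
  obtain ⟨R, hR⟩ := Sylow.exists_subgroup_card_pow_prime (G := K) p h
  refine ⟨Sylow.ofCard (R.map K.subtype) ?_, ?_⟩
  · rw [Subgroup.card_map_of_injective K.subtype_injective, hR]
  · rw [Sylow.coe_ofCard]; exact Subgroup.map_subtype_le R

theorem dvd_card_of_not_dvd_index {K : Subgroup G} (h : ¬ p ∣ K.index) :
    p ^ (Nat.card G).factorization p ∣ Nat.card K := by
  rw [← K.card_mul_index, Nat.factorization_mul Nat.card_pos.ne' Subgroup.index_ne_zero_of_finite,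
    Finsupp.add_apply, Nat.factorization_eq_zero_of_not_dvd h, add_zero]
  exact Nat.ordProj_dvd _ _

theorem not_dvd_index_of_central (h : Central p G) (x : G) (hx : ∃ k : ℕ, orderOf x = p ^ k) :
    ¬ p ∣ (Subgroup.centralizer ({x} : Set G)).index := by
  obtain ⟨Q, hQ⟩ := h x hx
  exact fun hd => Q.not_dvd_index (hd.trans (Subgroup.index_dvd_of_le hQ))

/-- A central extension of a group with abelian Sylow subgroup: the commutator vanishes. -/
theorem comm_of_central (h : Central p G) (Z : Subgroup G) (hZ : ∀ z ∈ Z, ∀ g : G, g * z = z * g)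
    (P : Sylow p G) (hP : ∀ x ∈ (P : Subgroup G), ∀ y ∈ (P : Subgroup G), y * x * y⁻¹ * x⁻¹ ∈ Z) :
    ∀ x ∈ (P : Subgroup G), ∀ y ∈ (P : Subgroup G), y * x = x * y := by
  intro x hx y hy
  obtain ⟨Q, hQ⟩ := h x (H76.pElement_of_mem_sylow hx)
  let f : G → G := fun g => g * x * g⁻¹ * x⁻¹
  have fmul : ∀ a b, f b ∈ Z → f (a * b) = f b * f a := by
    intro a b hb
    have e : f (a * b) = a * f b * (x * a⁻¹ * x⁻¹) := by simp only [f]; group
    rw [e, hZ _ hb a]; simp only [f]; group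
  have finv : ∀ a, f a ∈ Z → f a⁻¹ = (f a)⁻¹ := by
    intro a ha
    have e := fmul a⁻¹ a ha
    have h1 : f 1 = 1 := by simp only [f]; group
    rw [inv_mul_cancel, h1] at e
    exact eq_inv_of_mul_eq_one_right e.symm
  let D : Subgroup G :=
    { carrier := {g | f g ∈ Z}
      one_mem' := by
        show f 1 ∈ Z
        have h1 : f 1 = 1 := by simp only [f]; group
        rw [h1]; exact Z.one_mem
      mul_mem' := fun {a b} ha hb => by
        show f (a * b) ∈ Z
        rw [fmul a b hb]; exact Z.mul_mem hb ha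
      inv_mem' := fun {a} ha => by
        show f a⁻¹ ∈ Z
        rw [finv a ha]; exact Z.inv_mem ha }
  have hQ1 : ∀ q ∈ (Q : Subgroup G), f q = 1 := by
    intro q hq
    have := Subgroup.mem_centralizer_singleton_iff.mp (hQ hq)
    simp only [f]; rw [this]; group
  have hPD : (P : Subgroup G) ≤ D := fun g hg => hP x hx g hg
  have hQD : (Q : Subgroup G) ≤ D := fun g hg => by
    show f g ∈ Z
    rw [hQ1 g hg]; exact Z.one_mem
  obtain ⟨d, hd⟩ := MulAction.exists_smul_eq D (P.subtype hPD) (Q.subtype hQD)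
  have hdy : (d : G) * y * (d : G)⁻¹ ∈ (Q : Subgroup G) := by
    have h1 : MulAut.conj d (⟨y, hPD hy⟩ : D) ∈ ((d • P.subtype hPD : Sylow p D) : Subgroup D) := by
      rw [Sylow.coe_subgroup_smul]
      exact Subgroup.smul_mem_pointwise_smul _ _ _ hy
    rw [hd] at h1
    exact h1
  have hfy : f y ∈ Z := hPD hy
  have hfd : f d ∈ Z := d.2
  have hfdi : f (d : G)⁻¹ ∈ Z := D.inv_mem d.2
  have h2 := hQ1 _ hdy
  rw [fmul _ _ hfdi, fmul _ _ hfy, finv _ hfd] at h2
  have h3 : f y = 1 := by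
    rw [← mul_assoc, hZ _ hfy (f (d : G))⁻¹] at h2
    simpa [mul_assoc] using h2
  simp only [f] at h3
  rwa [mul_inv_eq_one, mul_inv_eq_iff_eq_mul] at h3

theorem card_inf (S : Sylow p G) (N : Subgroup G) [N.Normal] :
    Nat.card ((S : Subgroup G) ⊓ N : Subgroup G) = p ^ (Nat.card N).factorization p :=
  H76.card_inf_sylow S N

/-- The Sylow subgroups are abelian if those of `N` and of `G ⧸ N` are. -/
theorem comm_of_normal (h : Central p G) (N : Subgroup G) [N.Normal]
    (hN : ∀ S : Sylow p N, IsMulCommutative S) (hQt : ∀ S : Sylow p (G ⧸ N), IsMulCommutative S)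
    (P : Sylow p G) : IsMulCommutative P := by
  set A : Subgroup G := (P : Subgroup G) ⊓ N with hA
  have hsyl : ∀ R : Sylow p G, ∃ S : Sylow p N,
      (S : Subgroup N) = ((R : Subgroup G) ⊓ N).subgroupOf N := by
    intro R
    refine ⟨Sylow.ofCard (((R : Subgroup G) ⊓ N).subgroupOf N) ?_, by rw [Sylow.coe_ofCard]⟩
    rw [Nat.card_congr (Subgroup.subgroupOfEquivOfLe inf_le_right).toEquiv, card_inf R N]
  obtain ⟨SA, hSA⟩ := hsyl P
  have hAcomm : ∀ a ∈ A, ∀ b ∈ A, a * b = b * a := by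
    intro a ha b hb
    have := hN SA
    exact congrArg (fun z : ↥(SA : Subgroup N) => ((z : N) : G))
      (this.is_comm.comm (⟨⟨a, ha.2⟩, by rw [hSA]; exact ha⟩ : ↥(SA : Subgroup N))
        ⟨⟨b, hb.2⟩, by rw [hSA]; exact hb⟩)
  set C := Subgroup.centralizer (A : Set G) with hC
  have hAC : A ≤ C := fun a ha => Subgroup.mem_centralizer_iff.mpr fun b hb => (hAcomm a ha b hb).symm
  have hPT : (P : Subgroup G) ≤ C ⊔ N := by
    intro y hy
    obtain ⟨Q, hQ⟩ := h y (H76.pElement_of_mem_sylow hy)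
    obtain ⟨SQ, hSQ⟩ := hsyl Q
    obtain ⟨n, hn⟩ := MulAction.exists_smul_eq N SA SQ
    have key : (n : G)⁻¹ * y * (n : G) ∈ C := by
      rw [hC, Subgroup.mem_centralizer_iff]
      intro a ha
      have h1 : MulAut.conj n (⟨a, ha.2⟩ : N) ∈ ((n • SA : Sylow p N) : Subgroup N) := by
        rw [Sylow.coe_subgroup_smul]
        exact Subgroup.smul_mem_pointwise_smul _ _ _ (show (⟨a, ha.2⟩ : N) ∈ (SA : Subgroup N) by
          rw [hSA]; exact ha)
      rw [hn, hSQ] at h1
      have h2 : ((n : G) * a * (n : G)⁻¹) * y = y * ((n : G) * a * (n : G)⁻¹) :=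
        Subgroup.mem_centralizer_singleton_iff.mp (hQ h1.1)
      calc a * ((n : G)⁻¹ * y * n) = (n : G)⁻¹ * (((n : G) * a * (n : G)⁻¹) * y) * n := by group
        _ = (n : G)⁻¹ * (y * ((n : G) * a * (n : G)⁻¹)) * n := by rw [h2]
        _ = (n : G)⁻¹ * y * n * a := by group
    have e : y = (n : G) * ((n : G)⁻¹ * y * n) * (n : G)⁻¹ := by group
    rw [e]
    exact (C ⊔ N).mul_mem ((C ⊔ N).mul_mem (Subgroup.mem_sup_right n.2) (Subgroup.mem_sup_left key))
      (Subgroup.mem_sup_right (N.inv_mem n.2))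
  have hdvdC : p ^ (Nat.card G).factorization p ∣ Nat.card C := by
    have hp : p.Prime := Fact.out
    have e1 := Cfsg.Agent.Cores.card_sup_mul_card_inf C N
    have h1 : p ^ (Nat.card G).factorization p ∣ Nat.card ↥(C ⊔ N) := by
      rw [← P.card_eq_multiplicity]; exact Subgroup.card_dvd_of_le hPT
    have h2 : p ^ (Nat.card N).factorization p ∣ Nat.card ↥(C ⊓ N) := by
      rw [← card_inf P N]; exact Subgroup.card_dvd_of_le (le_inf hAC inf_le_right)
    have h3 := congrArg (fun m : ℕ => m.factorization p) e1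
    simp only [Nat.factorization_mul Nat.card_pos.ne' Nat.card_pos.ne', Finsupp.add_apply] at h3
    rw [hp.pow_dvd_iff_le_factorization Nat.card_pos.ne'] at h1 h2 ⊢
    omega
  obtain ⟨P₁, hP₁⟩ := exists_sylow_le hdvdC
  have hA1 : A ≤ (P₁ : Subgroup G) := by
    have hnc : (P₁ : Subgroup G) ≤ Subgroup.normalizer (A : Set G) :=
      hP₁.trans (Subgroup.centralizer_le_normalizer (A : Set G))
    have hsup := P₁.isPGroup'.to_sup_of_normal_right' (P.isPGroup'.to_le (inf_le_left : A ≤ _)) hnc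
    exact le_sup_right.trans (P₁.is_maximal' hsup le_sup_left).le
  have heq : ∀ R : Sylow p G, A ≤ (R : Subgroup G) → (R : Subgroup G) ⊓ N = A := by
    intro R hR
    refine (Subgroup.eq_of_le_of_card_ge (le_inf hR inf_le_right) ?_).symm
    rw [card_inf R N, hA, card_inf P N]
  have hall : ∀ R : Sylow p G, A ≤ (R : Subgroup G) → (R : Subgroup G) ≤ C := by
    intro R hR r hr
    obtain ⟨g, hg⟩ := MulAction.exists_smul_eq G P₁ R
    have hr' : g⁻¹ * r * g ∈ (P₁ : Subgroup G) := by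
      rw [← hg, Sylow.coe_subgroup_smul, Subgroup.mem_pointwise_smul_iff_inv_smul_mem] at hr
      simpa [MulAut.smul_def, mul_assoc] using hr
    rw [hC, Subgroup.mem_centralizer_iff]
    intro a ha
    have ha' : g⁻¹ * a * g ∈ (P₁ : Subgroup G) ⊓ N := by
      refine ⟨?_, by simpa using Subgroup.Normal.conj_mem ‹N.Normal› a ha.2 g⁻¹⟩
      have := hR ha
      rw [← hg, Sylow.coe_subgroup_smul, Subgroup.mem_pointwise_smul_iff_inv_smul_mem] at this
      simp [MulAut.smul_def, ← mul_assoc] at this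
      exact this
    rw [heq P₁ hA1] at ha'
    have h2 := Subgroup.mem_centralizer_iff.mp (hP₁ hr') _ ha'
    calc a * r = g * ((g⁻¹ * a * g) * (g⁻¹ * r * g)) * g⁻¹ := by group
      _ = g * ((g⁻¹ * r * g) * (g⁻¹ * a * g)) * g⁻¹ := by rw [h2]
      _ = r * a := by group
  have hH : Central p C := by
    rintro ⟨x, hx⟩ ⟨k, hk⟩
    rw [Subgroup.orderOf_mk] at hk
    set K := Subgroup.centralizer ({x} : Set G) with hK
    have hAK : A ≤ K := fun a ha =>
      Subgroup.mem_centralizer_singleton_iff.mpr (Subgroup.mem_centralizer_iff.mp hx a ha)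
    have hpA : IsPGroup p (A.subgroupOf K) :=
      (P.isPGroup'.to_le (inf_le_left : A ≤ _)).of_equiv (Subgroup.subgroupOfEquivOfLe hAK).symm
    obtain ⟨R, hR⟩ := hpA.exists_le_sylow
    have hi : ¬ p ∣ ((R : Subgroup K).map K.subtype).index := by
      rw [Subgroup.index_map_subtype]
      intro hd
      rcases (Fact.out : p.Prime).dvd_mul.mp hd with h1 | h1
      · exact R.not_dvd_index h1
      · exact not_dvd_index_of_central h x ⟨k, hk⟩ h1
    let R' : Sylow p G := IsPGroup.toSylow (R.isPGroup'.map K.subtype) hi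
    have hR'c : (R' : Subgroup G) = (R : Subgroup K).map K.subtype := IsPGroup.toSylow_coe _ _
    have hAR : A ≤ (R' : Subgroup G) := by
      rw [hR'c]
      exact fun a ha => ⟨⟨a, hAK ha⟩, hR ha, rfl⟩
    refine ⟨R'.subtype (hall R' hAR), fun r hr => ?_⟩
    have hr' : ((r : G)) ∈ K := by
      have h1 : (r : G) ∈ (R : Subgroup K).map K.subtype := hR'c ▸ hr
      exact Subgroup.map_subtype_le _ h1
    exact Subgroup.mem_centralizer_singleton_iff.mpr
      (Subtype.ext (Subgroup.mem_centralizer_singleton_iff.mp hr'))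
  have hc1 : ∀ x ∈ (P₁ : Subgroup G), ∀ y ∈ (P₁ : Subgroup G), y * x * y⁻¹ * x⁻¹ ∈ A := by
    intro x hx y hy
    rw [← heq P₁ hA1]
    refine ⟨Subgroup.mul_mem _ (Subgroup.mul_mem _ (Subgroup.mul_mem _ hy hx) (Subgroup.inv_mem _ hy)) (Subgroup.inv_mem _ hx), ?_⟩
    let S := P₁.mapSurjective (QuotientGroup.mk'_surjective N)
    have := hQt S
    have e : (QuotientGroup.mk' N) y * QuotientGroup.mk' N x =
        QuotientGroup.mk' N x * QuotientGroup.mk' N y :=
      congrArg (fun z : ↥(S : Subgroup (G ⧸ N)) => (z : G ⧸ N))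
        (this.is_comm.comm ⟨_, Subgroup.mem_map_of_mem _ hy⟩ ⟨_, Subgroup.mem_map_of_mem _ hx⟩)
    show y * x * y⁻¹ * x⁻¹ ∈ N
    rw [← QuotientGroup.eq_one_iff]
    show QuotientGroup.mk' N (y * x * y⁻¹ * x⁻¹) = 1
    rw [map_mul, map_mul, map_mul, map_inv, map_inv, e]
    group
  have hfin : ∀ x ∈ (P₁ : Subgroup G), ∀ y ∈ (P₁ : Subgroup G), y * x = x * y := by
    intro x hx y hy
    have := comm_of_central hH (A.subgroupOf C)
      (fun z hz g => Subtype.ext (Subgroup.mem_centralizer_iff.mp g.2 z hz).symm)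
      (P₁.subtype hP₁) (fun u hu v hv => hc1 u hu v hv) ⟨x, hP₁ hx⟩ hx ⟨y, hP₁ hy⟩ hy
    exact congrArg Subtype.val this
  have hP1c : IsMulCommutative P₁ := ⟨⟨fun a b => Subtype.ext (hfin b b.2 a a.2)⟩⟩
  refine ⟨⟨fun a b => ?_⟩⟩
  exact (P.equiv P₁).injective (by rw [map_mul, map_mul]; exact hP1c.is_comm.comm _ _)


/-- Let G be a finite group and p a prime such that the Sylow p-subgroups of G are non-abelian while every element of p-power order has conjugacy class size prime to p, and suppose no nontrivial proper normal subgroup N of G has this property and no quotient G/N by such an N has it. Then G is simple. -/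
theorem result {G : Type*} [Group G] [Finite G]
    (p : ℕ) [Fact p.Prime] (h : ((∃ P : Sylow p G, ¬ IsMulCommutative P) ∧ ∀ x : G, (∃ k : ℕ, orderOf x = p ^ k) → ¬ p ∣ (Subgroup.centralizer ({x} : Set G)).index))
    (hmin : ∀ (N : Subgroup G) [N.Normal], N ≠ ⊥ → N ≠ ⊤ →
      ¬ ((∃ P : Sylow p N, ¬ IsMulCommutative P) ∧ ∀ x : N, (∃ k : ℕ, orderOf x = p ^ k) → ¬ p ∣ (Subgroup.centralizer ({x} : Set N)).index) ∧
      ¬ ((∃ P : Sylow p (G ⧸ N), ¬ IsMulCommutative P) ∧ ∀ x : (G ⧸ N), (∃ k : ℕ, orderOf x = p ^ k) → ¬ p ∣ (Subgroup.centralizer ({x} : Set (G ⧸ N))).index)) :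
    IsSimpleGroup G := by
  obtain ⟨⟨P, hP⟩, hcls⟩ := h
  have hc : Central p G := fun x hx => exists_sylow_le (dvd_card_of_not_dvd_index (hcls x hx))
  haveI : Nontrivial G := by
    by_contra hn
    haveI := not_nontrivial_iff_subsingleton.mp hn
    exact hP ⟨⟨fun a b => Subtype.ext (Subsingleton.elim _ _)⟩⟩
  refine ⟨fun N hN => ?_⟩
  haveI := hN
  by_contra hne
  rw [not_or] at hne
  obtain ⟨h1, h2⟩ := hmin N hne.1 hne.2
  refine hP (comm_of_normal hc N (fun S => ?_) (fun S => ?_) P)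
  · by_contra hS
    refine h1 ⟨⟨S, hS⟩, fun x hx => ?_⟩
    obtain ⟨Q, hQ⟩ := hc (x : G) (by
      obtain ⟨k, hk⟩ := hx; exact ⟨k, by rw [Subgroup.orderOf_coe, hk]⟩)
    intro hd
    have hle : ((Q : Subgroup G) ⊓ N).subgroupOf N ≤ Subgroup.centralizer ({x} : Set N) := fun r hr =>
      Subgroup.mem_centralizer_singleton_iff.mpr
        (Subtype.ext (Subgroup.mem_centralizer_singleton_iff.mp (hQ hr.1)))
    let R : Sylow p N := Sylow.ofCard (((Q : Subgroup G) ⊓ N).subgroupOf N)
      (by rw [Nat.card_congr (Subgroup.subgroupOfEquivOfLe inf_le_right).toEquiv, card_inf Q N])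
    have h3 : (R : Subgroup N) = ((Q : Subgroup G) ⊓ N).subgroupOf N := Sylow.coe_ofCard _ _
    exact R.not_dvd_index (hd.trans (Subgroup.index_dvd_of_le (h3 ▸ hle)))
  · by_contra hS
    refine h2 ⟨⟨S, hS⟩, fun y hy => ?_⟩
    obtain ⟨x, hx, rfl⟩ := H76.exists_pElement_lift N hy
    obtain ⟨Q, hQ⟩ := hc x hx
    intro hd
    refine (Q.mapSurjective (QuotientGroup.mk'_surjective N)).not_dvd_index
      (hd.trans (Subgroup.index_dvd_of_le ?_))
    rintro _ ⟨r, hr, rfl⟩
    exact Subgroup.mem_centralizer_singleton_iff.mpr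
      ((map_mul (QuotientGroup.mk' N) r x).symm.trans
        ((congrArg (QuotientGroup.mk' N) (Subgroup.mem_centralizer_singleton_iff.mp (hQ hr))).trans
          (map_mul (QuotientGroup.mk' N) x r)))

end Cfsg.Agent.S4354
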