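import Cfsg.Statements.S4359
import Cfsg.Agent.H60.Windows

set_option autoImplicit false
open Pointwise
open Cfsg

namespace Cfsg.Agent.S4359

namespace Aux

open H60.Windows

theorem bound {G : Type*} [Group G] [Finite G] {P : Subgroup G} {g : G} {p s : ℕ}
    (D : Gen P g p s) (n : ℕ) (hns : n < s)
    (hcen : ∀ j : ℕ, j < s → ∃ i : ℕ, i < s + n ∧ ¬ Commute (D.x j) (D.x i)) : s ≤ 3 * n ∧ s ≠ 3 * n - 1 := by
  classical
  set j₀ := (s + n - 1) / 2 with hj₀
  obtain ⟨i₀, hi₀, hne₀⟩ := hcen j₀ (by omega)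
  have hex : ∃ d : ℕ, ∃ a : ℤ, ¬ Commute (D.x a) (D.x (a + d)) := by
    rcases le_total j₀ i₀ with h | h
    · exact ⟨i₀ - j₀, j₀, by rwa [show (j₀ : ℤ) + ((i₀ - j₀ : ℕ) : ℤ) = i₀ by omega]⟩
    · exact ⟨j₀ - i₀, i₀, fun hc => hne₀ (by
        rw [show (i₀ : ℤ) + ((j₀ - i₀ : ℕ) : ℤ) = j₀ by omega] at hc; exact hc.symm)⟩
  set d := Nat.find hex with hd
  have hdle : 2 * d ≤ s + n := by
    rcases le_total j₀ i₀ with h | h
    · have := Nat.find_min' hex (m := i₀ - j₀) ⟨j₀, by
        rwa [show (j₀ : ℤ) + ((i₀ - j₀ : ℕ) : ℤ) = i₀ by omega]⟩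
      omega
    · have := Nat.find_min' hex (m := j₀ - i₀) ⟨i₀, fun hc => hne₀ (by
        rw [show (i₀ : ℤ) + ((j₀ - i₀ : ℕ) : ℤ) = j₀ by omega] at hc; exact hc.symm)⟩
      omega
  have hmin : ∀ a b : ℤ, (a - b).natAbs < d → Commute (D.x a) (D.x b) := by
    intro a b hab
    by_contra hc
    rcases le_total a b with h | h
    · exact Nat.find_min hex hab ⟨a, by rwa [show a + (((a - b).natAbs : ℕ) : ℤ) = b by omega]⟩
    · exact Nat.find_min hex hab ⟨b, fun hc' => hc (by
        rw [show b + (((a - b).natAbs : ℕ) : ℤ) = a by omega] at hc'; exact hc'.symm)⟩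
  obtain ⟨a, ha⟩ := Nat.find_spec hex
  have hne : ¬ Commute (D.x 0) (D.x (d : ℤ)) := by
    intro hc
    refine ha ?_
    have := hc.map (sh g a).toMonoidHom
    simpa [D.equivariant] using this
  have h := D.two_mul_le (d := d) (by omega) hne hmin
  omega

end Aux

/-- Let P be a subgroup of a finite group G and g an element such that P ∩ g⁻¹Pg is a normal subgroup of prime index p in g⁻¹Pg. Let n ≥ 1 and let K be the subgroup generated by P and its conjugates g⁻ⁱPgⁱ for i ≤ n. Suppose that g normalizes no non-identity normal subgroup of P and that P meets the center of K trivially. Then the order of P is pᵗ for some t with 1 ≤ t ≤ 3n and t ≠ 3n - 1. -/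
theorem result {G : Type*} [Group G] [Finite G]
    (P : Subgroup G) (g : G) (p : ℕ) (hp : p.Prime)
    (hN : ((P ⊓ MulAut.conj g⁻¹ • P).subgroupOf (MulAut.conj g⁻¹ • P)).Normal)
    (hidx : (P ⊓ MulAut.conj g⁻¹ • P).relIndex (MulAut.conj g⁻¹ • P) = p)
    (n : ℕ) (hn : 1 ≤ n) (K : Subgroup G) (hK : K = ⨆ i ∈ Finset.range (n + 1), MulAut.conj (g ^ i)⁻¹ • P)
    (h1 : ∀ Q : Subgroup G, Q ≤ P → (Q.subgroupOf P).Normal → MulAut.conj g • Q = Q → Q = ⊥)
    (h2 : P ⊓ (Subgroup.center K).map K.subtype = ⊥) :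
    ∃ t : ℕ, Nat.card P = p ^ t ∧ 1 ≤ t ∧ t ≤ 3 * n ∧ t ≠ 3 * n - 1 := by
  classical
  open H60.Windows in
  have S : Setup P g p := ⟨hp, hN, hidx, h1⟩
  obtain ⟨s, hs1, hcard⟩ := S.exists_length
  let W₀ : H60.Windows.Win P g p s := { toSetup := S, card_Q' := hcard }
  obtain ⟨x, hx1, hx2⟩ := W₀.exists_gen
  let D : H60.Windows.Gen P g p s := { toWin := W₀, x := x, W_one := hx1, equivariant := hx2 }
  have hP : Nat.card P = p ^ s := by
    have := hcard 0 (Nat.zero_le _)
    rwa [H60.Windows.Q_zero_zero, Nat.sub_zero] at this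
  refine ⟨s, hP, hs1, ?_⟩
  rcases le_or_gt s n with hns | hns
  · omega
  · refine Aux.bound D n hns fun j hj => ?_
    by_contra hno
    push Not at hno
    have hgen : ∀ i ∈ Finset.range (n + 1), MulAut.conj (g ^ i)⁻¹ • P ≤
        Subgroup.centralizer ({D.x j} : Set G) := by
      intro i hi
      have hWP : H60.Windows.W P g s s (i : ℤ) = MulAut.conj (g ^ i)⁻¹ • P := by
        rw [H60.Windows.W_self, H60.Windows.sh, zpow_natCast]
      rw [← hWP]
      refine D.span le_rfl fun k h1 h2 => ?_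
      obtain ⟨k', rfl⟩ := Int.eq_ofNat_of_zero_le (show 0 ≤ k by omega)
      have := Finset.mem_range.1 hi
      exact Subgroup.mem_centralizer_singleton_iff.2 (hno k' (by omega)).eq.symm
    have hjP : D.x j ∈ P := by
      have h := D.x_mem (i := 0) (j := (j : ℤ)) (le_refl s) (by omega) (by omega)
      rwa [H60.Windows.W_self, H60.Windows.sh_zero, one_smul] at h
    have hjK : D.x j ∈ K := by
      rw [hK]
      refine Subgroup.mem_iSup_of_mem 0 (Subgroup.mem_iSup_of_mem (Finset.mem_range.2 (by omega)) ?_)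
      rw [pow_zero, inv_one, map_one, one_smul]
      exact hjP
    have hcenter : (⟨D.x j, hjK⟩ : K) ∈ Subgroup.center K := by
      rw [Subgroup.mem_center_iff]
      intro y
      have hy : (y : G) ∈ Subgroup.centralizer ({D.x j} : Set G) :=
        (hK.le.trans (iSup₂_le hgen)) y.2
      exact Subtype.ext (Subgroup.mem_centralizer_singleton_iff.1 hy)
    have : D.x j ∈ P ⊓ (Subgroup.center K).map K.subtype := ⟨hjP, ⟨_, hcenter, rfl⟩⟩
    rw [h2, Subgroup.mem_bot] at this
    exact D.x_ne_one _ this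

end Cfsg.Agent.S4359
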