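import Cfsg.Statements.S4365
import Cfsg.Agent.H76.TwoClassSizes
import Cfsg.Agent.H76.MinClassAbelian
import Cfsg.Agent.H62.CoprimeFix

set_option autoImplicit false
open Cfsg
open scoped commutatorElement

namespace Cfsg.Agent.S4365

/-- Let P be a finite p-group whose conjugacy class sizes are exactly 1 and pᵃ for some a ≥ 1. Then every element of P has its p-th power in the center of P (P/Z(P) has exponent p). -/
theorem result {P : Type*} [Group P] [Finite P] (p : ℕ) [Fact p.Prime]
    (hP : IsPGroup p P) (a : ℕ) (ha : 1 ≤ a)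
    (hcs : {k : ℕ | ∃ x : P, (Subgroup.centralizer ({x} : Set P)).index = k} = {1, p ^ a}) (x : P) :
    x ^ p ∈ Subgroup.center P := by
  classical
  have hp : p.Prime := Fact.out
  have hn : 1 < p ^ a := Nat.one_lt_pow (by omega) hp.one_lt
  have hm : ∀ g : P, g ∉ Subgroup.center P →
      (Subgroup.centralizer ({g} : Set P)).index = p ^ a := by
    intro g hg
    have hmem : (Subgroup.centralizer ({g} : Set P)).index ∈ ({1, p ^ a} : Set ℕ) := hcs ▸ ⟨g, rfl⟩
    rcases hmem with h1 | h1
    · rw [Subgroup.index_eq_one, Subgroup.centralizer_eq_top_iff_subset,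
        Set.singleton_subset_iff] at h1
      exact absurd h1 hg
    · exact h1
  have hex : ∃ g : P, g ∉ Subgroup.center P := by
    by_contra hall
    push Not at hall
    obtain ⟨g, hg⟩ : p ^ a ∈ {k : ℕ | ∃ x : P, (Subgroup.centralizer ({x} : Set P)).index = k} := by
      rw [hcs]; exact Or.inr rfl
    rw [Cfsg.Agent.H76.eq_top_or_center_iff.mpr (hall g)] at hg
    omega
  obtain ⟨q, hq, hqg, B, hBn, hBc, hBp, hBout⟩ :=
    Cfsg.Agent.H76.ito_two_class_sizes _ hn hm hex
  have hqp : q = p := by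
    obtain ⟨g, hg⟩ := hex
    have : Nontrivial (P ⧸ Subgroup.center P) :=
      ⟨⟨QuotientGroup.mk g, 1, fun e => hg ((QuotientGroup.eq_one_iff g).mp e)⟩⟩
    have := Fact.mk hq
    obtain ⟨k, hk0, hk⟩ := (IsPGroup.nontrivial_iff_card hqg).mp inferInstance
    obtain ⟨l, hl⟩ := IsPGroup.iff_card.mp (hP.to_quotient (Subgroup.center P))
    exact (Nat.prime_dvd_prime_iff_eq hq hp).mp
      (hq.dvd_of_dvd_pow (hl ▸ hk ▸ dvd_pow_self q hk0.ne'))
  subst hqp
  by_cases hxB : x ∈ B
  · rw [Subgroup.mem_center_iff]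
    intro g
    have h1 := Cfsg.Agent.H76.commutatorElement_mem_center_of_equal_class hm B hBc g hxB
    set z := ⁅g, x⁆ with hz
    have h2 : Commute (g ^ q) x :=
      congrArg Subtype.val (hBc.is_comm.comm (⟨_, hBp g⟩ : B) ⟨x, hxB⟩)
    -- bilinearity
    have h3 : g * x = x * g * (z) := by
      have hc := Subgroup.mem_center_iff.mp h1 (x * g)
      rw [hc, hz, commutatorElement_def]; group
    have h4 := Cfsg.Agent.H62.pow_mul_comm_central h1 h3 q
    have hzq : z ^ q = 1 := by
      rw [h2.eq] at h4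
      exact left_eq_mul.mp h4
    have h5 : x * g = g * x * z⁻¹ := by rw [h3]; group
    have h6 := Cfsg.Agent.H62.pow_mul_comm_central (Subgroup.inv_mem _ h1) h5 q
    rw [inv_pow, hzq, inv_one, mul_one] at h6
    exact h6.symm
  · exact hBout x hxB

end Cfsg.Agent.S4365
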