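import Cfsg.Statements.S4370
import Cfsg.Agent.S0016
import Cfsg.Agent.H41.Nilpotent
import Mathlib.GroupTheory.SchurZassenhaus
import Mathlib.GroupTheory.NoncommCoprod
import Mathlib.GroupTheory.SpecificGroups.Quaternion

set_option autoImplicit false
open Cfsg

namespace Cfsg.Agent.S4370

section Helpers

open Subgroup

variable {G : Type*} [Group G] [Finite G]

theorem eq_of_card_eq {C : Type*} [Group C] [Finite C] [IsCyclic C] {A B : Subgroup C}
    (h : Nat.card A = Nat.card B) : A = B := by
  classical
  haveI := Fintype.ofFinite C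
  have key : ∀ A : Subgroup C, (Finset.univ.filter fun a : C => a ^ Nat.card A = 1) =
      Finset.univ.filter fun a : C => a ∈ A := by
    intro A
    refine (Finset.eq_of_subset_of_card_le (fun a ha => ?_) ?_).symm
    · simp only [Finset.mem_filter, Finset.mem_univ, true_and] at ha ⊢
      exact congrArg Subtype.val (pow_card_eq_one' (x := (⟨a, ha⟩ : A)))
    · refine (IsCyclic.card_pow_eq_one_le Nat.card_pos).trans ?_
      rw [Nat.card_eq_fintype_card, ← Fintype.card_subtype]
  ext a
  have h1 := Finset.ext_iff.mp (key A) a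
  have h2 := Finset.ext_iff.mp (key B) a
  simp only [Finset.mem_filter, Finset.mem_univ, true_and] at h1 h2
  rw [← h1, ← h2, h]

theorem exists_noncomm_sylow (hG : Group.IsNilpotent G) (hna : ¬ IsMulCommutative G) :
    ∃ p : ℕ, p.Prime ∧ ∃ P : Sylow p G, ¬ IsMulCommutative (P : Subgroup G) := by
  by_contra hcon
  push Not at hcon
  have key : ∀ (p : ℕ) [Fact p.Prime] (P : Sylow p G), (P : Subgroup G) ≤ center G := by
    intro p _ P
    haveI := hcon p Fact.out P
    refine centralizer_eq_top_iff_subset.mp (eq_top_iff.mpr fun g _ => ?_)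
    have hg : g ∈ ⨆ (q : ℕ) (_ : q.Prime) (Q : Sylow q G), (Q : Subgroup G) := by
      have : (⨆ (q : ℕ) (_ : q.Prime) (Q : Sylow q G), (Q : Subgroup G)) = ⊤ := by
        refine eq_top_of_card_eq _ (Nat.dvd_antisymm (card_subgroup_dvd_card _) ?_)
        rw [Nat.dvd_iff_prime_pow_dvd_dvd]
        intro q n hq hd
        haveI := Fact.mk hq
        obtain ⟨Q⟩ := (inferInstance : Nonempty (Sylow q G))
        refine (Sylow.pow_dvd_card_of_pow_dvd_card Q hd).trans (card_dvd_of_le ?_)
        exact le_iSup_of_le q (le_iSup_of_le hq (le_iSup_of_le Q le_rfl))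
      rw [this]; exact mem_top g
    suffices hsup : (⨆ (q : ℕ) (_ : q.Prime) (Q : Sylow q G), (Q : Subgroup G)) ≤
        centralizer (P : Set G) from hsup hg
    refine iSup_le fun q => iSup_le fun hq => iSup_le fun Q => ?_
    haveI := Fact.mk hq
    intro b hb
    rw [mem_centralizer_iff]
    intro a ha
    by_cases hpq : p = q
    · subst hpq
      haveI hn : (P : Subgroup G).Normal :=
        Sylow.normal_of_normalizerCondition (Group.normalizerCondition_of_isNilpotent (G := G)) P
      obtain ⟨g₀, rfl⟩ := MulAction.exists_smul_eq G P Q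
      rw [Sylow.smul_eq_of_normal] at hb
      exact congrArg Subtype.val ((hcon p Fact.out P).is_comm.comm (⟨a, ha⟩ : (P : Subgroup G)) ⟨b, hb⟩)
    · obtain ⟨i, hi⟩ := IsPGroup.iff_orderOf.mp P.isPGroup' ⟨a, ha⟩
      obtain ⟨j, hj⟩ := IsPGroup.iff_orderOf.mp Q.isPGroup' ⟨b, hb⟩
      rw [Subgroup.orderOf_mk] at hi hj
      exact (H41.commute_of_coprime_orderOf hG (by
        rw [hi, hj]; exact Nat.coprime_pow_primes _ _ Fact.out hq hpq)).eq
  apply hna
  refine isMulCommutative_iff.mpr fun a b => ?_
  have : center G = ⊤ := by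
    refine eq_top_of_card_eq _ (Nat.dvd_antisymm (card_subgroup_dvd_card _) ?_)
    rw [Nat.dvd_iff_prime_pow_dvd_dvd]
    intro q n hq hd
    haveI := Fact.mk hq
    obtain ⟨Q⟩ := (inferInstance : Nonempty (Sylow q G))
    exact (Sylow.pow_dvd_card_of_pow_dvd_card Q hd).trans (card_dvd_of_le (key q Q))
  exact (Subgroup.mem_center_iff.mp (this ▸ mem_top b) a)

theorem unique_prime (h : ∀ x : G, x ∉ center G → IsCyclic (centralizer ({x} : Set G))) {p : ℕ}
    [hp : Fact p.Prime] (P : Sylow p G) (hne : ∃ x y : (P : Subgroup G), x * y ≠ y * x) :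
    ∀ A B : Subgroup (P : Subgroup G), Nat.card A = p → Nat.card B = p → A = B := by
  obtain ⟨x₀, y₀, hxy⟩ := hne
  have hx₀ : (x₀ : G) ∉ center G := fun hc => hxy (Subtype.ext (Subgroup.mem_center_iff.mp hc y₀).symm)
  -- an element of order `p` is determined up to powers inside a cyclic centralizer
  have key : ∀ (C : Subgroup G), IsCyclic C → ∀ A B : Subgroup G, A ≤ C → B ≤ C → Nat.card A = p →
      Nat.card B = p → A = B := by
    intro C hC A B hA hB hAc hBc
    haveI := hC
    have h1 : (A.subgroupOf C) = (B.subgroupOf C) := by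
      refine eq_of_card_eq ?_
      rw [Nat.card_congr (subgroupOfEquivOfLe hA).toEquiv, Nat.card_congr (subgroupOfEquivOfLe hB).toEquiv,
        hAc, hBc]
    rw [← map_subgroupOf_eq_of_le hA, ← map_subgroupOf_eq_of_le hB, h1]
  have hcen : ∀ A : Subgroup (P : Subgroup G), Nat.card A = p → A.map (P : Subgroup G).subtype ≤ center G := by
    intro A hA
    rintro _ ⟨a, ha, rfl⟩
    by_contra hna
    have hC := h _ hna
    obtain ⟨z, hz, hzp⟩ : ∃ z : (P : Subgroup G), z ∈ center (P : Subgroup G) ∧ orderOf z = p := by
      haveI : Nontrivial (P : Subgroup G) := ⟨⟨x₀, y₀, fun e => hxy (by rw [e])⟩⟩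
      haveI := P.isPGroup'.center_nontrivial
      obtain ⟨n, hn⟩ := IsPGroup.iff_card.mp (P.isPGroup'.to_subgroup (center (P : Subgroup G)))
      obtain ⟨z, hz⟩ := exists_prime_orderOf_dvd_card' (G := center (P : Subgroup G)) p (by
        rw [hn]; refine dvd_pow_self p fun h0 => ?_
        subst h0
        exact absurd hn (Finite.one_lt_card_iff_nontrivial.mpr inferInstance).ne')
      exact ⟨z, z.2, by rw [Subgroup.orderOf_coe, hz]⟩
    have hzC : ((zpowers z).map (P : Subgroup G).subtype) ≤ centralizer {((P : Subgroup G).subtype a)} := by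
      rw [MonoidHom.map_zpowers, zpowers_le, mem_centralizer_singleton_iff]
      exact (congrArg Subtype.val (Subgroup.mem_center_iff.mp hz a)).symm
    have hAC : A.map (P : Subgroup G).subtype ≤ centralizer {((P : Subgroup G).subtype a)} := by
      rintro _ ⟨b, hb, rfl⟩
      rw [mem_centralizer_singleton_iff]
      haveI := isCyclic_of_prime_card hA
      exact congrArg (fun t : A => (((t : (P : Subgroup G))) : G)) (mul_comm' (⟨b, hb⟩ : A) ⟨a, ha⟩)
    have he := key _ hC _ _ hAC hzC
      (by rw [card_map_of_injective (P : Subgroup G).subtype_injective, hA])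
      (by rw [card_map_of_injective (P : Subgroup G).subtype_injective, Nat.card_zpowers, hzp])
    rw [map_injective (P : Subgroup G).subtype_injective he] at ha
    apply hna
    have hzZ : (z : G) ∈ center G := by
      by_contra hzn
      have hCz := h _ hzn
      have hPC : (P : Subgroup G) ≤ centralizer {(z : G)} := fun b hb =>
        mem_centralizer_singleton_iff.mpr (congrArg Subtype.val (Subgroup.mem_center_iff.mp hz ⟨b, hb⟩))
      haveI := hCz
      haveI : IsCyclic (P : Subgroup G) := isCyclic_of_injective (inclusion hPC) (inclusion_injective hPC)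
      exact hxy (mul_comm' x₀ y₀)
    obtain ⟨i, rfl⟩ := mem_zpowers_iff.mp ha
    rw [map_zpow]
    exact zpow_mem hzZ i
  intro A B hA hB
  refine map_injective (P : Subgroup G).subtype_injective (key _ (h _ hx₀) _ _ ?_ ?_
    (by rw [card_map_of_injective (P : Subgroup G).subtype_injective, hA])
    (by rw [card_map_of_injective (P : Subgroup G).subtype_injective, hB]))
  · exact (hcen A hA).trans (center_le_centralizer _)
  · exact (hcen B hB).trans (center_le_centralizer _)

omit [Finite G] in
theorem eq_invol {k : ℕ} (hk : 1 ≤ k) {g : QuaternionGroup (2 ^ k)} (hg : orderOf g = 2) :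
    g = QuaternionGroup.a ((2 ^ k : ℕ) : ZMod (2 * 2 ^ k)) := by
  haveI : NeZero (2 ^ k) := ⟨by positivity⟩
  rcases g with i | i
  · rw [QuaternionGroup.orderOf_a] at hg
    have hn : 2 * 2 ^ k = 2 * Nat.gcd (2 * 2 ^ k) i.val := by
      have := Nat.div_mul_cancel (Nat.gcd_dvd_left (2 * 2 ^ k) i.val)
      rw [hg] at this
      omega
    have hd : 2 ^ k ∣ i.val := by
      have e : Nat.gcd (2 * 2 ^ k) i.val = 2 ^ k := by omega
      exact (dvd_of_eq e.symm).trans (Nat.gcd_dvd_right _ _)
    obtain ⟨t, ht⟩ := hd
    have hlt := ZMod.val_lt i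
    congr 1
    rw [← ZMod.natCast_zmod_val i, ht]
    rcases t with _ | _ | t
    · exfalso
      rw [ht, mul_zero, Nat.gcd_zero_right] at hn
      have : 0 < 2 ^ k := by positivity
      omega
    · simp
    · exfalso
      rw [ht] at hlt
      nlinarith [Nat.two_pow_pos k]
  · rw [QuaternionGroup.orderOf_xa] at hg
    omega

omit [Finite G] in
theorem isCyclic_centralizer {k : ℕ} (hk : 1 ≤ k) {q : QuaternionGroup (2 ^ k)}
    (hq : q ∉ center (QuaternionGroup (2 ^ k))) : IsCyclic (centralizer ({q} : Set _)) := by
  haveI : NeZero (2 ^ k) := ⟨by positivity⟩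
  haveI : Fact (Nat.Prime 2) := ⟨Nat.prime_two⟩
  -- the centralizer is abelian
  have hab : IsMulCommutative (centralizer ({q} : Set (QuaternionGroup (2 ^ k)))) := by
    refine isMulCommutative_iff.mpr fun u v => Subtype.ext ?_
    obtain ⟨u, hu⟩ := u
    obtain ⟨v, hv⟩ := v
    rw [mem_centralizer_singleton_iff] at hu hv
    show u * v = v * u
    rcases q with i | i
    · have hi : (2 : ZMod (2 * 2 ^ k)) * i ≠ 0 := by
        intro h0
        refine hq (Subgroup.mem_center_iff.mpr ?_)
        rintro (j | j)
        · simp only [QuaternionGroup.a_mul_a]; rw [add_comm]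
        · simp only [QuaternionGroup.xa_mul_a, QuaternionGroup.a_mul_xa, QuaternionGroup.xa.injEq]
          linear_combination h0
      rcases u with j | j
      · rcases v with l | l
        · simp only [QuaternionGroup.a_mul_a]; rw [add_comm]
        · simp only [QuaternionGroup.xa_mul_a, QuaternionGroup.a_mul_xa, QuaternionGroup.xa.injEq] at hv
          exact absurd (by linear_combination hv) hi
      · simp only [QuaternionGroup.xa_mul_a, QuaternionGroup.a_mul_xa, QuaternionGroup.xa.injEq] at hu
        exact absurd (by linear_combination hu) hi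
    · rcases u with j | j <;> rcases v with l | l <;>
        simp only [QuaternionGroup.a_mul_a, QuaternionGroup.a_mul_xa, QuaternionGroup.xa_mul_a,
          QuaternionGroup.xa_mul_xa, QuaternionGroup.a.injEq, QuaternionGroup.xa.injEq] at hu hv ⊢
      · rw [add_comm]
      · linear_combination hu
      · linear_combination -hv
      · linear_combination hu - hv
  have hP : IsPGroup 2 (QuaternionGroup (2 ^ k)) := IsPGroup.of_card (n := k + 2) (by
    rw [Nat.card_eq_fintype_card, QuaternionGroup.card]; ring)
  have huq : ∀ A B : Subgroup (centralizer ({q} : Set (QuaternionGroup (2 ^ k)))), Nat.card A = 2 → Nat.card B = 2 → A = B := by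
    intro A B hA hB
    have key : ∀ A : Subgroup (centralizer ({q} : Set (QuaternionGroup (2 ^ k)))), Nat.card A = 2 →
        A.map (centralizer {q}).subtype = zpowers (QuaternionGroup.a ((2 ^ k : ℕ) : ZMod (2 * 2 ^ k))) := by
      intro A hA
      obtain ⟨x, hx⟩ := exists_prime_orderOf_dvd_card' (G := A) 2 (by rw [hA])
      have hx2 : orderOf ((x : centralizer ({q} : Set _)) : QuaternionGroup (2 ^ k)) = 2 := by
        rw [Subgroup.orderOf_coe, Subgroup.orderOf_coe, hx]
      rw [← eq_invol hk hx2]
      refine (eq_of_le_of_card_ge (zpowers_le.mpr (mem_map_of_mem (centralizer {q}).subtype x.2)) ?_).symm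
      rw [card_map_of_injective (centralizer {q}).subtype_injective, hA, Nat.card_zpowers, Subgroup.coe_subtype, hx2]
    exact map_injective (centralizer {q}).subtype_injective ((key A hA).trans (key B hB).symm)
  rcases S0016.result 2 (hP.to_subgroup (centralizer {q})) huq with h | ⟨-, m, ⟨e⟩⟩
  · exact h
  · rcases m with _ | m
    · haveI : IsCyclic (QuaternionGroup (2 ^ 0)) := by
        rw [pow_zero]; exact QuaternionGroup.quaternionGroup_one_isCyclic
      exact isCyclic_of_surjective e.symm.toMonoidHom e.symm.surjective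
    · exfalso
      haveI := hab
      have h1 := congrArg e (mul_comm' (e.symm (QuaternionGroup.a 1)) (e.symm (QuaternionGroup.xa 0)))
      simp only [map_mul, MulEquiv.apply_symm_apply, QuaternionGroup.a_mul_xa, QuaternionGroup.xa_mul_a,
        QuaternionGroup.xa.injEq, zero_sub, zero_add, neg_eq_iff_add_eq_zero, one_add_one_eq_two] at h1
      have h2 : ((2 : ℕ) : ZMod (2 * 2 ^ (m + 1))) = 0 := by exact_mod_cast h1
      rw [ZMod.natCast_eq_zero_iff] at h2
      have h3 := Nat.le_of_dvd two_pos h2
      have h4 : 2 ≤ 2 ^ (m + 1) := Nat.le_self_pow (by omega) 2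
      omega

end Helpers

/-- Let G be a finite non-abelian nilpotent group. Then the centralizer of every non-central element of G is cyclic if and only if G is isomorphic to the direct product of a generalized quaternion group and a cyclic group of odd order. -/
theorem result {G : Type*} [Group G] [Finite G] (hG : Group.IsNilpotent G)
    (hna : ¬ IsMulCommutative G) :
    (∀ x : G, x ∉ Subgroup.center G → IsCyclic (Subgroup.centralizer ({x} : Set G))) ↔
      ∃ (k m : ℕ), 1 ≤ k ∧ Odd m ∧ Nonempty (G ≃* QuaternionGroup (2 ^ k) × Multiplicative (ZMod m)) := by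
  constructor
  · intro h
    obtain ⟨p, hp, P, hP⟩ := exists_noncomm_sylow hG hna
    haveI := Fact.mk hp
    haveI : Finite (Sylow p G) := inferInstance
    haveI hPn : (P : Subgroup G).Normal :=
      Sylow.normal_of_normalizerCondition (Group.normalizerCondition_of_isNilpotent (G := G)) P
    obtain ⟨x₀, y₀, hne⟩ : ∃ x y : (P : Subgroup G), x * y ≠ y * x := by
      by_contra hcon
      push Not at hcon
      exact hP (isMulCommutative_iff.mpr hcon)
    have hx₀ : (x₀ : G) ∉ Subgroup.center G := fun hc =>
      hne (Subtype.ext (Subgroup.mem_center_iff.mp hc y₀).symm)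
    have huniq := unique_prime h P ⟨x₀, y₀, hne⟩
    rcases S0016.result p P.isPGroup' huniq with hc | ⟨rfl, k, ⟨e⟩⟩
    · exact absurd hc fun hc => hP inferInstance
    have hk : 1 ≤ k := by
      rcases Nat.eq_zero_or_pos k with rfl | hk
      · haveI : IsCyclic (QuaternionGroup (2 ^ 0)) := by
          rw [pow_zero]; exact QuaternionGroup.quaternionGroup_one_isCyclic
        haveI := isCyclic_of_surjective e.symm.toMonoidHom e.symm.surjective
        exact absurd (inferInstance : IsMulCommutative (P : Subgroup G)) hP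
      · exact hk
    obtain ⟨K, hK⟩ := Subgroup.exists_right_complement'_of_coprime P.card_coprime_index
    have hKc : Nat.card K = (P : Subgroup G).index := hK.symm.index_eq_card.symm
    have hodd : Odd (Nat.card K) := by
      rw [hKc, ← Nat.not_even_iff_odd, even_iff_two_dvd]
      exact P.not_dvd_index
    have hcomm : ∀ a : (P : Subgroup G), ∀ b : K, Commute (a : G) (b : G) := fun a b =>
      H41.commute_of_coprime_orderOf hG (by
        obtain ⟨n, hn⟩ := IsPGroup.iff_card.mp P.isPGroup'
        have h1 : orderOf (a : G) ∣ 2 ^ n := by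
          rw [Subgroup.orderOf_coe, ← hn]; exact orderOf_dvd_natCard a
        have h2 : orderOf (b : G) ∣ Nat.card K := by
          rw [Subgroup.orderOf_coe]; exact orderOf_dvd_natCard b
        exact ((Nat.coprime_two_left.mpr hodd).pow_left n).of_dvd h1 h2)
    have hKC : K ≤ Subgroup.centralizer {(x₀ : G)} := fun b hb =>
      Subgroup.mem_centralizer_singleton_iff.mpr (hcomm x₀ ⟨b, hb⟩).symm
    haveI := h _ hx₀
    haveI : IsCyclic K := isCyclic_of_injective (Subgroup.inclusion hKC)
      (Subgroup.inclusion_injective hKC)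
    haveI : NeZero (Nat.card K) := ⟨Nat.card_pos.ne'⟩
    refine ⟨k, Nat.card K, hk, hodd, ⟨?_⟩⟩
    let f : ↥(P : Subgroup G) × ↥K →* G :=
      MonoidHom.noncommCoprod (P : Subgroup G).subtype K.subtype hcomm
    have hf : Function.Injective f := by
      rw [injective_iff_map_eq_one]
      rintro ⟨a, b⟩ hab
      have hab' : (a : G) * b = 1 := hab
      have h1 : (a : G) ∈ K := by
        rw [eq_inv_of_mul_eq_one_left hab']; exact inv_mem b.2
      have ha : (a : G) ∈ (P : Subgroup G) ⊓ K := Subgroup.mem_inf.mpr ⟨a.2, h1⟩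
      rw [hK.disjoint.eq_bot, Subgroup.mem_bot] at ha
      have hb : (b : G) = 1 := by simpa [ha] using hab'
      exact Prod.ext (Subtype.ext ha) (Subtype.ext hb)
    refine (MulEquiv.ofBijective f (hf.bijective_of_nat_card_le ?_)).symm.trans
      (MulEquiv.prodCongr e (zmodCyclicMulEquiv (inferInstance : IsCyclic K)).symm)
    rw [Nat.card_prod, hK.card_mul]
  · rintro ⟨k, m, hk, hm, ⟨e⟩⟩ x hx
    haveI : NeZero m := ⟨fun h => by subst h; exact absurd hm (by decide)⟩
    have hq : (e x).1 ∉ Subgroup.center (QuaternionGroup (2 ^ k)) := by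
      intro hc
      refine hx (Subgroup.mem_center_iff.mpr fun g => e.injective ?_)
      rw [map_mul, map_mul]
      exact Prod.ext (Subgroup.mem_center_iff.mp hc _) (mul_comm _ _)
    haveI := isCyclic_centralizer hk hq
    have hcop : (Nat.card ↥(Subgroup.centralizer {(e x).1})).Coprime (Nat.card (Multiplicative (ZMod m))) := by
      haveI : NeZero (2 ^ k) := ⟨by positivity⟩
      refine Nat.Coprime.coprime_dvd_left (Subgroup.card_subgroup_dvd_card _) ?_
      rw [Nat.card_eq_fintype_card (α := QuaternionGroup (2 ^ k)), QuaternionGroup.card,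
        Nat.card_eq_fintype_card (α := Multiplicative (ZMod m)), Fintype.card_multiplicative, ZMod.card,
        show 4 * 2 ^ k = 2 ^ (k + 2) by ring]
      exact (Nat.coprime_two_left.mpr hm).pow_left _
    haveI : IsCyclic (↥(Subgroup.centralizer {(e x).1}) × Multiplicative (ZMod m)) :=
      (Group.isCyclic_prod_iff).mpr ⟨inferInstance, inferInstance, hcop⟩
    let f : ↥(Subgroup.centralizer ({x} : Set G)) →*
        ↥(Subgroup.centralizer {(e x).1}) × Multiplicative (ZMod m) :=
      MonoidHom.mk' (fun g => (⟨(e g).1, by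
        rw [Subgroup.mem_centralizer_singleton_iff, ← Prod.fst_mul, ← Prod.fst_mul, ← map_mul, ← map_mul,
          Subgroup.mem_centralizer_singleton_iff.mp g.2]⟩, (e g).2))
        fun a b => Prod.ext (Subtype.ext (by simp)) (by simp)
    exact isCyclic_of_injective f fun a b hab => Subtype.ext (e.injective (Prod.ext
      (congrArg (fun z => (z.1 : QuaternionGroup (2 ^ k))) hab) (congrArg (fun z => z.2) hab)))

end Cfsg.Agent.S4370
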