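import Cfsg.Statements.S4371
import Cfsg.Agent.H76.ThreeOrders.Main
-- import your own Cfsg.Agent.* helpers here

set_option autoImplicit false
open Cfsg

namespace Cfsg.Agent.S4371

/-- Let G be a finite non-solvable group in which no prime divides three pairwise distinct element orders. Then one of the following holds, where 'a product of at most two primes' always counts primes with multiplicity: the quotient of G by its largest normal 2-subgroup is isomorphic to PSL(2, q) with q = 2ᶠ ≥ 4 and each of q + 1, q - 1 a product of at most two primes; G is isomorphic to PSL(2, q) with q > 5, q ≡ 3 or 5 (mod 8) and each of (q + 1)/2, (q - 1)/2 a product of at most two primes; G is isomorphic to PSL(2, 7), PSL(2, 9) or PSL(3, 4); or G is simple of order q²(q² + 1)(q - 1), the order of the Suzuki group Sz(q), where q = 2²ⁿ⁺¹ ≥ 8, and each of q - 1, q - r + 1, q + r + 1 (r = 2ⁿ⁺¹) is a product of at most two primes. -/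
theorem result {G : Type*} [Group G] [Finite G]
    (hG : ¬ Group.IsSolvable G) (h3 : (∀ p : ℕ, p.Prime → ∀ a b c : G, orderOf a ≠ orderOf b → orderOf b ≠ orderOf c → orderOf a ≠ orderOf c → ¬ (p ∣ orderOf a ∧ p ∣ orderOf b ∧ p ∣ orderOf c))) :
    (∃ (F : Type) (_ : Field F) (_ : Fintype F), CharP F 2 ∧ 4 ≤ Fintype.card F ∧
        (Fintype.card F + 1).primeFactorsList.length ≤ 2 ∧ (Fintype.card F - 1).primeFactorsList.length ≤ 2 ∧
        Nonempty (G ⧸ Cfsg.pCore 2 G ≃* Matrix.ProjectiveSpecialLinearGroup (Fin 2) F)) ∨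
    (∃ (F : Type) (_ : Field F) (_ : Fintype F), 5 < Fintype.card F ∧ (Fintype.card F % 8 = 3 ∨ Fintype.card F % 8 = 5) ∧
        ((Fintype.card F + 1) / 2).primeFactorsList.length ≤ 2 ∧ ((Fintype.card F - 1) / 2).primeFactorsList.length ≤ 2 ∧
        Nonempty (G ≃* Matrix.ProjectiveSpecialLinearGroup (Fin 2) F)) ∨
    (∃ (F : Type) (_ : Field F) (_ : Fintype F), (Fintype.card F = 7 ∨ Fintype.card F = 9) ∧
        Nonempty (G ≃* Matrix.ProjectiveSpecialLinearGroup (Fin 2) F)) ∨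
    (∃ (F : Type) (_ : Field F) (_ : Fintype F), Fintype.card F = 4 ∧ Nonempty (G ≃* Matrix.ProjectiveSpecialLinearGroup (Fin 3) F)) ∨
    (∃ n : ℕ, 1 ≤ n ∧ IsSimpleGroup G ∧ Nat.card G = (2 ^ (2 * n + 1)) ^ 2 * ((2 ^ (2 * n + 1)) ^ 2 + 1) * (2 ^ (2 * n + 1) - 1) ∧
        (2 ^ (2 * n + 1) - 1).primeFactorsList.length ≤ 2 ∧ (2 ^ (2 * n + 1) - 2 ^ (n + 1) + 1).primeFactorsList.length ≤ 2 ∧
        (2 ^ (2 * n + 1) + 2 ^ (n + 1) + 1).primeFactorsList.length ≤ 2) := by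
  obtain ⟨R, _, hRU, hsimp, hS, hbot⟩ := H76.ThreeOrders.main h3 hG
  have hB : H76.ThreeOrders.Two (G ⧸ R) := H76.ThreeOrders.Two.quotient h3 R
  have clause₁ : H76.ThreeOrders.IsEvenPSL (G ⧸ R) →
      ∃ (F : Type) (_ : Field F) (_ : Fintype F), CharP F 2 ∧ 4 ≤ Fintype.card F ∧
        (Fintype.card F + 1).primeFactorsList.length ≤ 2 ∧
        (Fintype.card F - 1).primeFactorsList.length ≤ 2 ∧
        Nonempty (G ⧸ Cfsg.pCore 2 G ≃* Matrix.ProjectiveSpecialLinearGroup (Fin 2) F) := by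
    rintro ⟨F, _, _, n, hn2, hn, ⟨e⟩⟩
    obtain ⟨h1, h2, h3', h4⟩ := H76.ThreeOrders.evenPSL_facts hB hn2 hn e
    exact ⟨F, _, _, h1, h2, h3', h4, ⟨(QuotientGroup.quotientMulEquivOfEq hRU.symm).trans e⟩⟩
  rcases hbot with hR | heven
  · have e₀ : G ≃* G ⧸ R :=
      ((QuotientGroup.quotientMulEquivOfEq hR).trans QuotientGroup.quotientBot).symm
    rcases hS with h | ⟨F, _, _, h5, hmod, ⟨e⟩⟩ | ⟨F, _, _, h79, ⟨e⟩⟩ | ⟨F, _, _, hF, ⟨e⟩⟩ | hsz
    · exact Or.inl (clause₁ h)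
    · obtain ⟨h1, h2⟩ := H76.ThreeOrders.oddPSL_facts hB (F := F) (by omega) e
      exact Or.inr (Or.inl ⟨F, _, _, h5, hmod, h1, h2, ⟨e₀.trans e⟩⟩)
    · exact Or.inr (Or.inr (Or.inl ⟨F, _, _, h79, ⟨e₀.trans e⟩⟩))
    · exact Or.inr (Or.inr (Or.inr (Or.inl ⟨F, _, _, hF, ⟨e₀.trans e⟩⟩)))
    · obtain ⟨n, hn, hc, hl⟩ := H76.ThreeOrders.suzuki_facts hB hsz
      exact Or.inr (Or.inr (Or.inr (Or.inr ⟨n, hn, MulEquiv.isSimpleGroup e₀,
        (Nat.card_congr e₀.toEquiv).trans hc, hl⟩)))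
  · exact Or.inl (clause₁ heven)

end Cfsg.Agent.S4371
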