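import Cfsg.Statements.S4375
import Cfsg.Agent.H10.BaseTwo.OddMain
import Cfsg.Agent.S0205

set_option autoImplicit false
open Cfsg

namespace Cfsg.Agent.S4375

/-- Let the finite group A of odd order act faithfully on the finite additive group V by group automorphisms, completely reducibly (every A-invariant subgroup has an A-invariant complement). Then there are v, w ∈ V such that only the identity of A fixes both. -/
theorem result {A V : Type*} [Group A] [Finite A]
    [AddCommGroup V] [Finite V] [DistribMulAction A V] [FaithfulSMul A V] (hA : Odd (Nat.card A))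
    (hcr : (∀ U : AddSubgroup V, (∀ a : A, ∀ v ∈ U, a • v ∈ U) → ∃ W : AddSubgroup V, (∀ a : A, ∀ w ∈ W, a • w ∈ W) ∧ U ⊓ W = ⊥ ∧ U ⊔ W = ⊤)) :
    ∃ v w : V, ∀ a : A, a • v = v → a • w = w → a = 1 := by
  haveI : Group.IsSolvable A := Cfsg.Agent.S0205.result hA
  obtain ⟨t, -, ht⟩ := Cfsg.Agent.H10.BaseTwo.exists_pair_of_completelyReducible
    (fun S _ _ _ hS _ _ _ => Cfsg.Agent.H10.BaseTwo.exists_regular2_irred hA hS) hcr ⊤
    (fun _ _ _ => AddSubgroup.mem_top _)
  exact ⟨t.1, t.2, fun a h1 h2 =>
    eq_of_smul_eq_smul fun x : V => (ht a h1 h2 x (AddSubgroup.mem_top x)).trans (one_smul A x).symm⟩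

end Cfsg.Agent.S4375
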