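import Cfsg.Statements.S4377

set_option autoImplicit false
open Cfsg

namespace Cfsg.Agent.S4377

/-- Two finite groups have the same number of elements of each order if and only if, for every n, they have the same number of elements g with gⁿ = 1. -/
theorem result {G H : Type*} [Group G] [Finite G] [Group H] [Finite H] :
    (∀ n : ℕ, Nat.card {g : G // orderOf g = n} = Nat.card {h : H // orderOf h = n}) ↔
      ∀ n : ℕ, Nat.card {g : G // g ^ n = 1} = Nat.card {h : H // h ^ n = 1} := by
  classical
  have : Fintype G := Fintype.ofFinite G
  have : Fintype H := Fintype.ofFinite H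
  constructor
  · intro h n
    let e : G ≃ H := Equiv.ofFiberEquiv (f := orderOf) (g := orderOf) (fun m => (Finite.card_eq.1 (h m)).some)
    refine Nat.card_congr (e.subtypeEquiv fun g => ?_)
    have he : orderOf (e g) = orderOf g := Equiv.ofFiberEquiv_map _ g
    rw [← orderOf_dvd_iff_pow_eq_one, ← orderOf_dvd_iff_pow_eq_one, he]
  · intro h n
    induction n using Nat.strong_induction_on with
    | _ n ih =>
      rcases Nat.eq_zero_or_pos n with rfl | hn
      · have e1 : IsEmpty {g : G // orderOf g = 0} := ⟨fun g => (orderOf_pos g.1).ne' g.2⟩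
        have e2 : IsEmpty {g : H // orderOf g = 0} := ⟨fun g => (orderOf_pos g.1).ne' g.2⟩
        rw [Nat.card_of_isEmpty, Nat.card_of_isEmpty]
      · have e1 := sum_card_orderOf_eq_card_pow_eq_one (G := G) hn.ne'
        have e2 := sum_card_orderOf_eq_card_pow_eq_one (G := H) hn.ne'
        have h0 := h n
        simp only [Nat.card_eq_fintype_card, Fintype.card_subtype] at h0 ih ⊢
        rw [← Nat.cons_self_properDivisors hn.ne', Finset.sum_cons] at e1 e2
        have e3 := Finset.sum_congr rfl (fun m (hm : m ∈ n.properDivisors) =>
          ih m (Nat.mem_properDivisors.1 hm).2)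
        omega

end Cfsg.Agent.S4377
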