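import Cfsg.Statements.S4376
import Cfsg.Agent.H79.OrderTypeFactors
import Cfsg.Agent.H79.OrderTypeSpecial
import Cfsg.Agent.H79.OrderTypeL27
import Cfsg.Agent.S4377

set_option autoImplicit false
set_option synthInstance.maxSize 100000
set_option synthInstance.maxHeartbeats 4000000
set_option maxHeartbeats 4000000
open Cfsg

namespace Cfsg.Agent.S4376

open Cfsg.Agent.H79.OrderType

/-- The solvable group. -/
abbrev GS : Type := (Fin 2 → KF168) × (Fin 2 → KS4) × (Fin 4 → K1) × (Fin 4 → K6) × (Fin 1 → K10) × (Fin 4 → K11) × (Fin 4 → K14) × (Fin 2 → K16) × (Fin 2 → K17) × (Fin 2 → K18) × (Fin 2 → K20)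

/-- The non-solvable group. -/
abbrev GN : Type := (Fin 2 → L27) × (Fin 2 → K2) × (Fin 2 → K3) × (Fin 3 → K4) × (Fin 4 → K5) × (Fin 5 → K7) × (Fin 4 → K8) × (Fin 6 → K9) × (Fin 2 → K12) × (Fin 1 → K13) × (Fin 2 → K15) × (Fin 2 → K19)

/-- The common counts. -/
def counts : List ℕ :=
  [582825605214293196800000000,
    2561048345471960392344140625,
    17510105749814681259027747307520000000000,
    85422467445254849360386425429688320000000000,
    2651730845859653471779023381601,
    74294557564251335298623908566427951579319500800000000,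
    29053819542759256804040215211213324288000000,
    22562957721944879785831002585081409365586427025,
    190407111755427065390957954408207642053836800000000,
    7752573241342713615583651222865288857822544954709245952,
    56452515549404008834543351837966618954028700683536126967808]

theorem has_GS : Has GS counts := by
  have h := has_prod (has_pow 2 has_kF168) (has_prod (has_pow 2 has_kS4) (has_prod (has_pow 4 has_k1) (has_prod (has_pow 4 has_k6) (has_prod (has_pow 1 has_k10) (has_prod (has_pow 4 has_k11) (has_prod (has_pow 4 has_k14) (has_prod (has_pow 2 has_k16) (has_prod (has_pow 2 has_k17) (has_prod (has_pow 2 has_k18) ((has_pow 2 has_k20)))))))))))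
  refine ⟨h.1.trans ?_, h.2⟩
  decide +kernel

theorem has_GN : Has GN counts := by
  have h := has_prod (has_pow 2 has_L27) (has_prod (has_pow 2 has_k2) (has_prod (has_pow 2 has_k3) (has_prod (has_pow 3 has_k4) (has_prod (has_pow 4 has_k5) (has_prod (has_pow 5 has_k7) (has_prod (has_pow 4 has_k8) (has_prod (has_pow 6 has_k9) (has_prod (has_pow 2 has_k12) (has_prod (has_pow 1 has_k13) (has_prod (has_pow 2 has_k15) ((has_pow 2 has_k19))))))))))))
  refine ⟨h.1.trans ?_, h.2⟩
  decide +kernel

theorem solvable_GS : Group.IsSolvable GS :=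
  prod_isSolvable (pi_isSolvable 2 sol_kF168) (prod_isSolvable (pi_isSolvable 2 sol_kS4) (prod_isSolvable (pi_isSolvable 4 sol_k1) (prod_isSolvable (pi_isSolvable 4 sol_k6) (prod_isSolvable (pi_isSolvable 1 sol_k10) (prod_isSolvable (pi_isSolvable 4 sol_k11) (prod_isSolvable (pi_isSolvable 4 sol_k14) (prod_isSolvable (pi_isSolvable 2 sol_k16) (prod_isSolvable (pi_isSolvable 2 sol_k17) (prod_isSolvable (pi_isSolvable 2 sol_k18) ((pi_isSolvable 2 sol_k20)))))))))))

theorem not_solvable_GN : ¬ Group.IsSolvable GN := by
  intro h
  have := h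
  let φ : GN →* L27 :=
    { toFun := fun y => y.1 0, map_one' := rfl, map_mul' := fun _ _ => rfl }
  exact not_solvable_L27 (Group.isSolvable_of_surjective (f := φ) fun x => ⟨(fun _ => x, 1), rfl⟩)

/-- There are finite groups G and H having the same number of elements of each order (the same order type) with G solvable and H not solvable. -/
theorem result :
    ∃ (G : Type) (_ : Group G) (_ : Finite G) (H : Type) (_ : Group H) (_ : Finite H),
      Group.IsSolvable G ∧ ¬ Group.IsSolvable H ∧ ∀ n : ℕ, Nat.card {g : G // orderOf g = n} = Nat.card {h : H // orderOf h = n} := by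
  refine ⟨GS, inferInstance, inferInstance, GN, inferInstance, inferInstance, solvable_GS,
    not_solvable_GN, ?_⟩
  exact (Cfsg.Agent.S4377.result).2 fun n => cnt_eq_of_has has_GS has_GN n

end Cfsg.Agent.S4376
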