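import Cfsg.Statements.S4381
import Cfsg.Agent.PGroups.Basic
import Cfsg.Agent.S0660
import Cfsg.Agent.Coprime.External
-- import your own Cfsg.Agent.* helpers here

set_option autoImplicit false
open Pointwise
open Cfsg
open Cfsg.Agent.Coprime

namespace Cfsg.Agent.S4381

open scoped Pointwise

open Cfsg.Agent in
theorem isInvariant_frattini {A G : Type*} [Group A] [Group G] [MulDistribMulAction A G] :
    IsInvariant A (frattini G) := by
  intro a x hx
  have h := Subgroup.characteristic_iff_map_eq.mp frattini_characteristic (MulDistribMulAction.toMulAut A G a)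
  exact h ▸ Subgroup.mem_map_of_mem _ hx

theorem isInvariant_sup {A G : Type*} [Group A] [Group G] [MulDistribMulAction A G] {L M : Subgroup G}
    (hL : IsInvariant A L) (hM : IsInvariant A M) : IsInvariant A (L ⊔ M) := by
  intro a x hx
  have h : (L ⊔ M).map (MulDistribMulAction.toMonoidHom G a) ≤ L ⊔ M := by
    rw [Subgroup.map_sup]
    refine sup_le_sup ?_ ?_
    · rintro _ ⟨y, hy, rfl⟩; exact hL a y hy
    · rintro _ ⟨y, hy, rfl⟩; exact hM a y hy
  exact h (Subgroup.mem_map_of_mem _ hx)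

theorem maximal_iff {A G : Type*} [Group A] [Group G] [Finite G] [MulDistribMulAction A G]
    (_hp : ∃ p : ℕ, p.Prime ∧ IsPGroup p G)
    (h : ∀ L : Subgroup G, frattini G < L → (∀ a : A, ∀ x ∈ L, a • x ∈ L) → L = ⊤) (M : Subgroup G) :
    (M ≠ ⊤ ∧ (∀ a : A, ∀ x ∈ M, a • x ∈ M) ∧ ∀ L : Subgroup G, M < L → (∀ a : A, ∀ x ∈ L, a • x ∈ L) → L = ⊤)
      ↔ (M = frattini G ∧ M ≠ ⊤) := by
  constructor
  · rintro ⟨hne, hinv, hmax⟩
    refine ⟨?_, hne⟩
    have hle : frattini G ≤ M := by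
      by_contra hle
      refine hne (frattini_nongenerating (hmax (M ⊔ frattini G) ?_ ?_))
      · exact left_lt_sup.mpr hle
      · exact isInvariant_sup hinv isInvariant_frattini
    by_contra hMF
    exact hne (h M (lt_of_le_of_ne hle (Ne.symm hMF)) hinv)
  · rintro ⟨rfl, hne⟩
    exact ⟨hne, isInvariant_frattini, h⟩

/-- In an abelian group of prime exponent subgroups have complements. -/
theorem exists_complement {G : Type*} [Group G] [Finite G] {V U : Subgroup G} {p : ℕ} (hp : p.Prime)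
    [IsMulCommutative V] (hexp : ∀ v ∈ V, v ^ p = 1) (hUV : U ≤ V) :
    ∃ W : Subgroup G, W ≤ V ∧ U ⊓ W = ⊥ ∧ U ⊔ W = V := by
  obtain ⟨W, ⟨hWV, hUW⟩, hmax⟩ := Set.Finite.exists_maximalFor id
    {W : Subgroup G | W ≤ V ∧ U ⊓ W = ⊥} (Set.toFinite _) ⟨⊥, bot_le, inf_bot_eq U⟩
  refine ⟨W, hWV, hUW, le_antisymm (sup_le hUV hWV) fun x hx => ?_⟩
  by_contra hxW
  have hc : ∀ a ∈ V, ∀ b ∈ V, Commute a b := fun a ha b hb =>
    Subtype.ext_iff.mp (mul_comm' (⟨a, ha⟩ : V) ⟨b, hb⟩)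
  set W' := W ⊔ Subgroup.zpowers x with hW'
  have hW'V : W' ≤ V := sup_le hWV (Subgroup.zpowers_le.mpr hx)
  have hne : U ⊓ W' ≠ ⊥ := by
    intro hb
    exact hxW (Subgroup.mem_sup_right (hmax (j := W') ⟨hW'V, hb⟩ le_sup_left
      (Subgroup.mem_sup_right (Subgroup.mem_zpowers x))))
  obtain ⟨⟨u, hu, hu'⟩, hu1⟩ := Subgroup.ne_bot_iff_exists_ne_one.mp hne
  have hn : Subgroup.zpowers x ≤ Subgroup.normalizer (W : Set G) := by
    refine Subgroup.zpowers_le.mpr (Subgroup.centralizer_le_normalizer _ ?_)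
    exact Subgroup.mem_centralizer_iff.mpr fun w hw => (hc w (hWV hw) x hx).eq
  obtain ⟨w, hw, c, hcx, hwc⟩ := (mem_sup_iff hn).mp hu'
  obtain ⟨m, rfl⟩ := Subgroup.mem_zpowers_iff.mp hcx
  have hxm : x ^ m ∈ U ⊔ W := by
    have := (U ⊔ W).mul_mem (Subgroup.mem_sup_right (W.inv_mem hw)) (Subgroup.mem_sup_left hu)
    rw [← hwc, inv_mul_cancel_left] at this
    exact this
  by_cases hpm : (p : ℤ) ∣ m
  · obtain ⟨j, rfl⟩ := hpm
    rw [zpow_mul, zpow_natCast, hexp x hx, one_zpow, mul_one] at hwc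
    subst hwc
    refine hu1 (Subtype.ext ?_)
    have : w ∈ U ⊓ W := ⟨hu, hw⟩
    rwa [hUW, Subgroup.mem_bot] at this
  · obtain ⟨a, b, hab⟩ := (Nat.prime_iff_prime_int.mp hp).coprime_iff_not_dvd.mpr hpm
    refine hxW ?_
    have : x = (x ^ m) ^ b := by
      conv_lhs => rw [← zpow_one x, ← hab, zpow_add, mul_comm a, zpow_mul, zpow_natCast,
        hexp x hx, one_zpow, one_mul, mul_comm b, zpow_mul]
    rw [this]
    exact Subgroup.zpow_mem _ hxm b

open Cfsg.Agent SemidirectProduct in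
theorem forward {A G : Type*} [Group A] [Finite A] [Group G] [Finite G] [MulDistribMulAction A G]
    (hcop : (Nat.card A).Coprime (Nat.card G)) (hsol : Group.IsSolvable A ∨ Group.IsSolvable G)
    (hconj : ∀ M N : Subgroup G, (M ≠ ⊤ ∧ (∀ a : A, ∀ x ∈ M, a • x ∈ M) ∧ ∀ L : Subgroup G, M < L → (∀ a : A, ∀ x ∈ L, a • x ∈ L) → L = ⊤) → (N ≠ ⊤ ∧ (∀ a : A, ∀ x ∈ N, a • x ∈ N) ∧ ∀ L : Subgroup G, N < L → (∀ a : A, ∀ x ∈ L, a • x ∈ L) → L = ⊤) →
        ∃ c : G, (∀ a : A, a • c = c) ∧ N = MulAut.conj c • M) :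
    (∃ p : ℕ, p.Prime ∧ IsPGroup p G) ∧
      ∀ L : Subgroup G, frattini G < L → (∀ a : A, ∀ x ∈ L, a • x ∈ L) → L = ⊤ := by
  let P : Subgroup G → Prop := fun M => M ≠ ⊤ ∧ IsInvariant A M ∧
    ∀ L : Subgroup G, M < L → IsInvariant A L → L = ⊤
  have hex : ∀ S : Subgroup G, S ≠ ⊤ → IsInvariant A S → ∃ M, P M ∧ S ≤ M := by
    intro S hS hSi
    obtain ⟨M, ⟨hSM, hM, hMi⟩, hmax⟩ := Set.Finite.exists_maximalFor id
      {M : Subgroup G | S ≤ M ∧ M ≠ ⊤ ∧ IsInvariant A M} (Set.toFinite _) ⟨S, le_rfl, hS, hSi⟩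
    refine ⟨M, ⟨hM, hMi, fun L hL hLi => ?_⟩, hSM⟩
    by_contra hLt
    exact hL.not_ge (hmax (j := L) ⟨hSM.trans hL.le, hLt, hLi⟩ hL.le)
  have hpgroup : ∃ p : ℕ, p.Prime ∧ IsPGroup p G := by
    by_contra hnp
    push Not at hnp
    -- every maximal invariant subgroup would contain Sylow subgroups for all primes
    obtain ⟨M, hM, -⟩ : ∃ M, P M ∧ (⊥ : Subgroup G) ≤ M := by
      refine hex ⊥ ?_ fun a x hx => by rw [Subgroup.mem_bot] at hx ⊢; rw [hx, smul_one]
      intro h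
      refine hnp 2 Nat.prime_two fun g => ⟨0, ?_⟩
      have : g ∈ (⊥ : Subgroup G) := h ▸ Subgroup.mem_top g
      simpa using this
    refine hM.1 (top_le_iff.mp (le_of_exists_sylow_le fun q hq => ?_))
    have : Fact q.Prime := ⟨hq⟩
    obtain ⟨Q, hQ⟩ := exists_invariant_sylow' hcop hsol q
    obtain ⟨M', hM', hQM⟩ := hex Q (fun h => hnp q hq (fun g => by
      obtain ⟨k, hk⟩ := Q.isPGroup' ⟨g, h ▸ Subgroup.mem_top g⟩
      exact ⟨k, congr_arg Subtype.val hk⟩)) hQ
    obtain ⟨c, -, hc⟩ := hconj M' M hM' hM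
    have hcard : Nat.card ((c • Q : Sylow q G) : Subgroup G) = q ^ (Nat.card (⊤ : Subgroup G)).factorization q := by
      rw [(c • Q).card_eq_multiplicity, Subgroup.card_top]
    refine ⟨Sylow.ofCard (((c • Q : Sylow q G) : Subgroup G).subgroupOf ⊤) ?_, ?_⟩
    · rw [Nat.card_congr (Subgroup.subgroupOfEquivOfLe le_top).toEquiv, hcard]
    · rw [Sylow.coe_ofCard, Subgroup.map_subgroupOf_eq_of_le le_top, hc, Sylow.coe_subgroup_smul]
      exact Subgroup.map_mono hQM
  refine ⟨hpgroup, fun L hFL hL => ?_⟩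
  obtain ⟨p, hp, hpG⟩ := hpgroup
  have : Fact p.Prime := ⟨hp⟩
  by_contra hLt
  obtain ⟨M, hM, hLM⟩ := hex L hLt hL
  have hFM : frattini G < M := lt_of_lt_of_le hFL hLM
  -- all maximal invariant subgroups coincide
  have huniq : ∀ M', P M' → frattini G ≤ M' → M' = M := by
    intro M' hM' hF'
    obtain ⟨c, -, hc⟩ := hconj M' M hM' hM
    have hn : M'.Normal := Subgroup.Normal.of_commutator_le _
      ((PGroups.commutator_le_frattini hpG).trans hF')
    rw [hc]
    exact (map_conj_eq (Subgroup.normalizer_eq_top (H := M') ▸ Subgroup.mem_top c)).symm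
  -- a complement modulo the Frattini subgroup
  set X := Ext A G
  set F := (frattini G).map (inl : G →* X) with hF
  have hFn : F.Normal := by
    rw [← Subgroup.normalizer_eq_top_iff, eq_top_iff]
    intro x _
    rw [← inl_left_mul_inr_right x]
    refine mul_mem ?_ (extA_le_normalizer_map.mpr isInvariant_frattini ⟨x.right, rfl⟩)
    exact Subgroup.le_normalizer_map inl ⟨x.left, Subgroup.normalizer_eq_top (H := frattini G) ▸ Subgroup.mem_top x.left, rfl⟩
  let π := QuotientGroup.mk' F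
  set g := π.comp (inl : G →* X) with hg
  have hgker : ∀ x, g x = 1 ↔ x ∈ frattini G := fun x =>
    (QuotientGroup.eq_one_iff _).trans inl_mem_map
  set V := (⊤ : Subgroup G).map g with hV
  have : IsMulCommutative V := by
    rw [← Subgroup.commutator_self_eq_bot_iff, hV, ← Subgroup.map_commutator, Subgroup.map_eq_bot_iff]
    intro x hx
    exact (hgker x).mpr (PGroups.commutator_le_frattini hpG hx)
  have hexp : ∀ v ∈ V, v ^ p = 1 := by
    rintro _ ⟨x, -, rfl⟩
    rw [← map_pow, hgker]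
    exact PGroups.pow_mem_frattini hpG x
  set U := M.map g with hU
  have hUV : U ≤ V := Subgroup.map_mono le_top
  obtain ⟨W, hWV, hUW, hUWV⟩ := exists_complement hp hexp hUV
  set A' := (extA : Subgroup X).map π with hA'
  have hnorm : ∀ S : Subgroup G, IsInvariant A S → A' ≤ Subgroup.normalizer ((S.map g : Subgroup _) : Set _) := by
    intro S hS
    rw [hg, ← Subgroup.map_map]
    exact (Subgroup.map_mono (extA_le_normalizer_map.mpr hS)).trans (Subgroup.le_normalizer_map π)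
  have hcop' : (Nat.card A').Coprime (Nat.card V) := by
    refine (hcop.coprime_dvd_left ?_).coprime_dvd_right ?_
    · exact (Subgroup.card_map_dvd _ _).trans (dvd_of_eq card_extA)
    · exact (Subgroup.card_map_dvd _ _).trans (dvd_of_eq Subgroup.card_top)
  obtain ⟨W', hW'V, hAW', hUW', hUW'V⟩ := Cfsg.Agent.S0660.result V A' U ‹_›
    (hnorm ⊤ fun _ _ _ => Subgroup.mem_top _) hcop' hUV (hnorm M hM.2.1) W hWV hUW hUWV
  set L' := W'.comap g with hL'
  have hL'i : IsInvariant A L' := by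
    intro a x hx
    show π (inl (a • x)) ∈ W'
    rw [← inr_conj_inl, map_mul, map_mul, map_inv]
    exact conj_mem (hAW' (Subgroup.mem_map_of_mem π ⟨a, rfl⟩)) hx
  have hFL' : frattini G ≤ L' := fun x hx => by
    show g x ∈ W'
    rw [(hgker x).mpr hx]; exact W'.one_mem
  have hL't : L' ≠ ⊤ := by
    intro h
    refine hFM.not_ge fun x hx => (hgker x).mp ?_
    have : g x ∈ U ⊓ W' := ⟨Subgroup.mem_map_of_mem g hx, (h ▸ Subgroup.mem_top x : x ∈ L')⟩
    rwa [hUW', Subgroup.mem_bot] at this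
  obtain ⟨M', hM', hL'M⟩ := hex L' hL't hL'i
  obtain rfl := huniq M' hM' (hFL'.trans hL'M)
  refine hM.1 (eq_top_iff.mpr fun x _ => ?_)
  have hx : g x ∈ U ⊔ W' := hUW'V ▸ Subgroup.mem_map_of_mem g (Subgroup.mem_top x)
  have hWU : W' ≤ U := by
    intro w hw
    obtain ⟨y, -, rfl⟩ := hW'V hw
    exact Subgroup.mem_map_of_mem g (hL'M hw)
  rw [sup_eq_left.mpr hWU] at hx
  obtain ⟨m, hm, hmx⟩ := hx
  have : m⁻¹ * x ∈ frattini G := by rw [← hgker, map_mul, map_inv, hmx, inv_mul_cancel]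
  have := M'.mul_mem hm (hFM.le this)
  simpa using this

/-- Let the finite group A act by automorphisms on the finite group G with the orders of A and G coprime, and assume that A or G is solvable. Call a proper A-invariant subgroup of G maximal A-invariant when no A-invariant subgroup lies strictly between it and G. Then all maximal A-invariant subgroups of G are conjugate under elements of the fixed-point subgroup C_G(A) if and only if G is a p-group for some prime p and A leaves invariant no subgroup strictly between the Frattini subgroup of G and G. In that case, if G is nontrivial, the Frattini subgroup is the only maximal A-invariant subgroup (a trivial G has none). -/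
theorem result {A G : Type*} [Group A] [Finite A]
    [Group G] [Finite G] [MulDistribMulAction A G] (hcop : (Nat.card A).Coprime (Nat.card G)) (hsol : Group.IsSolvable A ∨ Group.IsSolvable G) :
    ((∀ M N : Subgroup G, (M ≠ ⊤ ∧ (∀ a : A, ∀ x ∈ M, a • x ∈ M) ∧ ∀ L : Subgroup G, M < L → (∀ a : A, ∀ x ∈ L, a • x ∈ L) → L = ⊤) → (N ≠ ⊤ ∧ (∀ a : A, ∀ x ∈ N, a • x ∈ N) ∧ ∀ L : Subgroup G, N < L → (∀ a : A, ∀ x ∈ L, a • x ∈ L) → L = ⊤) →
        ∃ c : G, (∀ a : A, a • c = c) ∧ N = MulAut.conj c • M) ↔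
      ((∃ p : ℕ, p.Prime ∧ IsPGroup p G) ∧ ∀ L : Subgroup G, frattini G < L → (∀ a : A, ∀ x ∈ L, a • x ∈ L) → L = ⊤)) ∧
    (((∃ p : ℕ, p.Prime ∧ IsPGroup p G) ∧ ∀ L : Subgroup G, frattini G < L → (∀ a : A, ∀ x ∈ L, a • x ∈ L) → L = ⊤) →
      ∀ M : Subgroup G, (M ≠ ⊤ ∧ (∀ a : A, ∀ x ∈ M, a • x ∈ M) ∧ ∀ L : Subgroup G, M < L → (∀ a : A, ∀ x ∈ L, a • x ∈ L) → L = ⊤) ↔ (M = frattini G ∧ M ≠ ⊤)) := by
  have := hsol
  constructor
  · constructor
    · exact forward hcop hsol
    · rintro ⟨hp, h⟩ M N hM hN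
      refine ⟨1, fun a => smul_one a, ?_⟩
      rw [(maximal_iff hp h M).mp hM |>.1, (maximal_iff hp h N).mp hN |>.1, map_one, one_smul]
  · rintro ⟨hp, h⟩ M
    exact maximal_iff hp h M

end Cfsg.Agent.S4381
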