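import Cfsg.Statements.S4383
import Cfsg.Agent.H62.TwoClasses
-- import your own Cfsg.Agent.* helpers here

set_option autoImplicit false
open Pointwise
open Cfsg

namespace Cfsg.Agent.S4383

/-- A finite group with exactly two conjugacy classes of maximal subgroups is solvable and its order has exactly two prime divisors. -/
theorem result {G : Type*} [Group G] [Finite G]
    (M₁ M₂ : Subgroup G) (h1 : IsCoatom M₁) (h2 : IsCoatom M₂) (hne : ∀ g : G, M₂ ≠ MulAut.conj g • M₁)
    (hall : ∀ M : Subgroup G, IsCoatom M → ∃ g : G, M = MulAut.conj g • M₁ ∨ M = MulAut.conj g • M₂) :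
    Group.IsSolvable G ∧ (Nat.card G).primeFactors.card = 2 := by
  classical
  have hcov : H62.TwoClasses.Covers M₁ M₂ := by
    intro H hH
    obtain rfl | ⟨M, hM, hHM⟩ := eq_top_or_exists_le_coatom H
    · exact absurd rfl hH
    · obtain ⟨g, rfl | rfl⟩ := hall M hM
      · exact Or.inl ⟨(g : G ⧸ M₁), hHM.trans (H62.TwoClasses.stabilizer_mk M₁ g).ge⟩
      · exact Or.inr ⟨(g : G ⧸ M₂), hHM.trans (H62.TwoClasses.stabilizer_mk M₂ g).ge⟩
  have hsol : Group.IsSolvable G :=
    H62.TwoClasses.isSolvable_of_covers _ rfl M₁ M₂ h1.1 h2.1 hcov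
  refine ⟨hsol, ?_⟩
  have hidx : ∀ (g : G) (M : Subgroup G), (MulAut.conj g • M).index = M.index := by
    intro g M
    rw [← H62.TwoClasses.stabilizer_mk M g, MulAction.index_stabilizer_of_transitive,
      Subgroup.index_eq_card]
  have hp0 : (Nat.card G).primeFactors.card ≤ 2 := by
    have hsub : (Nat.card G).primeFactors ⊆ ({M₁.index.minFac, M₂.index.minFac} : Finset ℕ) := by
      intro p hp
      obtain ⟨hpp, hpd, -⟩ := Nat.mem_primeFactors.mp hp
      have hGne : Nat.card G ≠ 0 := Nat.card_pos.ne'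
      obtain ⟨H, hH, -⟩ := Hall.subgroup_card_dominance (G := G)
        (m := Nat.card G / p ^ (Nat.card G).factorization p)
        (n := p ^ (Nat.card G).factorization p)
        (Nat.div_mul_cancel (Nat.ordProj_dvd _ _)).symm
        ((Nat.coprime_ordCompl hpp hGne).pow_left _).symm
        (K := (⊥ : Subgroup G)) (by simp)
      have hHtop : H ≠ ⊤ := by
        rintro rfl
        rw [Subgroup.card_top] at hH
        refine (Nat.not_dvd_ordCompl hpp hGne) ?_
        rw [← hH]
        exact hpd
      obtain rfl | ⟨M, hM, hHM⟩ := eq_top_or_exists_le_coatom H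
      · exact absurd rfl hHtop
      · have hHi : H.index = p ^ (Nat.card G).factorization p := by
          have hmul := H.card_mul_index
          rw [hH] at hmul
          refine Nat.eq_of_mul_eq_mul_left
            (Nat.ordCompl_pos p (Nat.card_pos (α := G)).ne') (hmul.trans ?_)
          exact (Nat.div_mul_cancel (Nat.ordProj_dvd _ _)).symm
        obtain ⟨k, -, hk⟩ := (Nat.dvd_prime_pow hpp).mp (hHi ▸ Subgroup.index_dvd_of_le hHM)
        have hk0 : k ≠ 0 := fun h => hM.1 (Subgroup.index_eq_one.mp (by rw [hk, h, pow_zero]))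
        have hmin : M.index.minFac = p := by rw [hk, hpp.pow_minFac hk0]
        obtain ⟨g, rfl | rfl⟩ := hall M hM
        · rw [hidx] at hmin
          simp [hmin]
        · rw [hidx] at hmin
          simp [hmin]
    exact (Finset.card_le_card hsub).trans Finset.card_le_two
  refine le_antisymm hp0 ?_
  by_contra hlt
  rw [not_le] at hlt
  have h12 : M₁ ≠ M₂ := fun h => hne 1 (by rw [map_one, one_smul, h])
  have hG1 : 1 < Nat.card G := by
    by_contra h
    rw [not_lt] at h
    exact h1.1 (Subgroup.eq_top_of_card_eq _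
      (le_antisymm M₁.card_le_card_group (h.trans Nat.card_pos)))
  obtain ⟨p, hp⟩ : ∃ p, (Nat.card G).primeFactors = {p} := by
    rw [← Finset.card_eq_one]
    refine le_antisymm (Nat.lt_succ_iff.mp hlt) ?_
    exact Finset.card_pos.mpr (Nat.nonempty_primeFactors.mpr hG1)
  have hpp : p.Prime := Nat.prime_of_mem_primeFactors (hp ▸ Finset.mem_singleton_self p)
  haveI := Fact.mk hpp
  have hGp : IsPGroup p G := IsPGroup.of_card
    (Nat.eq_prime_pow_of_unique_prime_dvd (by omega) fun {q} hq hqd => by
      have : q ∈ (Nat.card G).primeFactors := Nat.mem_primeFactors.mpr ⟨hq, hqd, by omega⟩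
      rw [hp] at this
      exact Finset.mem_singleton.mp this)
  haveI := hGp.isNilpotent
  have hnormal : ∀ M : Subgroup G, IsCoatom M → M.Normal := fun M hM =>
    Subgroup.NormalizerCondition.normal_of_coatom M Group.normalizerCondition_of_isNilpotent hM
  have honly : ∀ M : Subgroup G, IsCoatom M → M = M₁ ∨ M = M₂ := by
    intro M hM
    obtain ⟨g, h | h⟩ := hall M hM
    · left
      haveI := hnormal M₁ h1
      rw [h, Subgroup.Normal.conj_smul_eq_self]
    · right
      haveI := hnormal M₂ h2
      rw [h, Subgroup.Normal.conj_smul_eq_self]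
  obtain ⟨a, ha⟩ : ∃ a, a ∉ M₂ := by
    by_contra h
    push_neg at h
    exact h2.1 ((Subgroup.eq_top_iff' _).mpr h)
  obtain ⟨b, hb⟩ : ∃ b, b ∉ M₁ := by
    by_contra h
    push_neg at h
    exact h1.1 ((Subgroup.eq_top_iff' _).mpr h)
  obtain ⟨z, hz1, hz2⟩ : ∃ z, z ∉ M₁ ∧ z ∉ M₂ := by
    by_cases ha1 : a ∈ M₁
    · by_cases hb2 : b ∈ M₂
      · exact ⟨a * b, fun h => hb ((Subgroup.mul_mem_cancel_left _ ha1).mp h),
          fun h => ha ((Subgroup.mul_mem_cancel_right _ hb2).mp h)⟩
      · exact ⟨b, hb, hb2⟩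
    · exact ⟨a, ha1, ha⟩
  have hz : Subgroup.zpowers z = ⊤ := by
    obtain h | ⟨M, hM, hzM⟩ := eq_top_or_exists_le_coatom (Subgroup.zpowers z)
    · exact h
    · obtain rfl | rfl := honly M hM
      · exact absurd (hzM (Subgroup.mem_zpowers z)) hz1
      · exact absurd (hzM (Subgroup.mem_zpowers z)) hz2
  haveI : IsCyclic G := ⟨⟨z, fun x => hz.ge (Subgroup.mem_top x)⟩⟩
  haveI := Fintype.ofFinite G
  have hchain : ∀ A B : Subgroup G, Nat.card A ∣ Nat.card B → A ≤ B := by
    intro A B hAB x hx
    have hxp : x ^ Nat.card B = 1 := by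
      obtain ⟨k, hk⟩ := hAB
      rw [hk, pow_mul]
      have := congrArg Subtype.val (pow_card_eq_one' (x := (⟨x, hx⟩ : A)))
      rw [Subgroup.coe_pow, Subgroup.coe_one] at this
      change x ^ Nat.card A = 1 at this
      rw [this, one_pow]
    have hsub : (B : Set G).toFinset ⊆ Finset.univ.filter fun y => y ^ Nat.card B = 1 := by
      intro y hy
      rw [Set.mem_toFinset] at hy
      have := congrArg Subtype.val (pow_card_eq_one' (x := (⟨y, hy⟩ : B)))
      rw [Subgroup.coe_pow, Subgroup.coe_one] at this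
      change y ^ Nat.card B = 1 at this
      rw [Finset.mem_filter]
      exact ⟨Finset.mem_univ _, this⟩
    have hle : (Finset.univ.filter fun y : G => y ^ Nat.card B = 1).card
        ≤ (B : Set G).toFinset.card := by
      refine (IsCyclic.card_pow_eq_one_le Nat.card_pos).trans (le_of_eq ?_)
      rw [Set.toFinset_card, ← Nat.card_eq_fintype_card]
      rfl
    have hx' : x ∈ (B : Set G).toFinset := by
      rw [Finset.eq_of_subset_of_card_le hsub hle]
      exact Finset.mem_filter.mpr ⟨Finset.mem_univ _, hxp⟩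
    exact Set.mem_toFinset.mp hx'
  apply h12
  obtain ⟨i, hi⟩ := (hGp.to_subgroup M₁).exists_card_eq
  obtain ⟨j, hj⟩ := (hGp.to_subgroup M₂).exists_card_eq
  rcases le_total i j with h | h
  · have hle := hchain M₁ M₂ (hi ▸ hj ▸ pow_dvd_pow p h)
    rcases hle.eq_or_lt with e | l
    · exact e
    · exact absurd (h1.2 _ l) h2.1
  · have hle := hchain M₂ M₁ (hi ▸ hj ▸ pow_dvd_pow p h)
    rcases hle.eq_or_lt with e | l
    · exact e.symm
    · exact absurd (h2.2 _ l) h1.1

end Cfsg.Agent.S4383
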