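import Cfsg.Statements.S4385
import Cfsg.Agent.H60.Windows
import Cfsg.Agent.H19.Cubic.GroupIso
import Cfsg.Agent.Cores.PCore
import Cfsg.Agent.H58.AmalgamCharP

set_option autoImplicit false
set_option linter.unusedSectionVars false
set_option linter.style.haveILetI false
open Cfsg
open scoped Pointwise

namespace Cfsg.Agent.S4385

namespace Aux

open Subgroup

variable {G : Type*} [Group G] [Finite G]

omit [Finite G] in
theorem mem_conj_smul {g x : G} {K : Subgroup G} : x ∈ MulAut.conj g • K ↔ g⁻¹ * x * g ∈ K := by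
  rw [Subgroup.mem_pointwise_smul_iff_inv_smul_mem, ← map_inv, MulAut.smul_def, MulAut.conj_apply,
    inv_inv]

omit [Finite G] in
theorem conj_smul_smul (a b : G) (K : Subgroup G) :
    MulAut.conj a • MulAut.conj b • K = MulAut.conj (a * b) • K := by
  rw [map_mul, mul_smul]

omit [Finite G] in
theorem conj_smul_of_normalizer {g : G} {K : Subgroup G} (h : g ∈ normalizer (K : Set G)) :
    MulAut.conj g • K = K := by
  ext x
  rw [mem_conj_smul]
  exact ((Subgroup.mem_normalizer_iff''.1 h) x).symm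

omit [Finite G] in
theorem kleinFour_of (K : Type*) [Group K] (h4 : Nat.card K = 4) (h2 : ∀ x : K, x * x = 1) :
    IsKleinFour K := by
  refine ⟨h4, ?_⟩
  have hdvd : Monoid.exponent K ∣ 2 :=
    Monoid.exponent_dvd_of_forall_pow_eq_one fun x => (pow_two x).trans (h2 x)
  rcases (Nat.dvd_prime Nat.prime_two).1 hdvd with h | h
  · exfalso
    haveI := Monoid.exp_eq_one_iff.1 h
    rw [Nat.card_of_subsingleton (1 : K)] at h4
    omega
  · exact h

/-- The configuration: `H / Q` is dihedral of order `2 n` with `n` odd. -/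
structure Ctx (H P Q : Subgroup G) (y : G) (n : ℕ) where
  Q_le : Q ≤ P
  P_le : P ≤ H
  Q_norm : H ≤ normalizer (Q : Set G)
  two : IsPGroup 2 P
  π : ↥H →* DihedralGroup n
  surj : Function.Surjective π
  ker : ∀ h : ↥H, π h = 1 ↔ (h : G) ∈ Q
  three_le : 3 ≤ n
  odd : Odd n
  card_P : Nat.card P = 2 * Nat.card Q
  conjP : MulAut.conj y • P = P
  sq_mem : y ^ 2 ∈ P ⊔ centralizer (P : Set G)
  Q_ne : Q ≠ ⊥
  core : ∀ R : Subgroup G, R ≤ P → H ≤ normalizer (R : Set G) → MulAut.conj y • R = R → R = ⊥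

variable {H P Q : Subgroup G} {y : G} {n : ℕ}

namespace Ctx

variable (X : Ctx H P Q y n)

include X

theorem Q_leH : Q ≤ H := X.Q_le.trans X.P_le

theorem exists_not_mem : ∃ t ∈ P, t ∉ Q := by
  by_contra h
  push Not at h
  have h1 := Nat.card_le_card_of_injective (Subgroup.inclusion (show P ≤ Q from h))
    (Subgroup.inclusion_injective _)
  have := X.card_P
  have : 0 < Nat.card Q := Nat.card_pos
  omega

theorem rot_eq_one {h : ↥H} {a : ℕ} (ha : h ^ (2 ^ a) = 1) {i : ZMod n} (hi : X.π h = DihedralGroup.r i) :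
    i = 0 := by
  haveI : NeZero n := ⟨by have := X.three_le; omega⟩
  have h1 := congrArg X.π ha
  rw [map_pow, hi, map_one, DihedralGroup.r_pow, DihedralGroup.one_def] at h1
  injection h1 with h1
  have hu : IsUnit ((2 ^ a : ℕ) : ZMod n) :=
    (ZMod.isUnit_iff_coprime _ n).2 (Nat.Coprime.pow_left a X.odd.coprime_two_left)
  exact (hu.mul_left_eq_zero).1 h1

theorem image_of_P {t : G} (ht : t ∈ P) (htQ : t ∉ Q) :
    ∃ i, X.π ⟨t, X.P_le ht⟩ = DihedralGroup.sr i := by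
  rcases hc : X.π ⟨t, X.P_le ht⟩ with i | i
  · exfalso
    obtain ⟨a, ha⟩ := X.two ⟨t, ht⟩
    have ha' : (⟨t, X.P_le ht⟩ : ↥H) ^ (2 ^ a) = 1 := by
      apply Subtype.ext
      simpa using congrArg Subtype.val ha
    have := X.rot_eq_one ha' hc
    rw [this, DihedralGroup.r_zero, X.ker] at hc
    exact htQ hc
  · exact ⟨i, rfl⟩

theorem mul_mem_Q {s t : G} (hs : s ∈ P) (hsQ : s ∉ Q) (ht : t ∈ P) (htQ : t ∉ Q) : s * t ∈ Q := by
  obtain ⟨i, hi⟩ := X.image_of_P hs hsQ
  obtain ⟨j, hj⟩ := X.image_of_P ht htQ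
  have hst : X.π ⟨s * t, X.P_le (mul_mem hs ht)⟩ = DihedralGroup.r (j - i) := by
    rw [show (⟨s * t, X.P_le (mul_mem hs ht)⟩ : ↥H) = ⟨s, X.P_le hs⟩ * ⟨t, X.P_le ht⟩ from rfl,
      map_mul, hi, hj, DihedralGroup.sr_mul_sr]
  obtain ⟨a, ha⟩ := X.two ⟨s * t, mul_mem hs ht⟩
  have ha' : (⟨s * t, X.P_le (mul_mem hs ht)⟩ : ↥H) ^ (2 ^ a) = 1 := by
    apply Subtype.ext
    simpa using congrArg Subtype.val ha
  rw [X.rot_eq_one ha' hst, DihedralGroup.r_zero, X.ker] at hst
  exact hst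

/-- Subgroups containing `Q` and one element outside contain `P`. -/
theorem P_le_of {L : Subgroup G} (hQ : Q ≤ L) {t : G} (ht : t ∈ P) (htQ : t ∉ Q) (htL : t ∈ L) :
    P ≤ L := fun x hx => by
  by_cases hxQ : x ∈ Q
  · exact hQ hxQ
  · have := L.mul_mem (L.inv_mem htL) (hQ (X.mul_mem_Q ht htQ hx hxQ))
    rwa [inv_mul_cancel_left] at this

theorem coprime_card : (Nat.card Q).Coprime n → IsUnit ((Nat.card Q : ℕ) : ZMod n) := fun h =>
  (ZMod.isUnit_iff_coprime _ n).2 h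

theorem card_Q : ∃ a, Nat.card Q = 2 ^ a := by
  haveI : Fact (Nat.Prime 2) := ⟨Nat.prime_two⟩
  exact IsPGroup.iff_card.1 (X.two.to_le X.Q_le)

theorem isUnit_card : IsUnit ((Nat.card Q : ℕ) : ZMod n) := by
  obtain ⟨a, ha⟩ := X.card_Q
  exact X.coprime_card (ha ▸ Nat.Coprime.pow_left a X.odd.coprime_two_left)

/-- A rotation lifted to an element of order dividing `n`. -/
theorem exists_c : ∃ c : ↥H, X.π c = DihedralGroup.r ((Nat.card Q : ℕ) : ZMod n) ∧ c ^ n = 1 := by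
  obtain ⟨c₀, hc₀⟩ := X.surj (DihedralGroup.r 1)
  refine ⟨c₀ ^ Nat.card Q, by rw [map_pow, hc₀, DihedralGroup.r_one_pow], ?_⟩
  have hq : ((c₀ ^ n : ↥H) : G) ∈ Q := by
    rw [← X.ker, map_pow, hc₀, DihedralGroup.r_one_pow_n]
  rw [← pow_mul, mul_comm, pow_mul]
  apply Subtype.ext
  rw [Subgroup.coe_pow, Subgroup.coe_one]
  have h2 := congrArg Subtype.val (pow_card_eq_one' (x := (⟨_, hq⟩ : Q)))
  rw [Subgroup.coe_pow, Subgroup.coe_one] at h2
  exact h2

/-- The chosen rotation. -/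
noncomputable def c : G := (X.exists_c.choose : G)

theorem c_mem : X.c ∈ H := X.exists_c.choose.2

theorem π_c : X.π ⟨X.c, X.c_mem⟩ = DihedralGroup.r ((Nat.card Q : ℕ) : ZMod n) :=
  X.exists_c.choose_spec.1

theorem c_pow : X.c ^ n = 1 := by
  have := congrArg Subtype.val X.exists_c.choose_spec.2
  rw [Subgroup.coe_pow, Subgroup.coe_one] at this
  exact this

/-- Generation by two conjugate elements outside `Q`. -/
theorem H_le_of {L : Subgroup G} (hQ : Q ≤ L) {t : G} (ht : t ∈ P) (htQ : t ∉ Q) (htL : t ∈ L)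
    (htc : X.c⁻¹ * t * X.c ∈ L) : H ≤ L := by
  haveI : NeZero n := ⟨by have := X.three_le; omega⟩
  obtain ⟨i, hi⟩ := X.image_of_P ht htQ
  set u : ZMod n := ((Nat.card Q : ℕ) : ZMod n) with hu
  set M : Subgroup (DihedralGroup n) := (L.subgroupOf H).map X.π with hM
  have h1 : DihedralGroup.sr i ∈ M := ⟨⟨t, X.P_le ht⟩, htL, hi⟩
  have h2 : DihedralGroup.sr (i + u + u) ∈ M := by
    refine ⟨⟨_, mul_mem (mul_mem (inv_mem X.c_mem) (X.P_le ht)) X.c_mem⟩, htc, ?_⟩
    rw [show (⟨X.c⁻¹ * t * X.c, mul_mem (mul_mem (inv_mem X.c_mem) (X.P_le ht)) X.c_mem⟩ : ↥H) =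
      (⟨X.c, X.c_mem⟩ : ↥H)⁻¹ * ⟨t, X.P_le ht⟩ * ⟨X.c, X.c_mem⟩ from rfl, map_mul, map_mul,
      map_inv, hi, X.π_c, DihedralGroup.inv_r, DihedralGroup.r_mul_sr, DihedralGroup.sr_mul_r]
    congr 1
    rw [hu]; ring
  have hr : ∀ j : ZMod n, DihedralGroup.r j ∈ M := by
    intro j
    have h3 := mul_mem h1 h2
    rw [DihedralGroup.sr_mul_sr] at h3
    have hunit : IsUnit (u + u) := by
      rw [← two_mul]
      exact ((ZMod.isUnit_iff_coprime 2 n).2 X.odd.coprime_two_left).mul X.isUnit_card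
    obtain ⟨v, hv⟩ := hunit
    have h4 := M.pow_mem h3 ((↑v⁻¹ * j : ZMod n)).val
    rw [DihedralGroup.r_pow, ZMod.natCast_rightInverse _, show i + u + u - i = u + u by ring, ← hv,
      ← mul_assoc, Units.mul_inv, one_mul] at h4
    exact h4
  intro h hh
  have hmem : X.π ⟨h, hh⟩ ∈ M := by
    rcases X.π ⟨h, hh⟩ with j | j
    · exact hr j
    · have := mul_mem h1 (hr (j - i))
      rwa [DihedralGroup.sr_mul_r, add_sub_cancel] at this
  obtain ⟨l, hl, hlh⟩ := hmem
  have hq : ((l⁻¹ * ⟨h, hh⟩ : ↥H) : G) ∈ Q := by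
    rw [← X.ker, map_mul, map_inv, hlh, inv_mul_cancel]
  have := L.mul_mem hl (hQ hq)
  simpa using this

theorem H_le_of_two {L : Subgroup G} (hP : P ≤ L) (hPc : MulAut.conj X.c⁻¹ • P ≤ L) : H ≤ L := by
  obtain ⟨t, ht, htQ⟩ := X.exists_not_mem
  refine X.H_le_of (X.Q_le.trans hP) ht htQ (hP ht) (hPc ?_)
  rw [mem_conj_smul]
  group
  exact ht

theorem sq_smul {R : Subgroup G} (hR : R ≤ P) (hn : P ≤ normalizer (R : Set G)) :
    MulAut.conj y • MulAut.conj y • R = R := by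
  rw [conj_smul_smul, ← pow_two]
  refine conj_smul_of_normalizer ((sup_le hn ?_ : P ⊔ centralizer (P : Set G) ≤ _) X.sq_mem)
  intro z hz
  rw [Subgroup.mem_normalizer_iff]
  intro x
  constructor
  · intro hx
    have := Subgroup.mem_centralizer_iff.1 hz x (hR hx)
    rwa [← this, mul_inv_cancel_right]
  · intro hx
    have := Subgroup.mem_centralizer_iff.1 hz _ (hR hx)
    rw [show z * x * z⁻¹ * z = z * x by group] at this
    exact (mul_left_cancel this) ▸ hx

/-- A subgroup and its image under `y` meet in a subgroup invariant under `y`. -/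
theorem inf_smul_eq {R : Subgroup G} (hR : R ≤ P) (hn : P ≤ normalizer (R : Set G)) :
    MulAut.conj y • (R ⊓ MulAut.conj y • R) = R ⊓ MulAut.conj y • R := by
  rw [Subgroup.smul_inf, X.sq_smul hR hn, inf_comm]

theorem smul_le {R : Subgroup G} (hR : R ≤ P) : MulAut.conj y • R ≤ P := fun x hx => by
  rw [← X.conjP, mem_conj_smul]
  exact hR (mem_conj_smul.1 hx)

theorem normalizer_smul {R : Subgroup G} (hn : P ≤ normalizer (R : Set G)) :
    P ≤ normalizer ((MulAut.conj y • R : Subgroup G) : Set G) := by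
  intro x hx
  have hx' : y⁻¹ * x * y ∈ normalizer (R : Set G) :=
    hn (mem_conj_smul.1 (X.conjP.symm ▸ hx))
  rw [Subgroup.mem_normalizer_iff]
  intro z
  rw [mem_conj_smul, mem_conj_smul]
  rw [Subgroup.mem_normalizer_iff.1 hx' (y⁻¹ * z * y)]
  group

/-- The central involutions of `P`, with `1`. -/
def Z (_X : Ctx H P Q y n) : Subgroup G where
  carrier := {z | z ∈ P ∧ z * z = 1 ∧ ∀ p ∈ P, p * z = z * p}
  one_mem' := ⟨one_mem _, one_mul _, fun p _ => by rw [mul_one, one_mul]⟩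
  mul_mem' := by
    rintro a b ⟨ha, ha2, hac⟩ ⟨hb, hb2, hbc⟩
    refine ⟨mul_mem ha hb, ?_, fun p hp => ?_⟩
    · calc a * b * (a * b) = a * (b * a) * b := by group
        _ = (a * a) * (b * b) := by rw [← hbc a ha]; group
        _ = 1 := by rw [ha2, hb2, one_mul]
    · rw [← mul_assoc, hac p hp, mul_assoc, hbc p hp, mul_assoc]
  inv_mem' := by
    rintro a ⟨ha, ha2, hac⟩
    rw [← eq_inv_of_mul_eq_one_left ha2]
    exact ⟨ha, ha2, hac⟩

theorem mem_Z {z : G} : z ∈ X.Z ↔ z ∈ P ∧ z * z = 1 ∧ ∀ p ∈ P, p * z = z * p := Iff.rfl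

theorem Z_le : X.Z ≤ P := fun _ hz => hz.1

theorem P_norm_Z : P ≤ normalizer (X.Z : Set G) := by
  refine fun p hp => ?_
  rw [Subgroup.mem_normalizer_iff]
  intro z
  constructor
  · intro hz
    rwa [hz.2.2 p hp, mul_inv_cancel_right]
  · intro hz
    have h := hz.2.2 p hp
    have : z = p * z * p⁻¹ := by
      have h2 : p * z = p * (p * z * p⁻¹) * p⁻¹ * p := by rw [h]; group
      calc z = p⁻¹ * (p * (p * z * p⁻¹)) * p⁻¹ * p := by rw [h]; group
        _ = p * z * p⁻¹ := by group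
    exact this ▸ hz

theorem smul_Z : MulAut.conj y • X.Z = X.Z := by
  have key : ∀ z, y⁻¹ * z * y ∈ X.Z ↔ z ∈ X.Z := by
    intro z
    have hP : ∀ x, y⁻¹ * x * y ∈ P ↔ x ∈ P := fun x => by rw [← mem_conj_smul, X.conjP]
    rw [X.mem_Z, X.mem_Z, hP]
    refine and_congr_right fun _ => and_congr ?_ ?_
    · constructor
      · intro h
        calc z * z = y * ((y⁻¹ * z * y) * (y⁻¹ * z * y)) * y⁻¹ := by group
          _ = 1 := by rw [h]; group
      · intro h
        calc (y⁻¹ * z * y) * (y⁻¹ * z * y) = y⁻¹ * (z * z) * y := by group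
          _ = 1 := by rw [h]; group
    · constructor
      · intro h p hp
        have := h _ ((hP p).2 hp)
        calc p * z = y * ((y⁻¹ * p * y) * (y⁻¹ * z * y)) * y⁻¹ := by group
          _ = y * ((y⁻¹ * z * y) * (y⁻¹ * p * y)) * y⁻¹ := by rw [this]
          _ = z * p := by group
      · intro h p hp
        have hq : y * p * y⁻¹ ∈ P := by
          rw [← hP]; group; exact hp
        have := h _ hq
        calc p * (y⁻¹ * z * y) = y⁻¹ * ((y * p * y⁻¹) * z) * y := by group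
          _ = y⁻¹ * (z * (y * p * y⁻¹)) * y := by rw [this]
          _ = (y⁻¹ * z * y) * p := by group
  ext z
  rw [mem_conj_smul, key]

theorem two_le_card : 2 ≤ Nat.card P := by
  have := X.card_P
  have : 0 < Nat.card Q := Nat.card_pos
  omega

theorem Z_ne_bot : X.Z ≠ ⊥ := by
  haveI : Fact (Nat.Prime 2) := ⟨Nat.prime_two⟩
  haveI : Nontrivial P := Finite.one_lt_card_iff_nontrivial.1 X.two_le_card
  haveI := X.two.center_nontrivial
  obtain ⟨k, hk⟩ := IsPGroup.iff_card.1 (X.two.to_subgroup (Subgroup.center P))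
  have hk1 : k ≠ 0 := fun e => by
    rw [e, pow_zero] at hk
    exact absurd hk (Finite.one_lt_card).ne'
  obtain ⟨z, hz⟩ := exists_prime_orderOf_dvd_card' (G := Subgroup.center P) 2 (hk ▸ dvd_pow_self 2 hk1)
  intro hbot
  have hmem : ((z : P) : G) ∈ X.Z := by
    refine ⟨(z : P).2, ?_, fun p hp => ?_⟩
    · have h2 : z ^ 2 = 1 := hz ▸ pow_orderOf_eq_one z
      rw [sq] at h2
      exact congrArg (fun x : Subgroup.center P => ((x : P) : G)) h2
    · exact congrArg Subtype.val (Subgroup.mem_center_iff.1 z.2 ⟨p, hp⟩)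
  rw [hbot, Subgroup.mem_bot] at hmem
  have : z = 1 := Subtype.ext (Subtype.ext hmem)
  rw [this, orderOf_one] at hz
  omega

theorem not_norm_Z : ¬ H ≤ normalizer (X.Z : Set G) := fun h =>
  X.Z_ne_bot (X.core _ X.Z_le h X.smul_Z)

theorem c_norm_Q : X.c ∈ normalizer (Q : Set G) := X.Q_norm X.c_mem

theorem Qc_mem {q : G} (hq : q ∈ Q) : X.c⁻¹ * q * X.c ∈ Q :=
  ((Subgroup.mem_normalizer_iff''.1 X.c_norm_Q) q).1 hq

/-- First case: a central involution of `P` outside `Q`. -/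
theorem card_four (hZ : ¬ X.Z ≤ Q) : Nat.card Q = 2 ∧ H ≤ centralizer (Q : Set G) ∧
    ∀ p ∈ P, p * p = 1 := by
  obtain ⟨z, hzZ, hzQ⟩ := SetLike.not_le_iff_exists.1 hZ
  obtain ⟨hz, hz2, hzc⟩ := hzZ
  have hzc' : z ∈ centralizer (Q : Set G) :=
    Subgroup.mem_centralizer_iff.2 fun q hq => hzc q (X.Q_le hq)
  have hzc2 : X.c⁻¹ * z * X.c ∈ centralizer (Q : Set G) := by
    refine Subgroup.mem_centralizer_iff.2 fun q hq => ?_
    have hq' : X.c * q * X.c⁻¹ ∈ Q := ((Subgroup.mem_normalizer_iff.1 X.c_norm_Q) q).1 hq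
    calc q * (X.c⁻¹ * z * X.c) = X.c⁻¹ * ((X.c * q * X.c⁻¹) * z) * X.c := by group
      _ = X.c⁻¹ * (z * (X.c * q * X.c⁻¹)) * X.c := by rw [hzc _ (X.Q_le hq')]
      _ = X.c⁻¹ * z * X.c * q := by group
  set R := Q ⊓ MulAut.conj y • Q with hR
  have hPQ : P ≤ normalizer (Q : Set G) := X.P_le.trans X.Q_norm
  have hPR : P ≤ normalizer (R : Set G) := fun x hx => by
    have h1 := hPQ hx
    have h2 := X.normalizer_smul hPQ hx
    rw [Subgroup.mem_normalizer_iff] at h1 h2 ⊢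
    intro w
    rw [hR, Subgroup.mem_inf, Subgroup.mem_inf, h1, h2]
  have hcR : centralizer (Q : Set G) ≤ normalizer (R : Set G) :=
    (Subgroup.centralizer_le (show (R : Set G) ⊆ Q from fun _ hx => hx.1)).trans
      (Subgroup.centralizer_le_normalizer _)
  have hRbot : R = ⊥ := by
    refine X.core _ (inf_le_left.trans X.Q_le) ?_ (X.inf_smul_eq X.Q_le hPQ)
    exact X.H_le_of (X.Q_le.trans hPR) hz hzQ (hPR hz) (hcR hzc2)
  have hcard : Nat.card Q * Nat.card Q ≤ Nat.card P := by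
    have hQy : Nat.card ↥(MulAut.conj y • Q) = Nat.card Q := H60.Windows.card_smul_eq _ _
    have hinj : Function.Injective (fun x : Q × ↥(MulAut.conj y • Q) =>
        (⟨(x.1 : G) * x.2, mul_mem (X.Q_le x.1.2) (X.smul_le le_rfl
          (by
            have h := x.2.2
            rw [mem_conj_smul] at h ⊢
            exact X.Q_le h))⟩ : P)) := by
      rintro ⟨a, b⟩ ⟨a', b'⟩ h
      have h' : (a : G) * b = a' * b' := congrArg Subtype.val h
      have hmem : (a' : G)⁻¹ * a ∈ R := ⟨mul_mem (Q.inv_mem a'.2) a.2, by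
        rw [show (a' : G)⁻¹ * a = b' * (b : G)⁻¹ by
          calc (a' : G)⁻¹ * a = (a' : G)⁻¹ * (a * b) * (b : G)⁻¹ := by group
            _ = b' * (b : G)⁻¹ := by rw [h']; group]
        exact mul_mem b'.2 ((MulAut.conj y • Q).inv_mem b.2)⟩
      rw [hRbot, Subgroup.mem_bot, inv_mul_eq_one] at hmem
      rw [hmem] at h'
      exact Prod.ext (Subtype.ext hmem.symm) (Subtype.ext (mul_left_cancel h'))
    have := Nat.card_le_card_of_injective _ hinj
    rwa [Nat.card_prod, hQy] at this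
  have hQ2 : Nat.card Q = 2 := by
    have h2 : Nat.card Q ≤ 2 := by
      by_contra h
      push Not at h
      have := Nat.mul_lt_mul_of_pos_right h (Nat.card_pos (α := Q))
      rw [X.card_P] at hcard
      omega
    have hne : Nat.card Q ≠ 1 := by
      exact fun h => X.Q_ne (Subgroup.card_eq_one.1 h)
    have := Nat.card_pos (α := Q)
    omega
  haveI : Fact (Nat.Prime 2) := ⟨Nat.prime_two⟩
  refine ⟨hQ2, X.H_le_of (fun q hq => ?_) hz hzQ hzc' hzc2, fun p hp => ?_⟩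
  · refine Subgroup.mem_centralizer_iff.2 fun r hr => ?_
    haveI : IsCyclic Q := isCyclic_of_prime_card hQ2
    exact congrArg Subtype.val ((IsCyclic.isMulCommutative (α := Q)).is_comm.comm (⟨r, hr⟩ : Q) ⟨q, hq⟩)
  · have hsq : ∀ q ∈ Q, q * q = 1 := fun q hq => by
      have := congrArg Subtype.val (pow_card_eq_one' (x := (⟨q, hq⟩ : Q)))
      rw [hQ2, pow_two] at this
      exact this
    by_cases hpQ : p ∈ Q
    · exact hsq p hpQ
    · have hq := X.mul_mem_Q hz hzQ hp hpQ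
      have h1 : p = z * (z * p) := by rw [← mul_assoc, hz2, one_mul]
      calc p * p = (z * (z * p)) * (z * (z * p)) := by rw [← h1]
        _ = z * ((z * p) * z) * (z * p) := by group
        _ = z * (z * (z * p)) * (z * p) := by rw [hzc _ (X.Q_le hq)]
        _ = (z * z) * ((z * p) * (z * p)) := by group
        _ = 1 := by rw [hz2, hsq _ hq, one_mul]

/-- The subgroup generated by the conjugates of `X.Z` in `H`. -/
def V : Subgroup G := closure {x | ∃ h ∈ H, ∃ z ∈ X.Z, x = h * z * h⁻¹}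

theorem Z_le_V : X.Z ≤ X.V := fun z hz =>
  subset_closure ⟨1, one_mem _, z, hz, by group⟩

theorem H_norm_V : H ≤ normalizer (X.V : Set G) := by
  have key : ∀ h ∈ H, MulAut.conj h • X.V ≤ X.V := by
    intro h hh x hx
    rw [mem_conj_smul] at hx
    suffices H2 : ∀ v ∈ X.V, h * v * h⁻¹ ∈ X.V by
      have := H2 _ hx
      rwa [show h * (h⁻¹ * x * h) * h⁻¹ = x by group] at this
    intro v hv
    induction hv using Subgroup.closure_induction with
    | mem v hv =>
      obtain ⟨k, hk, z, hz, rfl⟩ := hv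
      exact subset_closure ⟨h * k, mul_mem hh hk, z, hz, by group⟩
    | one => rw [mul_one, mul_inv_cancel]; exact one_mem _
    | mul a b _ _ ha hb =>
      rw [show h * (a * b) * h⁻¹ = (h * a * h⁻¹) * (h * b * h⁻¹) by group]; exact mul_mem ha hb
    | inv a _ ha => rw [show h * a⁻¹ * h⁻¹ = (h * a * h⁻¹)⁻¹ by group]; exact inv_mem ha
  intro h hh
  rw [Subgroup.mem_normalizer_iff]
  intro v
  constructor
  · intro hv
    refine key h hh ?_
    rw [mem_conj_smul]
    group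
    exact hv
  · intro hv
    have := key h⁻¹ (inv_mem hh) (x := v) (by rw [mem_conj_smul, inv_inv]; exact hv)
    exact this

variable (hZ : X.Z ≤ Q)
include hZ

theorem V_le : X.V ≤ Q := by
  refine (closure_le _).2 ?_
  rintro _ ⟨h, hh, z, hz, rfl⟩
  exact ((Subgroup.mem_normalizer_iff.1 (X.Q_norm hh)) z).1 (hZ hz)

theorem V_cent : X.V ≤ centralizer (Q : Set G) := by
  refine (closure_le _).2 ?_
  rintro _ ⟨h, hh, z, hz, rfl⟩
  refine Subgroup.mem_centralizer_iff.2 fun q hq => ?_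
  have hq' : h⁻¹ * q * h ∈ Q := ((Subgroup.mem_normalizer_iff''.1 (X.Q_norm hh)) q).1 hq
  calc q * (h * z * h⁻¹) = h * ((h⁻¹ * q * h) * z) * h⁻¹ := by group
    _ = h * (z * (h⁻¹ * q * h)) * h⁻¹ := by rw [hz.2.2 _ (X.Q_le hq')]
    _ = (h * z * h⁻¹) * q := by group

theorem V_sq : ∀ v ∈ X.V, v * v = 1 := by
  intro v hv
  induction hv using Subgroup.closure_induction with
  | mem v hv =>
    obtain ⟨k, hk, z, hz, rfl⟩ := hv
    calc k * z * k⁻¹ * (k * z * k⁻¹) = k * (z * z) * k⁻¹ := by group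
      _ = 1 := by rw [hz.2.1]; group
  | one => exact one_mul _
  | mul a b ha' hb' ha hb =>
    have hcomm : b * a = a * b :=
      (Subgroup.mem_centralizer_iff.1 (X.V_cent hZ ha') b (X.V_le hZ hb')).symm.symm
    calc a * b * (a * b) = a * (b * a) * b := by group
      _ = (a * a) * (b * b) := by rw [hcomm]; group
      _ = 1 := by rw [ha, hb, one_mul]
  | inv a _ ha => rw [← mul_inv_rev, ha, inv_one]

theorem mem_Z_of_commute {v t : G} (hv : v ∈ X.V) (ht : t ∈ P) (htQ : t ∉ Q) (hc : t * v = v * t) :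
    v ∈ X.Z := by
  refine ⟨X.Q_le (X.V_le hZ hv), X.V_sq hZ v hv, fun p hp => ?_⟩
  have hle : P ≤ centralizer ({v} : Set G) := by
    refine X.P_le_of (fun q hq => ?_) ht htQ (Subgroup.mem_centralizer_singleton_iff.2 hc)
    exact Subgroup.mem_centralizer_singleton_iff.2 (Subgroup.mem_centralizer_iff.1 (X.V_cent hZ hv) q hq)
  exact Subgroup.mem_centralizer_singleton_iff.1 (hle hp)

omit hZ in
/-- An elementary abelian subgroup of `P`. -/
def Elem (_X : Ctx H P Q y n) (E : Subgroup G) : Prop := E ≤ P ∧ ∀ a ∈ E, a * a = 1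

theorem exists_offender : ∃ a ∈ P, a ∉ Q ∧ a * a = 1 ∧ Nat.card X.V ≤ 2 * Nat.card X.Z := by
  classical
  haveI : Fintype (Subgroup G) := Fintype.ofFinite _
  obtain ⟨E₀, hE₀, hmax⟩ := Finset.exists_max_image (Finset.univ.filter fun E : Subgroup G => X.Elem E)
    (fun E => Nat.card E) ⟨⊥, Finset.mem_filter.2 ⟨Finset.mem_univ _, bot_le, fun a ha => by
      rw [Subgroup.mem_bot.1 ha, one_mul]⟩⟩
  simp only [Finset.mem_filter, Finset.mem_univ, true_and] at hE₀ hmax
  have hVE : X.Elem X.V := ⟨(X.V_le hZ).trans X.Q_le, X.V_sq hZ⟩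
  by_cases hall : ∀ E : Subgroup G, X.Elem E → Nat.card E = Nat.card E₀ → E ≤ Q
  · exfalso
    set J := closure {x | ∃ E : Subgroup G, X.Elem E ∧ Nat.card E = Nat.card E₀ ∧ x ∈ E} with hJ
    have hJQ : J ≤ Q := (closure_le _).2 fun x ⟨E, hE, hc, hx⟩ => hall E hE hc hx
    have hE0J : E₀ ≤ J := fun x hx => subset_closure ⟨E₀, hE₀, rfl, hx⟩
    have hsmul : ∀ g : G, (∀ E : Subgroup G, X.Elem E → Nat.card E = Nat.card E₀ →
        MulAut.conj g • E ≤ P) → MulAut.conj g • J ≤ J := by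
      intro g hg x hx
      rw [mem_conj_smul] at hx
      suffices H2 : ∀ v ∈ J, g * v * g⁻¹ ∈ J by
        have := H2 _ hx
        rwa [show g * (g⁻¹ * x * g) * g⁻¹ = x by group] at this
      intro v hv
      induction hv using Subgroup.closure_induction with
      | mem v hv =>
        obtain ⟨E, hE, hc, hv⟩ := hv
        refine subset_closure ⟨MulAut.conj g • E, ⟨hg E hE hc, fun a ha => ?_⟩,
          (H60.Windows.card_smul_eq _ _).trans hc, ?_⟩
        · rw [mem_conj_smul] at ha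
          calc a * a = g * ((g⁻¹ * a * g) * (g⁻¹ * a * g)) * g⁻¹ := by group
            _ = 1 := by rw [hE.2 _ ha]; group
        · rw [mem_conj_smul]; group; exact hv
      | one => rw [mul_one, mul_inv_cancel]; exact one_mem _
      | mul a b _ _ ha hb =>
        rw [show g * (a * b) * g⁻¹ = (g * a * g⁻¹) * (g * b * g⁻¹) by group]; exact mul_mem ha hb
      | inv a _ ha => rw [show g * a⁻¹ * g⁻¹ = (g * a * g⁻¹)⁻¹ by group]; exact inv_mem ha
    have hyJ : MulAut.conj y • J = J := Subgroup.eq_of_le_of_card_ge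
      (hsmul y fun E hE _ => X.smul_le hE.1) (H60.Windows.card_smul_eq _ _).ge
    have hHJ : H ≤ normalizer (J : Set G) := by
      intro h hh
      have heq : MulAut.conj h • J = J := Subgroup.eq_of_le_of_card_ge
        (hsmul h fun E hE hc x hx => X.Q_le (by
          rw [mem_conj_smul] at hx
          have := ((Subgroup.mem_normalizer_iff.1 (X.Q_norm hh)) _).1 (hall E hE hc hx)
          rwa [show h * (h⁻¹ * x * h) * h⁻¹ = x by group] at this))
        (H60.Windows.card_smul_eq _ _).ge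
      rw [Subgroup.mem_normalizer_iff'']
      intro x
      rw [← mem_conj_smul, heq]
    have hJbot := X.core J (hJQ.trans X.Q_le) hHJ hyJ
    have h1 : E₀ = ⊥ := le_bot_iff.1 (hJbot ▸ hE0J)
    have h2 := hmax X.Z ⟨X.Z_le, fun a ha => ha.2.1⟩
    rw [h1, Subgroup.card_bot] at h2
    exact X.Z_ne_bot ((Subgroup.card_le_one_iff_eq_bot _).1 h2)
  push Not at hall
  obtain ⟨E, hE, hEc, hEQ⟩ := hall
  obtain ⟨a, haE, haQ⟩ := SetLike.not_le_iff_exists.1 hEQ
  have haP := hE.1 haE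
  refine ⟨a, haP, haQ, hE.2 a haE, ?_⟩
  set E₁ := E ⊓ Q with hE₁
  set F := E₁ ⊔ X.V with hF
  have hcomm : ∀ u ∈ E₁, ∀ v ∈ X.V, u * v = v * u := fun u hu v hv =>
    Subgroup.mem_centralizer_iff.1 (X.V_cent hZ hv) u hu.2
  have hVn : E₁ ≤ normalizer (X.V : Set G) :=
    inf_le_right.trans (X.Q_leH.trans X.H_norm_V)
  have hmemF : ∀ x ∈ F, ∃ u ∈ E₁, ∃ v ∈ X.V, u * v = x := fun x hx =>
    by
      rw [← SetLike.mem_coe, hF, Subgroup.coe_mul_of_left_le_normalizer_right E₁ X.V hVn] at hx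
      exact hx
  have hFE : X.Elem F := by
    refine ⟨sup_le (inf_le_left.trans hE.1) hVE.1, fun x hx => ?_⟩
    obtain ⟨u, hu, v, hv, rfl⟩ := hmemF x hx
    calc u * v * (u * v) = u * (v * u) * v := by group
      _ = (u * u) * (v * v) := by rw [← hcomm u hu v hv]; group
      _ = 1 := by rw [hE.2 u hu.1, X.V_sq hZ v hv, one_mul]
  have hE2 : Nat.card E ≤ 2 * Nat.card E₁ := by
    have hmem : ∀ x : E, (x : G) ∉ Q → a * x ∈ E₁ := fun x hx =>
      ⟨mul_mem haE x.2, X.mul_mem_Q haP haQ (hE.1 x.2) hx⟩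
    let f : E → Bool × E₁ := fun x =>
      if hx : (x : G) ∈ Q then (true, ⟨x, x.2, hx⟩) else (false, ⟨a * x, hmem x hx⟩)
    have hf : Function.Injective f := by
      intro x x' h
      simp only [f] at h
      split_ifs at h <;> simp only [Prod.mk.injEq, Bool.true_eq_false, Bool.false_eq_true,
        false_and, true_and, Subtype.mk.injEq] at h
      · exact Subtype.ext (congrArg (fun z : E₁ => (z : G)) h)
      · exact Subtype.ext (mul_left_cancel h)
    have := Nat.card_le_card_of_injective f hf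
    rwa [Nat.card_prod, Nat.card_eq_fintype_card (α := Bool), Fintype.card_bool] at this
  have hFcard : Nat.card E₁ * Nat.card X.V ≤ Nat.card F * Nat.card ↥(E₁ ⊓ X.V) := by
    have h1 := H60.Windows.relIndex_mul_card_inf X.V F
    have h3 := H60.Windows.relIndex_mul_card_inf X.V E₁
    rw [inf_eq_left.2 (le_sup_right : X.V ≤ F)] at h1
    have h2 : X.V.relIndex E₁ ≤ X.V.relIndex F :=
      Subgroup.relIndex_le_of_le_right le_sup_left Subgroup.index_ne_zero_of_finite
    rw [inf_comm] at h3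
    rw [← h3, ← h1]
    calc _ = X.V.relIndex E₁ * (Nat.card X.V * Nat.card ↥(E₁ ⊓ X.V)) := by ring
      _ ≤ X.V.relIndex F * (Nat.card X.V * Nat.card ↥(E₁ ⊓ X.V)) := Nat.mul_le_mul_right _ h2
      _ = _ := by ring
  have hinf : Nat.card ↥(E₁ ⊓ X.V) ≤ Nat.card X.Z := Subgroup.card_le_of_le fun v hv =>
    X.mem_Z_of_commute hZ hv.2 haP haQ (by
      have h := hE.2 _ (mul_mem haE hv.1.1)
      have h' := hE.2 _ haE
      have hv2 := X.V_sq hZ v hv.2
      calc a * v = (a * v) * ((a * a) * (v * v)) := by rw [h', hv2]; group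
        _ = (a * v * (a * v)) * (v⁻¹ * a⁻¹) * (a * a) * (v * v) := by group
        _ = v⁻¹ * a⁻¹ := by rw [h, h', hv2]; group
        _ = v * a := by rw [← eq_inv_of_mul_eq_one_left h', ← eq_inv_of_mul_eq_one_left hv2])
  have h4 : Nat.card F ≤ 2 * Nat.card E₁ := ((hmax F hFE).trans hEc.ge).trans hE2
  have hpos : 0 < Nat.card E₁ := Nat.card_pos
  nlinarith [Nat.mul_le_mul h4 hinf]

/-- `|Ω₁ Z(P)| ≤ 4`. -/
theorem card_Z_le : Nat.card X.Z ≤ 4 := by
  obtain ⟨a, ha, haQ, -, hVZ⟩ := X.exists_offender hZ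
  set Z' := MulAut.conj X.c⁻¹ • X.Z with hZ'
  have hZ'V : Z' ≤ X.V := by
    intro x hx
    rw [hZ', mem_conj_smul] at hx
    exact subset_closure ⟨X.c⁻¹, inv_mem X.c_mem, _, hx, by group⟩
  set Z₀ := X.Z ⊓ Z' with hZ₀
  have hH : H ≤ centralizer (Z₀ : Set G) := by
    have hP : P ≤ centralizer (X.Z : Set G) := fun p hp =>
      Subgroup.mem_centralizer_iff.2 fun z hz => (hz.2.2 p hp).symm
    refine X.H_le_of_two (hP.trans (Subgroup.centralizer_le fun x hx => hx.1)) ?_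
    intro x hx
    rw [mem_conj_smul] at hx
    refine Subgroup.mem_centralizer_iff.2 fun z hz => ?_
    have hz' := hz.2
    replace hz' : z ∈ MulAut.conj X.c⁻¹ • X.Z := hz'
    rw [mem_conj_smul] at hz'
    have := hz'.2.2 _ hx
    calc z * x = X.c⁻¹ * (((X.c⁻¹)⁻¹ * z * X.c⁻¹) * ((X.c⁻¹)⁻¹ * x * X.c⁻¹)) * X.c := by group
      _ = X.c⁻¹ * (((X.c⁻¹)⁻¹ * x * X.c⁻¹) * ((X.c⁻¹)⁻¹ * z * X.c⁻¹)) * X.c := by rw [this]
      _ = x * z := by group
  have hZ₀P : Z₀ ≤ P := inf_le_left.trans X.Z_le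
  have hPn : P ≤ normalizer (Z₀ : Set G) :=
    (X.P_le.trans hH).trans (Subgroup.centralizer_le_normalizer _)
  set R := Z₀ ⊓ MulAut.conj y • Z₀ with hR
  have hRbot : R = ⊥ := X.core R (inf_le_left.trans hZ₀P)
    ((hH.trans (Subgroup.centralizer_le fun x hx => hx.1)).trans (Subgroup.centralizer_le_normalizer _))
    (X.inf_smul_eq hZ₀P hPn)
  have hyZ₀ : MulAut.conj y • Z₀ ≤ X.Z := by
    conv_rhs => rw [← X.smul_Z]
    exact Subgroup.pointwise_smul_le_pointwise_smul_iff.2 inf_le_left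
  have hsq : Nat.card Z₀ * Nat.card Z₀ ≤ Nat.card X.Z := by
    have h1 := H60.Windows.relIndex_mul_card_inf Z₀ (MulAut.conj y • Z₀)
    rw [← hR, hRbot, Subgroup.card_bot, mul_one, H60.Windows.card_smul_eq] at h1
    have h2 := H60.Windows.relIndex_mul_card_inf Z₀ X.Z
    rw [inf_eq_left.2 (inf_le_left : Z₀ ≤ X.Z)] at h2
    rw [← h2]
    refine Nat.mul_le_mul_right _ ?_
    rw [← h1]
    exact Subgroup.relIndex_le_of_le_right hyZ₀ Subgroup.index_ne_zero_of_finite
  have hlow : Nat.card X.Z ≤ 2 * Nat.card Z₀ := by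
    have h1 := H60.Windows.relIndex_mul_card_inf X.Z Z'
    rw [← hZ₀, hZ', H60.Windows.card_smul_eq] at h1
    have h2 : X.Z.relIndex Z' ≤ 2 := by
      refine (Subgroup.relIndex_le_of_le_right hZ'V Subgroup.index_ne_zero_of_finite).trans ?_
      have h3 := H60.Windows.relIndex_mul_card_inf X.Z X.V
      rw [inf_eq_left.2 X.Z_le_V] at h3
      exact Nat.le_of_mul_le_mul_right (h3.trans_le hVZ) Nat.card_pos
    rw [← h1]
    exact Nat.mul_le_mul_right _ h2
  have : 0 < Nat.card Z₀ := Nat.card_pos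
  nlinarith

omit hZ

theorem conj_not_mem {x : G} (hx : x ∈ P) (hxQ : x ∉ Q) : X.c * x * X.c⁻¹ ∉ P := by
  intro hy'
  haveI : Fact (1 < n) := ⟨by have := X.three_le; omega⟩
  have hyQ : X.c * x * X.c⁻¹ ∉ Q := fun h =>
    hxQ (by
      have := X.Qc_mem h
      rwa [show X.c⁻¹ * (X.c * x * X.c⁻¹) * X.c = x by group] at this)
  obtain ⟨i, hi⟩ := X.image_of_P hx hxQ
  obtain ⟨j, hj⟩ := X.image_of_P hy' hyQ
  have hj' : X.π ⟨X.c * x * X.c⁻¹, X.P_le hy'⟩ =
      DihedralGroup.sr (i - ((Nat.card Q : ℕ) : ZMod n) - ((Nat.card Q : ℕ) : ZMod n)) := by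
    rw [show (⟨X.c * x * X.c⁻¹, X.P_le hy'⟩ : ↥H) =
      ⟨X.c, X.c_mem⟩ * ⟨x, X.P_le hx⟩ * (⟨X.c, X.c_mem⟩ : ↥H)⁻¹ from rfl, map_mul, map_mul,
      map_inv, hi, X.π_c, DihedralGroup.inv_r, DihedralGroup.r_mul_sr, DihedralGroup.sr_mul_r]
    congr 1
    ring
  have hst := X.mul_mem_Q hx hxQ hy' hyQ
  rw [← X.ker ⟨x * (X.c * x * X.c⁻¹), X.P_le (mul_mem hx hy')⟩,
    show (⟨x * (X.c * x * X.c⁻¹), X.P_le (mul_mem hx hy')⟩ : ↥H) =
      ⟨x, X.P_le hx⟩ * ⟨X.c * x * X.c⁻¹, X.P_le hy'⟩ from rfl, map_mul, hi, hj',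
    DihedralGroup.sr_mul_sr, DihedralGroup.one_def] at hst
  injection hst with hst
  have h2 : ((2 : ℕ) : ZMod n) * ((Nat.card Q : ℕ) : ZMod n) = 0 := by
    rw [← neg_eq_zero, ← hst]; push_cast; ring
  have hu := ((ZMod.isUnit_iff_coprime 2 n).2 X.odd.coprime_two_left).mul X.isUnit_card
  rw [h2] at hu
  exact not_isUnit_zero hu

theorem inf_conj : P ⊓ MulAut.conj X.c⁻¹ • P = Q := by
  refine le_antisymm (fun x hx => ?_) (le_inf X.Q_le fun q hq => ?_)
  · by_contra hxQ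
    have h := hx.2
    rw [SetLike.mem_coe, ← SetLike.mem_coe, SetLike.mem_coe] at h
    have h' : (X.c⁻¹)⁻¹ * x * X.c⁻¹ ∈ P := mem_conj_smul.1 h
    rw [inv_inv] at h'
    exact X.conj_not_mem hx.1 hxQ h'
  · rw [mem_conj_smul, inv_inv]
    exact X.Q_le ((Subgroup.mem_normalizer_iff.1 X.c_norm_Q q).1 hq)

/-- The element shifting the windows. -/
noncomputable def g : G := y * X.c

theorem smul_g : MulAut.conj X.g⁻¹ • P = MulAut.conj X.c⁻¹ • P := by
  rw [g, mul_inv_rev, ← conj_smul_smul]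
  congr 1
  conv_lhs => rw [← X.conjP, conj_smul_smul, inv_mul_cancel, map_one, one_smul]

theorem setup : H60.Windows.Setup P X.g 2 := by
  refine ⟨Nat.prime_two, ?_, ?_, ?_⟩
  · rw [X.smul_g, X.inf_conj]
    refine (Subgroup.normal_subgroupOf_iff_le_normalizer (X.inf_conj.ge.trans inf_le_right)).2 ?_
    intro x hx
    refine X.Q_norm ?_
    have h := X.P_le (mem_conj_smul.1 hx)
    have := mul_mem (mul_mem (inv_mem X.c_mem) h) X.c_mem
    rwa [show X.c⁻¹ * ((X.c⁻¹)⁻¹ * x * X.c⁻¹) * X.c = x by group] at this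
  · rw [X.smul_g, X.inf_conj]
    have h := H60.Windows.relIndex_mul_card_inf Q (MulAut.conj X.c⁻¹ • P)
    rw [inf_eq_left.2 (show Q ≤ MulAut.conj X.c⁻¹ • P from X.inf_conj.ge.trans inf_le_right),
      H60.Windows.card_smul_eq, X.card_P] at h
    exact Nat.eq_of_mul_eq_mul_right Nat.card_pos h
  · intro R hR hn hg
    have hn' : P ≤ normalizer (R : Set G) := (Subgroup.normal_subgroupOf_iff_le_normalizer hR).1 hn
    have hH : H ≤ normalizer (R : Set G) := by
      refine X.H_le_of_two hn' ?_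
      rw [← X.smul_g]
      intro x hx
      have hx' : X.g * x * X.g⁻¹ ∈ normalizer (R : Set G) := hn' (by
        have := mem_conj_smul.1 hx; rwa [inv_inv] at this)
      have hgN : X.g ∈ normalizer (R : Set G) := by
        rw [Subgroup.mem_normalizer_iff'']
        intro z
        rw [← mem_conj_smul, hg]
      have := mul_mem (mul_mem (inv_mem hgN) hx') hgN
      rwa [show X.g⁻¹ * (X.g * x * X.g⁻¹) * X.g = x by group] at this
    refine X.core R hR hH ?_
    have hc : MulAut.conj X.c • R = R := conj_smul_of_normalizer (hH X.c_mem)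
    conv_rhs => rw [← hg, g, ← conj_smul_smul, hc]

theorem two_lt_card : 2 < Nat.card P := by
  have h1 : 1 < Nat.card Q := by
    by_contra h
    exact X.Q_ne ((Subgroup.card_le_one_iff_eq_bot _).1 (by omega))
  have := X.card_P
  omega

theorem exists_windows : ∃ s, Nat.card P = 2 ^ s ∧ 2 ≤ s ∧ Nonempty (H60.Windows.Gen P X.g 2 s) := by
  obtain ⟨s, hs1, hcard⟩ := X.setup.exists_length
  let W₀ : H60.Windows.Win P X.g 2 s := { toSetup := X.setup, card_Q' := hcard }
  obtain ⟨x, hx1, hx2⟩ := W₀.exists_gen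
  have hP : Nat.card P = 2 ^ s := by
    have := hcard 0 (Nat.zero_le _)
    rwa [H60.Windows.Q_zero_zero, Nat.sub_zero] at this
  refine ⟨s, hP, ?_, ⟨{ toWin := W₀, x := x, W_one := hx1, equivariant := hx2 }⟩⟩
  by_contra h
  have := X.two_lt_card
  rw [hP, show s = 1 by omega] at this
  omega

open H60.Windows in
theorem W_zero_eq (s : ℕ) : W P X.g s s 0 = P := by rw [W_self, sh_zero, one_smul]

open H60.Windows in
theorem W_one_eq (s : ℕ) : W P X.g s s 1 = MulAut.conj X.c⁻¹ • P := by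
  rw [W_self, sh, zpow_one, X.smul_g]

open H60.Windows in
theorem W_pred_eq {s : ℕ} (hs : 1 ≤ s) : W P X.g s (s - 1) 1 = Q := by
  have h := W_inf (P := P) (g := X.g) (show s - 1 < s by omega) 0
  rw [show s - 1 + 1 = s by omega, zero_add, X.W_zero_eq, X.W_one_eq, X.inf_conj] at h
  exact h.symm

open H60.Windows in
theorem x_sq {s : ℕ} (D : Gen P X.g 2 s) (j : ℤ) : D.x j * D.x j = 1 := by
  have h := D.toWin.card_W D.toWin.one_le j
  rw [D.W_one, Nat.card_zpowers, pow_one] at h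
  have h2 := pow_orderOf_eq_one (D.x j)
  rw [h, pow_two] at h2
  exact h2

include hZ

open H60.Windows in
/-- The length of the window sequence and the first noncommuting distance. -/
theorem window_cases {s : ℕ} (D : Gen P X.g 2 s) (hs : 2 ≤ s) : ∃ d : ℕ,
    (s = 3 ∧ d = 2 ∨ s = 4 ∧ d = 3 ∨ s = 6 ∧ d = 4) ∧ ¬ Commute (D.x 0) (D.x d) ∧
      ∀ a b : ℤ, (a - b).natAbs < d → Commute (D.x a) (D.x b) := by
  classical
  have hxP : ∀ j : ℤ, 0 ≤ j → j < s → D.x j ∈ P := fun j h1 h2 => by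
    exact (X.W_zero_eq s).le (D.x_mem le_rfl h1 (by omega))
  have hcent : ∀ j : ℤ, 0 ≤ j → j < s →
      (∀ i : ℤ, 0 ≤ i → i < s → Commute (D.x i) (D.x j)) → D.x j ∈ X.Z := by
    intro j h1 h2 hc
    refine ⟨hxP j h1 h2, X.x_sq D j, fun p hp => ?_⟩
    have hle : W P X.g s s 0 ≤ centralizer ({D.x j} : Set G) :=
      D.span le_rfl fun i hi1 hi2 => Subgroup.mem_centralizer_singleton_iff.2
        (hc i hi1 (by omega)).eq
    exact Subgroup.mem_centralizer_singleton_iff.1 (hle (by rw [X.W_zero_eq]; exact hp))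
  have hex : ∃ d : ℕ, ∃ a : ℤ, ¬ Commute (D.x a) (D.x (a + d)) ∧ d < s := by
    by_contra hno
    push Not at hno
    have hall : ∀ i j : ℤ, 0 ≤ i → i < s → 0 ≤ j → j < s → Commute (D.x i) (D.x j) := by
      intro i j h1 h2 h3 h4
      rcases le_total i j with h | h
      · by_contra hc
        have := hno (j - i).natAbs i (by rwa [show i + ((j - i).natAbs : ℕ) = j by omega])
        omega
      · by_contra hc
        have := hno (i - j).natAbs j (fun h' => hc (by
          rw [show j + ((i - j).natAbs : ℕ) = i by omega] at h'; exact h'.symm))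
        omega
    have hle : P ≤ Q := by
      refine le_trans ?_ hZ
      refine (X.W_zero_eq s).ge.trans ?_
      exact D.span le_rfl fun j h1 h2 =>
        hcent j h1 (by omega) fun i h3 h4 => hall i j h3 h4 h1 (by omega)
    obtain ⟨t, ht, htQ⟩ := X.exists_not_mem
    exact htQ (hle ht)
  set d := Nat.find hex with hd
  obtain ⟨a, ha, hds⟩ : ∃ a : ℤ, ¬ Commute (D.x a) (D.x (a + (d : ℤ))) ∧ d < s := Nat.find_spec hex
  have hmin : ∀ a b : ℤ, (a - b).natAbs < d → Commute (D.x a) (D.x b) := by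
    intro a b hab
    by_contra hc
    rcases le_total a b with h | h
    · exact Nat.find_min hex hab ⟨a, by rwa [show a + (((a - b).natAbs : ℕ) : ℤ) = b by omega],
        by omega⟩
    · exact Nat.find_min hex hab ⟨b, fun hc' => hc (by
        rw [show b + (((a - b).natAbs : ℕ) : ℤ) = a by omega] at hc'; exact hc'.symm), by omega⟩
  have hne : ¬ Commute (D.x 0) (D.x (d : ℤ)) := by
    intro hc
    refine ha ?_
    have := hc.map (sh X.g a).toMonoidHom
    simpa [D.equivariant] using this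
  refine ⟨d, ?_, hne, hmin⟩
  have h2s := D.two_mul_le hds hne hmin
  have hwin : W P X.g s (2 * d - s) ((s - d : ℕ) : ℤ) ≤ X.Z :=
    D.span (by omega) fun j h1 h2 => hcent j (by omega) (by omega) fun i h3 h4 =>
      hmin i j (by omega)
  have hle := (Subgroup.card_le_of_le hwin).trans (X.card_Z_le hZ)
  rw [D.toWin.card_W (by omega)] at hle
  have h22 : 2 * d - s ≤ 2 := by
    by_contra h
    have := Nat.pow_le_pow_right (show 0 < 2 by omega) (show 3 ≤ 2 * d - s by omega)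
    omega
  omega

open H60.Windows in
theorem not_six (D : Gen P X.g 2 6) (hne : ¬ Commute (D.x 0) (D.x 4))
    (hmin : ∀ a b : ℤ, (a - b).natAbs < 4 → Commute (D.x a) (D.x b)) : False := by
  have hQ : W P X.g 6 5 1 = Q := X.W_pred_eq (by omega)
  have h15 : ¬ Commute (D.x 1) (D.x 5) := by
    intro hc
    apply hne
    have := hc.map (sh X.g (-1)).toMonoidHom
    simpa [D.equivariant] using this
  -- elements of the window `1..4` commuting with `x 5` lie in the window `2..4`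
  have hkey : ∀ e ∈ W P X.g 6 4 1, Commute e (D.x 5) → e ∈ W P X.g 6 3 2 := by
    intro e he hc
    by_contra hno
    have hle : W P X.g 6 3 2 ≤ W P X.g 6 4 1 ⊓ centralizer ({D.x 5} : Set G) :=
      le_inf (by simpa using W_le_right (P := P) (g := X.g) (show 3 < 6 by omega) 1)
        (D.span (by omega) fun j h1 h2 => Subgroup.mem_centralizer_singleton_iff.2
          (hmin j 5 (by omega)).eq)
    have heq := eq_of_index Nat.prime_two (H := W P X.g 6 3 2) (K := W P X.g 6 4 1)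
      (by rw [D.toWin.card_W (by omega), D.toWin.card_W (by omega)]; norm_num) hle inf_le_left
      (fun h => hno (h ⟨he, Subgroup.mem_centralizer_singleton_iff.2 hc.eq⟩))
    exact h15 (Subgroup.mem_centralizer_singleton_iff.1
      (heq.ge (D.x_mem (by omega) le_rfl (by norm_num))).2)
  set x0 := D.x 0 with hx0
  set x5 := D.x 5 with hx5
  set u := x5⁻¹ * (x0 * x5 * x0⁻¹) with hu
  have hu1 : u ∈ W P X.g 6 4 1 := by
    have hn := D.toWin.normal (show 5 < 6 by omega) 0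
    have h0 : x0 ∈ W P X.g 6 6 0 := D.x_mem le_rfl le_rfl (by norm_num)
    have h5 : x5 ∈ W P X.g 6 6 0 := D.x_mem le_rfl (by norm_num) (by norm_num)
    have ha : u ∈ W P X.g 6 5 1 := by
      have h5' : x5 ∈ W P X.g 6 5 1 := D.x_mem (by omega) (by norm_num) (by norm_num)
      have := (Subgroup.mem_normalizer_iff.1 (hn.1 h0) x5).1 (by simpa using h5')
      exact mul_mem (inv_mem h5') (by simpa using this)
    have hb : u ∈ W P X.g 6 5 0 := by
      have h0' : x0 ∈ W P X.g 6 5 0 := D.x_mem (by omega) le_rfl (by norm_num)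
      have := (Subgroup.mem_normalizer_iff''.1 (hn.2 h5) x0).1 h0'
      rw [hu, show x5⁻¹ * (x0 * x5 * x0⁻¹) = (x5⁻¹ * x0 * x5) * x0⁻¹ by group]
      exact mul_mem this (inv_mem h0')
    have h := W_inf (P := P) (g := X.g) (show 4 < 6 by omega) 0
    rw [zero_add] at h
    exact h ▸ ⟨hb, ha⟩
  have hu4 : ∀ v ∈ W P X.g 6 4 1, v * v = 1 ∧ ∀ j : ℤ, 1 ≤ j → j ≤ 4 → Commute (D.x j) v := by
    intro v hv
    have hc : ∀ j : ℤ, 1 ≤ j → j ≤ 4 → Commute (D.x j) v := fun j h1 h2 =>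
      D.commute_W (by omega) (fun i h3 h4 => hmin j i (by omega)) hv
    refine ⟨?_, hc⟩
    have hle : W P X.g 6 4 1 ≤ centralizer ({v} : Set G) :=
      D.span (by omega) fun j h1 h2 => Subgroup.mem_centralizer_singleton_iff.2 (hc j h1 (by omega)).eq
    let T : Subgroup G :=
      { carrier := {w | w ∈ W P X.g 6 4 1 ∧ w * w = 1}
        one_mem' := ⟨one_mem _, one_mul _⟩
        mul_mem' := by
          rintro a b ⟨ha, ha2⟩ ⟨hb, hb2⟩
          refine ⟨mul_mem ha hb, ?_⟩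
          have hab : Commute b a := D.commute_W (by omega)
            (fun i h3 h4 => (D.commute_W (by omega) (fun k h5 h6 => hmin i k (by omega)) hb).symm) ha
          calc a * b * (a * b) = a * (b * a) * b := by group
            _ = (a * a) * (b * b) := by rw [hab.eq]; group
            _ = 1 := by rw [ha2, hb2, one_mul]
        inv_mem' := by
          rintro a ⟨ha, ha2⟩
          exact ⟨inv_mem ha, by rw [← mul_inv_rev, ha2, inv_one]⟩ }
    exact ((D.span (H := T) (by omega) fun j h1 h2 =>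
      ⟨D.x_mem (by omega) h1 h2, X.x_sq D j⟩) hv).2
  -- `x 0` normalises the window `2..5`
  set B := W P X.g 6 4 2 with hB
  have hB3 : W P X.g 6 3 2 ≤ B := W_le_left (by omega) 2
  have huB : u ∈ B := by
    refine hB3 (hkey u hu1 ?_)
    have hsq : (x5 * u) * (x5 * u) = 1 := by
      rw [hu, mul_inv_cancel_left]
      calc x0 * x5 * x0⁻¹ * (x0 * x5 * x0⁻¹) = x0 * (x5 * x5) * x0⁻¹ := by group
        _ = 1 := by rw [hx5, X.x_sq D]; group
    have hu2 := (hu4 u hu1).1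
    have h5i : x5⁻¹ = x5 := (eq_inv_of_mul_eq_one_left (X.x_sq D 5)).symm
    show u * x5 = x5 * u
    calc u * x5 = (x5 * u)⁻¹ * (u * u) := by
          rw [hu2, mul_one, mul_inv_rev, h5i, ← eq_inv_of_mul_eq_one_left hu2]
      _ = x5 * u := by rw [hu2, mul_one, ← eq_inv_of_mul_eq_one_left hsq]
  have hx5B : x5 ∈ B := D.x_mem (by omega) (by norm_num) (by norm_num)
  have hgen : ∀ j : ℤ, 0 ≤ j → j ≤ 6 → D.x j ∈ normalizer (B : Set G) := by
    intro j h1 h2
    rcases lt_trichotomy j 0 with h | h | h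
    · omega
    · -- `j = 0`
      have hle : MulAut.conj x0 • B ≤ B := by
        have : B ≤ MulAut.conj x0⁻¹ • B := by
          refine D.span (by omega) fun i h3 h4 => ?_
          rw [mem_conj_smul, inv_inv]
          rcases le_or_gt i 3 with hi | hi
          · rw [(hmin 0 i (by omega)).eq, mul_inv_cancel_right]
            exact D.x_mem (by omega) h3 h4
          rcases le_or_gt i 4 with hi' | hi'
          · obtain rfl : i = 4 := by omega
            refine hB3 (hkey _ ?_ ?_)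
            · have hn := D.toWin.normal (show 4 < 6 by omega) 0
              have h0 : x0 ∈ W P X.g 6 5 0 := D.x_mem (by omega) le_rfl (by norm_num)
              have h4 : D.x 4 ∈ W P X.g 6 4 1 := D.x_mem (by omega) (by norm_num) (by norm_num)
              have := (Subgroup.mem_normalizer_iff.1 (hn.1 h0) (D.x 4)).1 (by simpa using h4)
              simpa using this
            · have h4u : Commute (D.x 4) u := (hu4 u hu1).2 4 (by norm_num) le_rfl
              have h45 : Commute (D.x 4) x5 := hmin 4 5 (by norm_num)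
              have h0i : x0⁻¹ = x0 := (eq_inv_of_mul_eq_one_left (X.x_sq D 0)).symm
              have h5' : x0⁻¹ * x5 * x0 = x5 * u := by
                rw [hu, mul_inv_cancel_left, h0i]
              show x0 * D.x 4 * x0⁻¹ * x5 = x5 * (x0 * D.x 4 * x0⁻¹)
              calc x0 * D.x 4 * x0⁻¹ * x5 = x0 * (D.x 4 * (x0⁻¹ * x5 * x0)) * x0⁻¹ := by group
                _ = x0 * ((x0⁻¹ * x5 * x0) * D.x 4) * x0⁻¹ := by
                    rw [h5', (h45.mul_right h4u).eq]
                _ = x5 * (x0 * D.x 4 * x0⁻¹) := by group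
          · obtain rfl : i = 5 := by omega
            have h5 : x0 * x5 * x0⁻¹ = x5 * u := by rw [hu, mul_inv_cancel_left]
            show x0 * x5 * x0⁻¹ ∈ B
            rw [h5]
            exact mul_mem hx5B huB
        intro z hz
        have := this (mem_conj_smul.1 hz)
        rw [mem_conj_smul] at this
        rwa [show (x0⁻¹)⁻¹ * (x0⁻¹ * z * x0) * x0⁻¹ = z by group] at this
      have heq := Subgroup.eq_of_le_of_card_ge hle (card_smul_eq _ _).ge
      rw [h, Subgroup.mem_normalizer_iff'']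
      intro z
      rw [← mem_conj_smul, heq]
    · rcases le_or_gt j 5 with hj | hj
      · exact (D.toWin.normal (show 4 < 6 by omega) 1).1 (D.x_mem (by omega) (by omega) (by omega))
      · exact (D.toWin.normal (show 4 < 6 by omega) 2).2 (D.x_mem (by omega) (by omega) (by omega))
  have hH : H ≤ normalizer (B : Set G) := by
    refine X.H_le_of_two ?_ ?_
    · rw [← X.W_zero_eq 6]
      exact D.span le_rfl fun j h1 h2 => hgen j h1 (by omega)
    · rw [← X.W_one_eq 6]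
      exact D.span le_rfl fun j h1 h2 => hgen j (by omega) (by omega)
  have hBQ : B ≤ Q := by
    rw [← hQ]; exact D.span (by omega) fun j h1 h2 => D.x_mem (by omega) (by omega) (by omega)
  have hsh : ∀ K : Subgroup G, sh X.g (-1) • K = MulAut.conj y • MulAut.conj X.c • K := fun K => by
    rw [conj_smul_smul, sh, zpow_neg_one, inv_inv, g]
  have hyB : MulAut.conj y • B = W P X.g 6 4 1 := by
    have h := hsh B
    rw [conj_smul_of_normalizer (hH X.c_mem), hB, smul_W] at h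
    simpa using h.symm
  have hback : sh X.g 1 • B ≤ Q := by
    have h2 : MulAut.conj y • W P X.g 6 4 1 = B := by
      rw [← hyB]
      exact X.sq_smul (hBQ.trans X.Q_le) (X.P_le.trans hH)
    have h3 : sh X.g 1 • B = MulAut.conj X.c⁻¹ • W P X.g 6 4 1 := by
      rw [sh, zpow_one, show X.g⁻¹ = X.c⁻¹ * y⁻¹ from mul_inv_rev _ _, ← conj_smul_smul]
      congr 1
      conv_lhs => rw [← h2, conj_smul_smul, inv_mul_cancel, map_one, one_smul]
    rw [h3]
    intro z hz
    rw [mem_conj_smul, inv_inv] at hz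
    have : X.c * z * X.c⁻¹ ∈ Q := by
      refine hQ.le ?_
      exact (D.span (by omega) fun j h1 h2 => D.x_mem (by omega) h1 (by omega)) hz
    have := X.Qc_mem this
    rwa [show X.c⁻¹ * (X.c * z * X.c⁻¹) * X.c = z by group] at this
  rw [hB, smul_W] at hback
  have h6 : D.x 6 ∈ Q := hback (D.x_mem (by omega) (by norm_num) (by norm_num))
  have hPP : MulAut.conj X.c⁻¹ • P ≤ P := by
    rw [← X.W_one_eq 6]
    refine D.span le_rfl fun j h1 h2 => ?_
    rcases le_or_gt j 5 with hj | hj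
    · exact X.Q_le (hQ.le (D.x_mem (by omega) h1 (by omega)))
    · obtain rfl : j = 6 := by omega
      exact X.Q_le h6
  obtain ⟨t, ht, htQ⟩ := X.exists_not_mem
  have ht' : X.c⁻¹ * t * X.c ∈ MulAut.conj X.c⁻¹ • P := by
    rw [mem_conj_smul]; group; exact ht
  exact htQ (by
    have := X.inf_conj.le ⟨hPP ht', ht'⟩
    have := (Subgroup.mem_normalizer_iff.1 X.c_norm_Q _).1 this
    rwa [show X.c * (X.c⁻¹ * t * X.c) * X.c⁻¹ = t by group] at this)

omit hZ

/-- The rotation as an element of `H`. -/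
noncomputable def cH : ↥H := ⟨X.c, X.c_mem⟩

theorem π_cH_pow (k : ℕ) :
    X.π (X.cH ^ k) = DihedralGroup.r (((Nat.card Q : ℕ) : ZMod n) * (k : ZMod n)) := by
  rw [map_pow, cH, X.π_c, DihedralGroup.r_pow]

theorem cH_pow_n : X.cH ^ n = 1 := Subtype.ext (by
  rw [Subgroup.coe_pow, Subgroup.coe_one]; exact X.c_pow)

theorem dvd_of_π_pow {k : ℕ} (h : X.π (X.cH ^ k) = 1) : n ∣ k := by
  rw [X.π_cH_pow, DihedralGroup.one_def] at h
  injection h with h
  rw [X.isUnit_card.mul_right_eq_zero] at h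
  exact (ZMod.natCast_eq_zero_iff k n).1 h

theorem order_cH : orderOf X.cH = n :=
  Nat.dvd_antisymm (orderOf_dvd_of_pow_eq_one X.cH_pow_n)
    (X.dvd_of_π_pow (by rw [pow_orderOf_eq_one, map_one]))

theorem exists_pow (j : ZMod n) : ∃ k : ℕ, ((Nat.card Q : ℕ) : ZMod n) * (k : ZMod n) = j := by
  haveI : NeZero n := ⟨by have := X.three_le; omega⟩
  obtain ⟨v, hv⟩ := X.isUnit_card
  exact ⟨(↑v⁻¹ * j : ZMod n).val, by
    rw [ZMod.natCast_rightInverse _, ← hv, ← mul_assoc, Units.mul_inv, one_mul]⟩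

theorem rot_form {h : ↥H} {j : ZMod n} (hj : X.π h = DihedralGroup.r j) :
    ∃ k : ℕ, ∃ q : ↥H, (q : G) ∈ Q ∧ h = X.cH ^ k * q := by
  obtain ⟨k, hk⟩ := X.exists_pow j
  refine ⟨k, (X.cH ^ k)⁻¹ * h, ?_, by group⟩
  rw [← X.ker, map_mul, map_inv, hj, X.π_cH_pow, hk, inv_mul_cancel]

theorem refl_form {h : ↥H} {j : ZMod n} (hj : X.π h = DihedralGroup.sr j) {t : G} (ht : t ∈ P)
    (htQ : t ∉ Q) : ∃ k : ℕ, ∃ q : ↥H, (q : G) ∈ Q ∧
      (X.cH ^ k)⁻¹ * h * X.cH ^ k = (⟨t, X.P_le ht⟩ : ↥H) * q := by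
  haveI : NeZero n := ⟨by have := X.three_le; omega⟩
  obtain ⟨i, hi⟩ := X.image_of_P ht htQ
  obtain ⟨v, hv⟩ := ((ZMod.isUnit_iff_coprime 2 n).2 X.odd.coprime_two_left).mul X.isUnit_card
  refine ⟨(↑v⁻¹ * (i - j) : ZMod n).val,
    (⟨t, X.P_le ht⟩ : ↥H)⁻¹ * ((X.cH ^ (↑v⁻¹ * (i - j) : ZMod n).val)⁻¹ * h *
      X.cH ^ (↑v⁻¹ * (i - j) : ZMod n).val), ?_, by group⟩
  rw [← X.ker, map_mul, map_inv, hi, map_mul, map_mul, map_inv, hj, X.π_cH_pow,
    ZMod.natCast_rightInverse _, DihedralGroup.inv_r, DihedralGroup.r_mul_sr, DihedralGroup.sr_mul_r,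
    DihedralGroup.inv_sr, DihedralGroup.sr_mul_sr, DihedralGroup.one_def]
  congr 1
  have : ((2 : ℕ) : ZMod n) * ((Nat.card Q : ℕ) : ZMod n) * (↑v⁻¹ * (i - j)) = i - j := by
    rw [← hv, ← mul_assoc, Units.mul_inv, one_mul]
  push_cast at this
  linear_combination this

theorem exists_rot_of_odd {h : ↥H} (ho : Odd (orderOf h)) : ∃ j, X.π h = DihedralGroup.r j := by
  rcases hc : X.π h with j | j
  · exact ⟨j, rfl⟩
  · exfalso
    have := orderOf_map_dvd X.π h
    rw [hc, DihedralGroup.orderOf_sr] at this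
    exact Nat.not_even_iff_odd.2 ho (even_iff_two_dvd.2 this)

theorem invert {t : G} (ht : t ∈ P) (htQ : t ∉ Q) : ∃ q : ↥H, (q : G) ∈ Q ∧
    (⟨t, X.P_le ht⟩ : ↥H) * X.cH * (⟨t, X.P_le ht⟩ : ↥H)⁻¹ = X.cH⁻¹ * q := by
  obtain ⟨i, hi⟩ := X.image_of_P ht htQ
  refine ⟨X.cH * ((⟨t, X.P_le ht⟩ : ↥H) * X.cH * (⟨t, X.P_le ht⟩ : ↥H)⁻¹), ?_, by group⟩
  rw [← X.ker, map_mul, map_mul, map_mul, map_inv, hi, cH, X.π_c, DihedralGroup.inv_sr,
    DihedralGroup.sr_mul_r, DihedralGroup.sr_mul_sr, DihedralGroup.r_mul_r, DihedralGroup.one_def]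
  congr 1
  ring

theorem card_H : Nat.card ↥H = 2 * n * Nat.card Q := by
  have h1 := X.π.ker.card_mul_index
  have h2 : X.π.ker = Q.subgroupOf H := by
    ext h; rw [MonoidHom.mem_ker, X.ker, Subgroup.mem_subgroupOf]
  rw [Subgroup.index_ker, MonoidHom.range_eq_top.2 X.surj, Subgroup.card_top, DihedralGroup.nat_card, h2,
    Nat.card_congr (Subgroup.subgroupOfEquivOfLe X.Q_leH).toEquiv] at h1
  rw [← h1, mul_comm]

theorem sub_normal : (Q.subgroupOf H).Normal :=
  (Subgroup.normal_subgroupOf_iff_le_normalizer X.Q_leH).2 X.Q_norm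

theorem eq_one_of_odd_of_mem_Q {h : ↥H} (hh : (h : G) ∈ Q) {m : ℕ} (hm : Odd m) (hp : h ^ m = 1) :
    h = 1 := by
  obtain ⟨a, ha⟩ := X.card_Q
  have h1 : orderOf h ∣ m := orderOf_dvd_of_pow_eq_one hp
  have h2 : orderOf h ∣ 2 ^ a := by
    rw [← ha, ← orderOf_submonoid h, show ((h : ↥H) : G) = ((⟨h, hh⟩ : Q) : G) from rfl,
      orderOf_submonoid]
    exact orderOf_dvd_natCard _
  exact orderOf_eq_one_iff.1 (Nat.eq_one_of_dvd_coprimes
    (Nat.Coprime.pow_right a hm.coprime_two_right) h1 h2)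

/-- The odd core, given a normal subgroup generated by a power of the rotation. -/
theorem oddCore_eq (e : ℕ) (hN : (zpowers (X.cH ^ e)).Normal)
    (hk : ∀ (k : ℕ) (q : ↥H), (q : G) ∈ Q →
      (∀ r : ↥H, (r : G) ∈ Q → Commute r (X.cH ^ k * q)) → X.cH ^ k ∈ zpowers (X.cH ^ e)) :
    Cfsg.oddCore ↥H = zpowers (X.cH ^ e) := by
  haveI := X.sub_normal
  have hNodd : Odd (Nat.card ↥(zpowers (X.cH ^ e))) := by
    rw [Nat.card_zpowers]
    exact X.odd.of_dvd_nat (orderOf_dvd_of_pow_eq_one (by rw [← pow_mul, mul_comm, pow_mul, X.cH_pow_n, one_pow]))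
  have hle : zpowers (X.cH ^ e) ≤ Cfsg.oddCore ↥H := Cores.le_oddCore hNodd
  refine le_antisymm (fun o ho => ?_) hle
  have hO : Odd (Nat.card ↥(Cfsg.oddCore ↥H)) := Cores.odd_card_oddCore
  have hord : Odd (orderOf o) := by
    refine hO.of_dvd_nat ?_
    rw [← Subgroup.orderOf_mk o ho]
    exact orderOf_dvd_natCard _
  have hdis : ∀ x : ↥H, x ∈ Cfsg.oddCore ↥H → (x : G) ∈ Q → x = 1 := fun x hx hxQ =>
    X.eq_one_of_odd_of_mem_Q hxQ hO (by
      have := congrArg Subtype.val (pow_card_eq_one' (x := (⟨x, hx⟩ : Cfsg.oddCore ↥H)))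
      rw [Subgroup.coe_pow, Subgroup.coe_one] at this
      exact this)
  obtain ⟨j, hj⟩ := X.exists_rot_of_odd hord
  obtain ⟨k, q, hq, rfl⟩ := X.rot_form hj
  have hcomm : ∀ r : ↥H, (r : G) ∈ Q → Commute r (X.cH ^ k * q) := fun r hr => by
    haveI : (Cfsg.oddCore ↥H).Characteristic := Cores.pPrimeCore_characteristic
    have h1 : r * (X.cH ^ k * q) * r⁻¹ * (X.cH ^ k * q)⁻¹ = 1 :=
      hdis _ (mul_mem (Subgroup.Normal.conj_mem inferInstance _ ho r) (inv_mem ho)) (by
        rw [show r * (X.cH ^ k * q) * r⁻¹ * (X.cH ^ k * q)⁻¹ =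
          r * ((X.cH ^ k * q) * r⁻¹ * (X.cH ^ k * q)⁻¹) by group, Subgroup.coe_mul]
        exact mul_mem hr (Subgroup.Normal.conj_mem X.sub_normal r⁻¹ (inv_mem hr) _))
    show r * _ = _ * r
    exact commutatorElement_eq_one_iff_mul_comm.1 h1
  have hck := hk k q hq hcomm
  have hq1 : q = 1 := hdis q (by
    have := mul_mem (inv_mem (hle hck)) ho
    rwa [inv_mul_cancel_left] at this) hq
  rw [hq1, mul_one]
  exact hck

theorem klein (hQ2 : Nat.card Q = 2) (hQc : H ≤ centralizer (Q : Set G))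
    (hP : ∀ p ∈ P, p * p = 1) :
    Nonempty (↥H ⧸ Cfsg.oddCore ↥H ≃* Multiplicative (ZMod 2) × Multiplicative (ZMod 2)) := by
  have hcent : ∀ (h r : ↥H), (r : G) ∈ Q → r * h = h * r := fun h r hr =>
    Subtype.ext (Subgroup.mem_centralizer_iff.1 (hQc h.2) r hr)
  obtain ⟨t, ht, htQ⟩ := X.exists_not_mem
  set tH : ↥H := ⟨t, X.P_le ht⟩
  obtain ⟨q₀, hq₀, hinv⟩ := X.invert ht htQ
  have hinv' : tH * X.cH * tH⁻¹ = X.cH⁻¹ := by
    have h1 : (X.cH⁻¹ * q₀) ^ n = 1 := by rw [← hinv, conj_pow, X.cH_pow_n, mul_one, mul_inv_cancel]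
    have hc : Commute X.cH⁻¹ q₀ := (hcent X.cH⁻¹ q₀ hq₀).symm
    rw [hc.mul_pow, inv_pow, X.cH_pow_n, inv_one, one_mul] at h1
    rw [hinv, X.eq_one_of_odd_of_mem_Q hq₀ X.odd h1, mul_one]
  set N : Subgroup ↥H := zpowers X.cH with hN
  have hNn : N.Normal := by
    rw [← Subgroup.normalizer_eq_top_iff, eq_top_iff]
    have hL : H ≤ (normalizer (N : Set ↥H)).map H.subtype := by
      refine X.H_le_of (fun q hq => ⟨⟨q, X.Q_leH hq⟩, ?_, rfl⟩) ht htQ ⟨tH, ?_, rfl⟩
        ⟨X.cH⁻¹ * tH * X.cH, ?_, rfl⟩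
      · refine Subgroup.centralizer_le_normalizer _ ?_
        exact Subgroup.mem_centralizer_iff.2 fun x _ => (hcent x _ hq).symm
      · rw [SetLike.mem_coe, Subgroup.mem_normalizer_iff]
        intro x
        have hmap : N.map (MulAut.conj tH).toMonoidHom = N := by
          rw [hN, MonoidHom.map_zpowers]
          show zpowers (tH * X.cH * tH⁻¹) = _
          rw [hinv', Subgroup.zpowers_inv]
        constructor
        · exact fun hx => hmap.le ⟨x, hx, rfl⟩
        · intro hx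
          obtain ⟨w, hw, hwx⟩ := hmap.ge hx
          exact ((MulAut.conj tH).injective hwx) ▸ hw
      · have hc : X.cH ∈ normalizer (N : Set ↥H) := Subgroup.le_normalizer (Subgroup.mem_zpowers _)
        refine mul_mem (mul_mem (inv_mem hc) ?_) hc
        rw [Subgroup.mem_normalizer_iff]
        intro x
        have hmap : N.map (MulAut.conj tH).toMonoidHom = N := by
          rw [hN, MonoidHom.map_zpowers]
          show zpowers (tH * X.cH * tH⁻¹) = _
          rw [hinv', Subgroup.zpowers_inv]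
        constructor
        · exact fun hx => hmap.le ⟨x, hx, rfl⟩
        · intro hx
          obtain ⟨w, hw, hwx⟩ := hmap.ge hx
          exact ((MulAut.conj tH).injective hwx) ▸ hw
    intro h _
    obtain ⟨h', hh', he⟩ := hL h.2
    exact (Subtype.ext he : h' = h) ▸ hh'
  have hO : Cfsg.oddCore ↥H = N := by
    have h1 := X.oddCore_eq 1 (by rw [pow_one]; exact hNn)
      (fun k _ _ _ => by rw [pow_one]; exact pow_mem (Subgroup.mem_zpowers _) k)
    rwa [pow_one] at h1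
  haveI := hNn
  have hcardq : Nat.card (↥H ⧸ N) = 4 := by
    have h1 := Subgroup.card_mul_index N
    rw [hN, Nat.card_zpowers, X.order_cH, X.card_H, hQ2] at h1
    have hn : 0 < n := by have := X.three_le; omega
    show N.index = 4
    exact Nat.eq_of_mul_eq_mul_left hn (h1.trans (by ring))
  have hsq : ∀ x : ↥H ⧸ N, x * x = 1 := by
    have hle : H ≤ ((P.subgroupOf H) ⊔ N).map H.subtype := by
      refine X.H_le_of_two (fun p hp => ⟨⟨p, X.P_le hp⟩, Subgroup.mem_sup_left hp, rfl⟩) ?_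
      intro p hp
      rw [mem_conj_smul, inv_inv] at hp
      refine ⟨X.cH⁻¹ * ⟨_, X.P_le hp⟩ * X.cH, mul_mem (mul_mem (inv_mem (Subgroup.mem_sup_right
        (Subgroup.mem_zpowers _))) (Subgroup.mem_sup_left hp))
        (Subgroup.mem_sup_right (Subgroup.mem_zpowers _)), ?_⟩
      show X.c⁻¹ * (X.c * p * X.c⁻¹) * X.c = p
      group
    intro x
    obtain ⟨h, rfl⟩ := QuotientGroup.mk'_surjective N x
    obtain ⟨h', hh', he⟩ := hle h.2
    rw [← (Subtype.ext he : h' = h)]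
    obtain ⟨p, hp, k, hk, rfl⟩ := Subgroup.mem_sup_of_normal_right.1 hh'
    rw [map_mul, (QuotientGroup.eq_one_iff k).2 hk |> fun e => (show QuotientGroup.mk' N k = 1 from e),
      mul_one, ← map_mul, show p * p = 1 from Subtype.ext (hP _ hp), map_one]
  haveI := kleinFour_of _ hcardq hsq
  haveI := kleinFour_of (Multiplicative (ZMod 2) × Multiplicative (ZMod 2)) (by simp) (by decide)
  obtain ⟨e⟩ : Nonempty (↥H ⧸ N ≃* Multiplicative (ZMod 2) × Multiplicative (ZMod 2)) :=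
    IsKleinFour.nonempty_mulEquiv
  exact ⟨(QuotientGroup.quotientMulEquivOfEq hO).trans e⟩

/-- The centre of `H` inside `Q`. -/
noncomputable def F : Subgroup G := X.Z ⊓ MulAut.conj X.c⁻¹ • X.Z

theorem F_cent : H ≤ centralizer (X.F : Set G) := by
  have hP : P ≤ centralizer (X.Z : Set G) := fun p hp =>
    Subgroup.mem_centralizer_iff.2 fun z hz => (hz.2.2 p hp).symm
  refine X.H_le_of_two (hP.trans (Subgroup.centralizer_le fun x hx => hx.1)) ?_
  intro x hx
  rw [mem_conj_smul] at hx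
  refine Subgroup.mem_centralizer_iff.2 fun z hz => ?_
  have hz' := mem_conj_smul.1 (show z ∈ MulAut.conj X.c⁻¹ • X.Z from hz.2)
  have := hz'.2.2 _ hx
  calc z * x = X.c⁻¹ * (((X.c⁻¹)⁻¹ * z * X.c⁻¹) * ((X.c⁻¹)⁻¹ * x * X.c⁻¹)) * X.c := by group
    _ = X.c⁻¹ * (((X.c⁻¹)⁻¹ * x * X.c⁻¹) * ((X.c⁻¹)⁻¹ * z * X.c⁻¹)) * X.c := by rw [this]
    _ = x * z := by group

variable (hab : ∀ a ∈ Q, a * a = 1) (hZQ : X.Z ≤ Q) (hhalf : Nat.card Q = 2 * Nat.card X.Z)

include hab

theorem Q_comm {a b : G} (ha : a ∈ Q) (hb : b ∈ Q) : a * b = b * a := by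
  have h1 := hab _ (mul_mem ha hb)
  calc a * b = (a * b)⁻¹ := eq_inv_of_mul_eq_one_left h1
    _ = b * a := by
      rw [mul_inv_rev, ← eq_inv_of_mul_eq_one_left (hab b hb), ← eq_inv_of_mul_eq_one_left (hab a ha)]

theorem mem_Z_of_commute' {q t : G} (hq : q ∈ Q) (ht : t ∈ P) (htQ : t ∉ Q) (hc : t * q = q * t) :
    q ∈ X.Z := by
  refine ⟨X.Q_le hq, hab q hq, fun p hp => ?_⟩
  have hle : P ≤ centralizer ({q} : Set G) :=
    X.P_le_of (fun r hr => Subgroup.mem_centralizer_singleton_iff.2 (X.Q_comm hab hr hq)) ht htQ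
      (Subgroup.mem_centralizer_singleton_iff.2 hc)
  exact Subgroup.mem_centralizer_singleton_iff.1 (hle hp)

include hZQ hhalf

theorem Z'_le : MulAut.conj X.c⁻¹ • X.Z ≤ Q := fun x hx => by
  rw [mem_conj_smul, inv_inv] at hx
  have := X.Qc_mem (hZQ hx)
  rwa [show X.c⁻¹ * (X.c * x * X.c⁻¹) * X.c = x by group] at this

theorem Z'_ne : MulAut.conj X.c⁻¹ • X.Z ≠ X.Z := by
  intro h
  refine X.not_norm_Z (X.H_le_of_two X.P_norm_Z ?_)
  intro x hx
  have hc : X.c ∈ normalizer (X.Z : Set G) := by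
    rw [Subgroup.mem_normalizer_iff]
    intro z
    conv_lhs => rw [← h]
    rw [mem_conj_smul, inv_inv]
  rw [mem_conj_smul, inv_inv] at hx
  have := mul_mem (mul_mem (inv_mem hc) (X.P_norm_Z hx)) hc
  rwa [show X.c⁻¹ * (X.c * x * X.c⁻¹) * X.c = x by group] at this

theorem card_F : Nat.card Q = 4 * Nat.card X.F := by
  have h1 := H60.Windows.relIndex_mul_card_inf X.Z (MulAut.conj X.c⁻¹ • X.Z)
  rw [show X.Z ⊓ MulAut.conj X.c⁻¹ • X.Z = X.F from rfl, H60.Windows.card_smul_eq] at h1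
  have h2 : X.Z.relIndex (MulAut.conj X.c⁻¹ • X.Z) ≤ 2 := by
    refine (Subgroup.relIndex_le_of_le_right (X.Z'_le hab hZQ hhalf) Subgroup.index_ne_zero_of_finite).trans ?_
    have h3 := H60.Windows.relIndex_mul_card_inf X.Z Q
    rw [inf_eq_left.2 hZQ, hhalf] at h3
    exact (Nat.eq_of_mul_eq_mul_right Nat.card_pos h3).le
  have h4 : X.Z.relIndex (MulAut.conj X.c⁻¹ • X.Z) ≠ 1 := by
    intro h
    refine X.Z'_ne hab hZQ hhalf (Subgroup.eq_of_le_of_card_ge (Subgroup.relIndex_eq_one.1 h) ?_)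
    rw [H60.Windows.card_smul_eq]
  have h5 : X.Z.relIndex (MulAut.conj X.c⁻¹ • X.Z) ≠ 0 := Subgroup.index_ne_zero_of_finite
  rw [hhalf, ← h1, show X.Z.relIndex (MulAut.conj X.c⁻¹ • X.Z) = 2 by omega]
  ring

theorem F_le : X.F ≤ Q := inf_le_left.trans hZQ

theorem c_commute_F {f : G} (hf : f ∈ X.F) : X.c * f = f * X.c :=
  (Subgroup.mem_centralizer_iff.1 (X.F_cent X.c_mem) f hf).symm

/-- An element moved by the rotation inside a coset of its fixed points is fixed. -/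
theorem shift_fixed {a δ : G} {e : ℕ} (hδ : δ ∈ Q) (hδc : X.c * δ = δ * X.c)
    (h : X.c ^ e * a * (X.c ^ e)⁻¹ = a * δ) : δ = 1 := by
  have hce : ∀ m : ℕ, X.c ^ m * δ * (X.c ^ m)⁻¹ = δ := fun m => by
    rw [(Commute.pow_left hδc m).eq, mul_inv_cancel_right]
  have key : ∀ k : ℕ, (X.c ^ e) ^ k * a * ((X.c ^ e) ^ k)⁻¹ = a * δ ^ k := by
    intro k
    induction k with
    | zero => simp
    | succ k ih =>
      rw [pow_succ' (X.c ^ e), mul_inv_rev,
        show X.c ^ e * (X.c ^ e) ^ k * a * (((X.c ^ e) ^ k)⁻¹ * (X.c ^ e)⁻¹) =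
          X.c ^ e * ((X.c ^ e) ^ k * a * ((X.c ^ e) ^ k)⁻¹) * (X.c ^ e)⁻¹ by group, ih,
        show X.c ^ e * (a * δ ^ k) * (X.c ^ e)⁻¹ =
          (X.c ^ e * a * (X.c ^ e)⁻¹) * (X.c ^ e * δ * (X.c ^ e)⁻¹) ^ k by rw [conj_pow]; group,
        h, hce, mul_assoc, ← pow_succ']
  have hn := key n
  rw [← pow_mul, mul_comm e n, pow_mul, X.c_pow, one_pow, one_mul, inv_one, mul_one,
    left_eq_mul] at hn
  exact orderOf_eq_one_iff.1 (Nat.eq_one_of_dvd_coprimes (Nat.coprime_two_left.2 X.odd)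
    (orderOf_dvd_of_pow_eq_one (by rw [pow_two]; exact hab δ hδ)) (orderOf_dvd_of_pow_eq_one hn))

theorem mul_mem_Z {a b : G} (ha : a ∈ Q) (haZ : a ∉ X.Z) (hb : b ∈ Q) (hbZ : b ∉ X.Z) :
    a * b ∈ X.Z := by
  have hidx : (X.Z.subgroupOf Q).index = 2 := by
    have h3 := H60.Windows.relIndex_mul_card_inf X.Z Q
    rw [inf_eq_left.2 hZQ, hhalf] at h3
    exact Nat.eq_of_mul_eq_mul_right Nat.card_pos h3
  exact (Subgroup.mul_mem_iff_of_index_two hidx (a := (⟨a, ha⟩ : Q)) (b := ⟨b, hb⟩)).2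
    (iff_of_false haZ hbZ)

/-- The fixed points of the rotation on `Q` are central. -/
theorem fixed_mem_F {q : G} (hq : q ∈ Q) (hqc : X.c * q = q * X.c) : q ∈ X.F := by
  by_cases hqZ : q ∈ X.Z
  · refine ⟨hqZ, ?_⟩
    show q ∈ MulAut.conj X.c⁻¹ • X.Z
    rw [mem_conj_smul, inv_inv, hqc, mul_inv_cancel_right]
    exact hqZ
  exfalso
  obtain ⟨z, hz, hzF⟩ : ∃ z ∈ X.Z, z ∉ X.F := by
    by_contra h
    push Not at h
    have := Subgroup.card_le_of_le (show X.Z ≤ X.F from h)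
    have := X.card_F hab hZQ hhalf
    have : 0 < Nat.card X.F := Nat.card_pos
    omega
  set z' := X.c * z * X.c⁻¹ with hz'
  have hz'Q : z' ∈ Q := (Subgroup.mem_normalizer_iff.1 X.c_norm_Q z).1 (hZQ hz)
  have hz'Z : z' ∉ X.Z := fun h => hzF ⟨hz, by
    show z ∈ MulAut.conj X.c⁻¹ • X.Z
    rw [mem_conj_smul, inv_inv]; exact h⟩
  have hw : q * z' ∈ X.Z := X.mul_mem_Z hab hZQ hhalf hq hqZ hz'Q hz'Z
  by_cases hwF : q * z' ∈ X.F
  · have hc := X.c_commute_F hab hZQ hhalf hwF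
    have hq2 : q⁻¹ * (q * z') = z' := by group
    have hz'c : X.c * z' = z' * X.c := by
      rw [← hq2]
      exact (Commute.inv_right hqc).mul_right hc
    have : z' = z := by
      calc z' = X.c⁻¹ * (X.c * z') := by group
        _ = X.c⁻¹ * (z' * X.c) := by rw [hz'c]
        _ = z := by rw [hz']; group
    exact hz'Z (this ▸ hz)
  · -- both outside `F` in `Z`, so they differ by an element of `F`
    have hzQ := hZQ hz
    have hidx : (X.F.subgroupOf X.Z).index = 2 := by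
      have h3 := H60.Windows.relIndex_mul_card_inf X.F X.Z
      rw [inf_eq_left.2 (show X.F ≤ X.Z from inf_le_left)] at h3
      have h4 := X.card_F hab hZQ hhalf
      rw [hhalf, ← h3] at h4
      have h5 : 0 < Nat.card X.F := Nat.card_pos
      have h6 : X.F.relIndex X.Z * Nat.card X.F = 2 * Nat.card X.F := by linarith
      exact Nat.eq_of_mul_eq_mul_right h5 h6
    have hf : z * (q * z') ∈ X.F := (Subgroup.mul_mem_iff_of_index_two hidx (a := (⟨z, hz⟩ : X.Z))
      (b := ⟨q * z', hw⟩)).2 (iff_of_false hzF hwF)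
    set f := z * (q * z') with hfdef
    have hrel : X.c ^ 1 * z * (X.c ^ 1)⁻¹ = z * (q * f) := by
      have hfQ := X.F_le hab hZQ hhalf hf
      rw [pow_one, ← hz']
      have h1 : q * f = z * z' := by
        rw [hfdef, ← mul_assoc, X.Q_comm hab hq hzQ, mul_assoc, ← mul_assoc q q, hab q hq, one_mul]
      rw [h1, ← mul_assoc, hab z hzQ, one_mul]
    have h1 := X.shift_fixed hab hZQ hhalf (mul_mem hq (X.F_le hab hZQ hhalf hf))
      ((Commute.mul_right hqc (X.c_commute_F hab hZQ hhalf hf))) hrel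
    exact hqZ (by
      have : q = f⁻¹ := eq_inv_of_mul_eq_one_left h1
      rw [this]
      exact inv_mem (inf_le_left (a := X.Z) hf))

/-- The cube of the rotation centralises `Q`. -/
theorem cube_cent {q : G} (hq : q ∈ Q) : X.c ^ 3 * q * (X.c ^ 3)⁻¹ = q := by
  haveI := X.sub_normal
  set ψ : ↥H →* MulAut ↥(Q.subgroupOf H) := MulAut.conjNormal
  set φ := ψ X.cH with hφ
  set F' : Subgroup ↥(Q.subgroupOf H) := (X.F.subgroupOf H).subgroupOf (Q.subgroupOf H) with hF'
  have hfix : ∀ a : ↥(Q.subgroupOf H), a ∈ F' → φ a = a := fun a ha => by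
    apply Subtype.ext
    apply Subtype.ext
    show X.c * ((a : ↥H) : G) * X.c⁻¹ = _
    rw [X.c_commute_F hab hZQ hhalf (show ((a : ↥H) : G) ∈ X.F from ha), mul_inv_cancel_right]
  have hmap : F'.map (φ : ↥(Q.subgroupOf H) →* ↥(Q.subgroupOf H)) = F' := by
    ext a
    constructor
    · rintro ⟨b, hb, rfl⟩
      show φ b ∈ F'
      rw [hfix b hb]; exact hb
    · exact fun ha => ⟨a, ha, hfix a ha⟩
  haveI : F'.Normal := ⟨fun a ha b => by
    have : b * a = a * b := Subtype.ext (Subtype.ext (X.Q_comm hab b.2 a.2))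
    rwa [this, mul_inv_cancel_right]⟩
  set σ := QuotientGroup.congr F' F' φ hmap with hσ
  have hσk : ∀ (k : ℕ) (a : ↥(Q.subgroupOf H)),
      (σ ^ k) (QuotientGroup.mk a) = QuotientGroup.mk ((φ ^ k) a) := by
    intro k
    induction k with
    | zero => intro a; rfl
    | succ k ih =>
      intro a
      rw [pow_succ', pow_succ', MulAut.mul_apply, MulAut.mul_apply, ih]
      rfl
  have hφk : ∀ (k : ℕ) (a : ↥(Q.subgroupOf H)),
      (((φ ^ k) a : ↥H) : G) = X.c ^ k * ((a : ↥H) : G) * (X.c ^ k)⁻¹ := fun k a => by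
    rw [hφ, ← map_pow]; rfl
  have hσn : σ ^ n = 1 := by
    ext a
    obtain ⟨a, rfl⟩ := QuotientGroup.mk'_surjective F' a
    rw [QuotientGroup.mk'_apply, hσk, hφ, ← map_pow, X.cH_pow_n, map_one]
    rfl
  have hcard : Nat.card (↥(Q.subgroupOf H) ⧸ F') = 4 := by
    have h1 := F'.card_mul_index
    have e1 : Nat.card F' = Nat.card X.F := by
      rw [hF', Nat.card_congr (Subgroup.subgroupOfEquivOfLe (H := X.F.subgroupOf H) (K := Q.subgroupOf H)
        (Subgroup.comap_mono (X.F_le hab hZQ hhalf))).toEquiv,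
        Nat.card_congr (Subgroup.subgroupOfEquivOfLe ((X.F_le hab hZQ hhalf).trans X.Q_leH)).toEquiv]
    rw [e1, Nat.card_congr (Subgroup.subgroupOfEquivOfLe X.Q_leH).toEquiv, X.card_F hab hZQ hhalf,
      mul_comm 4] at h1
    exact Nat.eq_of_mul_eq_mul_left Nat.card_pos h1
  have h24 : orderOf σ ∣ 24 := by
    have h1 : orderOf (MulAut.toPerm _ σ) = orderOf σ := orderOf_injective _ (fun a b h => by
      ext x
      exact Equiv.congr_fun h x) σ
    rw [← h1]
    refine (_root_.orderOf_dvd_natCard _).trans ?_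
    rw [Nat.card_perm, hcard]
    decide
  have hσ3 : σ ^ 3 = 1 := by
    refine orderOf_dvd_iff_pow_eq_one.1 ?_
    have hn : orderOf σ ∣ n := orderOf_dvd_of_pow_eq_one hσn
    have hodd : Odd (orderOf σ) := X.odd.of_dvd_nat hn
    exact (Nat.Coprime.pow_right 3 hodd.coprime_two_right).dvd_of_dvd_mul_left
      (show orderOf σ ∣ 2 ^ 3 * 3 from h24)
  set a : ↥(Q.subgroupOf H) := ⟨⟨q, X.Q_leH hq⟩, hq⟩
  have h3 := hσk 3 a
  rw [hσ3] at h3
  have hmem : a⁻¹ * (φ ^ 3) a ∈ F' := QuotientGroup.eq.1 (show (QuotientGroup.mk a : _ ⧸ F') = _ from h3)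
  have hδ : q⁻¹ * (X.c ^ 3 * q * (X.c ^ 3)⁻¹) ∈ X.F := by
    have h' : ((((a⁻¹ * (φ ^ 3) a : ↥(Q.subgroupOf H)) : ↥H)) : G) ∈ X.F := hmem
    rw [Subgroup.coe_mul, Subgroup.coe_mul, hφk] at h'
    exact h'
  have := X.shift_fixed hab hZQ hhalf (a := q) (e := 3) (X.F_le hab hZQ hhalf hδ)
    (X.c_commute_F hab hZQ hhalf hδ) (by group)
  rwa [inv_mul_eq_one, eq_comm] at this

theorem not_cent : ¬ ∀ q ∈ Q, X.c * q = q * X.c := fun h => X.Z'_ne hab hZQ hhalf (by
  ext x
  rw [mem_conj_smul, inv_inv]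
  constructor
  · intro hx
    have h1 := h _ (hZQ hx)
    have : X.c * x * X.c⁻¹ = x := by
      calc X.c * x * X.c⁻¹ = X.c⁻¹ * (X.c * (X.c * x * X.c⁻¹)) := by group
        _ = X.c⁻¹ * ((X.c * x * X.c⁻¹) * X.c) := by rw [h1]
        _ = x := by group
    exact this ▸ hx
  · intro hx
    rw [h x (hZQ hx), mul_inv_cancel_right]
    exact hx)

theorem three_dvd {k : ℕ} (hk : ∀ q ∈ Q, Commute (X.c ^ k) q) : 3 ∣ k := by
  by_contra h3
  refine X.not_cent hab hZQ hhalf fun q hq => ?_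
  have hc3 : Commute (X.c ^ 3) q := by
    show X.c ^ 3 * q = q * X.c ^ 3
    calc X.c ^ 3 * q = (X.c ^ 3 * q * (X.c ^ 3)⁻¹) * X.c ^ 3 := by group
      _ = q * X.c ^ 3 := by rw [X.cube_cent hab hZQ hhalf hq]
  have hg : Nat.gcd k 3 = 1 := Nat.Coprime.symm ((Nat.prime_three.coprime_iff_not_dvd).2 h3)
  have hb := Nat.gcd_eq_gcd_ab k 3
  rw [hg] at hb
  have h1 : X.c = (X.c ^ k) ^ (Nat.gcdA k 3) * (X.c ^ 3) ^ (Nat.gcdB k 3) := by
    rw [← zpow_natCast X.c k, ← zpow_natCast X.c 3, ← zpow_mul, ← zpow_mul, ← zpow_add, ← hb]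
    simp
  rw [h1]
  exact ((hk q hq).zpow_left _).mul_left (hc3.zpow_left _)

theorem three_dvd_n : 3 ∣ n := X.three_dvd hab hZQ hhalf fun q _ => by
  rw [X.c_pow]; exact Commute.one_left q

/-- The odd core of `H`. -/
noncomputable def N : Subgroup ↥H := zpowers (X.cH ^ 3)

theorem Q_comm_N {r h : ↥H} (hr : (r : G) ∈ Q) (hh : h ∈ X.N) : r * h = h * r := by
  obtain ⟨k, rfl⟩ := Subgroup.mem_zpowers_iff.1 hh
  have hc : Commute r (X.cH ^ 3) := by
    refine Subtype.ext ?_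
    show (r : G) * X.c ^ 3 = X.c ^ 3 * r
    calc (r : G) * X.c ^ 3 = (X.c ^ 3 * r * (X.c ^ 3)⁻¹) * X.c ^ 3 := by
          rw [X.cube_cent hab hZQ hhalf hr]
      _ = X.c ^ 3 * r := by group
  exact (hc.zpow_right k).eq

theorem invert_cube {t : G} (ht : t ∈ P) (htQ : t ∉ Q) :
    (⟨t, X.P_le ht⟩ : ↥H) * X.cH ^ 3 * (⟨t, X.P_le ht⟩ : ↥H)⁻¹ = (X.cH ^ 3)⁻¹ := by
  obtain ⟨i, hi⟩ := X.image_of_P ht htQ
  set tH : ↥H := ⟨t, X.P_le ht⟩
  set r := X.cH ^ 3 * (tH * X.cH ^ 3 * tH⁻¹) with hr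
  have hrQ : (r : G) ∈ Q := by
    rw [← X.ker, hr, map_mul, map_mul, map_mul, map_inv, hi, X.π_cH_pow, DihedralGroup.inv_sr,
      DihedralGroup.sr_mul_r, DihedralGroup.sr_mul_sr, DihedralGroup.r_mul_r, DihedralGroup.one_def]
    congr 1
    ring
  have h3n : (X.cH ^ 3) ^ n = 1 := by rw [← pow_mul, mul_comm, pow_mul, X.cH_pow_n, one_pow]
  have h1 : ((X.cH ^ 3)⁻¹ * r) ^ n = 1 := by
    rw [hr, inv_mul_cancel_left, conj_pow, h3n, mul_one, mul_inv_cancel]
  have hc : Commute (X.cH ^ 3)⁻¹ r :=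
    (X.Q_comm_N hab hZQ hhalf hrQ ((X.N).inv_mem (Subgroup.mem_zpowers _))).symm
  rw [hc.mul_pow, inv_pow, h3n, inv_one, one_mul] at h1
  have h2 := X.eq_one_of_odd_of_mem_Q hrQ X.odd h1
  exact eq_inv_of_mul_eq_one_right h2

theorem N_normal : (X.N).Normal := by
  rw [← Subgroup.normalizer_eq_top_iff, eq_top_iff]
  have hc : X.cH ∈ normalizer (X.N : Set ↥H) := by
    refine Subgroup.centralizer_le_normalizer _ (Subgroup.mem_centralizer_iff.2 fun x hx => ?_)
    obtain ⟨k, rfl⟩ := Subgroup.mem_zpowers_iff.1 hx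
    exact (((Commute.refl X.cH).pow_left 3).zpow_left k).eq
  obtain ⟨t, ht, htQ⟩ := X.exists_not_mem
  have htN : (⟨t, X.P_le ht⟩ : ↥H) ∈ normalizer (X.N : Set ↥H) := by
    have hmap : X.N.map (MulAut.conj (⟨t, X.P_le ht⟩ : ↥H)).toMonoidHom = X.N := by
      rw [N, MonoidHom.map_zpowers]
      show zpowers ((⟨t, X.P_le ht⟩ : ↥H) * X.cH ^ 3 * (⟨t, X.P_le ht⟩ : ↥H)⁻¹) = _
      rw [X.invert_cube hab hZQ hhalf ht htQ, Subgroup.zpowers_inv]
    rw [Subgroup.mem_normalizer_iff]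
    intro x
    constructor
    · exact fun hx => hmap.le ⟨x, hx, rfl⟩
    · intro hx
      obtain ⟨w, hw, hwx⟩ := hmap.ge hx
      exact ((MulAut.conj (⟨t, X.P_le ht⟩ : ↥H)).injective hwx) ▸ hw
  have hL : H ≤ (normalizer (X.N : Set ↥H)).map H.subtype := by
    refine X.H_le_of (fun q hq => ⟨⟨q, X.Q_leH hq⟩, ?_, rfl⟩) ht htQ ⟨⟨t, X.P_le ht⟩, htN, rfl⟩
      ⟨X.cH⁻¹ * ⟨t, X.P_le ht⟩ * X.cH, mul_mem (mul_mem (inv_mem hc) htN) hc, rfl⟩
    exact Subgroup.centralizer_le_normalizer _ (Subgroup.mem_centralizer_iff.2 fun x hx =>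
      (X.Q_comm_N hab hZQ hhalf (r := ⟨q, X.Q_leH hq⟩) hq hx).symm)
  intro h _
  obtain ⟨h', hh', he⟩ := hL h.2
  exact (Subtype.ext he : h' = h) ▸ hh'

theorem pow_mem_N {k : ℕ} (h : 3 ∣ k) : X.cH ^ k ∈ X.N := by
  obtain ⟨j, rfl⟩ := h
  rw [pow_mul]
  exact pow_mem (Subgroup.mem_zpowers _) j

theorem oddCore_N : Cfsg.oddCore ↥H = X.N :=
  X.oddCore_eq 3 (X.N_normal hab hZQ hhalf) fun k q hq hcomm => X.pow_mem_N hab hZQ hhalf
    (X.three_dvd hab hZQ hhalf fun r hr => by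
      have h1 : Commute (⟨r, X.Q_leH hr⟩ : ↥H) (X.cH ^ k * q) := hcomm _ hr
      have h2 : Commute (⟨r, X.Q_leH hr⟩ : ↥H) q := Subtype.ext (X.Q_comm hab hr hq)
      have h3 : Commute (⟨r, X.Q_leH hr⟩ : ↥H) (X.cH ^ k) := by
        have := h1.mul_right h2.inv_right
        rwa [mul_inv_cancel_right] at this
      exact (congrArg Subtype.val h3.symm.eq : X.c ^ k * r = r * X.c ^ k))

theorem cent_form {h : ↥H} (hh : ∀ r : ↥H, (r : G) ∈ Q → r * h = h * r) :
    ∃ k : ℕ, 3 ∣ k ∧ ∃ q : ↥H, (q : G) ∈ Q ∧ h = X.cH ^ k * q := by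
  rcases hc : X.π h with j | j
  · obtain ⟨k, q, hq, rfl⟩ := X.rot_form hc
    refine ⟨k, X.three_dvd hab hZQ hhalf fun r hr => ?_, q, hq, rfl⟩
    have h1 : Commute (⟨r, X.Q_leH hr⟩ : ↥H) (X.cH ^ k * q) := hh _ hr
    have h2 : Commute (⟨r, X.Q_leH hr⟩ : ↥H) q := Subtype.ext (X.Q_comm hab hr hq)
    have h3 : Commute (⟨r, X.Q_leH hr⟩ : ↥H) (X.cH ^ k) := by
      have := h1.mul_right h2.inv_right
      rwa [mul_inv_cancel_right] at this
    exact (congrArg Subtype.val h3.symm.eq : X.c ^ k * r = r * X.c ^ k)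
  · exfalso
    obtain ⟨t, ht, htQ⟩ := X.exists_not_mem
    obtain ⟨k, q, hq, he⟩ := X.refl_form hc ht htQ
    have hall : Q ≤ X.Z := fun r hr => by
      refine X.mem_Z_of_commute' hab hr ht htQ ?_
      have hr' : X.c ^ k * r * (X.c ^ k)⁻¹ ∈ Q :=
        (Subgroup.mem_normalizer_iff.1 (pow_mem X.c_norm_Q k) r).1 hr
      have h1 := congrArg Subtype.val (hh ⟨_, X.Q_leH hr'⟩ hr')
      have h2 : (X.c ^ k)⁻¹ * (h : G) * X.c ^ k = t * (q : G) := congrArg Subtype.val he
      simp only [Subgroup.coe_mul] at h1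
      have h3 : r * (t * (q : G)) = (t * (q : G)) * r := by
        rw [← h2]
        calc r * ((X.c ^ k)⁻¹ * (h : G) * X.c ^ k)
            = (X.c ^ k)⁻¹ * ((X.c ^ k * r * (X.c ^ k)⁻¹) * (h : G)) * X.c ^ k := by group
          _ = (X.c ^ k)⁻¹ * ((h : G) * (X.c ^ k * r * (X.c ^ k)⁻¹)) * X.c ^ k := by rw [h1]
          _ = ((X.c ^ k)⁻¹ * (h : G) * X.c ^ k) * r := by group
      rw [mul_assoc t, X.Q_comm hab hq hr, ← mul_assoc, ← mul_assoc] at h3
      exact (mul_right_cancel h3).symm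
    have := Subgroup.card_le_of_le hall
    have : 0 < Nat.card X.Z := Nat.card_pos
    omega

theorem rot_dvd {k : ℕ} {q : ↥H} (hq : (q : G) ∈ Q) {m : ℕ} (hm : (X.cH ^ k * q) ^ m ∈ X.N) :
    3 ∣ k * m := by
  obtain ⟨j, hj⟩ := mem_powers_iff_mem_zpowers.2 hm
  have h1 := congrArg X.π hj
  simp only at h1
  rw [← pow_mul, map_pow X.π (X.cH ^ k * q), map_mul, (X.ker q).2 hq, mul_one, X.π_cH_pow, X.π_cH_pow,
    DihedralGroup.r_pow] at h1
  injection h1 with h1
  have h2 : ((3 * j : ℕ) : ZMod n) = ((k * m : ℕ) : ZMod n) := by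
    refine X.isUnit_card.mul_left_cancel ?_
    rw [h1]; push_cast; ring
  have h3 := congrArg (ZMod.castHom (X.three_dvd_n hab hZQ hhalf) (ZMod 3)) h2
  rw [map_natCast, map_natCast] at h3
  refine (ZMod.natCast_eq_zero_iff (k * m) 3).1 ?_
  rw [← h3, Nat.cast_mul, ZMod.natCast_self, zero_mul]

theorem eq_one_of_N_of_Q {r : ↥H} (hr : r ∈ X.N) (hrQ : (r : G) ∈ Q) : r = 1 := by
  obtain ⟨j, rfl⟩ := Subgroup.mem_zpowers_iff.1 hr
  refine X.eq_one_of_odd_of_mem_Q hrQ X.odd ?_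
  rw [← zpow_natCast, ← zpow_mul, mul_comm, zpow_mul, zpow_natCast, ← pow_mul, mul_comm 3, pow_mul,
    X.cH_pow_n, one_pow, one_zpow]

theorem commute_of_mem_N {r h : ↥H} (hr : (r : G) ∈ Q) (h1 : h * r * h⁻¹ * r⁻¹ ∈ X.N) :
    Commute r h := by
  have h2 := X.eq_one_of_N_of_Q hab hZQ hhalf h1 (by
    rw [Subgroup.coe_mul]
    exact mul_mem (Subgroup.Normal.conj_mem X.sub_normal r hr h) (inv_mem hr))
  exact (commutatorElement_eq_one_iff_mul_comm.1 h2).symm

theorem fixed_of_commute {r : ↥H} (hr : (r : G) ∈ Q) {k : ℕ} (h3k : ¬ 3 ∣ k) {q : ↥H}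
    (hq : (q : G) ∈ Q) (hc : Commute r (X.cH ^ k * q)) : (r : G) ∈ X.F := by
  refine X.fixed_mem_F hab hZQ hhalf hr ?_
  have h2 : Commute r q := Subtype.ext (X.Q_comm hab hr hq)
  have hck : Commute r (X.cH ^ k) := by
    have := hc.mul_right h2.inv_right
    rwa [mul_inv_cancel_right] at this
  have hc3 : Commute r (X.cH ^ 3) := X.Q_comm_N hab hZQ hhalf hr (Subgroup.mem_zpowers _)
  have hg : Nat.gcd k 3 = 1 := Nat.Coprime.symm ((Nat.prime_three.coprime_iff_not_dvd).2 h3k)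
  have hb := Nat.gcd_eq_gcd_ab k 3
  rw [hg] at hb
  have h1 : X.cH = (X.cH ^ k) ^ (Nat.gcdA k 3) * (X.cH ^ 3) ^ (Nat.gcdB k 3) := by
    rw [← zpow_natCast X.cH k, ← zpow_natCast X.cH 3, ← zpow_mul, ← zpow_mul, ← zpow_add, ← hb]
    simp
  have : Commute r X.cH := by
    rw [h1]
    exact (hck.zpow_right _).mul_right (hc3.zpow_right _)
  exact (congrArg Subtype.val this.symm.eq : X.c * r = r * X.c)

variable (t : G) (ht : t ∈ P) (htQ : t ∉ Q) (ht2 : t * t = 1)
include ht htQ ht2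

theorem exists_complement : ∃ E : Subgroup G, X.c ∈ E ∧ t ∈ E ∧ E ≤ H ∧ E ⊓ X.F = ⊥ ∧ E ⊔ X.F = H := by
  have hQH := X.Q_leH
  have hcQ : ∀ {q}, q ∈ Q → X.c * q * X.c⁻¹ ∈ Q := fun {q} hq =>
    (Subgroup.mem_normalizer_iff.1 X.c_norm_Q q).1 hq
  let W : Subgroup G :=
    { carrier := {x | ∃ q ∈ Q, x = X.c * q * X.c⁻¹ * q⁻¹}
      one_mem' := ⟨1, one_mem _, by group⟩
      mul_mem' := by
        rintro _ _ ⟨q, hq, rfl⟩ ⟨r, hr, rfl⟩
        refine ⟨q * r, mul_mem hq hr, ?_⟩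
        have h1 := X.Q_comm hab (inv_mem hq) (mul_mem (hcQ hr) (inv_mem hr))
        rw [mul_assoc _ q⁻¹, h1, mul_inv_rev]
        group
      inv_mem' := by
        rintro _ ⟨q, hq, rfl⟩
        refine ⟨q⁻¹, inv_mem hq, ?_⟩
        rw [X.Q_comm hab (hcQ hq) (inv_mem hq)]
        group }
  have hWQ : W ≤ Q := by
    rintro _ ⟨q, hq, rfl⟩
    exact mul_mem (hcQ hq) (inv_mem hq)
  have hWF : ∀ w ∈ W, w ∈ X.F → w = 1 := by
    rintro w ⟨q, hq, hwq⟩ hwF
    refine X.shift_fixed hab hZQ hhalf (a := q) (e := 1) (X.F_le hab hZQ hhalf hwF)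
      (X.c_commute_F hab hZQ hhalf hwF) ?_
    rw [pow_one, X.Q_comm hab hq (X.F_le hab hZQ hhalf hwF), hwq, inv_mul_cancel_right]
  have hQWF : Q ≤ W ⊔ X.F := by
    let f : Q → W := fun q => ⟨_, q, q.2, rfl⟩
    have hfib : ∀ q r : Q, f q = f r → ((r : G)⁻¹ * q) ∈ X.F := by
      intro q r h
      refine X.fixed_mem_F hab hZQ hhalf (mul_mem (inv_mem r.2) q.2) ?_
      have h' : X.c * (q : G) * X.c⁻¹ * (q : G)⁻¹ = X.c * (r : G) * X.c⁻¹ * (r : G)⁻¹ :=
        congrArg Subtype.val h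
      calc X.c * ((r : G)⁻¹ * q) = (X.c * (r : G) * X.c⁻¹)⁻¹ * (X.c * (q : G) * X.c⁻¹ * (q : G)⁻¹) * q * X.c := by
            group
        _ = (r : G)⁻¹ * q * X.c := by rw [h']; group
    have hcard : Nat.card Q ≤ Nat.card W * Nat.card X.F := by
      rw [← Nat.card_prod]
      let sec : W → Q := fun w => ⟨w.2.choose, w.2.choose_spec.1⟩
      have hsec : ∀ w, f (sec w) = w := fun w => Subtype.ext w.2.choose_spec.2.symm
      refine Nat.card_le_card_of_injective
        (fun q : Q => (f q, (⟨_, hfib q (sec (f q)) (hsec (f q)).symm⟩ : X.F))) ?_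
      intro q r h
      simp only [Prod.mk.injEq, Subtype.mk.injEq] at h
      obtain ⟨h1, h2⟩ := h
      have h2' : ((sec (f q) : Q) : G)⁻¹ * q = ((sec (f r) : Q) : G)⁻¹ * r := h2
      rw [show sec (f q) = sec (f r) from congrArg sec h1] at h2'
      exact Subtype.ext (mul_left_cancel h2')
    intro q hq
    by_contra hq'
    have hinj : Function.Injective (fun x : W × X.F =>
        (⟨(x.1 : G) * x.2, mul_mem (hWQ x.1.2) (X.F_le hab hZQ hhalf x.2.2)⟩ : Q)) := by
      rintro ⟨a, b⟩ ⟨a', b'⟩ h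
      have h' : (a : G) * b = a' * b' := congrArg Subtype.val h
      have hmem : (a' : G)⁻¹ * a ∈ X.F := by
        rw [show (a' : G)⁻¹ * a = b' * (b : G)⁻¹ by
          calc (a' : G)⁻¹ * a = (a' : G)⁻¹ * (a * b) * (b : G)⁻¹ := by group
            _ = b' * (b : G)⁻¹ := by rw [h']; group]
        exact mul_mem b'.2 (X.F.inv_mem b.2)
      have := hWF _ (mul_mem (W.inv_mem a'.2) a.2) hmem
      rw [inv_mul_eq_one] at this
      rw [this] at h'
      exact Prod.ext (Subtype.ext this.symm) (Subtype.ext (mul_left_cancel h'))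
    have := Nat.card_le_card_of_injective _ hinj
    rw [Nat.card_prod] at this
    haveI : Fintype (W × X.F) := Fintype.ofFinite _
    have hbij := (Nat.bijective_iff_injective_and_card _).2 ⟨hinj, by rw [Nat.card_prod]; omega⟩
    obtain ⟨⟨a, b⟩, hx⟩ := hbij.2 ⟨q, hq⟩
    exact hq' (by
      rw [← show (a : G) * b = q from congrArg Subtype.val hx]
      exact Subgroup.mul_mem_sup a.2 b.2)
  -- the rotation and the reflection normalise `W`
  have hcW : ∀ w ∈ W, X.c * w * X.c⁻¹ ∈ W := by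
    rintro _ ⟨q, hq, rfl⟩
    exact ⟨_, hcQ hq, by group⟩
  have hcW' : X.c ∈ normalizer (W : Set G) := by
    have heq : MulAut.conj X.c • W = W := (Subgroup.eq_of_le_of_card_ge (fun w hw => by
      have hw' : w ∈ W.map (MulAut.conj X.c).toMonoidHom := hw
      obtain ⟨v, hv, rfl⟩ := hw'
      exact hcW v hv) (H60.Windows.card_smul_eq _ _).ge)
    rw [Subgroup.mem_normalizer_iff'']
    intro z
    rw [← mem_conj_smul, heq]
  set tH : ↥H := ⟨t, X.P_le ht⟩
  obtain ⟨q₀, hq₀, hinv⟩ := X.invert ht htQ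
  have hinvG : t * X.c * t⁻¹ = X.c⁻¹ * (q₀ : G) := congrArg Subtype.val hinv
  obtain ⟨w, hw, f, hf, hwf⟩ : ∃ w ∈ W, ∃ f ∈ X.F, w * f = (q₀ : G) := by
    have h := hQWF hq₀
    have hn : W ≤ normalizer (X.F : Set G) :=
      ((hWQ.trans hQH).trans X.F_cent).trans (Subgroup.centralizer_le_normalizer _)
    rw [← SetLike.mem_coe, Subgroup.coe_mul_of_left_le_normalizer_right W X.F hn] at h
    exact h
  have hf1 : f = 1 := by
    have hpow : ∀ k : ℕ, ∃ w' ∈ W, (X.c⁻¹ * w) ^ k = (X.c ^ k)⁻¹ * w' := by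
      intro k
      induction k with
      | zero => exact ⟨1, one_mem _, by simp⟩
      | succ k ih =>
        obtain ⟨w', hw', h⟩ := ih
        refine ⟨(X.c * w' * X.c⁻¹) * w, mul_mem (hcW w' hw') hw, ?_⟩
        rw [pow_succ, h, pow_succ' X.c k, mul_inv_rev]
        group
    obtain ⟨w', hw', h⟩ := hpow n
    have hfc : Commute (X.c⁻¹ * w) f := by
      have h1 : Commute w f := X.Q_comm hab (hWQ hw) (X.F_le hab hZQ hhalf hf)
      have h2 : Commute X.c f := X.c_commute_F hab hZQ hhalf hf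
      exact h2.inv_left.mul_left h1
    have hn : (X.c⁻¹ * (q₀ : G)) ^ n = 1 := by
      rw [← hinvG, conj_pow, X.c_pow, mul_one, mul_inv_cancel]
    rw [← hwf, ← mul_assoc, hfc.mul_pow, h, X.c_pow, inv_one, one_mul] at hn
    have hfn : f ^ n ∈ W := by
      rw [eq_inv_of_mul_eq_one_right hn]; exact inv_mem hw'
    have h1 := hWF _ hfn (pow_mem hf n)
    have h2 : f * f = 1 := hab f (X.F_le hab hZQ hhalf hf)
    exact orderOf_eq_one_iff.1 (Nat.eq_one_of_dvd_coprimes (Nat.coprime_two_left.2 X.odd)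
      (orderOf_dvd_of_pow_eq_one (by rw [pow_two]; exact h2)) (orderOf_dvd_of_pow_eq_one h1))
  rw [hf1, mul_one] at hwf
  rw [← hwf] at hinvG
  set E₀ : Subgroup G := zpowers X.c ⊔ W with hE₀
  have hcn : zpowers X.c ≤ normalizer (W : Set G) := Subgroup.zpowers_le.2 hcW'
  have htE₀ : t ∈ normalizer (E₀ : Set G) := by
    have hle : MulAut.conj t • E₀ ≤ E₀ := by
      have hti : t⁻¹ = t := (eq_inv_of_mul_eq_one_left ht2).symm
      have h1 : E₀ ≤ MulAut.conj t • E₀ := by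
        refine sup_le (Subgroup.zpowers_le.2 ?_) ?_
        · rw [mem_conj_smul, hti]
          have : t * X.c * t = X.c⁻¹ * w := by nth_rewrite 2 [← hti]; exact hinvG
          rw [this]
          exact mul_mem (Subgroup.mem_sup_left (inv_mem (Subgroup.mem_zpowers _))) (Subgroup.mem_sup_right hw)
        · rintro _ ⟨q, hq, rfl⟩
          rw [mem_conj_smul, hti]
          refine Subgroup.mem_sup_right ?_
          have hq' : t * q * t ∈ Q := by
            have := (Subgroup.mem_normalizer_iff.1 (X.Q_norm (X.P_le ht)) q).1 hq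
            rwa [hti] at this
          set q' := t * q * t with hq'def
          have hq'i : t * q⁻¹ * t = q'⁻¹ := by
            rw [hq'def, mul_inv_rev, mul_inv_rev, hti]; group
          have hp : X.c⁻¹ * q' * X.c ∈ Q := X.Qc_mem hq'
          refine ⟨(X.c⁻¹ * q' * X.c)⁻¹, inv_mem hp, ?_⟩
          have h2 : t * (X.c * q * X.c⁻¹ * q⁻¹) * t =
              (t * X.c * t⁻¹) * (t * q * t⁻¹) * (t * X.c * t⁻¹)⁻¹ * (t * q⁻¹ * t) := by
            rw [mul_inv_rev, mul_inv_rev]; group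
          rw [h2, hinvG, hq'i, hti, ← hq'def]
          have hwq : w * q' * w⁻¹ = q' := by
            rw [X.Q_comm hab (hWQ hw) hq', mul_inv_cancel_right]
          have h3 : X.c⁻¹ * w * q' * (X.c⁻¹ * w)⁻¹ = X.c⁻¹ * q' * X.c := by
            rw [show X.c⁻¹ * w * q' * (X.c⁻¹ * w)⁻¹ = X.c⁻¹ * (w * q' * w⁻¹) * X.c by group, hwq]
          rw [h3, inv_inv, X.Q_comm hab hp (inv_mem hq')]
          group
      exact fun x hx => by
        have := Subgroup.eq_of_le_of_card_ge h1 (H60.Windows.card_smul_eq _ _).le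
        rwa [← this] at hx
    have heq := Subgroup.eq_of_le_of_card_ge hle (H60.Windows.card_smul_eq _ _).ge
    rw [Subgroup.mem_normalizer_iff'']
    intro z
    rw [← mem_conj_smul, heq]
  set E := zpowers t ⊔ E₀ with hE
  have hE₀H : E₀ ≤ H := sup_le (Subgroup.zpowers_le.2 X.c_mem) (hWQ.trans hQH)
  have hEH : E ≤ H := sup_le (Subgroup.zpowers_le.2 (X.P_le ht)) hE₀H
  have hcE : X.c ∈ E := Subgroup.mem_sup_right (Subgroup.mem_sup_left (Subgroup.mem_zpowers _))
  refine ⟨E, hcE, Subgroup.mem_sup_left (Subgroup.mem_zpowers _), hEH, ?_, ?_⟩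
  · rw [eq_bot_iff]
    rintro x ⟨hx, hxF⟩
    rw [Subgroup.mem_bot]
    replace hx : x ∈ ((zpowers t ⊔ E₀ : Subgroup G) : Set G) := hx
    rw [Subgroup.coe_mul_of_left_le_normalizer_right _ _ (Subgroup.zpowers_le.2 htE₀)] at hx
    obtain ⟨a, ha, e, he, rfl⟩ := hx
    replace he : e ∈ ((zpowers X.c ⊔ W : Subgroup G) : Set G) := he
    rw [Subgroup.coe_mul_of_left_le_normalizer_right _ _ hcn] at he
    obtain ⟨d, hd, v, hv, rfl⟩ := he
    obtain ⟨k, rfl⟩ := mem_powers_iff_mem_zpowers.2 hd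
    obtain ⟨i, rfl⟩ := mem_powers_iff_mem_zpowers.2 ha
    have hxQ := X.F_le hab hZQ hhalf hxF
    have hπ : X.π (tH ^ i * (X.cH ^ k * ⟨v, hQH (hWQ hv)⟩)) = 1 := (X.ker _).2 hxQ
    rw [map_mul, map_mul, (X.ker ⟨v, hQH (hWQ hv)⟩).2 (hWQ hv), mul_one, map_pow] at hπ
    obtain ⟨j, hj⟩ := X.image_of_P ht htQ
    rw [show X.π tH = DihedralGroup.sr j from hj] at hπ
    rcases Nat.even_or_odd i with ⟨m, rfl⟩ | ⟨m, rfl⟩
    · rw [← two_mul, pow_mul, pow_two, DihedralGroup.sr_mul_self, one_pow, one_mul] at hπ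
      have hk := X.dvd_of_π_pow hπ
      obtain ⟨m', rfl⟩ := hk
      have ht' : t ^ (m + m) = 1 := by rw [← two_mul, pow_mul, pow_two, ht2, one_pow]
      show t ^ (m + m) * (X.c ^ (n * m') * v) = 1
      change t ^ (m + m) * (X.c ^ (n * m') * v) ∈ X.F at hxF
      rw [ht', pow_mul, X.c_pow, one_pow, one_mul, one_mul] at hxF ⊢
      exact hWF v hv hxF
    · exfalso
      rw [pow_succ, pow_mul, pow_two, DihedralGroup.sr_mul_self, one_pow, one_mul, X.π_cH_pow,
        DihedralGroup.sr_mul_r, DihedralGroup.one_def] at hπ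
      exact nomatch hπ
  · refine le_antisymm (sup_le hEH ((X.F_le hab hZQ hhalf).trans hQH)) ?_
    have htL : t ∈ E ⊔ X.F := Subgroup.mem_sup_left (Subgroup.mem_sup_left (Subgroup.mem_zpowers _))
    refine X.H_le_of (hQWF.trans (sup_le ?_ le_sup_right)) ht htQ htL
      (mul_mem (mul_mem (inv_mem (Subgroup.mem_sup_left hcE)) htL) (Subgroup.mem_sup_left hcE))
    exact (le_sup_right : W ≤ E₀).trans (le_sup_right.trans le_sup_left)

/-- The isomorphism type modulo the odd core. -/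
theorem quotient_iso (hF : Nat.card X.F = 1 ∨ Nat.card X.F = 2) :
    Nonempty (↥H ⧸ Cfsg.oddCore ↥H ≃* Equiv.Perm (Fin 4)) ∨
      Nonempty (↥H ⧸ Cfsg.oddCore ↥H ≃* Equiv.Perm (Fin 4) × Multiplicative (ZMod 2)) := by
  haveI hNn := X.N_normal hab hZQ hhalf
  haveI := X.sub_normal
  have hN := X.oddCore_N hab hZQ hhalf
  set mk := QuotientGroup.mk' X.N with hmk
  have hmem : ∀ h : ↥H, mk h = 1 ↔ h ∈ X.N := fun h => QuotientGroup.eq_one_iff h
  set Qb := (Q.subgroupOf H).map mk with hQb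
  set Cb := (X.F.subgroupOf H).map mk with hCb
  haveI : Qb.Normal := Subgroup.Normal.map inferInstance mk (QuotientGroup.mk'_surjective _)
  have hinj : ∀ K : Subgroup G, K ≤ Q → Nat.card ((K.subgroupOf H).map mk) = Nat.card K := fun K hK => by
    rw [← Nat.card_congr (Subgroup.subgroupOfEquivOfLe (hK.trans X.Q_leH)).toEquiv]
    refine (Nat.card_eq_of_bijective (fun a : ↥(K.subgroupOf H) =>
      (⟨mk a, a, a.2, rfl⟩ : ↥((K.subgroupOf H).map mk))) ⟨fun a b h => ?_, ?_⟩).symm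
    · have h' : mk ((a : ↥H)⁻¹ * b) = 1 := by
        rw [map_mul, map_inv, show mk a = mk b from congrArg Subtype.val h, inv_mul_cancel]
      have := X.eq_one_of_N_of_Q hab hZQ hhalf ((hmem _).1 h') (hK (mul_mem (inv_mem a.2) b.2))
      exact Subtype.ext (inv_mul_eq_one.1 this)
    · rintro ⟨_, a, ha, rfl⟩
      exact ⟨⟨a, ha⟩, rfl⟩
  have hcardN : Nat.card X.N * 3 = n := by
    have h3 := X.three_dvd_n hab hZQ hhalf
    rw [N, Nat.card_zpowers, orderOf_pow, X.order_cH, Nat.gcd_eq_right h3, Nat.div_mul_cancel h3]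
  have hP : Nat.card (↥H ⧸ X.N) = 24 * Nat.card X.F := by
    have h1 := X.N.card_mul_index
    rw [X.card_H, X.card_F hab hZQ hhalf] at h1
    show X.N.index = _
    exact Nat.eq_of_mul_eq_mul_left Nat.card_pos
      (h1.trans (by linear_combination (8 * Nat.card X.F) * hcardN.symm))
  have hdata := H19.Cubic.iso_of_local (Nat.card X.F) hF Qb Cb ?_ hP ?_ (hinj _ (X.F_le hab hZQ hhalf)) ?_ ?_ ?_ ?_
  · rcases hdata with ⟨-, ⟨e⟩⟩ | ⟨-, ⟨e⟩⟩
    · exact Or.inl ⟨(QuotientGroup.quotientMulEquivOfEq hN).trans e⟩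
    · exact Or.inr ⟨(QuotientGroup.quotientMulEquivOfEq hN).trans e⟩
  · rintro _ ⟨f, hf, rfl⟩
    rw [Subgroup.mem_center_iff]
    intro z
    obtain ⟨z, rfl⟩ := QuotientGroup.mk'_surjective X.N z
    rw [← map_mul, ← map_mul]
    congr 1
    exact Subtype.ext (Subgroup.mem_centralizer_iff.1 (X.F_cent z.2) (f : G) hf).symm
  · rw [hinj Q le_rfl]; exact X.card_F hab hZQ hhalf
  · intro z hz
    obtain ⟨z, rfl⟩ := QuotientGroup.mk'_surjective X.N z
    obtain ⟨k, hk, q, hq, rfl⟩ := X.cent_form hab hZQ hhalf (h := z) fun r hr => by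
      have h1 := Subgroup.mem_centralizer_iff.1 hz (mk r) ⟨r, hr, rfl⟩
      refine (X.commute_of_mem_N hab hZQ hhalf hr ((hmem _).1 ?_)).eq
      rw [map_mul, map_mul, map_mul, map_inv, map_inv, ← hmk] at *
      rw [← h1]; group
    exact ⟨q, hq, by rw [map_mul, (hmem _).2 (X.pow_mem_N hab hZQ hhalf hk), one_mul]⟩
  · intro Nb hNb hNp x hx
    haveI := hNb
    obtain ⟨x, rfl⟩ := QuotientGroup.mk'_surjective X.N x
    have key : ∀ (k : ℕ) (q : ↥H), (q : G) ∈ Q → mk (X.cH ^ k * q) ∈ Nb → 3 ∣ k := by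
      intro k q hq hm
      obtain ⟨a, ha⟩ := hNp ⟨_, hm⟩
      have h1 : mk ((X.cH ^ k * q) ^ 2 ^ a) = 1 := by
        rw [map_pow]
        simpa using congrArg Subtype.val ha
      exact (Nat.Coprime.pow_right a (by norm_num : Nat.Coprime 3 2)).dvd_of_dvd_mul_right
        (X.rot_dvd hab hZQ hhalf hq ((hmem _).1 h1))
    rcases hc : X.π x with j | j
    · obtain ⟨k, q, hq, rfl⟩ := X.rot_form hc
      exact ⟨q, hq, by rw [map_mul, (hmem _).2 (X.pow_mem_N hab hZQ hhalf (key k q hq hx)), one_mul]⟩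
    · exfalso
      have hq : ((X.cH ^ 2)⁻¹ * (X.cH * x * X.cH⁻¹ * x⁻¹) : ↥H) ∈ Q.subgroupOf H := by
        rw [Subgroup.mem_subgroupOf, ← X.ker, map_mul, map_mul, map_mul, map_mul, map_inv, map_inv,
          map_inv, hc, X.π_cH_pow, cH, X.π_c]
        rw [DihedralGroup.inv_sr, DihedralGroup.inv_r, DihedralGroup.inv_r,
          DihedralGroup.r_mul_sr, DihedralGroup.sr_mul_r, DihedralGroup.sr_mul_sr,
          DihedralGroup.r_mul_r, DihedralGroup.one_def]
        congr 1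
        push_cast; ring
      have hm : mk (X.cH * x * X.cH⁻¹ * x⁻¹) ∈ Nb := by
        rw [map_mul, map_mul, map_mul, map_inv, map_inv]
        exact mul_mem (Subgroup.Normal.conj_mem inferInstance _ hx _) (inv_mem hx)
      rw [← mul_inv_cancel_left (X.cH ^ 2) (X.cH * x * X.cH⁻¹ * x⁻¹)] at hm
      have := key 2 _ (Subgroup.mem_subgroupOf.1 hq) hm
      norm_num at this
  · intro Nb d hNb hNQ hd hdN x hx
    obtain ⟨q₁, hq₁, rfl⟩ := hNQ hx
    obtain ⟨d, rfl⟩ := QuotientGroup.mk'_surjective X.N d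
    rcases hc : X.π d with j | j
    · obtain ⟨k, q, hq, rfl⟩ := X.rot_form hc
      refine ⟨q₁, ?_, rfl⟩
      refine X.fixed_of_commute hab hZQ hhalf hq₁ (k := k) ?_ hq ?_
      · intro h3k
        have h1 : mk (X.cH ^ k * q) = mk q := by
          rw [map_mul, (hmem _).2 (X.pow_mem_N hab hZQ hhalf h3k), one_mul]
        rw [← hmk, h1] at hd
        have h2 : mk q ^ 2 = 1 := by
          rw [← map_pow, show q ^ 2 = 1 from Subtype.ext (by rw [pow_two]; exact hab _ hq), map_one]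
        have := orderOf_dvd_of_pow_eq_one h2
        rw [hd] at this
        norm_num at this
      · refine X.commute_of_mem_N hab hZQ hhalf hq₁ ((hmem _).1 ?_)
        have hdN' : mk (X.cH ^ k * q) * mk q₁ = mk q₁ * mk (X.cH ^ k * q) := hdN _ hx
        rw [show mk (X.cH ^ k * q * q₁ * (X.cH ^ k * q)⁻¹ * q₁⁻¹) =
          mk (X.cH ^ k * q) * mk q₁ * (mk (X.cH ^ k * q))⁻¹ * (mk q₁)⁻¹ by simp only [map_mul, map_inv],
          hdN']
        group
    · exfalso
      have h1 : mk (d ^ 3) = 1 := by rw [map_pow, ← hd, hmk, pow_orderOf_eq_one]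
      obtain ⟨m, hm⟩ := mem_powers_iff_mem_zpowers.2 ((hmem _).1 h1)
      have h2 := congrArg X.π hm
      simp only at h2
      rw [← pow_mul, X.π_cH_pow, map_pow, hc, pow_succ, pow_two, DihedralGroup.sr_mul_self, one_mul] at h2
      exact nomatch h2
  · intro hF2
    obtain ⟨E, hcE, htE, hEH, hEF, hEFH⟩ := X.exists_complement hab hZQ hhalf t ht htQ ht2
    set E' := E.subgroupOf H
    have hEn : H ≤ normalizer (E : Set G) := by
      conv_lhs => rw [← hEFH]
      refine sup_le Subgroup.le_normalizer (fun f hf => ?_)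
      refine Subgroup.centralizer_le_normalizer _ (Subgroup.mem_centralizer_iff.2 fun e he => ?_)
      exact (Subgroup.mem_centralizer_iff.1 (X.F_cent (hEH he)) f hf).symm
    haveI : E'.Normal := (Subgroup.normal_subgroupOf_iff_le_normalizer hEH).2 hEn
    have hidx : E'.index = 2 := by
      have h1 := H60.Windows.relIndex_mul_card_inf E H
      rw [inf_eq_left.2 hEH] at h1
      have hn : E ≤ normalizer (X.F : Set G) :=
        (hEH.trans X.F_cent).trans (Subgroup.centralizer_le_normalizer _)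
      have hle : Nat.card H ≤ Nat.card E * Nat.card X.F := by
        rw [← Nat.card_prod]
        refine Nat.card_le_card_of_surjective (fun x : E × X.F =>
          (⟨(x.1 : G) * x.2, mul_mem (hEH x.1.2) (X.Q_leH (X.F_le hab hZQ hhalf x.2.2))⟩ : H)) ?_
        rintro ⟨h, hh⟩
        have hh' : h ∈ E ⊔ X.F := hEFH.ge hh
        rw [← SetLike.mem_coe, Subgroup.coe_mul_of_left_le_normalizer_right E X.F hn] at hh'
        obtain ⟨e, he, f, hf, rfl⟩ := hh'
        exact ⟨(⟨e, he⟩, ⟨f, hf⟩), rfl⟩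
      rw [hF2, mul_comm, ← h1] at hle
      have h2 : E'.index ≤ 2 := Nat.le_of_mul_le_mul_right hle Nat.card_pos
      have h0 : E'.index ≠ 0 := Subgroup.index_ne_zero_of_finite
      have h1' : E'.index ≠ 1 := by
        intro h
        rw [Subgroup.index_eq_one] at h
        have : X.F ≤ E := ((X.F_le hab hZQ hhalf).trans X.Q_leH).trans (Subgroup.subgroupOf_eq_top.1 h)
        rw [inf_eq_right.2 this] at hEF
        rw [hEF, Subgroup.card_bot] at hF2
        omega
      omega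
    classical
    set g₁ : Multiplicative (ZMod 2) := Multiplicative.ofAdd 1
    let χ₀ : ↥H →* Multiplicative (ZMod 2) :=
      { toFun := fun h => if h ∈ E' then 1 else g₁
        map_one' := if_pos (one_mem _)
        map_mul' := fun a b => by
          have h := Subgroup.mul_mem_iff_of_index_two hidx (a := a) (b := b)
          by_cases ha : a ∈ E' <;> by_cases hb : b ∈ E' <;> simp [ha, hb, h] <;> decide }
    have hker : X.N ≤ χ₀.ker := by
      rintro x hx
      have : x ∈ E' := by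
        obtain ⟨k, rfl⟩ := Subgroup.mem_zpowers_iff.1 hx
        exact zpow_mem (show X.cH ^ 3 ∈ E' from pow_mem (show X.cH ∈ E' from hcE) 3) k
      rw [MonoidHom.mem_ker]
      exact if_pos this
    refine ⟨QuotientGroup.lift X.N χ₀ hker, ?_⟩
    rintro _ ⟨f, hf, rfl⟩ hχ
    change (if f ∈ E' then (1 : Multiplicative (ZMod 2)) else g₁) = 1 at hχ
    by_cases hfE : f ∈ E'
    · have : (f : G) ∈ E ⊓ X.F := ⟨hfE, hf⟩
      rw [hEF, Subgroup.mem_bot] at this
      rw [show f = 1 from Subtype.ext this, map_one]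
    · rw [if_neg hfE] at hχ
      exact absurd hχ (by decide)

omit hab hZQ hhalf ht htQ ht2 t

open H60.Windows in
/-- The conclusion of the pushing-up lemma. -/
theorem conclusion :
    (Nat.card P = 4 ∨ Nat.card P = 8 ∨ Nat.card P = 16) ∧
    (Nonempty (↥H ⧸ Cfsg.oddCore ↥H ≃* Multiplicative (ZMod 2) × Multiplicative (ZMod 2)) ∨
     Nonempty (↥H ⧸ Cfsg.oddCore ↥H ≃* Equiv.Perm (Fin 4)) ∨
     Nonempty (↥H ⧸ Cfsg.oddCore ↥H ≃* Equiv.Perm (Fin 4) × Multiplicative (ZMod 2))) := by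
  by_cases hZ : X.Z ≤ Q
  swap
  · obtain ⟨hQ2, hQc, hP⟩ := X.card_four hZ
    exact ⟨Or.inl (by rw [X.card_P, hQ2]), Or.inl (X.klein hQ2 hQc hP)⟩
  obtain ⟨s, hPs, hs2, ⟨D⟩⟩ := X.exists_windows
  obtain ⟨d, hcases, hne, hmin⟩ := X.window_cases hZ D hs2
  have hsd : s = 3 ∧ d = 2 ∨ s = 4 ∧ d = 3 := by
    rcases hcases with h | h | ⟨rfl, rfl⟩
    · exact Or.inl h
    · exact Or.inr h
    · exact (X.not_six hZ D hne hmin).elim
  have hQW := X.W_pred_eq (s := s) (by omega)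
  have hcomm : ∀ i j : ℤ, 1 ≤ i → i < s → 1 ≤ j → j < s → Commute (D.x i) (D.x j) :=
    fun i j h1 h2 h3 h4 => hmin i j (by omega)
  have hab : ∀ a ∈ Q, a * a = 1 := by
    let T : Subgroup G :=
      { carrier := {v | v ∈ W P X.g s (s - 1) 1 ∧ v * v = 1}
        one_mem' := ⟨one_mem _, one_mul _⟩
        mul_mem' := by
          rintro a b ⟨ha, ha2⟩ ⟨hb, hb2⟩
          refine ⟨mul_mem ha hb, ?_⟩
          have hba : Commute b a := D.commute_W (by omega)
            (fun i h3 h4 => (D.commute_W (by omega)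
              (fun k h5 h6 => hcomm i k h3 (by omega) h5 (by omega)) hb).symm) ha
          calc a * b * (a * b) = a * (b * a) * b := by group
            _ = (a * a) * (b * b) := by rw [hba.eq]; group
            _ = 1 := by rw [ha2, hb2, one_mul]
        inv_mem' := by
          rintro a ⟨ha, ha2⟩
          exact ⟨inv_mem ha, by rw [← mul_inv_rev, ha2, inv_one]⟩ }
    intro a ha
    exact ((D.span (H := T) (by omega) fun j h1 h2 =>
      ⟨D.x_mem (by omega) h1 h2, X.x_sq D j⟩) (hQW.ge ha)).2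
  have hxP : ∀ j : ℤ, 0 ≤ j → j < s → D.x j ∈ P := fun j h1 h2 =>
    (X.W_zero_eq s).le (D.x_mem le_rfl h1 (by omega))
  have ht : D.x 0 ∈ P := hxP 0 le_rfl (by omega)
  have htQ : D.x 0 ∉ Q := fun h => by
    have h2 := D.x_notMem (show s - 1 < s by omega) 0
    rw [zero_add] at h2
    exact h2 (hQW.ge h)
  have hnle : ¬ Q ≤ X.Z := fun h => by
    refine hne ?_
    have hd : D.x (d : ℤ) ∈ Q := hQW.le (D.x_mem (by omega) (by omega) (by omega))
    exact (h hd).2.2 _ ht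
  have hQcard : Nat.card Q = 2 ^ (s - 1) := by
    rw [← hQW]; exact D.toWin.card_W (by omega) 1
  have hZdvd : Nat.card X.Z ∣ Nat.card Q := Subgroup.card_dvd_of_le hZ
  have hZlt : Nat.card X.Z ≠ Nat.card Q := fun h =>
    hnle (Subgroup.eq_of_le_of_card_ge hZ h.ge).ge
  have hZ1 : Nat.card X.Z ≠ 1 := fun h => X.Z_ne_bot (Subgroup.card_eq_one.1 h)
  have hhalf : Nat.card Q = 2 * Nat.card X.Z ∧ (s = 3 ∧ Nat.card X.Z = 2 ∨ s = 4 ∧ Nat.card X.Z = 4) := by
    rcases hsd with ⟨rfl, rfl⟩ | ⟨rfl, rfl⟩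
    · rw [hQcard] at hZdvd hZlt ⊢
      norm_num at hZdvd hZlt ⊢
      have hle := Nat.le_of_dvd (by omega) hZdvd
      have : 0 < Nat.card X.Z := Nat.card_pos
      rcases (show Nat.card X.Z = 1 ∨ Nat.card X.Z = 2 ∨ Nat.card X.Z = 3 ∨ Nat.card X.Z = 4 by omega)
        with h | h | h | h <;> simp [h] at hZ1 hZlt hZdvd ⊢
    · have hwin : W P X.g 4 2 1 ≤ X.Z := D.span (by omega) fun j h1 h2 => by
        refine ⟨hxP j (by omega) (by omega), X.x_sq D j, fun p hp => ?_⟩
        have hle : W P X.g 4 4 0 ≤ centralizer ({D.x j} : Set G) :=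
          D.span le_rfl fun i hi1 hi2 => Subgroup.mem_centralizer_singleton_iff.2
            (hmin i j (by omega)).eq
        exact Subgroup.mem_centralizer_singleton_iff.1 (hle ((X.W_zero_eq 4).ge hp))
      have h4 := Subgroup.card_le_of_le hwin
      rw [D.toWin.card_W (by omega)] at h4
      rw [hQcard] at hZdvd hZlt ⊢
      norm_num at hZdvd hZlt h4 ⊢
      have hle := Nat.le_of_dvd (by omega) hZdvd
      have h2 := X.card_Z_le hZ
      omega
  obtain ⟨hhalf, hsZ⟩ := hhalf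
  have hF := X.card_F hab hZ hhalf
  have hF' : Nat.card X.F = 1 ∨ Nat.card X.F = 2 := by
    rcases hsZ with ⟨-, h⟩ | ⟨-, h⟩ <;> rw [hhalf, h] at hF <;> omega
  refine ⟨?_, ?_⟩
  · rcases hsd with ⟨rfl, -⟩ | ⟨rfl, -⟩ <;> rw [hPs] <;> norm_num
  · rcases X.quotient_iso hab hZ hhalf (D.x 0) ht htQ (X.x_sq D 0) hF' with h | h
    · exact Or.inr (Or.inl h)
    · exact Or.inr (Or.inr h)

end Ctx

end Aux

/-- Let H be a subgroup of a finite group G whose largest normal 2-subgroup O_2(H) is nontrivial and such that H/O_2(H) is a dihedral group of order at least 4. Let P be a Sylow 2-subgroup of H and S a Sylow 2-subgroup of G containing P. Suppose y ∈ S lies outside P, normalizes P, has y² in the product of P with the centralizer of P in G, and normalizes no non-identity normal subgroup of H contained in P. Then P has order 4, 8 or 16, and H modulo its largest normal subgroup of odd order is isomorphic to the four-group, to the symmetric group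 of degree 4, or to the direct product of the symmetric group of degree 4 with a group of order 2. -/
theorem result {G : Type*} [Group G] [Finite G]
    (H : Subgroup G) (hO : Cfsg.pCore 2 ↥H ≠ ⊥) (n : ℕ) (hn : 2 ≤ n) (hdih : Nonempty (↥H ⧸ Cfsg.pCore 2 ↥H ≃* DihedralGroup n))
    (P : Subgroup G) (hPH : P ≤ H) (hP : IsPGroup 2 P) (hPsyl : ¬ 2 ∣ P.relIndex H)
    (S : Sylow 2 G) (hPS : P ≤ (S : Subgroup G)) (y : G) (hyS : y ∈ (S : Subgroup G)) (hyP : y ∉ P)
    (hy2 : y ^ 2 ∈ P ⊔ Subgroup.centralizer (P : Set G)) (hyN : MulAut.conj y • P = P)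
    (hyQ : ∀ Q : Subgroup G, Q ≤ P → (Q.subgroupOf H).Normal → MulAut.conj y • Q = Q → Q = ⊥) :
    (Nat.card P = 4 ∨ Nat.card P = 8 ∨ Nat.card P = 16) ∧
    (Nonempty (↥H ⧸ Cfsg.oddCore ↥H ≃* Multiplicative (ZMod 2) × Multiplicative (ZMod 2)) ∨
     Nonempty (↥H ⧸ Cfsg.oddCore ↥H ≃* Equiv.Perm (Fin 4)) ∨
     Nonempty (↥H ⧸ Cfsg.oddCore ↥H ≃* Equiv.Perm (Fin 4) × Multiplicative (ZMod 2))) := by
  haveI : Fact (Nat.Prime 2) := ⟨Nat.prime_two⟩
  haveI hcoreN : (Cfsg.pCore 2 ↥H).Normal := H58.pCore_normal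
  obtain ⟨e⟩ := hdih
  set Q := (Cfsg.pCore 2 ↥H).map H.subtype with hQdef
  have hmemQ : ∀ h : ↥H, (h : G) ∈ Q ↔ h ∈ Cfsg.pCore 2 ↥H := fun h => by
    rw [hQdef]
    constructor
    · rintro ⟨a, ha, he⟩
      exact (Subtype.ext he : a = h) ▸ ha
    · exact fun h' => ⟨h, h', rfl⟩
  have hQH : Q ≤ H := Subgroup.map_subtype_le _
  have hodd : Odd n := by
    by_contra hev
    rw [Nat.not_odd_iff_even] at hev
    obtain ⟨m, rfl⟩ := hev
    haveI : NeZero (m + m) := ⟨by omega⟩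
    set z : DihedralGroup (m + m) := DihedralGroup.r (m : ZMod (m + m)) with hz
    have hneg : -(m : ZMod (m + m)) = (m : ZMod (m + m)) := by
      rw [neg_eq_iff_add_eq_zero, ← Nat.cast_add, ZMod.natCast_self]
    have hcz : z ∈ Subgroup.center (DihedralGroup (m + m)) := by
      rw [Subgroup.mem_center_iff]
      rintro (i | i)
      · rw [hz, DihedralGroup.r_mul_r, DihedralGroup.r_mul_r, add_comm i]
      · rw [hz, DihedralGroup.sr_mul_r, DihedralGroup.r_mul_sr, sub_eq_add_neg, hneg]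
    set φ : ↥H →* DihedralGroup (m + m) := e.toMonoidHom.comp (QuotientGroup.mk' _) with hφ
    haveI : (Subgroup.zpowers z).Normal := ⟨fun a ha b => by
      obtain ⟨k, rfl⟩ := Subgroup.mem_zpowers_iff.1 ha
      rw [Subgroup.mem_center_iff.1 (zpow_mem hcz k) b, mul_inv_cancel_right]
      exact zpow_mem (Subgroup.mem_zpowers z) k⟩
    have hsurj : Function.Surjective φ := e.surjective.comp (QuotientGroup.mk'_surjective _)
    set L := (Subgroup.zpowers z).comap φ with hL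
    have hker : ∀ h, φ h = 1 ↔ h ∈ Cfsg.pCore 2 ↥H := fun h => by
      rw [hφ, MonoidHom.comp_apply, MulEquiv.coe_toMonoidHom, MulEquiv.map_eq_one_iff,
        QuotientGroup.mk'_apply, QuotientGroup.eq_one_iff]
    have hLp : IsPGroup 2 L := by
      intro x
      have h1 : φ x ^ 2 = 1 := by
        obtain ⟨k, hk⟩ := Subgroup.mem_zpowers_iff.1 (x.2 : φ x ∈ Subgroup.zpowers z)
        have hz2 : z ^ 2 = 1 := by
          rw [hz, DihedralGroup.r_pow, DihedralGroup.one_def]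
          congr 1
          rw [Nat.cast_ofNat, mul_two, ← Nat.cast_add, ZMod.natCast_self]
        rw [← hk, ← zpow_natCast, ← zpow_mul, mul_comm, zpow_mul, zpow_natCast, hz2, one_zpow]
      rw [← map_pow, hker] at h1
      obtain ⟨a, ha⟩ := (H58.pCore_isPGroup (p := 2) (G := ↥H)) ⟨_, h1⟩
      refine ⟨a + 1, Subtype.ext ?_⟩
      rw [Subgroup.coe_pow, Subgroup.coe_one, pow_succ', pow_mul]
      simpa using congrArg Subtype.val ha
    have hle : L ≤ Cfsg.pCore 2 ↥H := le_sSup ⟨inferInstance, hLp⟩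
    obtain ⟨h, hh⟩ := hsurj z
    have := (hker h).2 (hle (show h ∈ L by rw [hL, Subgroup.mem_comap, hh]; exact Subgroup.mem_zpowers _))
    rw [hh, hz, DihedralGroup.one_def] at this
    injection this with this
    have := Nat.le_of_dvd (by omega) ((ZMod.natCast_eq_zero_iff m (m + m)).1 this)
    omega
  have hn3 : 3 ≤ n := by obtain ⟨m, rfl⟩ := hodd; omega
  have hcardH : Nat.card ↥H = 2 * n * Nat.card Q := by
    rw [← (Cfsg.pCore 2 ↥H).card_mul_index, Subgroup.index, Nat.card_congr e.toEquiv,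
      DihedralGroup.nat_card, hQdef, Nat.card_congr
        (Subgroup.equivMapOfInjective (Cfsg.pCore 2 ↥H) H.subtype H.subtype_injective).toEquiv,
      mul_comm]
  have hQP : Q ≤ P := by
    have hPp : IsPGroup 2 (P.subgroupOf H) := hP.comap_of_injective H.subtype H.subtype_injective
    intro x hx
    have := H58.pCore_le_sylow (hPp.toSylow hPsyl) ((hmemQ ⟨x, hQH hx⟩).1 hx)
    exact this
  have hcardP : Nat.card P = 2 * Nat.card Q := by
    obtain ⟨b, hb⟩ := IsPGroup.iff_card.1 hP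
    obtain ⟨a, ha⟩ := IsPGroup.iff_card.1 (hP.to_le hQP)
    have h1 := Subgroup.card_mul_index (P.subgroupOf H)
    rw [hcardH, Nat.card_congr (Subgroup.subgroupOfEquivOfLe hPH).toEquiv, hb, ha,
      show 2 * n * 2 ^ a = 2 ^ (a + 1) * n by ring] at h1
    have hi : Nat.Coprime (2 ^ (a + 1)) (P.subgroupOf H).index :=
      Nat.Coprime.pow_left _ ((Nat.prime_two.coprime_iff_not_dvd).2 hPsyl)
    have hi' : Nat.Coprime (2 ^ b) n := Nat.Coprime.pow_left _ hodd.coprime_two_left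
    have h2 : 2 ^ (a + 1) ∣ 2 ^ b := hi.dvd_of_dvd_mul_right ⟨n, h1⟩
    have h3 : 2 ^ b ∣ 2 ^ (a + 1) := hi'.dvd_of_dvd_mul_right ⟨_, h1.symm⟩
    rw [hb, ha, Nat.dvd_antisymm h3 h2, pow_succ']
  have X : Aux.Ctx H P Q y n :=
    { Q_le := hQP
      P_le := hPH
      Q_norm := (Subgroup.normal_subgroupOf_iff_le_normalizer hQH).1 (by
        have : Q.subgroupOf H = Cfsg.pCore 2 ↥H := Subgroup.comap_map_eq_self_of_injective H.subtype_injective _
        rw [this]; exact hcoreN)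
      two := hP
      π := e.toMonoidHom.comp (QuotientGroup.mk' _)
      surj := e.surjective.comp (QuotientGroup.mk'_surjective _)
      ker := fun h => by
        rw [hmemQ, MonoidHom.comp_apply, MulEquiv.coe_toMonoidHom, MulEquiv.map_eq_one_iff,
          QuotientGroup.mk'_apply, QuotientGroup.eq_one_iff]
      three_le := hn3
      odd := hodd
      card_P := hcardP
      conjP := hyN
      sq_mem := hy2
      Q_ne := fun h => hO ((Subgroup.map_eq_bot_iff_of_injective _ H.subtype_injective).1 h)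
      core := fun R hR hn hy => hyQ R hR
        ((Subgroup.normal_subgroupOf_iff_le_normalizer (hR.trans hPH)).2 hn) hy }
  exact X.conclusion

end Cfsg.Agent.S4385
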