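import Cfsg.Statements.S4387

set_option autoImplicit false
open Pointwise
open Cfsg

namespace Cfsg.Agent.S4387

/-- Let G be a non-trivial finite group in which any two maximal subgroups are conjugate. Then G is cyclic of prime-power order. -/
theorem result {G : Type*} [Group G] [Finite G] [Nontrivial G]
    (h : ∀ M N : Subgroup G, IsCoatom M → IsCoatom N → ∃ g : G, N = MulAut.conj g • M) :
    IsCyclic G ∧ IsPrimePow (Nat.card G) := by
  obtain ⟨M, hM⟩ : ∃ M : Subgroup G, IsCoatom M := by
    rcases IsCoatomic.eq_top_or_exists_le_coatom (⊥ : Subgroup G) with h1 | ⟨M, hM, -⟩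
    · exact absurd h1 bot_ne_top
    · exact ⟨M, hM⟩
  have hsmul : ∀ (g : G) (N : Subgroup G), N.Normal → MulAut.conj g • N = N := fun g N hN => by
    haveI := hN
    exact Subgroup.Normal.conjAct hN g
  obtain ⟨p, hp, hpG⟩ : ∃ p : ℕ, p.Prime ∧ IsPGroup p G := by
    by_contra hcon
    push Not at hcon
    have hdvd : Nat.card G ∣ Nat.card M := by
      rw [← Nat.factorization_le_iff_dvd Nat.card_pos.ne' Nat.card_pos.ne']
      intro p
      by_cases hp : p.Prime
      · haveI : Fact p.Prime := ⟨hp⟩
        let P : Sylow p G := default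
        rcases IsCoatomic.eq_top_or_exists_le_coatom (P : Subgroup G) with h1 | ⟨N, hN, hPN⟩
        · have := P.isPGroup'
          rw [h1] at this
          exact absurd (this.of_equiv Subgroup.topEquiv) (hcon p hp)
        · obtain ⟨g, rfl⟩ := h M N hM hN
          have h3 := Subgroup.card_dvd_of_le hPN
          rw [P.card_eq_multiplicity,
            Nat.card_congr (Subgroup.equivSMul (MulAut.conj g) M).toEquiv.symm] at h3
          exact (hp.pow_dvd_iff_le_factorization Nat.card_pos.ne').1 h3
      · rw [Nat.factorization_eq_zero_of_not_prime _ hp]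
        exact Nat.zero_le _
    exact hM.1 (Subgroup.eq_top_of_le_card M (Nat.le_of_dvd Nat.card_pos hdvd))
  haveI : Fact p.Prime := ⟨hp⟩
  haveI : Group.IsNilpotent G := hpG.isNilpotent
  have hMn : M.Normal := Subgroup.NormalizerCondition.normal_of_coatom M normalizerCondition_of_isNilpotent hM
  have huniq : ∀ N, IsCoatom N → N = M := by
    intro N hN
    obtain ⟨g, hg⟩ := h M N hM hN
    rw [hg, hsmul g M hMn]
  obtain ⟨x, -, hx⟩ := Set.exists_of_ssubset (SetLike.coe_ssubset_coe.2 hM.lt_top)
  refine ⟨⟨⟨x, fun y => ?_⟩⟩, ?_⟩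
  · rcases IsCoatomic.eq_top_or_exists_le_coatom (Subgroup.zpowers x) with h1 | ⟨N, hN, hxN⟩
    · exact Subgroup.mem_zpowers_iff.1 (h1 ▸ Subgroup.mem_top y)
    · exact absurd (huniq N hN ▸ hxN (Subgroup.mem_zpowers x)) hx
  · obtain ⟨n, hn⟩ := hpG.exists_card_eq
    rw [hn]
    refine IsPrimePow.pow hp.isPrimePow ?_
    rintro rfl
    rw [pow_zero] at hn
    exact absurd hn (Finite.one_lt_card (α := G)).ne'

end Cfsg.Agent.S4387
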