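import Cfsg.Statements.S4394
import Cfsg.Agent.H46.SchmidtPLength
-- import your own Cfsg.Agent.* helpers here

set_option autoImplicit false
open Cfsg

namespace Cfsg.Agent.S4394

/-- Let X be a finite minimal non-nilpotent group (not nilpotent, every proper subgroup nilpotent) with a nontrivial normal Sylow p-subgroup P. If G is a finite p-solvable group whose Sylow p-subgroups are isomorphic to P, then G has p-length at most 1. -/
theorem result {G X : Type*} [Group G] [Finite G] [Group X] [Finite X] (p : ℕ) [Fact p.Prime]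
    (hX : Cfsg.IsMinimalNonNilpotent X) (P : Sylow p X) (hPn : (P : Subgroup X).Normal) (hP1 : (P : Subgroup X) ≠ ⊥)
    (hG : Cfsg.IsPSolvable p G) (Q : Sylow p G) (hQ : Nonempty (↥(Q : Subgroup G) ≃* ↥(P : Subgroup X))) : Cfsg.PLengthLE p 1 G := by
  obtain ⟨e⟩ := hQ
  set N := Cfsg.pPrimeCore p G with hN
  haveI : N.Normal := Cfsg.pPrimeCore_normal p G
  have hs := QuotientGroup.mk'_surjective N
  let T := Q.mapSurjective hs
  have hdisj : ∀ x ∈ (Q : Subgroup G), x ∈ N → x = 1 := fun x h1 h2 =>
    Subgroup.mem_bot.1 ((Cores.disjoint_of_isPGroup_of_coprime Q.isPGroup'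
      (Cores.coprime_card_pPrimeCore (p := p) (G := G))).le ⟨h1, h2⟩)
  let f := (QuotientGroup.mk' N).subgroupMap (Q : Subgroup G)
  have hf : Function.Bijective f := by
    refine ⟨(injective_iff_map_eq_one f).2 fun x hx => Subtype.ext (hdisj x x.2 ?_),
      MonoidHom.subgroupMap_surjective _ _⟩
    exact (QuotientGroup.eq_one_iff (x : G)).1 (congrArg Subtype.val hx)
  have hT : H46.SchmidtPLength.SchmidtType p (T : Subgroup (G ⧸ N)) := by
    change H46.SchmidtPLength.SchmidtType p ((Q : Subgroup G).map (QuotientGroup.mk' N) : Subgroup (G ⧸ N))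
    exact ((H46.SchmidtPLength.schmidtType hX P hPn hP1).congr e.symm).congr
      (MulEquiv.ofBijective f hf)
  have hle := H46.SchmidtPLength.le_pCore_of_schmidtType (Cores.isPSolvable_quotient hG N)
    Cores.pPrimeCore_quotient_pPrimeCore T hT
  rw [Cores.pLengthLE_one_iff, ← Subgroup.index_eq_card]
  refine (((Fact.out : p.Prime).coprime_iff_not_dvd).mpr ?_).symm
  show ¬ p ∣ ((Cfsg.pCore p (G ⧸ N)).comap (QuotientGroup.mk' N)).index
  rw [Subgroup.index_comap_of_surjective _ hs]
  exact fun h => T.not_dvd_index (h.trans (Subgroup.index_dvd_of_le hle))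

end Cfsg.Agent.S4394
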