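import Cfsg.Statements.S4395
import Cfsg.Agent.Schmidt.Universal

set_option autoImplicit false
universe u
open Cfsg

namespace Cfsg.Agent.S4395

/-- Let p ≠ q be primes, r ≥ 1, a the multiplicative order of p modulo q, and a₀ = a when a is odd, a₀ = 3a/2 when a is even. Call a finite group minimal non-p-nilpotent when it has no normal p-complement but every proper subgroup has one. Then there is a minimal non-p-nilpotent group G₀ of order p^a₀ · q^r such that every minimal non-p-nilpotent group of order p^t · q^r (any t) is a quotient of G₀ by a central subgroup. -/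
theorem result (p q r : ℕ) [Fact p.Prime] [Fact q.Prime] (hpq : p ≠ q) (hr : 1 ≤ r) (a a₀ : ℕ)
    (ha : a = orderOf (p : ZMod q)) (ha₀ : a₀ = if a % 2 = 1 then a else 3 * a / 2) :
    ∃ (G₀ : Type u) (_ : Group G₀) (_ : Finite G₀),
      (¬ Cfsg.HasNormalPComplement p G₀ ∧ ∀ K : Subgroup G₀, K ≠ ⊤ → Cfsg.HasNormalPComplement p ↥K) ∧ Nat.card G₀ = p ^ a₀ * q ^ r ∧
      ∀ (X : Type u) [Group X] [Finite X], (¬ Cfsg.HasNormalPComplement p X ∧ ∀ K : Subgroup X, K ≠ ⊤ → Cfsg.HasNormalPComplement p ↥K) →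
        (∃ t : ℕ, Nat.card X = p ^ t * q ^ r) → ∃ φ : G₀ →* X, Function.Surjective φ ∧ φ.ker ≤ Subgroup.center G₀ := by
  have ha0 : a ≠ 0 := ha ▸ Schmidt.orderOf_natCast_ne_zero (p := p) (q := q) hpq
  obtain ⟨μ, hμ⟩ : ∃ μ : GaloisField p a, orderOf μ = q := by
    have h1 : q ∣ Nat.card (GaloisField p a)ˣ := by
      rw [Nat.card_units, GaloisField.card p a ha0]
      have h2 : ((p ^ a : ℕ) : ZMod q) = ((1 : ℕ) : ZMod q) := by
        rw [Nat.cast_pow, ha, pow_orderOf_eq_one, Nat.cast_one]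
      exact (Nat.modEq_iff_dvd' (Nat.one_le_pow _ _ (Fact.out : p.Prime).pos)).1
        ((ZMod.natCast_eq_natCast_iff _ _ _).1 h2).symm
    obtain ⟨g, hg⟩ := exists_prime_orderOf_dvd_card' q h1
    exact ⟨g, orderOf_units.trans hg⟩
  have hF : Nat.card (GaloisField p a) = p ^ a := GaloisField.card p a ha0
  have hgen := Schmidt.surjective_aeval (p := p) hpq hμ (ha ▸ hF)
  obtain ⟨M₀, _, _, ⟨C⟩, hM⟩ := Schmidt.exists_cover hpq hμ ha ha₀ hF
  haveI : NeZero (q ^ r) := ⟨pow_ne_zero _ (Fact.out : q.Prime).ne_zero⟩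
  let G := M₀ ⋊[C.act hr] Multiplicative (ZMod (q ^ r))
  haveI : Finite G := Finite.of_equiv _ SemidirectProduct.equivProd.symm
  have hmin := Schmidt.semidirect_minimal C hpq hμ hgen (IsPGroup.of_card hM) hr
  have hcard : Nat.card G = p ^ a₀ * q ^ r := by
    rw [SemidirectProduct.card, hM, Nat.card_congr Multiplicative.toAdd, Nat.card_zmod]
  let e : ULift.{u} G ≃* G := MulEquiv.ulift
  refine ⟨ULift.{u} G, inferInstance, inferInstance, ⟨fun h => ?_, fun K hK => ?_⟩,
    (Nat.card_congr Equiv.ulift).trans hcard, fun X _ _ hX hX' => ?_⟩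
  · exact hmin.1 ((Agent.Fusion.hasNormalPComplement_congr e).1 h)
  · refine (Agent.Fusion.hasNormalPComplement_congr (K.equivMapOfInjective e.toMonoidHom e.injective)).2
      (hmin.2 _ fun h => hK ?_)
    exact Subgroup.map_injective e.injective (h.trans (Subgroup.map_top_of_surjective _ e.surjective).symm)
  obtain ⟨t, ht⟩ := hX'
  obtain ⟨P, hPn, v, C', hPp, hv, hcosets, hC'⟩ :=
    Schmidt.exists_cover_of_minimal (F := GaloisField p a) hpq hμ hgen hr hX ht
  obtain ⟨f, hf, hfσ, hfval⟩ := Schmidt.exists_surjective_hom hpq hμ ha ha₀ hF C hM C'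
  have hv1 : v ^ (q ^ r) = 1 := by rw [← hv]; exact pow_orderOf_eq_one v
  let g : Multiplicative (ZMod (q ^ r)) →* X :=
    MonoidHom.mk' (fun k => v ^ k.toAdd.val) fun x y => by
      rw [toAdd_mul, ZMod.val_add, ← pow_add]
      exact (pow_eq_pow_mod _ hv1).symm
  have hfpow : ∀ (i : ℕ) (m : M₀), (f ((C.σ ^ i) m) : X) = v ^ i * f m * (v ^ i)⁻¹ := by
    intro i m
    induction i with
    | zero => simp
    | succ i ih =>
      rw [pow_succ', MulAut.mul_apply, hfσ, hC', MulAut.conjNormal_apply, ih]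
      group
  let ψ : G →* X := SemidirectProduct.lift (P.subtype.comp f) g fun k => MonoidHom.ext fun m =>
    hfpow k.toAdd.val m
  refine ⟨ψ.comp e.toMonoidHom, ?_, fun x hx => Subgroup.mem_center_iff.2 fun y => ?_⟩
  · refine Function.Surjective.comp (g := ψ) (fun x => ?_) e.surjective
    obtain ⟨k, y, hy, rfl⟩ := hcosets x
    obtain ⟨m, hm⟩ := hf ⟨y, hy⟩
    refine ⟨SemidirectProduct.inl m * SemidirectProduct.inr (Multiplicative.ofAdd (k : ZMod (q ^ r))), ?_⟩
    rw [map_mul, SemidirectProduct.lift_inl, SemidirectProduct.lift_inr]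
    show (f m : X) * v ^ (k : ZMod (q ^ r)).val = _
    rw [hm, ZMod.val_natCast, ← pow_eq_pow_mod _ hv1]
  · have h1 : (f (e x).left : X) * v ^ ((e x).right.toAdd).val = 1 := hx
    have h2 : v ^ ((e x).right.toAdd).val = 1 := by
      have hmem : v ^ ((e x).right.toAdd).val ∈ P := by
        rw [eq_inv_of_mul_eq_one_right h1]; exact inv_mem (f _).2
      obtain ⟨n, hn⟩ := IsPGroup.iff_orderOf.1 hPp ⟨_, hmem⟩
      rw [Subgroup.orderOf_mk] at hn
      refine orderOf_eq_one_iff.1 (Nat.eq_one_of_dvd_coprimes ?_ hn.dvd (hv ▸ orderOf_pow_dvd _))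
      exact ((Nat.coprime_primes Fact.out Fact.out).2 hpq).pow _ _
    have hright : (e x).right = 1 := by
      have h3 := orderOf_dvd_of_pow_eq_one h2
      rw [hv] at h3
      exact Multiplicative.toAdd.injective ((ZMod.val_eq_zero _).1
        (Nat.eq_zero_of_dvd_of_lt h3 (ZMod.val_lt _)))
    rw [h2, mul_one] at h1
    have hk : (e x).left ∈ C.π.ker := by
      rw [C.mem_ker, ← hfval, show f (e x).left = 1 from Subtype.ext h1]
      simp [Schmidt.Cover.val]
    refine e.injective ?_
    rw [map_mul, map_mul]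
    refine SemidirectProduct.ext ?_ ?_
    · show (e y).left * (C.act hr (e y).right) (e x).left = (e x).left * (C.act hr (e x).right) (e y).left
      rw [hright, map_one, MulAut.one_apply, C.act_apply]
      have hfix : ∀ i : ℕ, (C.σ ^ i) (e x).left = (e x).left := fun i => by
        induction i with
        | zero => rfl
        | succ i ih => rw [pow_succ', MulAut.mul_apply, ih, C.fix _ hk]
      rw [hfix]
      exact Subgroup.mem_center_iff.1 (C.central hk) _
    · exact mul_comm _ _

end Cfsg.Agent.S4395
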