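import Cfsg.Statements.S4396
import Cfsg.Agent.Cores.PCore
import Cfsg.Agent.Cores.Fitting
import Mathlib.FieldTheory.Galois.NormalBasis
import Mathlib.RingTheory.Ideal.AssociatedPrime.Localization
-- import your own Cfsg.Agent.* helpers here

set_option autoImplicit false
open Cfsg

namespace Cfsg.Agent.S4396

section Helpers

open Ideal

variable {R : Type*} [CommRing R] [IsArtinianRing R] {H : Type*} [Group H] [Finite H]
  [MulSemiringAction H R]

/-- The image of a maximal ideal under a ring automorphism. -/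
def mv (g : H) (m : MaximalSpectrum R) : MaximalSpectrum R :=
  ⟨m.asIdeal.comap (MulSemiringAction.toRingHom H R g⁻¹),
    haveI := m.isMaximal
    Ideal.comap_isMaximal_of_surjective (K := m.asIdeal) (MulSemiringAction.toRingHom H R g⁻¹)
      (MulAction.surjective g⁻¹)⟩

theorem mem_mv {g : H} {m : MaximalSpectrum R} {x : R} :
    x ∈ (mv g m).asIdeal ↔ g⁻¹ • x ∈ m.asIdeal := Iff.rfl

theorem mv_ext {m m' : MaximalSpectrum R} (h : ∀ x, x ∈ m.asIdeal ↔ x ∈ m'.asIdeal) : m = m' :=
  MaximalSpectrum.ext (Ideal.ext h)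

/-- The action on maximal ideals. -/
@[reducible] def mvAction : MulAction H (MaximalSpectrum R) where
  smul := mv
  one_smul m := mv_ext fun x => by
    show x ∈ (mv 1 m).asIdeal ↔ _
    rw [mem_mv, inv_one, one_smul]
  mul_smul g g' m := mv_ext fun x => by
    show x ∈ (mv (g * g') m).asIdeal ↔ x ∈ (mv g (mv g' m)).asIdeal
    rw [mem_mv, mem_mv, mem_mv, mul_inv_rev, mul_smul]

/-- Separation at a single fixed maximal ideal, by the normal basis theorem. -/
theorem local_elt (hfaith : ∀ h : H, h ≠ 1 → ∀ m : MaximalSpectrum R, ∃ r : R, h • r - r ∉ m.asIdeal)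
    (m : MaximalSpectrum R) : ∃ θ : R, ∀ d : H → R,
      (∀ s, mv s m ≠ m → d s ∈ m.asIdeal) →
      (∀ u : H, mv u m = m → (∑ᶠ s, d s * ((s * u) • θ)) ∈ m.asIdeal) →
      ∀ s, d s ∈ m.asIdeal := by
  classical
  letI := mvAction (R := R) (H := H)
  let S : Subgroup H := MulAction.stabilizer H m
  have := m.isMaximal
  letI : Field (R ⧸ m.asIdeal) := Ideal.Quotient.field _
  have hmem : ∀ (s : S) (x : R), x ∈ m.asIdeal → (s : H) • x ∈ m.asIdeal := by
    intro s x hx
    have h1 : mv ((s : H)⁻¹) m = m := (S.inv_mem s.2 : _)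
    rw [← h1] at hx
    rw [mem_mv, inv_inv] at hx
    exact hx
  let π : S → (R ⧸ m.asIdeal →+* R ⧸ m.asIdeal) := fun s =>
    Ideal.quotientMap m.asIdeal (MulSemiringAction.toRingHom H R (s : H))
      (fun x hx => hmem s x hx)
  have hπ : ∀ (s : S) (x : R), π s (Ideal.Quotient.mk _ x) = Ideal.Quotient.mk _ ((s : H) • x) :=
    fun s x => Ideal.quotientMap_mk
  letI : MulSemiringAction S (R ⧸ m.asIdeal) :=
    { smul := fun s x => π s x
      one_smul := fun x => by
        obtain ⟨x, rfl⟩ := Ideal.Quotient.mk_surjective x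
        show π 1 _ = _
        rw [hπ, Subgroup.coe_one, one_smul]
      mul_smul := fun s t x => by
        obtain ⟨x, rfl⟩ := Ideal.Quotient.mk_surjective x
        show π (s * t) _ = π s (π t _)
        rw [hπ, hπ, hπ, Subgroup.coe_mul, mul_smul]
      smul_zero := fun s => map_zero (π s)
      smul_add := fun s => map_add (π s)
      smul_one := fun s => map_one (π s)
      smul_mul := fun s => map_mul (π s) }
  have hsm : ∀ (s : S) (x : R), s • (Ideal.Quotient.mk m.asIdeal x) =
      Ideal.Quotient.mk _ ((s : H) • x) := hπ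
  have : FaithfulSMul S (R ⧸ m.asIdeal) := ⟨fun {s t} hst => by
    by_contra hne
    obtain ⟨r, hr⟩ := hfaith (((t⁻¹ * s : S) : H))
      (fun h => hne (inv_mul_eq_one.mp (Subtype.ext h : t⁻¹ * s = 1)).symm) m
    refine hr ((Ideal.Quotient.eq).mp ?_)
    rw [← hsm, mul_smul, hst, ← mul_smul, inv_mul_cancel, one_smul]⟩
  let K₀ := FixedPoints.subfield S (R ⧸ m.asIdeal)
  obtain ⟨θ', hθ'⟩ : ∃ θ' : R ⧸ m.asIdeal, ∀ c : S → R ⧸ m.asIdeal,
      (∀ t : S, ∑ᶠ s, c s * (s • t • θ') = 0) → c = 0 := by
    let B := IsGalois.normalBasis K₀ (R ⧸ m.asIdeal)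
    refine ⟨B 1, fun c hc => ?_⟩
    have : Fintype S := Fintype.ofFinite S
    simp only [finsum_eq_sum_of_fintype] at hc
    have hall : ∀ x, ∑ s, c s * (s • x) = 0 := by
      let L : (R ⧸ m.asIdeal) →ₗ[K₀] (R ⧸ m.asIdeal) :=
        ∑ s, (LinearMap.mulLeft K₀ (c s)).comp
          (MulSemiringAction.toAlgHom K₀ (R ⧸ m.asIdeal) s).toLinearMap
      have hL : L = 0 := B.ext fun e => by
        obtain ⟨t, rfl⟩ := (FixedPoints.toAlgAut_bijective S (R ⧸ m.asIdeal)).2 e
        rw [IsGalois.normalBasis_apply]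
        simpa [L] using hc t
      intro x
      simpa [L] using LinearMap.congr_fun hL x
    have li := (linearIndependent_monoidHom (R ⧸ m.asIdeal) (R ⧸ m.asIdeal)).comp
      (fun s : S => (MulSemiringAction.toRingHom S (R ⧸ m.asIdeal) s).toMonoidHom) (by
        intro s t h
        exact eq_of_smul_eq_smul fun x => DFunLike.congr_fun h x)
    funext s
    exact Fintype.linearIndependent_iff.mp li c (funext fun x => by simpa using hall x) s
  obtain ⟨θ, rfl⟩ := Ideal.Quotient.mk_surjective θ'
  refine ⟨θ, fun d hd hsum => ?_⟩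
  have key : (fun s : S => Ideal.Quotient.mk m.asIdeal (d (s : H))) = 0 := by
    refine hθ' _ fun t => ?_
    have h1 := Ideal.Quotient.eq_zero_iff_mem.mpr (hsum (t : H) t.2)
    have : Fintype H := Fintype.ofFinite H
    rw [finsum_eq_sum_of_fintype, map_sum] at h1
    rw [finsum_eq_sum_of_fintype, ← h1]
    have e : ∀ s : S, Ideal.Quotient.mk m.asIdeal (d s) * (s • t • Ideal.Quotient.mk m.asIdeal θ) =
        Ideal.Quotient.mk m.asIdeal (d s * (((s : H) * t) • θ)) := fun s => by
      rw [hsm, hsm, map_mul, mul_smul]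
    simp only [e]
    rw [← Finset.sum_subtype (Finset.univ.filter (· ∈ S)) (by simp)
      (fun s => Ideal.Quotient.mk m.asIdeal (d s * ((s * (t : H)) • θ)))]
    refine Finset.sum_filter_of_ne fun s _ hs => ?_
    by_contra hsS
    exact hs (Ideal.Quotient.eq_zero_iff_mem.mpr (Ideal.mul_mem_right _ _ (hd s hsS)))
  intro s
  by_cases hs : mv s m = m
  · exact Ideal.Quotient.eq_zero_iff_mem.mp (congrFun key ⟨s, hs⟩)
  · exact hd s hs

/-- An element whose conjugates separate all residue fields. -/
theorem exists_unit_det [Fintype H] [DecidableEq H]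
    (hfaith : ∀ h : H, h ≠ 1 → ∀ m : MaximalSpectrum R, ∃ r : R, h • r - r ∉ m.asIdeal) :
    ∃ θ : R, IsUnit (Matrix.of fun g h : H => (g * h) • θ).det := by
  classical
  letI := mvAction (R := R) (H := H)
  choose loc hloc using local_elt hfaith
  let rep : MaximalSpectrum R → MaximalSpectrum R := fun m =>
    (Quotient.mk (MulAction.orbitRel H (MaximalSpectrum R)) m).out
  have hcop : Pairwise (Function.onFun IsCoprime fun m : MaximalSpectrum R => m.asIdeal) :=
    fun m m' hne => Ideal.isCoprime_iff_sup_eq.mpr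
      (m.isMaximal.coprime_of_ne m'.isMaximal fun h => hne (MaximalSpectrum.ext h))
  obtain ⟨θ, hθ⟩ := Ideal.pi_quotient_surjective hcop
    (fun m => if rep m = m then Ideal.Quotient.mk _ (loc m) else 0)
  refine ⟨θ, ?_⟩
  by_contra hu
  obtain ⟨M₀, hM₀, hdet⟩ := exists_max_ideal_of_mem_nonunits hu
  let m : MaximalSpectrum R := ⟨M₀, hM₀⟩
  let r := rep m
  obtain ⟨g₀, hg₀⟩ : ∃ g₀ : H, mv g₀ r = m := by
    have h1 : r ∈ MulAction.orbit H m := MulAction.orbitRel_apply.mp
      (Quotient.exact (Quotient.out_eq (Quotient.mk (MulAction.orbitRel H _) m)))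
    obtain ⟨g, hg⟩ := h1
    exact ⟨g⁻¹, inv_smul_eq_iff.mpr hg.symm⟩
  have hrepr : ∀ g : H, rep (mv g r) = r := fun g => by
    show (Quotient.mk (MulAction.orbitRel H (MaximalSpectrum R)) (g • r)).out =
      (Quotient.mk (MulAction.orbitRel H (MaximalSpectrum R)) m).out
    congr 1
    refine Quotient.sound (MulAction.orbitRel_apply.mpr ⟨g * g₀⁻¹, ?_⟩)
    show (g * g₀⁻¹) • m = g • r
    rw [← hg₀]; exact (mul_smul _ _ _).trans (congrArg (g • ·) (inv_smul_smul g₀ r))
  have := hM₀
  letI : Field (R ⧸ M₀) := Ideal.Quotient.field _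
  have hdet0 : ((Matrix.of fun g h : H => (g * h) • θ).map (Ideal.Quotient.mk M₀)).det = 0 := by
    rw [← RingHom.mapMatrix_apply, ← RingHom.map_det]
    exact Ideal.Quotient.eq_zero_iff_mem.mpr hdet
  obtain ⟨c, hc0, hc⟩ := Matrix.exists_vecMul_eq_zero_iff.mpr hdet0
  choose e he using fun g => Ideal.Quotient.mk_surjective (c g)
  -- transport to the representative
  have hr : ∀ x : R, g₀ • x ∈ M₀ ↔ x ∈ r.asIdeal := fun x => by
    have : g₀ • x ∈ (mv g₀ r).asIdeal ↔ x ∈ r.asIdeal := by rw [mem_mv, inv_smul_smul]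
    rwa [hg₀] at this
  let d : H → R := fun x => g₀⁻¹ • e (g₀ * x)
  have hsum : ∀ h, (∑ x, d x * ((x * h) • θ)) ∈ r.asIdeal := by
    intro h
    rw [← hr, Finset.smul_sum]
    have h1 := congrFun hc h
    simp only [Matrix.vecMul, dotProduct, Matrix.map_apply, Matrix.of_apply, Pi.zero_apply] at h1
    simp only [← he, ← map_mul, ← map_sum] at h1
    rw [← Equiv.sum_comp (Equiv.mulLeft g₀)] at h1
    refine (eq_iff_iff.mp ?_).mp (Ideal.Quotient.eq_zero_iff_mem.mp h1)
    congr 1
    refine Finset.sum_congr rfl fun x _ => ?_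
    simp [d, smul_mul', ← mul_smul, mul_assoc]
  have hθmem : ∀ y : H, mv y r ≠ r → y • θ ∈ r.asIdeal := by
    intro y hy
    have h1 : θ ∈ (mv y⁻¹ r).asIdeal := by
      have h2 := hθ (mv y⁻¹ r)
      rw [if_neg] at h2
      · exact Ideal.Quotient.eq_zero_iff_mem.mp h2
      · rw [hrepr]
        intro h
        refine hy ?_
        show y • r = r
        conv_lhs => rw [h]
        exact smul_inv_smul y r
    rwa [mem_mv, inv_inv] at h1
  have hθr : θ - loc r ∈ r.asIdeal := by
    have h1 : rep r = r := by simpa using hrepr 1 |> fun h => (congrArg rep (one_smul H r)).symm.trans h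
    have h2 := hθ r
    rw [if_pos h1] at h2
    exact Ideal.Quotient.eq.mp h2
  have hd0 : ∀ x, d x ∈ r.asIdeal := by
    intro x₀
    -- the right coset of the stabiliser through `x₀`
    have key := hloc r (fun s => if mv s r = r then d (s * x₀) else 0)
      (fun s hs => by simp [hs]) ?_ 1
    · simpa [show mv (1 : H) r = r from one_smul H r] using key
    intro u hu
    rw [finsum_eq_sum_of_fintype]
    have h1 := hsum (x₀⁻¹ * u)
    rw [← Equiv.sum_comp (Equiv.mulRight x₀)] at h1
    rw [← Ideal.Quotient.eq_zero_iff_mem] at h1 ⊢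
    rw [map_sum] at h1 ⊢
    rw [← h1]
    refine Finset.sum_congr rfl fun s _ => ?_
    have e1 : s * x₀ * (x₀⁻¹ * u) = s * u := by group
    simp only [Equiv.coe_mulRight, e1]
    by_cases hs : mv s r = r
    · have hsu : mv (s * u) r = r := by
        show (s * u) • r = r
        rw [mul_smul]; exact (congrArg (s • ·) hu).trans hs
      rw [if_pos hs, Ideal.Quotient.eq, ← mul_sub, ← smul_sub]
      refine Ideal.mul_mem_left _ _ ?_
      have h3 : (s * u) • (loc r - θ) ∈ (mv (s * u) r).asIdeal := by
        rw [mem_mv, inv_smul_smul]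
        simpa using neg_mem hθr
      rwa [hsu] at h3
    · rw [if_neg hs, zero_mul, map_zero]
      refine (Ideal.Quotient.eq_zero_iff_mem.mpr (Ideal.mul_mem_left _ _ (hθmem _ ?_))).symm
      intro hsu
      refine hs ?_
      show s • r = r
      exact (congrArg (s • ·) hu).symm.trans ((mul_smul s u r).symm.trans hsu)
  refine hc0 (funext fun g => ?_)
  rw [Pi.zero_apply, ← he g, Ideal.Quotient.eq_zero_iff_mem]
  have := (hr _).mpr (hd0 (g₀⁻¹ * g))
  simpa [d, smul_inv_smul] using this

/-- Descent: a semilinear module is free over the group. -/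
theorem descent {k : Type*} [Field k] {V : Type*} [AddCommGroup V] [Module k V]
    [Module R V] [Fintype H] [DecidableEq H] (hcomm : ∀ (r : R) (c : k) (v : V), r • c • v = c • r • v)
    (hfaith : ∀ h : H, h ≠ 1 → ∀ m : MaximalSpectrum R, ∃ r : R, h • r - r ∉ m.asIdeal)
    (τ : Representation k H V) (hτ : ∀ (g : H) (r : R) (v : V), τ g (r • v) = (g • r) • τ g v) :
    ∃ W : Submodule k V, DirectSum.IsInternal fun h : H => W.map (τ h) := by
  obtain ⟨θ, hθ⟩ := exists_unit_det (R := R) (H := H) hfaith
  set M : Matrix H H R := Matrix.of fun g h => (g * h) • θ with hM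
  set N := M⁻¹ with hN
  have hMN : M * N = 1 := Matrix.mul_nonsing_inv M hθ
  have hNM : N * M = 1 := Matrix.nonsing_inv_mul M hθ
  let Fix : Submodule k V := ⨅ g : H, LinearMap.ker (τ g - LinearMap.id)
  have hFix : ∀ v, v ∈ Fix ↔ ∀ g, τ g v = v := fun v => by
    simp [Fix, sub_eq_zero]
  let μ : V →ₗ[k] V := { toFun := fun v => θ • v, map_add' := smul_add θ, map_smul' := fun c v => hcomm θ c v }
  have huniq : ∀ u : H → V, (∀ g, ∑ h, M g h • u h = 0) → ∀ h, u h = 0 := by
    intro u hu h
    have : ∑ g, N h g • ∑ h', M g h' • u h' = 0 := by simp [hu]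
    simp only [Finset.smul_sum, smul_smul] at this
    rw [Finset.sum_comm] at this
    simp only [← Finset.sum_smul] at this
    simpa [← Matrix.mul_apply, hNM, Matrix.one_apply] using this
  refine ⟨Fix.map μ, ?_⟩
  have hmem : ∀ h v, v ∈ (Fix.map μ).map (τ h) ↔ ∃ w ∈ Fix, v = (h • θ) • w := by
    intro h v
    constructor
    · rintro ⟨_, ⟨w, hw, rfl⟩, rfl⟩
      exact ⟨w, hw, by show τ h (θ • w) = _; rw [hτ, (hFix w).mp hw]⟩
    · rintro ⟨w, hw, rfl⟩
      exact ⟨_, ⟨w, hw, rfl⟩, by show τ h (θ • w) = _; rw [hτ, (hFix w).mp hw]⟩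
  rw [DirectSum.isInternal_submodule_iff_iSupIndep_and_iSup_eq_top]
  constructor
  · rw [iSupIndep_iff_finset_sum_eq_zero_imp_eq_zero]
    intro s v hv hsum
    classical
    have : ∀ h, ∃ w ∈ Fix, (if h ∈ s then v h else 0) = (h • θ) • w := by
      intro h
      by_cases hh : h ∈ s
      · obtain ⟨w, hw, e⟩ := (hmem h _).mp (hv h hh)
        exact ⟨w, hw, by rw [if_pos hh, e]⟩
      · exact ⟨0, zero_mem _, by rw [if_neg hh, smul_zero]⟩
    choose u hu hue using this
    have h0 : ∑ h, (h • θ) • u h = 0 := by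
      rw [← Finset.sum_congr rfl fun h _ => hue h, ← Finset.sum_filter]
      simpa using hsum
    have := huniq u fun g => by
      have h1 := congrArg (τ g) h0
      rw [map_sum, map_zero] at h1
      rw [← h1]
      refine Finset.sum_congr rfl fun h _ => ?_
      rw [hτ, (hFix _).mp (hu h), ← mul_smul]
      rfl
    intro h hh
    have e := hue h
    rwa [if_pos hh, this h, smul_zero] at e
  · refine Submodule.eq_top_iff'.mpr fun v => ?_
    let w : H → V := fun h => ∑ g, N h g • τ g v
    have hMw : ∀ g, ∑ h, M g h • w h = τ g v := by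
      intro g
      simp only [w, Finset.smul_sum, smul_smul]
      rw [Finset.sum_comm]
      simp only [← Finset.sum_smul, ← Matrix.mul_apply, hMN, Matrix.one_apply]
      simp
    have hwF : ∀ h, w h ∈ Fix := by
      intro h
      refine (hFix _).mpr fun x => sub_eq_zero.mp ?_
      refine huniq (fun h => τ x (w h) - w h) (fun g => ?_) h
      have h1 := congrArg (τ x) (hMw (x⁻¹ * g))
      rw [map_sum, show τ x (τ (x⁻¹ * g) v) = τ g v by
        rw [← Module.End.mul_apply, ← map_mul, mul_inv_cancel_left]] at h1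
      simp only [smul_sub, Finset.sum_sub_distrib, hMw]
      rw [sub_eq_zero, ← h1]
      refine Finset.sum_congr rfl fun h _ => ?_
      rw [hτ]
      show ((g * h) • θ) • τ x (w h) = (x • (x⁻¹ * g * h) • θ) • τ x (w h)
      rw [← mul_smul, mul_assoc x⁻¹, mul_inv_cancel_left]
    have h1 := hMw 1
    rw [map_one, Module.End.one_apply] at h1
    rw [← h1]
    refine Submodule.sum_mem _ fun h _ => Submodule.mem_iSup_of_mem h ((hmem h _).mpr ⟨w h, hwF h, ?_⟩)
    show ((1 * h) • θ) • w h = _
    rw [one_mul]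

end Helpers


/-- Let the finite group A act faithfully and linearly on a finite-dimensional vector space V over a field k, and suppose A is a Frobenius group with nilpotent kernel F (every Frobenius kernel is nilpotent) and complement H such that F fixes no nonzero vector. Then V is free as a module for H: there is a subspace W with V the direct sum of the translates hW, h ∈ H. (No assumption on the characteristic of k.) -/
theorem result {k V A : Type*} [Field k] [AddCommGroup V] [Module k V] [FiniteDimensional k V] [Group A] [Finite A] [DecidableEq A]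
    (ρ : Representation k A V) (hρ : Function.Injective ρ)
    (Fk Hc : Subgroup A) [Fk.Normal] (hHc : Cfsg.IsFrobeniusComplement Hc) (hker : Cfsg.frobeniusKernel Hc = (Fk : Set A)) (hnil : Group.IsNilpotent ↥Fk)
    (hCF : ∀ v : V, (∀ f ∈ Fk, ρ f v = v) → v = 0) :
    ∃ W : Submodule k V, DirectSum.IsInternal (fun h : ↥Hc => W.map (ρ (h : A))) := by
  classical
  letI : Fintype A := Fintype.ofFinite A
  letI : ∀ S : Subgroup A, Fintype S := fun S => Fintype.ofFinite S
  obtain ⟨hHbot, hHtop, hTI⟩ := hHc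
  have hFH : ∀ a ∈ Fk, a ∈ Hc → a = 1 := by
    intro a ha hah
    have ha' : a ∈ frobeniusKernel Hc := hker ▸ ha
    exact ha'.resolve_right fun h => h 1 (by simpa using hah)
  have hfpf : ∀ h ∈ Hc, h ≠ 1 → ∀ f ∈ Fk, h * f = f * h → f = 1 := by
    intro h hh hne f hf hcomm
    by_contra hf1
    have := hTI f (fun hfH => hf1 (hFH f hf hfH))
    refine hne (Subgroup.mem_bot.mp (this ▸ Subgroup.mem_inf.mpr ⟨hh, ?_⟩))
    rw [Subgroup.mem_pointwise_smul_iff_inv_smul_mem, MulAut.smul_def, MulAut.inv_apply,
      MulAut.conj_symm_apply, mul_assoc, hcomm, inv_mul_cancel_left]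
    exact hh
  -- the part of the kernel of order invertible in `k`
  obtain ⟨N, hNn, hNF, hNu, hNC⟩ : ∃ N : Subgroup A, N.Normal ∧ N ≤ Fk ∧
      ((Nat.card N : k) ≠ 0) ∧ ∀ v : V, (∀ f ∈ N, ρ f v = v) → v = 0 := by
    obtain ⟨p, hp⟩ := CharP.exists k
    rcases Nat.eq_zero_or_pos p with rfl | hp0
    · have := CharP.charP_to_charZero k
      exact ⟨Fk, inferInstance, le_rfl, Nat.cast_ne_zero.mpr Nat.card_pos.ne', hCF⟩
    have hpp : p.Prime := CharP.char_prime_of_ne_zero k hp0.ne'
    have := Fact.mk hpp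
    have : Group.IsNilpotent Fk := hnil
    let Q : Subgroup Fk := pPrimeCore p Fk
    let N : Subgroup A := Q.map Fk.subtype
    have hQchar : Q.Characteristic := Subgroup.characteristic_iff_map_eq.mpr fun e =>
      Cores.pPrimeCore_map_mulEquiv e
    have hN : N.Normal := inferInstance
    obtain ⟨P⟩ := (inferInstance : Nonempty (Sylow p Fk))
    have hall : ∀ (q : ℕ) (_ : Fact q.Prime) (S : Sylow q Fk), (S : Subgroup Fk).Normal :=
      ((Group.isNilpotent_of_finite_tfae (G := Fk)).out 0 3).mp hnil
    have hgen : ∀ f : Fk, ∃ a ∈ Q, ∃ b ∈ (P : Subgroup Fk), f = a * b := by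
      have hsup : Q ⊔ (P : Subgroup Fk) = ⊤ := by
        refine Cfsg.Agent.Cores.eq_top_of_sylow_le fun q hq S => ?_
        have := hall q hq S
        rcases eq_or_ne q p with rfl | hqp
        · exact le_sup_of_le_right ((Cores.le_pCore S.2).trans (Cores.pCore_le_sylow P))
        · refine le_sup_of_le_left (Cores.le_pPrimeCore ?_)
          obtain ⟨n, hn⟩ := IsPGroup.iff_card.mp S.2
          rw [hn]
          exact ((Nat.coprime_primes hq.out Fact.out).mpr hqp).pow_left n
      intro f
      have := Set.eq_univ_iff_forall.mp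
        ((Subgroup.normal_mul Q (P : Subgroup Fk)).symm.trans (by rw [hsup, Subgroup.coe_top])) f
      obtain ⟨a, ha, b, hb, rfl⟩ := this
      exact ⟨a, ha, b, hb, rfl⟩
    refine ⟨N, hN, Subgroup.map_subtype_le _, ?_, ?_⟩
    · intro h
      rw [CharP.cast_eq_zero_iff k p, Subgroup.card_subtype] at h
      exact Cores.not_dvd_card_pPrimeCore (G := Fk) h
    intro w hw
    by_contra hw0
    -- the finite additive group spanned by the orbit of `w`
    have : CharP (ZMod p) p := ZMod.charP p
    have hpv : ∀ v : V, p • v = 0 := fun v => by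
      rw [← Nat.cast_smul_eq_nsmul k, CharP.cast_eq_zero, zero_smul]
    haveI : Module (ZMod p) V := AddCommGroup.zmodModule hpv
    let Tm : Submodule (ZMod p) V := Submodule.span (ZMod p)
      (Set.range fun b : (P : Subgroup Fk) => ρ ((b : Fk) : A) w)
    have : Module.Finite (ZMod p) ↥Tm := by
      exact Module.Finite.span_of_finite (ZMod p) (Set.finite_range fun b : (P : Subgroup Fk) => ρ ((b : Fk) : A) w)
    have : Finite Tm := Module.finite_of_finite (ZMod p)
    have hinv : ∀ b : (P : Subgroup Fk), ∀ v ∈ Tm, ρ ((b : Fk) : A) v ∈ Tm := by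
      intro b v hv
      induction hv using Submodule.span_induction with
      | mem v hv =>
        obtain ⟨c, rfl⟩ := hv
        refine Submodule.subset_span ⟨b * c, ?_⟩
        simp [map_mul]
      | zero => rw [map_zero]; exact zero_mem _
      | add x y _ _ hx hy => rw [map_add]; exact add_mem hx hy
      | smul a x _ hx =>
        rw [show ρ ((b : Fk) : A) (a • x) = a • ρ ((b : Fk) : A) x from
          ZMod.map_smul (ρ ((b : Fk) : A)) a x]
        exact Submodule.smul_mem _ a hx
    letI : MulAction (P : Subgroup Fk) Tm :=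
      { smul := fun b v => ⟨ρ ((b : Fk) : A) v, hinv b v v.2⟩
        one_smul := fun v => Subtype.ext (by show ρ _ (v : V) = v; simp)
        mul_smul := fun b c v => Subtype.ext (by
          show ρ _ (v : V) = ρ _ (ρ _ (v : V))
          simp [map_mul]) }
    have hwT : w ∈ Tm := Submodule.subset_span ⟨1, by simp⟩
    have hd : p ∣ Nat.card Tm := by
      rw [Module.natCard_eq_pow_finrank (K := ZMod p), Nat.card_zmod]
      refine dvd_pow_self p fun h => hw0 ?_
      have := Submodule.finrank_eq_zero.mp h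
      exact (Submodule.mem_bot (ZMod p)).mp (this ▸ hwT)
    obtain ⟨b, hb, hb0⟩ := P.2.exists_fixed_point_of_prime_dvd_card_of_fixed_point Tm hd
      (a := (0 : Tm)) (fun b => Subtype.ext (map_zero _))
    refine hb0 (Subtype.ext (hCF b fun f hf => ?_)).symm
    obtain ⟨a, ha, c, hc, e⟩ := hgen ⟨f, hf⟩
    rw [show f = (a : A) * (c : A) from congrArg Subtype.val e, map_mul, Module.End.mul_apply,
      show ρ (c : A) (b : V) = b from congrArg Subtype.val (hb ⟨c, hc⟩)]
    -- `a` fixes everything in the span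
    have : ∀ v ∈ Tm, ρ (a : A) v = v := by
      intro v hv
      induction hv using Submodule.span_induction with
      | mem v hv =>
        obtain ⟨c, rfl⟩ := hv
        show ρ (a : A) (ρ ((c : Fk) : A) w) = ρ ((c : Fk) : A) w
        have h2 := hw ((((c : Fk) : A))⁻¹ * a * ((c : Fk) : A))
          (by simpa using hN.conj_mem (a : A) ⟨a, ha, rfl⟩ ((c : Fk) : A)⁻¹)
        conv_rhs => rw [← h2]
        rw [← Module.End.mul_apply, ← Module.End.mul_apply, ← map_mul, ← map_mul]
        congr 2
        group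
      | zero => exact map_zero _
      | add x y _ _ hx hy => rw [map_add, hx, hy]
      | smul a' x _ hx => rw [ZMod.map_smul (ρ (a : A)), hx]
    exact this _ b.2
  have hNnil : Group.IsNilpotent N := by
    have : Group.IsNilpotent Fk := hnil
    exact Group.nilpotent_of_mulEquiv (Subgroup.subgroupOfEquivOfLe hNF)
  -- the central series and the averaging idempotents
  let Z : ℕ → Subgroup A := fun i => (Subgroup.upperCentralSeries N i).map N.subtype
  have hZN : ∀ i, Z i ≤ N := fun i => Subgroup.map_subtype_le _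
  have hZn : ∀ i, (Z i).Normal := fun i => inferInstance
  have hZmono : ∀ i j, i ≤ j → Z i ≤ Z j := fun i j hij =>
    Subgroup.map_mono (Subgroup.upperCentralSeries_mono N hij)
  have hZc : ∀ i, ∀ x ∈ Z (i + 1), ∀ y ∈ N, x * y * x⁻¹ * y⁻¹ ∈ Z i := by
    rintro i _ ⟨x, hx, rfl⟩ y hy
    exact ⟨_, Subgroup.mem_upperCentralSeries_succ_iff.mp hx ⟨y, hy⟩, rfl⟩
  have hcard : ∀ i, (Nat.card (Z i) : k) ≠ 0 := fun i h => hNu (by
    obtain ⟨c, hc⟩ := Subgroup.card_dvd_of_le (hZN i)
    rw [hc, Nat.cast_mul, h, zero_mul])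
  obtain ⟨e, he⟩ : ∃ e : ℕ → Module.End k V,
      ∀ i, e i = (Nat.card (Z i) : k)⁻¹ • ∑ z : Z i, ρ (z : A) := ⟨_, fun _ => rfl⟩
  have hez : ∀ i, ∀ z ∈ Z i, e i * ρ z = e i ∧ ρ z * e i = e i := by
    intro i z hz
    constructor
    · rw [he]
      rw [smul_mul_assoc, Finset.sum_mul]
      refine congrArg _ (Fintype.sum_equiv (Equiv.mulRight ⟨z, hz⟩) _ _ fun y => ?_)
      simp [map_mul]
    · rw [he]
      rw [mul_smul_comm, Finset.mul_sum]
      refine congrArg _ (Fintype.sum_equiv (Equiv.mulLeft ⟨z, hz⟩) _ _ fun y => ?_)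
      simp [map_mul]
  have heconj : ∀ i (a : A), ρ a * e i * ρ a⁻¹ = e i := by
    intro i a
    rw [he]
    rw [mul_smul_comm, smul_mul_assoc, Finset.mul_sum, Finset.sum_mul]
    refine congrArg _ (Fintype.sum_equiv
      { toFun := fun y : Z i => (⟨a * y * a⁻¹, (hZn i).conj_mem _ y.2 a⟩ : Z i)
        invFun := fun y : Z i => ⟨a⁻¹ * y * a, by simpa using (hZn i).conj_mem _ y.2 a⁻¹⟩
        left_inv := fun y => Subtype.ext (by simp [mul_assoc])
        right_inv := fun y => Subtype.ext (by simp [mul_assoc]) } _ _ fun y => ?_)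
    simp [map_mul]
  have hecomm : ∀ i (a : A), ρ a * e i = e i * ρ a := fun i a => by
    conv_rhs => rw [← heconj i a]
    rw [mul_assoc, ← map_mul, inv_mul_cancel, map_one, mul_one]
  have hee : ∀ i j, i ≤ j → e i * e j = e j := by
    intro i j hij
    rw [he i]
    rw [smul_mul_assoc, Finset.sum_mul,
      Finset.sum_congr rfl (fun (z : Z i) _ => (hez j z (hZmono i j hij z.2)).2), Finset.sum_const,
      Finset.card_univ, ← Nat.card_eq_fintype_card, ← Nat.cast_smul_eq_nsmul k,
      inv_smul_smul₀ (hcard i)]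
  have hecomm' : ∀ i j, e i * e j = e j * e i := by
    intro i j
    rw [he j]
    rw [mul_smul_comm, smul_mul_assoc, Finset.mul_sum, Finset.sum_mul]
    exact congrArg _ (Finset.sum_congr rfl fun z _ => (hecomm i z).symm)
  let gens : Set (Module.End k V) := {T | ∃ i, ∃ x ∈ Z (i + 1), T = e i * ρ x}
  have hgc : ∀ S ∈ gens, ∀ T ∈ gens, S * T = T * S := by
    have key : ∀ i j, i ≤ j → ∀ x ∈ Z (i + 1), ∀ y ∈ Z (j + 1),
        e i * ρ x * (e j * ρ y) = e j * ρ y * (e i * ρ x) := by
      intro i j hij x hx y hy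
      rcases hij.eq_or_lt with rfl | hlt
      · have hy' := hZc i x hx y (hZN _ hy)
        have e1 : e i * ρ (x * y) = e i * ρ (y * x) := by
          rw [show x * y = x * y * x⁻¹ * y⁻¹ * (y * x) by group, map_mul, ← mul_assoc,
            (hez i _ hy').1]
        calc e i * ρ x * (e i * ρ y) = e i * e i * ρ (x * y) := by
              rw [mul_assoc (e i), ← mul_assoc (ρ x), hecomm, mul_assoc (e i) (ρ x), ← map_mul,
                ← mul_assoc]
          _ = e i * e i * ρ (y * x) := by rw [mul_assoc, e1, ← mul_assoc]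
          _ = _ := by
              rw [mul_assoc (e i) (ρ y), ← mul_assoc (ρ y), hecomm, mul_assoc (e i) (ρ y),
                ← map_mul, ← mul_assoc]
      · have hxj := hez j x (hZmono _ _ hlt hx)
        rw [mul_assoc (e i), ← mul_assoc (ρ x), hxj.2, ← mul_assoc, hee i j hij,
          mul_assoc (e j) (ρ y), ← mul_assoc (ρ y), hecomm, mul_assoc (e i) (ρ y), ← mul_assoc,
          hecomm' j i, hee i j hij]
        rw [← mul_assoc]
        conv_lhs => rw [← hxj.1]
        rw [mul_assoc, mul_assoc, ← map_mul, ← map_mul]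
        have hy' := hZc j y hy x (hZN _ hx)
        rw [show y * x = y * x * y⁻¹ * x⁻¹ * (x * y) by group, map_mul ρ (y * x * y⁻¹ * x⁻¹), ← mul_assoc (e j),
          (hez j _ hy').1]
    rintro _ ⟨i, x, hx, rfl⟩ _ ⟨j, y, hy, rfl⟩
    rcases le_total i j with h | h
    · exact key i j h x hx y hy
    · exact (key j i h y hy x hx).symm
  let R := Algebra.adjoin k gens
  have : IsMulCommutative R := Algebra.isMulCommutative_adjoin k hgc
  letI : CommRing R := open scoped IsMulCommutative in inferInstance
  have : Module.Finite k R := Module.Finite.of_injective R.val.toLinearMap Subtype.val_injective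
  have : IsArtinianRing R := IsArtinianRing.of_finite k R
  have hconjgens : ∀ (a : A), ∀ T ∈ gens, ρ a * T * ρ a⁻¹ ∈ gens := by
    rintro a _ ⟨i, x, hx, rfl⟩
    refine ⟨i, a * x * a⁻¹, (hZn _).conj_mem x hx a, ?_⟩
    rw [← mul_assoc, hecomm, mul_assoc (e i), ← map_mul, mul_assoc (e i), ← map_mul]
  have hRconj : ∀ (a : A), ∀ T ∈ R, ρ a * T * ρ a⁻¹ ∈ R := by
    intro a T hT
    induction hT using Algebra.adjoin_induction with
    | mem T hT => exact Algebra.subset_adjoin (hconjgens a T hT)
    | algebraMap c =>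
      rw [← Algebra.commutes, mul_assoc, ← map_mul, mul_inv_cancel, map_one, mul_one]
      exact Subalgebra.algebraMap_mem _ c
    | add x y _ _ hx hy => rw [mul_add, add_mul]; exact add_mem hx hy
    | mul x y _ _ hx hy =>
      rw [show ρ a * (x * y) * ρ a⁻¹ = (ρ a * x * ρ a⁻¹) * (ρ a * y * ρ a⁻¹) by
        simp only [mul_assoc]
        rw [← mul_assoc (ρ a⁻¹) (ρ a), ← map_mul, inv_mul_cancel, map_one, one_mul]]
      exact mul_mem hx hy
  letI : MulSemiringAction Hc R :=
    { smul := fun h T => ⟨ρ (h : A) * T * ρ (h : A)⁻¹, hRconj h T T.2⟩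
      one_smul := fun T => Subtype.ext (by show ρ _ * (T : Module.End k V) * ρ _ = T; simp)
      mul_smul := fun g h T => Subtype.ext (by
        show ρ _ * (T : Module.End k V) * ρ _ = ρ _ * (ρ _ * (T : Module.End k V) * ρ _) * ρ _
        simp [mul_assoc])
      smul_zero := fun h => Subtype.ext (by show ρ _ * (0 : Module.End k V) * ρ _ = 0; simp)
      smul_add := fun h S T => Subtype.ext (by
        show ρ _ * ((S : Module.End k V) + T) * ρ _ = _ + _
        rw [mul_add, add_mul]
        rfl)
      smul_one := fun h => Subtype.ext (by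
        show ρ _ * (1 : Module.End k V) * ρ _ = 1
        rw [mul_one, ← map_mul, mul_inv_cancel, map_one])
      smul_mul := fun h S T => Subtype.ext (by
        show ρ _ * ((S : Module.End k V) * T) * ρ _ =
          (ρ (h : A) * (S : Module.End k V) * ρ (h : A)⁻¹) * (ρ (h : A) * (T : Module.End k V) * ρ (h : A)⁻¹)
        simp only [mul_assoc]
        rw [← mul_assoc (ρ (h : A)⁻¹) (ρ (h : A)), ← map_mul, inv_mul_cancel, map_one, one_mul]) }
  have hsmulR : ∀ (h : Hc) (T : R), ((h • T : R) : Module.End k V) = ρ (h : A) * T * ρ (h : A)⁻¹ :=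
    fun _ _ => rfl
  letI : Module R V := Module.compHom V R.val.toRingHom
  have hsmulV : ∀ (T : R) (v : V), T • v = (T : Module.End k V) v := fun _ _ => rfl
  have : Module.Finite R V := by
    obtain ⟨s, hs⟩ := (Module.Finite.fg_top (R := k) (M := V))
    refine ⟨⟨s, eq_top_iff.mpr fun v _ => ?_⟩⟩
    have hv : v ∈ Submodule.span k (s : Set V) := hs ▸ Submodule.mem_top
    induction hv using Submodule.span_induction with
    | mem x hx => exact Submodule.subset_span hx
    | zero => exact zero_mem _
    | add x y _ _ hx hy => exact add_mem (hx trivial) (hy trivial)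
    | smul c x _ hx =>
      have e : c • x = (algebraMap k R c) • x := by rw [hsmulV]; simp
      rw [e]; exact Submodule.smul_mem _ _ (hx trivial)
  have hfaith : ∀ h : Hc, h ≠ 1 → ∀ m : MaximalSpectrum R, ∃ r : R, h • r - r ∉ m.asIdeal := by
    intro h hne m
    by_contra! hall
    have := m.isMaximal
    have hann : m.asIdeal ∈ (Module.annihilator R V).minimalPrimes :=
      IsArtinianRing.mem_minimalPrimes (by
        intro T hT
        have : T = 0 := Subtype.ext (LinearMap.ext fun v => by
          exact Module.mem_annihilator.mp hT v)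
        rw [this]; exact zero_mem _)
    obtain ⟨-, w, hw⟩ := (isAssociatedPrime_iff (R := R)).mp
      (Module.associatedPrimes.minimalPrimes_annihilator_subset_associatedPrimes R V hann)
    have hmw : ∀ T : R, T ∈ m.asIdeal ↔ T • w = 0 := fun T => by
      rw [hw, Submodule.mem_colon_singleton, Submodule.mem_bot]
      rfl
    have hw0 : w ≠ 0 := fun h0 => this.ne_top ((Ideal.eq_top_iff_one _).mpr
      ((hmw 1).mpr (by rw [h0, smul_zero])))
    -- `w` is fixed by every term of the central series
    have hfix : ∀ i, ∀ z ∈ Z i, ρ z w = w := by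
      intro i
      induction i with
      | zero =>
        rintro _ ⟨z, hz, rfl⟩
        have hz1 : z = 1 := Subgroup.mem_bot.mp hz
        simp [hz1]
      | succ i ih =>
        have hei : e i w = w := by
          rw [he]
          rw [LinearMap.smul_apply, LinearMap.sum_apply, Finset.sum_congr rfl
            (fun (z : Z i) _ => ih z z.2), Finset.sum_const, Finset.card_univ,
            ← Nat.card_eq_fintype_card, ← Nat.cast_smul_eq_nsmul k, inv_smul_smul₀ (hcard i)]
        intro y hy
        -- `y` is a commutator with `h`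
        let c : Z (i + 1) → Z (i + 1) := fun x => ⟨(h : A) * x * (h : A)⁻¹ * (x : A)⁻¹,
          mul_mem ((hZn _).conj_mem _ x.2 _) (inv_mem x.2)⟩
        have hc : Function.Injective c := by
          intro a b hab
          have e1 : (h : A) * a * (h : A)⁻¹ * (a : A)⁻¹ = (h : A) * b * (h : A)⁻¹ * (b : A)⁻¹ :=
            congrArg Subtype.val hab
          have e2 : (h : A) * ((b : A)⁻¹ * a) = (b : A)⁻¹ * a * h := by
            calc (h : A) * ((b : A)⁻¹ * a)
                = (h : A) * (b : A)⁻¹ * (h : A)⁻¹ * ((h : A) * a * (h : A)⁻¹ * (a : A)⁻¹) * a * h := by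
                  group
              _ = _ := by rw [e1]; group
          have := hfpf h h.2 (fun hh => hne (Subtype.ext hh)) _
            (hNF (mul_mem (inv_mem (hZN _ b.2)) (hZN _ a.2))) e2
          exact Subtype.ext (inv_mul_eq_one.mp this).symm
        obtain ⟨x, hx⟩ := (Finite.injective_iff_surjective.mp hc) ⟨y, hy⟩
        have hxy : (h : A) * x * (h : A)⁻¹ = y * x := by
          rw [← show (h : A) * x * (h : A)⁻¹ * (x : A)⁻¹ = y from congrArg Subtype.val hx,
            inv_mul_cancel_right]
        let T : A → R := fun z => if hz : z ∈ Z (i + 1) then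
          ⟨e i * ρ z, Algebra.subset_adjoin ⟨i, z, hz, rfl⟩⟩ else 0
        have hT : ∀ z ∈ Z (i + 1), ((T z : R) : Module.End k V) = e i * ρ z := fun z hz => by
          simp [T, hz]
        have hTm : ∀ z ∈ Z (i + 1), ∀ z' ∈ Z (i + 1), T (z * z') = T z * T z' := by
          intro z hz z' hz'
          refine Subtype.ext ?_
          rw [Subalgebra.coe_mul, hT _ (mul_mem hz hz'), hT _ hz, hT _ hz', map_mul, mul_assoc,
            ← mul_assoc (ρ z), hecomm, mul_assoc (e i) (ρ z), ← mul_assoc (e i) (e i), hee i i le_rfl]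
        have h2 : ((h • T x : R) : Module.End k V) w - ((T x : R) : Module.End k V) w = 0 :=
          (hmw _).mp (hall (T x))
        have h3 : h • T x = T ((h : A) * x * (h : A)⁻¹) := Subtype.ext (by
          rw [hsmulR, hT _ x.2, hT _ ((hZn _).conj_mem _ x.2 _), ← mul_assoc, hecomm,
            mul_assoc (e i), ← map_mul, mul_assoc (e i), ← map_mul])
        rw [h3, hxy, hT _ (mul_mem hy x.2), hT _ x.2, sub_eq_zero, ← hecomm, ← hecomm,
          Module.End.mul_apply, Module.End.mul_apply, hei] at h2
        have hyx := hZc i y hy x (hZN _ x.2)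
        have h4 : ρ ((x : A) * y) w = ρ (x : A) w := by
          have e1 : (x : A) * y = (y * x * y⁻¹ * (x : A)⁻¹)⁻¹ * (y * x) := by group
          have e2 : (y * x * y⁻¹ * (x : A)⁻¹)⁻¹ * (x : A) =
              x * ((x : A)⁻¹ * (y * x * y⁻¹ * (x : A)⁻¹)⁻¹ * x) := by group
          rw [e1, map_mul, Module.End.mul_apply, h2, ← Module.End.mul_apply, ← map_mul, e2,
            map_mul, Module.End.mul_apply,
            ih _ (by simpa using (hZn i).conj_mem _ (inv_mem hyx) (x : A)⁻¹)]
        rw [map_mul, Module.End.mul_apply] at h4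
        have h5 := congrArg (ρ (x : A)⁻¹) h4
        have hcancel : ∀ v, ρ (x : A)⁻¹ (ρ (x : A) v) = v := fun v => by
          rw [← Module.End.mul_apply, ← map_mul, inv_mul_cancel, map_one, Module.End.one_apply]
        rwa [hcancel, hcancel] at h5
    obtain ⟨n, hn⟩ := Group.IsNilpotent.nilpotent N
    refine hw0 (hNC w fun f hf => hfix n f ⟨⟨f, hf⟩, ?_, rfl⟩)
    rw [hn]; trivial
  have := descent (R := R) (H := Hc) (fun T c v => map_smul (T : Module.End k V) c v) hfaith (ρ.comp Hc.subtype) (fun g T v => by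
    show ρ (g : A) (T • v) = (g • T) • ρ (g : A) v
    rw [hsmulV, hsmulV, hsmulR, Module.End.mul_apply, Module.End.mul_apply,
      ← Module.End.mul_apply (ρ (g : A)⁻¹), ← map_mul, inv_mul_cancel, map_one, Module.End.one_apply])
  exact this

end Cfsg.Agent.S4396
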