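import Cfsg.Statements.S4398
import Cfsg.Agent.H62.EightForcesMaxClass
-- import your own Cfsg.Agent.* helpers here

set_option autoImplicit false
open Cfsg

namespace Cfsg.Agent.S4398

open Subgroup

/-- Let S be a finite 2-group of sectional 2-rank at most 2 that contains a subgroup isomorphic to the dihedral group of order 8 or to the quaternion group of order 8. Then S is dihedral of order at least 8, semidihedral of order at least 16 (order 2^(k+4) with an element a of order 2^(k+3) and an involution b with b a b⁻¹ = a^(2^(k+2)−1)), or generalized quaternion of order at least 8. -/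
theorem result {S : Type*} [Group S] [Finite S] (h2 : IsPGroup 2 S) (hr : Cfsg.SectionalPRankLE 2 2 S)
    (hsub : ∃ H : Subgroup S, Nonempty (↥H ≃* DihedralGroup 4) ∨ Nonempty (↥H ≃* QuaternionGroup 2)) :
    ((∃ k : ℕ, Nonempty (S ≃* DihedralGroup (2 ^ (k + 2)))) ∨
      (∃ k : ℕ, Nat.card S = 2 ^ (k + 4) ∧ ∃ a b : S, orderOf a = 2 ^ (k + 3) ∧ orderOf b = 2 ∧ b * a * b⁻¹ = a ^ (2 ^ (k + 2) - 1)) ∨
      (∃ k : ℕ, Nonempty (S ≃* QuaternionGroup (2 ^ (k + 1))))) := by
  haveI : Fact (Nat.Prime 2) := ⟨Nat.prime_two⟩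
  obtain ⟨H, hHiso⟩ := hsub
  have hH : Nat.card H = 8 := by
    rcases hHiso with ⟨⟨e⟩⟩ | ⟨⟨e⟩⟩ <;> rw [Nat.card_congr e.toEquiv]
    · rw [DihedralGroup.nat_card]
    · rw [Nat.card_eq_fintype_card, QuaternionGroup.card]
  have hna : ¬ IsMulCommutative H := fun h => by
    rcases hHiso with ⟨⟨e⟩⟩ | ⟨⟨e⟩⟩
    · have := h.is_comm.comm (e.symm (DihedralGroup.r 1)) (e.symm (DihedralGroup.sr 0))
      rw [← map_mul, ← map_mul] at this
      exact absurd (e.symm.injective this) (by decide)
    · have := h.is_comm.comm (e.symm (QuaternionGroup.a 1)) (e.symm (QuaternionGroup.xa 0))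
      rw [← map_mul, ← map_mul] at this
      exact absurd (e.symm.injective this) (by decide)
  -- elements of `H` square into its centre
  have hsq : ∀ h ∈ H, ∀ k ∈ H, k * (h * h) = h * h * k := by
    intro h hh k hk
    rcases hHiso with ⟨⟨e⟩⟩ | ⟨⟨e⟩⟩
    · have key : ∀ a b : DihedralGroup 4, b * (a * a) = a * a * b := by decide
      have := congrArg e.symm (key (e ⟨h, hh⟩) (e ⟨k, hk⟩))
      simp only [map_mul, MulEquiv.symm_apply_apply] at this
      exact congrArg Subtype.val this
    · have key : ∀ a b : QuaternionGroup 2, b * (a * a) = a * a * b := by decide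
      have := congrArg e.symm (key (e ⟨h, hh⟩) (e ⟨k, hk⟩))
      simp only [map_mul, MulEquiv.symm_apply_apply] at this
      exact congrArg Subtype.val this
  have hCH : centralizer (H : Set S) ≤ H := by
    intro s₀ hs₀
    by_contra hsH
    -- an element outside `H` centralising it, whose square lies in `H`
    obtain ⟨s, hs, hsn, hs2⟩ : ∃ s ∈ centralizer (H : Set S), s ∉ H ∧ s * s ∈ H := by
      obtain ⟨j, hj⟩ := IsPGroup.iff_orderOf.mp h2 s₀
      suffices h : ∀ (j : ℕ) (s : S), s ∈ centralizer (H : Set S) → s ∉ H → s ^ 2 ^ j ∈ H →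
          ∃ s ∈ centralizer (H : Set S), s ∉ H ∧ s * s ∈ H from
        h j s₀ hs₀ hsH (by rw [← hj, pow_orderOf_eq_one]; exact one_mem H)
      intro j
      induction j with
      | zero => intro s _ hs h; exact absurd (by simpa using h) hs
      | succ j ih =>
        intro s hs hsn h
        by_cases hss : s * s ∈ H
        · exact ⟨s, hs, hsn, hss⟩
        · refine ih (s * s) (mul_mem hs hs) hss ?_
          rwa [← sq, ← pow_mul, ← pow_succ']
    have hcomm : ∀ h ∈ H, h * s = s * h := fun h hh => mem_centralizer_iff.mp hs h hh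
    set K : Subgroup S :=
      { carrier := {x | x ∈ H ∨ x * s⁻¹ ∈ H}
        one_mem' := Or.inl (one_mem H)
        mul_mem' := by
          intro x y hx hy
          rcases hx with hx | hx <;> rcases hy with hy | hy
          · exact Or.inl (mul_mem hx hy)
          · exact Or.inr (by rw [mul_assoc]; exact mul_mem hx hy)
          · refine Or.inr ?_
            rw [show x * y * s⁻¹ = (x * s⁻¹) * (s * y * s⁻¹) by group, ← hcomm y hy, mul_inv_cancel_right]
            exact mul_mem hx hy
          · refine Or.inl ?_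
            have h1 := hcomm _ hy
            rw [show x * y = (x * s⁻¹) * (s * (y * s⁻¹)) * s by group, ← h1, mul_assoc, mul_assoc (y * s⁻¹) s s]
            exact mul_mem hx (mul_mem hy hs2)
        inv_mem' := by
          intro x hx
          rcases hx with hx | hx
          · exact Or.inl (inv_mem hx)
          · refine Or.inr ?_
            have h1 := hcomm _ (inv_mem hx)
            rw [show x⁻¹ * s⁻¹ = s⁻¹ * ((x * s⁻¹)⁻¹ * s) * (s * s)⁻¹ * s * s⁻¹ by group, h1,
              inv_mul_cancel_left, mul_inv_cancel_right]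
            exact mul_mem (inv_mem hx) (inv_mem hs2) } with hK
    have hHK : H ≤ K := fun x hx => Or.inl hx
    have hsK : s ∈ K := Or.inr (by rw [mul_inv_cancel]; exact one_mem H)
    set Z : Subgroup S := H ⊓ centralizer (H : Set S) with hZ
    have hZK : ∀ k ∈ K, ∀ z ∈ Z, k * z = z * k := by
      intro k hk z hz
      rcases hk with hk | hk
      · exact mem_centralizer_iff.mp hz.2 k hk
      · calc k * z = (k * s⁻¹) * (s * z) := by group
          _ = (k * s⁻¹) * (z * s) := by rw [← hcomm z hz.1]
          _ = ((k * s⁻¹) * z) * s := by group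
          _ = z * k := by rw [mem_centralizer_iff.mp hz.2 _ hk]; group
    haveI : (Z.subgroupOf K).Normal := ⟨fun z hz k => by
      rw [mem_subgroupOf] at hz ⊢
      rw [coe_mul, coe_mul, coe_inv, hZK k k.2 z hz, mul_inv_cancel_right]
      exact hz⟩
    have hsqK : ∀ k : K, k * k ∈ Z.subgroupOf K := by
      rintro ⟨k, hk⟩
      rw [mem_subgroupOf]
      change k * k ∈ Z
      rcases hk with hk | hk
      · exact ⟨mul_mem hk hk, mem_centralizer_iff.mpr fun b hb => hsq k hk b hb⟩
      · have h1 := hcomm _ hk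
        have he : k * k = (k * s⁻¹) * (k * s⁻¹) * (s * s) := by
          calc k * k = (k * s⁻¹) * (s * (k * s⁻¹)) * s := by group
            _ = _ := by rw [← h1]; group
        rw [he]
        exact mul_mem ⟨mul_mem hk hk, mem_centralizer_iff.mpr fun b hb => hsq _ hk b hb⟩
          ⟨hs2, mem_centralizer_iff.mpr fun b hb => by rw [← mul_assoc, hcomm b hb, mul_assoc, hcomm b hb, ← mul_assoc]⟩
    have hq2 : ∀ x : K ⧸ Z.subgroupOf K, x ^ 2 = 1 := fun x => by
      obtain ⟨k, rfl⟩ := QuotientGroup.mk'_surjective _ x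
      rw [sq, ← map_mul, QuotientGroup.mk'_apply, QuotientGroup.eq_one_iff]
      exact hsqK k
    have hqc : IsMulCommutative (⊤ : Subgroup (K ⧸ Z.subgroupOf K)) := ⟨⟨fun x y => by
      apply Subtype.ext
      have hi : ∀ a : K ⧸ Z.subgroupOf K, a⁻¹ = a := fun a =>
        inv_eq_of_mul_eq_one_right (by rw [← sq]; exact hq2 a)
      calc (x : K ⧸ Z.subgroupOf K) * y = ((x : K ⧸ Z.subgroupOf K) * y)⁻¹ := (hi _).symm
        _ = y * x := by rw [mul_inv_rev, hi, hi]⟩⟩
    have hle := hr K (Z.subgroupOf K) ⊤ hqc (fun a _ => hq2 a)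
    rw [Subgroup.card_top] at hle
    -- sizes
    have hKcard : 16 ≤ Nat.card K := by
      have hlt : H.subgroupOf K ≠ ⊤ := fun h => hsn (Subgroup.subgroupOf_eq_top.mp h hsK)
      have h1 := (H.subgroupOf K).card_mul_index
      rw [Nat.card_congr (Subgroup.subgroupOfEquivOfLe hHK).toEquiv, hH] at h1
      have h2 : (H.subgroupOf K).index ≠ 1 := fun h => hlt (Subgroup.index_eq_one.mp h)
      have h3 : (H.subgroupOf K).index ≠ 0 := Subgroup.index_ne_zero_of_finite
      omega
    have hZcard : Nat.card Z ≤ 2 := by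
      have hZH : Z ≤ H := inf_le_left
      have hzc : Z.subgroupOf H = center H := by
        ext z
        rw [mem_subgroupOf, Subgroup.mem_center_iff]
        exact ⟨fun hz k => Subtype.ext (mem_centralizer_iff.mp hz.2 k k.2),
          fun hz => ⟨z.2, mem_centralizer_iff.mpr fun b hb => congrArg Subtype.val (hz ⟨b, hb⟩)⟩⟩
      rw [← Nat.card_congr (Subgroup.subgroupOfEquivOfLe hZH).toEquiv, hzc]
      by_contra hgt
      push Not at hgt
      have hd := (center H).card_subgroup_dvd_card
      rw [hH] at hd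
      have hcyc : IsCyclic (H ⧸ center H) := by
        have h1 := (center H).card_mul_index
        rw [hH, Subgroup.index_eq_card] at h1
        have : Nat.card (H ⧸ center H) ∣ 2 := by
          have := Nat.le_of_dvd (by norm_num) hd
          have hq0 : 0 < Nat.card (H ⧸ center H) := Nat.card_pos
          have hq : Nat.card (H ⧸ center H) ≤ 2 := by nlinarith
          interval_cases hc : Nat.card (H ⧸ center H) <;> norm_num
        rcases (Nat.dvd_prime Nat.prime_two).mp this with h | h
        · haveI := (Nat.card_eq_one_iff_unique.mp h).1; infer_instance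
        · exact isCyclic_of_prime_card h
      exact hna ⟨⟨commutative_of_cyclic_center_quotient (QuotientGroup.mk' (center H))
        (by rw [QuotientGroup.ker_mk'])⟩⟩
    have h4 := (Z.subgroupOf K).card_mul_index
    rw [Subgroup.index_eq_card, Nat.card_congr (Subgroup.subgroupOfEquivOfLe (le_trans inf_le_left hHK)).toEquiv] at h4
    nlinarith
  obtain ⟨n, hn⟩ := IsPGroup.iff_card.mp h2
  have hc := H62.nilpotencyClass_of_eight n S hn H hH hna hCH
  have hn3 : 3 ≤ n := (Nat.pow_dvd_pow_iff_le_right one_lt_two).mp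
    (show 2 ^ 3 ∣ 2 ^ n by rw [← hn, show 2 ^ 3 = Nat.card H by rw [hH]; norm_num]; exact H.card_subgroup_dvd_card)
  obtain ⟨k, rfl⟩ : ∃ k, n = k + 3 := ⟨n - 3, by omega⟩
  obtain ⟨c, y, hk, hy, hcase, -⟩ := PGroups.maxClass_two hn3 hn hc
  rw [show k + 3 - 1 = k + 2 by omega] at hk
  rw [show k + 3 - 2 = k + 1 by omega] at hcase
  rcases hcase with ⟨h1, h2' | h2'⟩ | ⟨h4, h1, h2'⟩
  · haveI : NeZero (2 ^ (k + 2)) := ⟨by positivity⟩
    exact Or.inl ⟨k, PGroups.nonempty_mulEquiv_dihedral hk hy h2' h1 (by rw [hn]; ring)⟩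
  · haveI : NeZero (2 ^ (k + 1)) := ⟨by positivity⟩
    exact Or.inr (Or.inr ⟨k, PGroups.nonempty_mulEquiv_quaternion (by rw [hk]; ring) hy h2' h1
      (by rw [hn]; ring)⟩)
  · obtain ⟨l, rfl⟩ : ∃ l, k = l + 1 := ⟨k - 1, by omega⟩
    exact Or.inr (Or.inl ⟨l, by rw [hn], c, y, hk,
      orderOf_eq_prime h2' fun he => hy (he ▸ one_mem _), h1⟩)

end Cfsg.Agent.S4398
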