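import Cfsg.Statements.S4399
import Cfsg.Agent.PGroups.Taussky
-- import your own Cfsg.Agent.* helpers here

set_option autoImplicit false
open Cfsg

namespace Cfsg.Agent.S4399

open Subgroup

/-- Let S be a finite 2-group whose commutator quotient S/[S,S] is a Klein four-group (order 4 and exponent 2). Then S itself has order 4, or S is dihedral of order at least 8, semidihedral of order at least 16 (order 2^(k+4) with an element a of order 2^(k+3) and an involution b with b a b⁻¹ = a^(2^(k+2)−1)), or generalized quaternion of order at least 8. -/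
theorem result {S : Type*} [Group S] [Finite S] (h2 : IsPGroup 2 S) (hab : Nat.card (Abelianization S) = 4)
    (hexp : ∀ x : Abelianization S, x ^ 2 = 1) :
    Nat.card S = 4 ∨
    ((∃ k : ℕ, Nonempty (S ≃* DihedralGroup (2 ^ (k + 2)))) ∨
      (∃ k : ℕ, Nat.card S = 2 ^ (k + 4) ∧ ∃ a b : S, orderOf a = 2 ^ (k + 3) ∧ orderOf b = 2 ∧ b * a * b⁻¹ = a ^ (2 ^ (k + 2) - 1)) ∨
      (∃ k : ℕ, Nonempty (S ≃* QuaternionGroup (2 ^ (k + 1))))) := by
  haveI : Fact (Nat.Prime 2) := ⟨Nat.prime_two⟩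
  obtain ⟨n, hn⟩ := IsPGroup.iff_card.mp h2
  have hidx : (commutator S).index = 4 := by rw [Subgroup.index_eq_card]; exact hab
  have h := (commutator S).card_mul_index
  rw [hidx, hn] at h
  by_cases hn3 : 3 ≤ n
  · right
    obtain ⟨k, rfl⟩ : ∃ k, n = k + 3 := ⟨n - 3, by omega⟩
    have hc := PGroups.maxClass_of_index_commutator _ S hn3 hn hidx
    obtain ⟨c, y, hk, hy, hcase, -⟩ := PGroups.maxClass_two hn3 hn hc
    rw [show k + 3 - 1 = k + 2 by omega] at hk
    rw [show k + 3 - 2 = k + 1 by omega] at hcase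
    rcases hcase with ⟨h1, h2 | h2⟩ | ⟨h4, h1, h2⟩
    · haveI : NeZero (2 ^ (k + 2)) := ⟨by positivity⟩
      exact Or.inl ⟨k, PGroups.nonempty_mulEquiv_dihedral hk hy h2 h1 (by rw [hn]; ring)⟩
    · haveI : NeZero (2 ^ (k + 1)) := ⟨by positivity⟩
      exact Or.inr (Or.inr ⟨k, PGroups.nonempty_mulEquiv_quaternion (by rw [hk]; ring) hy h2 h1
        (by rw [hn]; ring)⟩)
    · obtain ⟨l, rfl⟩ : ∃ l, k = l + 1 := ⟨k - 1, by omega⟩
      exact Or.inr (Or.inl ⟨l, by rw [hn], c, y, hk,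
        orderOf_eq_prime h2 fun he => hy (he ▸ one_mem _), h1⟩)
  · left
    rw [hn]
    have hdvd : 4 ∣ 2 ^ n := ⟨Nat.card (commutator S), by rw [← h, mul_comm]⟩
    have := (Nat.pow_dvd_pow_iff_le_right one_lt_two).mp (show 2 ^ 2 ∣ 2 ^ n from hdvd)
    rw [show n = 2 by omega]; norm_num

end Cfsg.Agent.S4399
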