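import Cfsg.Statements.S4404
import Cfsg.Agent.Cores.MovedFour

set_option autoImplicit false
open Cfsg
open Subgroup
open Cfsg.Agent.Cores.MovedFour

namespace Cfsg.Agent.S4404

universe u

variable {S : Type u} [Group S] [Finite S]

open scoped IsMulCommutative

/-- The criterion: a large elementary subgroup stabilizing a small space containing the four group. -/
theorem crit (M : Subgroup S) [M.Normal] [IsMulCommutative ↥M] (ρ : S →* MulAut ↥M)
    (hV : ∀ v : ↥M, v ^ 2 = 1) {T : Subgroup S} {φ ψ : MulAut ↥M} {r₀ : ℕ} (hψ : Good r₀ ψ)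
    (hT : ∀ s : S, (∀ x ∈ moved φ, ρ s x = x) → s ∈ centralizer (T : Set S))
    (hφψ : moved φ ≤ moved ψ) {r : ℕ} (hr : r.Prime) (hr2 : r ≠ 2) (F0 : Subgroup S)
    (hFc : IsMulCommutative ↥F0) (hFe : ∀ x ∈ F0, x ^ r = 1) (hF3 : r ^ 3 ∣ Nat.card ↥F0)
    (hst : ∀ x ∈ F0, ρ x ∈ stab (moved ψ)) :
    ∃ (r : ℕ) (F : Subgroup S), r.Prime ∧ r ≠ 2 ∧ Cfsg.IsElementaryAbelian r F ∧
      Nat.card ↥F = r ^ 3 ∧ ¬ IsCyclic ↥(F ⊓ centralizer (T : Set S)) := by
  have := Fact.mk hr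
  obtain ⟨K, hK, -⟩ := Sylow.exists_subgroup_card_pow_prime_le (G := ↥F0) r (n := 0) (m := 3) hF3 ⊥
    (by simp) (by norm_num)
  set F := K.map F0.subtype with hFdef
  have hFle : F ≤ F0 := map_subtype_le _
  have hFcard : Nat.card ↥F = r ^ 3 := by rw [hFdef, card_map_of_injective F0.subtype_injective, hK]
  have hFel : Cfsg.IsElementaryAbelian r F := ⟨⟨⟨fun a b => Subtype.ext (show (a : S) * b = b * a from congrArg Subtype.val
    (hFc.is_comm.comm (⟨a, hFle a.2⟩ : ↥F0) ⟨b, hFle b.2⟩))⟩⟩, fun x hx => hFe x (hFle hx)⟩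
  refine ⟨r, F, hr, hr2, hFel, hFcard, fun hcyc => ?_⟩
  let f : ↥F →* MulAut ↥(moved ψ) := (restrict (moved ψ)).comp
    ((ρ.comp F.subtype).codRestrict _ fun x => hst x (hFle x.2))
  have hFp : IsPGroup r ↥F := IsPGroup.of_card hFcard
  obtain ⟨j, hj⟩ := (IsPGroup.of_surjective hFp f.rangeRestrict f.rangeRestrict_surjective).exists_card_eq
  have hj1 : j ≤ 1 := by
    by_contra hcon
    have h1 := ((pow_dvd_pow r (show 2 ≤ j by omega)).trans hj.symm.dvd).trans
      (card_subgroup_dvd_card f.range)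
    have h21 : r ^ 2 ∣ 21 := by
      have hc : (r ^ 2).Coprime 8 := by
        rw [show (8 : ℕ) = 2 ^ 3 by norm_num]
        exact ((Nat.coprime_primes hr Nat.prime_two).2 hr2).pow 2 3
      refine hc.dvd_of_dvd_mul_left ((h1.trans ?_))
      rcases hψ.2 with ⟨-, h⟩ | ⟨-, h⟩
      · exact (card_mulAut_dvd_prod hV _ (k := 2) h).trans (by decide)
      · exact (card_mulAut_dvd_prod hV _ (k := 3) h).trans (by decide)
    have hr21 : r ≤ 21 := Nat.le_of_dvd (by norm_num) ((dvd_pow_self r two_ne_zero).trans h21)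
    have : r ^ 2 ≤ 21 := Nat.le_of_dvd (by norm_num) h21
    have : r ≤ 4 := by nlinarith
    interval_cases r <;> norm_num at *
  have hker : r ^ 2 ≤ Nat.card ↥f.ker := by
    have h1 := card_mul_index f.ker
    rw [index_ker, hj, hFcard] at h1
    have h2 : r ^ j ≤ r := by
      simpa using Nat.pow_le_pow_right hr.pos hj1
    have h3 : Nat.card ↥f.ker * r ≥ r ^ 3 := by
      rw [← h1]; exact Nat.mul_le_mul_left _ h2
    nlinarith [hr.pos]
  have hle : f.ker.map F.subtype ≤ F ⊓ centralizer (T : Set S) := by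
    rintro - ⟨x, hx, rfl⟩
    refine mem_inf.2 ⟨x.2, hT _ fun m hm => ?_⟩
    exact congrArg Subtype.val (DFunLike.congr_fun (MonoidHom.mem_ker.1 hx)
      (⟨m, hφψ hm⟩ : ↥(moved ψ)))
  have hexp : Monoid.exponent ↥(F ⊓ centralizer (T : Set S)) ∣ r :=
    Monoid.exponent_dvd_of_forall_pow_eq_one fun x => Subtype.ext (hFel.2 x (mem_inf.1 x.2).1)
  rw [IsCyclic.exponent_eq_card] at hexp
  have h1 := (card_le_of_le hle).trans (Nat.le_of_dvd hr.pos hexp)
  rw [card_map_of_injective F.subtype_injective] at h1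
  have := hker.trans h1
  nlinarith [hr.two_le]

/-- A normal abelian subgroup of a `p`-group stabilizes the space of an element whose conjugates
commute with it. -/
theorem stab_of_normal (M : Subgroup S) [M.Normal] [IsMulCommutative ↥M] (ρ : S →* MulAut ↥M)
    (hV : ∀ v : ↥M, v ^ 2 = 1) {r : ℕ} (hr : Odd r) {r₀ : ℕ} {g : S} (hg : Good r₀ (ρ g))
    (P : Subgroup S) (hgP : g ∈ P) (A : Subgroup ↥P) (hA : A.Normal) (hAc : IsMulCommutative ↥A)
    (hAe : ∀ a ∈ A, a ^ r = 1) (hconj : ∀ h ∈ P, Commute (ρ g) (ρ h * ρ g * (ρ h)⁻¹)) :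
    ∀ x ∈ A.map P.subtype, ρ x ∈ stab (moved (ρ g)) := by
  rintro - ⟨e, he, rfl⟩
  have her : (e : S) ^ r = 1 := congrArg Subtype.val (hAe e he)
  refine mem_stab_of_quadratic hV hg hr (by rw [← map_pow]; exact (congrArg ρ her).trans (map_one ρ))
    (hconj e e.2) ?_ ?_
  · have := hconj ((e : S) * e) (mul_mem e.2 e.2)
    rw [map_mul] at this
    have h2 : ρ e * ρ e * ρ g * (ρ e * ρ e)⁻¹ = ρ e * (ρ e * ρ g * (ρ e)⁻¹) * (ρ e)⁻¹ := by group
    rw [h2] at this
    exact this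
  · have hc : (⟨g, hgP⟩ : ↥P) * e * (⟨g, hgP⟩ : ↥P)⁻¹ * e⁻¹ ∈ A :=
      mul_mem (hA.conj_mem e he _) (inv_mem he)
    have h1 : Commute e ((⟨g, hgP⟩ : ↥P) * e * (⟨g, hgP⟩ : ↥P)⁻¹ * e⁻¹) :=
      congrArg Subtype.val (hAc.is_comm.comm (⟨e, he⟩ : ↥A) ⟨_, hc⟩)
    have h2 := h1.map (ρ.comp P.subtype)
    simp only [map_mul, map_inv, MonoidHom.comp_apply, coe_subtype] at h2
    have h3 : ρ g * (ρ e * ρ g * (ρ e)⁻¹)⁻¹ = ρ g * ρ e * (ρ g)⁻¹ * (ρ e)⁻¹ := by group
    rw [coe_subtype, h3]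
    exact h2

/-- A `p`-group with an elementary subgroup of order `p ^ 3` has a normal one of order at least that. -/
theorem exists_normal_big {p : ℕ} [Fact p.Prime] (hp2 : p ≠ 2) {P E : Subgroup S}
    (hP : IsPGroup p ↥P) (hEP : E ≤ P) (hE : Cfsg.IsElementaryAbelian p E)
    (hE3 : p ^ 3 ≤ Nat.card ↥E) :
    ∃ A : Subgroup ↥P, A.Normal ∧ IsMulCommutative ↥A ∧ (∀ a ∈ A, a ^ p = 1) ∧
      p ^ 3 ∣ Nat.card ↥(A.map P.subtype) := by
  by_contra hcon
  push Not at hcon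
  have hEc : IsMulCommutative ↥(E.subgroupOf P) := ⟨⟨fun a b => Subtype.ext (Subtype.ext
    (show ((a : ↥P) : S) * (b : ↥P) = (b : ↥P) * (a : ↥P) from
      congrArg Subtype.val (hE.1.is_comm.comm (⟨_, a.2⟩ : ↥E) ⟨_, b.2⟩)))⟩⟩
  have h := H41.card_le_sq_of_no_normal hp2 hP (fun A hA hAc hAe => by
    by_contra hlt
    obtain ⟨n, hn⟩ := IsPGroup.iff_card.1 (hP.to_subgroup A)
    refine hcon A hA hAc hAe ?_
    rw [card_map_of_injective P.subtype_injective, hn]
    rw [hn] at hlt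
    exact pow_dvd_pow p ((Nat.pow_le_pow_iff_right (Fact.out : p.Prime).one_lt).1 (not_lt.1 hlt)))
    (E.subgroupOf P) hEc (fun e he => Subtype.ext (hE.2 _ he))
  rw [Nat.card_congr (subgroupOfEquivOfLe hEP).toEquiv] at h
  have := hE3.trans h
  rw [Nat.pow_le_pow_iff_right (Fact.out : p.Prime).one_lt] at this
  omega

/-- Let S be a finite solvable group and M a normal elementary abelian 2-subgroup of S. Suppose S contains an elementary abelian subgroup of order p³ for some odd prime p, and a cyclic 3-subgroup Q such that the cubes of the elements of Q centralize M and the commutator subgroup [Q, M] has order 4 (a four-group inside M). Then S contains an elementary abelian subgroup F of order r³, for some odd prime r, whose centralizer of [Q, M] in F — the subgroup C_F([Q, M]) — is not cyclic. -/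
theorem result {S : Type*} [Group S] [Finite S]
    [Group.IsSolvable S] (M : Subgroup S) [M.Normal] (hM : Cfsg.IsElementaryAbelian 2 M)
    (p : ℕ) (hp : p.Prime) (hp2 : p ≠ 2) (E : Subgroup S) (hE : Cfsg.IsElementaryAbelian p E) (hE3 : Nat.card ↥E = p ^ 3)
    (Q : Subgroup S) (hQc : IsCyclic ↥Q) (hQ3 : IsPGroup 3 ↥Q)
    (hQ1 : ∀ x ∈ Q, x ^ 3 ∈ Subgroup.centralizer (M : Set S)) (hQM : Nat.card ↥⁅Q, M⁆ = 4) :
    ∃ (r : ℕ) (F : Subgroup S), r.Prime ∧ r ≠ 2 ∧ Cfsg.IsElementaryAbelian r F ∧ Nat.card ↥F = r ^ 3 ∧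
      ¬ IsCyclic ↥(F ⊓ Subgroup.centralizer ((⁅Q, M⁆ : Subgroup S) : Set S)) := by
  classical
  have hMc : IsMulCommutative ↥M := hM.1
  have hV : ∀ v : ↥M, v ^ 2 = 1 := fun v => Subtype.ext (hM.2 v v.2)
  let ρ : S →* MulAut ↥M := MulAut.conjNormal
  have hρ : ∀ (s : S) (m : ↥M), ((ρ s m : ↥M) : S) = s * m * s⁻¹ := fun s m =>
    MulAut.conjNormal_apply s m
  obtain ⟨⟨g, hgQ⟩, hgen⟩ := IsCyclic.exists_generator (α := ↥Q)
  have hφ3 : (ρ g) ^ 3 = 1 := by
    rw [← map_pow]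
    refine MulEquiv.ext fun m => Subtype.ext ?_
    rw [hρ]
    have h1 := mem_centralizer_iff.1 (hQ1 g hgQ) (m : S) m.2
    show g ^ 3 * (m : S) * (g ^ 3)⁻¹ = (m : S)
    rw [← h1, mul_inv_cancel_right]
  have hQM' : ⁅Q, M⁆ = (moved (ρ g)).map M.subtype := by
    refine le_antisymm ?_ ?_
    · refine Subgroup.commutator_le.2 fun q hq m hm => ?_
      have hqz : ρ q ∈ movesInto (moved (ρ g)) := by
        obtain ⟨i, hi⟩ := mem_zpowers_iff.1 (hgen ⟨q, hq⟩)
        have hi' : g ^ i = q := congrArg Subtype.val hi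
        rw [← hi', map_zpow]
        exact zpow_mem (show ρ g ∈ movesInto (moved (ρ g)) from fun x => mem_moved (ρ g) x) i
      refine ⟨_, hqz ⟨m, hm⟩, ?_⟩
      rw [div_eq_mul_inv]
      show ((ρ q ⟨m, hm⟩ : ↥M) : S) * m⁻¹ = _
      rw [hρ, commutatorElement_def]
    · rintro - ⟨y, hy, rfl⟩
      obtain ⟨x, rfl⟩ := exists_of_mem_moved hy
      rw [div_eq_mul_inv]
      show ((ρ g x : ↥M) : S) * (x : S)⁻¹ ∈ _
      rw [hρ]
      exact commutator_mem_commutator hgQ x.2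
  have h4 : Nat.card ↥(moved (ρ g)) = 4 := by
    rw [← card_map_of_injective (f := M.subtype) M.subtype_injective, ← hQM', hQM]
  have hgood : Good 3 (ρ g) := ⟨hφ3, .inl ⟨rfl, h4⟩⟩
  have hT : ∀ s : S, (∀ x ∈ moved (ρ g), ρ s x = x) →
      s ∈ centralizer ((⁅Q, M⁆ : Subgroup S) : Set S) := by
    intro s hs
    rw [hQM', mem_centralizer_iff]
    rintro - ⟨y, hy, rfl⟩
    have h1 := congrArg (fun t : ↥M => (t : S)) (hs y hy)
    simp only [hρ] at h1
    rw [mul_inv_eq_iff_eq_mul] at h1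
    exact h1.symm
  -- a Hall `{3,p}`-subgroup containing `Q`
  have := Fact.mk hp
  have : Fact (Nat.Prime 3) := ⟨Nat.prime_three⟩
  obtain ⟨X0, ⟨a, b, hab⟩, hX3, hXp⟩ := Cores.AutomizerPrime.exists_twoPrime_hall (Nat.card S) S 3 p
    rfl Cores.isPSolvable_of_isSolvable
  have hcont : ∀ (q : ℕ) [Fact q.Prime], ¬ q ∣ X0.index → ∀ R : Subgroup S, IsPGroup q ↥R →
      ∃ c : S, R.map (MulAut.conj c).toMonoidHom ≤ X0 := by
    intro q _ hq R hR
    obtain ⟨T⟩ : Nonempty (Sylow q ↥X0) := inferInstance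
    have hTi : ¬ q ∣ ((T : Subgroup ↥X0).map X0.subtype).index := by
      rw [index_map_subtype, (Fact.out : q.Prime).dvd_mul, not_or]
      exact ⟨T.not_dvd_index, hq⟩
    obtain ⟨R1, hR1⟩ := hR.exists_le_sylow
    obtain ⟨c, hc⟩ := MulAction.exists_smul_eq S R1 ((T.isPGroup'.map X0.subtype).toSylow hTi)
    refine ⟨c, (map_mono hR1).trans ?_⟩
    have := congrArg (fun U : Sylow q S => (U : Subgroup S)) hc
    simp only [IsPGroup.toSylow_coe] at this
    exact this.le.trans (map_subtype_le _)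
  obtain ⟨c, hc⟩ := hcont 3 hX3 Q hQ3
  set X := X0.map (MulAut.conj c⁻¹).toMonoidHom with hXdef
  have hgX : g ∈ X := ⟨c * g * c⁻¹, hc ⟨g, hgQ, rfl⟩, by
    show c⁻¹ * (c * g * c⁻¹) * c⁻¹⁻¹ = g
    group⟩
  obtain ⟨d, hd⟩ := hcont p hXp E (IsPGroup.of_card hE3)
  set E' := (E.map (MulAut.conj d).toMonoidHom).map (MulAut.conj c⁻¹).toMonoidHom with hE'def
  have hE'X : E' ≤ X := map_mono hd
  have hE'3 : Nat.card ↥E' = p ^ 3 := by
    rw [hE'def, card_map_of_injective (MulAut.conj c⁻¹).injective,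
      card_map_of_injective (MulAut.conj d).injective, hE3]
  have hE' : Cfsg.IsElementaryAbelian p E' :=
    (H31.elem_map_iff (MulAut.conj c⁻¹).injective).2 ((H31.elem_map_iff (MulAut.conj d).injective).2 hE)
  have hXc : Nat.card ↥X = 3 ^ a * p ^ b := by
    rw [hXdef, card_map_of_injective (MulAut.conj c⁻¹).injective, hab]
  have hpodd : Odd p := hp.odd_of_ne_two hp2
  have hXodd : Odd (Nat.card ↥X) := hXc ▸ ((by decide : Odd 3).pow.mul hpodd.pow)
  set φ := ρ g with hφdef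
  have hcl : ∀ h ∈ X, closure {φ, ρ h * φ * (ρ h)⁻¹} ≤ X.map ρ := by
    intro h hh
    rw [closure_le]
    rintro x (rfl | rfl)
    · exact mem_map_of_mem ρ hgX
    · exact mul_mem (mul_mem (mem_map_of_mem ρ hh) (mem_map_of_mem ρ hgX))
        (inv_mem (mem_map_of_mem ρ hh))
  have hclc : ∀ h ∈ X, Nat.card ↥(closure {φ, ρ h * φ * (ρ h)⁻¹} : Subgroup (MulAut ↥M)) ∣
      Nat.card ↥X := fun h hh => (card_dvd_of_le (hcl h hh)).trans (card_map_dvd _ _)
  have hprime : ∀ q : ℕ, q.Prime → q ∣ Nat.card ↥X → q = 3 ∨ q = p := fun q hq h =>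
    Cores.AutomizerPrime.prime_eq_of_dvd hXc hq h
  by_cases hA : ∀ h ∈ X, Commute φ (ρ h * φ * (ρ h)⁻¹)
  · by_cases hp3 : p = 3
    · subst hp3
      have hX3' : IsPGroup 3 ↥X := IsPGroup.of_card (n := a + b) (by rw [hXc, pow_add])
      obtain ⟨A, hAn, hAc, hAe, hA3⟩ := exists_normal_big (by norm_num) hX3' hE'X hE' hE'3.ge
      refine crit M ρ hV hgood hT le_rfl hp hp2 (A.map X.subtype) ?_ ?_ hA3
        (stab_of_normal M ρ hV hpodd hgood X hgX A hAn hAc hAe hA)
      · exact ⟨⟨fun x y => by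
          obtain ⟨x0, hx0, hx⟩ := x.2
          obtain ⟨y0, hy0, hy⟩ := y.2
          refine Subtype.ext ?_
          show (x : S) * y = y * x
          rw [← hx, ← hy, ← map_mul, ← map_mul]
          exact congrArg _ (congrArg Subtype.val (hAc.is_comm.comm (⟨x0, hx0⟩ : ↥A) ⟨y0, hy0⟩))⟩⟩
      · rintro - ⟨x0, hx0, rfl⟩
        rw [← map_pow, hAe x0 hx0, map_one]
    -- `p ≠ 3`: conjugates of `φ` all commute
    set K := (closure (Set.range fun h : ↥X => ρ h * φ * (ρ h)⁻¹)).comap ρ ⊓ X with hK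
    have hKst : ∀ s ∈ K, ρ s ∈ stab (moved φ) := fun s hs => by
      refine (closure_le _).2 ?_ (mem_inf.1 hs).1
      rintro - ⟨h, rfl⟩
      exact mem_stab_moved_of_commute (hA h h.2)
    have hgK : g ∈ K := ⟨subset_closure ⟨1, by simp [hφdef]⟩, hgX⟩
    have hKcomm : ∀ s ∈ K, Commute (ρ s) φ := fun s hs => by
      have h2 : closure (Set.range fun h : ↥X => ρ h * φ * (ρ h)⁻¹) ≤ centralizer {φ} := by
        rw [closure_le]
        rintro - ⟨h, rfl⟩
        exact mem_centralizer_singleton_iff.2 (hA h h.2).eq.symm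
      exact mem_centralizer_singleton_iff.1 (h2 (mem_inf.1 hs).1)
    have hKX : (K.subgroupOf X).Normal := by
      refine ⟨fun s hs h => ?_⟩
      refine mem_inf.2 ⟨?_, (h * s * h⁻¹).2⟩
      show ρ ((h : S) * (s : S) * (h : S)⁻¹) ∈ Subgroup.closure _
      rw [map_mul, map_mul, map_inv]
      refine closure_induction (p := fun y _ => ρ h * y * (ρ h)⁻¹ ∈
        closure (Set.range fun h : ↥X => ρ h * φ * (ρ h)⁻¹)) ?_ ?_ ?_ ?_ (mem_inf.1 hs).1
      · rintro - ⟨k, rfl⟩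
        refine subset_closure ⟨h * k, ?_⟩
        simp only [coe_mul, map_mul, mul_inv_rev]
        group
      · simp
      · intro x y _ _ hx hy
        simpa [mul_assoc] using mul_mem hx hy
      · intro x _ hx
        simpa [mul_assoc] using inv_mem hx
    obtain ⟨R, hR⟩ := (IsPGroup.of_card (p := 3) (n := 0) (G := ↥(⊥ : Subgroup ↥(K.subgroupOf X)))
      (by simp)).exists_le_sylow
    set R' : Subgroup ↥X := (R : Subgroup ↥(K.subgroupOf X)).map (K.subgroupOf X).subtype with hR'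
    set R'' : Subgroup S := R'.map X.subtype with hR''
    have hR''K : R'' ≤ K := by
      rintro - ⟨-, ⟨x, -, rfl⟩, rfl⟩
      exact x.2
    have hRc : Nat.card ↥R'' = Nat.card ↥(R : Subgroup ↥(K.subgroupOf X)) := by
      rw [hR'', card_map_of_injective X.subtype_injective, hR',
        card_map_of_injective (K.subgroupOf X).subtype_injective]
    have hR''p : IsPGroup 3 ↥R'' := (R.isPGroup'.map _).map _
    by_cases hrk : Cfsg.PRankLE 3 2 ↥R''
    · refine crit M ρ hV hgood hT le_rfl hp hp2 E' hE'.1 hE'.2 hE'3.symm.dvd fun e he => ?_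
      -- `e ∈ E'` centralizes a conjugate of `g` modulo `K`
      have htop := Sylow.normalizer_sup_eq_top R
      have hmem : (⟨e, hE'X he⟩ : ↥X) ∈ normalizer (R' : Set ↥X) ⊔ K.subgroupOf X :=
        htop ▸ mem_top _
      rw [sup_comm, mem_sup_of_normal_left] at hmem
      obtain ⟨k, hk, e1, he1, hke⟩ := hmem
      set π := QuotientGroup.mk' (K.subgroupOf X)
      have hπe : π e1 = π ⟨e, hE'X he⟩ := by
        rw [← hke, map_mul, show π k = 1 from (QuotientGroup.eq_one_iff k).2 hk, one_mul]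
      obtain ⟨m, hm, n, hn⟩ := Cores.AutomizerPrime.exists_qElement_lift (q := p) π e1 ⟨1, by
        rw [hπe, ← map_pow, pow_one, show (⟨e, hE'X he⟩ : ↥X) ^ p = 1 from Subtype.ext (hE'.2 e he),
          map_one]⟩
      set e2 := e1 ^ m
      have he2 : e2 ∈ normalizer (R' : Set ↥X) := pow_mem he1 m
      have he2' : (e2 : S) ∈ normalizer (R'' : Set S) :=
        le_normalizer_map X.subtype (mem_map_of_mem _ he2)
      have hα : normalizerMonoidHom R'' ⟨(e2 : S), he2'⟩ = 1 := by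
        set α := normalizerMonoidHom R'' ⟨(e2 : S), he2'⟩
        have hαn : α ^ p ^ n = 1 := by
          rw [← map_pow, show (⟨(e2 : S), he2'⟩ : ↥(normalizer (R'' : Set S))) ^ p ^ n = 1 from
            Subtype.ext (show (e2 : S) ^ p ^ n = 1 from congrArg (fun t : ↥X => (t : S)) hn), map_one]
        obtain ⟨i, -, hi⟩ := (Nat.dvd_prime_pow hp).1 (orderOf_dvd_of_pow_eq_one hαn)
        by_contra hα1
        have hi0 : i ≠ 0 := by
          rintro rfl
          rw [pow_zero, orderOf_eq_one_iff] at hi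
          exact hα1 hi
        obtain ⟨-, hp3'⟩ := S0640.result (by norm_num) hR''p hrk p hp hp3
          ((dvd_pow_self p hi0).trans (hi ▸ orderOf_dvd_natCard α))
        have := hp.two_le
        omega
      -- a conjugate of `g` lies in `R`
      have hgK' : (⟨⟨g, hgX⟩, hgK⟩ : ↥(K.subgroupOf X)) ^ 1 = ⟨⟨g, hgX⟩, hgK⟩ := pow_one _
      obtain ⟨T, hT'⟩ := (hQ3.to_le (zpowers_le.2 hgQ) |>.comap_of_injective
        ((X.subtype).comp (K.subgroupOf X).subtype)
        (X.subtype_injective.comp (K.subgroupOf X).subtype_injective)).exists_le_sylow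
      obtain ⟨w, hw⟩ := MulAction.exists_smul_eq ↥(K.subgroupOf X) T R
      have hgR : (w * ⟨⟨g, hgX⟩, hgK⟩ * w⁻¹ : ↥(K.subgroupOf X)) ∈ (R : Subgroup ↥(K.subgroupOf X)) := by
        rw [← hw]
        exact mem_map_of_mem (MulAut.conj w).toMonoidHom
          (hT' (show ((⟨g, hgX⟩ : ↥X) : S) ∈ zpowers g from mem_zpowers g))
      set g' : S := ((w : ↥X) : S) * g * ((w : ↥X) : S)⁻¹ with hg'
      have hg'R : g' ∈ R'' := ⟨_, ⟨_, hgR, rfl⟩, rfl⟩
      have hρg' : ρ g' = φ := by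
        rw [hg', map_mul, map_mul, map_inv]
        change ρ ((w : ↥X) : S) * φ * (ρ ((w : ↥X) : S))⁻¹ = φ
        rw [(show Commute (ρ ((w : ↥X) : S)) φ from hKcomm _ w.2).eq, mul_inv_cancel_right]
      have hce : Commute φ (ρ (e2 : S)) := by
        have h1 : (e2 : S) * g' * (e2 : S)⁻¹ = g' :=
          congrArg Subtype.val (DFunLike.congr_fun hα (⟨g', hg'R⟩ : ↥R''))
        have h2 := congrArg ρ h1
        rw [map_mul, map_mul, map_inv, hρg', mul_inv_eq_iff_eq_mul] at h2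
        exact h2.symm
      have hek : (e : S) * (e2 : S)⁻¹ ∈ K := by
        have h1 : π (⟨e, hE'X he⟩ * e2⁻¹) = 1 := by rw [map_mul, map_inv, hm, hπe, mul_inv_cancel]
        exact (QuotientGroup.eq_one_iff ((⟨e, hE'X he⟩ : ↥X) * e2⁻¹)).1 h1
      have h3 := mul_mem (hKst _ hek) (mem_stab_moved_of_commute hce)
      rwa [← map_mul, inv_mul_cancel_right] at h3
    · rw [Cfsg.PRankLE] at hrk
      push Not at hrk
      obtain ⟨A, hAc, hAe, hA3⟩ := hrk
      obtain ⟨n, hn⟩ := IsPGroup.iff_card.1 (hR''p.to_subgroup A)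
      rw [hn, Nat.pow_lt_pow_iff_right (by norm_num)] at hA3
      refine crit M ρ hV hgood hT le_rfl Nat.prime_three (by norm_num) (A.map R''.subtype) ?_ ?_ ?_ ?_
      · exact ⟨⟨fun x y => by
          obtain ⟨x0, hx0, hx⟩ := x.2
          obtain ⟨y0, hy0, hy⟩ := y.2
          refine Subtype.ext ?_
          show (x : S) * y = y * x
          rw [← hx, ← hy, ← map_mul, ← map_mul]
          exact congrArg _ (congrArg Subtype.val (hAc.is_comm.comm (⟨x0, hx0⟩ : ↥A) ⟨y0, hy0⟩))⟩⟩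
      · rintro - ⟨x0, hx0, rfl⟩
        rw [← map_pow, hAe x0 hx0, map_one]
      · rw [card_map_of_injective R''.subtype_injective, hn]
        exact pow_dvd_pow 3 hA3
      · intro x hx
        exact hKst x (hR''K (map_subtype_le _ hx))
  push Not at hA
  obtain ⟨h, hh, hnc⟩ := hA
  set G0 := (closure {φ, ρ h * φ * (ρ h)⁻¹} : Subgroup (MulAut ↥M))
  have h35 : ¬ 35 ∣ Nat.card ↥G0 := fun h35 => by
    have h5 := hprime 5 (by norm_num) (((show 5 ∣ 35 by norm_num).trans h35).trans (hclc h hh))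
    have h7 := hprime 7 (by norm_num) (((show 7 ∣ 35 by norm_num).trans h35).trans (hclc h hh))
    omega
  rcases commute_or_seven hV hgood (hgood.conj (ρ h)) (hXodd.of_dvd_nat (hclc h hh)) h35 with
    hc' | ⟨h7, z, hz, hzg, hsub⟩
  · exact absurd hc' hnc
  have hp7 : p = 7 := by
    have := hprime 7 (by norm_num) (h7.trans (hclc h hh))
    omega
  subst hp7
  obtain ⟨s, hs, hsz⟩ := hcl h hh hz
  obtain ⟨m, hm, n, hn⟩ := Cores.AutomizerPrime.exists_qElement_lift (q := 7) (ρ.comp X.subtype)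
    (⟨s, hs⟩ : ↥X) ⟨1, by
      show (ρ s) ^ 7 ^ 1 = 1
      rw [pow_one, hsz, hzg.1]⟩
  set s' : ↥X := (⟨s, hs⟩ : ↥X) ^ m
  have hs'z : ρ (s' : S) = z := hm.trans hsz
  have hs'p : IsPGroup 7 ↥(zpowers s') := by
    obtain ⟨i, -, hi⟩ := (Nat.dvd_prime_pow hp).1 (orderOf_dvd_of_pow_eq_one hn)
    exact IsPGroup.of_card (n := i) (by rw [Nat.card_zpowers, hi])
  obtain ⟨P, hP⟩ := hs'p.exists_le_sylow
  obtain ⟨P1, hP1⟩ := ((IsPGroup.of_card hE'3).comap_subtype (K := X)).exists_le_sylow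
  obtain ⟨w, hw⟩ := MulAction.exists_smul_eq ↥X P1 P
  set P' : Subgroup S := (P : Subgroup ↥X).map X.subtype with hP'
  set E2 := E'.map (MulAut.conj (w : S)).toMonoidHom
  have hE2P : E2 ≤ P' := by
    rintro - ⟨e, he, rfl⟩
    refine ⟨MulAut.conj w ⟨e, hE'X he⟩, ?_, rfl⟩
    rw [← hw]
    exact mem_map_of_mem (MulAut.conj w).toMonoidHom
      (hP1 (show (⟨e, hE'X he⟩ : ↥X) ∈ E'.subgroupOf X from he))
  have hP'p : IsPGroup 7 ↥P' := P.isPGroup'.map _
  obtain ⟨A, hAn, hAc, hAe, hA3⟩ := exists_normal_big (by norm_num) hP'p hE2P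
    ((H31.elem_map_iff (MulAut.conj (w : S)).injective).2 hE')
    (by rw [card_map_of_injective (MulAut.conj (w : S)).injective, hE'3])
  have hgood' : Good 7 (ρ (s' : S)) := hs'z.symm ▸ hzg
  have hs'P : (s' : S) ∈ P' := mem_map_of_mem X.subtype (hP (mem_zpowers s'))
  refine crit M ρ hV hgood' hT (hs'z.symm ▸ hsub) hp hp2 (A.map P'.subtype) ?_ ?_ hA3
    (stab_of_normal M ρ hV hpodd hgood' P' hs'P A hAn hAc hAe ?_)
  · exact ⟨⟨fun x y => by
      obtain ⟨x0, hx0, hx⟩ := x.2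
      obtain ⟨y0, hy0, hy⟩ := y.2
      refine Subtype.ext ?_
      show (x : S) * y = y * x
      rw [← hx, ← hy, ← map_mul, ← map_mul]
      exact congrArg _ (congrArg Subtype.val (hAc.is_comm.comm (⟨x0, hx0⟩ : ↥A) ⟨y0, hy0⟩))⟩⟩
  · rintro - ⟨x0, hx0, rfl⟩
    rw [← map_pow, hAe x0 hx0, map_one]
  · intro k hk
    have h8 : Nat.card ↥(moved (ρ (s' : S))) = 8 := by
      rcases hgood'.2 with ⟨h, -⟩ | ⟨-, h⟩
      · norm_num at h
      · exact h
    refine commute_of_seven hV h8 (by rw [card_moved_conj, h8]) ?_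
    refine (hP'p.map ρ).to_le ?_
    rw [closure_le]
    rintro x (rfl | rfl)
    · exact mem_map_of_mem ρ hs'P
    · exact mul_mem (mul_mem (mem_map_of_mem ρ hk) (mem_map_of_mem ρ hs'P))
        (inv_mem (mem_map_of_mem ρ hk))

end Cfsg.Agent.S4404
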