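import Cfsg.Statements.S4405
import Mathlib
import Cfsg.Agent.Cores.PCore
import Cfsg.Agent.Cores.Fitting
import Cfsg.Agent.PGroups.Extraspecial

set_option autoImplicit false
open Cfsg

namespace Cfsg.Agent.S4405

open scoped commutatorElement

/-- Let G be a finite group of order 320 = 64·5 whose largest normal 2-subgroup H = O₂(G) equals the Fitting subgroup F(G) and is extraspecial of order 32 containing no elementary abelian subgroup of order 8 (so H is the central product of a quaternion group and a dihedral group of order 8). If T is an involution of G outside H whose centralizer in H contains an elementary abelian subgroup of order 4, then C_H(T) itself is elementary abelian of order 4. -/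
theorem result {G : Type*} [Group G] [Finite G]
    (hG : Nat.card G = 320) (hHF : Cfsg.pCore 2 G = Cfsg.fittingSubgroup G)
    (hex : Cfsg.IsExtraspecial 2 ↥(Cfsg.pCore 2 G)) (h32 : Nat.card ↥(Cfsg.pCore 2 G) = 32)
    (hminus : ∀ A : Subgroup G, A ≤ Cfsg.pCore 2 G → Cfsg.IsElementaryAbelian 2 A → Nat.card ↥A ≤ 4)
    (T : G) (hT : orderOf T = 2) (hTH : T ∉ Cfsg.pCore 2 G)
    (V : Subgroup G) (hV : V ≤ Cfsg.pCore 2 G ⊓ Subgroup.centralizer ({T} : Set G)) (hV4 : Nat.card ↥V = 4) (hVe : Cfsg.IsElementaryAbelian 2 V) :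
    Nat.card ↥(Cfsg.pCore 2 G ⊓ Subgroup.centralizer ({T} : Set G)) = 4 ∧
      Cfsg.IsElementaryAbelian 2 (Cfsg.pCore 2 G ⊓ Subgroup.centralizer ({T} : Set G)) := by
  classical
  haveI : Fact (Nat.Prime 2) := ⟨Nat.prime_two⟩
  haveI : Fact (Nat.Prime 5) := ⟨by norm_num⟩
  set H := Cfsg.pCore 2 G with hH
  haveI hHn : H.Normal := by rw [hH]; infer_instance
  have hspec := hex.1
  set Z := Subgroup.center H with hZ
  have hcard16 : Nat.card (H ⧸ Z) = 16 := by
    have := Subgroup.card_eq_card_quotient_mul_card_subgroup Z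
    rw [h32, hex.2] at this
    omega
  have hcomm : ∀ v w : H ⧸ Z, v * w = w * v := by
    intro v w
    obtain ⟨a, rfl⟩ := QuotientGroup.mk_surjective v
    obtain ⟨b, rfl⟩ := QuotientGroup.mk_surjective w
    rw [← QuotientGroup.mk_mul, ← QuotientGroup.mk_mul, QuotientGroup.eq, hZ]
    refine Cfsg.Agent.PGroups.isSpecial_commutator_le hspec ?_
    rw [show (a * b)⁻¹ * (b * a) = ⁅b⁻¹, a⁻¹⁆ by rw [commutatorElement_def]; group, commutator_def]
    exact Subgroup.commutator_mem_commutator (Subgroup.mem_top _) (Subgroup.mem_top _)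
  have hsq : ∀ v : H ⧸ Z, v * v = 1 := by
    intro v
    obtain ⟨a, rfl⟩ := QuotientGroup.mk_surjective v
    rw [← QuotientGroup.mk_mul, QuotientGroup.eq_one_iff, ← pow_two]
    exact Cfsg.Agent.PGroups.isSpecial_pow_mem_center hspec a
  let act : G → (H ⧸ Z) →* (H ⧸ Z) := fun g =>
    QuotientGroup.map Z Z (MulAut.conjNormal g).toMonoidHom
      (by rw [hZ]; exact (Subgroup.characteristic_iff_comap_eq.mp inferInstance (MulAut.conjNormal g)).ge)
  have hact : ∀ g (h : H), act g (QuotientGroup.mk h) = QuotientGroup.mk (MulAut.conjNormal g h) :=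
    fun g h => rfl
  have hact_mul : ∀ g g' v, act (g * g') v = act g (act g' v) := by
    intro g g' v
    obtain ⟨a, rfl⟩ := QuotientGroup.mk_surjective v
    rw [hact, hact, hact, map_mul, MulAut.mul_apply]
  have hact_one : ∀ v, act 1 v = v := by
    intro v
    obtain ⟨a, rfl⟩ := QuotientGroup.mk_surjective v
    rw [hact, map_one, MulAut.one_apply]
  have hact_H : ∀ g ∈ H, ∀ v, act g v = v := by
    intro g hg v
    obtain ⟨a, rfl⟩ := QuotientGroup.mk_surjective v
    have : MulAut.conjNormal g a = ⟨g, hg⟩ * a * (⟨g, hg⟩ : H)⁻¹ := Subtype.ext (by simp)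
    rw [hact, this, QuotientGroup.mk_mul, QuotientGroup.mk_mul, QuotientGroup.mk_inv, hcomm (QuotientGroup.mk ⟨g, hg⟩),
      mul_inv_cancel_right]
  -- an element of order five
  obtain ⟨x, hx⟩ := exists_prime_orderOf_dvd_card' (G := G) 5 (by rw [hG]; norm_num)
  have hxH : x ∉ H := fun h => by
    have := orderOf_dvd_natCard (⟨x, h⟩ : H)
    rw [Subgroup.orderOf_mk, hx, h32] at this
    norm_num at this
  have hQ : Nat.card (G ⧸ H) = 10 := by
    have := Subgroup.card_eq_card_quotient_mul_card_subgroup H
    rw [hG, h32] at this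
    omega
  set xb : G ⧸ H := QuotientGroup.mk x with hxb
  set tb : G ⧸ H := QuotientGroup.mk T with htb
  have hxbo : orderOf xb = 5 := orderOf_eq_prime
    (by rw [hxb, ← QuotientGroup.mk_pow, ← hx, pow_orderOf_eq_one, QuotientGroup.mk_one])
    (fun h => hxH ((QuotientGroup.eq_one_iff x).1 h))
  have htbo : orderOf tb = 2 := orderOf_eq_prime
    (by rw [htb, ← QuotientGroup.mk_pow, ← hT, pow_orderOf_eq_one, QuotientGroup.mk_one])
    (fun h => hTH ((QuotientGroup.eq_one_iff T).1 h))
  have hidx : (Subgroup.zpowers xb).index = 2 := by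
    have := (Subgroup.zpowers xb).card_mul_index
    rw [Nat.card_zpowers, hxbo, hQ] at this
    omega
  haveI := Subgroup.normal_of_index_eq_two hidx
  obtain ⟨k, hk⟩ := Subgroup.mem_zpowers_iff.1
    (Subgroup.Normal.conj_mem inferInstance xb (Subgroup.mem_zpowers xb) tb)
  have ht2 : tb * tb = 1 := by rw [← pow_two, ← htbo, pow_orderOf_eq_one]
  have hti : tb⁻¹ = tb := inv_eq_of_mul_eq_one_right ht2
  have hkk : xb ^ (k * k) = xb := by
    rw [zpow_mul, hk, conj_zpow, hk, hti, ← mul_assoc, ← mul_assoc, ht2, one_mul, mul_assoc, ht2, mul_one]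
  have h5 : (5 : ℤ) ∣ (k - 1) * (k + 1) := by
    have h1 : xb ^ (k * k - 1) = 1 := by rw [zpow_sub, zpow_one, hkk, mul_inv_cancel]
    have := orderOf_dvd_iff_zpow_eq_one.2 h1
    rw [hxbo] at this
    convert this using 1
    · norm_num
    · ring
  have hinv : T * x * T⁻¹ * x ∈ H := by
    rcases (Int.Prime.dvd_mul' (p := 5) (by norm_num) (by exact_mod_cast h5)) with h | h
    · exfalso
      have hcm : tb * xb * tb⁻¹ = xb := by
        rw [← hk]
        conv_rhs => rw [← zpow_one xb]
        rw [zpow_eq_zpow_iff_modEq, hxbo]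
        exact (Int.modEq_iff_dvd.2 (by rw [← dvd_neg, neg_sub]; exact_mod_cast h))
      have hct : ∀ y : G ⧸ H, y * tb = tb * y := by
        have htop : Subgroup.centralizer ({tb} : Set (G ⧸ H)) = ⊤ := by
          refine Subgroup.eq_top_of_le_card _ ?_
          rw [hQ]
          refine Nat.le_of_dvd Nat.card_pos (Nat.Coprime.mul_dvd_of_dvd_of_dvd (m := 5) (n := 2) (by norm_num) ?_ ?_)
          · rw [← hxbo, ← Subgroup.orderOf_mk _ (show xb ∈ Subgroup.centralizer {tb} from
              Subgroup.mem_centralizer_singleton_iff.2 (mul_inv_eq_iff_eq_mul.1 hcm).symm)]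
            exact orderOf_dvd_natCard _
          · rw [← htbo, ← Subgroup.orderOf_mk _ (show tb ∈ Subgroup.centralizer {tb} from
              Subgroup.mem_centralizer_singleton_iff.2 rfl)]
            exact orderOf_dvd_natCard _
        intro y
        exact Subgroup.mem_centralizer_singleton_iff.1 (htop ▸ Subgroup.mem_top y)
      haveI : (Subgroup.zpowers tb).Normal := ⟨fun y hy g => by
        obtain ⟨j, rfl⟩ := Subgroup.mem_zpowers_iff.1 hy
        rw [((show Commute g tb from hct g).zpow_right j).eq, mul_inv_cancel_right]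
        exact Subgroup.zpow_mem _ (Subgroup.mem_zpowers tb) j⟩
      have hp : IsPGroup 2 ((Subgroup.zpowers tb).comap (QuotientGroup.mk' H)) := by
        refine IsPGroup.comap_of_ker_isPGroup (IsPGroup.of_card (n := 1) ?_) _ ?_
        · rw [Nat.card_zpowers, htbo, pow_one]
        · rw [QuotientGroup.ker_mk', hH]
          exact Cfsg.Agent.Cores.pCore_isPGroup
      exact hTH (hH ▸ Cfsg.Agent.Cores.le_pCore hp (Subgroup.mem_comap.2 (Subgroup.mem_zpowers tb)))
    · rw [← QuotientGroup.eq_one_iff, QuotientGroup.mk_mul, QuotientGroup.mk_mul, QuotientGroup.mk_mul,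
        QuotientGroup.mk_inv, ← hxb, ← htb, ← hk, ← zpow_add_one, ← orderOf_dvd_iff_zpow_eq_one, hxbo]
      exact_mod_cast h
  have hx5 : ∀ v, act x (act x (act x (act x (act x v)))) = v := fun v => by
    rw [← hact_mul, ← hact_mul, ← hact_mul, ← hact_mul,
      show x * x * x * x * x = x ^ 5 by simp [pow_succ, mul_assoc], ← hx, pow_orderOf_eq_one, hact_one]
  -- `x` fixes only the identity
  have hfpf : ∀ v, act x v = v → v = 1 := by
    let Fx := MonoidHom.eqLocus (act x) (MonoidHom.id (H ⧸ Z))
    haveI : Fintype (H ⧸ Z) := Fintype.ofFinite _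
    have hmod : Nat.card (H ⧸ Z) ≡ Nat.card Fx [MOD 5] := by
      let f : Function.End (H ⧸ Z) := fun v => act x v
      have hf : f ^ (5 ^ 1) = 1 := funext fun v => hx5 v
      have h := Equiv.Perm.card_fixedPoints_modEq (α := H ⧸ Z) (f := f) (p := 5) (n := 1) hf
      rw [← Nat.card_eq_fintype_card, ← Nat.card_eq_fintype_card] at h
      exact h
    have hdvd := Subgroup.card_subgroup_dvd_card Fx
    rw [hcard16] at hdvd hmod
    have : Nat.card Fx = 1 ∨ Nat.card Fx = 16 := by
      have hle := Nat.le_of_dvd (by norm_num) hdvd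
      generalize Nat.card Fx = d at hdvd hmod hle
      interval_cases d <;> revert hdvd hmod <;> decide
    rcases this with h | h
    · intro v hv
      exact Subgroup.mem_bot.1 (Subgroup.eq_bot_of_card_eq Fx h ▸ (show v ∈ Fx from hv))
    exfalso
    have htop : Fx = ⊤ := Subgroup.eq_top_of_card_eq Fx (h.trans hcard16.symm)
    have hxC : x ∈ Subgroup.centralizer (H : Set G) := by
      rw [Subgroup.mem_centralizer_iff]
      intro a ha
      have h1 : act x (QuotientGroup.mk ⟨a, ha⟩) = QuotientGroup.mk ⟨a, ha⟩ :=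
        show QuotientGroup.mk (⟨a, ha⟩ : H) ∈ Fx from htop ▸ Subgroup.mem_top _
      rw [hact, QuotientGroup.eq] at h1
      set z : H := (MulAut.conjNormal x (⟨a, ha⟩ : H))⁻¹ * ⟨a, ha⟩ with hz
      have hzconj : ∀ y : H, y ∈ Z → MulAut.conjNormal x y = y := by
        intro y hy
        by_cases hy1 : y = 1
        · rw [hy1, map_one]
        have hy' : MulAut.conjNormal x y ∈ Z :=
          (Subgroup.characteristic_iff_comap_eq.mp inferInstance (MulAut.conjNormal x)).ge hy
        haveI : Finite Z := inferInstance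
        obtain ⟨u, w, huw, hall⟩ := Nat.card_eq_two_iff.1 hex.2
        have hy1' : MulAut.conjNormal x y ≠ 1 := fun e => hy1 ((MulEquiv.map_eq_one_iff _).1 e)
        have m1 : (⟨y, hy⟩ : Z) = u ∨ (⟨y, hy⟩ : Z) = w := by
          have := hall ▸ Set.mem_univ (⟨y, hy⟩ : Z); simpa using this
        have m2 : (⟨_, hy'⟩ : Z) = u ∨ (⟨_, hy'⟩ : Z) = w := by
          have := hall ▸ Set.mem_univ (⟨_, hy'⟩ : Z); simpa using this
        have m3 : (1 : Z) = u ∨ (1 : Z) = w := by
          have := hall ▸ Set.mem_univ (1 : Z); simpa using this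
        rcases m1 with m1 | m1 <;> rcases m2 with m2 | m2
        · exact congrArg Subtype.val (m2.trans m1.symm)
        · rcases m3 with m3 | m3
          · exact absurd (congrArg Subtype.val (m1.trans m3.symm)) hy1
          · exact absurd (congrArg Subtype.val (m2.trans m3.symm)) hy1'
        · rcases m3 with m3 | m3
          · exact absurd (congrArg Subtype.val (m2.trans m3.symm)) hy1'
          · exact absurd (congrArg Subtype.val (m1.trans m3.symm)) hy1
        · exact congrArg Subtype.val (m2.trans m1.symm)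
      have hx1 : MulAut.conjNormal x (⟨a, ha⟩ : H) = ⟨a, ha⟩ * z⁻¹ := by rw [hz]; group
      have hn : ∀ j : ℕ, MulAut.conjNormal (x ^ j) (⟨a, ha⟩ : H) = ⟨a, ha⟩ * (z⁻¹) ^ j := by
        intro j
        induction j with
        | zero => simp
        | succ j ih =>
          rw [pow_succ', map_mul, MulAut.mul_apply, ih, map_mul, hx1, map_pow, hzconj _ (Z.inv_mem h1), mul_assoc,
            ← pow_succ']
      have h5' := hn 5
      rw [show x ^ 5 = 1 by rw [← hx, pow_orderOf_eq_one], map_one, MulAut.one_apply, left_eq_mul] at h5'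
      have hz2 : z⁻¹ ^ 2 = 1 := Cfsg.Agent.PGroups.isSpecial_center_pow hspec (Z.inv_mem h1)
      have hz1 : z⁻¹ = 1 := by
        rw [show (5 : ℕ) = 2 * 2 + 1 from rfl, pow_succ, pow_mul, hz2, one_pow, one_mul] at h5'
        exact h5'
      rw [hz1, mul_one] at hx1
      have hx2 : x * a * x⁻¹ = a := by
        have := congrArg Subtype.val hx1
        rwa [MulAut.conjNormal_apply] at this
      exact (mul_inv_eq_iff_eq_mul.1 hx2).symm
    set C := Subgroup.centralizer (H : Set G) with hC
    haveI : C.Normal := inferInstance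
    have hCH : Nat.card (C ⊓ H : Subgroup G) = 2 := by
      rw [← hex.2]
      refine (Nat.card_congr
        { toFun := fun y => ⟨⟨y.1, y.2.2⟩, Subgroup.mem_center_iff.2 fun b => Subtype.ext (y.2.1 b.1 b.2)⟩
          invFun := fun y => ⟨y.1.1, fun b hb => congrArg Subtype.val (Subgroup.mem_center_iff.1 y.2 ⟨b, hb⟩), y.1.2⟩
          left_inv := fun y => rfl
          right_inv := fun y => rfl })
    have hCle : Nat.card C ∣ 20 := by
      have h2 : ((QuotientGroup.mk' H).domRestrict C).ker = (C ⊓ H).subgroupOf C := by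
        rw [MonoidHom.ker_domRestrict, QuotientGroup.ker_mk']
        ext y
        simp [Subgroup.mem_subgroupOf]
      have h3 := Subgroup.card_eq_card_quotient_mul_card_subgroup ((QuotientGroup.mk' H).domRestrict C).ker
      rw [Nat.card_congr (QuotientGroup.quotientKerEquivRange _).toEquiv, h2,
        Nat.card_congr (Subgroup.subgroupOfEquivOfLe inf_le_left).toEquiv, hCH] at h3
      rw [h3]
      refine mul_dvd_mul_right (show _ ∣ 10 from hQ ▸ Subgroup.card_subgroup_dvd_card _) 2
    obtain ⟨P⟩ : Nonempty (Sylow 5 C) := inferInstance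
    have hn5 : Nat.card (Sylow 5 C) = 1 := by
      have h1 := card_sylow_modEq_one 5 C
      have h2 : Nat.card (Sylow 5 C) ∣ 20 :=
        (P.card_dvd_index.trans (Subgroup.index_dvd_card _)).trans hCle
      have hle := Nat.le_of_dvd (by norm_num) h2
      have h3 : Nat.card (Sylow 5 C) ∣ 20 / 5 := by
        have hco : Nat.Coprime (Nat.card (Sylow 5 C)) 5 := by
          rw [Nat.coprime_comm, (by norm_num : Nat.Prime 5).coprime_iff_not_dvd]
          intro hd
          have := (h1.of_dvd (dvd_refl 5)).symm.trans (Nat.modEq_zero_iff_dvd.2 hd)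
          exact absurd this (by decide)
        exact hco.dvd_of_dvd_mul_left (show Nat.card (Sylow 5 C) ∣ 5 * (20 / 5) by norm_num; exact h2)
      have hle' := Nat.le_of_dvd (by norm_num) h3
      generalize Nat.card (Sylow 5 C) = d at h1 hle' h3
      interval_cases d <;> revert h1 h3 <;> decide
    haveI : Subsingleton (Sylow 5 C) := (Nat.card_eq_one_iff_unique.1 hn5).1
    haveI : (P : Subgroup C).Characteristic := Sylow.characteristic_of_subsingleton P
    have hPn : ((P : Subgroup C).map C.subtype).Normal := inferInstance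
    have hPF : (P : Subgroup C).map C.subtype ≤ H := by
      rw [hHF]
      exact Cfsg.Agent.Cores.le_fittingSubgroup (hN := hPn) ((P.isPGroup'.map C.subtype).isNilpotent)
    obtain ⟨Q, hQ5⟩ := (IsPGroup.of_card (n := 1) (by rw [Nat.card_zpowers, Subgroup.orderOf_mk, hx, pow_one]) :
      IsPGroup 5 (Subgroup.zpowers (⟨x, hxC⟩ : C))).exists_le_sylow
    rw [Subsingleton.elim Q P] at hQ5
    exact hxH (hPF ⟨⟨x, hxC⟩, hQ5 (Subgroup.mem_zpowers _), rfl⟩)
  -- the fixed points of `T`
  have hTT : ∀ v, act T (act T v) = v := fun v => by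
    rw [← hact_mul, ← pow_two, ← hT, pow_orderOf_eq_one, hact_one]
  let W := MonoidHom.eqLocus (act T) (MonoidHom.id (H ⧸ Z))
  let ψ : (H ⧸ Z) →* (H ⧸ Z) :=
    { toFun := fun v => v * act T v
      map_one' := by simp
      map_mul' := fun v w => by
        rw [map_mul, mul_assoc, mul_assoc, ← mul_assoc w, hcomm w (act T v), mul_assoc] }
  have hψW : ψ.range ≤ W := by
    rintro _ ⟨v, rfl⟩
    show act T (v * act T v) = v * act T v
    rw [map_mul, hTT, hcomm]
  have hker : ψ.ker = W := by
    ext v
    show v * act T v = 1 ↔ act T v = v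
    rw [mul_eq_one_iff_eq_inv', inv_eq_of_mul_eq_one_right (hsq v)]
  have hprod : Nat.card W * Nat.card ψ.range = 16 := by
    rw [← Nat.card_congr (QuotientGroup.quotientKerEquivRange ψ).toEquiv, hker, ← hcard16, mul_comm]
    exact (Subgroup.card_eq_card_quotient_mul_card_subgroup W).symm
  have hτσ : ∀ v, act T (act x v) = act x (act x (act x (act x (act T v)))) := by
    intro v
    have h1 : T * x = (T * x * T⁻¹ * x) * x⁻¹ * T := by group
    rw [← hact_mul, h1, hact_mul, hact_mul, hact_H _ hinv,
      show x⁻¹ = x * x * x * x by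
        rw [inv_eq_of_mul_eq_one_right]
        rw [show x * (x * x * x * x) = x ^ 5 by simp [pow_succ, mul_assoc], ← hx, pow_orderOf_eq_one],
      hact_mul, hact_mul, hact_mul]
  have hW4 : Nat.card W = 4 ∧ ψ.range = W := by
    have hd := Subgroup.card_subgroup_dvd_card W
    rw [hcard16] at hd
    have hle := Subgroup.card_le_of_le hψW
    have hd8 : Nat.card W < 8 := by
      by_contra hge
      push Not at hge
      let σ : (H ⧸ Z) ≃* (H ⧸ Z) :=
        { toFun := act x
          invFun := fun v => act x (act x (act x (act x v)))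
          left_inv := fun v => hx5 v
          right_inv := fun v => hx5 v
          map_mul' := map_mul _ }
      have hne : W ⊓ W.map σ.toMonoidHom ≠ ⊥ := by
        intro he
        have h1 := Subgroup.index_inf_le (H := W) (K := W.map σ.toMonoidHom)
        have h2 : (W.map σ.toMonoidHom).index = W.index := Subgroup.index_map_equiv W σ
        rw [he, Subgroup.index_bot, hcard16, h2] at h1
        have h3 := W.card_mul_index
        rw [hcard16] at h3
        nlinarith
      obtain ⟨v, hv, hv1⟩ := (Subgroup.bot_or_exists_ne_one _).resolve_left hne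
      obtain ⟨hvW, w, hw, rfl⟩ := hv
      refine hv1 ?_
      have hwW : act T w = w := hw
      have e1 : act T (act x w) = act x w := hvW
      rw [hτσ, hwW] at e1
      have e2 := congrArg (act x) e1
      rw [hx5] at e2
      have e3 : act x w = w := by
        -- `x ^ 2` fixes `w`
        conv_rhs => rw [← hx5 w, ← e2, ← e2]
      show act x w = 1
      rw [hfpf w e3, map_one]
    have hpos : 0 < Nat.card W := Nat.card_pos
    have h4 : Nat.card W = 4 := by
      generalize Nat.card W = a at hd hle hd8 hpos hprod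
      generalize Nat.card ψ.range = b at hle hprod
      interval_cases a <;> omega
    refine ⟨h4, Subgroup.eq_of_le_of_card_ge hψW ?_⟩
    rw [h4] at hprod
    omega
  -- the centraliser of `T` in `H`
  set C := H ⊓ Subgroup.centralizer ({T} : Set G) with hCdef
  set C' := C.subgroupOf H with hC'
  have hCC : Nat.card C' = Nat.card C := Nat.card_congr (Subgroup.subgroupOfEquivOfLe inf_le_left).toEquiv
  have hmemC : ∀ u : H, u ∈ C' ↔ T * (u : G) * T⁻¹ = u := by
    intro u
    rw [hC', Subgroup.mem_subgroupOf, hCdef, Subgroup.mem_inf, Subgroup.mem_centralizer_singleton_iff,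
      mul_inv_eq_iff_eq_mul]
    exact ⟨fun h => h.2.symm, fun h => ⟨u.2, h.symm⟩⟩
  set U := W.comap (QuotientGroup.mk' Z) with hU
  have hC'U : C' ≤ U := by
    intro u hu
    show act T (QuotientGroup.mk u) = QuotientGroup.mk u
    rw [hact]
    congr 1
    exact Subtype.ext (by rw [MulAut.conjNormal_apply]; exact (hmemC u).1 hu)
  have hU8 : Nat.card U = 8 := by
    have h1 := U.card_mul_index
    rw [hU, W.index_comap_of_surjective (QuotientGroup.mk'_surjective Z), h32] at h1
    have h2 := W.card_mul_index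
    rw [hcard16, hW4.1] at h2
    rw [hU]
    nlinarith
  have hVC : Nat.card V ∣ Nat.card C := Subgroup.card_dvd_of_le hV
  rw [hV4] at hVC
  by_cases hC4 : Nat.card C = 4
  · have hVe' : V = C := Subgroup.eq_of_le_of_card_ge hV (by rw [hC4, hV4])
    exact ⟨hC4, hVe' ▸ hVe⟩
  exfalso
  have hCU : C' = U := by
    refine Subgroup.eq_of_le_of_card_ge hC'U ?_
    have h1 := Subgroup.card_dvd_of_le hC'U
    rw [hU8, hCC] at h1
    rw [hU8, hCC]
    obtain ⟨j, hj⟩ := hVC
    have := Nat.le_of_dvd (by norm_num) h1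
    rcases (show j = 0 ∨ j = 1 ∨ j = 2 by omega) with e | e | e
    · have : 0 < Nat.card C := Nat.card_pos
      rw [hj, e] at this
      omega
    · exact absurd (by rw [hj, e]) hC4
    · omega
  have hTinv : T⁻¹ = T := inv_eq_of_mul_eq_one_right (by rw [← pow_two, ← hT, pow_orderOf_eq_one])
  have hUsq : ∀ u ∈ U, u * u = 1 := by
    intro u hu
    obtain ⟨v, hv⟩ := hW4.2.ge (show QuotientGroup.mk u ∈ W from hu)
    obtain ⟨h, rfl⟩ := QuotientGroup.mk_surjective v
    set u0 : H := h⁻¹ * MulAut.conjNormal T h with hu0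
    have hu0q : (QuotientGroup.mk u0 : H ⧸ Z) = QuotientGroup.mk u := by
      rw [← hv]
      show _ = QuotientGroup.mk h * act T (QuotientGroup.mk h)
      rw [hu0, QuotientGroup.mk_mul, QuotientGroup.mk_inv, inv_eq_of_mul_eq_one_right (hsq _), hact]
    have hu0C : u0 ∈ C' := by
      rw [hCU]
      show QuotientGroup.mk u0 ∈ W
      rw [hu0q]
      exact hu
    have hsq0 : u0 * u0 = 1 := by
      have h1 : MulAut.conjNormal T u0 = u0 := Subtype.ext (by rw [MulAut.conjNormal_apply]; exact (hmemC u0).1 hu0C)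
      have h2 : MulAut.conjNormal T u0 = u0⁻¹ := by
        rw [hu0, map_mul, map_inv, ← MulAut.mul_apply, ← map_mul, ← pow_two, ← hT, pow_orderOf_eq_one, map_one,
          MulAut.one_apply, _root_.mul_inv_rev, inv_inv]
      rw [h1] at h2
      rw [← mul_inv_cancel u0, ← h2]
    have hc : u0⁻¹ * u ∈ Z := QuotientGroup.eq.1 hu0q
    set c := u0⁻¹ * u with hcdef
    have hu' : u = u0 * c := by rw [hcdef, mul_inv_cancel_left]
    have hc2 : c * c = 1 := by rw [← pow_two]; exact Cfsg.Agent.PGroups.isSpecial_center_pow hspec hc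
    rw [hu', (show Commute c u0 from (Subgroup.mem_center_iff.1 hc u0).symm).mul_mul_mul_comm u0 c, hsq0, hc2,
      one_mul]
  have hCel : Cfsg.IsElementaryAbelian 2 C := by
    have hsqC : ∀ a ∈ C, a * a = 1 := fun a ha => by
      have := hUsq ⟨a, ha.1⟩ (hCU ▸ (show (⟨a, ha.1⟩ : H) ∈ C' from ha))
      exact congrArg Subtype.val this
    refine ⟨⟨⟨fun a b => Subtype.ext ?_⟩⟩, fun a ha => by rw [pow_two]; exact hsqC a ha⟩
    show (a : G) * b = b * a
    have := hsqC _ (C.mul_mem a.2 b.2)
    calc (a : G) * b = ((a : G) * b)⁻¹ := (inv_eq_of_mul_eq_one_right this).symm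
      _ = (b : G)⁻¹ * (a : G)⁻¹ := _root_.mul_inv_rev _ _
      _ = b * a := by rw [inv_eq_of_mul_eq_one_right (hsqC _ a.2), inv_eq_of_mul_eq_one_right (hsqC _ b.2)]
  have := hminus C inf_le_left hCel
  rw [← hCC, hCU, hU8] at this
  omega

end Cfsg.Agent.S4405
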