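import Cfsg.Statements.S4407
import Mathlib.GroupTheory.SpecificGroups.Dihedral
import Mathlib.LinearAlgebra.Prod
import Mathlib.Algebra.Module.ZMod
import Mathlib.Tactic

set_option autoImplicit false
set_option linter.style.haveILetI false
set_option linter.unusedSimpArgs false
open Cfsg

namespace Cfsg.Agent.S4407

theorem dihedral_four {G : Type*} [Group G] (h : Nonempty (G ≃* DihedralGroup 4)) :
    ∃ r s : G, r ^ 4 = 1 ∧ r ^ 2 ≠ 1 ∧ s * s = 1 ∧ s * r = r⁻¹ * s ∧
      ∀ x : G, x = 1 ∨ x = r ∨ x = r ^ 2 ∨ x = r⁻¹ ∨ x = s ∨ x = r * s ∨ x = r ^ 2 * s ∨ x = r⁻¹ * s := by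
  obtain ⟨e⟩ := h
  refine ⟨e.symm (DihedralGroup.r 1), e.symm (DihedralGroup.sr 0), ?_, ?_, ?_, ?_, fun x => ?_⟩
  · rw [← map_pow, EmbeddingLike.map_eq_one_iff]; decide
  · rw [← map_pow, Ne, EmbeddingLike.map_eq_one_iff]; decide
  · rw [← map_mul, EmbeddingLike.map_eq_one_iff]; decide
  · rw [← map_inv, ← map_mul, ← map_mul]; congr 1
  · simp only [← map_pow, ← map_inv, ← map_mul, ← map_one e.symm, MulEquiv.eq_symm_apply]
    generalize e x = y
    revert y; decide

/-- The configuration on two lines. -/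
theorem config {S : Type*} [Group S] [Finite S] (A X : Subgroup S) [A.Normal] (hAX : A ⊔ X = ⊤)
    {M : Type*} [AddCommGroup M] [Module (ZMod 2) M] [Finite M] (ρ : Representation (ZMod 2) S M)
    (hirr : ∀ N : Submodule (ZMod 2) M, (∀ s : S, ∀ m ∈ N, ρ s m ∈ N) → N = ⊥ ∨ N = ⊤)
    (hA0 : ∀ m : M, (∀ a ∈ A, ρ a m = m) → m = 0) {r s a : S} (hr : r ∈ X) (hs : s ∈ X)
    (hr4 : r ^ 4 = 1) (hr2 : r ^ 2 ≠ 1) (hss : s * s = 1) (hsr : s * r = r⁻¹ * s)
    (hX : ∀ x ∈ X, x = 1 ∨ x = r ∨ x = r ^ 2 ∨ x = r⁻¹ ∨ x = s ∨ x = r * s ∨ x = r ^ 2 * s ∨ x = r⁻¹ * s)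
    (ha : a ∈ A) (ha3 : a ^ 3 = 1)
    (hAgen : ∀ b ∈ A, ∃ i j : ℕ, b = a ^ i * (r * a * r⁻¹) ^ j)
    (hcomm : ∀ b ∈ A, ∀ c ∈ A, b * c = c * b)
    (hz : ∀ b ∈ A, r ^ 2 * b = b⁻¹ * r ^ 2) (hsa : s * a = a * s)
    {v : M} (hv : v ≠ 0) (hav : ρ a v = v) :
    Nat.card M = 16 ∧
      ∃! B : Subgroup S, B ≤ X ∧ Nat.card ↥B = 4 ∧ (∀ b ∈ B, b ^ 2 = 1) ∧
        Nat.card {m : M // ∀ b ∈ B, ρ b m = m} = 2 := by
  classical
  have hmul : ∀ g h m, ρ (g * h) m = ρ g (ρ h m) := fun g h m => by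
    rw [map_mul]; rfl
  have hone : ∀ m, ρ 1 m = m := fun m => by rw [map_one]; rfl
  have hinvc : ∀ g m, ρ g⁻¹ (ρ g m) = m := fun g m => by rw [← hmul, inv_mul_cancel, hone]
  have h2 : ∀ m : M, m + m = 0 := fun m => ZModModule.add_self m
  set z := r ^ 2 with hzdef
  have hzz : z * z = 1 := by rw [hzdef, ← pow_add]; exact hr4
  have hzinv : z⁻¹ = z := inv_eq_of_mul_eq_one_right hzz
  have hzr : z * r = r * z := by rw [hzdef, ← pow_succ, ← pow_succ']
  have hsinv : s⁻¹ = s := inv_eq_of_mul_eq_one_right hss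
  have hrinv : r⁻¹ = r * z := inv_eq_of_mul_eq_one_right (by
    rw [hzdef, ← pow_succ', ← pow_succ']; exact hr4)
  have hsri : s * r⁻¹ = r * s := by
    have h := congrArg (·⁻¹) hsr
    simp only [mul_inv_rev, hsinv, inv_inv] at h
    calc s * r⁻¹ = s * (r⁻¹ * s) * s := by rw [mul_assoc, mul_assoc, hss, mul_one]
      _ = s * (s * r) * s := by rw [hsr]
      _ = r * s := by rw [← mul_assoc, hss, one_mul]
  have hsz : s * z = z * s := by
    calc s * z = (s * r) * r := by rw [hzdef, sq, mul_assoc]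
      _ = r⁻¹ * (r⁻¹ * s) := by rw [hsr, mul_assoc, hsr]
      _ = z⁻¹ * s := by rw [hzdef, sq, mul_inv_rev, mul_assoc]
      _ = z * s := by rw [hzinv]
  set b := r * a * r⁻¹ with hb
  have hbA : b ∈ A := Subgroup.Normal.conj_mem inferInstance a ha r
  have hb3 : b ^ 3 = 1 := by rw [hb, conj_pow, ha3, mul_one, mul_inv_cancel]
  have hza := hz a ha
  have hzb := hz b hbA
  have hra : r * a = b * r := by rw [hb, inv_mul_cancel_right]
  have hrb : r * b = a⁻¹ * r := by
    rw [hb, ← mul_assoc, ← mul_assoc, ← sq, hza, hzdef, sq, ← mul_assoc, mul_inv_cancel_right]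
  have hsb : s * b = b⁻¹ * s := by
    calc s * b = s * r * a * r⁻¹ := by rw [hb]; simp only [mul_assoc]
      _ = r⁻¹ * s * a * r⁻¹ := by rw [hsr]
      _ = r⁻¹ * a * (s * r⁻¹) := by rw [mul_assoc r⁻¹ s a, hsa]; simp only [mul_assoc]
      _ = r * (z * a) * r * s := by rw [hsri, hrinv]; simp only [mul_assoc]
      _ = r * a⁻¹ * (z * r) * s := by rw [hza]; simp only [mul_assoc]
      _ = b⁻¹ * (r * (z * r)) * s := by
          rw [hb, mul_inv_rev, mul_inv_rev, inv_inv]; group
      _ = b⁻¹ * s := by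
          rw [hzr, ← mul_assoc r r z, ← sq, ← hzdef, hzz, mul_one]
  -- vectors fixed by `a`
  let V : Submodule (ZMod 2) M :=
    { carrier := {m | ρ a m = m}
      add_mem' := fun {x y} hx hy => by simp only [Set.mem_ofPred_eq, map_add] at *; rw [hx, hy]
      zero_mem' := map_zero _
      smul_mem' := fun c x hx => by simp only [Set.mem_ofPred_eq, map_smul] at *; rw [hx] }
  have hVz : ∀ m ∈ V, ρ z m ∈ V := by
    intro m hm
    show ρ a (ρ z m) = ρ z m
    have h1 : a * z = z * a⁻¹ := by rw [hz a⁻¹ (inv_mem ha), inv_inv]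
    rw [← hmul, h1, hmul, show ρ a⁻¹ m = m from ((congrArg (ρ a⁻¹) hm).symm.trans (hinvc a m))]
  obtain ⟨w₀, hw₀0, hw₀a, hw₀z⟩ : ∃ w, w ≠ 0 ∧ ρ a w = w ∧ ρ z w = w := by
    by_cases h : v + ρ z v = 0
    · refine ⟨v, hv, hav, ?_⟩
      calc ρ z v = (v + v) + ρ z v := by rw [h2, zero_add]
        _ = v := by rw [add_assoc, h, add_zero]
    · refine ⟨_, h, V.add_mem hav (hVz v hav), ?_⟩
      rw [map_add, ← hmul, hzz, hone, add_comm]
  obtain ⟨w, hw0, hwa, hwz, hws⟩ : ∃ w, w ≠ 0 ∧ ρ a w = w ∧ ρ z w = w ∧ ρ s w = w := by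
    by_cases h : w₀ + ρ s w₀ = 0
    · refine ⟨w₀, hw₀0, hw₀a, hw₀z, ?_⟩
      calc ρ s w₀ = (w₀ + w₀) + ρ s w₀ := by rw [h2, zero_add]
        _ = w₀ := by rw [add_assoc, h, add_zero]
    · refine ⟨_, h, ?_, ?_, ?_⟩
      · rw [map_add, ← hmul, ← hsa, hmul, hw₀a]
      · rw [map_add, ← hmul, ← hsz, hmul, hw₀z]
      · rw [map_add, ← hmul, hss, hone, add_comm]
  have hsum : ∀ m, ρ a m = m → m + ρ b m + ρ b (ρ b m) = 0 := by
    intro m hm
    refine hA0 _ fun c hc => ?_
    obtain ⟨i, j, rfl⟩ := hAgen c hc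
    have hbfix : ρ b (m + ρ b m + ρ b (ρ b m)) = m + ρ b m + ρ b (ρ b m) := by
      rw [map_add, map_add, ← hmul b b (ρ b m), ← hmul (b * b) b m,
        show b * b * b = 1 from (pow_three' b).symm.trans hb3, hone]
      abel
    have hafix : ρ a (m + ρ b m + ρ b (ρ b m)) = m + ρ b m + ρ b (ρ b m) := by
      have h1 : ∀ x, ρ a x = x → ρ a (ρ b x) = ρ b x := fun x hx => by
        rw [← hmul, hcomm a ha b hbA, hmul, hx]
      rw [map_add, map_add, hm, h1 _ hm, h1 _ (h1 _ hm)]
    have hpw : ∀ (g : S) (x : M), ρ g x = x → ∀ n : ℕ, ρ (g ^ n) x = x := by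
      intro g x hx n
      induction n with
      | zero => rw [pow_zero, hone]
      | succ n ih => rw [pow_succ, hmul, hx, ih]
    rw [hmul, hpw b _ hbfix, hpw a _ hafix]
  set w' := ρ b w with hw'
  set u := ρ r w with hu
  set u' := ρ r w' with hu'
  have hbw' : ρ b w' = w + w' := by
    have h := hsum w hwa
    rw [← hw', add_eq_zero_iff_eq_neg, ZModModule.neg_eq_self] at h
    exact h.symm
  have haw' : ρ a w' = w' := by rw [hw', ← hmul, hcomm a ha b hbA, hmul, hwa]
  have hbu : ρ b u = u := by rw [hu, ← hmul, ← hra, hmul, hwa]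
  have hbu' : ρ b u' = u' := by rw [hu', ← hmul, ← hra, hmul, haw']
  have hbi : b⁻¹ = b * b := inv_eq_of_mul_eq_one_right ((pow_three b).symm.trans hb3)
  have hbiw : ρ b⁻¹ w = w + w' := by rw [hbi, hmul, hbw']
  have hbiw' : ρ b⁻¹ w' = w := by rw [hw', hinvc]
  have hau : ρ a u = u + u' := by
    have h1 : a * r = r * b⁻¹ := by
      have h3 : a⁻¹⁻¹ * r = r * b⁻¹ := by
        rw [eq_mul_inv_iff_mul_eq, mul_assoc, hrb, inv_inv, mul_inv_cancel_left]
      rwa [inv_inv] at h3
    rw [hu, ← hmul, h1, hmul, hbiw, map_add]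
  have hau' : ρ a u' = u := by
    have h1 : a * r = r * b⁻¹ := by
      have h3 : a⁻¹⁻¹ * r = r * b⁻¹ := by
        rw [eq_mul_inv_iff_mul_eq, mul_assoc, hrb, inv_inv, mul_inv_cancel_left]
      rwa [inv_inv] at h3
    rw [hu', ← hmul, h1, hmul, hbiw']
  have hzw' : ρ z w' = w + w' := by rw [hw', ← hmul, hzb, hmul, hwz, hbiw]
  have hsw' : ρ s w' = w + w' := by rw [hw', ← hmul, hsb, hmul, hws, hbiw]
  have hrr : ∀ m, ρ r (ρ r m) = ρ z m := fun m => by rw [← hmul, ← sq]
  have hru : ρ r u = w := by rw [hu, hrr, hwz]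
  have hru' : ρ r u' = w + w' := by rw [hu', hrr, hzw']
  have hsru : ∀ m, ρ s (ρ r m) = ρ r (ρ z (ρ s m)) := fun m => by
    rw [← hmul, hsr, hrinv, hmul, hmul]
  have hsu : ρ s u = u := by rw [hu, hsru, hws, hwz]
  have hsu' : ρ s u' = u' := by
    rw [hu', hsru, hsw', map_add, hwz, hzw', ← add_assoc, h2, zero_add]
  -- the span of the four vectors is everything
  let f : (ZMod 2 × ZMod 2) × (ZMod 2 × ZMod 2) →ₗ[ZMod 2] M :=
    ((LinearMap.toSpanSingleton (ZMod 2) M w).coprod (LinearMap.toSpanSingleton (ZMod 2) M w')).coprod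
      ((LinearMap.toSpanSingleton (ZMod 2) M u).coprod (LinearMap.toSpanSingleton (ZMod 2) M u'))
  have hf : ∀ t, f t = t.1.1 • w + t.1.2 • w' + (t.2.1 • u + t.2.2 • u') := fun _ => rfl
  have hgen : ∀ g : S, (∀ x ∈ ({w, w', u, u'} : Set M), ρ g x ∈ LinearMap.range f) →
      ∀ m ∈ LinearMap.range f, ρ g m ∈ LinearMap.range f := by
    rintro g hg _ ⟨t, rfl⟩
    rw [hf]
    simp only [map_add, map_smul]
    exact add_mem (add_mem (Submodule.smul_mem _ _ (hg w (by simp))) (Submodule.smul_mem _ _ (hg w' (by simp))))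
      (add_mem (Submodule.smul_mem _ _ (hg u (by simp))) (Submodule.smul_mem _ _ (hg u' (by simp))))
  have mw : w ∈ LinearMap.range f := ⟨((1, 0), (0, 0)), by simp [hf]⟩
  have mw' : w' ∈ LinearMap.range f := ⟨((0, 1), (0, 0)), by simp [hf]⟩
  have mu : u ∈ LinearMap.range f := ⟨((0, 0), (1, 0)), by simp [hf]⟩
  have mu' : u' ∈ LinearMap.range f := ⟨((0, 0), (0, 1)), by simp [hf]⟩
  have invA := hgen a (by
    rintro x (rfl | rfl | rfl | rfl)
    · rw [hwa]; exact mw
    · rw [haw']; exact mw'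
    · rw [hau]; exact add_mem mu mu'
    · rw [hau']; exact mu)
  have invB := hgen b (by
    rintro x (rfl | rfl | rfl | rfl)
    · exact mw'
    · rw [hbw']; exact add_mem mw mw'
    · rw [hbu]; exact mu
    · rw [hbu']; exact mu')
  have invR := hgen r (by
    rintro x (rfl | rfl | rfl | rfl)
    · exact mu
    · exact mu'
    · rw [hru]; exact mw
    · rw [hru']; exact add_mem mw mw')
  have invS := hgen s (by
    rintro x (rfl | rfl | rfl | rfl)
    · rw [hws]; exact mw
    · rw [hsw']; exact add_mem mw mw'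
    · rw [hsu]; exact mu
    · rw [hsu']; exact mu')
  let Stab : Subgroup S :=
    { carrier := {g | ∀ m, m ∈ LinearMap.range f ↔ ρ g m ∈ LinearMap.range f}
      one_mem' := fun m => by rw [hone]
      mul_mem' := fun {g h} hg hh m => by rw [hmul]; exact (hh m).trans (hg _)
      inv_mem' := fun {g} hg m => by rw [hg (ρ g⁻¹ m), ← hmul, mul_inv_cancel, hone] }
  have hmemS : ∀ g, (∀ m ∈ LinearMap.range f, ρ g m ∈ LinearMap.range f) → g ∈ Stab := by
    intro g hg m
    refine ⟨hg m, fun hm => ?_⟩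
    have hsurj : ∀ y ∈ LinearMap.range f, ∃ x ∈ LinearMap.range f, ρ g x = y := by
      intro y hy
      let F : LinearMap.range f → LinearMap.range f := fun x => ⟨ρ g x, hg x x.2⟩
      have hF : Function.Injective F := fun x y e => Subtype.ext (by
        have := congrArg (fun q : LinearMap.range f => ρ g⁻¹ (q : M)) e
        simpa only [F, hinvc] using this)
      obtain ⟨x, hx⟩ := Finite.injective_iff_surjective.1 hF ⟨y, hy⟩
      exact ⟨x, x.2, congrArg Subtype.val hx⟩
    obtain ⟨x, hx, he⟩ := hsurj _ hm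
    have := congrArg (ρ g⁻¹) he
    rw [hinvc, hinvc] at this
    exact this ▸ hx
  have hStab : ∀ g, g ∈ Stab := by
    intro g
    have hr' := hmemS r invR
    have hs' := hmemS s invS
    have hA : A ≤ Stab := fun c hc => by
      obtain ⟨i, j, rfl⟩ := hAgen c hc
      exact mul_mem (pow_mem (hmemS a invA) i) (pow_mem (hmemS b invB) j)
    have hX' : X ≤ Stab := fun x hx => by
      rcases hX x hx with rfl | rfl | rfl | rfl | rfl | rfl | rfl | rfl
      · exact one_mem _
      · exact hr'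
      · exact pow_mem hr' 2
      · exact inv_mem hr'
      · exact hs'
      · exact mul_mem hr' hs'
      · exact mul_mem (pow_mem hr' 2) hs'
      · exact mul_mem (inv_mem hr') hs'
    exact (hAX.ge.trans (sup_le hA hX')) (Subgroup.mem_top g)
  have htop : LinearMap.range f = ⊤ := (hirr _ fun g m hm => (hStab g m).1 hm).resolve_left fun h => by
    rw [h, Submodule.mem_bot] at mw; exact hw0 mw
  -- independence
  have hsepA : ∀ m, ρ a m = m → ρ b m = m → m = 0 := by
    intro m hma hmb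
    refine hA0 m fun c hc => ?_
    obtain ⟨i, j, rfl⟩ := hAgen c hc
    have hpw : ∀ (g : S) (x : M), ρ g x = x → ∀ n : ℕ, ρ (g ^ n) x = x := by
      intro g x hx n
      induction n with
      | zero => rw [pow_zero, hone]
      | succ n ih => rw [pow_succ, hmul, hx, ih]
    rw [hmul, hpw b _ hmb, hpw a _ hma]
  have hind : ∀ x y : ZMod 2, x • w + y • w' = 0 → x = 0 ∧ y = 0 := by
    intro x y he
    have hb' := congrArg (ρ b) he
    rw [map_add, map_smul, map_smul, map_zero, hbw', ← hw'] at hb'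
    have hz2 : ∀ t : ZMod 2, t = 0 ∨ t = 1 := by decide
    rcases hz2 x with rfl | rfl <;> rcases hz2 y with rfl | rfl <;>
      simp only [zero_smul, one_smul, zero_add, add_zero] at he hb' ⊢
    · exact ⟨trivial, trivial⟩
    · exact absurd (by rw [he] at hb'; simpa using hb') hw0
    · exact absurd he hw0
    · refine absurd (hsepA w hwa ?_) hw0
      rw [← hw']
      calc w' = (w + w) + w' := by rw [h2, zero_add]
        _ = w := by rw [add_assoc, he, add_zero]
  have hker : LinearMap.ker f = ⊥ := by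
    rw [Submodule.eq_bot_iff]
    rintro ⟨⟨x, y⟩, x', y'⟩ ht
    rw [LinearMap.mem_ker, hf] at ht
    simp only at ht
    have heq : x • w + y • w' = x' • u + y' • u' := by
      rw [add_eq_zero_iff_eq_neg, ZModModule.neg_eq_self] at ht; exact ht
    have hz0 : x • w + y • w' = 0 := hsepA _ (by rw [map_add, map_smul, map_smul, hwa, haw'])
      (by rw [heq, map_add, map_smul, map_smul, hbu, hbu'])
    obtain ⟨hx, hy⟩ := hind _ _ hz0
    have h3 : ρ r (x' • w + y' • w') = 0 := by
      rw [map_add, map_smul, map_smul, ← hu, ← hu', ← heq, hz0]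
    have h4 := congrArg (ρ r⁻¹) h3
    rw [hinvc, map_zero] at h4
    obtain ⟨hx', hy'⟩ := hind _ _ h4
    simp [hx, hy, hx', hy']
  have hbij : Function.Bijective f :=
    ⟨LinearMap.ker_eq_bot.1 hker, LinearMap.range_eq_top.1 htop⟩
  refine ⟨by rw [← Nat.card_congr (Equiv.ofBijective f hbij)]; simp [Nat.card_prod], ?_⟩
  -- the two four-groups
  have hB : ∀ t : S, t ∈ X → t * t = 1 → t * z = z * t → t ≠ 1 → t ≠ z →
      ∃ B : Subgroup S, (∀ x, x ∈ B ↔ x = 1 ∨ x = z ∨ x = t ∨ x = z * t) ∧ B ≤ X ∧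
        Nat.card B = 4 ∧ ∀ x ∈ B, x ^ 2 = 1 := by
    intro t htX htt htz ht1 htz'
    have hl : ∀ x y : S, x * (x * y) = (x * x) * y := fun x y => (mul_assoc x x y).symm
    have ht' : ∀ y, t * (z * y) = z * (t * y) := fun y => by rw [← mul_assoc, htz, mul_assoc]
    let B : Subgroup S :=
      { carrier := {x | x = 1 ∨ x = z ∨ x = t ∨ x = z * t}
        one_mem' := Or.inl rfl
        mul_mem' := fun {x y} hx hy => by
          rcases hx with rfl | rfl | rfl | rfl <;> rcases hy with rfl | rfl | rfl | rfl <;>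
            simp [mul_assoc, hl, hzz, htt, htz, ht']
        inv_mem' := fun {x} hx => by
          rcases hx with rfl | rfl | rfl | rfl <;>
            simp [hzinv, inv_eq_of_mul_eq_one_right htt, htz] }
    refine ⟨B, fun _ => Iff.rfl, ?_, ?_, ?_⟩
    · rintro x (rfl | rfl | rfl | rfl)
      · exact one_mem _
      · exact pow_mem hr 2
      · exact htX
      · exact mul_mem (pow_mem hr 2) htX
    · let v : Fin 4 → B := ![⟨1, Or.inl rfl⟩, ⟨z, Or.inr (Or.inl rfl)⟩, ⟨t, Or.inr (Or.inr (Or.inl rfl))⟩,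
        ⟨z * t, Or.inr (Or.inr (Or.inr rfl))⟩]
      have h1 : z * t ≠ 1 := fun h => htz' (by rw [← mul_one t, ← h, ht', htt, mul_one])
      have hvb : Function.Bijective v := by
        refine ⟨fun i j e => ?_, ?_⟩
        · have e' := congrArg Subtype.val e
          revert e'
          fin_cases i <;> fin_cases j <;>
            simp [v, hr2, Ne.symm hr2, ht1, Ne.symm ht1, htz', Ne.symm htz', h1, Ne.symm h1]
        · rintro ⟨x, rfl | rfl | rfl | rfl⟩
          exacts [⟨0, rfl⟩, ⟨1, rfl⟩, ⟨2, rfl⟩, ⟨3, rfl⟩]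
      rw [← Nat.card_congr (Equiv.ofBijective v hvb), Nat.card_fin]
    · rintro x (rfl | rfl | rfl | rfl) <;> simp [sq, mul_assoc, hzz, htt, htz, ht', hl]
  have hr1 : r ≠ 1 := fun h => hr2 (by rw [hzdef, h, one_pow])
  have hrz : r ≠ z := fun h => hr1 (mul_left_cancel (a := r) (by rw [mul_one, ← sq]; exact h.symm))
  have hs1 : s ≠ 1 := fun h => by
    have := hsr
    rw [h, one_mul, mul_one] at this
    exact hr2 (by rw [hzdef, sq]; nth_rw 1 [this]; exact inv_mul_cancel r)
  have hswne : ρ r w ≠ w := fun h => hw0 (hsepA w hwa (by rw [← h]; exact hbu))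
  have hsz' : s ≠ z := fun h => by
    have := hsr
    rw [h, hzr, hrinv, mul_assoc, hzz, mul_one] at this
    exact hr2 (by
      have h5 : z = 1 := mul_left_cancel (a := r) (by rw [this, mul_one])
      exact h5)
  have hrs1 : r * s ≠ 1 := fun h => hswne (by
    calc ρ r w = ρ r (ρ s w) := by rw [hws]
      _ = w := by rw [← hmul, h, hone])
  have hrsz : r * s ≠ z := fun h => hswne (by
    calc ρ r w = ρ r (ρ s w) := by rw [hws]
      _ = w := by rw [← hmul, h, hwz])
  have hrsrs : r * s * (r * s) = 1 := by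
    rw [mul_assoc, ← mul_assoc s r s, hsr, mul_assoc, hss, mul_one, mul_inv_cancel]
  have hrscomm : r * s * z = z * (r * s) := by rw [mul_assoc, hsz, ← mul_assoc, ← hzr, mul_assoc]
  obtain ⟨B, hBm, hBX, hB4, hB2⟩ := hB (r * s) (mul_mem hr hs) hrsrs hrscomm hrs1 hrsz
  have hfix : Nat.card {m : M // ∀ b ∈ B, ρ b m = m} = 2 := by
    have hzu : ρ z u = u := by rw [← hrr, hru]
    have hzu' : ρ z u' = u + u' := by rw [← hrr, hru', map_add]
    have hp1 : ρ z (w + u) = w + u := by rw [map_add, hwz, hzu]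
    have hp2 : ρ (r * s) (w + u) = w + u := by
      rw [hmul, map_add, map_add, hws, hsu, hru]; exact add_comm _ _
    have hv : ∀ b ∈ B, ρ b (w + u) = w + u := by
      intro b hb
      rcases (hBm b).1 hb with rfl | rfl | rfl | rfl
      · exact hone _
      · exact hp1
      · exact hp2
      · rw [hmul, hp2, hp1]
    let v : Fin 2 → {m : M // ∀ b ∈ B, ρ b m = m} :=
      ![⟨0, fun b _ => map_zero _⟩, ⟨w + u, hv⟩]
    have hvb : Function.Bijective v := by
      refine ⟨fun i j e => ?_, ?_⟩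
      · have e' := congrArg Subtype.val e
        have hne : w + u ≠ 0 := fun h => by
          have h0 : f ((1, 0), (1, 0)) = f ((0, 0), (0, 0)) := by simp [hf, h]
          exact absurd (hbij.1 h0) (by decide)
        revert e'
        fin_cases i <;> fin_cases j <;> simp [v, hne, Ne.symm hne]
      · rintro ⟨m, hm⟩
        obtain ⟨t, rfl⟩ := hbij.2 m
        obtain ⟨⟨x, y⟩, x', y'⟩ := t
        have h1 := hm z ((hBm z).2 (Or.inr (Or.inl rfl)))
        have h3 := hm (r * s) ((hBm _).2 (Or.inr (Or.inr (Or.inl rfl))))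
        have e1 : ρ z (f ((x, y), (x', y'))) = f ((x + y, y), (x' + y', y')) := by
          simp only [hf, map_add, map_smul, hwz, hzw', hzu, hzu']
          module
        have e3 : ρ (r * s) (f ((x, y), (x', y'))) = f ((x' + y', y'), (x + y, y)) := by
          simp only [hf, hmul, map_add, map_smul, hws, hsw', hsu, hsu', hru, hru', ← hu, ← hu']
          module
        rw [e1] at h1
        rw [e3] at h3
        have h1' := hbij.1 h1
        have h3' := hbij.1 h3
        simp only [Prod.mk.injEq] at h1' h3'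
        obtain ⟨⟨h11, -⟩, h13, -⟩ := h1'
        obtain ⟨⟨h31, -⟩, -, -⟩ := h3'
        have hy : y = 0 := add_eq_left.1 h11
        have hy' : y' = 0 := add_eq_left.1 h13
        subst hy hy'
        rw [add_zero] at h31
        subst h31
        rcases (show ∀ t : ZMod 2, t = 0 ∨ t = 1 by decide) x' with rfl | rfl
        · exact ⟨0, Subtype.ext (by simp [v, hf])⟩
        · exact ⟨1, Subtype.ext (by simp [v, hf])⟩
    rw [← Nat.card_congr (Equiv.ofBijective v hvb), Nat.card_fin]
  refine ⟨B, ⟨hBX, hB4, hB2, hfix⟩, ?_⟩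
  rintro C ⟨hCX, hC4, hC2, hCfix⟩
  have hnor : r ∉ C := fun h => hr2 (hC2 r h)
  have hnor' : r⁻¹ ∉ C := fun h => hnor (inv_inv r ▸ inv_mem h)
  have hl : ∀ x y : S, x * (x * y) = (x * x) * y := fun x y => (mul_assoc x x y).symm
  by_cases hcase : s ∈ C ∨ r ^ 2 * s ∈ C
  · exfalso
    have hsub : C = (hB s hs hss hsz hs1 hsz').choose := by
      obtain ⟨hm, -, h4, -⟩ := (hB s hs hss hsz hs1 hsz').choose_spec
      refine Subgroup.eq_of_le_of_card_ge (fun x hx => (hm x).2 ?_) (by rw [h4, hC4])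
      rcases hX x (hCX hx) with rfl | rfl | rfl | rfl | rfl | rfl | rfl | rfl
      · exact Or.inl rfl
      · exact absurd hx hnor
      · exact Or.inr (Or.inl rfl)
      · exact absurd hx hnor'
      · exact Or.inr (Or.inr (Or.inl rfl))
      · rcases hcase with h | h
        · exact absurd (by simpa [mul_assoc, hss] using mul_mem hx h) hnor
        · refine absurd ?_ hnor'
          have h5 := mul_mem hx h
          rw [← hzdef, mul_assoc, ← mul_assoc s z s, hsz, mul_assoc z s s, hss, mul_one] at h5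
          rw [hrinv]; exact h5
      · exact Or.inr (Or.inr (Or.inr rfl))
      · rcases hcase with h | h
        · exact absurd (by simpa [mul_assoc, hss] using mul_mem hx h) hnor'
        · refine absurd ?_ hnor
          have h5 := mul_mem hx h
          rwa [← hzdef, mul_assoc, ← mul_assoc s z s, hsz, mul_assoc z s s, hss, mul_one, hrinv,
            mul_assoc, hzz, mul_one] at h5
    obtain ⟨hm, -, -, -⟩ := (hB s hs hss hsz hs1 hsz').choose_spec
    rw [← hsub] at hm
    have hwfix : ∀ b ∈ C, ρ b w = w := fun b hb => by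
      rcases (hm b).1 hb with rfl | rfl | rfl | rfl
      · exact hone _
      · exact hwz
      · exact hws
      · rw [hmul, hws, hwz]
    have hufix : ∀ b ∈ C, ρ b u = u := fun b hb => by
      rcases (hm b).1 hb with rfl | rfl | rfl | rfl
      · exact hone _
      · rw [← hrr, hru]
      · exact hsu
      · rw [hmul, hsu, ← hrr, hru]
    let q : Fin 3 → {m : M // ∀ b ∈ C, ρ b m = m} :=
      ![⟨0, fun b _ => map_zero _⟩, ⟨w, hwfix⟩, ⟨u, hufix⟩]
    have hq : Function.Injective q := by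
      intro i j e
      have e' := congrArg Subtype.val e
      have hu0 : u ≠ 0 := fun h => hw0 (by rw [← hru, h, map_zero])
      revert e'
      fin_cases i <;> fin_cases j <;>
        simp [q, hw0, Ne.symm hw0, hu0, Ne.symm hu0, show u ≠ w from hswne, Ne.symm (show u ≠ w from hswne)]
    have := Nat.card_le_card_of_injective q hq
    rw [hCfix, Nat.card_fin] at this
    omega
  · push Not at hcase
    refine Subgroup.eq_of_le_of_card_ge (fun x hx => (hBm x).2 ?_) (by rw [hC4, hB4])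
    rcases hX x (hCX hx) with rfl | rfl | rfl | rfl | rfl | rfl | rfl | rfl
    · exact Or.inl rfl
    · exact absurd hx hnor
    · exact Or.inr (Or.inl rfl)
    · exact absurd hx hnor'
    · exact absurd hx hcase.1
    · exact Or.inr (Or.inr (Or.inl rfl))
    · exact absurd hx hcase.2
    · exact Or.inr (Or.inr (Or.inr (by rw [hrinv, ← hzr, mul_assoc])))

theorem main {S : Type*} [Group S] [Finite S]
    (A : Subgroup S) [A.Normal] (hA : Cfsg.IsElementaryAbelian 3 A) (hA9 : Nat.card ↥A = 9)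
    (hAC : Subgroup.centralizer (A : Set S) = A) (X : Subgroup S) (hX : Nonempty (↥X ≃* DihedralGroup 4))
    (hAX : A ⊔ X = ⊤)
    {M : Type*} [AddCommGroup M] [Module (ZMod 2) M] [Finite M] (ρ : Representation (ZMod 2) S M)
    (hfaith : Function.Injective ρ)
    (hirr : ∀ N : Submodule (ZMod 2) M, (∀ s : S, ∀ m ∈ N, ρ s m ∈ N) → N = ⊥ ∨ N = ⊤)
    (hM : Nontrivial M) :
    Nat.card M = 16 ∧
      ∃! B : Subgroup S, B ≤ X ∧ Nat.card ↥B = 4 ∧ (∀ b ∈ B, b ^ 2 = 1) ∧
        Nat.card {m : M // ∀ b ∈ B, ρ b m = m} = 2 := by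
  classical
  have hmul : ∀ g h m, ρ (g * h) m = ρ g (ρ h m) := fun g h m => by rw [map_mul]; rfl
  have hcomm : ∀ b ∈ A, ∀ c ∈ A, b * c = c * b := fun b hb c hc =>
    congrArg Subtype.val (hA.1.is_comm.comm ⟨b, hb⟩ ⟨c, hc⟩)
  have h3 := hA.2
  have hX8 : Nat.card X = 8 := by
    obtain ⟨e⟩ := hX
    rw [Nat.card_congr e.toEquiv, Nat.card_eq_fintype_card, DihedralGroup.card]
  have hdisj : ∀ x ∈ X, x ∈ A → x = 1 := by
    intro x hx hxA
    have h1 : orderOf x ∣ 3 := orderOf_dvd_of_pow_eq_one (h3 x hxA)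
    have h2 : orderOf x ∣ 8 := hX8 ▸ Subgroup.orderOf_dvd_natCard X hx
    exact orderOf_eq_one_iff.1 (Nat.eq_one_of_dvd_coprimes (by decide : Nat.Coprime 3 8) h1 h2)
  have hfaithA : ∀ x ∈ X, (∀ a ∈ A, x * a = a * x) → x = 1 := fun x hx h =>
    hdisj x hx (hAC.le (Subgroup.mem_centralizer_iff.2 fun a ha => (h a ha).symm))
  -- no fixed points of `A`
  have hA0 : ∀ m : M, (∀ a ∈ A, ρ a m = m) → m = 0 := by
    intro m hm
    let N : Submodule (ZMod 2) M :=
      { carrier := {m | ∀ a ∈ A, ρ a m = m}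
        add_mem' := fun {x y} hx hy a ha => by rw [map_add, hx a ha, hy a ha]
        zero_mem' := fun a _ => map_zero _
        smul_mem' := fun c x hx a ha => by rw [map_smul, hx a ha] }
    rcases hirr N (fun g x hx a ha => by
      rw [← hmul, show a * g = g * (g⁻¹ * a * g) by group, hmul, hx _ (by
        have := (inferInstance : A.Normal).conj_mem a ha g⁻¹
        rwa [inv_inv] at this)]) with h | h
    · exact (Submodule.mem_bot _).1 (h ▸ (show m ∈ N from hm))
    · exfalso
      have hbot : A = ⊥ := (Subgroup.eq_bot_iff_forall _).2 fun a ha => hfaith (LinearMap.ext fun x => by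
        rw [map_one]; exact (h ▸ Submodule.mem_top : x ∈ N) a ha)
      rw [hbot, Subgroup.card_bot] at hA9
      omega
  obtain ⟨r', s', hr4', hr2', hss', hsr', hall⟩ := dihedral_four hX
  set r : S := r'.1 with hrdef
  set s : S := s'.1 with hsdef
  have hrX : r ∈ X := r'.2
  have hsX : s ∈ X := s'.2
  have hr4 : r ^ 4 = 1 := congrArg Subtype.val hr4'
  have hr2 : r ^ 2 ≠ 1 := fun h => hr2' (Subtype.ext h)
  have hss : s * s = 1 := congrArg Subtype.val hss'
  have hsr : s * r = r⁻¹ * s := congrArg Subtype.val hsr'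
  have hXl : ∀ x ∈ X,
      x = 1 ∨ x = r ∨ x = r ^ 2 ∨ x = r⁻¹ ∨ x = s ∨ x = r * s ∨ x = r ^ 2 * s ∨ x = r⁻¹ * s := by
    intro x hx
    rcases hall ⟨x, hx⟩ with h | h | h | h | h | h | h | h
    · exact Or.inl (congrArg Subtype.val h)
    · exact Or.inr (Or.inl (congrArg Subtype.val h))
    · exact Or.inr (Or.inr (Or.inl (congrArg Subtype.val h)))
    · exact Or.inr (Or.inr (Or.inr (Or.inl (congrArg Subtype.val h))))
    · exact Or.inr (Or.inr (Or.inr (Or.inr (Or.inl (congrArg Subtype.val h)))))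
    · exact Or.inr (Or.inr (Or.inr (Or.inr (Or.inr (Or.inl (congrArg Subtype.val h))))))
    · exact Or.inr (Or.inr (Or.inr (Or.inr (Or.inr (Or.inr (Or.inl (congrArg Subtype.val h)))))))
    · exact Or.inr (Or.inr (Or.inr (Or.inr (Or.inr (Or.inr (Or.inr (congrArg Subtype.val h)))))))
  set z := r ^ 2 with hz
  have hzX : z ∈ X := pow_mem hrX 2
  have hzz : z * z = 1 := by rw [hz, ← pow_add]; exact hr4
  have hrinv : r⁻¹ = r * z := inv_eq_of_mul_eq_one_right (by
    rw [hz, ← pow_succ', ← pow_succ']; exact hr4)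
  have hzr : z * r = r * z := by rw [hz, ← pow_succ, ← pow_succ']
  have hsz : s * z = z * s := by
    calc s * z = (s * r) * r := by rw [hz, sq, mul_assoc]
      _ = r⁻¹ * (r⁻¹ * s) := by rw [hsr, mul_assoc, hsr]
      _ = z⁻¹ * s := by rw [hz, sq, mul_inv_rev, mul_assoc]
      _ = z * s := by rw [inv_eq_of_mul_eq_one_right hzz]
  have hsplit : ∀ t : S, t ∈ X → t * t = 1 → ∀ b ∈ A,
      ∃ c ∈ A, ∃ d ∈ A, b = c * d ∧ t * c = c * t ∧ t * d = d⁻¹ * t := by
    intro t _ htt b hb
    set b' := t * b * t with hb'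
    have hb'A : b' ∈ A := by
      have := (inferInstance : A.Normal).conj_mem b hb t
      rwa [inv_eq_of_mul_eq_one_right htt] at this
    have ht1 : t * b = b' * t := by rw [hb', mul_assoc, htt, mul_one]
    have ht2 : t * b' = b * t := by rw [hb', ← mul_assoc, ← mul_assoc, htt, one_mul]
    refine ⟨(b * b')⁻¹, inv_mem (mul_mem hb hb'A), b' * b⁻¹, mul_mem hb'A (inv_mem hb), ?_, ?_, ?_⟩
    · rw [mul_inv_rev, mul_assoc, hcomm b⁻¹ (inv_mem hb) (b' * b⁻¹) (mul_mem hb'A (inv_mem hb)),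
        mul_assoc b', inv_mul_cancel_left]
      have := h3 b hb
      rw [eq_comm, ← mul_inv_rev, inv_eq_iff_mul_eq_one, ← pow_three', this]
    · have e : t * (b * b') = (b * b') * t := by
        rw [← mul_assoc, ht1, mul_assoc, ht2, ← mul_assoc, hcomm b' hb'A b hb]
      exact (Commute.inv_right (show Commute t (b * b') from e)).eq
    · have e1 : t * b⁻¹ = b'⁻¹ * t := by
        rw [eq_inv_mul_iff_mul_eq, ← mul_assoc, ← ht1, mul_inv_cancel_right]
      rw [← mul_assoc, ht2, mul_assoc b t, e1, mul_inv_rev b' b⁻¹, inv_inv, mul_assoc]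
  have hsub : ∀ (a : S), a ∈ A → a ≠ 1 → ∀ b ∈ A, b ∉ Subgroup.zpowers a → ∀ c ∈ A,
      ∃ i j : ℕ, c = a ^ i * b ^ j := by
    intro a ha ha1 b hb hba c hc
    let g : Fin 3 × Fin 3 → A := fun v =>
      ⟨a ^ (v.1 : ℕ) * b ^ (v.2 : ℕ), mul_mem (pow_mem ha _) (pow_mem hb _)⟩
    have hg : Function.Injective g := by
      rintro ⟨i, j⟩ ⟨i', j'⟩ e
      have e' : a ^ (i : ℕ) * b ^ (j : ℕ) = a ^ (i' : ℕ) * b ^ (j' : ℕ) := congrArg Subtype.val e
      have hoa : orderOf a = 3 := orderOf_eq_prime (h3 a ha) ha1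
      have h1 : b ^ ((j : ℤ) - (j' : ℤ)) ∈ Subgroup.zpowers a := by
        refine ⟨(i' : ℤ) - (i : ℤ), ?_⟩
        simp only [zpow_sub, zpow_natCast]
        rw [hcomm _ (pow_mem ha _) _ (inv_mem (pow_mem ha _))]
        rw [eq_mul_inv_iff_mul_eq, mul_assoc, inv_mul_eq_iff_eq_mul]
        exact e'.symm
      have hjj : j = j' := by
        by_contra hne
        apply hba
        rcases (show ((j : ℤ) - (j' : ℤ) = 1 ∨ (j : ℤ) - (j' : ℤ) = -1 ∨ (j : ℤ) - (j' : ℤ) = 2 ∨
          (j : ℤ) - (j' : ℤ) = -2) by omega) with h | h | h | h <;> rw [h] at h1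
        · simpa using h1
        · simpa using h1
        · have := inv_mem h1
          rw [← zpow_neg, show (-2 : ℤ) = -3 + 1 by norm_num, zpow_add, zpow_one, zpow_neg,
            show (3 : ℤ) = ((3 : ℕ) : ℤ) by rfl, zpow_natCast, h3 b hb, inv_one, one_mul] at this
          exact this
        · rw [show (-2 : ℤ) = -3 + 1 by norm_num, zpow_add, zpow_one, zpow_neg,
            show (3 : ℤ) = ((3 : ℕ) : ℤ) by rfl, zpow_natCast, h3 b hb, inv_one, one_mul] at h1
          exact h1
      subst hjj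
      have hi := (pow_inj_mod.1 (mul_right_cancel e'))
      rw [hoa] at hi
      have : i = i' := Fin.ext (by omega)
      rw [this]
    obtain ⟨⟨i, j⟩, hij⟩ :=
      ((Nat.bijective_iff_injective_and_card g).2 ⟨hg, by simp [hA9, Nat.card_prod]⟩).2 ⟨c, hc⟩
    exact ⟨i, j, (congrArg Subtype.val hij).symm⟩
  have hsns : ∀ t : S, t ∈ X → t * t = 1 → t * r = r⁻¹ * t → ∃ a ∈ A, a ≠ 1 ∧ t * a = a * t := by
    intro t htX htt htr
    by_contra hno
    push Not at hno
    have hinv : ∀ b ∈ A, t * b = b⁻¹ * t := by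
      intro b hb
      obtain ⟨c, hc, d, hd, rfl, hc1, hd1⟩ := hsplit t htX htt b hb
      have : c = 1 := by
        by_contra hc1'
        exact hno c hc hc1' hc1
      rw [this, one_mul, hd1]
    have hz1 : z = 1 := by
      refine hfaithA z hzX fun b hb => ?_
      have h1 : r * b * r⁻¹ ∈ A := (inferInstance : A.Normal).conj_mem b hb r
      have h2 := hinv _ h1
      rw [show t * (r * b * r⁻¹) = (t * r) * b * r⁻¹ by group, htr, mul_assoc r⁻¹ t b, hinv b hb,
        show (r * b * r⁻¹)⁻¹ = r * b⁻¹ * r⁻¹ by group] at h2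
      have h4 : t * r⁻¹ = r * t := by
        calc t * r⁻¹ = r * (r⁻¹ * t) * r⁻¹ := by group
          _ = r * t := by rw [← htr]; group
      rw [show r⁻¹ * (b⁻¹ * t) * r⁻¹ = r⁻¹ * b⁻¹ * (t * r⁻¹) by group, h4, ← mul_assoc] at h2
      have h5 := mul_right_cancel h2
      have h6 : r⁻¹ * b⁻¹ * r = r * b⁻¹ * r⁻¹ := h5
      have h7 : b⁻¹ * z = z * b⁻¹ := by
        rw [hz, sq]
        calc b⁻¹ * (r * r) = r * (r⁻¹ * b⁻¹ * r) * r := by group
          _ = r * r * b⁻¹ := by rw [h6]; group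
      have h8 := (Commute.inv_left (show Commute b⁻¹ z from h7))
      rw [inv_inv] at h8
      exact h8.eq.symm
    exact hr2 hz1
  obtain ⟨a, haA, ha1, hsa⟩ := hsns s hsX hss hsr
  have hzinv : ∀ b ∈ A, z * b = b⁻¹ * z := by
    intro b hb
    obtain ⟨c, hc, d, hd, rfl, hc1, hd1⟩ := hsplit z hzX hzz b hb
    by_cases hc0 : c = 1
    · rw [hc0, one_mul, hd1]
    exfalso
    by_cases hd0 : ∀ e ∈ A, z * e = e⁻¹ * z → e = 1
    · refine hr2 (hfaithA z hzX fun e he => ?_)
      obtain ⟨c', -, d', hd', rfl, hc', hd''⟩ := hsplit z hzX hzz e he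
      rw [hd0 d' hd' hd'', mul_one, hc']
    push Not at hd0
    obtain ⟨e, heA, hez, he1⟩ := hd0
    -- `X` acts on the two lines, so `r ^ 2` would be trivial
    have hec : e ∉ Subgroup.zpowers c := by
      rintro ⟨n, hn⟩
      have h1 : z * e = e * z := by
        rw [← hn]; exact ((show Commute z c from hc1).zpow_right n).eq
      rw [h1] at hez
      have h2 : e = e⁻¹ := mul_right_cancel hez
      apply he1
      have h4 := h3 e heA
      rw [pow_succ, sq] at h4
      nth_rw 2 [h2] at h4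
      rwa [mul_inv_cancel, one_mul] at h4
    have hgen := hsub c hc hc0 e heA hec
    have hzri : z * r⁻¹ = r⁻¹ * z := (Commute.inv_right (show Commute z r from hzr)).eq
    refine hr2 (hfaithA z hzX fun g hg => ?_)
    have hrc : r * c * r⁻¹ = c ∨ r * c * r⁻¹ = c⁻¹ := by
      have hm : r * c * r⁻¹ ∈ A := (inferInstance : A.Normal).conj_mem c hc r
      obtain ⟨i, j, hij⟩ := hgen _ hm
      have hfixz : z * (r * c * r⁻¹) = (r * c * r⁻¹) * z := by
        calc z * (r * c * r⁻¹) = r * (z * c) * r⁻¹ := by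
              rw [← mul_assoc, ← mul_assoc, hzr]; group
          _ = r * c * (z * r⁻¹) := by rw [hc1]; group
          _ = r * c * r⁻¹ * z := by
              rw [hzri]; group
      rw [hij] at hfixz ⊢
      have hej : (e ^ j)⁻¹ = e ^ j := by
        have h1 : z * (c ^ i * e ^ j) = c ^ i * (e⁻¹) ^ j * z := by
          rw [← mul_assoc, ((show Commute z c from hc1).pow_right i).eq, mul_assoc,
            (show SemiconjBy z e e⁻¹ from hez).pow_right j |>.eq, mul_assoc]
        rw [h1] at hfixz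
        have := mul_left_cancel (mul_right_cancel hfixz)
        rwa [inv_pow] at this
      have hej1 : e ^ j = 1 := by
        have h4 := h3 _ (pow_mem heA j)
        rw [pow_succ, sq] at h4
        nth_rw 2 [← hej] at h4
        rwa [mul_inv_cancel, one_mul] at h4
      rw [hej1, mul_one] at hij ⊢
      have hi3 : c ^ i = c ^ (i % 3) := by
        conv_lhs => rw [← Nat.mod_add_div i 3, pow_add, pow_mul, h3 c hc, one_pow, mul_one]
      rcases (show i % 3 = 0 ∨ i % 3 = 1 ∨ i % 3 = 2 by omega) with h | h | h <;> rw [hi3, h] at hij ⊢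
      · rw [pow_zero] at hij; exact absurd (conj_eq_one_iff.1 hij) hc0
      · left; rw [pow_one]
      · right
        exact eq_inv_of_mul_eq_one_left (by rw [← pow_succ]; exact h3 c hc)
    have hre : r * e * r⁻¹ = e ∨ r * e * r⁻¹ = e⁻¹ := by
      have hm : r * e * r⁻¹ ∈ A := (inferInstance : A.Normal).conj_mem e heA r
      obtain ⟨i, j, hij⟩ := hgen _ hm
      have hinvz : z * (r * e * r⁻¹) = (r * e * r⁻¹)⁻¹ * z := by
        calc z * (r * e * r⁻¹) = r * (z * e) * r⁻¹ := by
              rw [← mul_assoc, ← mul_assoc, hzr]; group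
          _ = r * e⁻¹ * (z * r⁻¹) := by rw [hez]; group
          _ = (r * e * r⁻¹)⁻¹ * z := by
              rw [hzri]; group
      rw [hij] at hinvz ⊢
      have h1 : z * (c ^ i * e ^ j) = c ^ i * (e⁻¹) ^ j * z := by
        rw [← mul_assoc, ((show Commute z c from hc1).pow_right i).eq, mul_assoc,
          (show SemiconjBy z e e⁻¹ from hez).pow_right j |>.eq, mul_assoc]
      rw [h1, mul_inv_rev, hcomm _ (inv_mem (pow_mem heA _)) _ (inv_mem (pow_mem hc _)),
        inv_pow] at hinvz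
      have hci : c ^ i = (c ^ i)⁻¹ := mul_right_cancel (mul_right_cancel hinvz)
      have hci1 : c ^ i = 1 := by
        have h4 := h3 _ (pow_mem hc i)
        rw [pow_succ, sq] at h4
        nth_rw 2 [hci] at h4
        rwa [mul_inv_cancel, one_mul] at h4
      rw [hci1, one_mul] at hij ⊢
      have hj3 : e ^ j = e ^ (j % 3) := by
        conv_lhs => rw [← Nat.mod_add_div j 3, pow_add, pow_mul, h3 e heA, one_pow, mul_one]
      rcases (show j % 3 = 0 ∨ j % 3 = 1 ∨ j % 3 = 2 by omega) with h | h | h <;> rw [hj3, h] at hij ⊢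
      · rw [pow_zero] at hij; exact absurd (conj_eq_one_iff.1 hij) he1
      · left; rw [pow_one]
      · right
        exact eq_inv_of_mul_eq_one_left (by rw [← pow_succ]; exact h3 e heA)
    have key : ∀ x : S, r * x * r⁻¹ = x ∨ r * x * r⁻¹ = x⁻¹ → z * x * z⁻¹ = x := by
      intro x hx
      rw [hz, sq, show r * r * x * (r * r)⁻¹ = r * (r * x * r⁻¹) * r⁻¹ by group]
      rcases hx with h | h
      · rw [h, h]
      · rw [h, show r * x⁻¹ * r⁻¹ = (r * x * r⁻¹)⁻¹ by group, h, inv_inv]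
    obtain ⟨i, j, rfl⟩ := hgen g hg
    have e1 : Commute z c := mul_inv_eq_iff_eq_mul.1 (key c hrc)
    have e2 : Commute z e := mul_inv_eq_iff_eq_mul.1 (key e hre)
    exact ((e1.pow_right i).mul_right (e2.pow_right j)).eq
  -- choose the involution fixing a line with fixed vectors
  have hb : r * a * r⁻¹ ∉ Subgroup.zpowers a := by
    intro hmem
    obtain ⟨n, hn⟩ := hmem
    simp only at hn
    have hsb : s * (r * a * r⁻¹) = (r * a * r⁻¹)⁻¹ * s := by
      calc s * (r * a * r⁻¹) = r⁻¹ * a * (s * r⁻¹) := by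
            rw [← mul_assoc, ← mul_assoc, hsr, mul_assoc r⁻¹ s a, hsa]; group
        _ = r * (z * a) * r * s := by
            have h4 : s * r⁻¹ = r * s := by
              calc s * r⁻¹ = r * (r⁻¹ * s) * r⁻¹ := by group
                _ = r * s := by rw [← hsr]; group
            rw [h4, hrinv]; group
        _ = r * a⁻¹ * (z * r) * s := by rw [hzinv a haA]; group
        _ = (r * a⁻¹ * r⁻¹) * (z * z) * s := by rw [hz, sq]; group
        _ = (r * a * r⁻¹)⁻¹ * s := by rw [hzz]; group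
    rw [← hn, ((show Commute s a from hsa).zpow_right n).eq] at hsb
    have h2 : a ^ n = (a ^ n)⁻¹ := mul_right_cancel hsb
    have h4 : a ^ n = 1 := by
      have h5 := h3 _ (zpow_mem haA n)
      rw [pow_succ, sq] at h5
      nth_rw 2 [h2] at h5
      rwa [mul_inv_cancel, one_mul] at h5
    rw [h4] at hn
    exact ha1 (conj_eq_one_iff.1 hn.symm)
  have hAgen := hsub a haA ha1 _ ((inferInstance : A.Normal).conj_mem a haA r) hb
  obtain ⟨v, u, huA, hu1, hv, huv⟩ : ∃ v : M, ∃ u ∈ A, u ≠ 1 ∧ v ≠ 0 ∧ ρ u v = v := by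
    obtain ⟨m, hm⟩ := exists_ne (0 : M)
    set b := r * a * r⁻¹ with hbdef
    have hbA : b ∈ A := (inferInstance : A.Normal).conj_mem a haA r
    let N : S → M := fun g => m + ρ g m + ρ (g * g) m
    have hNfix : ∀ g ∈ A, ρ g (N g) = N g := fun g hg => by
      simp only [N, map_add, ← hmul]
      rw [← mul_assoc, show g * g * g = 1 from (pow_three' g).symm.trans (h3 g hg), map_one]
      show ρ g m + ρ (g * g) m + m = _
      abel
    by_contra hno
    push Not at hno
    have hab1 : a * b ≠ 1 := fun h => hb (by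
      rw [eq_inv_of_mul_eq_one_right h]; exact inv_mem (Subgroup.mem_zpowers a))
    have hab2 : a * b⁻¹ ≠ 1 := fun h => hb (by
      rw [← mul_inv_eq_one.1 h]; exact Subgroup.mem_zpowers a)
    have hb1 : b ≠ 1 := fun h => ha1 (conj_eq_one_iff.1 h)
    have z1 : ∀ g ∈ A, g ≠ 1 → N g = 0 := fun g hg hg1 => by
      by_contra h
      exact hno (N g) g hg hg1 h (hNfix g hg)
    have hab : Commute a b := hcomm a haA b hbA
    have e1 : N a + N b + N (a * b) + N (a * b⁻¹) =
        (m + m + m) + (m + ρ a m + ρ (a * a) m + ρ b m + ρ (b * b) m + ρ (a * b) m +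
          ρ (a * b * (a * b)) m + ρ (a * b⁻¹) m + ρ (a * b⁻¹ * (a * b⁻¹)) m) := by
      simp only [N]; abel
    have hsumA : m + ρ a m + ρ (a * a) m + ρ b m + ρ (b * b) m + ρ (a * b) m +
          ρ (a * b * (a * b)) m + ρ (a * b⁻¹) m + ρ (a * b⁻¹ * (a * b⁻¹)) m = 0 := by
      have hbb : b⁻¹ = b * b := inv_eq_of_mul_eq_one_right ((pow_three b).symm.trans (h3 b hbA))
      refine hA0 _ fun g hg => ?_
      have hfa : ∀ x : M, ρ a x = x → ρ b x = x → ρ g x = x := by
        intro x hxa hxb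
        obtain ⟨i, j, rfl⟩ := hAgen g hg
        have hpw : ∀ (g : S), ρ g x = x → ∀ n : ℕ, ρ (g ^ n) x = x := by
          intro g hx n
          induction n with
          | zero => rw [pow_zero, map_one]; rfl
          | succ n ih => rw [pow_succ, hmul, hx, ih]
        rw [hmul, hpw b hxb, hpw a hxa]
      have hp : ∀ i j i' j' : ℕ, i % 3 = i' → j % 3 = j' →
          ρ (a ^ i * b ^ j) m = ρ (a ^ i' * b ^ j') m := by
        rintro i j _ _ rfl rfl
        conv_lhs => rw [← Nat.mod_add_div i 3, ← Nat.mod_add_div j 3, pow_add, pow_add, pow_mul,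
          pow_mul, h3 a haA, h3 b hbA, one_pow, one_pow, mul_one, mul_one]
      let T : ℕ → ℕ → M := fun i j => ρ (a ^ i * b ^ j) m
      have hT0 : T 0 0 = m := by simp [T]
      have e : m + ρ a m + ρ (a * a) m + ρ b m + ρ (b * b) m + ρ (a * b) m +
          ρ (a * b * (a * b)) m + ρ (a * b⁻¹) m + ρ (a * b⁻¹ * (a * b⁻¹)) m =
          T 0 0 + T 0 1 + T 0 2 + T 1 0 + T 1 1 + T 1 2 + T 2 0 + T 2 1 + T 2 2 := by
        have e22 : a * b * (a * b) = a ^ 2 * b ^ 2 := by
          rw [← sq, hab.mul_pow]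
        have e12 : a * b⁻¹ = a ^ 1 * b ^ 2 := by rw [pow_one, hbb, sq]
        have e24 : a * b⁻¹ * (a * b⁻¹) = a ^ 2 * (b ^ 2) ^ 2 := by
          rw [← sq, hab.inv_right.mul_pow, hbb, sq b]
        have e21 : ρ (a * b⁻¹ * (a * b⁻¹)) m = T 2 1 := by
          rw [e24, ← pow_mul]; exact hp 2 4 2 1 rfl rfl
        rw [e21, e22, e12]
        simp only [T, pow_zero, pow_one, mul_one, one_mul, map_one, Module.End.one_apply, sq]
        abel
      rw [e]
      refine hfa _ ?_ ?_
      · have hs : ∀ i j, ρ a (T i j) = T (i + 1) j := fun i j => by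
          simp only [T]; rw [← hmul, ← mul_assoc, pow_succ']
        simp only [map_add, hs]
        simp only [T, Nat.reduceAdd]
        rw [hp 3 0 0 0 rfl rfl, hp 3 1 0 1 rfl rfl, hp 3 2 0 2 rfl rfl]
        abel
      · have hs : ∀ i j, ρ b (T i j) = T i (j + 1) := fun i j => by
          simp only [T]
          rw [← hmul, ← mul_assoc, (hab.symm.pow_right i).eq, mul_assoc, pow_succ']
        simp only [map_add, hs]
        simp only [T, Nat.reduceAdd]
        rw [hp 0 3 0 0 rfl rfl, hp 1 3 1 0 rfl rfl, hp 2 3 2 0 rfl rfl]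
        abel
    rw [hsumA, add_zero, z1 a haA ha1, z1 b hbA hb1, z1 (a * b) (mul_mem haA hbA) hab1,
      z1 (a * b⁻¹) (mul_mem haA (inv_mem hbA)) hab2, ZModModule.add_self] at e1
    simp only [add_zero, zero_add, ZModModule.add_self] at e1
    exact hm e1.symm
  have hsr' : ∀ t : S, t * r = r⁻¹ * t → (r * t) * r = r⁻¹ * (r * t) := fun t ht => by
    rw [mul_assoc, ht]; group
  obtain ⟨t, htX, htt, htr, htu, hXt⟩ : ∃ t, t ∈ X ∧ t * t = 1 ∧ t * r = r⁻¹ * t ∧ t * u = u * t ∧
      ∀ x ∈ X, x = 1 ∨ x = r ∨ x = r ^ 2 ∨ x = r⁻¹ ∨ x = t ∨ x = r * t ∨ x = r ^ 2 * t ∨ x = r⁻¹ * t := by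
    set b := r * a * r⁻¹ with hbdef
    have hbA : b ∈ A := (inferInstance : A.Normal).conj_mem a haA r
    have hsri : s * r⁻¹ = r * s := by
      calc s * r⁻¹ = r * (r⁻¹ * s) * r⁻¹ := by group
        _ = r * s := by rw [← hsr]; group
    have hsb : s * b = b⁻¹ * s := by
      calc s * b = r⁻¹ * a * (s * r⁻¹) := by
            rw [hbdef, ← mul_assoc, ← mul_assoc, hsr, mul_assoc r⁻¹ s a, hsa]; group
        _ = r * (z * a) * r * s := by rw [hsri, hrinv]; group
        _ = r * a⁻¹ * (z * r) * s := by rw [hzinv a haA]; group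
        _ = (r * a⁻¹ * r⁻¹) * (z * z) * s := by rw [hz, sq]; group
        _ = b⁻¹ * s := by rw [hzz, hbdef]; group
    have hra : r * a = b * r := by rw [hbdef, inv_mul_cancel_right]
    have hrb : r * b = a⁻¹ * r := by
      rw [hbdef, ← mul_assoc, ← mul_assoc, ← sq, ← hz, hzinv a haA, hz, sq, ← mul_assoc,
        mul_inv_cancel_right]
    have sca : SemiconjBy s a a := hsa
    have scb : SemiconjBy s b b⁻¹ := hsb
    have zca : SemiconjBy z a a⁻¹ := hzinv a haA
    have zcb : SemiconjBy z b b⁻¹ := hzinv b hbA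
    have rca : SemiconjBy r a b := hra
    have rcb : SemiconjBy r b a⁻¹ := hrb
    have ha2 : a ^ 2 = a⁻¹ := eq_inv_of_mul_eq_one_left (by rw [← pow_succ]; exact h3 a haA)
    have hb2 : b ^ 2 = b⁻¹ := eq_inv_of_mul_eq_one_left (by rw [← pow_succ]; exact h3 b hbA)
    obtain ⟨i, j, rfl⟩ := hAgen u huA
    have e : ∀ (g : S), g ^ 3 = 1 → ∀ n, g ^ n = g ^ (n % 3) := fun g hg n => by
      conv_lhs => rw [← Nat.mod_add_div n 3, pow_add, pow_mul, hg, one_pow, mul_one]
    have eqv : ∀ t, t ∈ X → t * t = 1 → t * r = r⁻¹ * t → ∀ x y : S, SemiconjBy t a x →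
        SemiconjBy t b y → x ^ (i % 3) * y ^ (j % 3) = a ^ (i % 3) * b ^ (j % 3) →
        t * (a ^ i * b ^ j) = a ^ i * b ^ j * t := by
      intro t _ _ _ x y hx hy h
      rw [e a (h3 a haA) i, e b (h3 b hbA) j, ((hx.pow_right _).mul_right (hy.pow_right _)).eq, h]
    have hu' : ¬ (i % 3 = 0 ∧ j % 3 = 0) := fun h => hu1 (by
      rw [e a (h3 a haA) i, e b (h3 b hbA) j, h.1, h.2, pow_zero, pow_zero, one_mul])
    have hzsX := mul_mem hzX hsX
    have hrsX := mul_mem hrX hsX
    have hrzsX := mul_mem hrX hzsX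
    have hzs2 : z * s * (z * s) = 1 := by
      rw [mul_assoc, ← mul_assoc s z s, hsz, mul_assoc z s s, hss, mul_one, hzz]
    have hzsr : z * s * r = r⁻¹ * (z * s) := by
      rw [mul_assoc, hsr, ← mul_assoc, ← mul_assoc]
      congr 1
      exact (Commute.inv_right (show Commute z r from hzr)).eq
    have hinvol : ∀ t, t * t = 1 → t * r = r⁻¹ * t → r * t * (r * t) = 1 := fun t h1 h2 => by
      rw [mul_assoc, ← mul_assoc t r t, h2, mul_assoc, h1, mul_one, mul_inv_cancel]
    have hrr : r * r = z := (sq r).symm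
    rcases (show j % 3 = 0 ∨ (i % 3 = 0 ∧ j % 3 ≠ 0) ∨ (i % 3 = 1 ∧ j % 3 = 1) ∨
      (i % 3 = 2 ∧ j % 3 = 2) ∨ (i % 3 = 1 ∧ j % 3 = 2) ∨ (i % 3 = 2 ∧ j % 3 = 1) by omega)
      with h | h | h | h | h | h
    · refine ⟨s, hsX, hss, hsr, eqv s hsX hss hsr a b⁻¹ sca scb (by rw [h, pow_zero, pow_zero]), hXl⟩
    · refine ⟨z * s, hzsX, hzs2, hzsr, eqv _ hzsX hzs2 hzsr a⁻¹ b (zca.mul_left sca)
        (by simpa using (zcb.inv_right).mul_left scb) (by rw [h.1, pow_zero, pow_zero]), fun x hx => ?_⟩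
      rcases hXl x hx with rfl | rfl | rfl | rfl | rfl | rfl | rfl | rfl
      · exact Or.inl rfl
      · exact Or.inr (Or.inl rfl)
      · exact Or.inr (Or.inr (Or.inl rfl))
      · exact Or.inr (Or.inr (Or.inr (Or.inl rfl)))
      · exact Or.inr (Or.inr (Or.inr (Or.inr (Or.inr (Or.inr (Or.inl (by rw [← mul_assoc, hzz, one_mul])))))))
      · exact Or.inr (Or.inr (Or.inr (Or.inr (Or.inr (Or.inr (Or.inr (by
          rw [hrinv, mul_assoc r z, ← mul_assoc z z, hzz, one_mul])))))))
      · exact Or.inr (Or.inr (Or.inr (Or.inr (Or.inl rfl))))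
      · exact Or.inr (Or.inr (Or.inr (Or.inr (Or.inr (Or.inl (by rw [hrinv, mul_assoc]))))))
    all_goals first
      | (refine ⟨r * s, hrsX, hinvol s hss hsr, hsr' s hsr, eqv _ hrsX (hinvol s hss hsr) (hsr' s hsr) b a
          (rca.mul_left sca) (by simpa using (rcb.inv_right).mul_left scb) (by
            rw [h.1, h.2]; simp only [pow_one, ha2, hb2]
            first
              | exact hcomm b hbA a haA
              | exact hcomm b⁻¹ (inv_mem hbA) a⁻¹ (inv_mem haA)), fun x hx => ?_⟩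
         rcases hXl x hx with rfl | rfl | rfl | rfl | rfl | rfl | rfl | rfl
         · exact Or.inl rfl
         · exact Or.inr (Or.inl rfl)
         · exact Or.inr (Or.inr (Or.inl rfl))
         · exact Or.inr (Or.inr (Or.inr (Or.inl rfl)))
         · exact Or.inr (Or.inr (Or.inr (Or.inr (Or.inr (Or.inr (Or.inr (by rw [inv_mul_cancel_left])))))))
         · exact Or.inr (Or.inr (Or.inr (Or.inr (Or.inl rfl))))
         · exact Or.inr (Or.inr (Or.inr (Or.inr (Or.inr (Or.inl (by rw [← mul_assoc, hrr]))))))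
         · exact Or.inr (Or.inr (Or.inr (Or.inr (Or.inr (Or.inr (Or.inl (by
             rw [hrinv, ← mul_assoc z r s, hzr]))))))))
      | (refine ⟨r * (z * s), hrzsX, hinvol _ hzs2 hzsr, hsr' _ hzsr,
          eqv _ hrzsX (hinvol _ hzs2 hzsr) (hsr' _ hzsr) b⁻¹ a⁻¹
          ((rca.inv_right).mul_left (zca.mul_left sca))
          (rcb.mul_left (by simpa using (zcb.inv_right).mul_left scb)) (by
            rw [h.1, h.2]; simp only [pow_one, ha2, hb2]
            first
              | (rw [inv_pow]; simp only [ha2, hb2, inv_inv]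
                 first
                  | exact hcomm b⁻¹ (inv_mem hbA) a haA
                  | exact hcomm b hbA a⁻¹ (inv_mem haA))), fun x hx => ?_⟩
         have hrzs : r * (z * s) = r⁻¹ * s := by rw [hrinv, mul_assoc]
         rcases hXl x hx with rfl | rfl | rfl | rfl | rfl | rfl | rfl | rfl
         · exact Or.inl rfl
         · exact Or.inr (Or.inl rfl)
         · exact Or.inr (Or.inr (Or.inl rfl))
         · exact Or.inr (Or.inr (Or.inr (Or.inl rfl)))
         · exact Or.inr (Or.inr (Or.inr (Or.inr (Or.inr (Or.inl (by rw [hrzs, mul_inv_cancel_left]))))))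
         · exact Or.inr (Or.inr (Or.inr (Or.inr (Or.inr (Or.inr (Or.inl (by
             rw [hrzs, ← mul_assoc, sq, mul_inv_cancel_right])))))))
         · exact Or.inr (Or.inr (Or.inr (Or.inr (Or.inr (Or.inr (Or.inr (by rw [inv_mul_cancel_left])))))))
         · exact Or.inr (Or.inr (Or.inr (Or.inr (Or.inl hrzs.symm)))))
  have hub : r * u * r⁻¹ ∉ Subgroup.zpowers u := by
    intro hmem
    obtain ⟨n, hn⟩ := hmem
    simp only at hn
    have h4 : t * r⁻¹ = r * t := by
      calc t * r⁻¹ = r * (r⁻¹ * t) * r⁻¹ := by group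
        _ = r * t := by rw [← htr]; group
    have htb : t * (r * u * r⁻¹) = (r * u * r⁻¹)⁻¹ * t := by
      calc t * (r * u * r⁻¹) = r⁻¹ * u * (t * r⁻¹) := by
            rw [← mul_assoc, ← mul_assoc, htr, mul_assoc r⁻¹ t u, htu]; group
        _ = r * (z * u) * r * t := by rw [h4, hrinv]; group
        _ = r * u⁻¹ * (z * r) * t := by rw [hzinv u huA]; group
        _ = (r * u⁻¹ * r⁻¹) * (z * z) * t := by rw [hz, sq]; group
        _ = (r * u * r⁻¹)⁻¹ * t := by rw [hzz]; group
    rw [← hn, ((show Commute t u from htu).zpow_right n).eq] at htb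
    have h2 : u ^ n = (u ^ n)⁻¹ := mul_right_cancel htb
    have h6 : u ^ n = 1 := by
      have h5 := h3 _ (zpow_mem huA n)
      rw [pow_succ, sq] at h5
      nth_rw 2 [h2] at h5
      rwa [mul_inv_cancel, one_mul] at h5
    rw [h6] at hn
    exact hu1 (conj_eq_one_iff.1 hn.symm)
  exact config A X hAX ρ hirr hA0 hrX htX hr4 hr2 htt htr hXt huA (h3 u huA)
    (hsub u huA hu1 _ ((inferInstance : A.Normal).conj_mem u huA r) hub) hcomm hzinv htu hv huv


/-- Let S be a finite group with a normal elementary abelian subgroup A of order 9 that is self-centralizing (C_S(A) = A), and a dihedral subgroup X of order 8 with S = AX. Let M be a finite-dimensional module for S over the field with two elements that is faithful and irreducible. Then M has 16 elements, and X contains exactly one subgroup B of order 4 and exponent 2 whose fixed points on M form a subspace with exactly 2 elements (equivalently, M is free of rank one over the group algebra of B). -/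
theorem result {S : Type*} [Group S] [Finite S]
    (A : Subgroup S) [A.Normal] (hA : Cfsg.IsElementaryAbelian 3 A) (hA9 : Nat.card ↥A = 9)
    (hAC : Subgroup.centralizer (A : Set S) = A) (X : Subgroup S) (hX : Nonempty (↥X ≃* DihedralGroup 4)) (hAX : A ⊔ X = ⊤)
    {M : Type*} [AddCommGroup M] [Module (ZMod 2) M] [Finite M] (ρ : Representation (ZMod 2) S M)
    (hfaith : Function.Injective ρ)
    (hirr : ∀ N : Submodule (ZMod 2) M, (∀ s : S, ∀ m ∈ N, ρ s m ∈ N) → N = ⊥ ∨ N = ⊤) (hM : Nontrivial M) :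
    Nat.card M = 16 ∧
      ∃! B : Subgroup S, B ≤ X ∧ Nat.card ↥B = 4 ∧ (∀ b ∈ B, b ^ 2 = 1) ∧
        Nat.card {m : M // ∀ b ∈ B, ρ b m = m} = 2 := by
  exact main A hA hA9 hAC X hX hAX ρ hfaith hirr hM

end Cfsg.Agent.S4407
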