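import Cfsg.Statements.S4408
import Cfsg.Agent.Cores.Fitting
import Cfsg.Agent.Coprime.Basic
import Cfsg.Agent.Coprime.Centralize
import Cfsg.Agent.H92.Odd
import Cfsg.Agent.H41.Nilpotent

set_option autoImplicit false
open Cfsg

namespace Cfsg.Agent.S4408

set_option maxHeartbeats 400000

open Subgroup Cfsg.Agent

variable {S : Type*} [Group S]

theorem fix_iff {k d : S} (hk : k * k = 1) : k * d * k = d ↔ k * d = d * k := by
  constructor
  · intro h
    calc k * d = k * d * k * k := by rw [mul_assoc (k * d), hk, mul_one]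
      _ = d * k := by rw [h]
  · intro h
    rw [h, mul_assoc, hk, mul_one]

theorem le_normalizer_of_conj {I D : Subgroup S} (hI2 : ∀ a ∈ I, a * a = 1)
    (h : ∀ a ∈ I, ∀ d ∈ D, a * d * a ∈ D) : I ≤ normalizer (D : Set S) := by
  intro a ha
  have ha' : a⁻¹ = a := inv_eq_of_mul_eq_one_left (hI2 a ha)
  rw [mem_normalizer_iff]
  intro d
  rw [ha']
  refine ⟨h a ha d, fun hd => ?_⟩
  have := h a ha _ hd
  simpa [mul_assoc, ← mul_assoc a a, hI2 a ha] using this

theorem conj_mem {I D : Subgroup S} (hI2 : ∀ a ∈ I, a * a = 1)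
    (hID : I ≤ normalizer (D : Set S)) {a d : S} (ha : a ∈ I) (hd : d ∈ D) : a * d * a ∈ D := by
  have := (mem_normalizer_iff.mp (hID ha) d).mp hd
  rwa [inv_eq_of_mul_eq_one_left (hI2 a ha)] at this

theorem eigen [Finite S] {K I J : Subgroup S} (hK : Odd (Nat.card K))
    (hI2 : ∀ a ∈ I, a * a = 1) (hIc : ∀ a ∈ I, ∀ b ∈ I, a * b = b * a) (hJ : J ≤ I)
    (hIK : I ≤ normalizer (K : Set S)) (hne : ¬ J ≤ centralizer (K : Set S)) :
    ∃ x ∈ K, (orderOf x).Prime ∧ (∃ j ∈ J, j * x * j = x⁻¹) ∧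
      ∀ k ∈ I, k * x * k = x ∨ k * x * k = x⁻¹ := by
  classical
  obtain ⟨D, ⟨hDK, hID, hDne⟩, hmin⟩ := wellFounded_lt.has_min
    {D : Subgroup S | D ≤ K ∧ I ≤ normalizer (D : Set S) ∧ ¬ J ≤ centralizer (D : Set S)}
    ⟨K, le_rfl, hIK, hne⟩
  obtain ⟨j, hjJ, hjD⟩ := SetLike.not_le_iff_exists.mp hDne
  rw [mem_centralizer_iff] at hjD
  push_neg at hjD
  obtain ⟨d₀, hd₀, hjd₀⟩ := hjD
  have hj2 := hI2 j (hJ hjJ)
  have hjd : j * d₀ * j ≠ d₀ := fun h => hjd₀ ((fix_iff hj2).mp h).symm
  have hD : Odd (Nat.card D) := hK.of_dvd_nat (card_dvd_of_le hDK)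
  have hfix : ∀ k ∈ I, (∀ d ∈ D, k * d * k = d) ∨ ∀ d ∈ D, k * d * k = d → j * d * j = d := by
    intro k hk
    set E := D ⊓ centralizer ({k} : Set S) with hE
    by_cases hEq : E = D
    · refine Or.inl fun d hd => (fix_iff (hI2 k hk)).mpr ?_
      rw [← hEq] at hd
      exact (mem_centralizer_iff.mp hd.2 k rfl)
    refine Or.inr fun d hd hkd => ?_
    have hlt : E < D := lt_of_le_of_ne inf_le_left hEq
    have hIE : I ≤ normalizer (E : Set S) := le_normalizer_of_conj hI2 fun a ha e he => by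
      refine ⟨conj_mem hI2 hID ha he.1, mem_centralizer_iff.mpr fun z hz => ?_⟩
      rw [Set.mem_singleton_iff.mp hz]
      have h1 := mem_centralizer_iff.mp he.2 k rfl
      calc k * (a * e * a) = a * (k * e) * a := by rw [← mul_assoc, ← mul_assoc, hIc k hk a ha]; group
        _ = a * e * (k * a) := by rw [h1]; group
        _ = a * e * a * k := by rw [hIc k hk a ha]; group
    have hJE : J ≤ centralizer (E : Set S) := by
      by_contra h
      exact hmin E ⟨hlt.le.trans hDK, hIE, h⟩ hlt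
    have hdE : d ∈ E := ⟨hd, mem_centralizer_iff.mpr fun x hx => by
      rw [Set.mem_singleton_iff.mp hx]; exact (fix_iff (hI2 k hk)).mp hkd⟩
    exact (fix_iff hj2).mpr (mem_centralizer_iff.mp (hJE hjJ) d hdE).symm
  have hall : ∀ k ∈ I, (∀ d ∈ D, k * d * k = d) ∨ ∀ d ∈ D, k * d * k = j * d * j := by
    intro k hk
    rcases hfix k hk with h1 | h1
    · exact Or.inl h1
    have hkj := hIc k hk j (hJ hjJ)
    have e : ∀ d, (k * j) * d * (k * j) = k * (j * d * j) * k := fun d => by
      calc (k * j) * d * (k * j) = (k * j) * d * (j * k) := by rw [hkj]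
        _ = k * (j * d * j) * k := by group
    rcases hfix (k * j) (I.mul_mem hk (hJ hjJ)) with h2 | h2
    · refine Or.inr fun d hd => ?_
      have h3 := h2 d hd
      rw [e] at h3
      conv_lhs => rw [← h3]
      simp only [mul_assoc]
      rw [hI2 k hk, mul_one, ← mul_assoc k k, hI2 k hk, one_mul]
    · exact absurd (H92.commute_of_fours hD (hI2 k hk) hj2 hkj
        (fun d hd => conj_mem hI2 hID hk hd) (fun d hd => conj_mem hI2 hID (hJ hjJ) hd) h1 h2 d₀ hd₀)
        hjd
  set y := d₀⁻¹ * (j * d₀ * j) with hy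
  have hyD : y ∈ D := D.mul_mem (D.inv_mem hd₀) (conj_mem hI2 hID (hJ hjJ) hd₀)
  have hy1 : y ≠ 1 := fun h => hjd (inv_mul_eq_one.mp h).symm
  have hj' : j⁻¹ = j := inv_eq_of_mul_eq_one_left hj2
  have hjy : j * y * j = y⁻¹ := by
    simp [hy, mul_assoc, ← mul_assoc j j, hj2, hj']
  have ho : 1 < orderOf y := lt_of_le_of_ne (orderOf_pos y) fun h => hy1 (orderOf_eq_one_iff.mp h.symm)
  have hp := Nat.minFac_prime ho.ne'
  set x := y ^ (orderOf y / (orderOf y).minFac) with hx
  have hxo : orderOf x = (orderOf y).minFac :=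
    orderOf_pow_orderOf_div (orderOf_pos y).ne' (Nat.minFac_dvd _)
  have hjx : j * x * j = x⁻¹ := by
    have := conj_pow (i := orderOf y / (orderOf y).minFac) (a := j) (b := y)
    rw [hj', hjy, inv_pow] at this
    exact this.symm
  have hxD : x ∈ D := D.pow_mem hyD _
  refine ⟨x, hDK hxD, hxo ▸ hp, ⟨j, hjJ, hjx⟩, fun k hk => ?_⟩
  rcases hall k hk with h | h
  · exact Or.inl (h x hxD)
  · exact Or.inr ((h x hxD).trans hjx)

theorem main [Finite S] {I : Subgroup S} (hI2 : ∀ a ∈ I, a * a = 1)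
    (hIc : ∀ a ∈ I, ∀ b ∈ I, a * b = b * a) : ∀ (m : ℕ) (K J : Subgroup S),
    Group.IsNilpotent K → Odd (Nat.card K) → I ≤ normalizer (K : Set S) → J ≤ I →
    J ⊓ centralizer (K : Set S) = ⊥ → Nat.card J = 2 ^ m →
    ∃ f : Fin m → Subgroup S, (∀ i, (Nat.card (f i)).Prime) ∧ (∀ i, f i ≤ K) ∧
      (∀ i, I ≤ normalizer (f i : Set S)) ∧
      (∀ i j, i ≠ j → ∀ a ∈ f i, ∀ b ∈ f j, a * b = b * a) ∧
      Nat.card ↥(⨆ i, f i) = ∏ i, Nat.card (f i) ∧
      J ⊓ centralizer ((⨆ i, f i : Subgroup S) : Set S) = ⊥ ∧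
      (⨆ i, f i : Subgroup S) ⊓ centralizer (J : Set S) = ⊥ := by
  intro m
  induction m with
  | zero =>
    intro K J _ _ _ _ _ hJ
    have hJ' : J = ⊥ := Subgroup.card_eq_one.mp (by simpa using hJ)
    refine ⟨Fin.elim0, fun i => i.elim0, fun i => i.elim0, fun i => i.elim0, fun i => i.elim0,
      ?_, ?_, ?_⟩
    · simp
    · simp [hJ']
    · simp
  | succ m IH =>
    intro K J hnil hK hIK hJI hfaith hJ
    haveI := hnil
    have hne : ¬ J ≤ centralizer (K : Set S) := fun h => by
      rw [inf_eq_left.mpr h] at hfaith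
      rw [hfaith, Subgroup.card_bot] at hJ
      exact absurd hJ (Nat.one_lt_pow (Nat.succ_ne_zero m) one_lt_two).ne
    obtain ⟨x, hxK, hxp, ⟨j, hjJ, hjx⟩, hIx⟩ := eigen hK hI2 hIc hJI hIK hne
    haveI := Fact.mk hxp
    have hx1 : x ≠ 1 := fun h => by rw [h, orderOf_one] at hxp; exact Nat.not_prime_one hxp
    have hxodd : Odd (orderOf x) := hK.of_dvd_nat (by
      rw [← Nat.card_zpowers]; exact card_dvd_of_le (zpowers_le.mpr hxK))
    have hxinv : x⁻¹ ≠ x := fun h => hx1 (H92.eq_one_of_sq_eq_one_odd hK hxK (by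
      conv_lhs => arg 1; rw [← h]
      exact inv_mul_cancel x))
    set J₁ := J ⊓ centralizer ({x} : Set S) with hJ₁
    have hmemJ : ∀ {t}, t ∈ J → (t ∈ J₁ ↔ t * x * t = x) := by
      intro t ht
      rw [fix_iff (hI2 t (hJI ht))]
      exact ⟨fun h => (mem_centralizer_iff.mp h.2 x rfl).symm,
        fun h => ⟨ht, mem_centralizer_iff.mpr fun z hz => by rw [Set.mem_singleton_iff.mp hz]; exact h.symm⟩⟩
    have hjJ₁ : j ∉ J₁ := fun h => hxinv (by rw [← hjx]; exact (hmemJ hjJ).mp h)
    have hidx : (J₁.subgroupOf J).index = 2 := by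
      rw [index_eq_two_iff]
      refine ⟨⟨j, hjJ⟩, fun b => ?_⟩
      simp only [mem_subgroupOf, Subgroup.coe_mul]
      by_cases hb : (b : S) ∈ J₁
      · exact Or.inr ⟨hb, fun h => hjJ₁ (by simpa using J₁.mul_mem (J₁.inv_mem hb) h)⟩
      · refine Or.inl ⟨(hmemJ (J.mul_mem b.2 hjJ)).mpr ?_, hb⟩
        have hbx : (b : S) * x * b = x⁻¹ :=
          (hIx b (hJI b.2)).resolve_left fun h => hb ((hmemJ b.2).mpr h)
        have hb2 := hI2 b (hJI b.2)
        calc (b : S) * j * x * (b * j) = b * j * x * (j * b) := by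
              rw [hIc b (hJI b.2) j (hJI hjJ)]
          _ = b * (j * x * j) * b := by group
          _ = b * x⁻¹ * b := by rw [hjx]
          _ = ((b : S) * x * b)⁻¹ := by
              rw [mul_inv_rev, mul_inv_rev, inv_eq_of_mul_eq_one_left hb2, mul_assoc]
          _ = x := by rw [hbx, inv_inv]
    have hJ₁c : Nat.card J₁ = 2 ^ m := by
      have h := card_mul_index (J₁.subgroupOf J)
      rw [hidx, Nat.card_congr (subgroupOfEquivOfLe (inf_le_left : J₁ ≤ J)).toEquiv, hJ,
        pow_succ] at h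
      exact Nat.eq_of_mul_eq_mul_right two_pos h
    set K₁ := K ⊓ centralizer ({x} : Set S) with hK₁
    have hnil₁ : Group.IsNilpotent K₁ := Group.nilpotent_of_surjective
      (subgroupOfEquivOfLe (inf_le_left : K₁ ≤ K)).toMonoidHom
      (subgroupOfEquivOfLe (inf_le_left : K₁ ≤ K)).surjective
    have hIK₁ : I ≤ normalizer (K₁ : Set S) := le_normalizer_of_conj hI2 fun a ha d hd => by
      refine ⟨conj_mem hI2 hIK ha hd.1, mem_centralizer_iff.mpr ?_⟩
      intro z hz
      rw [Set.mem_singleton_iff.mp hz]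
      have hc : Commute (a * x * a) (a * d * a) := by
        have hdx := mem_centralizer_iff.mp hd.2 x rfl
        have e : ∀ u v, (a * u * a) * (a * v * a) = a * (u * v) * a := fun u v => by
          simp [mul_assoc, ← mul_assoc a a, hI2 a ha]
        change a * x * a * (a * d * a) = a * d * a * (a * x * a)
        rw [e, e, hdx]
      rcases hIx a ha with h | h <;> rw [h] at hc
      · exact hc.eq
      · exact (Commute.inv_left_iff.mp hc).eq
    have hfaith₁ : J₁ ⊓ centralizer (K₁ : Set S) = ⊥ := by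
      rw [eq_bot_iff, ← hfaith]
      rintro t ⟨ht, htK₁⟩
      refine ⟨ht.1, mem_centralizer_iff.mpr fun a ha => ?_⟩
      have htop : (centralizer ({t} : Set S)).subgroupOf K = ⊤ := by
        refine Cores.eq_top_of_sylow_le fun q _ P => ?_
        intro b hb
        rw [mem_subgroupOf, mem_centralizer_iff]
        intro z hz
        rw [Set.mem_singleton_iff.mp hz]
        set P' := (P : Subgroup K).map K.subtype with hP'
        have hP'p : IsPGroup q P' := P.isPGroup'.map _
        by_cases hqp : q = orderOf x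
        · subst hqp
          have hmem : ∀ c ∈ K, ∀ e : ℕ, c ^ (orderOf x) ^ e = 1 → c ∈ P' := by
            intro c hc e he
            have hcp : IsPGroup (orderOf x) (zpowers (⟨c, hc⟩ : K)) := by
              obtain ⟨l, -, hl⟩ := (Nat.dvd_prime_pow hxp).mp
                (orderOf_dvd_of_pow_eq_one (x := (⟨c, hc⟩ : K)) (Subtype.ext he))
              exact IsPGroup.of_card (n := l) (by rw [Nat.card_zpowers, hl])
            obtain ⟨P₁, hP₁⟩ := hcp.exists_le_sylow
            letI : Unique (Sylow (orderOf x) K) := Sylow.unique_of_normal P inferInstance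
            exact ⟨⟨c, hc⟩, by rw [Subsingleton.elim P P₁]; exact hP₁ (mem_zpowers _), rfl⟩
          have hnorm : ∀ g ∈ normalizer (K : Set S), g ∈ normalizer (P' : Set S) := by
            have : ∀ g ∈ normalizer (K : Set S), ∀ c ∈ P', g * c * g⁻¹ ∈ P' := by
              intro g hg c hc
              obtain ⟨e, he⟩ := hP'p ⟨c, hc⟩
              refine hmem _ ((mem_normalizer_iff.mp hg c).mp (map_subtype_le _ hc)) e ?_
              rw [conj_pow, show c ^ (orderOf x) ^ e = 1 from congrArg Subtype.val he, mul_one,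
                mul_inv_cancel]
            intro g hg
            refine mem_normalizer_iff.mpr fun c => ⟨this g hg c, fun hc => ?_⟩
            have := this g⁻¹ (inv_mem hg) _ hc
            simpa [mul_assoc] using this
          have htx : Commute x t := mem_centralizer_iff.mp ht.2 x rfl
          have ht2 := hI2 t (hJI ht.1)
          have hAB := Coprime.thompson_AxB (p := orderOf x) (P := zpowers x) (Q := zpowers t)
            (IsPGroup.of_card (n := 1) (by rw [Nat.card_zpowers, pow_one]))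
            (by
              rw [Nat.card_zpowers]
              exact Nat.Coprime.coprime_dvd_left
                (orderOf_dvd_of_pow_eq_one (by rw [pow_two]; exact ht2))
                ((Nat.coprime_two_left).mpr hxodd))
            (zpowers_le.mpr (mem_centralizer_iff.mpr fun z hz => by
              obtain ⟨i, rfl⟩ := mem_zpowers_iff.mp hz
              exact (htx.zpow_right i).eq.symm))
            P' hP'p (zpowers_le.mpr (hnorm x (le_normalizer hxK)))
            (zpowers_le.mpr (hnorm t (hIK (hJI ht.1))))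
            (by
              rintro c ⟨hc, hcx⟩
              rw [mem_centralizer_iff]
              intro z hz
              obtain ⟨i, rfl⟩ := mem_zpowers_iff.mp hz
              have hct : Commute c t := mem_centralizer_iff.mp htK₁ c ⟨map_subtype_le _ hc,
                mem_centralizer_iff.mpr fun w hw => by
                  rw [Set.mem_singleton_iff.mp hw]
                  exact mem_centralizer_iff.mp hcx x (mem_zpowers x)⟩
              exact (hct.zpow_right i).eq.symm)
          exact (mem_centralizer_iff.mp (hAB (mem_zpowers t)) b ⟨b, hb, rfl⟩).symm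
        · refine (mem_centralizer_iff.mp htK₁ (b : S) ⟨b.2, mem_centralizer_iff.mpr fun w hw => ?_⟩).symm
          rw [Set.mem_singleton_iff.mp hw]
          refine H41.commute_of_coprime_of_isNilpotent hnil hxK b.2 ?_
          obtain ⟨l, hl⟩ := IsPGroup.iff_orderOf.mp P.isPGroup' ⟨b, hb⟩
          rw [Subgroup.orderOf_coe, ← Subgroup.orderOf_mk _ hb, hl]
          exact ((Nat.coprime_primes hxp Fact.out).mpr (Ne.symm hqp)).pow_right l
      have h := mem_subgroupOf.mp (htop ▸ mem_top (⟨a, ha⟩ : K))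
      exact (mem_centralizer_iff.mp h t rfl).symm
    obtain ⟨f, hfp, hfK, hfI, hfc, hfcard, hfJ, hfR⟩ := IH K₁ J₁ hnil₁
      (hK.of_dvd_nat (card_dvd_of_le inf_le_left)) hIK₁ (inf_le_left.trans hJI) hfaith₁ hJ₁c
    set R := (⨆ i, f i : Subgroup S) with hR
    have hRx : ∀ a ∈ R, Commute x a := fun a ha =>
      mem_centralizer_iff.mp ((iSup_le hfK : R ≤ K₁) ha).2 x rfl
    have hxR : zpowers x ≤ normalizer (R : Set S) := by
      refine zpowers_le.mpr (centralizer_le_normalizer _ ?_)
      exact mem_centralizer_iff.mpr fun a ha => (hRx a ha).eq.symm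
    have hxJ₁ : ∀ t ∈ J₁, ∀ i : ℤ, Commute t (x ^ i) := fun t ht i =>
      Commute.zpow_right (show Commute t x from (mem_centralizer_iff.mp ht.2 x rfl).symm) i
    have hd : R ⊓ zpowers x = ⊥ := by
      rw [eq_bot_iff, ← hfR]
      rintro a ⟨ha, hax⟩
      obtain ⟨i, rfl⟩ := mem_zpowers_iff.mp hax
      exact ⟨ha, mem_centralizer_iff.mpr fun t ht => (hxJ₁ t ht i).eq⟩
    have hsup : (⨆ i, (Fin.cons (zpowers x) f : Fin (m + 1) → Subgroup S) i) = R ⊔ zpowers x := by
      set g : Fin (m + 1) → Subgroup S := Fin.cons (zpowers x) f with hg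
      have e0 : g 0 = zpowers x := Fin.cons_zero _ _
      have e1 : ∀ i, g (Fin.succ i) = f i := fun i => Fin.cons_succ _ _ i
      apply le_antisymm
      · refine iSup_le fun i => ?_
        rcases Fin.eq_zero_or_eq_succ i with rfl | ⟨k, rfl⟩
        · rw [e0]; exact le_sup_right
        · rw [e1, hR]; exact le_sup_of_le_left (le_iSup f k)
      · rw [hR]
        refine sup_le (iSup_le fun i => ?_) ?_
        · rw [← e1]; exact le_iSup g i.succ
        · rw [← e0]; exact le_iSup g 0
    refine ⟨Fin.cons (zpowers x) f, ?_, ?_, ?_, ?_, ?_, ?_, ?_⟩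
    · intro i
      rcases Fin.eq_zero_or_eq_succ i with rfl | ⟨k, rfl⟩
      · rw [Fin.cons_zero, Nat.card_zpowers]; exact hxp
      · rw [Fin.cons_succ]; exact hfp k
    · intro i
      rcases Fin.eq_zero_or_eq_succ i with rfl | ⟨k, rfl⟩
      · rw [Fin.cons_zero]; exact zpowers_le.mpr hxK
      · rw [Fin.cons_succ]; exact (hfK k).trans inf_le_left
    · intro i
      rcases Fin.eq_zero_or_eq_succ i with rfl | ⟨k, rfl⟩
      · rw [Fin.cons_zero]
        refine le_normalizer_of_conj hI2 fun a ha d hd' => ?_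
        obtain ⟨l, rfl⟩ := mem_zpowers_iff.mp hd'
        have h := conj_zpow (i := l) (a := a) (b := x)
        rw [inv_eq_of_mul_eq_one_left (hI2 a ha)] at h
        rw [← h]
        refine zpow_mem ?_ l
        rcases hIx a ha with hh | hh <;> rw [hh]
        · exact mem_zpowers x
        · exact inv_mem (mem_zpowers x)
      · rw [Fin.cons_succ]; exact hfI k
    · intro i i' hii a ha b hb
      rcases Fin.eq_zero_or_eq_succ i with rfl | ⟨k, rfl⟩ <;>
        rcases Fin.eq_zero_or_eq_succ i' with rfl | ⟨k', rfl⟩ <;>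
        simp only [Fin.cons_zero, Fin.cons_succ] at ha hb
      · exact absurd rfl hii
      · obtain ⟨l, rfl⟩ := mem_zpowers_iff.mp ha
        exact ((hRx b (le_iSup f k' hb)).zpow_left l).eq
      · obtain ⟨l, rfl⟩ := mem_zpowers_iff.mp hb
        exact ((hRx a (le_iSup f k ha)).zpow_left l).eq.symm
      · exact hfc k k' (fun h => hii (by rw [h])) a ha b hb
    · rw [hsup, Coprime.card_sup hxR hd, hfcard, Fin.prod_univ_succ]
      simp only [Fin.cons_zero, Fin.cons_succ, mul_comm]
    · rw [hsup, eq_bot_iff, ← hfJ]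
      rintro t ⟨ht, htc⟩
      exact ⟨⟨ht, mem_centralizer_iff.mpr fun z hz => by
          rw [Set.mem_singleton_iff.mp hz]
          exact mem_centralizer_iff.mp htc x (mem_sup_right (mem_zpowers x))⟩,
        mem_centralizer_iff.mpr fun a ha => mem_centralizer_iff.mp htc a (mem_sup_left ha)⟩
    · rw [hsup, eq_bot_iff]
      rintro r ⟨hr, hrJ⟩
      replace hr : r ∈ ((R ⊔ zpowers x : Subgroup S) : Set S) := hr
      rw [coe_mul_of_right_le_normalizer_left R _ hxR, Set.mem_mul] at hr
      obtain ⟨a, ha, b, hb, rfl⟩ := hr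
      obtain ⟨i, rfl⟩ := mem_zpowers_iff.mp hb
      have ha1 : a = 1 := by
        have : a ∈ R ⊓ centralizer (J₁ : Set S) := ⟨ha, mem_centralizer_iff.mpr fun t ht => by
          have h : Commute t (a * x ^ i) := mem_centralizer_iff.mp hrJ t ht.1
          have h2 := h.mul_right (hxJ₁ t ht i).inv_right
          rw [mul_inv_cancel_right] at h2
          exact h2.eq⟩
        rwa [hfR] at this
      subst ha1
      rw [one_mul] at hrJ ⊢
      have h : j * x ^ i * j = x ^ i :=
        (fix_iff (hI2 j (hJI hjJ))).mpr (mem_centralizer_iff.mp hrJ j hjJ)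
      have h' := conj_zpow (i := i) (a := j) (b := x)
      rw [inv_eq_of_mul_eq_one_left (hI2 j (hJI hjJ)), hjx, h, inv_zpow] at h'
      exact H92.eq_one_of_sq_eq_one_odd hK (K.zpow_mem hxK i) (mul_eq_one_iff_eq_inv.mpr h'.symm)

/-- Let S be a finite solvable group whose Fitting subgroup F(S) has odd order, and let I be an elementary abelian 2-subgroup of S of order 2ⁿ with n ≥ 1. Then F(S) contains subgroups A₁, …, Aₙ of prime order, each normalized by I, pairwise commuting and generating a subgroup A of order |A₁|⋯|Aₙ| (their internal direct product), such that no non-identity element of I centralizes A. -/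
theorem result {S : Type*} [Group S] [Finite S]
    [Group.IsSolvable S] (hF : Odd (Nat.card ↥(Cfsg.fittingSubgroup S)))
    (I : Subgroup S) (hI : Cfsg.IsElementaryAbelian 2 I) (n : ℕ) (hn : 1 ≤ n) (hIn : Nat.card ↥I = 2 ^ n) :
    ∃ f : Fin n → Subgroup S, (∀ i, (Nat.card ↥(f i)).Prime) ∧ (∀ i, f i ≤ Cfsg.fittingSubgroup S) ∧
      (∀ i, I ≤ Subgroup.normalizer ((f i) : Set S)) ∧ (∀ i j, i ≠ j → ∀ a ∈ f i, ∀ b ∈ f j, a * b = b * a) ∧
      Nat.card ↥(⨆ i, f i) = ∏ i, Nat.card ↥(f i) ∧ I ⊓ Subgroup.centralizer ((⨆ i, f i : Subgroup S) : Set S) = ⊥ := by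
  obtain ⟨hc, h2⟩ := hI
  have hI2 : ∀ a ∈ I, a * a = 1 := fun a ha => by rw [← pow_two]; exact h2 a ha
  have hIc : ∀ a ∈ I, ∀ b ∈ I, a * b = b * a := fun a ha b hb =>
    congrArg Subtype.val (hc.is_comm.comm (⟨a, ha⟩ : I) ⟨b, hb⟩)
  have hfaith : I ⊓ centralizer (Cfsg.fittingSubgroup S : Set S) = ⊥ := by
    rw [eq_bot_iff]
    rintro t ⟨ht, htc⟩
    exact H92.eq_one_of_sq_eq_one_odd hF (Cores.centralizer_fittingSubgroup_le htc) (hI2 t ht)
  obtain ⟨f, h1, h2, h3, h4, h5, h6, -⟩ := main hI2 hIc n (Cfsg.fittingSubgroup S) I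
    Cores.fittingSubgroup_isNilpotent hF (by rw [normalizer_eq_top]; exact le_top) le_rfl hfaith hIn
  exact ⟨f, h1, h2, h3, h4, h5, h6⟩

end Cfsg.Agent.S4408
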