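import Cfsg.Statements.S4409
import Cfsg.Agent.Cores.MinimalEight

set_option autoImplicit false
open Cfsg

namespace Cfsg.Agent.S4409

open Subgroup Cores.NoAbelianEight
open scoped commutatorElement

/-- The free elementary abelian subgroups have order at most 4. -/
theorem card_le_four {G : Type*} [Group G] [Finite G] {P : Subgroup G} (hP : IsPGroup 2 ↥P)
    (hfree : Free P) (hsq : ∀ f ∈ P, f ^ 2 = 1) (hc : ∀ f ∈ P, ∀ g ∈ P, f * g = g * f) :
    Nat.card ↥P ≤ 4 := by
  haveI : Fact (Nat.Prime 2) := ⟨Nat.prime_two⟩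
  obtain ⟨m, hm⟩ := hP.exists_card_eq
  rw [hm]
  by_contra h
  have h3 : 3 ≤ m := by
    by_contra hh
    exact h ((Nat.pow_le_pow_right (by norm_num) (by omega : m ≤ 2)).trans (by norm_num))
  obtain ⟨W, hW, -⟩ := Sylow.exists_subgroup_card_pow_prime_le (G := ↥P) 2 (m := 3) (n := 0)
    (hm ▸ pow_dvd_pow 2 h3) ⊥ (by simp) (by omega)
  have hWle : W.map P.subtype ≤ P := map_subtype_le _
  have hcard : Nat.card ↥(W.map P.subtype) = 8 := by
    rw [card_map_of_injective P.subtype_injective, hW]; norm_num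
  refine hfree ⟨W.map P.subtype, hWle,
    ⟨⟨fun a b => Subtype.ext (hc a (hWle a.2) b (hWle b.2))⟩⟩, fun hcyc => ?_, hcard⟩
  obtain ⟨g, hg⟩ := hcyc.exists_generator
  have hgo : orderOf g = 8 := by rw [orderOf_eq_card_of_forall_mem_zpowers hg, hcard]
  have h2 : orderOf g ∣ 2 := orderOf_dvd_of_pow_eq_one (Subtype.ext (hsq _ (hWle g.2)))
  rw [hgo] at h2
  norm_num at h2

/-- Let S be a finite solvable group with O_{2'}(S) = 1 that contains a non-cyclic abelian subgroup of order 8, while no proper subgroup of S of 2-power index contains one. Then a Sylow 2-subgroup X of S is normal in S, and one of the following holds: X is abelian; X is extraspecial of order at least 32; X has a generalized quaternion subgroup X₀ of index 2 with X = X₀·C_X(X₀); or X is special with centre of order 4. -/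
theorem result {S : Type*} [Group S] [Finite S]
    [Group.IsSolvable S] (hO : Cfsg.pPrimeCore 2 S = ⊥)
    (h8 : ∃ A : Subgroup S, IsMulCommutative ↥A ∧ ¬ IsCyclic ↥A ∧ Nat.card ↥A = 8)
    (hmin : ∀ R : Subgroup S, R ≠ ⊤ → (∃ k : ℕ, R.index = 2 ^ k) →
      ¬ ∃ A : Subgroup S, A ≤ R ∧ IsMulCommutative ↥A ∧ ¬ IsCyclic ↥A ∧ Nat.card ↥A = 8)
    (X : Sylow 2 S) :
    (X : Subgroup S).Normal ∧
      (IsMulCommutative ↥X ∨
        (Cfsg.IsExtraspecial 2 ↥X ∧ 32 ≤ Nat.card ↥X) ∨
        (∃ (X₀ : Subgroup S) (k : ℕ), X₀ ≤ (X : Subgroup S) ∧ X₀.relIndex (X : Subgroup S) = 2 ∧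
          Nonempty (↥X₀ ≃* QuaternionGroup (2 ^ (k + 1))) ∧ X₀ ⊔ ((X : Subgroup S) ⊓ Subgroup.centralizer (X₀ : Set S)) = (X : Subgroup S)) ∨
        (Cfsg.IsSpecial 2 ↥X ∧ Nat.card ↥(Subgroup.center ↥X) = 4)) := by
  classical
  haveI : Fact (Nat.Prime 2) := ⟨Nat.prime_two⟩
  obtain ⟨A, hAc, hAn, hA8⟩ := h8
  have hA2 : IsPGroup 2 ↥A := IsPGroup.of_card (n := 3) (by rw [hA8]; norm_num)
  have hps : Cfsg.IsPSolvable 2 S := Cores.isPSolvable_of_isSolvable
  have hCQ := Cores.centralizer_pCore_le hps hO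
  obtain ⟨⟨K, hK⟩, -⟩ := Hall.hallDom_pComplement_of_isPSolvable Nat.prime_two hps
  have hKodd : Odd (Nat.card ↥K) := Nat.not_even_iff_odd.1 fun h =>
    (Hall.IsPiHall.isPiNumber_card hK) 2 Nat.prime_two (even_iff_two_dvd.1 h) rfl
  obtain ⟨t, ht⟩ : ∃ t, K.index = 2 ^ t := ⟨_, Nat.eq_prime_pow_of_unique_prime_dvd
    index_ne_zero_of_finite fun {q} hq hqn => by
      by_contra hne
      exact (Hall.IsPiHall.isPiNumber_index hK) q hq hqn hne⟩
  have hfree : ∀ R : Subgroup S, R ≠ ⊤ → K ≤ R → Free R := fun R hR hKR => by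
    have hd : R.index ∣ 2 ^ t := ht ▸ index_dvd_of_le hKR
    obtain ⟨i, -, hi⟩ := (Nat.dvd_prime_pow Nat.prime_two).1 hd
    exact hmin R hR ⟨i, hi⟩
  have hinf : ∀ U : Subgroup S, IsPGroup 2 ↥U → U ⊓ K = ⊥ := fun U hU =>
    Coprime.inf_eq_bot (coprime_of_odd hU hKodd).symm
  have hsupK : ∀ U V : Subgroup S, U ≤ V → IsPGroup 2 ↥V → K ≤ normalizer (U : Set S) →
      U ⊔ K = ⊤ → V ≤ U := by
    intro U V hUV hV hKU htop x hx
    obtain ⟨u, hu, k, hk, rfl⟩ := (Coprime.mem_sup_iff hKU).1 (htop ▸ mem_top x)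
    have hkV : k ∈ V := by
      have := mul_mem (inv_mem (hUV hu)) hx
      rwa [inv_mul_cancel_left] at this
    have hk1 : k = 1 := mem_bot.1 (hinf V hV ▸ mem_inf.2 ⟨hkV, hk⟩)
    rw [hk1, mul_one]; exact hu
  -- the Sylow subgroup is normal
  have hnormal : (X : Subgroup S).Normal := by
    set Q := Cfsg.pCore 2 S with hQ
    have hQn : Q.Normal := inferInstance
    have hKQ : K ≤ normalizer (Q : Set S) := le_normalizer_of_normal
    have hQp : IsPGroup 2 ↥Q := Cores.pCore_isPGroup
    by_cases htop : Q ⊔ K = ⊤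
    · have : (X : Subgroup S) = Q :=
        le_antisymm (hsupK Q _ (Cores.pCore_le_sylow X) X.isPGroup' hKQ htop) (Cores.pCore_le_sylow X)
      rw [this]; exact hQn
    have hQfree : Free Q := (hfree _ htop le_sup_right).mono le_sup_left
    by_cases hKC : K ≤ centralizer (Q : Set S)
    · have hKbot : K = ⊥ := le_bot_iff.1 (hinf Q hQp ▸ le_inf (hKC.trans hCQ) le_rfl)
      have htopp : IsPGroup 2 ↥(⊤ : Subgroup S) := IsPGroup.of_card (n := t) (by
        rw [card_top, ← ht, hKbot, index_bot])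
      have : (X : Subgroup S) = ⊤ := (X.is_maximal' htopp le_top).symm
      rw [this]; infer_instance
    exfalso
    obtain ⟨htype, -⟩ := small _ Q K rfl hQp hKodd hKQ hKC hQfree
    obtain ⟨P, hAP⟩ := hA2.exists_le_sylow
    have hPQ : (P : Subgroup S) ≤ normalizer (Q : Set S) := le_normalizer_of_normal
    rcases htype with h4 | ⟨z, hz⟩
    · exact Cores.MinimalEight.false_of_four h4 P.isPGroup' (Cores.pCore_le_sylow P) hPQ
        (inf_le_right.trans hCQ) hAP hAc hA8
    · exact Cores.MinimalEight.false_of_q8 hz P.isPGroup' (Cores.pCore_le_sylow P) hPQ hCQ hAP hAc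
        hAn hA8
  refine ⟨hnormal, ?_⟩
  set P : Subgroup S := (X : Subgroup S) with hPdef
  haveI := hnormal
  have hP : IsPGroup 2 ↥P := X.isPGroup'
  have hKP : K ≤ normalizer (P : Set S) := le_normalizer_of_normal
  have hcop := coprime_of_odd hP hKodd
  have hPK : P ⊔ K = ⊤ := index_eq_one.1 (Nat.eq_one_of_dvd_coprimes
    (show (K.index).Coprime P.index by
      rw [ht]
      exact Nat.Coprime.pow_left t ((Nat.Prime.coprime_iff_not_dvd Nat.prime_two).2 X.not_dvd_index))
    (index_dvd_of_le le_sup_right) (index_dvd_of_le le_sup_left))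
  have hAP : A ≤ P := by
    have h : IsPGroup 2 ↥(P ⊔ A : Subgroup S) := IsPGroup.to_sup_of_normal_left hP hA2
    have := X.is_maximal' h le_sup_left
    exact le_sup_right.trans this.le
  have hCP : centralizer (P : Set S) ≤ P :=
    (centralizer_le (Cores.pCore_le_sylow X)).trans (hCQ.trans (Cores.pCore_le_sylow X))
  have hfreeU : ∀ U : Subgroup S, U < P → K ≤ normalizer (U : Set S) → Free U := fun U hU hKU =>
    (hfree (U ⊔ K) (fun h => hU.not_ge (hsupK U P hU.le hP hKU h)) le_sup_right).mono le_sup_left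
  have abel : (∀ u ∈ P, ∀ v ∈ P, u * v = v * u) → IsMulCommutative ↥P := fun h =>
    ⟨⟨fun a b => Subtype.ext (h a a.2 b b.2)⟩⟩
  by_cases hne : K ≤ centralizer (P : Set S)
  · left
    have hKbot : K = ⊥ := le_bot_iff.1 (hinf P hP ▸ le_inf (hne.trans hCP) le_rfl)
    have hAtop : A = ⊤ := by
      by_contra h
      exact hfree A h (hKbot ▸ bot_le) ⟨A, le_rfl, hAc, hAn, hA8⟩
    refine abel fun u _ v _ => ?_
    exact mem_centralizer_iff.1 (le_centralizer A (hAtop ▸ mem_top v)) u (hAtop ▸ mem_top u)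
  have hsolv : Group.IsSolvable ↥K ∨ Group.IsSolvable ↥P := .inl inferInstance
  have hPne : P ≠ ⊥ := fun h => by
    have := card_le_of_le hAP
    rw [h, card_bot, hA8] at this
    omega
  by_cases hY : ⁅P, K⁆ = P
  swap
  · -- `[P, K]` is a proper subgroup
    set Y := ⁅P, K⁆
    have hYP : Y ≤ P := Coprime.commutator_le_left_of_normalizer hKP
    have hYlt : Y < P := lt_of_le_of_ne hYP hY
    have hKY : K ≤ normalizer (Y : Set S) := fun k hk =>
      Coprime.mem_normalizer_commutator (hKP hk) (le_normalizer hk)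
    have hYne : ¬ K ≤ centralizer (Y : Set S) := fun h =>
      hne (Coprime.le_centralizer_of_commutator_le hKP hcop le_rfl h)
    have hYp := hP.to_le hYP
    obtain ⟨htype, hYY⟩ := small _ Y K rfl hYp hKodd hKY hYne (hfreeU Y hYlt hKY)
    have hYne' : Y ≠ ⊥ := fun h => hYne (by
      rw [h]
      exact fun k _ => mem_centralizer_iff.2 fun x hx => by simp [mem_bot.1 hx])
    have hCY : P ⊓ centralizer (K : Set S) ≤ normalizer (Y : Set S) := fun c hc =>
      Coprime.mem_normalizer_commutator (le_normalizer (mem_inf.1 hc).1)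
        (centralizer_le_normalizer _ (mem_inf.1 hc).2)
    have hrig : Rigid Y K := by
      rcases htype with h4 | ⟨z, hz⟩
      exacts [h4.rigid hKY, hz.rigid hYp hKodd hKY]
    have hcent := hrig.centralizes hYp hKY hYY hYne' (hP.to_le inf_le_left) hCY inf_le_right
    have hsup : Y ⊔ (P ⊓ centralizer (K : Set S)) = P :=
      Coprime.commutator_sup_centralizer hKP hcop hsolv
    obtain ⟨c₀, hc₀, hc₀Y⟩ := SetLike.not_le_iff_exists.1 fun hle : P ⊓ centralizer (K : Set S) ≤ Y =>
      hY (by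
        conv_rhs => rw [← hsup, sup_eq_left.2 hle])
    obtain ⟨c, hc, hcY, hc2⟩ : ∃ c ∈ P ⊓ centralizer (K : Set S), c ∉ Y ∧ c ^ 2 ∈ Y := by
      have hex : ∃ j, c₀ ^ 2 ^ j ∈ Y := by
        obtain ⟨m, hm⟩ := hP ⟨c₀, (mem_inf.1 hc₀).1⟩
        have h' : c₀ ^ 2 ^ m = 1 := congrArg Subtype.val hm
        exact ⟨m, h' ▸ one_mem Y⟩
      have hpos : Nat.find hex ≠ 0 := fun h0 => hc₀Y (by
        have := Nat.find_spec hex
        rwa [h0, pow_zero, pow_one] at this)
      obtain ⟨j, hj⟩ := Nat.exists_eq_succ_of_ne_zero hpos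
      refine ⟨c₀ ^ 2 ^ j, pow_mem hc₀ _, Nat.find_min hex (by omega), ?_⟩
      rw [← pow_mul, ← pow_succ, ← Nat.succ_eq_add_one, ← hj]
      exact Nat.find_spec hex
    obtain ⟨hcP, hcK⟩ := mem_inf.1 hc
    have hcy : ∀ w ∈ Y, c * w = w * c := fun w hw => (mem_centralizer_iff.1 (hcent hc) w hw).symm
    have hU : Y ⊔ zpowers c = P := by
      by_contra h
      refine not_free_extend htype hYp hKodd hKY hYne le_sup_left
        (mem_sup_right (mem_zpowers c)) hcK hcY hc2 hcy
        (hfreeU _ (lt_of_le_of_ne (sup_le hYP (zpowers_le.2 hcP)) h) ?_)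
      refine (le_inf hKY ((le_centralizer_iff.1 (zpowers_le.2 hcK)).trans (centralizer_le_normalizer _))).trans ?_
      intro k hk
      apply Coprime.mem_normalizer_of_map_conj
      rw [Subgroup.map_sup, Coprime.map_conj_eq (mem_inf.1 hk).1, Coprime.map_conj_eq (mem_inf.1 hk).2]
    rcases htype with h4 | ⟨z, hz⟩
    · -- abelian
      left
      have hYc : Y ≤ centralizer (Y : Set S) := fun v hv => mem_centralizer_iff.2 fun u hu => by
        have huv := h4.2 _ (mul_mem hu hv)
        have iu : u⁻¹ = u := inv_eq_of_mul_eq_one_right (by rw [← pow_two, h4.2 u hu])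
        have iv : v⁻¹ = v := inv_eq_of_mul_eq_one_right (by rw [← pow_two, h4.2 v hv])
        calc u * v = (u * v)⁻¹ := (inv_eq_of_mul_eq_one_right (by rw [← pow_two]; exact huv)).symm
          _ = v * u := by rw [mul_inv_rev, iu, iv]
      have hcY' : zpowers c ≤ centralizer (Y : Set S) := zpowers_le.2 (hcent hc)
      have h1 : P ≤ centralizer (Y : Set S) := hU.symm.le.trans (sup_le hYc hcY')
      have h2 : Y ⊔ zpowers c ≤ centralizer (zpowers c : Set S) :=
        sup_le (le_centralizer_iff.1 hcY') (le_centralizer _)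
      refine abel fun u hu v hv => ?_
      have hh : P ≤ centralizer (P : Set S) := by
        rw [le_centralizer_iff]
        conv_lhs => rw [← hU]
        exact sup_le (le_centralizer_iff.1 h1) (le_centralizer_iff.1 (hU.symm.le.trans h2))
      exact mem_centralizer_iff.1 (hh hv) u hu
    · -- quaternion times cyclic
      refine .inr (.inr (.inl ⟨Y, 0, hYP, ?_, ?_, ?_⟩))
      · have hyy : c * c ∈ Y := pow_two c ▸ hc2
        have hdc := card_double hyy hcy hcY
        have hle : P ≤ double Y c hyy hcy := by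
          rw [← hU, sup_le_iff, zpowers_le]
          exact ⟨fun w hw => .inl hw, .inr (by rw [mul_inv_cancel]; exact one_mem _)⟩
        have hge : double Y c hyy hcy ≤ P := by
          rintro g (hg | hg)
          · exact hYP hg
          · have := mul_mem (hYP hg) hcP
            rwa [inv_mul_cancel_right] at this
        have heq : P = double Y c hyy hcy := le_antisymm hle hge
        exact normal_of_half hYP (by rw [heq, hdc])
      · obtain ⟨a, ha, b, hb, haz, hba, hab, -⟩ := hz.exists_gens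
        have hzinv : z⁻¹ = z := inv_eq_of_mul_eq_one_right (by rw [← pow_two, hz.2.2.2.1])
        have ha4 := hz.card_zpowers_of_notMem ha haz
        have ha2 : a ^ 2 = z := hz.2.2.2.2.2 a ha haz
        have hbz : b ∉ zpowers z := fun hh => hba ((zpowers_le.2 (ha2 ▸ pow_mem (mem_zpowers a) 2)) hh)
        refine PGroups.nonempty_mulEquiv_quaternion (n := 2 ^ (0 + 1)) (c := (⟨a, ha⟩ : ↥Y))
          (y := ⟨b, hb⟩) ?_ ?_ ?_ ?_ ?_
        · rw [orderOf_mk, ha4]; norm_num
        · intro h
          obtain ⟨i, hi⟩ := mem_zpowers_iff.1 h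
          exact hba ⟨i, congrArg Subtype.val hi⟩
        · apply Subtype.ext
          show b ^ 2 = a ^ (2 ^ (0 + 1))
          rw [hz.2.2.2.2.2 b hb hbz, show (2 : ℕ) ^ (0 + 1) = 2 from rfl, ha2]
        · apply Subtype.ext
          show b * a * b⁻¹ = a⁻¹
          have h4 : a ^ 4 = 1 := ha4 ▸ pow_orderOf_eq_one a
          have hainv : a⁻¹ = z * a := inv_eq_of_mul_eq_one_right (by
            rw [← ha2, ← mul_assoc, ← pow_succ', ← pow_succ]; exact h4)
          have hba' : ⁅b, a⁆ = z := by rw [← commutatorElement_inv, hab, hzinv]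
          rw [hainv, ← hba', commutatorElement_def]
          group
        · rw [hz.1]; norm_num
      · refine le_antisymm (sup_le hYP inf_le_left) ?_
        conv_lhs => rw [← hU]
        exact sup_le le_sup_left (zpowers_le.2 (mem_sup_right (mem_inf.2 ⟨hcP, hcent hc⟩)))
  -- `[P, K] = P`
  have hΦP := phi_le P
  have hΦlt := phi_lt hPne
  have hKΦ : K ≤ normalizer (phi P : Set S) := hKP.trans (le_normalizer_phi P)
  have hΦp := hP.to_le hΦP
  have hΦfree := hfreeU _ hΦlt hKΦ
  have hsmall : ¬ K ≤ centralizer (phi P : Set S) → IsFour (phi P) ∨ ∃ z, IsQ8 (phi P) z := fun h =>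
    (small _ (phi P) K rfl hΦp hKodd hKΦ h hΦfree).1
  have hcen := phi_central hP hKodd hKP hY hPne hsmall
  have hfour : ¬ K ≤ centralizer (phi P : Set S) → IsFour (phi P) := fun h => by
    rcases hsmall h with h4 | ⟨z, hz⟩
    · exact h4
    · exact (hz.not_comm fun x hx y hy => hcen x hx y (hΦP hy)).elim
  by_cases hbot : ⁅P, P⁆ = ⊥
  · exact .inl (abel fun u hu v hv =>
      commutatorElement_eq_one_iff_commute.1 (mem_bot.1 (hbot ▸ commutator_mem_commutator hu hv)))
  have hsq : ∀ f ∈ phi P, f ^ 2 = 1 := by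
    by_cases hc : K ≤ centralizer (phi P : Set S)
    · exact fun f hf => (phi_elementary hP hKP hY hcen hc f hf).1
    · exact (hfour hc).2
  have hder : ⁅P, P⁆ = phi P := by
    refine le_antisymm (commutator_le_phi hP) ?_
    by_cases hc : K ≤ centralizer (phi P : Set S)
    · exact fun f hf => (phi_elementary hP hKP hY hcen hc f hf).2
    have hDle := commutator_le_phi hP
    have hKD : K ≤ normalizer ((⁅P, P⁆ : Subgroup S) : Set S) := fun k hk =>
      Coprime.mem_normalizer_commutator (hKP hk) (hKP hk)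
    by_contra hge
    have hlt : ⁅P, P⁆ < phi P := lt_of_le_not_ge hDle hge
    have hKC := (hfour hc).rigid hKΦ _ hlt hKD
    exact hbot (eq_bot_iff.2 fun f hf => mem_bot.2 ((hfour hc).eq_one_of_fixed hΦp hKodd hKΦ hc
      (hDle hf) (le_centralizer_iff.1 hKC hf)))
  have hΦne : phi P ≠ ⊥ := hder ▸ hbot
  -- fixed points lie in the Frattini subgroup
  have hfix : ∀ f ∈ P, f ∈ centralizer (K : Set S) → f ∈ phi P := by
    haveI hN : (phi P).Normal := normalizer_eq_top_iff.1 (top_le_iff.1
      (hPK ▸ sup_le (le_normalizer.trans (le_normalizer_phi P)) hKΦ))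
    intro f hf hfK
    let π := QuotientGroup.mk' (phi P)
    haveI : IsMulCommutative ↥(P.map π) := by
      refine ⟨⟨fun a b => Subtype.ext ?_⟩⟩
      obtain ⟨x, hx, hxa⟩ := a.2
      obtain ⟨y, hy, hyb⟩ := b.2
      show (a : S ⧸ phi P) * b = b * a
      rw [← hxa, ← hyb]
      apply commutatorElement_eq_one_iff_commute.1
      rw [← map_commutatorElement]
      exact (QuotientGroup.eq_one_iff _).2 (commutator_le_phi hP (commutator_mem_commutator hx hy))
    have hd := (Coprime.abelian_decomposition (A := K.map π) (V := P.map π)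
      ((map_mono hKP).trans (le_normalizer_map π))
      (Nat.Coprime.coprime_dvd_left (card_map_dvd K π)
        (Nat.Coprime.coprime_dvd_right (card_map_dvd P π) hcop))).1
    rw [← map_commutator, hY, inf_right_comm, inf_idem] at hd
    apply (QuotientGroup.eq_one_iff f).1
    refine mem_bot.1 (hd ▸ mem_inf.2 ⟨mem_map_of_mem π hf, ?_⟩)
    rintro - ⟨k, hk, rfl⟩
    show π k * π f = π f * π k
    rw [← map_mul, ← map_mul, mem_centralizer_iff.1 hfK k hk]
  have hZ : P ⊓ centralizer (P : Set S) = phi P := by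
    have hΦZ : phi P ≤ P ⊓ centralizer (P : Set S) := le_inf hΦP fun f hf =>
      mem_centralizer_iff.2 fun x hx => (hcen f hf x hx).symm
    refine le_antisymm ?_ hΦZ
    set Z := P ⊓ centralizer (P : Set S) with hZdef
    have hKZ : K ≤ normalizer (Z : Set S) := fun k hk =>
      mem_normalizer_iff.2 fun x => by
        have h1 := fun y => mem_normalizer_iff.1 (hKP hk) y
        simp only [hZdef, mem_inf, mem_centralizer_iff, SetLike.mem_coe, ← h1 x]
        refine and_congr_right fun _ => ⟨fun h y hy => ?_, fun h y hy => ?_⟩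
        · have h2 := h (k⁻¹ * y * k) ((mem_normalizer_iff''.1 (hKP hk) y).1 hy)
          calc y * (k * x * k⁻¹) = k * ((k⁻¹ * y * k) * x) * k⁻¹ := by group
            _ = k * (x * (k⁻¹ * y * k)) * k⁻¹ := by rw [h2]
            _ = k * x * k⁻¹ * y := by group
        · have h2 := h (k * y * k⁻¹) ((h1 y).1 hy)
          calc y * x = k⁻¹ * ((k * y * k⁻¹) * (k * x * k⁻¹)) * k := by group
            _ = k⁻¹ * ((k * x * k⁻¹) * (k * y * k⁻¹)) * k := by rw [h2]
            _ = x * y := by group
    have hZc : ∀ u ∈ Z, ∀ v ∈ Z, u * v = v * u := fun u hu v hv =>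
      mem_centralizer_iff.1 (mem_inf.1 hv).2 u (mem_inf.1 hu).1
    by_cases hKZc : K ≤ centralizer (Z : Set S)
    · exact fun f hf => hfix f (mem_inf.1 hf).1 (le_centralizer_iff.1 hKZc hf)
    have hZlt : Z < P := lt_of_le_of_ne inf_le_left fun h => hbot (by
      rw [commutator_eq_bot_iff_le_centralizer]
      exact h.symm.le.trans inf_le_right)
    have hZp := hP.to_le hZlt.le
    obtain ⟨htype, -⟩ := small _ Z K rfl hZp hKodd hKZ hKZc (hfreeU Z hZlt hKZ)
    rcases htype with h4 | ⟨z, hz⟩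
    swap
    · exact (hz.not_comm hZc).elim
    by_cases hc : K ≤ centralizer (phi P : Set S)
    · exact absurd (eq_bot_iff.2 fun f hf => mem_bot.2 (h4.eq_one_of_fixed hZp hKodd hKZ hKZc
        (hΦZ hf) (le_centralizer_iff.1 hc hf))) hΦne
    · exact (eq_of_le_of_card_ge hΦZ (by rw [(hfour hc).1, h4.1])).ge
  have hΦ4 : Nat.card ↥(phi P) ≤ 4 := card_le_four hΦp hΦfree hsq fun f hf g hg => hcen f hf g (hΦP hg)
  have hcenter : (center ↥P).map P.subtype = phi P := by
    rw [← hZ]
    ext g
    constructor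
    · rintro ⟨⟨x, hx⟩, hxc, rfl⟩
      exact mem_inf.2 ⟨hx, mem_centralizer_iff.2 fun y hy =>
        congrArg Subtype.val (mem_center_iff.1 hxc ⟨y, hy⟩)⟩
    · intro hg
      exact ⟨⟨g, (mem_inf.1 hg).1⟩, mem_center_iff.2 fun y =>
        Subtype.ext (mem_centralizer_iff.1 (mem_inf.1 hg).2 y y.2), rfl⟩
  have hspecial : Cfsg.IsSpecial 2 ↥P := by
    refine ⟨hP, map_injective P.subtype_injective ?_, map_injective P.subtype_injective ?_⟩
    · rw [hcenter]; rfl
    · rw [hcenter, _root_.commutator_def, map_commutator, ← MonoidHom.range_eq_map, range_subtype, hder]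
  have hcardc : Nat.card ↥(center ↥P) = Nat.card ↥(phi P) := by
    rw [← hcenter, card_map_of_injective P.subtype_injective]
  have h2le : 2 ≤ Nat.card ↥(phi P) := (one_lt_card_iff_ne_bot _).2 hΦne
  obtain ⟨m, hm⟩ := hΦp.exists_card_eq
  have hm2 : m ≤ 2 := by
    by_contra h
    have := Nat.pow_le_pow_right (show 0 < 2 by norm_num) (show 3 ≤ m by omega)
    omega
  interval_cases m
  · omega
  · right; left
    have hext : Cfsg.IsExtraspecial 2 ↥P := ⟨hspecial, by rw [hcardc, hm]; norm_num⟩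
    refine ⟨hext, ?_⟩
    obtain ⟨n, hn1, hn⟩ := PGroups.isExtraspecial_card hext
    have hn2 : n ≠ 1 := by
      rintro rfl
      have hAeq : A = P := eq_of_le_of_card_ge hAP (by rw [hn, hA8]; norm_num)
      exact hbot (by
        rw [← hAeq, commutator_eq_bot_iff_le_centralizer]
        exact le_centralizer A)
    show 32 ≤ Nat.card ↥P
    rw [hn]
    exact le_trans (by norm_num) (Nat.pow_le_pow_right (by norm_num) (show 5 ≤ 2 * n + 1 by omega))
  · right; right; right
    exact ⟨hspecial, (hcardc.trans hm).trans (by norm_num)⟩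

end Cfsg.Agent.S4409
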