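import Cfsg.Statements.S4410
import Cfsg.Agent.Cores.Fitting
-- import your own Cfsg.Agent.* helpers here

set_option autoImplicit false
open Cfsg

namespace Cfsg.Agent.S4410

section Helpers

set_option linter.style.haveILetI false

variable {V : Type*} [AddCommGroup V] [Module (ZMod 2) V]

local notation "GLV" => (V ≃ₗ[ZMod 2] V)

theorem neg_self' (x : V) : -x = x := ZModModule.neg_eq_self x

theorem sub_add' (x y : V) : x - y = x + y := ZModModule.sub_eq_add x y

theorem add_self' (x : V) : x + x = 0 := ZModModule.add_self x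

theorem add_add_cancel' (x y : V) : x + (x + y) = y := by
  rw [← add_assoc, add_self', zero_add]

theorem eq_one_of_odd {g : GLV} (hg : Odd (orderOf g)) (h : g * g = 1) : g = 1 := by
  have h2 : orderOf g ∣ 2 := orderOf_dvd_of_pow_eq_one (by rw [pow_two]; exact h)
  rcases (Nat.dvd_prime Nat.prime_two).1 h2 with h1 | h1
  · exact orderOf_eq_one_iff.1 h1
  · rw [h1] at hg; exact absurd hg (by decide)

/-- An element of odd order moving everything by fixed vectors is trivial. -/
theorem eq_one_of_fix {k : GLV} (hk : Odd (orderOf k))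
    (h : ∀ v, k (k v - v) = k v - v) : k = 1 := by
  apply eq_one_of_odd hk
  ext v
  change k (k v) = v
  have h1 := h v
  rw [map_sub, sub_eq_iff_eq_add] at h1
  rw [h1, sub_add', add_comm (k v) v, add_assoc, add_self', add_zero]

/-- The image of `u - 1` for a product `u` of two transvections. -/
def Good (a : V) (u : GLV) : Prop :=
  u ^ 3 = 1 ∧ u a ≠ a ∧ u (u a) = a + u a ∧
    ∀ v, u v - v = 0 ∨ u v - v = a ∨ u v - v = u a ∨ u v - v = a + u a

theorem good_of {a b : V} {u : GLV} (hne : u ≠ 1) (hodd : Odd (orderOf u))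
    (ha : a ≠ 0) (hmove : ∀ v, u v - v = 0 ∨ u v - v = a ∨ u v - v = b ∨ u v - v = a + b) :
    Good a u := by
  have hinj := u.injective
  have himg : ∀ v, u v = v ∨ u v = v + a ∨ u v = v + b ∨ u v = v + (a + b) := by
    intro v
    have := hmove v
    simp only [sub_eq_iff_eq_add, zero_add] at this
    rcases this with h | h | h | h
    · exact Or.inl h
    · exact Or.inr (Or.inl (by rw [h, add_comm]))
    · exact Or.inr (Or.inr (Or.inl (by rw [h, add_comm])))
    · exact Or.inr (Or.inr (Or.inr (by rw [h, add_comm])))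
  -- powers of `u` fixing `a` and `b` are trivial
  have hfix : ∀ k : GLV, Odd (orderOf k) → k a = a → k b = b →
      (∀ v, k v - v = 0 ∨ k v - v = a ∨ k v - v = b ∨ k v - v = a + b) → k = 1 := by
    intro k hk hka hkb hm
    refine eq_one_of_fix hk fun v => ?_
    rcases hm v with h | h | h | h <;> rw [h] <;> simp [hka, hkb]
  have hua : u a ≠ a := by
    intro h
    rcases himg b with hb | hb | hb | hb
    · exact hne (hfix u hodd h hb hmove)
    · -- `u b = b + a`
      refine hne (eq_one_of_odd hodd ?_)
      have h2 : (u * u) b = b := by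
        change u (u b) = b
        rw [hb, map_add, hb, h, add_assoc, add_self', add_zero]
      refine hfix (u * u) ?_ (by change u (u a) = a; rw [h, h]) h2 ?_
      · exact hodd.of_dvd_nat (by rw [← pow_two]; exact orderOf_pow_dvd 2)
      · intro v
        have e : (u * u) v - v = u (u v - v) + (u v - v) := by
          change u (u v) - v = _
          rw [map_sub, sub_add_sub_cancel]
        rw [e]
        rcases hmove v with h1 | h1 | h1 | h1 <;> rw [h1]
        · left; simp
        · left; rw [h, add_self']
        · right; left; rw [hb, add_comm b a, add_assoc, add_self', add_zero]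
        · right; left; rw [map_add, h, hb, add_comm b a, add_add_cancel', add_comm b (a + b),
            add_assoc, add_self', add_zero]
    · -- `u b = 0`
      rw [add_self'] at hb
      have : b = 0 := hinj (by rw [hb, map_zero])
      subst this
      exact hne (hfix u hodd h (map_zero u) hmove)
    · -- `u b = a`
      rw [add_comm a b, add_add_cancel'] at hb
      have : b = a := hinj (by rw [hb, h])
      subst this
      exact hne (hfix u hodd h h hmove)
  have h2ne : u (u a) ≠ a := by
    intro h
    apply hua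
    obtain ⟨m, hm⟩ := hodd
    have h2 : ∀ n : ℕ, (u ^ (2 * n)) a = a := by
      intro n
      induction n with
      | zero => simp
      | succ n ih =>
        rw [mul_add, mul_one, pow_add]
        change (u ^ (2 * n)) ((u ^ 2) a) = a
        rw [show (u ^ 2) a = a by rw [pow_two]; exact h]
        exact ih
    have h3 : u ^ (2 * m + 1) = 1 := by rw [← hm]; exact pow_orderOf_eq_one u
    rw [pow_succ'] at h3
    have := DFunLike.congr_fun h3 a
    change u ((u ^ (2 * m)) a) = a at this
    rwa [h2] at this
  -- determine the action on `a`, `b`, `a + b`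
  have hcase : (u a = b ∧ u b = a + b) ∨ (u a = a + b ∧ u b = a) := by
    rcases himg a with h | h | h | h
    · exact absurd h hua
    · rw [add_self'] at h
      exact absurd (hinj (h.trans (map_zero u).symm)) ha
    · right
      refine ⟨h, ?_⟩
      rcases himg b with hb | hb | hb | hb
      · exfalso; apply h2ne; rw [h, map_add, h, hb, add_assoc, add_self', add_zero]
      · exfalso
        have e : b = a := hinj (by rw [hb, h, add_comm])
        rw [e, add_self'] at h
        exact ha (hinj (h.trans (map_zero u).symm))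
      · rw [add_self'] at hb
        exfalso
        have : b = 0 := hinj (by rw [hb, map_zero])
        rw [this, add_zero] at h
        exact hua h
      · rw [add_comm a b, add_add_cancel'] at hb; exact hb
    · rw [add_add_cancel'] at h
      left
      refine ⟨h, ?_⟩
      rcases himg b with hb | hb | hb | hb
      · exact absurd (hinj (hb.trans h.symm)) (fun e => hua (by rw [h, e]))
      · rw [add_comm] at hb; exact hb
      · rw [add_self'] at hb
        exfalso
        have : b = 0 := hinj (by rw [hb, map_zero])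
        rw [this] at h
        exact ha (hinj (h.trans (map_zero u).symm))
      · rw [add_comm a b, add_add_cancel'] at hb
        exfalso; apply h2ne; rw [h]; exact hb
  have h22 : u (u a) = a + u a := by
    rcases hcase with ⟨h1, h2⟩ | ⟨h1, h2⟩
    · rw [h1, h2]
    · rw [h1, map_add, h1, h2, add_comm (a + b) a]
  refine ⟨?_, hua, h22, ?_⟩
  · have hu3a : (u ^ 3) a = a := by
      change u (u (u a)) = a
      rw [h22, map_add, h22, add_comm a (u a), add_add_cancel']
    have hu3b : (u ^ 3) b = b := by
      change u (u (u b)) = b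
      rcases hcase with ⟨h1, h2⟩ | ⟨h1, h2⟩
      · rw [← h1]
        exact congrArg u hu3a
      · rw [h2, h22, h1, add_add_cancel']
    refine hfix (u ^ 3) (hodd.of_dvd_nat (orderOf_pow_dvd 3)) hu3a hu3b ?_
    intro v
    left
    have e : (u ^ 3) v - v = u (u (u v - v)) + u (u v - v) + (u v - v) := by
      change u (u (u v)) - v = _
      simp only [map_sub]
      abel
    rw [e]
    have key : u (u a) + u a + a = 0 := by
      rw [h22, add_assoc a, add_self', add_zero, add_self']
    have keyb : u (u b) + u b + b = 0 := by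
      rcases hcase with ⟨h1, h2⟩ | ⟨h1, h2⟩
      · rw [h2, map_add, h1, h2, add_assoc b, add_self', add_zero, add_self']
      · rw [h2, h1, add_comm (a + b) a, add_add_cancel', add_self']
    rcases hmove v with h | h | h | h <;> rw [h]
    · simp
    · exact key
    · exact keyb
    · simp only [map_add]
      rw [show u (u a) + u (u b) + (u a + u b) + (a + b) = (u (u a) + u a + a) + (u (u b) + u b + b)
        by abel, key, keyb, add_zero]
  · intro v
    rcases hcase with ⟨h1, h2⟩ | ⟨h1, h2⟩ <;> rw [h1]
    · exact hmove v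
    · rw [add_add_cancel']
      rcases hmove v with h | h | h | h
      · exact Or.inl h
      · exact Or.inr (Or.inl h)
      · exact Or.inr (Or.inr (Or.inr h))
      · exact Or.inr (Or.inr (Or.inl h))

/-- The elements moving everything into a submodule. -/
def moveInto (U : Submodule (ZMod 2) V) : Subgroup GLV where
  carrier := {g | ∀ v, g v - v ∈ U}
  one_mem' := fun v => by simp
  mul_mem' := fun {g h} hg hh v => by
    change g (h v) - v ∈ U
    rw [← sub_add_sub_cancel (g (h v)) (h v) v]
    exact U.add_mem (hg _) (hh v)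
  inv_mem' := fun {g} hg v => by
    have h := hg (g⁻¹ v)
    rw [show g (g⁻¹ v) = v from g.apply_symm_apply v] at h
    rw [← neg_sub]
    exact U.neg_mem h

/-- The permutation action of `moveInto U` on `U`. -/
def actOn (U : Submodule (ZMod 2) V) : moveInto U →* Equiv.Perm U where
  toFun g :=
    { toFun := fun x => ⟨(g : GLV) (x : V), by
        have := U.add_mem (g.2 (x : V)) x.2
        rwa [sub_add_cancel] at this⟩
      invFun := fun x => ⟨(g : GLV)⁻¹ (x : V), by
        have := U.add_mem ((g⁻¹).2 (x : V)) x.2
        rwa [sub_add_cancel] at this⟩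
      left_inv := fun x => Subtype.ext ((g : GLV).symm_apply_apply (x : V))
      right_inv := fun x => Subtype.ext ((g : GLV).apply_symm_apply (x : V)) }
  map_one' := by ext x; rfl
  map_mul' g h := by ext x; rfl

/-- Two elements of a `3`-group moving everything into at most eight vectors commute. -/
theorem commute_of [Finite V] (H : Subgroup GLV) (hH : IsPGroup 3 H) (U : Submodule (ZMod 2) V)
    (hU : Nat.card U ≤ 8) (hle : H ≤ moveInto U) (u v : H) : Commute u v := by
  haveI : Fact (Nat.Prime 3) := ⟨Nat.prime_three⟩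
  haveI : Finite (V ≃ₗ[ZMod 2] V) := Finite.of_injective _ DFunLike.coe_injective
  set f := (actOn U).comp (Subgroup.inclusion hle)
  have hodd : ∀ x : H, Odd (orderOf (x : GLV)) := by
    intro x
    obtain ⟨k, hk⟩ := (IsPGroup.iff_orderOf.1 hH) x
    rw [Subgroup.orderOf_coe, hk]
    exact Odd.pow (by decide)
  have hinj : Function.Injective f := by
    rw [injective_iff_map_eq_one]
    intro x hx
    refine Subtype.ext (eq_one_of_fix (hodd x) fun w => ?_)
    have := congrArg Subtype.val (Equiv.ext_iff.1 hx ⟨_, hle x.2 w⟩)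
    exact this
  have hd : Nat.card H ∣ Nat.factorial 8 := by
    refine (Subgroup.card_dvd_of_injective f hinj).trans ?_
    rw [Nat.card_perm]
    exact Nat.factorial_dvd_factorial hU
  obtain ⟨k, hk⟩ := IsPGroup.iff_card.1 hH
  have hk2 : k ≤ 2 := by
    by_contra hk3
    have : 3 ^ 3 ∣ Nat.factorial 8 := (Nat.pow_dvd_pow 3 (not_le.1 hk3)).trans (hk ▸ hd)
    exact absurd this (by decide)
  obtain hk' | hk' := lt_or_eq_of_le hk2
  · haveI : IsCyclic H := by
      obtain rfl | rfl : k = 0 ∨ k = 1 := by omega
      · haveI : Subsingleton H := (Nat.card_eq_one_iff_unique.1 (by simpa using hk)).1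
        infer_instance
      · exact isCyclic_of_prime_card (p := 3) (by simpa using hk)
    obtain ⟨g, hg⟩ := (IsCyclic.exists_zpow_surjective : ∃ g : H, _)
    obtain ⟨i, rfl⟩ := hg u
    obtain ⟨j, rfl⟩ := hg v
    exact (Commute.refl g).zpow_zpow i j
  · subst hk'
    exact (IsPGroup.isMulCommutative_of_card_eq_prime_sq hk).is_comm.comm u v

end Helpers

set_option maxHeartbeats 1600000 in
/-- Let V be a finite-dimensional vector space over the field with two elements and S a solvable group of linear automorphisms of V with O₂(S) = 1. If P ∈ S has order 4 and (P − 1)³ = 0 on V, then the image of (P − 1)² has at least 4 elements; equivalently, in the decomposition of V into indecomposable modules for the cyclic group generated by P, at least two summands have dimension 3. -/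
theorem result
    {V : Type*} [AddCommGroup V] [Module (ZMod 2) V] [Finite V]
    (S : Subgroup (V ≃ₗ[ZMod 2] V)) (hS : Group.IsSolvable ↥S) (hO2 : Cfsg.pCore 2 ↥S = ⊥)
    (P : V ≃ₗ[ZMod 2] V) (hPS : P ∈ S) (hP4 : orderOf P = 4)
    (hcub : ((P : V →ₗ[ZMod 2] V) - LinearMap.id) ^ 3 = 0) :
    4 ≤ Nat.card ↥(LinearMap.range (((P : V →ₗ[ZMod 2] V) - LinearMap.id) ^ 2)) := by
  haveI : Fact (Nat.Prime 2) := ⟨Nat.prime_two⟩
  haveI : Finite (V ≃ₗ[ZMod 2] V) := Finite.of_injective _ DFunLike.coe_injective
  haveI := hS
  by_contra hcard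
  rw [not_le] at hcard
  set A : V →ₗ[ZMod 2] V := (P : V →ₗ[ZMod 2] V) - LinearMap.id with hA
  -- `t = P ^ 2`
  set t := P * P with ht
  have hT : ∀ v, (A ^ 2) v = t v - v := by
    intro v
    rw [pow_two, Module.End.mul_apply, hA]
    simp only [LinearMap.sub_apply, LinearMap.id_apply, LinearEquiv.coe_coe, map_sub]
    change P (P v) - P v - (P v - v) = P (P v) - v
    simp only [sub_add']
    rw [add_assoc, add_add_cancel']
  have htne : t ≠ 1 := by
    intro h
    have : orderOf P ∣ 2 := orderOf_dvd_of_pow_eq_one (by rw [pow_two]; exact h)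
    rw [hP4] at this
    exact absurd this (by decide)
  have ht2 : t * t = 1 := by
    rw [ht, show P * P * (P * P) = P ^ 4 by simp only [pow_succ, pow_zero, one_mul, mul_assoc], ← hP4]
    exact pow_orderOf_eq_one P
  -- the image of `t - 1` is `{0, a}`
  obtain ⟨v₀, hv₀⟩ : ∃ v, t v ≠ v := by
    by_contra h
    push Not at h
    exact htne (LinearEquiv.ext h)
  set a := t v₀ - v₀ with ha_def
  have ha : a ≠ 0 := sub_ne_zero.2 hv₀
  have hTa : ∀ v, t v - v = 0 ∨ t v - v = a := by
    intro v
    by_contra h
    push Not at h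
    set b := t v - v
    have hm : ∀ x, x = a ∨ x = b ∨ x = 0 ∨ x = a + b → x ∈ LinearMap.range (A ^ 2) := by
      have h1 : a ∈ LinearMap.range (A ^ 2) := ⟨v₀, hT v₀⟩
      have h2 : b ∈ LinearMap.range (A ^ 2) := ⟨v, hT v⟩
      rintro x (rfl | rfl | rfl | rfl)
      exacts [h1, h2, Submodule.zero_mem _, Submodule.add_mem _ h1 h2]
    let f : Fin 4 → LinearMap.range (A ^ 2) :=
      ![⟨a, hm a (Or.inl rfl)⟩, ⟨b, hm b (Or.inr (Or.inl rfl))⟩, 0,
        ⟨a + b, hm _ (Or.inr (Or.inr (Or.inr rfl)))⟩]
    have hab : a + b ≠ 0 := by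
      rw [← sub_add']
      exact sub_ne_zero.2 h.2.symm
    have hf : Function.Injective f := by
      intro i j hij
      have hij' := congrArg Subtype.val hij
      have n1 : a ≠ a + b := fun e => h.1 (left_eq_add.1 e)
      have n2 : b ≠ a + b := fun e => ha (right_eq_add.1 e)
      fin_cases i <;> fin_cases j <;>
        simp [f, ha, ha.symm, h.1, h.1.symm, h.2, h.2.symm, hab, hab.symm, n1, n1.symm, n2,
          n2.symm] at hij' ⊢
    have := Nat.card_le_card_of_injective f hf
    rw [Nat.card_fin] at this
    omega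
  have hPa : P a = a := by
    have e : t (P v₀) - P v₀ = P a := by
      rw [ha_def, map_sub]
      rfl
    rcases hTa (P v₀) with h | h <;> rw [e] at h
    · exact absurd (P.injective (h.trans (map_zero P).symm)) ha
    · exact h
  -- the Fitting subgroup
  set F : Subgroup (V ≃ₗ[ZMod 2] V) := (fittingSubgroup S).map S.subtype with hF
  have hFnil : Group.IsNilpotent F :=
    (Group.isNilpotent_congr ((fittingSubgroup S).equivMapOfInjective S.subtype
      S.subtype_injective)).mp Cores.fittingSubgroup_isNilpotent
  have hFodd : Odd (Nat.card F) := by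
    have h1 : fittingSubgroup S ≤ pPrimeCore 2 S := by
      rw [Cores.iSup_pCore_eq_fittingSubgroup]
      refine (Cores.iSup_pCore_le_sup 2).trans ?_
      rw [hO2, sup_bot_eq]
    have h2 : Odd (Nat.card (fittingSubgroup S)) := by
      have h3 : (Nat.card (fittingSubgroup S)).Coprime 2 :=
        (Cores.coprime_card_pPrimeCore (p := 2) ).coprime_dvd_left
          (Subgroup.card_dvd_of_le h1)
      exact Nat.coprime_two_right.1 h3
    rwa [hF, Nat.card_congr ((fittingSubgroup S).equivMapOfInjective S.subtype
      S.subtype_injective).toEquiv.symm]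
  have hoddel : ∀ x ∈ F, Odd (orderOf x) := fun x hx =>
    hFodd.of_dvd_nat (Subgroup.orderOf_dvd_natCard F hx)
  have htS : t ∈ S := mul_mem hPS hPS
  have hFconj : ∀ g ∈ S, ∀ x ∈ F, g * x * g⁻¹ ∈ F := by
    rintro g hg x ⟨y, hy, rfl⟩
    exact ⟨⟨g, hg⟩ * y * ⟨g, hg⟩⁻¹, Cores.fittingSubgroup_normal.conj_mem y hy _, rfl⟩
  obtain ⟨x, hxF, hxt⟩ : ∃ x ∈ F, t * x ≠ x * t := by
    by_contra h
    push Not at h
    have h1 : (⟨t, htS⟩ : S) ∈ fittingSubgroup S := by
      apply Cores.centralizer_fittingSubgroup_le
      refine Subgroup.mem_centralizer_iff.2 fun y hy => Subtype.ext ?_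
      exact (h y.1 ⟨y, hy, rfl⟩).symm
    exact htne (eq_one_of_odd (hoddel t ⟨_, h1, rfl⟩) ht2)
  have tinv : t⁻¹ = t := inv_eq_of_mul_eq_one_right ht2
  -- elements of `F` inverted by `t`
  have hgood : ∀ y ∈ F, t * y ≠ y * t → y⁻¹ * t * y * t ∈ F ∧ Good a (y⁻¹ * t * y * t) := by
    intro y hy hyt
    have hmem : y⁻¹ * t * y * t ∈ F := by
      have := mul_mem (inv_mem hy) (hFconj t htS y hy)
      rwa [tinv, ← mul_assoc, ← mul_assoc] at this
    refine ⟨hmem, good_of (b := y⁻¹ a) ?_ (hoddel _ hmem) ha ?_⟩
    · intro h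
      apply hyt
      calc t * y = y * (y⁻¹ * t * y * t) * t⁻¹ := by group
        _ = y * t := by rw [h, mul_one, tinv]
    · intro v
      have e : (y⁻¹ * t * y * t) v - v = y⁻¹ (t (y (t v)) - y (t v)) + (t v - v) := by
        change y⁻¹ (t (y (t v))) - v = _
        rw [map_sub, show y⁻¹ (y (t v)) = t v from y.symm_apply_apply _, sub_add_sub_cancel]
      rw [e]
      rcases hTa (y (t v)) with h1 | h1 <;> rcases hTa v with h2 | h2 <;> rw [h1, h2]
      · left; simp
      · right; left; simp
      · right; right; left; simp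
      · right; right; right; rw [add_comm]
  obtain ⟨huF, hu⟩ := hgood x hxF hxt
  set u := x⁻¹ * t * x * t with hu_def
  have hPt : P * t = t * P := by rw [ht, mul_assoc]
  have hPt' : P * t * P⁻¹ = t := by rw [hPt, mul_inv_cancel_right]
  obtain ⟨hvF, hv⟩ := hgood (P * x * P⁻¹) (hFconj P hPS x hxF) (by
    intro h
    apply hxt
    calc t * x = P⁻¹ * ((P * t * P⁻¹) * (P * x * P⁻¹)) * P := by group
      _ = P⁻¹ * ((P * x * P⁻¹) * (P * t * P⁻¹)) * P := by rw [hPt', h]
      _ = x * t := by group)
  set v := (P * x * P⁻¹)⁻¹ * t * (P * x * P⁻¹) * t with hv_def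
  have hvu : v = P * u * P⁻¹ := by
    rw [hu_def, hv_def]
    calc (P * x * P⁻¹)⁻¹ * t * (P * x * P⁻¹) * t
        = (P * x * P⁻¹)⁻¹ * (P * t * P⁻¹) * (P * x * P⁻¹) * (P * t * P⁻¹) := by rw [hPt']
      _ = P * (x⁻¹ * t * x * t) * P⁻¹ := by group
  -- `u` and `v` commute
  have hcomm : Commute u v := by
    haveI : Fact (Nat.Prime 3) := ⟨Nat.prime_three⟩
    obtain ⟨R⟩ := (inferInstance : Nonempty (Sylow 3 F))
    haveI : (R : Subgroup F).Normal := inferInstance
    haveI := Sylow.unique_of_normal R inferInstance
    have hmem : ∀ w (hw : w ∈ F), w ^ 3 = 1 → w ∈ (R : Subgroup F).map F.subtype := by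
      intro w hw h3
      have hp : IsPGroup 3 (Subgroup.zpowers (⟨w, hw⟩ : F)) := by
        have h31 : orderOf (⟨w, hw⟩ : F) ∣ 3 ^ 1 :=
          orderOf_dvd_of_pow_eq_one (Subtype.ext (by simpa using h3))
        obtain ⟨k, -, hk⟩ := (Nat.dvd_prime_pow Nat.prime_three).1 h31
        exact IsPGroup.of_card (by rw [Nat.card_zpowers]; exact hk)
      obtain ⟨Q, hQ⟩ := hp.exists_le_sylow
      rw [Subsingleton.elim Q R] at hQ
      exact ⟨_, hQ (Subgroup.mem_zpowers _), rfl⟩
    let H := Subgroup.closure {u, v}
    have hH : IsPGroup 3 H := by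
      refine (R.isPGroup'.map F.subtype).to_le ?_
      rw [Subgroup.closure_le]
      rintro w (rfl | rfl)
      exacts [hmem _ huF hu.1, hmem _ hvF hv.1]
    let g : (Fin 3 → ZMod 2) →ₗ[ZMod 2] V := Fintype.linearCombination (ZMod 2) ![a, u a, v a]
    have hU : Nat.card (LinearMap.range g) ≤ 8 :=
      (Nat.card_le_card_of_surjective _ g.surjective_rangeRestrict).trans (by simp)
    have hgm : ∀ i : Fin 3, ![a, u a, v a] i ∈ LinearMap.range g := fun i =>
      ⟨Pi.single i 1, by simp [g, Fintype.linearCombination_apply_single]⟩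
    have ha' : a ∈ LinearMap.range g := hgm 0
    have hua' : u a ∈ LinearMap.range g := hgm 1
    have hva' : v a ∈ LinearMap.range g := hgm 2
    have hle : H ≤ moveInto (LinearMap.range g) := by
      rw [Subgroup.closure_le]
      rintro w (rfl | rfl) z
      · rcases hu.2.2.2 z with h | h | h | h <;> rw [h]
        exacts [Submodule.zero_mem _, ha', hua', Submodule.add_mem _ ha' hua']
      · rcases hv.2.2.2 z with h | h | h | h <;> rw [h]
        exacts [Submodule.zero_mem _, ha', hva', Submodule.add_mem _ ha' hva']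
    exact congrArg Subtype.val
      (commute_of H hH _ hU hle ⟨u, Subgroup.subset_closure (Or.inl rfl)⟩
        ⟨v, Subgroup.subset_closure (Or.inr rfl)⟩).eq
  -- hence `u a` lies in the image of `v - 1`
  have hua : u a = v a ∨ u a = a + v a := by
    have e : v (u (v a)) - u (v a) = u a := by
      have : v (u (v a)) = u (v (v a)) := DFunLike.congr_fun hcomm.eq.symm (v a)
      rw [this, ← map_sub, hv.2.2.1, add_sub_cancel_right]
    rcases hv.2.2.2 (u (v a)) with h | h | h | h <;> rw [e] at h
    · exact absurd (u.injective (h.trans (map_zero u).symm)) ha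
    · exact absurd h hu.2.1
    · exact Or.inl h
    · exact Or.inr h
  have hva : v a = P (u a) := by
    rw [hvu]
    change P (u (P⁻¹ a)) = P (u a)
    rw [show P⁻¹ a = a from P.symm_apply_eq.2 hPa.symm]
  have htua : t (u a) = u a := by
    change P (P (u a)) = u a
    rcases hua with h | h
    · rw [← hva, ← h, ← hva, ← h]
    · have h' : P (u a) = a + u a := by rw [← hva, h, add_add_cancel']
      rw [h', map_add, hPa, h', add_add_cancel']
  have hta : t a = a := by change P (P a) = a; rw [hPa, hPa]
  have hinv : t * u * t = u⁻¹ := by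
    calc t * u * t = t * x⁻¹ * t * x * (t * t) := by simp only [hu_def, mul_assoc]
      _ = t⁻¹ * x⁻¹ * t⁻¹ * x := by rw [ht2, mul_one, tinv]
      _ = u⁻¹ := by simp only [hu_def, mul_inv_rev, inv_inv, mul_assoc]
  have h2 : u a = a + u a := by
    have e1 : (t * u * t) a = u a := by
      change t (u (t a)) = u a
      rw [hta, htua]
    have e3 : u⁻¹ = u * u := by
      rw [inv_eq_iff_mul_eq_one]
      rw [← hu.1]
      simp [pow_succ, mul_assoc]
    rw [hinv, e3] at e1
    exact e1.symm.trans hu.2.2.1
  exact ha (right_eq_add.1 h2)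

end Cfsg.Agent.S4410
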