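import Cfsg.Statements.S4411
import Cfsg.Agent.Cores.AutomizerPrime

set_option autoImplicit false
open Cfsg
open Subgroup

namespace Cfsg.Agent.S4411

/-- Let p and q be distinct primes with {p, q} ≠ {2, 3}, and let G be a finite group such that for every p-subgroup H of G the automizer N_G(H)/C_G(H) is p-solvable. If q divides the order of N_G(H)/C_G(H) for some p-subgroup H, then a Sylow p-subgroup of G has a normal subgroup K (normal in the Sylow subgroup) such that q divides the order of N_G(K)/C_G(K). -/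
theorem result {G : Type*} [Group G] [Finite G]
    (p q : ℕ) [Fact p.Prime] [Fact q.Prime] (hpq : p ≠ q) (h23 : ¬ ((p = 2 ∧ q = 3) ∨ (p = 3 ∧ q = 2)))
    (hsol : ∀ H : Subgroup G, IsPGroup p ↥H →
      Cfsg.IsPSolvable p (↥(Subgroup.normalizer (H : Set G)) ⧸ (Subgroup.centralizer (H : Set G)).subgroupOf (Subgroup.normalizer (H : Set G))))
    (H : Subgroup G) (hH : IsPGroup p ↥H)
    (hq : q ∣ ((Subgroup.centralizer (H : Set G)).subgroupOf (Subgroup.normalizer (H : Set G))).index)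
    (Gp : Sylow p G) :
    ∃ K : Subgroup G, K ≤ (Gp : Subgroup G) ∧ (Gp : Subgroup G) ≤ Subgroup.normalizer (K : Set G) ∧
      q ∣ ((Subgroup.centralizer (K : Set G)).subgroupOf (Subgroup.normalizer (K : Set G))).index := by
  classical
  let S : Set (Subgroup G × Subgroup G) := {x | IsPGroup p ↥x.1 ∧
    q ∣ ((centralizer (x.1 : Set G)).subgroupOf (normalizer (x.1 : Set G))).index ∧
    IsPGroup p ↥x.2 ∧ x.2 ≤ normalizer (x.1 : Set G)}
  obtain ⟨⟨H₀, Q₀⟩, ⟨hH₀, hq₀, hQ₀, hQN₀⟩, hmax⟩ :=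
    Set.exists_max_image S (fun x => Nat.card ↥x.2) (Set.toFinite _)
      ⟨(H, H), hH, hq, hH, le_normalizer⟩
  -- conjugate `Q₀` into `Gp`
  obtain ⟨S₁, hS₁⟩ := hQ₀.exists_le_sylow
  obtain ⟨g, hg⟩ := MulAction.exists_smul_eq G S₁ Gp
  set c : G ≃* G := MulAut.conj g with hc
  have hQle : Q₀.map c.toMonoidHom ≤ (Gp : Subgroup G) := by
    rw [← hg, Sylow.coe_subgroup_smul]
    exact map_mono hS₁
  have hN : ∀ K : Subgroup G, normalizer ((K.map c.toMonoidHom : Subgroup G) : Set G) =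
      (normalizer (K : Set G)).map c.toMonoidHom :=
    fun K => (map_equiv_normalizer_eq K c).symm
  have hq₁ : q ∣ ((centralizer ((H₀.map c.toMonoidHom : Subgroup G) : Set G)).subgroupOf
      (normalizer ((H₀.map c.toMonoidHom : Subgroup G) : Set G))).index := by
    obtain ⟨x, hxN, hxq, hxC⟩ := Cores.AutomizerPrime.exists_qElement_of_not_le hq₀ inferInstance
    exact Cores.AutomizerPrime.dvd_index_of_moves
      (Cores.AutomizerPrime.moves_map c.injective ⟨x, hxq, hxN, hxC⟩)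
  set H₁ := H₀.map c.toMonoidHom
  set Q₁ := Q₀.map c.toMonoidHom
  have hH₁ : IsPGroup p ↥H₁ := hH₀.map _
  have hQ₁ : IsPGroup p ↥Q₁ := hQ₀.map _
  have hQN₁ : Q₁ ≤ normalizer (H₁ : Set G) := by
    rw [hN]; exact map_mono hQN₀
  have hcard : Nat.card ↥Q₁ = Nat.card ↥Q₀ := card_map_of_injective c.injective
  have hmax' : ∀ K R : Subgroup G, IsPGroup p ↥K →
      q ∣ ((centralizer (K : Set G)).subgroupOf (normalizer (K : Set G))).index →
      IsPGroup p ↥R → R ≤ normalizer (K : Set G) → Nat.card ↥R ≤ Nat.card ↥Q₁ :=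
    fun K R h1 h2 h3 h4 => hcard ▸ hmax (K, R) ⟨h1, h2, h3, h4⟩
  obtain ⟨K, hK, hqK⟩ := Cores.AutomizerPrime.exists_charIn_automizer hpq h23 hH₁ (hsol H₁ hH₁)
    hq₁ hQ₁ hQN₁ (fun R hR hRp => hmax' H₁ R hH₁ hq₁ hRp hR)
  refine ⟨K, hK.1.trans hQle, ?_, hqK⟩
  by_cases hlt : Q₁ = (Gp : Subgroup G)
  · exact hlt ▸ (le_normalizer.trans (Cores.AutomizerPrime.charIn_normalizer_le hK))
  exfalso
  have hlt' : Q₁.subgroupOf (Gp : Subgroup G) < ⊤ := lt_top_iff_ne_top.2 fun h =>
    hlt (le_antisymm hQle (subgroupOf_eq_top.1 h))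
  have hnc := Group.normalizerCondition_of_isNilpotent (G := ↥(Gp : Subgroup G))
    (h := Gp.isPGroup'.isNilpotent) (Q₁.subgroupOf (Gp : Subgroup G)) hlt'
  set R := (normalizer (Q₁.subgroupOf (Gp : Subgroup G) : Set ↥(Gp : Subgroup G))).map
    (Gp : Subgroup G).subtype with hR
  have hRle : R ≤ normalizer (Q₁ : Set G) := by
    have := le_normalizer_map (H := Q₁.subgroupOf (Gp : Subgroup G)) (Gp : Subgroup G).subtype
    rwa [subgroupOf_map_subtype, inf_eq_left.2 hQle] at this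
  have h1 := hmax' K R (hQ₁.to_le hK.1) hqK ((Gp.isPGroup'.to_subgroup _).map _)
    (hRle.trans (Cores.AutomizerPrime.charIn_normalizer_le hK))
  have h2 : Nat.card ↥(Q₁.subgroupOf (Gp : Subgroup G)) <
      Nat.card ↥(normalizer (Q₁.subgroupOf (Gp : Subgroup G) : Set ↥(Gp : Subgroup G))) :=
    lt_of_not_ge fun h => hnc.ne (eq_of_le_of_card_ge hnc.le h)
  rw [Nat.card_congr (subgroupOfEquivOfLe hQle).toEquiv] at h2
  rw [hR, card_map_of_injective (Gp : Subgroup G).subtype_injective] at h1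
  omega

end Cfsg.Agent.S4411
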