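import Cfsg.Statements.S4412
import Cfsg.Agent.PGroups.Basic
import Cfsg.Agent.H60.Amalgam
import Mathlib.GroupTheory.SpecificGroups.Cyclic
import Mathlib.Tactic.LinearCombination
import Mathlib.Tactic.FinCases
import Mathlib.Tactic.IntervalCases
import Mathlib.Tactic.Ring

set_option autoImplicit false
set_option linter.style.haveILetI false
open Cfsg
open scoped commutatorElement
set_option linter.unusedSectionVars false

namespace Cfsg.Agent.S4412

section

variable {P : Type*} [Group P] [Finite P]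

theorem exists_fix (hodd : Odd (Nat.card P)) {T : MulAut P} (hT : ∀ x, T (T x) = x) {N : Subgroup P}
    {y : P} (hy : y⁻¹ * T y ∈ N) : ∃ m ∈ N, T (y * m) = y * m := by
  obtain ⟨n, hn, hTy⟩ : ∃ n, n ∈ N ∧ T y = y * n := ⟨y⁻¹ * T y, hy, by group⟩
  have hTn : T n = n⁻¹ := by
    have h := congrArg T hTy
    rw [hT, map_mul, hTy, mul_assoc, left_eq_mul] at h
    exact eq_inv_of_mul_eq_one_right h
  obtain ⟨j, hj⟩ := hodd
  have hn2 : (n ^ (j + 1)) ^ 2 = n := by
    rw [← pow_mul, show (j + 1) * 2 = Nat.card P + 1 by omega, pow_succ, pow_card_eq_one', one_mul]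
  refine ⟨n ^ (j + 1), pow_mem hn _, ?_⟩
  have h2 : n * (n ^ (j + 1))⁻¹ = n ^ (j + 1) := mul_inv_eq_of_eq_mul ((sq _).symm.trans hn2).symm
  rw [map_mul, map_pow, hTn, inv_pow, hTy, mul_assoc, h2]

theorem mem_of_sq (hodd : Odd (Nat.card P)) {N : Subgroup P} {x : P} (hx : x * x ∈ N) : x ∈ N := by
  obtain ⟨j, hj⟩ := hodd
  have := pow_mem hx (j + 1)
  rw [← sq, ← pow_mul, show 2 * (j + 1) = Nat.card P + 1 by omega, pow_succ, pow_card_eq_one',
    one_mul] at this
  exact this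

theorem eq_one_of_inv (hodd : Odd (Nat.card P)) {x : P} (hx : x = x⁻¹) : x = 1 :=
  Subgroup.mem_bot.1 (mem_of_sq hodd (Subgroup.mem_bot.2 (eq_inv_iff_mul_eq_one.1 hx)))

theorem sgn {p : ℕ} (hp : p.Prime) (hp2 : p ≠ 2) (hP : IsPGroup p P) {T : MulAut P} {c : P}
    (hT : T (T c) = c) (hc : T c ∈ Subgroup.zpowers c) : T c = c ∨ T c = c⁻¹ := by
  haveI := Fact.mk hp
  obtain ⟨k, hk⟩ := hc
  simp only at hk
  obtain ⟨m, hm⟩ := IsPGroup.iff_orderOf.mp hP c
  have hdvd : (orderOf c : ℤ) ∣ (k - 1) * (k + 1) := by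
    rw [orderOf_dvd_iff_zpow_eq_one, show (k - 1) * (k + 1) = k * k - 1 by ring, zpow_sub, zpow_one,
      zpow_mul, hk, ← map_zpow, hk, hT, mul_inv_cancel]
  rw [hm, Nat.cast_pow] at hdvd
  have hpZ : Prime (p : ℤ) := Nat.prime_iff_prime_int.1 hp
  by_cases h1 : (p : ℤ) ∣ k - 1
  · have h2 : ¬ (p : ℤ) ∣ k + 1 := fun h2 => hp2 (by
      have h3 := dvd_sub h2 h1
      rw [show k + 1 - (k - 1) = ((2 : ℕ) : ℤ) by push_cast; ring, Int.natCast_dvd_natCast] at h3
      exact (Nat.prime_dvd_prime_iff_eq hp Nat.prime_two).1 h3)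
    have h3 : (orderOf c : ℤ) ∣ k - 1 := by
      rw [hm, Nat.cast_pow]
      exact ((hpZ.coprime_iff_not_dvd.2 h2).pow_left).dvd_of_dvd_mul_right hdvd
    left
    rwa [orderOf_dvd_iff_zpow_eq_one, zpow_sub, zpow_one, hk, mul_inv_eq_one] at h3
  · have h3 : (orderOf c : ℤ) ∣ k + 1 := by
      rw [hm, Nat.cast_pow]
      exact ((hpZ.coprime_iff_not_dvd.2 h1).pow_left).dvd_of_dvd_mul_left hdvd
    right
    rwa [orderOf_dvd_iff_zpow_eq_one, zpow_add, zpow_one, hk, mul_eq_one_iff_eq_inv] at h3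

theorem exists_index_two {G : Type*} [Group G] [Finite G] {I I₀ : Subgroup G} (hsq : ∀ a ∈ I, a * a = 1)
    (hcomm : ∀ a ∈ I, ∀ b ∈ I, a * b = b * a) (hI₀ : I₀ ≤ I) {b : G} (hb : b ∈ I) (hb₀ : b ∉ I₀) :
    ∃ H : Subgroup G, I₀ ≤ H ∧ H ≤ I ∧ b ∉ H ∧ ∀ a ∈ I, a ∈ H ∨ b * a ∈ H := by
  obtain ⟨H, hH⟩ := ({H : Subgroup G | I₀ ≤ H ∧ H ≤ I ∧ b ∉ H}).toFinite.exists_maximal
    ⟨I₀, le_rfl, hI₀, hb₀⟩
  obtain ⟨h1, h2, h3⟩ := hH.prop
  refine ⟨H, h1, h2, h3, fun a ha => ?_⟩
  by_contra hne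
  push Not at hne
  let K : Subgroup G :=
    { carrier := {x | x ∈ I ∧ (x ∈ H ∨ a * x ∈ H)}
      one_mem' := ⟨one_mem _, Or.inl (one_mem _)⟩
      inv_mem' := fun {x} hx => by
        rw [show x⁻¹ = x from inv_eq_of_mul_eq_one_right (hsq x hx.1)]; exact hx
      mul_mem' := fun {x y} hx hy => by
        refine ⟨mul_mem hx.1 hy.1, ?_⟩
        rcases hx.2 with hx' | hx' <;> rcases hy.2 with hy' | hy'
        · exact Or.inl (mul_mem hx' hy')
        · exact Or.inr (by
            rw [← mul_assoc, hcomm a ha x hx.1, mul_assoc]; exact mul_mem hx' hy')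
        · exact Or.inr (by rw [← mul_assoc]; exact mul_mem hx' hy')
        · refine Or.inl ?_
          have h4 := mul_mem hx' hy'
          rwa [mul_assoc, ← mul_assoc x a y, ← hcomm a ha x hx.1, mul_assoc, ← mul_assoc a a,
            hsq a ha, one_mul] at h4 }
  have hle : H ≤ K := fun x hx => ⟨h2 hx, Or.inl hx⟩
  have hKmem : K ∈ ({H : Subgroup G | I₀ ≤ H ∧ H ≤ I ∧ b ∉ H}) := by
    refine ⟨h1.trans hle, fun x hx => hx.1, fun hbK => ?_⟩
    rcases hbK.2 with h | h
    · exact h3 h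
    · exact hne.2 (hcomm a ha b hb ▸ h)
  exact hne.1 (hH.le_of_ge hKmem hle ⟨ha, Or.inr (by rw [hsq a ha]; exact one_mem _)⟩)

theorem closure_eq_top {p : ℕ} [Fact p.Prime] (hP : IsPGroup p P) (hodd : Odd (Nat.card P))
    {a b : MulAut P} (ha : ∀ x, a (a x) = x) (hb : ∀ x, b (b x) = x) (hab : a * b = b * a)
    {K : Subgroup P} (h1 : ∀ x, a x = x → x ∈ K) (h2 : ∀ x, b x = x → x ∈ K)
    (h3 : ∀ x, (a * b) x = x → x ∈ K) : K = ⊤ := by
  have hc : ∀ x, a (b x) = b (a x) := fun x => by rw [← MulAut.mul_apply, hab, MulAut.mul_apply]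
  have habsq : ∀ x, (a * b) ((a * b) x) = x := fun x => by
    simp only [MulAut.mul_apply]; rw [hc (a (b x)), ha, hb]
  set N := commutator P with hN
  suffices hKN : K ⊔ N = ⊤ by
    refine frattini_nongenerating (top_le_iff.1 (hKN ▸ sup_le_sup_left ?_ K))
    exact PGroups.commutator_le_frattini hP
  have hNcomm : ∀ x y : P, (y * x)⁻¹ * (x * y) ∈ N := fun x y => by
    rw [show (y * x)⁻¹ * (x * y) = ⁅x⁻¹, y⁻¹⁆ by simp only [commutatorElement_def]; group]
    exact Subgroup.commutator_mem_commutator (Subgroup.mem_top _) (Subgroup.mem_top _)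
  have hlift : ∀ {T : MulAut P}, (∀ x, T (T x) = x) → (∀ x, T x = x → x ∈ K) → ∀ z,
      z⁻¹ * T z ∈ N → z ∈ K ⊔ N := by
    intro T hT hK z hz
    obtain ⟨m, hm, he⟩ := exists_fix hodd hT hz
    have := mul_mem (Subgroup.mem_sup_left (T := N) (hK _ he))
      (Subgroup.mem_sup_right (S := K) (inv_mem hm))
    rwa [mul_inv_cancel_right] at this
  rw [eq_top_iff]
  intro x _
  obtain ⟨j, hj⟩ := hodd
  have hn : a (x⁻¹ * a x) = (x⁻¹ * a x)⁻¹ := by
    rw [map_mul, map_inv, ha, mul_inv_rev, inv_inv]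
  set n := x⁻¹ * a x with hn'
  set m := n ^ (j + 1) with hm
  have ham : a m = m⁻¹ := by rw [hm, map_pow, hn, inv_pow]
  have hm2 : m * m = n := by
    rw [hm, ← pow_add, show j + 1 + (j + 1) = Nat.card P + 1 by omega, pow_succ, pow_card_eq_one',
      one_mul]
  have hxm : x * m ∈ K := h1 _ (by
    rw [map_mul, ham, show a x = x * (m * m) by rw [hm2, hn']; group]; group)
  have hu : m * b m ∈ K ⊔ N := hlift hb h2 _ (by rw [map_mul, hb]; exact hNcomm _ _)
  have hv : m * (b m)⁻¹ ∈ K ⊔ N := hlift habsq h3 _ (by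
    rw [map_mul, map_inv, MulAut.mul_apply, MulAut.mul_apply, hb, ham, inv_inv, hc, ham, map_inv]
    exact hNcomm _ _)
  have hmm : m * m ∈ K ⊔ N := by
    have h8 : (m * (b m)⁻¹ * (m * b m))⁻¹ * (m * m) ∈ N := by
      rw [show (m * (b m)⁻¹ * (m * b m))⁻¹ * (m * m) = ((b m)⁻¹ * (m * b m))⁻¹ * m by group,
        show ((b m)⁻¹ * (m * b m))⁻¹ * m = ⁅(b m)⁻¹, m⁻¹⁆ by
          simp only [commutatorElement_def]; group]
      exact Subgroup.commutator_mem_commutator (Subgroup.mem_top _) (Subgroup.mem_top _)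
    have := mul_mem (mul_mem hv hu) (Subgroup.mem_sup_right (S := K) h8)
    rwa [mul_inv_cancel_left] at this
  have hmK : m ∈ K ⊔ N := mem_of_sq ⟨j, hj⟩ hmm
  have := mul_mem (Subgroup.mem_sup_left (T := N) hxm) (inv_mem hmK)
  rwa [mul_inv_cancel_right] at this

theorem isMulCommutative_of {p : ℕ} [Fact p.Prime] (hP : IsPGroup p P) {s : Set P}
    (hs : Subgroup.closure s = ⊤)
    (h : ∀ x ∈ s, ∀ y ∈ s, ⁅x, y⁆ ∈ ⁅commutator P, (⊤ : Subgroup P)⁆) : IsMulCommutative P := by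
  set N := ⁅commutator P, (⊤ : Subgroup P)⁆ with hN
  haveI hNn : N.Normal := Subgroup.commutator_normal _ _
  have key : ∀ (y : P), (∀ x ∈ s, ⁅x, y⁆ ∈ N) → ∀ (x : P), ⁅x, y⁆ ∈ N := by
    intro y hy x
    have hx : x ∈ Subgroup.closure s := hs ▸ Subgroup.mem_top x
    induction hx using Subgroup.closure_induction with
    | mem x hx => exact hy x hx
    | one => simp
    | mul a b _ _ iha ihb =>
      rw [show ⁅a * b, y⁆ = a * ⁅b, y⁆ * a⁻¹ * ⁅a, y⁆ by simp only [commutatorElement_def]; group]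
      exact mul_mem (hNn.conj_mem _ ihb a) iha
    | inv a _ iha =>
      rw [show ⁅a⁻¹, y⁆ = a⁻¹ * ⁅a, y⁆⁻¹ * a⁻¹⁻¹ by simp only [commutatorElement_def]; group]
      exact hNn.conj_mem _ (inv_mem iha) _
  have h1 : ∀ x y : P, ⁅x, y⁆ ∈ N := fun x y => key y (fun z hz => by
    rw [← commutatorElement_inv]
    exact inv_mem (key z (fun w hw => h w hw z hz) y)) x
  have hle : commutator P ≤ ⊥ := by
    refine H60.le_of_le_sup_commutator (Q := ⊤) (hP.of_equiv Subgroup.topEquiv.symm) le_top bot_le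
      ?_ ?_
    · rw [le_top.antisymm (Subgroup.normalizer_eq_top_iff.2 inferInstance).ge]
    · rw [bot_sup_eq]
      exact Subgroup.commutator_le.2 fun x _ y _ => h1 x y
  exact ⟨⟨fun x y => commutatorElement_eq_one_iff_mul_comm.1 (Subgroup.mem_bot.1 (hle
    (Subgroup.commutator_mem_commutator (Subgroup.mem_top x) (Subgroup.mem_top y))))⟩⟩

end

theorem fin3_uniq (i j k l : Fin 3) (h1 : i ≠ j) (h2 : k ≠ i) (h3 : k ≠ j) : l = i ∨ l = j ∨ l = k := by
  revert i j k l; decide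

theorem fin3_third (i j : Fin 3) : ∃ k, k ≠ i ∧ k ≠ j := by revert i j; decide

theorem fin3_two (i : Fin 3) : ∃ j k, j ≠ i ∧ k ≠ i ∧ j ≠ k := by revert i; decide

theorem fin3_pair (k : Fin 3) : ∃ i j, i ≠ j ∧ k ≠ i ∧ k ≠ j := by revert k; decide

theorem fin3_forall {Q : Fin 3 → Prop} (h0 : Q 0) (h1 : Q 1) (h2 : Q 2) (l : Fin 3) : Q l := by
  fin_cases l <;> assumption

/-- `T` fixes a noncyclic subgroup. -/
def Broad {P : Type*} [Group P] (T : MulAut P) : Prop :=
  ¬ ∃ g : P, ∀ x : P, (T x = x ↔ x ∈ Subgroup.zpowers g)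

theorem main {P : Type*} [Group P] [Finite P] (p : ℕ) (hp : p.Prime) (hp2 : p ≠ 2) (hP : IsPGroup p P)
    (I : Subgroup (MulAut P)) (hI : Cfsg.IsElementaryAbelian 2 I) (hI8 : Nat.card ↥I = 8)
    (I₀ : Subgroup (MulAut P)) (hI₀ : I₀ < I)
    (hdisj : ∀ T ∈ I₀, T ≠ 1 → ¬ Broad T)
    (hprod : ∀ T ∈ I, ∀ T' ∈ I, T ≠ 1 → T' ≠ 1 → Broad T → Broad T' → T * T' ∈ I₀) :
    IsMulCommutative P ∧ (∃ a b c : P, Subgroup.closure {a, b, c} = ⊤) ∧
      (¬ ∃ a b : P, Subgroup.closure {a, b} = ⊤) ∧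
      Nat.card {T : MulAut P // T ∈ I ∧ T ≠ 1 ∧ Broad T} = 3 ∧
      Subgroup.closure {T : MulAut P | T ∈ I ∧ T ≠ 1 ∧ Broad T} = I ∧
      (I₀ : Set (MulAut P)) = {S : MulAut P | ∃ T T' : MulAut P, T ∈ I ∧ T' ∈ I ∧ T ≠ 1 ∧ T' ≠ 1 ∧
        Broad T ∧ Broad T' ∧ S = T * T'} := by
  classical
  haveI := Fact.mk hp
  have hodd : Odd (Nat.card P) := by
    obtain ⟨n, hn⟩ := hP.exists_card_eq
    rw [hn]; exact (hp.odd_of_ne_two hp2).pow
  have hsq : ∀ a ∈ I, a * a = 1 := fun a ha => by rw [← sq]; exact hI.2 a ha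
  have hcomm : ∀ a ∈ I, ∀ b ∈ I, a * b = b * a := fun a ha b hb =>
    congrArg Subtype.val (hI.1.is_comm.comm ⟨a, ha⟩ ⟨b, hb⟩)
  have hinv : ∀ a ∈ I, ∀ x, a (a x) = x := fun a ha x => by
    rw [← MulAut.mul_apply, hsq a ha]; rfl
  -- a subgroup of order four without broad elements
  obtain ⟨b, hb, hb₀, hbB⟩ : ∃ b ∈ I, b ∉ I₀ ∧ ((∃ t ∈ I, t ≠ 1 ∧ Broad t) → b ≠ 1 ∧ Broad b) := by
    by_cases h : ∃ t ∈ I, t ≠ 1 ∧ Broad t
    · obtain ⟨t, ht, ht1, htB⟩ := h
      exact ⟨t, ht, fun h0 => hdisj t h0 ht1 htB, fun _ => ⟨ht1, htB⟩⟩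
    · obtain ⟨t, ht, ht0⟩ := SetLike.exists_of_lt hI₀
      exact ⟨t, ht, ht0, fun h' => absurd h' h⟩
  obtain ⟨H, hH0, hHI, hbH, hcov⟩ := exists_index_two hsq hcomm hI₀.le hb hb₀
  have hHB : ∀ t ∈ H, t ≠ 1 → ¬ Broad t := by
    intro t ht ht1 htB
    obtain ⟨hb1, hbB'⟩ := hbB ⟨t, hHI ht, ht1, htB⟩
    have h1 := mul_mem (hH0 (hprod b hb t (hHI ht) hb1 ht1 hbB' htB)) (inv_mem ht)
    rw [mul_inv_cancel_right] at h1
    exact hbH h1
  have hH4 : 4 ≤ Nat.card H := by
    let f : H ⊕ H → I := Sum.elim (fun x => ⟨x, hHI x.2⟩) (fun x => ⟨b * x, mul_mem hb (hHI x.2)⟩)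
    have hf : Function.Surjective f := by
      rintro ⟨a, ha⟩
      rcases hcov a ha with h | h
      · exact ⟨Sum.inl ⟨a, h⟩, rfl⟩
      · refine ⟨Sum.inr ⟨b * a, h⟩, Subtype.ext ?_⟩
        show b * (b * a) = a
        rw [← mul_assoc, hsq b hb, one_mul]
    have := Nat.card_le_card_of_surjective f hf
    rw [Nat.card_sum, hI8] at this
    omega
  obtain ⟨h₁, h₂, hh1, hh2, h11, h21, h12⟩ : ∃ h₁ h₂, h₁ ∈ H ∧ h₂ ∈ H ∧ h₁ ≠ 1 ∧ h₂ ≠ 1 ∧ h₁ ≠ h₂ := by
    haveI := Fintype.ofFinite H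
    have hgt : 2 < (Finset.univ : Finset H).card := by
      rw [Finset.card_univ, ← Nat.card_eq_fintype_card]; omega
    obtain ⟨x, y, z, -, -, -, hxy, hxz, hyz⟩ := Finset.two_lt_card_iff.1 hgt
    by_cases hx : x = 1
    · exact ⟨y, z, y.2, z.2, fun h => hxy (hx.trans (Subtype.ext h).symm),
        fun h => hxz (hx.trans (Subtype.ext h).symm), fun h => hyz (Subtype.ext h)⟩
    by_cases hy : y = 1
    · exact ⟨x, z, x.2, z.2, fun h => hx (Subtype.ext h),
        fun h => hyz (hy.trans (Subtype.ext h).symm), fun h => hxz (Subtype.ext h)⟩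
    · exact ⟨x, y, x.2, y.2, fun h => hx (Subtype.ext h), fun h => hy (Subtype.ext h),
        fun h => hxy (Subtype.ext h)⟩
  let h : Fin 3 → MulAut P := ![h₁, h₂, h₁ * h₂]
  have hhH : ∀ i, h i ∈ H := fun i => by fin_cases i <;> [exact hh1; exact hh2; exact mul_mem hh1 hh2]
  have hh1' : ∀ i, h i ≠ 1 := fun i => by
    fin_cases i <;> [exact h11; exact h21; skip]
    intro he
    apply h12
    calc h₁ = h₁ * (h₂ * h₂) := by rw [hsq h₂ (hHI hh2), mul_one]
      _ = h₂ := by rw [← mul_assoc, show h₁ * h₂ = 1 from he, one_mul]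
  have hfix : ∀ i, ∃ g : P, ∀ x, h i x = x ↔ x ∈ Subgroup.zpowers g := fun i =>
    not_not.1 (hHB (h i) (hhH i) (hh1' i))
  choose c hc using hfix
  have hcc : ∀ i, h i (c i) = c i := fun i => (hc i _).2 (Subgroup.mem_zpowers _)
  have htop : Subgroup.closure (Set.range c) = ⊤ := by
    have hle : ∀ i, ∀ x, h i x = x → x ∈ Subgroup.closure (Set.range c) := fun i x hx =>
      Subgroup.zpowers_le.2 (Subgroup.subset_closure (Set.mem_range_self i)) ((hc i x).1 hx)
    exact closure_eq_top hP hodd (hinv h₁ (hHI hh1)) (hinv h₂ (hHI hh2))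
      (hcomm h₁ (hHI hh1) h₂ (hHI hh2)) (hle 0) (hle 1) (hle 2)
  have hext : ∀ T T' : MulAut P, (∀ i, T (c i) = T' (c i)) → T = T' := by
    intro T T' hTT
    have := MonoidHom.eq_of_eqOn_dense (f := T.toMonoidHom) (g := T'.toMonoidHom) htop
      (by rintro _ ⟨i, rfl⟩; exact hTT i)
    exact MulEquiv.ext fun x => DFunLike.congr_fun this x
  have hsgn : ∀ T ∈ I, ∀ i, T (c i) = c i ∨ T (c i) = (c i)⁻¹ := by
    intro T hT i
    refine sgn hp hp2 hP (hinv T hT _) ((hc i _).1 ?_)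
    rw [← MulAut.mul_apply, hcomm _ (hHI (hhH i)) T hT, MulAut.mul_apply, hcc]
  -- all eight sign patterns occur
  let pat : I → Fin 3 → Bool := fun T i => decide ((T : MulAut P) (c i) = c i)
  have hpat : Function.Injective pat := by
    intro T T' he
    refine Subtype.ext (hext _ _ fun i => ?_)
    have h1 := congrFun he i
    simp only [pat, decide_eq_decide] at h1
    rcases hsgn _ T.2 i with h2 | h2
    · rw [h2, h1.1 h2]
    · rcases hsgn _ T'.2 i with h3 | h3
      · rw [h3, h1.2 h3]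
      · rw [h2, h3]
  have hsurj : Function.Surjective pat := by
    haveI := Fintype.ofFinite I
    refine ((Fintype.bijective_iff_injective_and_card pat).2 ⟨hpat, ?_⟩).2
    rw [← Nat.card_eq_fintype_card, hI8]; rfl
  have hne : ∀ i, c i ≠ 1 := by
    intro i hi
    obtain ⟨T, hT⟩ := hsurj fun _ => false
    have := congrFun hT i
    simp [pat, hi] at this
  have hne2 : ∀ i, c i ≠ (c i)⁻¹ := fun i e => hne i (eq_one_of_inv hodd e)
  have hget : ∀ f : Fin 3 → Bool, ∃ T ∈ I, ∀ i,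
      (f i = true → T (c i) = c i) ∧ (f i = false → T (c i) = (c i)⁻¹) := by
    intro f
    obtain ⟨T, hT⟩ := hsurj f
    refine ⟨T, T.2, fun i => ?_⟩
    have h1 := congrFun hT i
    refine ⟨fun hf => ?_, fun hf => ?_⟩
    · rw [hf] at h1; simpa [pat] using h1
    · rw [hf] at h1
      exact (hsgn _ T.2 i).resolve_left (by simpa [pat] using h1)
  choose τ hτI hτ using hget
  have hpow : ∀ (T : MulAut P) i, T (c i) = (c i)⁻¹ → ∀ x ∈ Subgroup.zpowers (c i), T x = x⁻¹ := by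
    rintro T i hT _ ⟨k, rfl⟩
    simp only [map_zpow, hT, inv_zpow]
  have hoff : ∀ i j, i ≠ j → h i (c j) = (c j)⁻¹ := by
    intro i j hij
    refine (hsgn _ (hHI (hhH i)) j).resolve_left fun hfx => ?_
    have hmem : c j ∈ Subgroup.zpowers (c i) := (hc i _).1 hfx
    set f : Fin 3 → Bool := fun k => decide (k = j) with hf
    have h1 := (hτ f j).1 (by simp [hf])
    have h2 := hpow _ i ((hτ f i).2 (by simp [hf, hij])) _ hmem
    exact hne2 j (h1.symm.trans h2)
  -- commutativity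
  have hab : IsMulCommutative P := by
    refine isMulCommutative_of hP htop ?_
    rintro _ ⟨i, rfl⟩ _ ⟨j, rfl⟩
    by_cases hij : i = j
    · subst hij; simp
    obtain ⟨k, hki, hkj⟩ : ∃ k, k ≠ i ∧ k ≠ j := fin3_third i j
    set u := ⁅c i, c j⁆ with hu
    set N := ⁅commutator P, (⊤ : Subgroup P)⁆
    haveI hNn : N.Normal := Subgroup.commutator_normal _ _
    have huP : u ∈ commutator P :=
      Subgroup.commutator_mem_commutator (Subgroup.mem_top _) (Subgroup.mem_top _)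
    have himg : ∀ T : MulAut P, T (c i) = (c i)⁻¹ → T (c j) = (c j)⁻¹ → u⁻¹ * T u ∈ N := by
      intro T h1 h2
      rw [hu, map_commutatorElement, h1, h2, show ⁅(c i)⁻¹, (c j)⁻¹⁆ =
        (c j * c i)⁻¹ * ⁅c i, c j⁆ * (c j * c i) by simp only [commutatorElement_def]; group,
        show ⁅c i, c j⁆⁻¹ * ((c j * c i)⁻¹ * ⁅c i, c j⁆ * (c j * c i)) =
          ⁅⁅c i, c j⁆⁻¹, (c j * c i)⁻¹⁆ by simp only [commutatorElement_def]; group]
      exact Subgroup.commutator_mem_commutator (inv_mem huP) (Subgroup.mem_top _)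
    obtain ⟨m, hm, hfixm⟩ := exists_fix hodd (hinv _ (hHI (hhH k)))
      (himg _ (hoff k i hki) (hoff k j hkj))
    set T0 := τ (fun _ => false) with hT0
    have hT0c : ∀ l, T0 (c l) = (c l)⁻¹ := fun l => (hτ _ l).2 rfl
    have hTm : T0 m ∈ N := by
      have hchar : N.Characteristic := Subgroup.commutator_characteristic _ _
      exact (hchar.fixed T0).ge hm
    have hinvu := hpow T0 k (hT0c k) _ ((hc k _).1 hfixm)
    rw [map_mul] at hinvu
    have h0 : u⁻¹ * T0 u ∈ N := himg T0 (hT0c i) (hT0c j)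
    have h4 : (u * m) * (u * m) ∈ N := by
      have e : (u * m) * (u * m) =
          ((u * m) * (u * u⁻¹ * T0 u)) * ((u⁻¹ * T0 u)⁻¹ * m) := by group
      have e2 : (u * m) * (u * u⁻¹ * T0 u) = ((T0 m)⁻¹ : P) := by
        rw [mul_inv_cancel, one_mul, show u * m = (T0 u * T0 m)⁻¹ by rw [hinvu, inv_inv],
          mul_inv_rev, inv_mul_cancel_right]
      rw [e, e2]
      exact mul_mem (inv_mem hTm) (mul_mem (inv_mem h0) hm)
    have h5 := mul_mem (mem_of_sq hodd h4) (inv_mem hm)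
    rwa [mul_inv_cancel_right] at h5
  haveI := hab
  have hcom : ∀ x y : P, x * y = y * x := fun x y => hab.is_comm.comm x y
  have hdec : ∀ x : P, ∃ k : Fin 3 → ℤ, x = c 0 ^ k 0 * c 1 ^ k 1 * c 2 ^ k 2 := by
    intro x
    have hx : x ∈ Subgroup.closure (Set.range c) := htop ▸ Subgroup.mem_top x
    induction hx using Subgroup.closure_induction with
    | mem x hx =>
      obtain ⟨i, rfl⟩ := hx
      refine ⟨fun l => if l = i then 1 else 0, ?_⟩
      fin_cases i <;> simp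
    | one => exact ⟨0, by simp⟩
    | mul a b _ _ iha ihb =>
      obtain ⟨k, rfl⟩ := iha; obtain ⟨l, rfl⟩ := ihb
      refine ⟨k + l, ?_⟩
      simp only [Pi.add_apply, zpow_add]
      letI : CommGroup P := { ‹Group P› with mul_comm := hcom }
      ac_rfl
    | inv a _ iha =>
      obtain ⟨k, rfl⟩ := iha
      refine ⟨-k, ?_⟩
      simp only [Pi.neg_apply, zpow_neg, mul_inv_rev]
      letI : CommGroup P := { ‹Group P› with mul_comm := hcom }
      ac_rfl
  have hproj : ∀ (k : Fin 3 → ℤ) i, (c 0 ^ k 0 * c 1 ^ k 1 * c 2 ^ k 2) *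
      h i (c 0 ^ k 0 * c 1 ^ k 1 * c 2 ^ k 2) = c i ^ (2 * k i) := by
    intro k
    letI : CommGroup P := { ‹Group P› with mul_comm := hcom }
    refine fin3_forall ?_ ?_ ?_
    · rw [map_mul, map_mul, map_zpow, map_zpow, map_zpow, hcc, hoff 0 1 (by decide),
        hoff 0 2 (by decide), inv_zpow, inv_zpow, two_mul, zpow_add]
      rw [mul_mul_mul_comm, mul_inv_cancel, mul_one, mul_mul_mul_comm, mul_inv_cancel, mul_one]
    · rw [map_mul, map_mul, map_zpow, map_zpow, map_zpow, hcc, hoff 1 0 (by decide),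
        hoff 1 2 (by decide), inv_zpow, inv_zpow, two_mul, zpow_add]
      rw [mul_mul_mul_comm, mul_inv_cancel, mul_one, mul_mul_mul_comm, mul_inv_cancel, one_mul]
    · rw [map_mul, map_mul, map_zpow, map_zpow, map_zpow, hcc, hoff 2 0 (by decide),
        hoff 2 1 (by decide), inv_zpow, inv_zpow, two_mul, zpow_add]
      rw [mul_mul_mul_comm, mul_mul_mul_comm (c 0 ^ k 0), mul_inv_cancel, mul_inv_cancel, one_mul,
        one_mul]
  have hnotin : ¬ ∃ a b : P, Subgroup.closure {a, b} = ⊤ := by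
    rintro ⟨x, y, hxy⟩
    letI : CommGroup P := { ‹Group P› with mul_comm := hcom }
    set A := (powMonoidHom (α := P) p).range with hA
    have hsmall : Nat.card (P ⧸ A) ≤ p * p := by
      let g : Fin p × Fin p → P ⧸ A := fun v => (QuotientGroup.mk (x ^ (v.1 : ℕ) * y ^ (v.2 : ℕ)))
      have hg : Function.Surjective g := by
        intro q
        induction q using QuotientGroup.induction_on with
        | _ z =>
          have hz : z ∈ Subgroup.closure ({x, y} : Set P) := hxy ▸ Subgroup.mem_top z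
          rw [Subgroup.mem_closure_pair] at hz
          obtain ⟨m, n, rfl⟩ := hz
          have hp0 : (p : ℤ) ≠ 0 := by exact_mod_cast hp.ne_zero
          have hr : ∀ m : ℤ, ∃ r : Fin p, ∃ d : ℤ, m = (r : ℕ) + (p : ℤ) * d := fun m =>
            ⟨⟨(m % (p : ℤ)).toNat, by
              have h1 := Int.emod_nonneg m hp0
              have h2 := Int.emod_lt_of_pos m (show (0 : ℤ) < p by exact_mod_cast hp.pos)
              omega⟩, m / (p : ℤ), by
              simp only
              rw [Int.toNat_of_nonneg (Int.emod_nonneg m hp0), Int.emod_add_mul_ediv]⟩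
          obtain ⟨r, d, hm⟩ := hr m
          obtain ⟨r', d', hn⟩ := hr n
          refine ⟨(r, r'), ?_⟩
          refine QuotientGroup.eq.2 ⟨x ^ d * y ^ d', ?_⟩
          rw [powMonoidHom_apply, hm, hn, zpow_add, zpow_add, zpow_natCast, zpow_natCast, mul_pow,
            ← zpow_natCast (x ^ d) p, ← zpow_natCast (y ^ d') p, ← zpow_mul, ← zpow_mul, mul_comm d,
            mul_comm d', mul_mul_mul_comm, inv_mul_cancel_left]
      have := Nat.card_le_card_of_surjective g hg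
      simpa [Nat.card_prod] using this
    let g : (Fin 3 → Fin p) → P ⧸ A := fun v =>
      QuotientGroup.mk (c 0 ^ ((v 0 : ℕ) : ℤ) * c 1 ^ ((v 1 : ℕ) : ℤ) * c 2 ^ ((v 2 : ℕ) : ℤ))
    have hg : Function.Injective g := by
      intro v w hvw
      obtain ⟨z, hz⟩ := QuotientGroup.eq.1 hvw
      rw [powMonoidHom_apply] at hz
      obtain ⟨k, rfl⟩ := hdec z
      funext i
      apply Fin.ext
      let φ : P →* P := MonoidHom.id P * (h i).toMonoidHom
      have hφ : ∀ l : Fin 3 → ℤ, φ (c 0 ^ l 0 * c 1 ^ l 1 * c 2 ^ l 2) = c i ^ (2 * l i) :=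
        fun l => hproj l i
      have h3 : (c i ^ (2 * k i)) ^ p =
          (c i ^ (2 * ((v i : ℕ) : ℤ)))⁻¹ * c i ^ (2 * ((w i : ℕ) : ℤ)) := by
        rw [← hφ k, ← hφ (fun l => ((v l : ℕ) : ℤ)), ← hφ (fun l => ((w l : ℕ) : ℤ)), ← map_pow,
          ← map_inv, ← map_mul, hz]
      obtain ⟨m, hm⟩ := IsPGroup.iff_orderOf.mp hP (c i)
      have hm0 : m ≠ 0 := fun e => hne i (orderOf_eq_one_iff.1 (by rw [hm, e, pow_zero]))
      have h4 : (orderOf (c i) : ℤ) ∣
          2 * k i * p - (-(2 * ((v i : ℕ) : ℤ)) + 2 * ((w i : ℕ) : ℤ)) := by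
        rw [orderOf_dvd_iff_zpow_eq_one, zpow_sub, mul_inv_eq_one, zpow_mul, zpow_natCast, h3,
          zpow_add, zpow_neg]
      have h5 : (p : ℤ) ∣ 2 * (((w i : ℕ) : ℤ) - ((v i : ℕ) : ℤ)) := by
        have h6 := dvd_trans ((by rw [hm, Nat.cast_pow]; exact dvd_pow_self _ hm0) :
          (p : ℤ) ∣ (orderOf (c i) : ℤ)) h4
        have h7 := dvd_sub (Dvd.intro_left (2 * k i) rfl : (p : ℤ) ∣ 2 * k i * p) h6
        have e : 2 * k i * (p : ℤ) - (2 * k i * (p : ℤ) -
            (-(2 * ((v i : ℕ) : ℤ)) + 2 * ((w i : ℕ) : ℤ))) =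
            2 * (((w i : ℕ) : ℤ) - ((v i : ℕ) : ℤ)) := by ring
        rwa [e] at h7
      rcases (Nat.prime_iff_prime_int.1 hp).dvd_or_dvd h5 with h6 | h6
      · exact absurd ((Nat.prime_dvd_prime_iff_eq hp Nat.prime_two).1 (by exact_mod_cast h6)) hp2
      · have h7 := Int.eq_zero_of_dvd_of_natAbs_lt_natAbs h6 (by
          have := (v i).2; have := (w i).2; omega)
        omega
    have := Nat.card_le_card_of_injective g hg
    rw [Nat.card_fun, Nat.card_fin, Nat.card_fin] at this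
    have h2 := hp.two_le
    have : p * p * 2 ≤ p * p * p := Nat.mul_le_mul_left _ h2
    nlinarith
  -- classification of broad elements
  set E : Fin 3 → MulAut P := fun i => τ fun l => decide (l ≠ i) with hE
  have hEI : ∀ i, E i ∈ I := fun i => hτI _
  have hEc : ∀ i l, l ≠ i → E i (c l) = c l := fun i l hl => (hτ _ l).1 (by simp [hl])
  have hEi : ∀ i, E i (c i) = (c i)⁻¹ := fun i => (hτ _ i).2 (by simp)
  have hE1 : ∀ i, E i ≠ 1 := fun i e => hne2 i (by rw [← hEi i, e]; rfl)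
  have hEB : ∀ i, Broad (E i) := by
    rintro i ⟨g, hg⟩
    obtain ⟨j, k, hji, hki, hjk⟩ : ∃ j k : Fin 3, j ≠ i ∧ k ≠ i ∧ j ≠ k := fin3_two i
    have hj := (hg _).1 (hEc i j hji)
    have hk := (hg _).1 (hEc i k hki)
    obtain ⟨a, ha⟩ := hj
    obtain ⟨b, hb⟩ := hk
    simp only at ha hb
    -- one of two elements of a cyclic p-group is a power of the other
    have key : ∀ (x y : Fin 3), x ≠ y → c x ∉ Subgroup.zpowers (c y) := by
      intro x y hxy hmem
      have h1 := hpow _ y (hEi y) _ hmem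
      rw [hEc y x hxy] at h1
      exact hne2 x h1
    have hcy : IsCyclic ↥(Subgroup.zpowers g) := inferInstance
    have hjm : c j ∈ Subgroup.zpowers g := ⟨a, ha⟩
    have hkm : c k ∈ Subgroup.zpowers g := ⟨b, hb⟩
    obtain ⟨mj, hmj⟩ := IsPGroup.iff_orderOf.mp hP (c j)
    obtain ⟨mk, hmk⟩ := IsPGroup.iff_orderOf.mp hP (c k)
    have hsub : ∀ x y : P, x ∈ Subgroup.zpowers g → y ∈ Subgroup.zpowers g →
        orderOf x ∣ orderOf y → x ∈ Subgroup.zpowers y := by
      intro x y hx hy hd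
      letI : CommGroup P := { ‹Group P› with mul_comm := hcom }
      set G := Subgroup.zpowers g
      have hY : Subgroup.zpowers (⟨y, hy⟩ : G) = (powMonoidHom (α := G) (orderOf y)).ker := by
        refine Subgroup.eq_of_le_of_card_ge (Subgroup.zpowers_le.2 ?_) ?_
        · rw [MonoidHom.mem_ker, powMonoidHom_apply]
          exact Subtype.ext (by simp [pow_orderOf_eq_one])
        · rw [IsCyclic.card_powMonoidHom_ker, Nat.card_zpowers, Nat.card_zpowers, Subgroup.orderOf_mk]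
          exact Nat.gcd_le_right _ (orderOf_pos y)
      have h1 : (⟨x, hx⟩ : G) ∈ Subgroup.zpowers (⟨y, hy⟩ : G) := by
        rw [hY, MonoidHom.mem_ker, powMonoidHom_apply]
        exact Subtype.ext (by simpa using orderOf_dvd_iff_pow_eq_one.1 hd)
      obtain ⟨n, hn⟩ := h1
      exact ⟨n, congrArg Subtype.val hn⟩
    rcases le_total mj mk with hle | hle
    · exact key j k hjk (hsub _ _ hjm hkm (by rw [hmj, hmk]; exact pow_dvd_pow p hle))
    · exact key k j (Ne.symm hjk) (hsub _ _ hkm hjm (by rw [hmj, hmk]; exact pow_dvd_pow p hle))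
  have hclass : ∀ T ∈ I, T ≠ 1 → Broad T → ∃ i, T = E i := by
    intro T hT hT1 hTB
    have hT3 : ¬ ∀ i, T (c i) = c i := fun hall => hT1 (hext T 1 hall)
    push Not at hT3
    obtain ⟨i, hi⟩ := hT3
    have hii : T (c i) = (c i)⁻¹ := (hsgn T hT i).resolve_left hi
    by_cases hother : ∀ l, l ≠ i → T (c l) = c l
    · refine ⟨i, hext _ _ fun l => ?_⟩
      by_cases hl : l = i
      · rw [hl, hii, hEi]
      · rw [hother l hl, hEc i l hl]
    push Not at hother
    obtain ⟨j, hji, hj⟩ := hother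
    have hjj : T (c j) = (c j)⁻¹ := (hsgn T hT j).resolve_left hj
    obtain ⟨k, hki, hkj⟩ : ∃ k, k ≠ i ∧ k ≠ j := fin3_third i j
    exfalso
    have huniv : ∀ l, l = i ∨ l = j ∨ l = k := fun l => fin3_uniq i j k l (Ne.symm hji) hki hkj
    rcases hsgn T hT k with hk | hk
    · have : T = h k := hext _ _ fun l => by
        rcases huniv l with rfl | rfl | rfl
        · rw [hii, hoff k _ hki]
        · rw [hjj, hoff k _ hkj]
        · rw [hk, hcc]
      exact hHB (h k) (hhH k) (hh1' k) (this ▸ hTB)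
    · refine hTB ⟨1, fun x => ⟨fun hx => ?_, fun hx => ?_⟩⟩
      · have hinvx : T x = x⁻¹ := by
          letI : CommGroup P := { ‹Group P› with mul_comm := hcom }
          have he : T.toMonoidHom = (invMonoidHom : P →* P) :=
            MonoidHom.eq_of_eqOn_dense htop (by
              rintro _ ⟨l, rfl⟩
              rcases huniv l with rfl | rfl | rfl
              · exact hii
              · exact hjj
              · exact hk)
          exact DFunLike.congr_fun he x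
        rw [Subgroup.zpowers_one_eq_bot, Subgroup.mem_bot]
        exact eq_one_of_inv hodd (hx.symm.trans hinvx)
      · rw [Subgroup.zpowers_one_eq_bot, Subgroup.mem_bot] at hx
        rw [hx, map_one]
  have hEinj : Function.Injective E := fun i j e => by
    by_contra hij
    exact hne2 i (by rw [← hEi i, e, hEc j i hij])
  have hEE : ∀ i j k, i ≠ j → k ≠ i → k ≠ j → E i * E j = h k := by
    intro i j k hij hki hkj
    refine hext _ _ fun l => ?_
    have huniv : ∀ l, l = i ∨ l = j ∨ l = k := fun l => fin3_uniq i j k l hij hki hkj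
    rw [MulAut.mul_apply]
    rcases huniv l with rfl | rfl | rfl
    · rw [hEc j _ hij, hEi, hoff k _ hki]
    · rw [hEi, map_inv, hEc i _ (Ne.symm hij), hoff k _ hkj]
    · rw [hEc j _ hkj, hEc i _ hki, hcc]
  refine ⟨hab, ⟨c 0, c 1, c 2, ?_⟩, hnotin, ?_, ?_, ?_⟩
  · rw [← htop]
    congr 1
    ext x
    simp [Fin.exists_fin_succ, eq_comm]
  · have e : {T : MulAut P // T ∈ I ∧ T ≠ 1 ∧ Broad T} ≃ Fin 3 :=
      (Equiv.ofBijective (fun i => (⟨E i, hEI i, hE1 i, hEB i⟩ :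
        {T : MulAut P // T ∈ I ∧ T ≠ 1 ∧ Broad T}))
        ⟨fun i j e => hEinj (congrArg Subtype.val e), fun ⟨T, h1, h2, h3⟩ => by
          obtain ⟨i, rfl⟩ := hclass T h1 h2 h3; exact ⟨i, rfl⟩⟩).symm
    rw [Nat.card_congr e, Nat.card_fin]
  · refine le_antisymm ((Subgroup.closure_le _).2 fun T hT => hT.1) fun T hT => ?_
    set B := Subgroup.closure {T : MulAut P | T ∈ I ∧ T ≠ 1 ∧ Broad T}
    have hmem : ∀ i, E i ∈ B := fun i => Subgroup.subset_closure ⟨hEI i, hE1 i, hEB i⟩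
    set F : Fin 3 → MulAut P := fun i => if T (c i) = c i then 1 else E i with hF
    have hTF : T = F 0 * F 1 * F 2 := by
      have h0 : ∀ i l, F i (c l) = if l = i then T (c l) else c l := by
        intro i l
        by_cases hli : l = i
        · subst hli
          rw [if_pos rfl]
          by_cases ht : T (c l) = c l
          · rw [show F l = 1 from if_pos ht, ht]; rfl
          · rw [show F l = E l from if_neg ht, hEi, (hsgn T hT l).resolve_left ht]
        · rw [if_neg hli]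
          by_cases ht : T (c i) = c i
          · rw [show F i = 1 from if_pos ht]; rfl
          · rw [show F i = E i from if_neg ht, hEc i l hli]
      have h0' : ∀ i l, l ≠ i → F i (c l)⁻¹ = (c l)⁻¹ := fun i l hl => by
        rw [map_inv, h0, if_neg hl]
      have h0i : ∀ i l, l ≠ i → ∀ x, x = c l ∨ x = (c l)⁻¹ → F i x = x := by
        rintro i l hl x (rfl | rfl)
        · rw [h0, if_neg hl]
        · exact h0' i l hl
      refine hext _ _ (fin3_forall ?_ ?_ ?_) <;> rw [MulAut.mul_apply, MulAut.mul_apply]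
      · rw [h0 2, if_neg (by decide), h0 1, if_neg (by decide), h0 0, if_pos rfl]
      · rw [h0 2, if_neg (by decide), h0 1, if_pos rfl, h0i 0 1 (by decide) _ (hsgn T hT 1)]
      · rw [h0 2, if_pos rfl, h0i 1 2 (by decide) _ (hsgn T hT 2),
          h0i 0 2 (by decide) _ (hsgn T hT 2)]
    rw [hTF]
    refine mul_mem (mul_mem ?_ ?_) ?_ <;>
      · simp only [hF]
        split_ifs
        · exact one_mem _
        · exact hmem _
  · apply Set.Subset.antisymm
    · intro T hT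
      have hh : ∀ k, h k ∈ I₀ := fun k => by
        obtain ⟨i, j, hij, hki, hkj⟩ : ∃ i j : Fin 3, i ≠ j ∧ k ≠ i ∧ k ≠ j := fin3_pair k
        rw [← hEE i j k hij hki hkj]
        exact hprod _ (hEI i) _ (hEI j) (hE1 i) (hE1 j) (hEB i) (hEB j)
      by_cases hT1 : T = 1
      · exact ⟨E 0, E 0, hEI 0, hEI 0, hE1 0, hE1 0, hEB 0, hEB 0, by rw [hT1, hsq _ (hEI 0)]⟩
      by_cases hTh : ∃ k, T = h k
      · obtain ⟨k, rfl⟩ := hTh
        obtain ⟨i, j, hij, hki, hkj⟩ : ∃ i j : Fin 3, i ≠ j ∧ k ≠ i ∧ k ≠ j := fin3_pair k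
        exact ⟨E i, E j, hEI i, hEI j, hE1 i, hE1 j, hEB i, hEB j, (hEE i j k hij hki hkj).symm⟩
      exfalso
      push Not at hTh
      -- otherwise `I₀` is all of `I`
      let w : Fin 5 → MulAut P := ![1, h 0, h 1, h 2, T]
      have hwI : ∀ a, w a ∈ I₀ := fun a => by
        fin_cases a <;> [exact one_mem _; exact hh 0; exact hh 1; exact hh 2; exact hT]
      have hd' : ∀ i j, i ≠ j → h i ≠ h j := fun i j hij e =>
        hne2 j ((hcc j).symm.trans (by rw [← e]; exact hoff i j hij))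
      have hw : Function.Injective w := by
        intro a b
        fin_cases a <;> fin_cases b <;> simp [w, hh1' _, Ne.symm (hh1' _), hT1, Ne.symm hT1, hTh,
          fun k => Ne.symm (hTh k), hd']
      let v : Fin 5 → I₀ := fun a => ⟨w a, hwI a⟩
      have hv : Function.Injective v := fun a b e => hw (congrArg Subtype.val e)
      have h5 := Nat.card_le_card_of_injective v hv
      rw [Nat.card_fin] at h5
      obtain ⟨d, hd⟩ := Subgroup.card_dvd_of_le hI₀.le
      rw [hI8] at hd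
      have hlt : Nat.card I₀ < 8 := by
        refine lt_of_le_of_ne (hI8 ▸ Subgroup.card_le_of_le hI₀.le) fun e => hI₀.ne ?_
        exact Subgroup.eq_of_le_of_card_ge hI₀.le (hI8.trans e.symm).le
      have : Nat.card I₀ ∣ 8 := ⟨d, hd⟩
      interval_cases (Nat.card I₀) <;> omega
    · rintro _ ⟨T, T', h1, h2, h3, h4, h5, h6, rfl⟩
      exact hprod T h1 T' h2 h3 h4 h5 h6


/-- Let p be an odd prime, P a finite p-group and I an elementary abelian subgroup of order 8 of Aut(P). Call T ∈ I, T ≠ 1, broad when its fixed-point subgroup C_P(T) is not cyclic. Suppose I has a proper subgroup I₀ containing no broad element such that the product of any two broad elements lies in I₀. Then P is abelian of rank exactly 3 (generated by three elements but not by two), there are exactly three broad elements and they generate I, and I₀ is exactly the set of products of two broad elements. -/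
theorem result
    {P : Type*} [Group P] [Finite P] (p : ℕ) (hp : p.Prime) (hp2 : p ≠ 2) (hP : IsPGroup p P)
    (I : Subgroup (MulAut P)) (hI : Cfsg.IsElementaryAbelian 2 I) (hI8 : Nat.card ↥I = 8)
    (I₀ : Subgroup (MulAut P)) (hI₀ : I₀ < I)
    (hdisj : ∀ T ∈ I₀, T ≠ 1 → ∃ g : P, ∀ x : P, (T x = x ↔ x ∈ Subgroup.zpowers g))
    (hprod : ∀ T ∈ I, ∀ T' ∈ I, T ≠ 1 → T' ≠ 1 → (¬ ∃ g : P, ∀ x : P, (T x = x ↔ x ∈ Subgroup.zpowers g)) →
      (¬ ∃ g : P, ∀ x : P, (T' x = x ↔ x ∈ Subgroup.zpowers g)) → T * T' ∈ I₀) :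
    IsMulCommutative P ∧ (∃ a b c : P, Subgroup.closure {a, b, c} = ⊤) ∧ (¬ ∃ a b : P, Subgroup.closure {a, b} = ⊤) ∧
      Nat.card {T : MulAut P // T ∈ I ∧ T ≠ 1 ∧ ¬ ∃ g : P, ∀ x : P, (T x = x ↔ x ∈ Subgroup.zpowers g)} = 3 ∧
      Subgroup.closure {T : MulAut P | T ∈ I ∧ T ≠ 1 ∧ ¬ ∃ g : P, ∀ x : P, (T x = x ↔ x ∈ Subgroup.zpowers g)} = I ∧
      (I₀ : Set (MulAut P)) = {S : MulAut P | ∃ T T' : MulAut P, T ∈ I ∧ T' ∈ I ∧ T ≠ 1 ∧ T' ≠ 1 ∧
        (¬ ∃ g : P, ∀ x : P, (T x = x ↔ x ∈ Subgroup.zpowers g)) ∧ (¬ ∃ g : P, ∀ x : P, (T' x = x ↔ x ∈ Subgroup.zpowers g)) ∧ S = T * T'} := by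
  exact main p hp hp2 hP I hI hI8 I₀ hI₀ (fun T h1 h2 h3 => h3 (hdisj T h1 h2)) hprod

end Cfsg.Agent.S4412
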