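import Cfsg.Statements.S4414
import Mathlib
import Cfsg.Agent.Cores.PCore
import Cfsg.Agent.H31.JSub

set_option autoImplicit false
open Cfsg
open Subgroup

namespace Cfsg.Agent.S4414

universe u v

variable {S : Type u} [Group S] {E : Type v} [AddCommGroup E] [Module (ZMod 2) E]

theorem add_self' (v : E) : v + v = 0 := ZModModule.add_self v

theorem nsmul_odd {n : ℕ} (hn : Odd n) (v : E) : n • v = v := by
  obtain ⟨m, rfl⟩ := hn
  rw [add_nsmul, one_nsmul, mul_comm, mul_nsmul, two_nsmul, add_self', zero_add]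

theorem rho_mul (ρ : Representation (ZMod 2) S E) (g h : S) (v : E) :
    ρ (g * h) v = ρ g (ρ h v) := by rw [map_mul]; rfl

theorem rho_injective (ρ : Representation (ZMod 2) S E) (g : S) : Function.Injective (ρ g) :=
  Function.LeftInverse.injective (g := ρ g⁻¹) fun v => by
    rw [← rho_mul, inv_mul_cancel, map_one]; rfl

/-- The fixed points of a subgroup. -/
def Fix (ρ : Representation (ZMod 2) S E) (H : Subgroup S) : Set E := {v | ∀ h ∈ H, ρ h v = v}

theorem fixed_sup {ρ : Representation (ZMod 2) S E} {A B : Subgroup S} {v : E}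
    (hA : v ∈ Fix ρ A) (hB : v ∈ Fix ρ B) : v ∈ Fix ρ (A ⊔ B) := by
  intro h hh
  let St : Subgroup S :=
    { carrier := {g | ρ g v = v}
      one_mem' := by simp
      mul_mem' := fun {g g'} (hg : ρ g v = v) (hg' : ρ g' v = v) => by
        show ρ (g * g') v = v
        rw [rho_mul, hg', hg]
      inv_mem' := fun {g} (hg : ρ g v = v) => by
        show ρ g⁻¹ v = v
        conv_lhs => rw [← hg]
        rw [← rho_mul, inv_mul_cancel, map_one]
        rfl }
  exact (sup_le (show A ≤ St from hA) (show B ≤ St from hB)) hh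

variable [Finite E]

theorem exists_fixed_two {ρ : Representation (ZMod 2) S E} (L : Subgroup S) (hL : IsPGroup 2 ↥L)
    (W : Set E) (h0 : (0 : E) ∈ W) (hadd : ∀ x ∈ W, ∀ y ∈ W, x + y ∈ W)
    (hinv : ∀ g ∈ L, ∀ x ∈ W, ρ g x ∈ W) (hW : ∃ w ∈ W, w ≠ 0) :
    ∃ w ∈ W, w ≠ 0 ∧ w ∈ Fix ρ L := by
  let W' : AddSubgroup E :=
    { carrier := W
      add_mem' := fun {a b} ha hb => hadd a ha b hb
      zero_mem' := h0
      neg_mem' := fun {a} ha => by
        rwa [show -a = a from neg_eq_of_add_eq_zero_left (add_self' a)] }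
  let _ : MulAction ↥L ↥W' :=
    { smul := fun g x => ⟨ρ (g : S) (x : E), hinv g g.2 x x.2⟩
      one_smul := fun x => Subtype.ext (by show ρ (1 : S) (x : E) = (x : E); rw [map_one]; rfl)
      mul_smul := fun g h x => Subtype.ext (rho_mul ρ (g : S) (h : S) (x : E)) }
  obtain ⟨w, hwW, hw0⟩ := hW
  have h2 : 2 ∣ Nat.card ↥W' := by
    have : addOrderOf (⟨w, hwW⟩ : ↥W') = 2 := by
      refine addOrderOf_eq_prime (Subtype.ext ?_) fun h => hw0 (congrArg Subtype.val h)
      show 2 • w = 0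
      rw [two_nsmul, add_self']
    exact this ▸ addOrderOf_dvd_natCard _
  have hfix : (0 : ↥W') ∈ MulAction.fixedPoints ↥L ↥W' := fun g => Subtype.ext (map_zero (ρ (g : S)))
  obtain ⟨⟨b, hb⟩, hbfix, hb0⟩ := hL.exists_fixed_point_of_prime_dvd_card_of_fixed_point ↥W' h2 hfix
  exact ⟨b, hb, fun h => hb0 (Subtype.ext h.symm), fun g hg => congrArg Subtype.val (hbfix ⟨g, hg⟩)⟩

variable [Finite S]

attribute [local instance] Fintype.ofFinite

open scoped Classical in
/-- The key identity: no fixed-point-free sum vanishes. -/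
theorem sum_ne_zero {ρ : Representation (ZMod 2) S E} {P H L : Subgroup S} (hP : Odd (Nat.card ↥P))
    (hPc : ∀ x ∈ P, ∀ y ∈ P, x * y = y * x) (hHP : H ≤ P)
    (hmax : ∀ U : Subgroup S, H ≤ U → U ≤ P → U = H ∨ U = P)
    (hfix : ∀ v ∈ Fix ρ P, v = 0) (hLn : ∀ l ∈ L, l ∈ normalizer (H : Set S))
    (hL : ∀ l ∈ L, ∀ y ∈ P, l * y * l⁻¹ * y⁻¹ ∈ H)
    {ι : Type*} (s : Finset ι) (c : ι → S) (i0 : ι) (hi0 : i0 ∈ s) (hc0 : c i0 ∈ L)
    (hcn : ∀ i ∈ s, c i ∈ normalizer (P : Set S))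
    (hcH : ∀ i ∈ s, c i ∈ normalizer (H : Set S))
    (hcL : ∀ i ∈ s, ∀ l ∈ L, (c i)⁻¹ * l * c i ∈ L)
    (hc : ∀ i ∈ s, i ≠ i0 → ∃ y ∈ P, c i * y * (c i)⁻¹ * y⁻¹ ∉ H)
    {w : E} (hw : w ∈ Fix ρ H) (hwL : w ∈ Fix ρ L) (hw0 : w ≠ 0) :
    ∃ w' ∈ Fix ρ H, w' ∈ Fix ρ L ∧ ∑ i ∈ s, ρ (c i) w' ≠ 0 := by
  by_contra hcon
  push Not at hcon
  have hy : ∀ y ∈ P, ρ y⁻¹ w ∈ Fix ρ H ∧ ρ y⁻¹ w ∈ Fix ρ L := fun y hy => by
    refine ⟨fun h hh => ?_, fun l hl => ?_⟩
    · rw [← rho_mul, hPc h (hHP hh) y⁻¹ (inv_mem hy), rho_mul, hw h hh]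
    · have h1 := hL l hl y⁻¹ (inv_mem hy)
      rw [inv_inv] at h1
      calc ρ l (ρ y⁻¹ w) = ρ (l * y⁻¹) w := (rho_mul _ _ _ _).symm
        _ = ρ ((l * y⁻¹ * l⁻¹ * y) * y⁻¹ * l) w := by congr 2; group
        _ = ρ (l * y⁻¹ * l⁻¹ * y) (ρ y⁻¹ w) := by
          rw [rho_mul, rho_mul, hwL l hl]
        _ = ρ y⁻¹ w := by
          rw [← rho_mul, hPc _ (hHP h1) y⁻¹ (inv_mem hy), rho_mul, hw _ h1]
  set g : S → E → E := fun k v => ∑ y : ↥P, ρ ((y : S) * k * (y : S)⁻¹ * k⁻¹) v with hg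
  have htot : ∑ i ∈ s, g (c i) (ρ (c i) w) = 0 := by
    have h1 : ∀ i ∈ s, g (c i) (ρ (c i) w) = ∑ y : ↥P, ρ (y : S) (ρ (c i) (ρ (y : S)⁻¹ w)) := by
      intro i _
      refine Finset.sum_congr rfl fun y _ => ?_
      rw [← rho_mul, ← rho_mul, ← rho_mul]
      congr 2
      group
    rw [Finset.sum_congr rfl h1, Finset.sum_comm]
    refine Finset.sum_eq_zero fun y _ => ?_
    rw [← map_sum, hcon _ (hy y y.2).1 (hy y y.2).2, map_zero]
  have hwc : ∀ i ∈ s, ρ (c i) w ∈ Fix ρ H ∧ ρ (c i) w ∈ Fix ρ L := fun i hi => by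
    refine ⟨fun h hh => ?_, fun l hl => ?_⟩
    · rw [← rho_mul, show h * c i = c i * ((c i)⁻¹ * h * c i) by group, rho_mul]
      refine congrArg _ (hw _ ?_)
      simpa using (mem_normalizer_iff.1 (inv_mem (hcH i hi)) h).1 hh
    · rw [← rho_mul, show l * c i = c i * ((c i)⁻¹ * l * c i) by group, rho_mul]
      exact congrArg _ (hwL _ (hcL i hi l hl))
  have hzero : ∀ i ∈ s, i ≠ i0 → g (c i) (ρ (c i) w) = 0 := by
    intro i hi hne
    obtain ⟨y0, hy0, hy0H⟩ := hc i hi hne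
    set v := ρ (c i) w
    have hcomm : ∀ y : ↥P, (y : S) * c i * (y : S)⁻¹ * (c i)⁻¹ ∈ P := fun y => by
      rw [show (y : S) * c i * (y : S)⁻¹ * (c i)⁻¹ = (y : S) * (c i * (y : S)⁻¹ * (c i)⁻¹) by group]
      exact mul_mem y.2 ((mem_normalizer_iff.1 (hcn i hi) _).1 (inv_mem y.2))
    refine hfix _ ?_
    set z := y0 * c i * y0⁻¹ * (c i)⁻¹ with hz
    have hzH : z ∉ H := fun h => hy0H (by
      have := inv_mem h
      rwa [hz, show (y0 * c i * y0⁻¹ * (c i)⁻¹)⁻¹ = c i * y0 * (c i)⁻¹ * y0⁻¹ by group] at this)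
    have hUP : H ⊔ zpowers z = P :=
      (hmax _ le_sup_left (sup_le hHP (zpowers_le.2 (hcomm ⟨y0, hy0⟩)))).resolve_left fun h =>
        hzH (h.le (mem_sup_right (mem_zpowers z)))
    rw [← hUP]
    refine fixed_sup (fun h hh => ?_) fun h hh => ?_
    · rw [map_sum]
      refine Finset.sum_congr rfl fun y _ => ?_
      rw [← rho_mul, hPc h (hHP hh) _ (hcomm y), rho_mul, (hwc i hi).1 h hh]
    · have hz1 : ρ z (g (c i) v) = g (c i) v := by
        rw [hg, map_sum]
        refine Fintype.sum_equiv (Equiv.mulLeft (⟨y0, hy0⟩ : ↥P)) _ _ fun y => ?_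
        rw [← rho_mul]
        congr 2
        show z * ((y : S) * c i * (y : S)⁻¹ * (c i)⁻¹) =
          (y0 * (y : S)) * c i * (y0 * (y : S))⁻¹ * (c i)⁻¹
        have hconj : c i * (y : S)⁻¹ * (c i)⁻¹ ∈ P :=
          (mem_normalizer_iff.1 (hcn i hi) _).1 (inv_mem y.2)
        have hconj0 : c i * y0⁻¹ * (c i)⁻¹ ∈ P :=
          (mem_normalizer_iff.1 (hcn i hi) _).1 (inv_mem hy0)
        rw [hz, show y0 * c i * y0⁻¹ * (c i)⁻¹ * ((y : S) * c i * (y : S)⁻¹ * (c i)⁻¹) =
          y0 * ((c i * y0⁻¹ * (c i)⁻¹) * ((y : S) * (c i * (y : S)⁻¹ * (c i)⁻¹))) by group,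
          hPc _ hconj0 _ (mul_mem y.2 hconj)]
        group
      exact fixed_sup (A := zpowers z) (B := ⊥) (fun h hh => by
        obtain ⟨n, rfl⟩ := (mem_zpowers_iff).1 hh
        induction n using Int.induction_on with
        | zero => simp
        | succ n ih => rw [zpow_add_one, rho_mul, hz1]; exact ih (zpow_mem (mem_zpowers z) _)
        | pred n ih =>
          rw [zpow_sub_one, rho_mul]
          have h2 : ρ z⁻¹ (g (c i) v) = g (c i) v := by
            conv_lhs => rw [← hz1, ← rho_mul, inv_mul_cancel, map_one]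
            rfl
          rw [h2]; exact ih (zpow_mem (mem_zpowers z) _)) (fun h hh => by
        rw [mem_bot.1 hh, map_one]; rfl) h (mem_sup_left hh)
  rw [Finset.sum_eq_single i0 (fun i hi hne => hzero i hi hne) (fun h => absurd hi0 h)] at htot
  have h1 : g (c i0) (ρ (c i0) w) = w := by
    rw [hg, hwL _ hc0]
    show ∑ y : ↥P, ρ ((y : S) * c i0 * (y : S)⁻¹ * (c i0)⁻¹) w = w
    rw [Finset.sum_congr rfl (g := fun _ : ↥P => w) fun y _ => ?_]
    · rw [Finset.sum_const, Finset.card_univ, ← Nat.card_eq_fintype_card]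
      exact nsmul_odd hP w
    · refine hw _ ?_
      have := inv_mem (hL _ hc0 y y.2)
      rwa [show (c i0 * (y : S) * (c i0)⁻¹ * (y : S)⁻¹)⁻¹ =
        (y : S) * c i0 * (y : S)⁻¹ * (c i0)⁻¹ by group] at this
  exact hw0 (h1.symm.trans htot)

open scoped Classical in
/-- Spreading a vector of `C_E(H)` over an orbit. -/
theorem exists_extension {ρ : Representation (ZMod 2) S E} {H : Subgroup S} (R : Subgroup S)
    (comp : Subgroup S → E → E)
    (hcomp0 : ∀ g ∈ R, ∀ H' : Subgroup S, ∀ v ∈ Fix ρ (H.map (MulAut.conj g).toMonoidHom),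
      (∃ g' : S, H' = H.map (MulAut.conj g').toMonoidHom) →
      comp H' v = if H.map (MulAut.conj g).toMonoidHom = H' then v else 0)
    (hadd : ∀ (H' : Subgroup S) {ι : Type u} (t : Finset ι) (f : ι → E),
      comp H' (∑ i ∈ t, f i) = ∑ i ∈ t, comp H' (f i))
    {u : E} (hu : u ∈ Fix ρ H) (huR : ∀ r ∈ R, r ∈ normalizer (H : Set S) → ρ r u = u) :
    ∃ v, v ∈ Fix ρ R ∧ comp H v = u ∧ ∀ g' : S,
      (∀ r ∈ R, H.map (MulAut.conj r).toMonoidHom ≠ H.map (MulAut.conj g').toMonoidHom) →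
      comp (H.map (MulAut.conj g').toMonoidHom) v = 0 := by
  set cj : S → Subgroup S := fun g => H.map (MulAut.conj g).toMonoidHom with hcj
  have hcj1 : cj 1 = H := by
    simp only [hcj, map_one]
    ext x
    simp
  have hmul : ∀ a b : S, cj (a * b) = (cj b).map (MulAut.conj a).toMonoidHom := fun a b => by
    simp only [hcj, Subgroup.map_map]
    congr 1
    ext x
    simp [mul_assoc]
  set O : Finset (Subgroup S) := (Finset.univ : Finset ↥R).image fun r : ↥R => cj r with hO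
  have hmem : ∀ x ∈ O, ∃ r : ↥R, cj r = x := fun x hx => by simpa [hO] using hx
  choose f hf using hmem
  have hwd : ∀ r r' : ↥R, cj r = cj r' → ρ (r : S) u = ρ (r' : S) u := by
    intro r r' h
    have hn : (r' : S)⁻¹ * r ∈ normalizer (H : Set S) := by
      have h1 : cj ((r' : S)⁻¹ * r) = H := by
        rw [hmul, h, ← hmul, inv_mul_cancel, hcj1]
      rw [mem_normalizer_iff]
      intro x
      conv_rhs => rw [← h1]
      exact (mem_map_iff_mem (f := (MulAut.conj ((r' : S)⁻¹ * r)).toMonoidHom)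
        (MulAut.conj ((r' : S)⁻¹ * r)).injective).symm
    calc ρ (r : S) u = ρ (r' : S) (ρ ((r' : S)⁻¹ * r) u) := by
          rw [← rho_mul, mul_inv_cancel_left]
      _ = ρ (r' : S) u := by rw [huR _ (mul_mem (inv_mem r'.2) r.2) hn]
  set F : Subgroup S → E := fun x => if h : x ∈ O then ρ ((f x h : ↥R) : S) u else 0 with hF
  have hFr : ∀ r : ↥R, F (cj r) = ρ (r : S) u := fun r => by
    have h : cj r ∈ O := Finset.mem_image_of_mem _ (Finset.mem_univ r)
    rw [hF]
    simp only [dif_pos h]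
    exact hwd _ _ (hf _ h)
  have hfix : ∀ r : ↥R, ρ (r : S) u ∈ Fix ρ (cj r) := by
    rintro r - ⟨h, hh, rfl⟩
    show ρ ((r : S) * h * (r : S)⁻¹) (ρ (r : S) u) = ρ (r : S) u
    rw [← rho_mul, inv_mul_cancel_right, rho_mul, hu h hh]
  refine ⟨∑ x ∈ O, F x, fun r hr => ?_, ?_, ?_⟩
  · rw [map_sum]
    refine Finset.sum_bij' (fun x _ => x.map (MulAut.conj r).toMonoidHom)
      (fun x _ => x.map (MulAut.conj r⁻¹).toMonoidHom) ?_ ?_ ?_ ?_ ?_
    · intro x hx
      obtain ⟨r', rfl⟩ := (by simpa [hO] using hx : ∃ r' : ↥R, cj r' = x)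
      rw [← hmul]
      exact Finset.mem_image_of_mem (fun r : ↥R => cj r) (Finset.mem_univ ((⟨r, hr⟩ : ↥R) * r'))
    · intro x hx
      obtain ⟨r', rfl⟩ := (by simpa [hO] using hx : ∃ r' : ↥R, cj r' = x)
      rw [← hmul]
      exact Finset.mem_image_of_mem (fun r : ↥R => cj r) (Finset.mem_univ ((⟨r, hr⟩ : ↥R)⁻¹ * r'))
    · intro x _
      rw [Subgroup.map_map]
      convert Subgroup.map_id x
      ext y
      simp [mul_assoc]
    · intro x _
      rw [Subgroup.map_map]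
      convert Subgroup.map_id x
      ext y
      simp [mul_assoc]
    · intro x hx
      obtain ⟨r', rfl⟩ := (by simpa [hO] using hx : ∃ r' : ↥R, cj r' = x)
      rw [hFr, ← hmul, ← rho_mul]
      exact (hFr (⟨r, hr⟩ * r')).symm
  · rw [hadd]
    have h1 : H ∈ O := by
      rw [← hcj1]; exact Finset.mem_image_of_mem _ (Finset.mem_univ (1 : ↥R))
    rw [Finset.sum_eq_single H (fun x hx hne => ?_) (fun h => absurd h1 h)]
    · have h2 := hFr 1
      rw [OneMemClass.coe_one, hcj1] at h2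
      rw [h2, hcomp0 1 R.one_mem H _ (by
        have := hfix 1
        rwa [OneMemClass.coe_one] at this) ⟨1, hcj1.symm⟩]
      rw [show H.map (MulAut.conj (1 : S)).toMonoidHom = H from hcj1, if_pos rfl, map_one]
      rfl
    · obtain ⟨r', rfl⟩ := (by simpa [hO] using hx : ∃ r' : ↥R, cj r' = x)
      rw [hFr, hcomp0 _ r'.2 H _ (hfix r') ⟨1, hcj1.symm⟩, if_neg hne]
  · intro g' hg'
    rw [hadd]
    refine Finset.sum_eq_zero fun x hx => ?_
    obtain ⟨r', rfl⟩ := (by simpa [hO] using hx : ∃ r' : ↥R, cj r' = x)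
    rw [hFr, hcomp0 _ r'.2 _ _ (hfix r') ⟨g', rfl⟩, if_neg (hg' r' r'.2)]

omit [Finite E] [Finite S] in
theorem fix_zpowers {ρ : Representation (ZMod 2) S E} {z : S} {v : E} (h : ρ z v = v) :
    v ∈ Fix ρ (zpowers z) := by
  intro g hg
  obtain ⟨n, rfl⟩ := mem_zpowers_iff.1 hg
  induction n using Int.induction_on with
  | zero => rw [zpow_zero, map_one]; rfl
  | succ n ih => rw [zpow_add_one, rho_mul, h]; exact ih (zpow_mem (mem_zpowers z) _)
  | pred n ih =>
    rw [zpow_sub_one, rho_mul]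
    have h2 : ρ z⁻¹ v = v := by
      conv_lhs => rw [← h, ← rho_mul, inv_mul_cancel, map_one]
      rfl
    rw [h2]
    exact ih (zpow_mem (mem_zpowers z) _)

/-- Let S be a finite solvable group whose order is divisible only by the primes 2, p, q (p, q distinct odd primes), with a Sylow system S₂, S_p, S_q (pairwise permutable Sylow subgroups) such that: S_p is a minimal normal subgroup of S of order p or p²; S_q has order q and [S_p, S_q] = S_p; and O₂(S) = 1. Let E be an irreducible module for S over the field with two elements on which S_p acts faithfully, and E₀ the subspace of fixed points of S₂. Then either E₀ has at least 8 elements, or E₀ has exactly 4 elements and S_q does not leave E₀ invariant. -/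
theorem result {S : Type*} [Group S] [Finite S]
    [Group.IsSolvable S] (p q : ℕ) (hp : p.Prime) (hq : q.Prime) (hp2 : p ≠ 2) (hq2 : q ≠ 2) (hpq : p ≠ q)
    (hπ : ∀ r : ℕ, r.Prime → r ∣ Nat.card S → r = 2 ∨ r = p ∨ r = q)
    (S₂ : Sylow 2 S) (Sp : Sylow p S) (Sq : Sylow q S)
    (h2q : Nat.card ↥((S₂ : Subgroup S) ⊔ (Sq : Subgroup S)) = Nat.card ↥S₂ * Nat.card ↥Sq)
    (h2p : Nat.card ↥((S₂ : Subgroup S) ⊔ (Sp : Subgroup S)) = Nat.card ↥S₂ * Nat.card ↥Sp)
    (hpq' : Nat.card ↥((Sp : Subgroup S) ⊔ (Sq : Subgroup S)) = Nat.card ↥Sp * Nat.card ↥Sq)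
    (hSpN : (Sp : Subgroup S).Normal) (hSpmin : ∀ N : Subgroup S, N.Normal → N ≤ (Sp : Subgroup S) → N = ⊥ ∨ N = (Sp : Subgroup S))
    (hSpcard : Nat.card ↥Sp = p ∨ Nat.card ↥Sp = p ^ 2)
    (hSq : Nat.card ↥Sq = q) (hcomm : ⁅(Sp : Subgroup S), (Sq : Subgroup S)⁆ = (Sp : Subgroup S))
    (hO2 : Cfsg.pCore 2 S = ⊥)
    {E : Type*} [AddCommGroup E] [Module (ZMod 2) E] [Finite E] (ρ : Representation (ZMod 2) S E) (hE : Nontrivial E)
    (hirr : ∀ N : Submodule (ZMod 2) E, (∀ s : S, ∀ m ∈ N, ρ s m ∈ N) → N = ⊥ ∨ N = ⊤)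
    (hfaith : ∀ x ∈ (Sp : Subgroup S), ρ x = 1 → x = 1) :
    8 ≤ Nat.card {v : E // ∀ s ∈ (S₂ : Subgroup S), ρ s v = v} ∨
      (Nat.card {v : E // ∀ s ∈ (S₂ : Subgroup S), ρ s v = v} = 4 ∧
        ∃ x ∈ (Sq : Subgroup S), ∃ v : E, (∀ s ∈ (S₂ : Subgroup S), ρ s v = v) ∧ ¬ ∀ s ∈ (S₂ : Subgroup S), ρ s (ρ x v) = ρ x v) := by
  classical
  have := Fact.mk hp
  have := Fact.mk hq
  set P : Subgroup S := (Sp : Subgroup S) with hPdef
  have hSpcard : Nat.card ↥P = p ∨ Nat.card ↥P = p ^ 2 := hSpcard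
  have hPodd : Odd (Nat.card ↥P) := by
    rcases hSpcard with h | h <;> rw [h]
    · exact hp.odd_of_ne_two hp2
    · exact (hp.odd_of_ne_two hp2).pow
  have hP1 : P ≠ ⊥ := fun h => by
    rw [h, card_bot] at hSpcard
    rcases hSpcard with h' | h'
    · exact hp.ne_one h'.symm
    · exact hp.ne_one (by simpa using (Nat.pow_eq_one.1 h'.symm))
  have hPc : ∀ x ∈ P, ∀ y ∈ P, x * y = y * x := by
    intro x hx y hy
    have hcm : IsMulCommutative ↥P := by
      rcases hSpcard with h | h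
      · have := isCyclic_of_prime_card (p := p) h
        exact ⟨⟨fun a b => IsCyclic.commGroup.mul_comm a b⟩⟩
      · exact IsPGroup.isMulCommutative_of_card_eq_prime_sq h
    exact congrArg Subtype.val (hcm.is_comm.comm (⟨x, hx⟩ : ↥P) ⟨y, hy⟩)
  have hfix0 : ∀ v ∈ Fix ρ P, v = 0 := by
    let N : Submodule (ZMod 2) E :=
      { carrier := Fix ρ P
        add_mem' := fun {a b} ha hb h hh => by rw [map_add, ha h hh, hb h hh]
        zero_mem' := fun h _ => map_zero _
        smul_mem' := fun r a ha h hh => by rw [map_smul, ha h hh] }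
    rcases hirr N (fun g m hm h hh => by
      rw [← rho_mul, show h * g = g * (g⁻¹ * h * g) by group, rho_mul]
      refine congrArg _ (hm _ ?_)
      simpa using hSpN.conj_mem h hh g⁻¹) with hN | hN
    · exact fun v hv => (Submodule.mem_bot (ZMod 2)).1 (hN ▸ (hv : v ∈ N))
    · refine absurd (eq_bot_iff.2 fun x hx => mem_bot.2 (hfaith x hx (LinearMap.ext fun v => ?_))) hP1
      exact (hN ▸ Submodule.mem_top : v ∈ N) x hx
  obtain ⟨w0, hw0⟩ := exists_ne (0 : E)
  -- a subgroup of index `p` in `P` with fixed points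
  obtain ⟨H, hHP, hHcard, hHfix⟩ : ∃ H : Subgroup S, H ≤ P ∧ Nat.card ↥H * p = Nat.card ↥P ∧
      ∃ w ∈ Fix ρ H, w ≠ 0 := by
    rcases hSpcard with h | h
    · exact ⟨⊥, bot_le, by rw [card_bot, one_mul, h], w0,
        fun h hh => by rw [mem_bot.1 hh, map_one]; rfl, hw0⟩
    obtain ⟨⟨b, hb⟩, hbo⟩ := exists_prime_orderOf_dvd_card' (G := ↥P) p
      (h ▸ dvd_pow_self p two_ne_zero)
    have hbo' : orderOf b = p := (Subgroup.orderOf_mk b hb).symm.trans hbo
    have hbc : Nat.card ↥(zpowers b) = p := (Nat.card_zpowers b).trans hbo'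
    have hbp : b ^ p = 1 := hbo' ▸ pow_orderOf_eq_one b
    by_cases hB : ∃ w ∈ Fix ρ (zpowers b), w ≠ 0
    · exact ⟨zpowers b, zpowers_le.2 hb, by rw [hbc, h, pow_two], hB⟩
    push Not at hB
    have hexp : ∀ a ∈ P, a ^ p = 1 := by
      let N : Subgroup S :=
        { carrier := {x | x ∈ P ∧ x ^ p = 1}
          one_mem' := ⟨one_mem _, one_pow _⟩
          mul_mem' := fun {x y} hx hy => ⟨mul_mem hx.1 hy.1, by
            rw [(show Commute x y from hPc x hx.1 y hy.1).mul_pow, hx.2, hy.2, one_mul]⟩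
          inv_mem' := fun {x} hx => ⟨inv_mem hx.1, by rw [inv_pow, hx.2, inv_one]⟩ }
      have hNn : N.Normal := ⟨fun x hx g => ⟨hSpN.conj_mem x hx.1 g, by
        rw [conj_pow, hx.2, mul_one, mul_inv_cancel]⟩⟩
      rcases hSpmin N hNn (fun x hx => hx.1) with hN | hN
      · have hbN : b ∈ N := ⟨hb, hbp⟩
        rw [hN, mem_bot] at hbN
        rw [hbN, orderOf_one] at hbo'
        exact absurd hbo'.symm hp.ne_one
      · exact fun a ha => ((hN.symm ▸ ha : a ∈ N)).2
    obtain ⟨a, ha, hab⟩ : ∃ a ∈ P, a ∉ zpowers b := SetLike.not_le_iff_exists.1 fun hle => by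
      have := card_le_of_le hle
      rw [hbc, h] at this
      nlinarith [hp.two_le]
    have hinner : ∀ j ∈ Finset.range p, j ≠ 0 →
        ∑ i ∈ Finset.range p, ρ ((b ^ j) ^ i) w0 = 0 := by
      intro j hj hj0
      refine hB _ ?_
      have hfx : ρ (b ^ j) (∑ i ∈ Finset.range p, ρ ((b ^ j) ^ i) w0) =
          ∑ i ∈ Finset.range p, ρ ((b ^ j) ^ i) w0 := by
        rw [map_sum]
        have h1 : ∀ i ∈ Finset.range p, ρ (b ^ j) (ρ ((b ^ j) ^ i) w0) = ρ ((b ^ j) ^ (i + 1)) w0 :=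
          fun i _ => by rw [← rho_mul, ← pow_succ']
        rw [Finset.sum_congr rfl h1]
        have h2 := Finset.sum_range_succ (fun i => ρ ((b ^ j) ^ i) w0) p
        rw [Finset.sum_range_succ'] at h2
        have hlast : (b ^ j) ^ p = 1 := by rw [← pow_mul, mul_comm, pow_mul, hbp, one_pow]
        simp only [hlast, pow_zero] at h2
        exact add_right_cancel h2
      have hgen : zpowers (b ^ j) = zpowers b := by
        refine eq_of_le_of_card_ge (zpowers_le.2 (pow_mem (mem_zpowers b) j)) ?_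
        rw [hbc, Nat.card_zpowers]
        rw [Nat.Coprime.orderOf_pow (hbo' ▸ (Nat.coprime_of_lt_prime hj0 (Finset.mem_range.1 hj) hp)), hbo']
      exact hgen ▸ fix_zpowers hfx
    by_contra hcon
    push Not at hcon
    have hline : ∀ i : ℕ, ∑ j ∈ Finset.range p, ρ ((a * b ^ i) ^ j) w0 = 0 := by
      intro i
      have hne : a * b ^ i ∉ zpowers b := fun hh =>
        hab ((Subgroup.mul_mem_cancel_right _ (pow_mem (mem_zpowers b) i)).1 hh)
      have haiP : a * b ^ i ∈ P := mul_mem ha (pow_mem hb i)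
      have hord : orderOf (a * b ^ i) = p :=
        orderOf_eq_prime (hexp _ haiP) fun h1 => hne (h1 ▸ one_mem _)
      refine hcon (zpowers (a * b ^ i)) (zpowers_le.2 haiP)
        (by rw [Nat.card_zpowers, hord, h, pow_two]) _ (fix_zpowers ?_)
      rw [map_sum]
      have h1 : ∀ j ∈ Finset.range p, ρ (a * b ^ i) (ρ ((a * b ^ i) ^ j) w0) =
          ρ ((a * b ^ i) ^ (j + 1)) w0 := fun j _ => by rw [← rho_mul, ← pow_succ']
      rw [Finset.sum_congr rfl h1]
      have h2 := Finset.sum_range_succ (fun j => ρ ((a * b ^ i) ^ j) w0) p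
      rw [Finset.sum_range_succ'] at h2
      simp only [hexp _ haiP, pow_zero] at h2
      exact add_right_cancel h2
    apply hw0
    have htot : ∑ i ∈ Finset.range p, ∑ j ∈ Finset.range p, ρ ((a * b ^ i) ^ j) w0 = 0 :=
      Finset.sum_eq_zero fun i _ => hline i
    rw [Finset.sum_comm, Finset.sum_eq_single 0 (fun j hj hj0 => ?_)
      (fun h0 => absurd (Finset.mem_range.2 hp.pos) h0)] at htot
    · simp only [pow_zero, map_one, Module.End.one_apply, Finset.sum_const, Finset.card_range] at htot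
      rw [nsmul_odd (hp.odd_of_ne_two hp2)] at htot
      exact htot
    · have h1 : ∀ i ∈ Finset.range p, ρ ((a * b ^ i) ^ j) w0 = ρ (a ^ j) (ρ ((b ^ j) ^ i) w0) := by
        intro i _
        rw [← rho_mul, (show Commute a (b ^ i) from hPc a ha _ (pow_mem hb i)).mul_pow, ← pow_mul,
          ← pow_mul, mul_comm i j]
      rw [Finset.sum_congr rfl h1, ← map_sum, hinner j hj hj0, map_zero]
  -- subgroups of index `p` of `P` are maximal
  have hmax : ∀ H' : Subgroup S, Nat.card ↥H' * p = Nat.card ↥P →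
      ∀ U : Subgroup S, H' ≤ U → U ≤ P → U = H' ∨ U = P := by
    intro H' hc U h1 h2
    obtain ⟨d, hd⟩ := card_dvd_of_le h1
    have hd2 : d ∣ p := by
      have h3 := card_dvd_of_le h2
      rw [hd, ← hc] at h3
      exact (Nat.mul_dvd_mul_iff_left Nat.card_pos).1 h3
    rcases (Nat.dvd_prime hp).1 hd2 with rfl | rfl
    · exact .inl (eq_of_le_of_card_ge h1 (by rw [hd, mul_one])).symm
    · exact .inr (eq_of_le_of_card_ge h2 (by rw [hd, hc]))
  set cj : S → Subgroup S := fun g => H.map (MulAut.conj g).toMonoidHom with hcj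
  have hcjP : ∀ g, cj g ≤ P := fun g => by
    rintro - ⟨x, hx, rfl⟩
    exact hSpN.conj_mem x (hHP hx) g
  have hcjc : ∀ g, Nat.card ↥(cj g) = Nat.card ↥H := fun g =>
    card_map_of_injective (MulAut.conj g).injective
  let comp : Subgroup S → E → E := fun H' v => ∑ h : ↥H', ρ (h : S) v
  have hadd : ∀ (H' : Subgroup S) {ι : Type _} (t : Finset ι) (f : ι → E),
      comp H' (∑ i ∈ t, f i) = ∑ i ∈ t, comp H' (f i) := fun H' {ι} t f => by
    simp only [comp, map_sum]
    exact Finset.sum_comm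
  have hcomp0 : ∀ g : S, ∀ H' : Subgroup S, ∀ v ∈ Fix ρ (cj g), (∃ g' : S, H' = cj g') →
      comp H' v = if cj g = H' then v else 0 := by
    rintro g - v hv ⟨g', rfl⟩
    split_ifs with he
    · show ∑ h : ↥(cj g'), ρ (h : S) v = v
      rw [Finset.sum_congr rfl (g := fun _ => v) fun (h : ↥(cj g')) _ => hv (h : S) (by rw [he]; exact h.2), Finset.sum_const,
        Finset.card_univ, ← Nat.card_eq_fintype_card]
      exact nsmul_odd (hPodd.of_dvd_nat (card_dvd_of_le (hcjP g'))) v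
    · refine hfix0 _ ?_
      have hsup : cj g ⊔ cj g' = P :=
        (hmax (cj g) (by rw [hcjc, hHcard]) _ le_sup_left (sup_le (hcjP g) (hcjP g'))).resolve_left
          fun h => he (eq_of_le_of_card_ge (h ▸ le_sup_right) (by rw [hcjc, hcjc])).symm
      rw [← hsup]
      refine fixed_sup (fun h hh => ?_) fun h hh => ?_
      · show ρ h (∑ k : ↥(cj g'), ρ (k : S) v) = ∑ k : ↥(cj g'), ρ (k : S) v
        rw [map_sum]
        refine Finset.sum_congr rfl fun k _ => ?_
        rw [← rho_mul, hPc h (hcjP g hh) k (hcjP g' k.2), rho_mul, hv h hh]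
      · show ρ h (∑ k : ↥(cj g'), ρ (k : S) v) = ∑ k : ↥(cj g'), ρ (k : S) v
        rw [map_sum]
        exact Fintype.sum_equiv (Equiv.mulLeft (⟨h, hh⟩ : ↥(cj g'))) _ _
          fun k => (rho_mul _ _ _ _).symm
  have hequiv : ∀ (k : S) (v : E), comp (cj k) (ρ k v) = ρ k (comp H v) := by
    intro k v
    show ∑ h : ↥(cj k), ρ (h : S) (ρ k v) = ρ k (∑ h : ↥H, ρ (h : S) v)
    rw [map_sum]
    refine (Fintype.sum_equiv (H.equivMapOfInjective (MulAut.conj k).toMonoidHom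
      (MulAut.conj k).injective).toEquiv _ _ fun h => ?_).symm
    show ρ k (ρ (h : S) v) = ρ (k * (h : S) * k⁻¹) (ρ k v)
    rw [← rho_mul, ← rho_mul, inv_mul_cancel_right]
  have hcjN : ∀ k : S, cj k = H ↔ k ∈ normalizer (H : Set S) := by
    intro k
    refine ⟨fun h => ?_, fun h => H31.map_conj_eq_of_mem_normalizer h⟩
    exact H31.mem_normalizer_of_map_conj h
  -- the subgroups `K` and `L`
  set K : Subgroup S := (S₂ : Subgroup S) ⊔ (Sq : Subgroup S) with hK
  set KH : Subgroup S := K ⊓ normalizer (H : Set S) with hKH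
  let L : Subgroup S :=
    { carrier := {k | k ∈ KH ∧ ∀ y ∈ P, k * y * k⁻¹ * y⁻¹ ∈ H}
      one_mem' := ⟨one_mem _, fun y _ => by simp⟩
      mul_mem' := fun {k k'} hk hk' => ⟨mul_mem hk.1 hk'.1, fun y hy => by
        rw [show k * k' * y * (k * k')⁻¹ * y⁻¹ =
          k * (k' * y * k'⁻¹ * y⁻¹) * k⁻¹ * (k * y * k⁻¹ * y⁻¹) by group]
        exact mul_mem ((mem_normalizer_iff.1 (mem_inf.1 hk.1).2 _).1 (hk'.2 y hy)) (hk.2 y hy)⟩
      inv_mem' := fun {k} hk => ⟨inv_mem hk.1, fun y hy => by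
        rw [show k⁻¹ * y * k⁻¹⁻¹ * y⁻¹ = k⁻¹ * (k * y * k⁻¹ * y⁻¹)⁻¹ * k⁻¹⁻¹ by group]
        exact (mem_normalizer_iff.1 (inv_mem (mem_inf.1 hk.1).2) _).1
          (inv_mem (hk.2 y hy))⟩ }
  have hLKH : L ≤ KH := fun k hk => hk.1
  have hKc : Nat.card ↥K = Nat.card ↥S₂ * q := by rw [hK, h2q, hSq]
  have hLq : ¬ q ∣ Nat.card ↥L := by
    intro hdvd
    obtain ⟨⟨k, hk⟩, hko⟩ := exists_prime_orderOf_dvd_card' (G := ↥L) q hdvd
    have hkc : Nat.card ↥(zpowers k) = q :=
      (Nat.card_zpowers k).trans ((Subgroup.orderOf_mk k hk).symm.trans hko)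
    obtain ⟨T, hT⟩ := (IsPGroup.of_card (p := q) (n := 1) (G := ↥(zpowers k))
      (by rw [hkc, pow_one])).exists_le_sylow
    obtain ⟨g, hg⟩ := MulAction.exists_smul_eq S Sq T
    have hTc : Nat.card ↥(T : Subgroup S) = q := by
      rw [← hg, Sylow.coe_subgroup_smul]
      exact (card_map_of_injective (MulAut.conj g).injective).trans hSq
    have hTeq : zpowers k = (T : Subgroup S) := eq_of_le_of_card_ge hT (by rw [hTc, hkc])
    have hcom : ⁅P, (T : Subgroup S)⁆ = P := by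
      have h1 := congrArg (Subgroup.map (MulAut.conj g).toMonoidHom) hcomm
      rw [Subgroup.map_commutator] at h1
      have h2 : P.map (MulAut.conj g).toMonoidHom = P :=
        H31.map_conj_eq_of_mem_normalizer (normalizer_eq_top (H := P) ▸ mem_top g)
      rw [h2] at h1
      rw [← hg, Sylow.coe_subgroup_smul]
      exact h1
    have hPH : P ≤ H := by
      rw [← hcom, ← hTeq]
      refine Subgroup.commutator_le.2 fun y hy k' hk' => ?_
      have hkL : k' ∈ L := (zpowers_le.2 hk) hk'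
      rw [commutatorElement_def, show y * k' * y⁻¹ * k'⁻¹ = (k' * y * k'⁻¹ * y⁻¹)⁻¹ by group]
      exact inv_mem (hkL.2 y hy)
    have := card_le_of_le hPH
    rw [← hHcard] at this
    nlinarith [hp.two_le, Nat.card_pos (α := ↥H)]
  have hL2 : IsPGroup 2 ↥L := by
    have h1 : Nat.card ↥L ∣ Nat.card ↥S₂ := by
      refine Nat.Coprime.dvd_of_dvd_mul_right ((hq.coprime_iff_not_dvd.2 hLq).symm) ?_
      rw [← hKc]
      exact card_dvd_of_le (hLKH.trans inf_le_left)
    obtain ⟨n, hn⟩ := S₂.isPGroup'.exists_card_eq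
    obtain ⟨m, -, hm⟩ := (Nat.dvd_prime_pow Nat.prime_two).1 (hn ▸ h1)
    exact IsPGroup.of_card hm
  have hLconj : ∀ c ∈ KH, ∀ l ∈ L, c⁻¹ * l * c ∈ L := fun c hc l hl => by
    refine ⟨mul_mem (mul_mem (inv_mem hc) hl.1) hc, fun y hy => ?_⟩
    rw [show c⁻¹ * l * c * y * (c⁻¹ * l * c)⁻¹ * y⁻¹ =
      c⁻¹ * (l * (c * y * c⁻¹) * l⁻¹ * (c * y * c⁻¹)⁻¹) * c⁻¹⁻¹ by group]
    exact (mem_normalizer_iff.1 (inv_mem (mem_inf.1 hc).2) _).1
      (hl.2 _ (hSpN.conj_mem y hy c))
  have hnotL : ∀ c ∈ KH, c ∉ L → ∃ y ∈ P, c * y * c⁻¹ * y⁻¹ ∉ H := fun c hc hcL => by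
    by_contra h
    push Not at h
    exact hcL ⟨hc, h⟩
  have hFH : ∀ c ∈ KH, ∀ v ∈ Fix ρ H, ρ c v ∈ Fix ρ H := fun c hc v hv h hh => by
    rw [← rho_mul, show h * c = c * (c⁻¹ * h * c) by group, rho_mul]
    refine congrArg _ (hv _ ?_)
    simpa using (mem_normalizer_iff.1 (inv_mem (mem_inf.1 hc).2) h).1 hh
  obtain ⟨w1, hw1H, hw10⟩ := hHfix
  obtain ⟨w, hwH, hw0', hwL⟩ := exists_fixed_two L hL2 (Fix ρ H) (fun h _ => map_zero _)
    (fun x hx y hy h hh => by rw [map_add, hx h hh, hy h hh])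
    (fun l hl x hx => hFH l (hLKH hl) x hx) ⟨w1, hw1H, hw10⟩
  -- a sum over a transversal of `L` in a subgroup of `KH` is fixed by it
  have htrans : ∀ (A : Subgroup S), A ≤ KH → ∀ w' : E, w' ∈ Fix ρ H → w' ∈ Fix ρ L →
      (∑ i : ↥A ⧸ L.subgroupOf A, ρ ((i.out : ↥A) : S) w') ∈ Fix ρ H ∧
      (∑ i : ↥A ⧸ L.subgroupOf A, ρ ((i.out : ↥A) : S) w') ∈ Fix ρ A := by
    intro A hA w' h1 h2
    refine ⟨fun h hh => ?_, fun k hk => ?_⟩
    · rw [map_sum]
      exact Finset.sum_congr rfl fun i _ => hFH _ (hA i.out.2) w' h1 h hh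
    · rw [map_sum]
      refine Fintype.sum_equiv (MulAction.toPerm (⟨k, hk⟩ : ↥A)) _ _ fun i => ?_
      set j : ↥A ⧸ L.subgroupOf A := (⟨k, hk⟩ : ↥A) • i with hj
      show ρ k (ρ ((i.out : ↥A) : S) w') = ρ ((j.out : ↥A) : S) w'
      have hl : (j.out : ↥A)⁻¹ * (⟨k, hk⟩ * i.out) ∈ L.subgroupOf A := by
        refine QuotientGroup.eq.1 ?_
        rw [QuotientGroup.out_eq', hj]
        conv_lhs => rw [← QuotientGroup.out_eq' i]
        rfl
      calc ρ k (ρ ((i.out : ↥A) : S) w') = ρ (k * ((i.out : ↥A) : S)) w' := (rho_mul _ _ _ _).symm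
        _ = ρ (((j.out : ↥A) : S) * (((j.out : ↥A) : S)⁻¹ * (k * ((i.out : ↥A) : S)))) w' := by
          rw [mul_inv_cancel_left]
        _ = ρ ((j.out : ↥A) : S) w' := by
          rw [rho_mul, h2 _ (show ((j.out : ↥A) : S)⁻¹ * (k * ((i.out : ↥A) : S)) ∈ L from hl)]
  have hone : ∀ (A : Subgroup S), ((((1 : ↥A) : ↥A ⧸ L.subgroupOf A)).out : S) ∈ L := fun A => by
    have h1 := QuotientGroup.eq.1 (QuotientGroup.out_eq' (((1 : ↥A) : ↥A ⧸ L.subgroupOf A)))
    rw [mul_one] at h1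
    simpa using inv_mem (show ((((1 : ↥A) : ↥A ⧸ L.subgroupOf A)).out : S)⁻¹ ∈ L from h1)
  have houtL : ∀ (A : Subgroup S) (i : ↥A ⧸ L.subgroupOf A),
      ((i.out : ↥A) : S) ∈ L → i = ((1 : ↥A) : ↥A ⧸ L.subgroupOf A) := fun A i hi => by
    conv_lhs => rw [← QuotientGroup.out_eq' i]
    exact QuotientGroup.eq.2 (by
      rw [mul_one]
      exact inv_mem (show i.out ∈ L.subgroupOf A from hi))
  have hnP : ∀ c : S, c ∈ normalizer (P : Set S) := fun c => normalizer_eq_top (H := P) ▸ mem_top c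
  -- a nonzero vector fixed by `K`
  obtain ⟨w', hw'H, hw'L, hw'0⟩ := sum_ne_zero (L := L) hPodd hPc hHP (hmax H hHcard) hfix0
    (fun l hl => (mem_inf.1 (hLKH hl)).2) (fun l hl => hl.2)
    (Finset.univ : Finset (↥KH ⧸ L.subgroupOf KH)) (fun i => ((i.out : ↥KH) : S))
    ((1 : ↥KH) : ↥KH ⧸ L.subgroupOf KH) (Finset.mem_univ _) (hone KH) (fun i _ => hnP _)
    (fun i _ => (mem_inf.1 i.out.2).2) (fun i _ => hLconj _ i.out.2)
    (fun i _ hi => hnotL _ i.out.2 fun h => hi (houtL KH i h)) hwH hwL hw0'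
  obtain ⟨huH, huK⟩ := htrans KH le_rfl w' hw'H hw'L
  set u := ∑ i : ↥KH ⧸ L.subgroupOf KH, ρ ((i.out : ↥KH) : S) w' with hu
  obtain ⟨a0, ha0, ha0c, -⟩ := exists_extension K comp (fun g _ => hcomp0 g) hadd huH
    (fun r hr hrn => huK r (mem_inf.2 ⟨hr, hrn⟩))
  have ha00 : a0 ≠ 0 := fun h => hw'0 (ha0c.symm.trans (by
    rw [h]; show ∑ k : ↥H, ρ (k : S) (0 : E) = 0
    simp))
  -- a vector fixed by `S₂` and moved by `Sq`
  have hS2K : (S₂ : Subgroup S) ≤ K := le_sup_left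
  obtain ⟨v, hv, x, hx, hxv⟩ : ∃ v ∈ Fix ρ (S₂ : Subgroup S), ∃ x ∈ (Sq : Subgroup S), ρ x v ≠ v := by
    by_contra hcon
    push Not at hcon
    have hKfix : ∀ v ∈ Fix ρ (S₂ : Subgroup S), v ∈ Fix ρ K := fun v hv => fixed_sup hv (hcon v hv)
    have horb : ∀ k ∈ K, ∃ r ∈ (S₂ : Subgroup S), cj r = cj k := by
      by_contra hcon2
      push Not at hcon2
      obtain ⟨k, hk, hk'⟩ := hcon2
      obtain ⟨v, hv, hvc, hv0⟩ := exists_extension (S₂ : Subgroup S) comp (fun g _ => hcomp0 g) hadd huH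
        (fun r hr hrn => huK r (mem_inf.2 ⟨hS2K hr, hrn⟩))
      have h1 := hequiv k v
      rw [hKfix v hv k hk, hvc, hv0 k hk'] at h1
      exact hw'0 (rho_injective ρ k (h1.symm.trans (map_zero _).symm))
    set T : Subgroup S := (S₂ : Subgroup S) ⊓ KH with hT
    have hidx : ((S₂ : Subgroup S).subgroupOf KH).index = q := by
      let e := quotientSubgroupOfEmbeddingOfLE (S₂ : Subgroup S) (show KH ≤ K from inf_le_left)
      have hsurj : Function.Surjective e := by
        intro y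
        induction y using QuotientGroup.induction_on with
        | _ y =>
          obtain ⟨k, hk⟩ := y
          obtain ⟨r, hr, hrk⟩ := horb k⁻¹ (inv_mem hk)
          have hn : r⁻¹ * k⁻¹ ∈ KH := by
            refine mem_inf.2 ⟨mul_mem (inv_mem (hS2K hr)) (inv_mem hk), (hcjN _).1 ?_⟩
            show H.map (MulAut.conj (r⁻¹ * k⁻¹)).toMonoidHom = H
            have h1 : ∀ a b : S, cj (a * b) = (cj b).map (MulAut.conj a).toMonoidHom := fun a b => by
              simp only [hcj, Subgroup.map_map]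
              congr 1
              ext x
              simp [mul_assoc]
            show cj (r⁻¹ * k⁻¹) = H
            rw [h1, ← hrk, ← h1, inv_mul_cancel, hcjN]
            exact one_mem _
          refine ⟨QuotientGroup.mk ⟨(r⁻¹ * k⁻¹)⁻¹, inv_mem hn⟩, ?_⟩
          rw [quotientSubgroupOfEmbeddingOfLE_apply_mk]
          refine QuotientGroup.eq.2 ?_
          show ((r⁻¹ * k⁻¹)⁻¹)⁻¹ * k ∈ (S₂ : Subgroup S)
          simpa using inv_mem hr
      have h1 : ((S₂ : Subgroup S).subgroupOf KH).index = ((S₂ : Subgroup S).subgroupOf K).index :=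
        Nat.card_congr (Equiv.ofBijective e ⟨e.injective, hsurj⟩)
      rw [h1]
      have h2 := card_mul_index ((S₂ : Subgroup S).subgroupOf K)
      rw [Nat.card_congr (subgroupOfEquivOfLe hS2K).toEquiv, hKc] at h2
      exact Nat.eq_of_mul_eq_mul_left Nat.card_pos h2
    have hLT : L ≤ T := by
      have hTp : IsPGroup 2 ↥((S₂ : Subgroup S).subgroupOf KH) := S₂.isPGroup'.comap_subtype
      have hn : (L.subgroupOf KH).Normal := ⟨fun l hl c => by
        show (c : S) * l * (c : S)⁻¹ ∈ L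
        simpa using hLconj _ (inv_mem c.2) _ hl⟩
      have h2 : Fact (Nat.Prime 2) := ⟨Nat.prime_two⟩
      have hle := (Cores.le_pCore (p := 2) (N := L.subgroupOf KH) hL2.comap_subtype).trans
        (Cores.pCore_le_sylow (hTp.toSylow (fun h => by
          rw [hidx] at h
          exact hq2 ((Nat.prime_dvd_prime_iff_eq Nat.prime_two hq).1 h).symm)))
      exact fun l hl => mem_inf.2 ⟨hle (show (⟨l, hLKH hl⟩ : ↥KH) ∈ L.subgroupOf KH from hl), hLKH hl⟩
    obtain ⟨⟨x', hx'⟩, hx'o⟩ := exists_prime_orderOf_dvd_card' (G := ↥KH) q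
      (hidx ▸ index_dvd_card _)
    have hx'o' : orderOf x' = q := (Subgroup.orderOf_mk x' hx').symm.trans hx'o
    have hx'T : x' ∉ T := fun h => by
      obtain ⟨n, hn⟩ := S₂.isPGroup'.exists_card_eq
      have h1 : q ∣ 2 ^ n := hx'o' ▸ hn ▸ (S₂ : Subgroup S).orderOf_dvd_natCard (mem_inf.1 h).1
      exact hq2 ((Nat.prime_dvd_prime_iff_eq hq Nat.prime_two).1 (hq.dvd_of_dvd_pow h1))
    have hTKH : T ≤ KH := inf_le_right
    let c : Bool × (↥T ⧸ L.subgroupOf T) → S := fun i =>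
      (if i.1 then x' else 1) * ((i.2.out : ↥T) : S)
    have hcKH : ∀ i, c i ∈ KH := fun i => by
      refine mul_mem ?_ (hTKH i.2.out.2)
      split_ifs
      · exact hx'
      · exact one_mem _
    obtain ⟨w2, hw2H, hw2L, hw20⟩ := sum_ne_zero (L := L) hPodd hPc hHP (hmax H hHcard) hfix0
      (fun l hl => (mem_inf.1 (hLKH hl)).2) (fun l hl => hl.2)
      (Finset.univ : Finset (Bool × (↥T ⧸ L.subgroupOf T))) c
      (false, ((1 : ↥T) : ↥T ⧸ L.subgroupOf T)) (Finset.mem_univ _)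
      (by simpa [c] using hone T) (fun i _ => hnP _) (fun i _ => (mem_inf.1 (hcKH i)).2)
      (fun i _ => hLconj _ (hcKH i))
      (fun i _ hi => hnotL _ (hcKH i) fun h => by
        obtain ⟨b, i⟩ := i
        cases b with
        | false =>
          refine hi (Prod.ext rfl (houtL T i ?_))
          simpa [c] using h
        | true =>
          refine hx'T ?_
          have h1 : x' * ((i.out : ↥T) : S) ∈ T := hLT (by simpa [c] using h)
          exact (Subgroup.mul_mem_cancel_right _ i.out.2).1 h1)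
      hwH hwL hw0'
    obtain ⟨hu2H, hu2T⟩ := htrans T hTKH w2 hw2H hw2L
    set u2 := ∑ i : ↥T ⧸ L.subgroupOf T, ρ ((i.out : ↥T) : S) w2 with hu2
    obtain ⟨v, hv, hvc, -⟩ := exists_extension (S₂ : Subgroup S) comp (fun g _ => hcomp0 g) hadd hu2H
      (fun r hr hrn => hu2T r (mem_inf.2 ⟨hr, mem_inf.2 ⟨hS2K hr, hrn⟩⟩))
    have h1 := hequiv x' v
    rw [hKfix v hv x' (mem_inf.1 hx').1, (hcjN x').2 (mem_inf.1 hx').2, hvc] at h1
    refine hw20 ?_
    rw [Fintype.sum_prod_type, Fintype.sum_bool]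
    simp only [c, if_true, Bool.false_eq_true, if_false, one_mul, rho_mul, ← map_sum]
    rw [← hu2, ← h1, add_self']
  -- counting
  let E0 : AddSubgroup E :=
    { carrier := Fix ρ (S₂ : Subgroup S)
      add_mem' := fun {a b} ha hb h hh => by rw [map_add, ha h hh, hb h hh]
      zero_mem' := fun h _ => map_zero _
      neg_mem' := fun {a} ha h hh => by rw [map_neg, ha h hh] }
  have hcard : Nat.card {v : E // ∀ s ∈ (S₂ : Subgroup S), ρ s v = v} = Nat.card ↥E0 := rfl
  rw [hcard]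
  have ha0' : a0 ∈ E0 := fun h hh => ha0 h (hS2K hh)
  have hxa : ρ x a0 = a0 := ha0 x (le_sup_right (a := (S₂ : Subgroup S)) hx)
  have hv' : v ∈ E0 := hv
  have hne : ({0, a0, v, a0 + v} : Finset E).card = 4 := by
    have h1 : v ≠ 0 := fun h => hxv (by rw [h, map_zero])
    have h2 : v ≠ a0 := fun h => hxv (by rw [h, hxa])
    have h3 : a0 + v ≠ 0 := fun h => h2 ((eq_neg_of_add_eq_zero_right h).trans
      (neg_eq_of_add_eq_zero_left (add_self' a0)))
    rw [Finset.card_insert_of_notMem, Finset.card_insert_of_notMem, Finset.card_insert_of_notMem,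
      Finset.card_singleton]
    · simp [ha00]
    · simp [h1, h2.symm]
    · simp [ha00.symm, h1.symm, h3.symm]
  have hsub : (({0, a0, v, a0 + v} : Finset E) : Set E) ⊆ (E0 : Set E) := by
    intro y hy
    simp only [Finset.coe_insert, Finset.coe_singleton, Set.mem_insert_iff, Set.mem_singleton_iff] at hy
    rcases hy with rfl | rfl | rfl | rfl
    exacts [E0.zero_mem, ha0', hv', E0.add_mem ha0' hv']
  have h4 : 4 ≤ Nat.card ↥E0 := by
    have := Nat.card_mono (Set.toFinite _) hsub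
    rwa [Nat.card_coe_set_eq, Set.ncard_coe_finset, hne] at this
  obtain ⟨n, hn⟩ : ∃ n, Nat.card ↥E0 = 2 ^ n := by
    have h2 : Fact (Nat.Prime 2) := ⟨Nat.prime_two⟩
    have hP2 : IsPGroup 2 (Multiplicative ↥E0) := fun g => ⟨1, by
      rw [pow_one]
      exact Multiplicative.toAdd.injective (Subtype.ext (show 2 • ((Multiplicative.toAdd g : ↥E0) : E) = 0 by
        rw [two_nsmul, add_self']))⟩
    obtain ⟨n, hn⟩ := hP2.exists_card_eq
    exact ⟨n, (Nat.card_congr Multiplicative.ofAdd).trans hn⟩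
  by_cases hn3 : 3 ≤ n
  · left
    rw [hn]
    exact (Nat.pow_le_pow_right (by norm_num) hn3).trans' (by norm_num)
  right
  have hn2 : n = 2 := by
    rw [hn] at h4
    have := (Nat.pow_le_pow_iff_right (show 1 < 2 by norm_num)).1 (show 2 ^ 2 ≤ 2 ^ n from h4)
    omega
  have hc4 : Nat.card ↥E0 = 4 := by rw [hn, hn2]; norm_num
  refine ⟨hc4, x, hx, v, hv, fun hxvE => ?_⟩
  have hset : (({0, a0, v, a0 + v} : Finset E) : Set E) = (E0 : Set E) := by
    refine Set.eq_of_subset_of_ncard_le hsub ?_ (Set.toFinite _)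
    rw [← Nat.card_coe_set_eq, Set.ncard_coe_finset, hne]
    exact hc4.le
  have hmem : ρ x v ∈ (({0, a0, v, a0 + v} : Finset E) : Set E) := hset ▸ hxvE
  simp only [Finset.coe_insert, Finset.coe_singleton, Set.mem_insert_iff, Set.mem_singleton_iff] at hmem
  have hinj := rho_injective ρ x
  rcases hmem with h | h | h | h
  · exact hxv (by rw [h]; exact (hinj (h.trans (map_zero (ρ x)).symm)).symm)
  · exact hxv (by rw [h]; exact (hinj (h.trans hxa.symm)).symm)
  · exact hxv h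
  · refine hxv ?_
    have hsq : ρ (x * x) v = v := by
      rw [rho_mul, h, map_add, hxa, h, ← add_assoc, add_self', zero_add]
    have hxo : orderOf x ∣ q := hSq ▸ (Sq : Subgroup S).orderOf_dvd_natCard hx
    obtain ⟨m, hm⟩ := hq.odd_of_ne_two hq2
    have hxq : x ^ (2 * (m + 1)) = x := by
      rw [show 2 * (m + 1) = q + 1 by omega, pow_succ, orderOf_dvd_iff_pow_eq_one.1 hxo, one_mul]
    have h1 := fix_zpowers hsq (x ^ (2 * (m + 1))) (by
      rw [pow_mul, pow_two]; exact pow_mem (mem_zpowers _) _)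
    rwa [hxq] at h1

end Cfsg.Agent.S4414
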