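import Cfsg.Statements.S4415
import Cfsg.Agent.Cores.CubicMain
import Cfsg.Agent.Cores.Constrained
import Cfsg.Agent.Cores.PSolvable

set_option autoImplicit false
open Cfsg

namespace Cfsg.Agent.S4415

open Subgroup
open scoped commutatorElement
open Cores.CubicBlock

/-- One cubic block determines the image of `b - 1`. -/
theorem block_span {S : Type*} [Group S] {E : Type*} [AddCommGroup E] [Module (ZMod 3) E] [Finite E]
    (ρ : Representation (ZMod 3) S E) {b : S} (hb3 : b * b * b = 1)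
    {E₀ E₁ : Submodule (ZMod 3) E} (hE01' : E₀ ⊔ E₁ = ⊤)
    (hE1 : ∀ v ∈ E₁, ρ b v = v) (hE0inv : ∀ v ∈ E₀, ρ b v ∈ E₀) (hE0 : Nat.card ↥E₀ = 27)
    {v : E} (hv : v ∈ E₀) (hne : tb ρ b (tb ρ b v) ≠ 0) (x : E) :
    ∃ a c : ZMod 3, tb ρ b x = a • tb ρ b v + c • tb ρ b (tb ρ b v) := by
  have hbbb : ∀ y, ρ b (ρ b (ρ b y)) = y := fun y => by
    rw [← Cores.CubicBlock.mul_apply, ← Cores.CubicBlock.mul_apply, hb3, Cores.CubicBlock.one_apply]
  have hcube : ∀ y, tb ρ b (tb ρ b (tb ρ b y)) = 0 := fun y => by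
    simp only [tb, map_sub, hbbb]
    calc y - ρ b (ρ b y) - (ρ b (ρ b y) - ρ b y) - (ρ b (ρ b y) - ρ b y - (ρ b y - y))
        = (ρ b y + ρ b y + ρ b y) - (ρ b (ρ b y) + ρ b (ρ b y) + ρ b (ρ b y)) := by abel
      _ = 0 := by rw [three_add, three_add, sub_zero]
  set t := tb ρ b v with ht
  set u := tb ρ b t with hu
  have htu : tb ρ b u = 0 := hcube v
  have hadd : ∀ x y : E, tb ρ b (x + y) = tb ρ b x + tb ρ b y := fun x y => by
    simp only [tb, map_add]; abel
  have hsmul : ∀ (a : ZMod 3) (x : E), tb ρ b (a • x) = a • tb ρ b x := fun a x => by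
    simp only [tb, map_smul, smul_sub]
  have htm : t ∈ E₀ := sub_mem (hE0inv v hv) hv
  have hum : u ∈ E₀ := sub_mem (hE0inv t htm) htm
  let f : ZMod 3 × ZMod 3 × ZMod 3 → ↥E₀ := fun p => ⟨p.1 • v + p.2.1 • t + p.2.2 • u,
    add_mem (add_mem (E₀.smul_mem _ hv) (E₀.smul_mem _ htm)) (E₀.smul_mem _ hum)⟩
  have h0 : ∀ a c e : ZMod 3, a • v + c • t + e • u = 0 → a = 0 ∧ c = 0 ∧ e = 0 := by
    intro a c e h
    have h1 := congrArg (tb ρ b) h
    rw [hadd, hadd, hsmul, hsmul, hsmul, ← ht, ← hu, htu, smul_zero, add_zero,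
      show tb ρ b 0 = 0 by simp [tb]] at h1
    have h2 := congrArg (tb ρ b) h1
    rw [hadd, hsmul, hsmul, ← hu, htu, smul_zero, add_zero, show tb ρ b 0 = 0 by simp [tb]] at h2
    have ha : a = 0 := (smul_eq_zero.1 h2).resolve_right hne
    rw [ha, zero_smul, zero_add] at h1
    have hc : c = 0 := (smul_eq_zero.1 h1).resolve_right hne
    rw [ha, hc, zero_smul, zero_smul, zero_add, zero_add] at h
    exact ⟨ha, hc, (smul_eq_zero.1 h).resolve_right hne⟩
  have hf : Function.Injective f := by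
    rintro ⟨a, c, e⟩ ⟨a', c', e'⟩ h
    have h' : a • v + c • t + e • u = a' • v + c' • t + e' • u := congrArg Subtype.val h
    obtain ⟨h1, h2, h3⟩ := h0 (a - a') (c - c') (e - e') (by
      rw [sub_smul, sub_smul, sub_smul]
      calc a • v - a' • v + (c • t - c' • t) + (e • u - e' • u)
          = (a • v + c • t + e • u) - (a' • v + c' • t + e' • u) := by abel
        _ = 0 := by rw [h', sub_self])
    rw [sub_eq_zero] at h1 h2 h3
    rw [h1, h2, h3]
  have hsurj := (hf.bijective_of_nat_card_le (by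
    rw [hE0, Nat.card_prod, Nat.card_prod, Nat.card_zmod])).2
  obtain ⟨e₀, he₀, e₁, he₁, rfl⟩ := Submodule.mem_sup.1 (hE01' ▸ Submodule.mem_top (x := x))
  obtain ⟨⟨a, c, e⟩, hfe⟩ := hsurj ⟨e₀, he₀⟩
  have hfe' : a • v + c • t + e • u = e₀ := congrArg Subtype.val hfe
  refine ⟨a, c, ?_⟩
  rw [hadd, show tb ρ b e₁ = 0 from sub_eq_zero.2 (hE1 e₁ he₁), add_zero, ← hfe', hadd, hadd, hsmul,
    hsmul, hsmul, htu, smul_zero, add_zero]

/-- A fixed point free four group has surjective commutator map. -/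
theorem four_commutators {S : Type*} [Group S] {Q : Subgroup S} {b : S} (hb3 : b * b * b = 1)
    (hQ4 : Nat.card ↥Q = 4) (hsq : ∀ q ∈ Q, q * q = 1) (hconj : ∀ q ∈ Q, b * q * b⁻¹ ∈ Q)
    (hnc : ∃ q ∈ Q, b * q * b⁻¹ ≠ q) :
    (∀ q ∈ Q, b * q * b⁻¹ = q → q = 1) ∧ ∀ q ∈ Q, ∃ r ∈ Q, q = ⁅r, b⁆ := by
  classical
  haveI : Finite ↥Q := Nat.finite_of_card_ne_zero (by omega)
  have hinv : ∀ q ∈ Q, q⁻¹ = q := fun q hq => inv_eq_of_mul_eq_one_right (hsq q hq)
  have hcomm : ∀ q ∈ Q, ∀ r ∈ Q, q * r = r * q := fun q hq r hr => by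
    conv_lhs => rw [← hinv _ (mul_mem hq hr), mul_inv_rev, hinv q hq, hinv r hr]
  have hfpf : ∀ q ∈ Q, b * q * b⁻¹ = q → q = 1 := by
    intro q hq hbq
    by_contra hq1
    obtain ⟨r, hr, hbr⟩ := hnc
    set r' := b * r * b⁻¹ with hr'
    have hr'Q : r' ∈ Q := hconj r hr
    have hrq : r ≠ q := fun h => hbr (by rw [hr', h, hbq])
    have hr1 : r ≠ 1 := fun h => hbr (by rw [hr', h, mul_one, mul_inv_cancel])
    have hr'1 : r' ≠ 1 := fun h => hr1 (conj_eq_one_iff.1 h)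
    have hr'q : r' ≠ q := fun h => hrq (mul_left_cancel (mul_right_cancel (h.trans hbq.symm)))
    have e : r' = q * r := by
      by_contra hne
      have h5 : ({1, q, r, q * r, r'} : Finset S).card ≤ 4 := by
        rw [← hQ4, ← SetLike.coe_sort_coe, Nat.card_coe_set_eq, ← Set.ncard_coe_finset]
        refine Set.ncard_le_ncard (fun x hx => ?_) (Set.toFinite _)
        simp only [Finset.coe_insert, Finset.coe_singleton, Set.mem_insert_iff,
          Set.mem_singleton_iff] at hx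
        rcases hx with rfl | rfl | rfl | rfl | rfl
        exacts [one_mem Q, hq, hr, mul_mem hq hr, hr'Q]
      have hqr1 : q * r ≠ 1 := fun h => hrq (by
        rw [eq_inv_of_mul_eq_one_right h, hinv q hq])
      rw [Finset.card_insert_of_notMem, Finset.card_insert_of_notMem, Finset.card_insert_of_notMem,
        Finset.card_insert_of_notMem, Finset.card_singleton] at h5
      · omega
      all_goals simp only [Finset.mem_insert, Finset.mem_singleton, not_or]
      · exact Ne.symm hne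
      · exact ⟨fun h => hq1 (right_eq_mul.1 (h.trans rfl)), Ne.symm hbr⟩
      · exact ⟨hrq.symm, fun h => hr1 (left_eq_mul.1 h), hr'q.symm⟩
      · exact ⟨Ne.symm hq1, Ne.symm hr1, Ne.symm hqr1, Ne.symm hr'1⟩
    have e2 : b * r' * b⁻¹ = r := by
      rw [e, show b * (q * r) * b⁻¹ = (b * q * b⁻¹) * (b * r * b⁻¹) by group, hbq, ← hr', e,
        ← mul_assoc, hsq q hq, one_mul]
    refine hbr ?_
    calc r' = b * (b * r' * b⁻¹) * b⁻¹ := by rw [e2]
      _ = (b * b * b) * r * (b * b * b)⁻¹ := by rw [hr']; group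
      _ = r := by rw [hb3, one_mul, inv_one, mul_one]
  refine ⟨hfpf, fun q hq => ?_⟩
  let f : ↥Q → ↥Q := fun x => ⟨x * (b * x * b⁻¹), mul_mem x.2 (hconj x x.2)⟩
  have hf : Function.Injective f := by
    intro x y h
    have h' : (x : S) * (b * x * b⁻¹) = y * (b * y * b⁻¹) := congrArg Subtype.val h
    have hxy : b * ((x : S) * y) * b⁻¹ = x * y := by
      have hx' := hconj x x.2
      have hy' := hconj y y.2
      calc b * ((x : S) * y) * b⁻¹ = (b * x * b⁻¹) * (b * y * b⁻¹) := by group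
        _ = x * (x * (b * x * b⁻¹)) * (b * y * b⁻¹) := by rw [← mul_assoc (x : S), hsq x x.2, one_mul]
        _ = x * y * ((b * y * b⁻¹) * (b * y * b⁻¹)) := by rw [h']; simp only [mul_assoc]
        _ = x * y := by rw [hsq _ hy', mul_one]
    have h1 := hfpf _ (mul_mem x.2 y.2) hxy
    exact Subtype.ext ((eq_inv_of_mul_eq_one_left h1).trans (hinv y y.2))
  obtain ⟨r, hr⟩ := (Finite.injective_iff_surjective.1 hf) ⟨q, hq⟩
  refine ⟨r, r.2, ?_⟩
  have hr' : (r : S) * (b * r * b⁻¹) = q := congrArg Subtype.val hr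
  calc q = (r : S) * (b * (r : S)⁻¹ * b⁻¹) := by rw [hinv r r.2, hr']
    _ = ⁅(r : S), b⁆ := by rw [commutatorElement_def]; group

/-- An extraspecial group of order 32 around the four group contains an elementary abelian 8. -/
theorem exists_eight {S : Type*} [Group S] [Finite S] {R Q : Subgroup S} {b : S} (hQR : Q ≤ R)
    (hQ4 : Nat.card ↥Q = 4) (hsq : ∀ q ∈ Q, q * q = 1)
    (hfpf : ∀ q ∈ Q, b * q * b⁻¹ = q → q = 1) (hb3 : b * b * b = 1)
    (hRb : ∀ r ∈ R, b * r * b⁻¹ ∈ R) (hex : Cfsg.IsExtraspecial 2 ↥R) :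
    ∃ A : Subgroup S, A ≤ R ∧ Cfsg.IsElementaryAbelian 2 A ∧ Nat.card ↥A = 8 := by
  classical
  haveI : Fact (Nat.Prime 2) := ⟨Nat.prime_two⟩
  set Z := (center ↥R).map R.subtype with hZ
  have hZc : Nat.card ↥Z = 2 := by
    rw [hZ, card_map_of_injective R.subtype_injective]; exact hex.2
  haveI : Finite ↥Z := inferInstance
  obtain ⟨z, hz⟩ := isCyclic_iff_exists_zpowers_eq_top.1 (isCyclic_of_prime_card hZc)
  have hzo : orderOf (z : S) = 2 := by
    rw [orderOf_coe, ← Nat.card_zpowers, hz, card_top, hZc]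
  have hzz : (z : S) * z = 1 := by rw [← pow_two, ← hzo, pow_orderOf_eq_one]
  have hzR : (z : S) ∈ R := map_subtype_le _ z.2
  have hzc : ∀ y ∈ R, (z : S) * y = y * z := by
    obtain ⟨w, hw, hwz⟩ := z.2
    intro y hy
    rw [← hwz]
    exact (congrArg Subtype.val (mem_center_iff.1 hw ⟨y, hy⟩)).symm
  have hz1 : (z : S) ≠ 1 := fun h => by rw [h, orderOf_one] at hzo; omega
  have hfix : b * z * b⁻¹ = z := by
    have hcz : (⟨_, hRb _ hzR⟩ : ↥R) ∈ center ↥R := mem_center_iff.2 fun y => Subtype.ext (by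
      show (y : S) * (b * z * b⁻¹) = b * z * b⁻¹ * y
      set y' := b * (b * (y : S) * b⁻¹) * b⁻¹ with hy'
      have hy'R : y' ∈ R := hRb _ (hRb _ y.2)
      have e : b * y' * b⁻¹ = (y : S) := by
        calc b * y' * b⁻¹ = (b * b * b) * y * (b * b * b)⁻¹ := by rw [hy']; group
          _ = y := by rw [hb3, one_mul, inv_one, mul_one]
      rw [← e]
      calc b * y' * b⁻¹ * (b * z * b⁻¹) = b * (y' * z) * b⁻¹ := by group
        _ = b * (z * y') * b⁻¹ := by rw [hzc y' hy'R]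
        _ = _ := by group)
    have hm : b * (z : S) * b⁻¹ ∈ Z := ⟨_, hcz, rfl⟩
    have hm' : (⟨_, hm⟩ : ↥Z) ∈ zpowers z := hz ▸ mem_top _
    obtain ⟨i, hi⟩ := mem_zpowers_iff.1 hm'
    have hi' : (z : S) ^ i = b * z * b⁻¹ := congrArg Subtype.val hi
    rcases Int.even_or_odd i with ⟨j, rfl⟩ | ⟨j, rfl⟩
    · exfalso
      rw [← two_mul, zpow_mul, show (z : S) ^ (2 : ℤ) = 1 by rw [zpow_two, hzz], one_zpow] at hi'
      exact hz1 (conj_eq_one_iff.1 hi'.symm)
    · rw [zpow_add_one, zpow_mul, show (z : S) ^ (2 : ℤ) = 1 by rw [zpow_two, hzz], one_zpow,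
        one_mul] at hi'
      exact hi'.symm
  have hzQ : (z : S) ∉ Q := fun h => hz1 (hfpf _ h hfix)
  set A := Q ⊔ zpowers (z : S) with hA
  have hZn : zpowers (z : S) ≤ normalizer (Q : Set S) := zpowers_le.2 (mem_normalizer_iff.2 fun x => by
    refine ⟨fun hx => ?_, fun hx => ?_⟩
    · rwa [hzc x (hQR hx), mul_inv_cancel_right]
    · have hxR : x ∈ R := by
        have := mul_mem (mul_mem (inv_mem hzR) (hQR hx)) hzR
        rwa [show (z : S)⁻¹ * (z * x * (z : S)⁻¹) * z = x by group] at this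
      rwa [hzc x hxR, mul_inv_cancel_right] at hx)
  have hAR : A ≤ R := sup_le hQR (zpowers_le.2 hzR)
  have hmem : ∀ a ∈ A, ∃ q ∈ Q, a = q ∨ a = q * z := by
    intro a ha
    obtain ⟨q, hq, w, hw, rfl⟩ := (Coprime.mem_sup_iff hZn).1 ha
    refine ⟨q, hq, ?_⟩
    obtain ⟨i, rfl⟩ := mem_zpowers_iff.1 hw
    rcases Int.even_or_odd i with ⟨j, rfl⟩ | ⟨j, rfl⟩
    · left
      rw [← two_mul, zpow_mul, show (z : S) ^ (2 : ℤ) = 1 by rw [zpow_two, hzz], one_zpow, mul_one]
    · right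
      rw [zpow_add_one, zpow_mul, show (z : S) ^ (2 : ℤ) = 1 by rw [zpow_two, hzz], one_zpow, one_mul]
  have hel : ∀ a ∈ A, a * a = 1 := by
    intro a ha
    obtain ⟨q, hq, rfl | rfl⟩ := hmem a ha
    · exact hsq _ hq
    · calc q * z * (q * z) = q * ((z : S) * q) * z := by simp only [mul_assoc]
        _ = (q * q) * (z * z) := by rw [hzc q (hQR hq)]; simp only [mul_assoc]
        _ = 1 := by rw [hsq q hq, hzz, one_mul]
  refine ⟨A, hAR, ⟨⟨⟨fun x y => Subtype.ext ?_⟩⟩, fun a ha => by rw [pow_two]; exact hel a ha⟩, ?_⟩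
  · show (x : S) * y = y * x
    have i : ∀ a ∈ A, a⁻¹ = a := fun a ha => inv_eq_of_mul_eq_one_right (hel a ha)
    conv_lhs => rw [← i _ (mul_mem x.2 y.2), mul_inv_rev, i _ x.2, i _ y.2]
  · have hsurj : Function.Surjective (fun p : ↥Q × Bool =>
        (⟨(p.1 : S) * (if p.2 then (z : S) else 1), mul_mem (mem_sup_left p.1.2)
          (by split; exacts [mem_sup_right (mem_zpowers _), one_mem _])⟩ : ↥A)) := by
      rintro ⟨a, ha⟩
      obtain ⟨q, hq, rfl | rfl⟩ := hmem a ha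
      · exact ⟨(⟨_, hq⟩, false), Subtype.ext (by simp)⟩
      · exact ⟨(⟨_, hq⟩, true), Subtype.ext (by simp)⟩
    have h1 := Nat.card_le_card_of_surjective _ hsurj
    rw [Nat.card_prod, hQ4, Nat.card_eq_fintype_card (α := Bool), Fintype.card_bool] at h1
    have h2 : 4 ∣ Nat.card ↥A := hQ4 ▸ card_dvd_of_le (le_sup_left : Q ≤ A)
    have h3 : Nat.card ↥A ≠ 4 := fun h => hzQ (by
      rw [eq_of_le_of_card_ge (le_sup_left : Q ≤ A) (by rw [h, hQ4])]
      exact mem_sup_right (mem_zpowers _))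
    have h4 : 0 < Nat.card ↥A := Nat.card_pos
    omega

/-- Let S be a finite solvable group acting faithfully on a finite-dimensional space E over the field with three elements, with O₃(S) = 1. Let B ≤ S have order 3 and suppose: E = E₀ ⊕ E₁ with B fixing E₁ pointwise, E₀ B-invariant of order 27 and indecomposable under B (a generator of B has a single Jordan block on E₀); B normalizes but does not centralize some subgroup Q of S that is elementary abelian of order 4; and B is the centre of a Sylow 3-subgroup of S. Put R = [O_{3'}(S), B]. Then R is elementary abelian of order 4 or extraspecial of order 32 containing an elementary abelian subgroup of order 8 (a central product of two quaternion groups), and E is the direct sum of a subspace fixed pointwise by R and an RB-invariant subspace on which the subgroup RB acts faithfully and irreducibly. -/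
theorem result {S : Type*} [Group S] [Finite S]
    [Group.IsSolvable S] {E : Type*} [AddCommGroup E] [Module (ZMod 3) E] [Finite E] (ρ : Representation (ZMod 3) S E)
    (hfaith : Function.Injective ρ) (hO3 : Cfsg.pCore 3 S = ⊥)
    (B : Subgroup S) (hB : Nat.card ↥B = 3) (b : S) (hb : Subgroup.zpowers b = B)
    (E₀ E₁ : Submodule (ZMod 3) E) (hE01 : E₀ ⊓ E₁ = ⊥) (hE01' : E₀ ⊔ E₁ = ⊤)
    (hE1 : ∀ v ∈ E₁, ρ b v = v) (hE0inv : ∀ v ∈ E₀, ρ b v ∈ E₀) (hE0 : Nat.card ↥E₀ = 27)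
    (hind : ∃ v ∈ E₀, ρ b (ρ b v - v) - (ρ b v - v) ≠ 0)
    (Q : Subgroup S) (hQ : Cfsg.IsElementaryAbelian 2 Q) (hQ4 : Nat.card ↥Q = 4)
    (hBQ : B ≤ Subgroup.normalizer (Q : Set S)) (hBQ' : ¬ B ≤ Subgroup.centralizer (Q : Set S))
    (P : Sylow 3 S) (hBZ : (Subgroup.center ↥(P : Subgroup S)).map (P : Subgroup S).subtype = B) :
    ((Cfsg.IsElementaryAbelian 2 ⁅Cfsg.pPrimeCore 3 S, B⁆ ∧ Nat.card ↥⁅Cfsg.pPrimeCore 3 S, B⁆ = 4) ∨
      (Cfsg.IsExtraspecial 2 ↥⁅Cfsg.pPrimeCore 3 S, B⁆ ∧ Nat.card ↥⁅Cfsg.pPrimeCore 3 S, B⁆ = 32 ∧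
        ∃ A : Subgroup S, A ≤ ⁅Cfsg.pPrimeCore 3 S, B⁆ ∧ Cfsg.IsElementaryAbelian 2 A ∧ Nat.card ↥A = 8)) ∧
    ∃ F₀ F₁ : Submodule (ZMod 3) E, F₀ ⊓ F₁ = ⊥ ∧ F₀ ⊔ F₁ = ⊤ ∧
      (∀ r ∈ ⁅Cfsg.pPrimeCore 3 S, B⁆, ∀ v ∈ F₁, ρ r v = v) ∧ (∀ r ∈ ⁅Cfsg.pPrimeCore 3 S, B⁆ ⊔ B, ∀ v ∈ F₀, ρ r v ∈ F₀) ∧
      (∀ r ∈ ⁅Cfsg.pPrimeCore 3 S, B⁆ ⊔ B, (∀ v ∈ F₀, ρ r v = v) → r = 1) ∧
      (∀ N : Submodule (ZMod 3) E, N ≤ F₀ → (∀ r ∈ ⁅Cfsg.pPrimeCore 3 S, B⁆ ⊔ B, ∀ v ∈ N, ρ r v ∈ N) → N = ⊥ ∨ N = F₀) := by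
  haveI : Fact (Nat.Prime 3) := ⟨Nat.prime_three⟩
  subst hb
  have hbo : orderOf b = 3 := by rw [← Nat.card_zpowers]; exact hB
  have hb3 : b ^ 3 = 1 := by rw [← hbo]; exact pow_orderOf_eq_one b
  have hbbb : b * b * b = 1 := by rw [← pow_two, ← pow_succ]; exact hb3
  have hsq : ∀ q ∈ Q, q * q = 1 := fun q hq => by rw [← pow_two]; exact hQ.2 q hq
  have hQconj : ∀ q ∈ Q, b * q * b⁻¹ ∈ Q := fun q hq =>
    (mem_normalizer_iff.1 (hBQ (mem_zpowers b)) q).1 hq
  have hnc : ∃ q ∈ Q, b * q * b⁻¹ ≠ q := by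
    by_contra h
    push Not at h
    exact hBQ' (zpowers_le.2 (mem_centralizer_iff.2 fun q hq => (mul_inv_eq_iff_eq_mul.1 (h q hq)).symm))
  obtain ⟨hfpf, hsurj⟩ := four_commutators hbbb hQ4 hsq hQconj hnc
  set N := Cfsg.pPrimeCore 3 S with hN
  haveI : N.Normal := inferInstance
  have hNc : (Nat.card ↥N).Coprime 3 := Cores.coprime_card_pPrimeCore
  set π := QuotientGroup.mk' N with hπ
  have hπs : Function.Surjective π := QuotientGroup.mk'_surjective N
  have hπb : π b ∈ Cfsg.pCore 3 (S ⧸ N) := by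
    refine Cores.centralizer_pCore_le Cores.isPSolvable_of_isSolvable
      Cores.pPrimeCore_quotient_pPrimeCore (mem_centralizer_iff.2 fun y hy => ?_)
    have hy' := Cores.pCore_le_sylow (P.mapSurjective hπs) hy
    rw [Sylow.coe_mapSurjective] at hy'
    obtain ⟨x, hx, rfl⟩ := hy'
    obtain ⟨c, hc, hcb⟩ := (hBZ.symm ▸ mem_zpowers b : b ∈ (center ↥(P : Subgroup S)).map _)
    have := congrArg Subtype.val (mem_center_iff.1 hc ⟨x, hx⟩)
    simp only [Subgroup.coe_mul] at this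
    rw [← map_mul, ← map_mul, ← hcb]
    exact congrArg π this
  have hQN0 : ∀ q ∈ Q, ⁅q, b⁆ ∈ N := by
    intro q hq
    have h1 : π ⁅q, b⁆ ∈ Cfsg.pCore 3 (S ⧸ N) := by
      rw [commutatorElement_def, map_mul, map_mul, map_mul, map_inv, map_inv]
      exact mul_mem (Normal.conj_mem inferInstance _ hπb (π q)) (inv_mem hπb)
    have h2 : π ⁅q, b⁆ * π ⁅q, b⁆ = 1 := by
      rw [← map_mul, hsq ⁅q, b⁆ (by
        rw [commutatorElement_def, show q * b * q⁻¹ * b⁻¹ = q * (b * q⁻¹ * b⁻¹) by group]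
        exact mul_mem hq (hQconj _ (inv_mem hq))), map_one]
    obtain ⟨k, hk⟩ := Cores.pCore_isPGroup (p := 3) (G := S ⧸ N) ⟨_, h1⟩
    have hk' : π ⁅q, b⁆ ^ (3 ^ k) = 1 := by
      have := congrArg Subtype.val hk
      simpa using this
    have h3 : orderOf (π ⁅q, b⁆) ∣ 3 ^ k := orderOf_dvd_of_pow_eq_one hk'
    have h4 : orderOf (π ⁅q, b⁆) ∣ 2 := orderOf_dvd_of_pow_eq_one (by rw [pow_two]; exact h2)
    have h5 := orderOf_eq_one_iff.1 (Nat.eq_one_of_dvd_coprimes
      ((show Nat.Coprime 2 3 by decide).pow_right k) h4 h3)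
    exact (QuotientGroup.eq_one_iff _).1 h5
  have hQN : Q ≤ N := fun q hq => by
    obtain ⟨r, hr, rfl⟩ := hsurj q hq
    exact hQN0 r hr
  set R := ⁅N, zpowers b⁆ with hR
  have hBN : zpowers b ≤ normalizer (N : Set S) := by rw [normalizer_eq_top_iff.2 inferInstance]; exact le_top
  have hcop : (Nat.card ↥(zpowers b)).Coprime (Nat.card ↥N) := by rw [hB]; exact hNc.symm
  have hRN : R ≤ N := Coprime.commutator_le_left_of_normalizer hBN
  have hRconj : ∀ r ∈ R, b * r * b⁻¹ ∈ R := fun r hr =>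
    (mem_normalizer_iff.1 (normalizer_commutator_ge_right N (zpowers b) (mem_zpowers b)) r).1 hr
  obtain ⟨v, hv, hvne⟩ := hind
  have H : Cores.CubicBlock.Hyp ρ b Q R :=
    { faithful := hfaith
      b_pow := hb3
      blk := ⟨v, hvne, block_span ρ hbbb hE01' hE1 hE0inv hE0 hv hvne⟩
      Q_le := fun q hq => by
        obtain ⟨r, hr, rfl⟩ := hsurj q hq
        exact commutator_mem_commutator (hQN hr) (mem_zpowers b)
      Q_card := hQ4
      Q_sq := hsq
      Q_conj := hQconj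
      Q_fpf := hfpf
      R_cop := hNc.coprime_dvd_left (card_dvd_of_le hRN)
      R_conj := hRconj
      R_gen := by
        rw [closure_eq_commutator hRconj, hR,
          Coprime.commutator_commutator_eq hBN hcop (.inl inferInstance)] }
  constructor
  · rcases H.structure_thm with h | ⟨h1, h2⟩
    · exact .inl (h.symm ▸ ⟨hQ, hQ4⟩)
    · exact .inr ⟨h1, h2, exists_eight H.Q_le hQ4 hsq hfpf hbbb hRconj h1⟩
  · have hfix := H.b_on_spaces.1
    refine ⟨movedSp ρ R, fixedSp ρ R, ?_, ?_, fun r hr x hx => hx r hr, ?_, ?_, ?_⟩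
    · exact eq_bot_iff.2 fun x hx => (Submodule.mem_bot _).2
        (fixed_inf_moved ρ H.R_cop (Submodule.mem_inf.1 hx).2 (Submodule.mem_inf.1 hx).1)
    · refine eq_top_iff.2 fun x _ => ?_
      obtain ⟨f, hf, m, hm, rfl⟩ := exists_fixed_add_moved ρ H.R_cop x
      exact add_mem (Submodule.mem_sup_right hf) (Submodule.mem_sup_left hm)
    · let St : Subgroup S :=
        { carrier := {g | ∀ x ∈ movedSp ρ R, ρ g x ∈ movedSp ρ R}
          one_mem' := fun x hx => by rw [Cores.CubicBlock.one_apply]; exact hx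
          mul_mem' := fun {g h} hg hh x hx => by rw [Cores.CubicBlock.mul_apply]; exact hg _ (hh x hx)
          inv_mem' := fun {g} hg => Cores.CubicBlock.Hyp.inv_maps hg }
      have hle : R ⊔ zpowers b ≤ St := sup_le H.moved_Rinv (zpowers_le.2 H.moved_binv)
      exact fun r hr => hle hr
    · let Fx : Subgroup S :=
        { carrier := {g | ∀ x ∈ fixedSp ρ R, ρ g x = x}
          one_mem' := fun x hx => Cores.CubicBlock.one_apply ρ x
          mul_mem' := fun {g h} hg hh x hx => by rw [Cores.CubicBlock.mul_apply, hh x hx, hg x hx]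
          inv_mem' := fun {g} hg x hx => by
            conv_lhs => rw [← hg x hx]
            rw [Cores.CubicBlock.inv_apply_self] }
      have hle : R ⊔ zpowers b ≤ Fx := sup_le (fun r hr x hx => hx r hr) (zpowers_le.2 hfix)
      intro r hr h
      refine hfaith (LinearMap.ext fun x => ?_)
      obtain ⟨f, hf, m, hm, rfl⟩ := exists_fixed_add_moved ρ H.R_cop x
      rw [map_add, hle hr f hf, h m hm, Cores.CubicBlock.one_apply]
    · exact fun W hW hinv => H.irreducible hW (fun r hr => hinv r (mem_sup_left hr))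
        (hinv b (mem_sup_right (mem_zpowers b)))

end Cfsg.Agent.S4415
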