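import Cfsg.Statements.S4416
import Cfsg.Agent.H71.FormIso
import Cfsg.Agent.S0095
-- import your own Cfsg.Agent.* helpers here

set_option autoImplicit false
open Cfsg

namespace Cfsg.Agent.S4416

open QuadraticMap Cfsg.Agent.Orthogonal Cfsg.Agent.H92.ExtraForm

/-- the sign `(-1) ^ a` -/
private def sgn (a : ZMod 2) : ℤ := if a = 0 then 1 else -1

private theorem sgn_add : ∀ a b : ZMod 2, sgn (a + b) = sgn a * sgn b := by decide

private theorem sgn_sum {ι : Type*} (s : Finset ι) (f : ι → ZMod 2) :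
    sgn (∑ i ∈ s, f i) = ∏ i ∈ s, sgn (f i) := by
  classical
  induction s using Finset.induction_on with
  | empty => simp [sgn]
  | insert a s ha ih => rw [Finset.sum_insert ha, Finset.prod_insert ha, sgn_add, ih]

private theorem sum_sgn_plus (m : ℕ) :
    ∑ v : Fin m ⊕ Fin m → ZMod 2, sgn (Cfsg.quadFormPlus m (ZMod 2) v) = 2 ^ m := by
  classical
  calc ∑ v : Fin m ⊕ Fin m → ZMod 2, sgn (Cfsg.quadFormPlus m (ZMod 2) v)
      = ∑ x : Fin m → ZMod 2 × ZMod 2, ∏ i, sgn ((x i).1 * (x i).2) :=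
        Fintype.sum_equiv
          { toFun := fun v i => (v (.inl i), v (.inr i))
            invFun := fun x => Sum.elim (fun i => (x i).1) fun i => (x i).2
            left_inv := fun v => by ext (i | i) <;> rfl
            right_inv := fun x => rfl } _ _ fun v => sgn_sum _ _
    _ = ∏ _i : Fin m, ∑ p : ZMod 2 × ZMod 2, sgn (p.1 * p.2) :=
        (Fintype.prod_sum fun (_ : Fin m) (p : ZMod 2 × ZMod 2) => sgn (p.1 * p.2)).symm
    _ = 2 ^ m := by
        have h : ∑ p : ZMod 2 × ZMod 2, sgn (p.1 * p.2) = 2 := by decide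
        rw [h, Finset.prod_const, Finset.card_univ, Fintype.card_fin]

private theorem sum_sgn_minus (m : ℕ) :
    ∑ v : (Fin m ⊕ Fin m) ⊕ Fin 2 → ZMod 2, sgn (Cfsg.quadFormMinus m (ZMod 2) 1 1 v) = -2 ^ (m + 1) := by
  classical
  calc ∑ v : (Fin m ⊕ Fin m) ⊕ Fin 2 → ZMod 2, sgn (Cfsg.quadFormMinus m (ZMod 2) 1 1 v)
      = ∑ q : (Fin m ⊕ Fin m → ZMod 2) × (Fin 2 → ZMod 2),
          sgn (Cfsg.quadFormPlus m (ZMod 2) q.1) * sgn (q.2 0 ^ 2 + q.2 0 * q.2 1 + q.2 1 ^ 2) :=
        Fintype.sum_equiv (Equiv.sumArrowEquivProdArrow _ _ _) _ _ fun v => by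
          simp only [Cfsg.quadFormMinus, one_mul, sgn_add]
          rfl
    _ = (∑ a, sgn (Cfsg.quadFormPlus m (ZMod 2) a)) *
          ∑ b : Fin 2 → ZMod 2, sgn (b 0 ^ 2 + b 0 * b 1 + b 1 ^ 2) := by
        rw [Fintype.sum_prod_type, Finset.sum_mul_sum]
    _ = -2 ^ (m + 1) := by
        have h : ∑ b : Fin 2 → ZMod 2, sgn (b 0 ^ 2 + b 0 * b 1 + b 1 ^ 2) = -2 := by decide
        rw [sum_sgn_plus, h, pow_succ]; ring

private theorem count_eq {E : Type*} [Group E] [Finite E] {U : Type*} [AddCommGroup U] [Module (ZMod 2) U]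
    [Fintype U] {Q : QuadraticForm (ZMod 2) U} (F : FormMap E U Q) :
    (Nat.card {x : E // x ^ 2 = 1} : ℤ) = (Fintype.card U : ℤ) + ∑ u : U, sgn (Q u) := by
  classical
  haveI := Fintype.ofFinite E
  have hsq : ∀ x : E, x ^ 2 = 1 ↔ Q (F.π x) = 0 := fun x => by
    rw [pow_two, F.sq]
    rcases two_cases (Q (F.π x)) with h | h <;> simp [h, zp, F.hz]
  have hfib : ∀ u : U, (Finset.univ.filter fun x => F.π x = u).card = 2 := by
    intro u
    obtain ⟨x, rfl⟩ := F.surj u
    have h : (Finset.univ.filter fun y => F.π y = F.π x) = {x, x * F.z} := by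
      ext y
      simp only [Finset.mem_filter, Finset.mem_univ, true_and, Finset.mem_insert, Finset.mem_singleton]
      rw [eq_comm, F.π_eq, inv_mul_eq_iff_eq_mul, inv_mul_eq_iff_eq_mul, mul_one]
    rw [h, Finset.card_pair]
    exact fun e => F.hz (mul_left_cancel (a := x) (by rw [← e, mul_one]))
  rw [Nat.card_eq_fintype_card, Fintype.card_subtype]
  have h1 : (Finset.univ.filter fun x : E => x ^ 2 = 1).card =
      ∑ u : U, if Q u = 0 then 2 else 0 := by
    rw [Finset.card_eq_sum_card_fiberwise (f := F.π) (t := Finset.univ) (fun x _ => Finset.mem_univ _)]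
    refine Finset.sum_congr rfl fun u _ => ?_
    split_ifs with hu
    · refine Eq.trans ?_ (hfib u)
      congr 1
      ext x
      simp only [Finset.mem_filter, Finset.mem_univ, true_and]
      exact ⟨fun h => h.2, fun h => ⟨(hsq x).2 (by rw [h, hu]), h⟩⟩
    · rw [Finset.card_eq_zero, Finset.filter_eq_empty_iff]
      intro x hx h
      exact hu (h ▸ (hsq x).1 (Finset.mem_filter.1 hx).2)
  rw [h1]
  push_cast
  have hc : (Fintype.card U : ℤ) = ∑ _u : U, (1 : ℤ) := by simp
  rw [hc, ← Finset.sum_add_distrib]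
  refine Finset.sum_congr rfl fun u _ => ?_
  simp only [sgn]
  split_ifs <;> norm_num


private theorem count_plus {X : Type*} [Group X] [Finite X] {m : ℕ}
    (F : FormMap X (Fin m ⊕ Fin m → ZMod 2) (formPlus (ZMod 2) m)) :
    Nat.card {x : X // x ^ 2 = 1} = 2 ^ (2 * m) + 2 ^ m := by
  classical
  have h := count_eq F
  rw [formPlus_coe, sum_sgn_plus] at h
  simp only [Fintype.card_fun, ZMod.card, Fintype.card_sum, Fintype.card_fin, ← two_mul] at h
  exact_mod_cast h

private theorem count_minus {X : Type*} [Group X] [Finite X] {m : ℕ} (hm : 1 ≤ m)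
    (F : FormMap X ((Fin (m - 1) ⊕ Fin (m - 1)) ⊕ Fin 2 → ZMod 2) (formMinus (ZMod 2) (m - 1) 1 1)) :
    Nat.card {x : X // x ^ 2 = 1} = 2 ^ (2 * m) - 2 ^ m := by
  classical
  have h := count_eq F
  rw [formMinus_coe, sum_sgn_minus] at h
  simp only [Fintype.card_fun, ZMod.card, Fintype.card_sum, Fintype.card_fin] at h
  rw [show m - 1 + (m - 1) + 2 = 2 * m by omega, show m - 1 + 1 = m by omega] at h
  have h' : (Nat.card {x : X // x ^ 2 = 1} : ℤ) + ((2 ^ m : ℕ) : ℤ) = ((2 ^ (2 * m) : ℕ) : ℤ) := by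
    rw [h]; push_cast; ring
  have h'' : Nat.card {x : X // x ^ 2 = 1} + 2 ^ m = 2 ^ (2 * m) := by exact_mod_cast h'
  omega

/-- Classification of extraspecial 2-groups in intrinsic form. An extraspecial 2-group has order 2^(2m+1) for some m ≥ 1, and the number of its elements squaring to the identity is either 2^(2m) + 2^m or 2^(2m) − 2^m; two extraspecial 2-groups of the same order with the same number of such elements are isomorphic. (The two cases are the central products of m dihedral groups of order 8, and of m − 1 dihedral groups with one quaternion group.) -/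
theorem result (E : Type*) [Group E] [Finite E] (hE : Cfsg.IsExtraspecial 2 E) :
    (∃ m : ℕ, 1 ≤ m ∧ Nat.card E = 2 ^ (2 * m + 1) ∧
      (Nat.card {x : E // x ^ 2 = 1} = 2 ^ (2 * m) + 2 ^ m ∨ Nat.card {x : E // x ^ 2 = 1} = 2 ^ (2 * m) - 2 ^ m)) ∧
    ∀ (E' : Type*) [Group E'] [Finite E'], Cfsg.IsExtraspecial 2 E' → Nat.card E' = Nat.card E →
      Nat.card {x : E' // x ^ 2 = 1} = Nat.card {x : E // x ^ 2 = 1} → Nonempty (E ≃* E') := by
  classical
  haveI : Fact (Nat.Prime 2) := ⟨Nat.prime_two⟩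
  obtain ⟨m, hm, hcard⟩ := S0095.result hE
  have hlt : 2 ^ m < 2 ^ (2 * m) := Nat.pow_lt_pow_right (by norm_num) (by omega)
  have hpos : 0 < 2 ^ m := Nat.two_pow_pos m
  refine ⟨⟨m, hm, hcard, ?_⟩, fun E' _ _ hE' hc hcnt => ?_⟩
  · rcases exists_formMap hE m hm hcard with ⟨⟨F⟩⟩ | ⟨⟨F⟩⟩
    · exact Or.inl (count_plus F)
    · exact Or.inr (count_minus hm F)
  · rcases exists_formMap hE m hm hcard with ⟨⟨F⟩⟩ | ⟨⟨F⟩⟩ <;>
      rcases exists_formMap hE' m hm (hc.trans hcard) with ⟨⟨F'⟩⟩ | ⟨⟨F'⟩⟩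
    · exact H71.FormIso.nonempty_mulEquiv F F'
    · rw [count_plus F, count_minus hm F'] at hcnt; omega
    · rw [count_minus hm F, count_plus F'] at hcnt; omega
    · exact H71.FormIso.nonempty_mulEquiv F F'

end Cfsg.Agent.S4416
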