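import Cfsg.Statements.S4417
import Cfsg.Agent.PGroups.DerivedLength

set_option autoImplicit false
open Cfsg

namespace Cfsg.Agent.S4417

/-- Let F be a field with q elements, p a prime not dividing q, and e the multiplicative order of q modulo p; assume e ≤ n. Then every p-subgroup of GL_n(F) has derived length at most ⌊log₂(n/e)⌋ + 1: that term of its derived series is trivial (n/e is the integer quotient). -/
theorem result {F : Type*} [Field F] [Fintype F] (q : ℕ) (hF : Fintype.card F = q) (p : ℕ) [Fact p.Prime] (hpq : ¬ p ∣ q) (n e : ℕ) (he : e = orderOf (q : ZMod p)) (hen : e ≤ n) (P : Subgroup (GL (Fin n) F)) (hP : IsPGroup p P) : derivedSeries ↥P (Nat.log 2 (n / e) + 1) = ⊥ := by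
  classical
  subst hF he
  let ρ : P →* Module.End F (Fin n → F) :=
    (Matrix.toLinAlgEquiv' : Matrix (Fin n) (Fin n) F ≃ₐ[F] Module.End F (Fin n → F)).toMonoidHom.comp
      ((Units.coeHom (Matrix (Fin n) (Fin n) F)).comp P.subtype)
  have hinj : Function.Injective ρ := fun a b h =>
    Subtype.ext (Units.ext (Matrix.toLinAlgEquiv'.injective h))
  set e := orderOf (Fintype.card F : ZMod p) with he
  have he0 : 0 < e := by
    rcases Nat.eq_zero_or_pos e with h | h
    · exfalso
      have hne : (Fintype.card F : ZMod p) ≠ 0 := by rwa [ne_eq, ZMod.natCast_eq_zero_iff]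
      exact orderOf_eq_zero_iff.mp h (isOfFinOrder_iff_pow_eq_one.mpr ⟨p - 1,
        Nat.sub_pos_of_lt (Fact.out : p.Prime).one_lt, ZMod.pow_card_sub_one_eq_one hne⟩)
    · exact h
  have hlt : Module.finrank F (Fin n → F) < e * p ^ (Nat.log 2 (n / e) + 1) := by
    rw [Module.finrank_fin_fun]
    have h1 : n / e < 2 ^ (Nat.log 2 (n / e) + 1) := Nat.lt_pow_succ_log_self one_lt_two _
    have h2 := (Nat.div_lt_iff_lt_mul he0).mp h1
    refine h2.trans_le ?_
    rw [mul_comm]
    exact Nat.mul_le_mul_left _ (Nat.pow_le_pow_left (Fact.out : p.Prime).two_le _)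
  have h := Agent.PGroups.DerivedLength.ser_le_fixer_all (H := (⊤ : Subgroup P)) (ρ := ρ) hpq (hP.to_subgroup ⊤) _ hlt
  rw [Agent.PGroups.DerivedLength.ser_top] at h
  rw [eq_bot_iff]
  intro x hx
  rw [Subgroup.mem_bot]
  exact hinj (LinearMap.ext fun v => by rw [map_one]; exact h hx v Submodule.mem_top)

end Cfsg.Agent.S4417
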