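import Cfsg.Statements.S4419
import Cfsg.Agent.Fusion.Frobenius
import Cfsg.Agent.PGroups.Burnside
import Cfsg.Agent.Signalizer.OffenderFixed
import Cfsg.Agent.Signalizer.TwoPrimesQuot
import Cfsg.Agent.Cores.PCore
import Cfsg.Agent.Coprime.PQTower

set_option autoImplicit false
set_option linter.style.haveILetI false
open Cfsg

namespace Cfsg.Agent.S4419

open Subgroup Cfsg.Agent.Signalizer.TwoPrimes
open scoped commutatorElement

universe u

/-- A subgroup of a metacyclic group is generated by two elements. -/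
theorem two_generated {R : Type u} [Group R] (hm : Cfsg.IsMetacyclic R) (H : Subgroup R) :
    ∃ a b : H, closure ({a, b} : Set H) = ⊤ := by
  obtain ⟨N, hN, hNc, hNq⟩ := hm
  haveI := hN
  haveI := hNc
  haveI := hNq
  haveI : IsCyclic (N.subgroupOf H) :=
    isCyclic_of_injective ((H.subtype.comp (N.subgroupOf H).subtype).codRestrict N fun x => x.2)
      fun x y e => Subtype.ext (Subtype.ext (congrArg (fun z : N => (z : R)) e))
  obtain ⟨a, ha⟩ := IsCyclic.exists_generator (α := N.subgroupOf H)
  set f := (QuotientGroup.mk' N).comp H.subtype with hf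
  obtain ⟨c, hc⟩ := IsCyclic.exists_generator (α := f.range)
  obtain ⟨b, hb⟩ := c.2
  refine ⟨(a : H), b, eq_top_iff.mpr fun x _ => ?_⟩
  obtain ⟨i, hi⟩ := hc ⟨f x, x, rfl⟩
  have hi' : f x = f b ^ i := by
    rw [hb]; exact (congrArg Subtype.val hi).symm
  have hmem : (b ^ i)⁻¹ * x ∈ N.subgroupOf H := by
    rw [mem_subgroupOf]
    refine (QuotientGroup.eq_one_iff _).mp ?_
    show f ((b ^ i)⁻¹ * x) = 1
    rw [map_mul, map_inv, map_zpow, hi', inv_mul_cancel]
  obtain ⟨j, hj⟩ := ha ⟨_, hmem⟩
  have hj' : (a : H) ^ j = (b ^ i)⁻¹ * x := congrArg Subtype.val hj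
  rw [show x = b ^ i * (a : H) ^ j by rw [hj']; group]
  exact mul_mem (zpow_mem (subset_closure (by simp)) _) (zpow_mem (subset_closure (by simp)) _)

/-- A group of prime power order `q ^ k`, with `q` prime to `p ^ 2 - 1`, centralizes a two-generated
`p`-group it normalizes. -/
theorem le_centralizer {G : Type u} [Group G] [Finite G] {p q : ℕ} [Fact p.Prime] [Fact q.Prime]
    (hqp : q ≠ p) (hq : ¬ q ∣ p ^ 2 - 1) {A K : Subgroup G} (hA : IsPGroup q A) (hK : IsPGroup p K)
    (hAK : A ≤ normalizer (K : Set G)) (hgen : ∃ a b : K, closure ({a, b} : Set K) = ⊤) :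
    A ≤ centralizer (K : Set G) := by
  set N := (frattini K).map K.subtype with hN
  have hKN : K ≤ normalizer (N : Set G) := by
    rw [← normal_subgroupOf_iff_le_normalizer (map_subtype_le _), subgroupOf,
      comap_map_eq_self_of_injective K.subtype_injective]
    infer_instance
  have hAN : A ≤ normalizer (N : Set G) := fun a ha =>
    Coprime.PQTower.mem_normalizer_frattini (hAK ha)
  have hcop : (Nat.card A).Coprime (Nat.card (frattini K)) := by
    obtain ⟨i, hi⟩ := IsPGroup.iff_card.mp hA
    obtain ⟨j, hj⟩ := IsPGroup.iff_card.mp (hK.to_subgroup (frattini K))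
    rw [hi, hj]
    exact ((Nat.coprime_primes Fact.out Fact.out).mpr hqp).pow i j
  refine Coprime.le_centralizer_of_frattini hAK hcop fun a ha k hk => ?_
  -- the image of `K` has order dividing `p ^ 2`
  obtain ⟨n, hn⟩ := hK.index (frattini K)
  obtain ⟨x, y, hxy⟩ := hgen
  classical
  have hn2 : n ≤ 2 := ((PGroups.burnside_basis hK hn (S := {x, y}) (by simpa using hxy)).1).trans
    Finset.card_le_two
  let f : K →* Quo N := (QuotientGroup.mk' _).comp (Subgroup.inclusion hKN)
  have hker : f.ker = frattini K := by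
    ext z
    rw [MonoidHom.mem_ker]
    refine Iff.trans (cl_eq_one_iff (hKN z.2)) ⟨?_, fun hz => ⟨z, hz, rfl⟩⟩
    rintro ⟨w, hw, e⟩
    rwa [← K.subtype_injective e]
  have hrange : f.range = im N K := by
    ext z
    constructor
    · rintro ⟨w, rfl⟩
      exact cl_mem_im w.2 (hKN w.2)
    · intro hz
      obtain ⟨w, hw, hwK, rfl⟩ := mem_im.mp hz
      exact ⟨⟨w, hwK⟩, rfl⟩
  have hcard : Nat.card (im N K) = p ^ n := by
    rw [← hn, ← hker, Subgroup.index_ker, hrange]
  have hfix := Signalizer.Offender.card_modEq_fixed (r := q) (im_isPGroup (N := N) hA)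
    (im_le_normalizer hKN hAN hAK)
  set F := im N K ⊓ centralizer (im N A : Set (Quo N)) with hF
  obtain ⟨m, hm, hFm⟩ := (Nat.dvd_prime_pow (Fact.out : p.Prime)).mp
    (hcard ▸ card_dvd_of_le (inf_le_left : F ≤ im N K))
  rw [hcard, hFm] at hfix
  have hmn : m = n := by
    by_contra hne
    have hd : q ∣ p ^ n - p ^ m :=
      (Nat.modEq_iff_dvd' (Nat.pow_le_pow_right (Fact.out : p.Prime).pos hm)).mp hfix.symm
    have hco : ∀ i, (q : ℕ).Coprime (p ^ i) := fun i =>
      ((Nat.coprime_primes Fact.out Fact.out).mpr hqp).pow_right i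
    have hp1 : ¬ q ∣ p - 1 := fun h => hq (h.trans ⟨p + 1, by
      obtain ⟨p', rfl⟩ := Nat.exists_eq_succ_of_ne_zero (Fact.out : p.Prime).ne_zero
      simp only [Nat.succ_eq_add_one, Nat.add_sub_cancel]
      have : (p' + 1) ^ 2 = p' * (p' + 1 + 1) + 1 := by ring
      omega⟩)
    interval_cases n <;> interval_cases m <;>
      first
      | exact absurd rfl hne
      | exact hp1 (by simpa using hd)
      | exact hq (by simpa using hd)
      | refine hp1 ((hco 1).dvd_of_dvd_mul_left ?_)
        rwa [pow_one, Nat.mul_sub_one, ← pow_two, ← pow_one p, ← pow_mul]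
  have hKF : im N K ≤ centralizer (im N A : Set (Quo N)) := by
    rw [← inf_eq_left]
    exact eq_of_le_of_card_ge inf_le_left (by rw [hcard, hFm, hmn])
  have hc := mem_centralizer_iff.mp (hKF (cl_mem_im hk (hKN hk))) _ (cl_mem_im ha (hAN ha))
  have h1 : cl N (a * k * a⁻¹ * k⁻¹)
      (mul_mem (mul_mem (mul_mem (hAN ha) (hKN hk)) (inv_mem (hAN ha))) (inv_mem (hKN hk))) = 1 := by
    show cl N a (hAN ha) * cl N k (hKN hk) * (cl N a (hAN ha))⁻¹ * (cl N k (hKN hk))⁻¹ = 1
    rw [hc]
    group
  exact (cl_eq_one_iff _).mp h1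

/-- Let p be a prime and G a finite group whose Sylow p-subgroups are metacyclic (a cyclic normal subgroup with cyclic quotient). Then G has a normal p-complement if and only if the order of G/O_{p′,p}(G) is coprime to p² − 1. -/
theorem result {G : Type*} [Group G] [Finite G] (p : ℕ) [Fact p.Prime] (S : Sylow p G) (hS : Cfsg.IsMetacyclic ↥(S : Subgroup G)) : Cfsg.HasNormalPComplement p G ↔ Nat.Coprime (Nat.card (G ⧸ Cfsg.pPrimePCore p G)) (p ^ 2 - 1) := by
  constructor
  · rintro ⟨P, N, hN, hc⟩
    haveI := hN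
    have hcop : (Nat.card N).Coprime p := by
      refine ((Fact.out : p.Prime).coprime_iff_not_dvd.mpr fun hd => P.not_dvd_index ?_).symm
      rwa [hc.index_eq_card]
    have hle : N ≤ Cfsg.pPrimeCore p G := Cores.le_pPrimeCore hcop
    have htop : Cfsg.pPrimePCore p G = ⊤ := by
      haveI := Cfsg.pCore_normal p (G ⧸ Cfsg.pPrimeCore p G)
      rw [Cfsg.pPrimePCore, eq_top_iff]
      intro g _
      rw [mem_comap]
      refine Cores.le_pCore (N := ⊤) ?_ (mem_top _)
      have hP : (P : Subgroup G).map (QuotientGroup.mk' (Cfsg.pPrimeCore p G)) = ⊤ := by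
        refine eq_top_iff.mpr fun z _ => ?_
        obtain ⟨w, rfl⟩ := QuotientGroup.mk'_surjective _ z
        obtain ⟨⟨n, x⟩, he⟩ := hc.surjective w
        refine ⟨x, x.2, ?_⟩
        rw [← he, map_mul]
        have : QuotientGroup.mk' (Cfsg.pPrimeCore p G) (n : G) = 1 :=
          (QuotientGroup.eq_one_iff _).mpr (hle n.2)
        rw [this, one_mul]
      rw [← hP]
      exact P.isPGroup'.map _
    rw [← Subgroup.index, htop, Subgroup.index_top]
    exact Nat.coprime_one_left _
  · intro hcop
    refine (Fusion.frobenius_criterion S).mpr fun Q hQ g hg hgp => ?_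
    refine (Coprime.le_of_forall_sylow_le (A := zpowers g) fun x hx A hA hAx => ?_) (mem_zpowers g)
    haveI := Fact.mk hx
    have hQp : IsPGroup p Q := S.isPGroup'.to_le hQ
    have hAn : A ≤ normalizer (Q : Set G) := hA.trans (zpowers_le.mpr hg)
    by_cases hAb : A = ⊥
    · rw [hAb]; exact bot_le
    obtain ⟨k, hk⟩ := IsPGroup.iff_card.mp hAx
    have hk0 : k ≠ 0 := fun h0 => hAb (Subgroup.eq_bot_of_card_eq _ (by rw [hk, h0, pow_zero]))
    have hxd : x ∣ orderOf g := by
      rw [← Nat.card_zpowers]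
      exact ((dvd_pow_self x hk0).trans hk.symm.dvd).trans (card_dvd_of_le hA)
    have hxp : x ≠ p := fun e => hx.ne_one (Nat.eq_one_of_dvd_coprimes hgp hxd e.dvd)
    by_cases hle : A ≤ Cfsg.pPrimePCore p G
    · -- then `A` lies in `O_{p'}`
      have hAO : A ≤ Cfsg.pPrimeCore p G := by
        intro a ha
        haveI := Cfsg.pCore_normal p (G ⧸ Cfsg.pPrimeCore p G)
        obtain ⟨j, hj⟩ := Cores.pCore_isPGroup (⟨_, hle ha⟩ : Cfsg.pCore p (G ⧸ Cfsg.pPrimeCore p G))
        have hj' : (a : G ⧸ Cfsg.pPrimeCore p G) ^ p ^ j = 1 := congrArg Subtype.val hj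
        obtain ⟨i, hi⟩ := hAx ⟨a, ha⟩
        have hi' : (a : G ⧸ Cfsg.pPrimeCore p G) ^ x ^ i = 1 := by
          rw [← QuotientGroup.mk_pow, QuotientGroup.eq_one_iff]
          have : a ^ x ^ i = 1 := congrArg Subtype.val hi
          rw [this]; exact one_mem _
        rw [← QuotientGroup.eq_one_iff, ← orderOf_eq_one_iff]
        exact Nat.eq_one_of_dvd_coprimes (((Nat.coprime_primes hx Fact.out).mpr hxp).pow i j)
          (orderOf_dvd_of_pow_eq_one hi') (orderOf_dvd_of_pow_eq_one hj')
      rw [← commutator_eq_bot_iff_le_centralizer, ← le_bot_iff, commutator_le]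
      intro a ha z hz
      rw [← Coprime.inf_eq_bot (H := Cfsg.pPrimeCore p G) (K := Q)]
      · refine ⟨?_, ?_⟩
        · rw [commutatorElement_def, mul_assoc a z, mul_assoc a]
          exact mul_mem (hAO ha) ((inferInstance : (Cfsg.pPrimeCore p G).Normal).conj_mem _
            (inv_mem (hAO ha)) z)
        · rw [commutatorElement_def]
          exact Q.mul_mem (Coprime.conj_mem (hAn ha) hz) (Q.inv_mem hz)
      · obtain ⟨i, hi⟩ := IsPGroup.iff_card.mp hQp
        rw [hi]
        exact Cores.coprime_card_pPrimeCore.pow_right i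
    · refine le_centralizer hxp (fun hd => ?_) hAx hQp hAn ?_
      · haveI := Cfsg.pCore_normal p (G ⧸ Cfsg.pPrimeCore p G)
        obtain ⟨a, ha, han⟩ := SetLike.not_le_iff_exists.mp hle
        obtain ⟨i, hi⟩ := hAx ⟨a, ha⟩
        have hd' : x ∣ Nat.card (G ⧸ Cfsg.pPrimePCore p G) := by
          have h1 : orderOf (a : G ⧸ Cfsg.pPrimePCore p G) ∣ x ^ i := orderOf_dvd_of_pow_eq_one (by
            rw [← QuotientGroup.mk_pow, QuotientGroup.eq_one_iff]
            have : a ^ x ^ i = 1 := congrArg Subtype.val hi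
            rw [this]; exact one_mem _)
          obtain ⟨j, -, hj⟩ := (Nat.dvd_prime_pow hx).mp h1
          rcases j with _ | j
          · exact absurd ((QuotientGroup.eq_one_iff a).mp (orderOf_eq_one_iff.mp (by simpa using hj))) han
          · exact ((dvd_pow_self x j.succ_ne_zero).trans hj.symm.dvd).trans (orderOf_dvd_natCard _)
        exact hx.ne_one (Nat.eq_one_of_dvd_coprimes hcop hd' hd)
      · obtain ⟨a, b, hab⟩ := two_generated hS (Q.subgroupOf (S : Subgroup G))
        let e := subgroupOfEquivOfLe hQ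
        refine ⟨e a, e b, ?_⟩
        have := congrArg (Subgroup.map e.toMonoidHom) hab
        rwa [MonoidHom.map_closure, Subgroup.map_top_of_surjective _ e.surjective,
          Set.image_insert_eq, Set.image_singleton] at this

end Cfsg.Agent.S4419
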