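import Cfsg.Statements.S4420

set_option autoImplicit false
open Cfsg

namespace Cfsg.Agent.S4420

/-- Structure of groups in which every element outside some proper subgroup has square 1. Let H be a finite group with a proper subgroup A such that every element outside A has square 1. Then H has an abelian normal subgroup B of index 2 such that every element outside B is an involution inverting every element of B; and if H is not an elementary abelian 2-group, B is the only abelian normal subgroup of index 2 with this property. -/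
theorem result {H : Type*} [Group H] [Finite H] (A : Subgroup H) (hA : A ≠ ⊤) (hD : ∀ x : H, x ∉ A → x ^ 2 = 1) :
    ∃ B : Subgroup H, B.Normal ∧ IsMulCommutative ↥B ∧ B.index = 2 ∧
      (∀ x : H, x ∉ B → x ^ 2 = 1 ∧ ∀ b ∈ B, x * b * x⁻¹ = b⁻¹) ∧
      (¬ (IsMulCommutative H ∧ ∀ x : H, x ^ 2 = 1) →
        ∀ B' : Subgroup H, B'.Normal → IsMulCommutative ↥B' → B'.index = 2 →
          (∀ x : H, x ∉ B' → x ^ 2 = 1 ∧ ∀ b ∈ B', x * b * x⁻¹ = b⁻¹) → B' = B) := by
  obtain ⟨t, -, ht⟩ := Set.exists_of_ssubset (SetLike.coe_ssubset_coe.2 hA.lt_top)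
  have ht : t ∉ A := ht
  have hinv : ∀ x, x ∉ A → ∀ a ∈ A, x * a * x⁻¹ = a⁻¹ := by
    intro x hx a ha
    have h1 := hD (x * a) (fun h => hx (by simpa using A.mul_mem h (A.inv_mem ha)))
    have h2 := hD x hx
    rw [pow_two] at h1 h2
    rw [inv_eq_of_mul_eq_one_right h2]
    exact eq_inv_of_mul_eq_one_left (by rw [← h1]; group)
  have hcomm : ∀ a ∈ A, ∀ b ∈ A, a * b = b * a := by
    intro a ha b hb
    apply inv_injective
    rw [← hinv t ht _ (A.mul_mem ha hb)]
    have : t * (a * b) * t⁻¹ = (t * a * t⁻¹) * (t * b * t⁻¹) := by group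
    rw [this, hinv t ht a ha, hinv t ht b hb]
    group
  by_cases hE : ∀ x : H, x ^ 2 = 1
  · have hc : ∀ a b : H, a * b = b * a := by
      intro a b
      have := hE (a * b)
      have h1 := hE a
      have h2 := hE b
      rw [pow_two] at this h1 h2
      calc a * b = (a * b)⁻¹ := eq_inv_of_mul_eq_one_left this
        _ = b⁻¹ * a⁻¹ := mul_inv_rev a b
        _ = b * a := by rw [inv_eq_of_mul_eq_one_left h1, inv_eq_of_mul_eq_one_left h2]
    haveI : IsMulCommutative H := ⟨⟨hc⟩⟩
    have hpg : IsPGroup 2 H := fun x => ⟨1, by simpa using hE x⟩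
    obtain ⟨n, hn⟩ := hpg.exists_card_eq
    have hn0 : n ≠ 0 := by
      rintro rfl
      rw [pow_zero] at hn
      haveI := (Nat.card_eq_one_iff_unique.1 hn).1
      exact ht (by rw [Subsingleton.elim t 1]; exact A.one_mem)
    obtain ⟨B, hB⟩ := Sylow.exists_subgroup_card_pow_prime (G := H) 2 (n := n - 1)
      (hn ▸ Nat.pow_dvd_pow 2 (Nat.sub_le n 1))
    have hBi : B.index = 2 := by
      have := B.card_mul_index
      rw [hB, hn] at this
      have h2 : 2 ^ (n - 1) * 2 = 2 ^ n := by rw [← pow_succ]; congr 1; omega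
      rw [← h2] at this
      exact Nat.eq_of_mul_eq_mul_left (by positivity) this
    refine ⟨B, Subgroup.normal_of_index_eq_two hBi, inferInstance, hBi, fun x _ => ⟨hE x, fun b _ => ?_⟩,
      fun hne => absurd ⟨inferInstance, hE⟩ hne⟩
    rw [hc x b, mul_inv_cancel_right, eq_inv_iff_mul_eq_one, ← pow_two, hE b]
  · have hidx : A.index = 2 := by
      rw [Subgroup.index_eq_two_iff]
      refine ⟨t, fun b => ?_⟩
      by_cases hb : b ∈ A
      · exact Or.inr ⟨hb, fun h => ht (by simpa using A.mul_mem (A.inv_mem hb) h)⟩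
      · refine Or.inl ⟨?_, hb⟩
        by_contra hbt
        apply hE
        intro x
        by_cases hx : x ∈ A
        · have e1 : b * (t * x * t⁻¹) * b⁻¹ = (b * t) * x * (b * t)⁻¹ := by group
          rw [hinv t ht x hx, hinv b hb _ (A.inv_mem hx), inv_inv, hinv _ hbt x hx] at e1
          rw [pow_two]; nth_rewrite 1 [e1]; rw [inv_mul_cancel]
        · exact hD x hx
    refine ⟨A, Subgroup.normal_of_index_eq_two hidx, ⟨⟨fun a b => Subtype.ext (hcomm a a.2 b b.2)⟩⟩, hidx,
      fun x hx => ⟨hD x hx, hinv x hx⟩, fun _ B' _ hB'c hB'i hB' => ?_⟩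
    have hle : A ≤ B' := by
      intro a0 ha0
      by_contra ha0'
      apply hE
      intro x
      by_cases hx : x ∈ B'
      · by_cases hxA : x ∈ A
        · have h1 := (hB' a0 ha0').2 x hx
          rw [hcomm a0 ha0 x hxA, mul_inv_cancel_right, eq_inv_iff_mul_eq_one, ← pow_two] at h1
          exact h1
        · exact hD x hxA
      · exact (hB' x hx).1
    exact (Subgroup.eq_of_le_of_card_ge hle (by
      have := A.card_mul_index; have := B'.card_mul_index; rw [hidx] at *; rw [hB'i] at *; omega)).symm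

end Cfsg.Agent.S4420
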