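import Cfsg.Statements.S4422

set_option autoImplicit false
open Cfsg

namespace Cfsg.Agent.S4422

/-- Primitive divisors of `q^e - 1` are congruent to 1 modulo `e`. Let `q ≥ 2` and `e ≥ 1` be natural numbers and let `m` be a divisor of `q^e - 1` that is coprime to `q^i - 1` for every `1 ≤ i < e` (so `m` divides the primitive part of `q^e - 1`, the largest such divisor). Then `m ≡ 1 (mod e)`. -/
theorem result (q e m : ℕ) (hq : 2 ≤ q) (he : 1 ≤ e)
    (hm : m ∣ q ^ e - 1) (hcop : ∀ i : ℕ, 1 ≤ i → i < e → Nat.Coprime m (q ^ i - 1)) :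
    m % e = 1 % e := by
  induction m using Nat.recOnMul with
  | zero =>
    have : q ^ e - 1 ≠ 0 := by
      have : 2 ≤ q ^ e := le_trans hq (Nat.le_self_pow (by omega) q)
      omega
    exact absurd (Nat.eq_zero_of_zero_dvd hm) this
  | one => rfl
  | prime r hr =>
    have : Fact r.Prime := ⟨hr⟩
    have hq1 : ∀ i, ((q : ZMod r) ^ i = 1 ↔ r ∣ q ^ i - 1) := by
      intro i
      have h1 : 1 ≤ q ^ i := Nat.one_le_pow _ _ (by omega)
      rw [← ZMod.natCast_eq_zero_iff, Nat.cast_sub h1, Nat.cast_pow, Nat.cast_one, sub_eq_zero]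
    have he' : orderOf (q : ZMod r) = e := by
      rw [orderOf_eq_iff (by omega)]
      refine ⟨(hq1 e).2 hm, fun i hi hi0 h => ?_⟩
      exact hr.one_lt.ne' (Nat.eq_one_of_dvd_coprimes (hcop i hi0 hi) dvd_rfl ((hq1 i).1 h))
    have hne : (q : ZMod r) ≠ 0 := by
      intro h
      have := (hq1 e).2 hm
      rw [h, zero_pow (by omega)] at this
      exact zero_ne_one this
    have hd : e ∣ r - 1 := he' ▸ ZMod.orderOf_dvd_card_sub_one hne
    exact ((Nat.modEq_iff_dvd' hr.one_le).2 hd).symm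
  | mul a b iha ihb =>
    have ha := iha ((dvd_mul_right a b).trans hm) (fun i h1 h2 => (hcop i h1 h2).coprime_dvd_left (dvd_mul_right a b))
    have hb := ihb ((dvd_mul_left b a).trans hm) (fun i h1 h2 => (hcop i h1 h2).coprime_dvd_left (dvd_mul_left b a))
    rw [Nat.mul_mod, ha, hb, ← Nat.mul_mod, one_mul]

end Cfsg.Agent.S4422
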