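import Cfsg.Statements.S4425
import Cfsg.Agent.H80.Pairing

set_option autoImplicit false
open Cfsg

namespace Cfsg.Agent.S4425

/-- Let χ be an irreducible character of the finite group G, p a prime, p^a the p-part of the order of G and p^b the p-part of the degree χ(1). Let χ̃ be the class function equal to p^a · χ on p-regular elements and zero on p-singular elements. Then p^(−b) · χ̃ is a generalized character of G, while p^(−(b+1)) · χ̃ is not. -/
theorem result {G : Type*} [Group G] [Finite G] (p : ℕ) [Fact p.Prime] (χ : Cfsg.IrrCharacter G) : Cfsg.IsGeneralizedCharacter G (fun x : G => if p ∣ orderOf x then (0 : ℂ) else ((p ^ ((Nat.card G).factorization p - (Cfsg.charDegree (χ : G → ℂ)).factorization p) : ℕ) : ℂ) * (χ : G → ℂ) x) ∧ ¬ Cfsg.IsGeneralizedCharacter G (fun x : G => if p ∣ orderOf x then (0 : ℂ) else ((p ^ (Nat.card G).factorization p : ℕ) : ℂ) / ((p ^ ((Cfsg.charDegree (χ : G → ℂ)).factorization p + 1) : ℕ) : ℂ) * (χ : G → ℂ) x) := by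
  classical
  haveI : Fintype G := Fintype.ofFinite G
  have hp0 : (p : ℂ) ≠ 0 := Nat.cast_ne_zero.2 (Fact.out : p.Prime).ne_zero
  set b := (Cfsg.charDegree (χ : G → ℂ)).factorization p with hb
  set a := (Nat.card G).factorization p with ha
  have hba : b ≤ a := H80.degExp_le χ
  constructor
  · choose q hq using fun ξ => H80.dvd_nn_left (p := p) χ ξ
    have key : (fun x : G => if p ∣ orderOf x then (0 : ℂ) else ((p ^ (a - b) : ℕ) : ℂ) *
        (χ : G → ℂ) x) = ∑ ξ : Cfsg.IrrCharacter G, q ξ • (ξ : G → ℂ) := by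
      funext x
      apply mul_left_cancel₀ (pow_ne_zero b hp0)
      rw [Finset.sum_apply, Finset.mul_sum]
      refine Eq.trans ?_ ((H80.tilde_expansion (p := p) χ x).trans
        (Finset.sum_congr rfl fun ξ _ => ?_))
      · rw [H80.tilde]
        split_ifs
        · simp
        · rw [Nat.cast_pow, Nat.cast_pow, ← mul_assoc, ← pow_add, Nat.add_sub_cancel' hba]
      · rw [hq ξ, Pi.smul_apply, zsmul_eq_mul]
        push_cast
        rw [mul_assoc]
        rfl
    rw [key]
    exact H43.gen_sum _ _ fun ξ _ => H43.gen_zsmul (H43.gen_of_irr ξ.2) _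
  · intro h
    obtain ⟨ξ, hξ⟩ := H80.exists_not_dvd_nn (p := p) χ
    obtain ⟨m, hm⟩ := H43.gen_inner_int h (H43.gen_of_irr ξ.2)
    refine hξ ⟨m, ?_⟩
    apply Int.cast_injective (α := ℂ)
    show ((H80.nn p χ ξ : ℤ) : ℂ) = (((p : ℤ) ^ (b + 1) * m : ℤ) : ℂ)
    rw [← H80.nn_spec]
    push_cast
    rw [← hm, ← CharBasic.classInner_smul_left]
    congr 1
    funext x
    rw [H80.tilde, Pi.smul_apply, smul_eq_mul]
    split_ifs
    · simp
    · rw [← mul_assoc, Nat.cast_pow, Nat.cast_pow, mul_div_cancel₀ _ (pow_ne_zero _ hp0)]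

end Cfsg.Agent.S4425
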