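import Cfsg.Statements.S4426
import Cfsg.Agent.H80.Pairing

set_option autoImplicit false
open Cfsg

namespace Cfsg.Agent.S4426

/-- Let χ be an irreducible character in the p-block B of the finite group G (relative to a maximal ideal M of the algebraic integers containing p), let p^a be the p-part of the order of G, and let χ̃ be the class function equal to p^a · χ on p-regular elements and zero elsewhere. For ξ ∈ B the inner product [χ̃, ξ] is an integer. The following are equivalent: (a) χ has height zero in B; (b) for some ξ ∈ B the integer [χ̃, ξ] is nonzero and the exact power of p dividing it equals the exact power of p dividing ξ(1); (c) the same holds for every ξ ∈ B. -/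
theorem result {G : Type*} [Group G] [Fintype G] (p : ℕ) [Fact p.Prime] (M : Ideal Cfsg.AlgInt) (hM : Cfsg.IsPModular p M) (B : Set (Cfsg.IrrCharacter G)) (hB : Cfsg.IsPBlock M B) (χ : Cfsg.IrrCharacter G) (hχ : χ ∈ B) : (Cfsg.blockHeight p B (χ : G → ℂ) = 0 ↔ ∃ ξ ∈ B, ∃ n : ℤ, Cfsg.classInner (fun x : G => if p ∣ orderOf x then (0 : ℂ) else ((p ^ (Nat.card G).factorization p : ℕ) : ℂ) * (χ : G → ℂ) x) (ξ : G → ℂ) = (n : ℂ) ∧ n ≠ 0 ∧ padicValInt p n = (Cfsg.charDegree (ξ : G → ℂ)).factorization p) ∧ (Cfsg.blockHeight p B (χ : G → ℂ) = 0 ↔ ∀ ξ ∈ B, ∃ n : ℤ, Cfsg.classInner (fun x : G => if p ∣ orderOf x then (0 : ℂ) else ((p ^ (Nat.card G).factorization p : ℕ) : ℂ) * (χ : G → ℂ) x) (ξ : G → ℂ) = (n : ℂ) ∧ n ≠ 0 ∧ padicValInt p n = (Cfsg.charDegree (ξ : G → ℂ)).factorization p) := by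
  have hval : ∀ ξ ∈ B, (Cfsg.blockHeight p B (χ : G → ℂ) = 0 ↔ ∃ n : ℤ,
      Cfsg.classInner (H80.tilde p (χ : G → ℂ)) (ξ : G → ℂ) = (n : ℂ) ∧ n ≠ 0 ∧
        padicValInt p n = (Cfsg.charDegree (ξ : G → ℂ)).factorization p) := by
    intro ξ hξ
    rw [← not_iff_not, ← ne_eq, ← H80.ratio_mem_ideal_iff_height hM hB hχ hξ,
      H80.ratio_mem_ideal_iff hM]
    have hd := H80.dvd_nn_right (p := p) χ ξ
    constructor
    · rintro h ⟨n, hn, hn0, hv⟩
      rw [H80.nn_spec, Int.cast_inj] at hn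
      rw [← hn] at hn0 hv
      rw [padicValInt_dvd_iff] at h
      exact absurd (h.resolve_left hn0) (by rw [H80.degExp]; omega)
    · intro h
      by_contra h'
      refine h ⟨_, H80.nn_spec χ ξ, ?_, ?_⟩
      · intro h0
        exact h' (h0 ▸ dvd_zero _)
      · rw [padicValInt_dvd_iff, not_or, not_le] at h'
        rw [padicValInt_dvd_iff] at hd
        have h1 := hd.resolve_left h'.1
        have h2 := h'.2
        rw [H80.degExp] at h1 h2
        omega
  refine ⟨⟨fun h => ?_, fun ⟨ξ, hξ, h⟩ => (hval ξ hξ).2 h⟩,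
    ⟨fun h ξ hξ => (hval ξ hξ).1 h, fun h => (hval χ hχ).2 (h χ hχ)⟩⟩
  exact ⟨χ, hχ, (hval χ hχ).1 h⟩

end Cfsg.Agent.S4426
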