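import Cfsg.Statements.S4428
import Cfsg.Agent.H80.PairingInduced

set_option autoImplicit false
open Cfsg

namespace Cfsg.Agent.S4428

/-- Let χ be an irreducible character of height zero in the p-block B of the finite group G (relative to a maximal ideal M of the algebraic integers containing p). Let x be a p-element of G with centralizer C, and let b be a block of C that induces B. Form the class function ϑ(c) = χ(x c) on C and its b-part (the sum over ψ ∈ b of the inner product of ϑ with ψ, times ψ). Then the b-part of ϑ does not vanish identically on the p-regular elements of C. (Compare the second main Theorem, which gives vanishing when b does not induce B.) -/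
theorem result {G : Type*} [Group G] [Finite G] (p : ℕ) [Fact p.Prime] (M : Ideal Cfsg.AlgInt) (hM : Cfsg.IsPModular p M) (B : Set (Cfsg.IrrCharacter G)) (hB : Cfsg.IsPBlock M B) (χ : Cfsg.IrrCharacter G) (hχ : χ ∈ B) (h0 : Cfsg.blockHeight p B (χ : G → ℂ) = 0) (x : G) (hx : ∃ k : ℕ, orderOf x = p ^ k) (b : Set (Cfsg.IrrCharacter (Subgroup.centralizer ({x} : Set G)))) (hb : Cfsg.IsInducedBlock M (Subgroup.centralizer ({x} : Set G)) b B) : ∃ y : Subgroup.centralizer ({x} : Set G), ¬ p ∣ orderOf y ∧ Cfsg.blockPart b (fun c : Subgroup.centralizer ({x} : Set G) => (χ : G → ℂ) (x * (c : G))) y ≠ 0 := by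
  classical
  haveI : Fintype G := Fintype.ofFinite G
  set C := Subgroup.centralizer ({x} : Set G) with hC
  haveI : Fintype C := Fintype.ofFinite C
  obtain ⟨ψ, hψ⟩ := BlockBasic.isPBlock_nonempty hM hb.1
  set ϑ : C → ℂ := fun c => (χ : G → ℂ) (x * (c : G)) with hϑdef
  have hxc : ∀ c : C, Commute x (c : G) := fun c =>
    (Subgroup.mem_centralizer_singleton_iff.1 c.2).symm
  have hϑ : Cfsg.IsClassFunction C ϑ := by
    intro g h
    simp only [hϑdef, Subgroup.coe_mul, Subgroup.coe_inv]
    have e : x * ((h : G) * g * (h : G)⁻¹) = (h : G) * (x * g) * (h : G)⁻¹ := by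
      rw [← mul_assoc, ← mul_assoc, (hxc h).eq, mul_assoc (h : G) x]
    rw [e]
    exact CharBasic.IsIrr.isClassFunction χ.2 _ _
  have hF : Cfsg.IsClassFunction C (fun c : C => (χ : G → ℂ) c) :=
    H80.isClassFunction_res (CharBasic.IsIrr.isClassFunction χ.2) C
  have hcongr := H80.ratio_congr_fun (p := p) hM hϑ hF (fun c hc => H35.char_mul_congr hM
    (CharBasic.IsIrr.isCharacter χ.2) (hxc c) hx (by rwa [Subgroup.orderOf_coe])) ψ
  have hnot := (H80.ratio_res_mem_ideal (p := p) hM hb hψ χ).2 hχ h0
  by_contra hcon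
  push Not at hcon
  apply hnot
  have hz : Cfsg.classInner (H80.tilde p ϑ) (ψ : C → ℂ) = 0 := by
    rw [H80.classInner_tilde_blockPart hM hb.1 hϑ hψ, CharBasic.classInner_def]
    refine mul_eq_zero_of_right _ (Finset.sum_eq_zero fun c _ => ?_)
    rw [H80.tilde]
    split_ifs with hc
    · simp
    · rw [hcon c hc, mul_zero, zero_mul]
  have hr : H80.ratio p ϑ ψ = 0 := by rw [H80.ratio, hz, zero_div]
  rw [hr, zero_sub] at hcongr
  simpa using BlockBasic.memLocalIdeal_neg hcongr

end Cfsg.Agent.S4428
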