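import Cfsg.Statements.S4430
import Cfsg.Agent.H80.PairingInduced

set_option autoImplicit false
open Cfsg

namespace Cfsg.Agent.S4430

/-- Let H be a subgroup of the finite group G, b a block of H whose induced block B₀ in G is defined (relative to a maximal ideal M of the algebraic integers containing p), and ξ ∈ b. For a block B of G let n_B be the value at 1 of the B-part of the induced character ξ^G (a natural number: the sum over χ ∈ B of the multiplicity of χ in ξ^G times χ(1)). Then for B = B₀ the exact power of p dividing n_B equals the exact power of p dividing ξ^G(1), while for every other block B either n_B = 0 or n_B is divisible by a strictly higher power of p than ξ^G(1). -/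
theorem result {G : Type*} [Group G] [Fintype G] (p : ℕ) [Fact p.Prime] (M : Ideal Cfsg.AlgInt) (hM : Cfsg.IsPModular p M) (H : Subgroup G) [Fintype H] (b : Set (Cfsg.IrrCharacter H)) (B₀ : Set (Cfsg.IrrCharacter G)) (hind : Cfsg.IsInducedBlock M H b B₀) (ξ : Cfsg.IrrCharacter H) (hξ : ξ ∈ b) : (∃ n : ℕ, Cfsg.blockPart B₀ (Cfsg.indFun H (ξ : H → ℂ)) 1 = (n : ℂ) ∧ n ≠ 0 ∧ n.factorization p = (Cfsg.charDegree (Cfsg.indFun H (ξ : H → ℂ))).factorization p) ∧ ∀ B : Set (Cfsg.IrrCharacter G), Cfsg.IsPBlock M B → B ≠ B₀ → ∃ n : ℕ, Cfsg.blockPart B (Cfsg.indFun H (ξ : H → ℂ)) 1 = (n : ℂ) ∧ (n = 0 ∨ (Cfsg.charDegree (Cfsg.indFun H (ξ : H → ℂ))).factorization p < n.factorization p) := by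
  classical
  have hd : Cfsg.charDegree (Cfsg.indFun H (ξ : H → ℂ)) =
      H.index * Cfsg.charDegree (ξ : H → ℂ) := by
    conv_lhs => rw [Cfsg.charDegree, CharInduce.indFun_one,
      BlockBasic.apply_one_eq_charDegree, ← Nat.cast_mul, Complex.natCast_re, Nat.floor_natCast]
  rw [hd]
  set d := H.index * Cfsg.charDegree (ξ : H → ℂ) with hddef
  have hd0 : d ≠ 0 :=
    mul_ne_zero Subgroup.index_ne_zero_of_finite (BlockBasic.charDegree_pos ξ).ne'
  constructor
  · obtain ⟨n, hn, hI⟩ := H80.blockPart_indFun_one hM hind hξ B₀ hind.2.1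
    rw [if_pos rfl, ← hddef] at hI
    have hR : MemLocalRing M ((n : ℂ) / (d : ℂ)) := by
      have := BlockBasic.memLocalRing_add hM (BlockBasic.MemLocalIdeal.memLocalRing hI)
        (BlockBasic.memLocalRing_natCast hM 1)
      simpa using this
    have h1 : (p : ℤ) ^ d.factorization p ∣ (n : ℤ) :=
      H80.pow_dvd_of_memLocalRing hM hd0 (by rwa [Int.cast_natCast])
    have h2 : ¬ (p : ℤ) ^ (d.factorization p + 1) ∣ (n : ℤ) := by
      intro h
      have := (H80.memLocalIdeal_div_iff hM hd0 h1).2 h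
      rw [Int.cast_natCast] at this
      have := BlockBasic.memLocalIdeal_sub hM (this :
        MemLocalIdeal M ((n : ℂ) / (d : ℂ))) hI
      rw [sub_sub_cancel] at this
      exact BlockBasic.not_memLocalIdeal_one hM this
    have hn0 : n ≠ 0 := fun e => h2 (by rw [e]; exact dvd_zero _)
    refine ⟨n, hn, hn0, ?_⟩
    rw [← Nat.cast_pow, Int.natCast_dvd_natCast,
      Nat.Prime.pow_dvd_iff_le_factorization Fact.out hn0] at h1 h2
    omega
  · intro B hB hne
    obtain ⟨n, hn, hI⟩ := H80.blockPart_indFun_one hM hind hξ B hB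
    rw [if_neg hne, sub_zero, ← hddef] at hI
    refine ⟨n, hn, or_iff_not_imp_left.2 fun hn0 => ?_⟩
    have h1 : (p : ℤ) ^ d.factorization p ∣ (n : ℤ) :=
      H80.pow_dvd_of_memLocalRing hM hd0 (by rw [Int.cast_natCast]; exact BlockBasic.MemLocalIdeal.memLocalRing hI)
    have h2 := (H80.memLocalIdeal_div_iff hM hd0 h1).1 (by rwa [Int.cast_natCast])
    rw [← Nat.cast_pow, Int.natCast_dvd_natCast,
      Nat.Prime.pow_dvd_iff_le_factorization Fact.out hn0] at h2
    omega

end Cfsg.Agent.S4430
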