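import Cfsg.Statements.S4433
import Cfsg.Agent.H35.Consequences
import Cfsg.Agent.BlockBasic.Idem
import Cfsg.Agent.CharInduce.Ops

set_option autoImplicit false
open Cfsg

namespace Cfsg.Agent.S4433

/-- Let N be a normal subgroup of the finite group G and write Ḡ = G/N; fix a maximal ideal M of the algebraic integers containing p. Let B̄ be a block of Ḡ contained in the block B of G, in the sense that the inflation of every member of B̄ lies in B, and let D̄ be a defect group of B̄. Then B has a defect group P whose image in Ḡ contains D̄. -/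
theorem result {G : Type*} [Group G] [Finite G] (p : ℕ) [Fact p.Prime] (M : Ideal Cfsg.AlgInt) (hM : Cfsg.IsPModular p M) (N : Subgroup G) [N.Normal] (Bbar : Set (Cfsg.IrrCharacter (G ⧸ N))) (hBbar : Cfsg.IsPBlock M Bbar) (B : Set (Cfsg.IrrCharacter G)) (hB : Cfsg.IsPBlock M B) (hsub : ∀ χ ∈ Bbar, ∀ ψ : Cfsg.IrrCharacter G, (ψ : G → ℂ) = (χ : G ⧸ N → ℂ) ∘ QuotientGroup.mk → ψ ∈ B) (Dbar : Subgroup (G ⧸ N)) (hDbar : Cfsg.IsDefectGroup p M Bbar Dbar) : ∃ P : Subgroup G, Cfsg.IsDefectGroup p M B P ∧ Dbar ≤ P.map (QuotientGroup.mk' N) := by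
  classical
  cases nonempty_fintype G
  obtain ⟨g, hg⟩ := BlockBasic.exists_isDefectClass hM hB
  obtain ⟨χ, hχ⟩ := BlockBasic.isPBlock_nonempty hM hBbar
  obtain ⟨gb, hgb, Q, rfl⟩ := hDbar
  set π := QuotientGroup.mk' N
  let ψ : Cfsg.IrrCharacter G := ⟨(χ : G ⧸ N → ℂ) ∘ QuotientGroup.mk,
    CharInduce.IsIrr.comp χ.2 π (QuotientGroup.mk'_surjective N)⟩
  have hψB : ψ ∈ B := hsub χ hχ ψ rfl
  set C := Subgroup.centralizer ({g} : Set G)
  set Cb := Subgroup.centralizer ({π g} : Set (G ⧸ N))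
  set H := Cb.comap π with hHdef
  have hCH : C ≤ H := fun c hc => by
    refine Subgroup.mem_centralizer_singleton_iff.mpr ?_
    rw [← map_mul, ← map_mul, Subgroup.mem_centralizer_singleton_iff.mp hc]
  set m := C.relIndex H
  have hidx : C.index = m * Cb.index := by
    rw [← Subgroup.relIndex_mul_index hCH,
      Subgroup.index_comap_of_surjective _ (QuotientGroup.mk'_surjective N)]
  have hcc : Cfsg.centralChar (ψ : G → ℂ) g =
      (m : ℂ) * Cfsg.centralChar (χ : G ⧸ N → ℂ) (π g) := by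
    show (C.index : ℂ) * (χ : G ⧸ N → ℂ) (π g) / (χ : G ⧸ N → ℂ) (π 1) = _
    rw [Cfsg.centralChar, map_one, hidx, Nat.cast_mul]
    ring
  have hunit := hg.2.2 ψ hψB
  rw [hcc] at hunit
  have hm : ¬ p ∣ m := fun h => hunit (by
    rw [mul_comm]
    exact BlockBasic.memLocalIdeal_mul hM (BlockBasic.memLocalRing_centralChar hM χ.2 _)
      ((BlockBasic.memLocalIdeal_natCast_iff hM _).mpr h))
  have hχu : ¬ Cfsg.MemLocalIdeal M (Cfsg.centralChar (χ : G ⧸ N → ℂ) (π g)) := fun h =>
    hunit (BlockBasic.memLocalIdeal_mul hM (BlockBasic.memLocalRing_natCast hM m) h)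
  obtain ⟨S⟩ : Nonempty (Sylow p C) := inferInstance
  set P := H35.sylImage S
  have hPp : IsPGroup p P := H35.sylImage_isPGroup S
  have hPH : P ≤ H := (H35.sylImage_le S).trans hCH
  have himg : P.map π ≤ Cb := Subgroup.map_le_iff_le_comap.mpr hPH
  have hindex : ¬ p ∣ (P.map π).relIndex Cb := by
    have h1 : (P.map π).relIndex Cb ∣ P.relIndex H := by
      rw [show Cb = H.map π from
        (Subgroup.map_comap_eq_self_of_surjective (QuotientGroup.mk'_surjective N) Cb).symm,
        Subgroup.relIndex_map_map, show H ⊔ π.ker = H from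
          sup_eq_left.mpr (MonoidHom.ker_le_comap _ _)]
      exact Subgroup.relIndex_dvd_of_le_left H le_sup_left
    refine fun h => ?_
    have h2 := h.trans h1
    rw [← Subgroup.relIndex_mul_relIndex P C H (H35.sylImage_le S) hCH,
      (Fact.out : p.Prime).dvd_mul] at h2
    refine h2.elim ?_ hm
    have h3 : P.subgroupOf C = (S : Subgroup C) := by
      show ((S : Subgroup C).map C.subtype).subgroupOf C = _
      exact Subgroup.comap_map_eq_self_of_injective C.subtype_injective _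
    show ¬ p ∣ (P.subgroupOf C).index
    rw [h3]
    exact S.not_dvd_index
  set T : Sylow p Cb := ((hPp.map π).of_equiv (Subgroup.subgroupOfEquivOfLe himg).symm).toSylow hindex
  obtain ⟨x, hx⟩ := H35.exists_sylImage_le hM hBbar hχ hχu hgb.2.1 Q T
  obtain ⟨c, rfl⟩ := QuotientGroup.mk'_surjective N x
  refine ⟨P.map (MulAut.conj c).toMonoidHom, H35.isDefectGroup_conj ⟨g, hg, S, rfl⟩ c, hx.trans ?_⟩
  have hT : H35.sylImage T = P.map π := by
    show ((P.map π).subgroupOf Cb).map Cb.subtype = _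
    rw [Subgroup.subgroupOf_map_subtype, inf_eq_left.mpr himg]
  rw [hT]
  rintro _ ⟨_, ⟨y, hy, rfl⟩, rfl⟩
  exact ⟨c * y * c⁻¹, ⟨y, hy, rfl⟩, by simp [π]⟩

end Cfsg.Agent.S4433
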