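import Cfsg.Statements.S4437
import Cfsg.Agent.BlockBasic.StabilizerDefect
open Cfsg.Agent.BlockBasic

set_option autoImplicit false
open Cfsg

namespace Cfsg.Agent.S4437

/-- Let P be a p-subgroup of the finite group G, H = P·C_G(P), and b a block of H (relative to a maximal ideal M of the algebraic integers containing p) having P as a defect group; let B be the block of G induced by b. Let T be the stabilizer of b in N_G(P): the elements g of N_G(P) such that the g-conjugate of every member of b is again a member of b. Then B has defect group P if and only if p does not divide the index of H in T. -/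
theorem result {G : Type*} [Group G] [Fintype G] (p : ℕ) [Fact p.Prime] (M : Ideal Cfsg.AlgInt) (hM : Cfsg.IsPModular p M) (P : Subgroup G) (hP : IsPGroup p P) (H : Subgroup G) [Fintype H] (hH : H = P ⊔ Subgroup.centralizer (P : Set G)) (b : Set (Cfsg.IrrCharacter H)) (hb : Cfsg.IsPBlock M b) (hbP : Cfsg.IsDefectGroup p M b (P.subgroupOf H)) (B : Set (Cfsg.IrrCharacter G)) (hind : Cfsg.IsInducedBlock M H b B) (T : Subgroup G) (hT : ∀ g : G, g ∈ T ↔ (g ∈ Subgroup.normalizer (P : Set G) ∧ ∀ θ ∈ b, ∀ θ' : Cfsg.IrrCharacter H, (∀ h h' : H, (h' : G) = g * h * g⁻¹ → (θ' : H → ℂ) h' = (θ : H → ℂ) h) → θ' ∈ b)) : Cfsg.IsDefectGroup p M B P ↔ ¬ p ∣ H.relIndex T := by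
  classical
  subst hH
  have hHN := sup_centralizer_le_normalizer P
  have hNH := normalizer_le_normalizer_sup P
  have hchar : ∀ (n : G) (hn : n ∈ Subgroup.normalizer (P : Set G))
      (θ θ' : Cfsg.IrrCharacter ↥(P ⊔ Subgroup.centralizer (P : Set G))),
      (∀ h h' : ↥(P ⊔ Subgroup.centralizer (P : Set G)), (h' : G) = n⁻¹ * h * n⁻¹⁻¹ →
        (θ' : _ → ℂ) h' = (θ : _ → ℂ) h) ↔ θ' = normTwist θ ⟨n, hNH hn⟩ := by
    intro n hn θ θ'
    constructor
    · intro hrel
      apply Subtype.ext
      funext x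
      have hx := (conj_mem_subgroup_of_normalizer (hNH hn) (x : G)).2 x.2
      rw [normTwist_apply θ ⟨n, hNH hn⟩ x hx]
      exact hrel ⟨_, hx⟩ x (by simp [mul_assoc])
    · rintro rfl h h' he
      have hx := (conj_mem_subgroup_of_normalizer (hNH hn) (h' : G)).2 h'.2
      rw [normTwist_apply θ ⟨n, hNH hn⟩ h' hx]
      exact congrArg _ (Subtype.ext (by simp [he, mul_assoc]))
  have hTN : T ≤ Subgroup.normalizer (P : Set G) := fun g hg => ((hT g).1 hg).1
  have hI : IsInertia P (P ⊔ Subgroup.centralizer (P : Set G)) T b hNH :=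
    { le := hTN
      le_sub := fun g hg => by
        rw [← T.inv_mem_iff]
        refine (hT g⁻¹).2 ⟨inv_mem (hHN hg), fun θ hθ θ' hrel => ?_⟩
        rw [(hchar g (hHN hg) θ θ').1 hrel, conjTwist_eq_self θ _ hg]
        exact hθ
      twist := fun n hn θ hθ =>
        ((hT n⁻¹).1 (T.inv_mem hn)).2 θ hθ _ ((hchar n (hTN hn) θ _).2 rfl)
      mem := fun n hn θ hθ hmem => by
        rw [← T.inv_mem_iff]
        refine (hT n⁻¹).2 ⟨inv_mem hn, fun θ₂ hθ₂ θ' hrel => ?_⟩
        rw [(hchar n hn θ₂ θ').1 hrel]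
        rw [isPBlock_eq_blockOf hM hb hmem]
        exact sameBlock_aut _ (isPBlock_sameBlock hM hb hθ hθ₂) }
  exact ⟨not_dvd_relIndex_of_defect hM hP le_sup_left le_sup_right hHN hNH hb hI hind,
    defect_of_not_dvd_relIndex hM hP le_sup_left le_sup_right hHN hNH hb hI hind hbP⟩

end Cfsg.Agent.S4437
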