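import Cfsg.Statements.S4439
import Cfsg.Agent.H80.HeightBound

set_option autoImplicit false
open Cfsg

namespace Cfsg.Agent.S4439

/-- Let G be a finite p-solvable group and B a p-block of G with defect group P (relative to a maximal ideal M of the algebraic integers containing p). Then the height of every irreducible character in B is at most the exponent of p in the index of the centre of P in P. -/
theorem result {G : Type*} [Group G] [Finite G] (p : ℕ) [Fact p.Prime] (M : Ideal Cfsg.AlgInt) (hM : Cfsg.IsPModular p M) (hsolv : Cfsg.IsPSolvable p G) (B : Set (Cfsg.IrrCharacter G)) (hB : Cfsg.IsPBlock M B) (P : Subgroup G) (hP : Cfsg.IsDefectGroup p M B P) (χ : Cfsg.IrrCharacter G) (hχ : χ ∈ B) : Cfsg.blockHeight p B (χ : G → ℂ) ≤ ((Subgroup.center P).index).factorization p := by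
  classical
  open Cfsg.Agent.BlockBasic in
  haveI := Fintype.ofFinite G
  have hBχ : B = Cfsg.blockOf M (χ : G → ℂ) := by
    obtain ⟨φ, rfl⟩ := hB
    ext γ
    exact ⟨fun h => Cfsg.Agent.BlockBasic.sameBlock_trans hM
        (Cfsg.Agent.BlockBasic.sameBlock_symm hχ) h,
      fun h => Cfsg.Agent.BlockBasic.sameBlock_trans hM hχ h⟩
  have hkey := Cfsg.Agent.H80.HeightBound.degree_center_le (p := p) M hM _ G rfl hsolv χ P
    (hBχ ▸ hP)
  have hcard := Cfsg.Agent.H35.card_defectGroup hM hB hP
  have hp : p.Prime := Fact.out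
  have hv : (Nat.card P).factorization p = Cfsg.blockDefect p B := by
    rw [hcard, Nat.factorization_pow, Finsupp.smul_apply, hp.factorization_self, smul_eq_mul, mul_one]
  rw [← (Subgroup.center P).card_mul_index, Nat.factorization_mul Nat.card_pos.ne'
    Subgroup.index_ne_zero_of_finite, Finsupp.add_apply] at hv
  have hs : sInf ((fun ξ : Cfsg.IrrCharacter G => (Cfsg.charDegree (ξ : G → ℂ)).factorization p) '' B)
      ≤ (Cfsg.charDegree (χ : G → ℂ)).factorization p := Nat.sInf_le ⟨χ, hχ, rfl⟩
  unfold Cfsg.blockDefect at hv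
  unfold Cfsg.blockHeight
  omega

end Cfsg.Agent.S4439
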