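import Cfsg.Statements.S4442
import Cfsg.Agent.CycOne.Values

set_option autoImplicit false
set_option maxHeartbeats 1000000
open Cfsg

namespace Cfsg.Agent.S4442

/-- Blocks of defect one. Let p be an odd prime and G a finite group whose Sylow p-subgroup P has order p; let C = C_G(P) and N = N_G(P), and fix a maximal ideal M of the algebraic integers containing p. Let B be a block of G with defect group P, b a block of C inducing B, and θ the member of b having P in its kernel (there is exactly one). Let T be the stabilizer of θ in N (the elements g ∈ N with θ(g c g⁻¹) = θ(c) for all c ∈ C) and e the index of C in T. Then e divides p − 1 and B contains exactly e + (p − 1)/e irreducible characters. Moreover B is the disjoint union of a set X of e characters and a set Y of (p − 1)/e characters such that, with f the index of C in N: every χ ∈ X has χ(1) ≡ ±(f/e)·θ(1) (mod p), there is one sign ε with ψ(1) ≡ ε f θ(1) (mod p) for all ψ ∈ Y, and all members of Y agree on the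 p-regular elements of G. -/
theorem result {G : Type*} [Group G] [Finite G] (p : ℕ) [Fact p.Prime] (M : Ideal Cfsg.AlgInt) (hM : Cfsg.IsPModular p M) (hodd : p ≠ 2) (P : Sylow p G) (hP : Nat.card P = p) (B : Set (Cfsg.IrrCharacter G)) (hB : Cfsg.IsPBlock M B) (hBP : Cfsg.IsDefectGroup p M B P) (b : Set (Cfsg.IrrCharacter (Subgroup.centralizer ((P : Subgroup G) : Set G)))) (hind : Cfsg.IsInducedBlock M (Subgroup.centralizer ((P : Subgroup G) : Set G)) b B) (θ : Cfsg.IrrCharacter (Subgroup.centralizer ((P : Subgroup G) : Set G))) (hθ : θ ∈ b) (hθP : ∀ x : Subgroup.centralizer ((P : Subgroup G) : Set G), (x : G) ∈ (P : Subgroup G) → (θ : Subgroup.centralizer ((P : Subgroup G) : Set G) → ℂ) x = (θ : Subgroup.centralizer ((P : Subgroup G) : Set G) → ℂ) 1) (T : Subgroup G) (hT : ∀ g : G, g ∈ T ↔ (g ∈ Subgroup.normalizer ((P : Subgroup G) : Set G) ∧ ∀ c c' : Subgroup.centralizer ((P : Subgroup G) : Set G), (c' : G) = g * c * g⁻¹ → (θ : Subgroup.centralizer ((P : Subgroup G)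 : Set G) → ℂ) c' = (θ : Subgroup.centralizer ((P : Subgroup G) : Set G) → ℂ) c)) (e f : ℕ) (he : (Subgroup.centralizer ((P : Subgroup G) : Set G)).relIndex T = e) (hf : (Subgroup.centralizer ((P : Subgroup G) : Set G)).relIndex (Subgroup.normalizer ((P : Subgroup G) : Set G)) = f) : e ∣ p - 1 ∧ Nat.card B = e + (p - 1) / e ∧ ∃ X Y : Set (Cfsg.IrrCharacter G), B = X ∪ Y ∧ Disjoint X Y ∧ Nat.card X = e ∧ Nat.card Y = (p - 1) / e ∧ (∀ χ ∈ X, (Cfsg.charDegree (χ : G → ℂ) : ℤ) ≡ ((f / e * Cfsg.charDegree (θ : Subgroup.centralizer ((P : Subgroup G) : Set G) → ℂ) : ℕ) : ℤ) [ZMOD p] ∨ (Cfsg.charDegree (χ : G → ℂ) : ℤ) ≡ -((f / e * Cfsg.charDegree (θ : Subgroup.centralizer ((P : Subgroup G) : Set G) → ℂ) : ℕ) : ℤ) [ZMOD p]) ∧ (∃ ε : ℤ, (ε = 1 ∨ ε = -1) ∧ ∀ ψ ∈ Y, (Cfsg.charDegree (ψ : G → ℂ) : ℤ) ≡ ε * ((f * Cfsg.charDegree (θ : Subgroup.centralizer ((P : Subgroup G) : Set G) → ℂ) : ℕ) : ℤ) [ZMOD p]) ∧ ∀ ψ ∈ Y, ∀ ψ' ∈ Y, ∀ g : G, ¬ p ∣ orderOf g → (ψ : G → ℂ) g = (ψ' : G → ℂ)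 g := by
  classical
  letI : Fintype G := Fintype.ofFinite G
  letI : Fintype (CycOne.cen P) := Fintype.ofFinite _
  letI : Fintype (CycOne.nor P) := Fintype.ofFinite _
  have hθ' : CycOne.IsTriv (CycOne.sylC P) θ := fun x hx => hθP x hx
  obtain rfl : b = blockOf M (θ : CycOne.cen P → ℂ) := BlockBasic.isPBlock_eq_blockOf hM hind.1 hθ
  have hd : 0 < blockDefect p B := by
    have h := H35.card_defectGroup hM hB hBP
    refine Nat.pos_of_ne_zero fun h0 => ?_
    rw [h0, pow_zero] at h
    exact (Fact.out : p.Prime).ne_one (hP.symm.trans h)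
  obtain ⟨S⟩ := CycOne.nonempty_blockShape P hP hM hBP hd hθ' hind
  have hTS : T = (CycOne.stab P θ).map (CycOne.nor P).subtype := by
    ext g
    rw [hT]
    constructor
    · rintro ⟨hg, hfix⟩
      refine ⟨⟨g, hg⟩, Subtype.ext (funext fun c => ?_), rfl⟩
      rw [CycOne.cact_apply]
      exact hfix c _ (CycOne.cenConj_coe P ⟨g, hg⟩ c)
    · rintro ⟨n, hn, rfl⟩
      refine ⟨n.2, fun c c' hcc => ?_⟩
      have h := congrFun (congrArg Subtype.val (hn : CycOne.cact P n θ = θ)) c
      rw [CycOne.cact_apply] at h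
      rwa [show c' = CycOne.cenConj P n c from Subtype.ext (hcc.trans (CycOne.cenConj_coe P n c).symm)]
  have he' : e = CycOne.idx P θ := by
    rw [← he, hTS]
    show (CycOne.cen P).relIndex _ = _
    conv_lhs => rw [← Subgroup.map_subgroupOf_eq_of_le (CycOne.cen_le_nor P)]
    exact Subgroup.relIndex_map_map_of_injective _ _ (Subgroup.subtype_injective _)
  have hf' : f = (CycOne.cenN P).index := hf.symm
  subst he'
  subst hf'
  have hindex : (CycOne.stab P θ).index * CycOne.idx P θ = (CycOne.cenN P).index := by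
    rw [mul_comm]
    exact Subgroup.relIndex_mul_index (CycOne.cenN_le_stab P θ)
  have hdiv : (CycOne.cenN P).index / CycOne.idx P θ = (CycOne.stab P θ).index := by
    rw [← hindex]
    exact Nat.mul_div_cancel _ (CycOne.idx_pos P θ)
  refine ⟨S.idx_dvd, ?_, B \ (S.Y : Set (IrrCharacter G)), S.Y, ?_, Set.disjoint_sdiff_left,
    S.card_diff, ?_, fun χ hχ => ?_, ⟨S.δ, S.δ_sign, fun ψ hψ => ?_⟩,
    fun ψ hψ ψ' hψ' g hg => S.regular_eq hM hind hψ hψ' hg⟩
  · rw [S.pred_div, S.card_B, add_comm]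
  · exact (Set.sdiff_union_of_subset fun y hy => S.subset y hy).symm
  · rw [S.pred_div, Nat.card_coe_set_eq, Set.ncard_coe_finset]
  · have h := S.degree_out hM hBP hθ' hind hχ.1 hχ.2
    rw [hdiv]
    rcases S.a_sign χ hχ.1 hχ.2 with ha | ha <;> rw [ha] at h
    · right; simpa using h
    · left; simpa using h
  · exact S.degree_in hM hBP hθ' hind hψ

end Cfsg.Agent.S4442
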