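import Cfsg.Statements.S4444
import Cfsg.Agent.H80.GlaubermanAmbient

set_option autoImplicit false
open Cfsg

namespace Cfsg.Agent.S4444

/-- The Glauberman correspondence for a p-group of operators. Inside a finite group Γ let S normalise G with the orders of G and S coprime, S a p-group, and let C = G ⊓ C(S) be the fixed points. Call an irreducible character χ of G S-invariant when χ(s g s⁻¹) = χ(g) for s ∈ S, g ∈ G. Then: (i) for every S-invariant χ there is exactly one irreducible character β of C whose multiplicity [χ_C, β] in the restriction of χ is not divisible by p; (ii) that multiplicity is ≡ 1 or ≡ −1 (mod p); (iii) distinct S-invariant χ give distinct β; (iv) every irreducible character of C arises in this way. So χ ↦ β is a bijection from the S-invariant irreducible characters of G onto the irreducible characters of C. -/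
theorem result {Γ : Type*} [Group Γ] [Fintype Γ] (G S : Subgroup Γ) [Fintype G] (hnorm : ∀ s ∈ S, ∀ g ∈ G, s * g * s⁻¹ ∈ G) (hcop : (Nat.card G).Coprime (Nat.card S)) (p : ℕ) (hp : p.Prime) (hS : IsPGroup p S) (C : Subgroup Γ) [Fintype C] (hC : C = G ⊓ Subgroup.centralizer (S : Set Γ)) (hCG : C ≤ G) : (∀ χ : Cfsg.IrrCharacter G, (∀ s ∈ S, ∀ g g' : G, (g' : Γ) = s * g * s⁻¹ → (χ : G → ℂ) g' = (χ : G → ℂ) g) → ∃! β : Cfsg.IrrCharacter C, ∃ m : ℕ, Cfsg.classInner (fun c : C => (χ : G → ℂ) ⟨c, hCG c.2⟩) (β : C → ℂ) = (m : ℂ) ∧ ¬ p ∣ m) ∧ (∀ χ : Cfsg.IrrCharacter G, (∀ s ∈ S, ∀ g g' : G, (g' : Γ) = s * g * s⁻¹ → (χ : G → ℂ) g' = (χ : G → ℂ) g) → ∀ β : Cfsg.IrrCharacter C, ∀ m : ℕ, Cfsg.classInner (fun c : C => (χ : G → ℂ) ⟨c, hCG c.2⟩) (β : C → ℂ) = (m : ℂ) → ¬ p ∣ m → ((m : ℤ) ≡ 1 [ZMOD p] ∨ (m : ℤ) ≡ -1 [ZMOD p])) ∧ (∀ χ χ' : Cfsg.IrrCharacter G, (∀ s ∈ S, ∀ g g' : G, (g' : Γ) = s * g * s⁻¹ →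 (χ : G → ℂ) g' = (χ : G → ℂ) g) → (∀ s ∈ S, ∀ g g' : G, (g' : Γ) = s * g * s⁻¹ → (χ' : G → ℂ) g' = (χ' : G → ℂ) g) → ∀ β : Cfsg.IrrCharacter C, ∀ m m' : ℕ, Cfsg.classInner (fun c : C => (χ : G → ℂ) ⟨c, hCG c.2⟩) (β : C → ℂ) = (m : ℂ) → ¬ p ∣ m → Cfsg.classInner (fun c : C => (χ' : G → ℂ) ⟨c, hCG c.2⟩) (β : C → ℂ) = (m' : ℂ) → ¬ p ∣ m' → χ = χ') ∧ (∀ β : Cfsg.IrrCharacter C, ∃ χ : Cfsg.IrrCharacter G, (∀ s ∈ S, ∀ g g' : G, (g' : Γ) = s * g * s⁻¹ → (χ : G → ℂ) g' = (χ : G → ℂ) g) ∧ ∃ m : ℕ, Cfsg.classInner (fun c : C => (χ : G → ℂ) ⟨c, hCG c.2⟩) (β : C → ℂ) = (m : ℂ) ∧ ¬ p ∣ m) := by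
  haveI : Fact p.Prime := ⟨hp⟩
  obtain ⟨k, hk⟩ := hS.exists_card_eq
  rcases k with _ | k
  · -- no operators: the correspondence is the identity
    have hS1 : S = ⊥ := Subgroup.card_eq_one.1 (by simpa using hk)
    have hCG' : C = G := by
      rw [hC, hS1]
      exact inf_eq_left.2 fun g _ => Subgroup.mem_centralizer_iff.2 (by simp)
    subst hCG'
    rename_i iC₁ iC₂
    obtain rfl : iC₁ = iC₂ := Subsingleton.elim _ _
    classical
    have hinn : ∀ χ β : Cfsg.IrrCharacter C,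
        Cfsg.classInner (fun c : C => (χ : C → ℂ) ⟨c, hCG c.2⟩) (β : C → ℂ) =
          ((if χ = β then 1 else 0 : ℕ) : ℂ) := by
      intro χ β
      rw [show (fun c : C => (χ : C → ℂ) ⟨c, hCG c.2⟩) = (χ : C → ℂ) from rfl]
      rw [Cfsg.Agent.CharBasic.classInner_irrCharacter χ β]
      split_ifs <;> simp
    have key : ∀ χ β : Cfsg.IrrCharacter C, ∀ m : ℕ,
        Cfsg.classInner (fun c : C => (χ : C → ℂ) ⟨c, hCG c.2⟩) (β : C → ℂ) = (m : ℂ) →
        ¬ p ∣ m → m = 1 ∧ χ = β := by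
      intro χ β m hm hpm
      rw [hinn, Nat.cast_inj] at hm
      split_ifs at hm with he
      · exact ⟨hm.symm, he⟩
      · exact absurd (hm ▸ dvd_zero p) hpm
    refine ⟨fun χ _ => ⟨χ, ⟨1, by rw [hinn, if_pos rfl], hp.not_dvd_one⟩, ?_⟩,
      fun χ _ β m hm hpm => Or.inl (by rw [(key χ β m hm hpm).1]; rfl),
      fun χ χ' _ _ β m m' hm hpm hm' hpm' =>
        (key χ β m hm hpm).2.trans (key χ' β m' hm' hpm').2.symm,
      fun β => ⟨β, ?_, 1, by rw [hinn, if_pos rfl], hp.not_dvd_one⟩⟩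
    · rintro β' ⟨m, hm, hpm⟩
      exact (key χ β' m hm hpm).2.symm
    · intro s hs g g' e
      rw [hS1, Subgroup.mem_bot] at hs
      subst hs
      refine congrArg _ ?_
      apply Subtype.ext
      simpa using e
  have h : Cfsg.Agent.H80.Setting p G S C :=
    { hnorm := hnorm
      hS := hS
      hG := fun hd => hp.ne_one (Nat.eq_one_of_dvd_coprimes hcop hd (hk ▸ dvd_pow_self p k.succ_ne_zero))
      hC := fun g => by
        rw [hC, Subgroup.mem_inf, Subgroup.mem_centralizer_iff]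
        rfl }
  refine ⟨fun χ hχ => ?_, fun χ hχ β m hm hpm => Cfsg.Agent.H80.corr_mult_modEq h hχ hm hpm,
    fun χ χ' hχ hχ' β m m' hm hpm hm' hpm' =>
      Cfsg.Agent.H80.corr_injective h hχ hχ' ⟨m, hm, hpm⟩ ⟨m', hm', hpm'⟩,
    fun β => Cfsg.Agent.H80.corr_surjective h β⟩
  obtain ⟨β, hβ⟩ := Cfsg.Agent.H80.exists_corr h hχ
  exact ⟨β, hβ, fun β' hβ' => Cfsg.Agent.H80.corr_unique h hχ hβ' hβ⟩

end Cfsg.Agent.S4444
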