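import Cfsg.Statements.S4446
import Cfsg.Agent.H1.CanonExt

set_option autoImplicit false
open Cfsg

namespace Cfsg.Agent.S4446

/-- Let the finite group Γ be generated by a normal subgroup G and a cyclic subgroup S of coprime orders, C = G ⊓ C(S), and let χ be an S-invariant irreducible character of G with canonical extension χ̂ to Γ (the extension whose determinantal order is coprime to the order of S). Then there are exactly one irreducible character β of C and one sign ε such that χ̂(c s) = ε β(c) for every c ∈ C and every generator s of S; this β is a constituent of the restriction of χ to C; distinct S-invariant χ give distinct β; and every irreducible character of C arises in this way. -/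
theorem result {Γ : Type*} [Group Γ] [Fintype Γ] (G S : Subgroup Γ) [Fintype G] (hnorm : ∀ s ∈ S, ∀ g ∈ G, s * g * s⁻¹ ∈ G) (hcop : (Nat.card G).Coprime (Nat.card S)) (htop : G ⊔ S = ⊤) (hcyc : IsCyclic S) (C : Subgroup Γ) [Fintype C] (hC : C = G ⊓ Subgroup.centralizer (S : Set Γ)) (hCG : C ≤ G) : (∀ (χ : Cfsg.IrrCharacter G) (χh : Cfsg.IrrCharacter Γ), (∀ s ∈ S, ∀ g g' : G, (g' : Γ) = s * g * s⁻¹ → (χ : G → ℂ) g' = (χ : G → ℂ) g) → (∀ g : G, (χh : Γ → ℂ) g = (χ : G → ℂ) g) → (Cfsg.detOrder (χh : Γ → ℂ)).Coprime (Nat.card S) → (∃! βε : Cfsg.IrrCharacter C × ℤ, (βε.2 = 1 ∨ βε.2 = -1) ∧ ∀ c : C, ∀ s : Γ, Subgroup.zpowers s = S → (χh : Γ → ℂ) ((c : Γ) * s) = (βε.2 : ℂ) * (βε.1 : C → ℂ) c) ∧ ∀ β : Cfsg.IrrCharacter C, ∀ ε : ℤ, (ε = 1 ∨ ε = -1) → (∀ c : C, ∀ s : Γ, Subgroup.zpowers s = S → (χh : Γ → ℂ) ((c : Γ) * s) = (ε : ℂ) * (β : C → ℂ) c) → Cfsg.classInner (fun c : C => (χ : G → ℂ) ⟨c, hCG c.2⟩)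 (β : C → ℂ) ≠ 0) ∧ (∀ (χ χ' : Cfsg.IrrCharacter G) (χh χh' : Cfsg.IrrCharacter Γ), (∀ s ∈ S, ∀ g g' : G, (g' : Γ) = s * g * s⁻¹ → (χ : G → ℂ) g' = (χ : G → ℂ) g) → (∀ s ∈ S, ∀ g g' : G, (g' : Γ) = s * g * s⁻¹ → (χ' : G → ℂ) g' = (χ' : G → ℂ) g) → (∀ g : G, (χh : Γ → ℂ) g = (χ : G → ℂ) g) → (∀ g : G, (χh' : Γ → ℂ) g = (χ' : G → ℂ) g) → (Cfsg.detOrder (χh : Γ → ℂ)).Coprime (Nat.card S) → (Cfsg.detOrder (χh' : Γ → ℂ)).Coprime (Nat.card S) → ∀ β : Cfsg.IrrCharacter C, ∀ ε ε' : ℤ, (ε = 1 ∨ ε = -1) → (ε' = 1 ∨ ε' = -1) → (∀ c : C, ∀ s : Γ, Subgroup.zpowers s = S → (χh : Γ → ℂ) ((c : Γ) * s) = (ε : ℂ) * (β : C → ℂ) c) → (∀ c : C, ∀ s : Γ, Subgroup.zpowers s = S → (χh' : Γ → ℂ) ((c : Γ) * s) = (ε' : ℂ) * (β : C → ℂ) c) → χ = χ') ∧ (∀ β : Cfsg.IrrCharacter C, ∃ (χ : Cfsg.IrrCharacter G) (χh : Cfsg.IrrCharacter Γ) (ε : ℤ), (∀ s ∈ S, ∀ g g' : G, (g' : Γ) = s * g * s⁻¹ → (χ : G → ℂ) g' = (χ : G → ℂ) g) ∧ (∀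 g : G, (χh : Γ → ℂ) g = (χ : G → ℂ) g) ∧ (Cfsg.detOrder (χh : Γ → ℂ)).Coprime (Nat.card S) ∧ (ε = 1 ∨ ε = -1) ∧ ∀ c : C, ∀ s : Γ, Subgroup.zpowers s = S → (χh : Γ → ℂ) ((c : Γ) * s) = (ε : ℂ) * (β : C → ℂ) c) := by
  classical
  haveI hGn : G.Normal := by
    refine ⟨fun g hg x => ?_⟩
    have hle : G ⊔ S ≤ Subgroup.normalizer (G : Set Γ) := sup_le Subgroup.le_normalizer fun x hx => by
      rw [Subgroup.mem_normalizer_iff]
      intro y
      refine ⟨fun hy => hnorm x hx y hy, fun hy => ?_⟩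
      have := hnorm x⁻¹ (S.inv_mem hx) _ hy
      simpa [mul_assoc] using this
    exact (Subgroup.mem_normalizer_iff.1 (hle (htop ▸ Subgroup.mem_top x)) g).1 hg
  have hD : ∀ s, Subgroup.zpowers s = S → H1.CycData G C s := by
    intro s hs
    refine ⟨hGn, hs ▸ htop, by rw [← Nat.card_zpowers, hs]; exact hcop, fun c => ?_⟩
    rw [hC, Subgroup.mem_inf, ← hs, Subgroup.mem_centralizer_iff]
    refine and_congr_right fun _ => ⟨fun h => (h s (Subgroup.mem_zpowers s)).symm, fun h y hy => ?_⟩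
    obtain ⟨i, rfl⟩ := Subgroup.mem_zpowers_iff.1 hy
    exact ((Commute.symm h).zpow_left i).eq
  obtain ⟨s₀, hs₀⟩ : ∃ s₀, Subgroup.zpowers s₀ = S := by
    obtain ⟨⟨g, hg⟩, hgen⟩ := hcyc
    refine ⟨g, le_antisymm (Subgroup.zpowers_le.2 hg) fun x hx => ?_⟩
    obtain ⟨i, hi⟩ := hgen ⟨x, hx⟩
    exact ⟨i, congrArg Subtype.val hi⟩
  have D := hD s₀ hs₀
  have hcan : ∀ (χ : Cfsg.IrrCharacter G) (χh : Cfsg.IrrCharacter Γ),
      (∀ g : G, (χh : Γ → ℂ) g = (χ : G → ℂ) g) → (Cfsg.detOrder (χh : Γ → ℂ)).Coprime (Nat.card S) →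
      ∀ s, Subgroup.zpowers s = S → H1.IsCanon (s := s) (χ : G → ℂ) (χh : Γ → ℂ) :=
    fun χ χh hres hdet s hs => ⟨χh.2, χ.2, hres, by rw [← Nat.card_zpowers, hs]; exact hdet⟩
  have hind : ∀ (χ : Cfsg.IrrCharacter G) (χh : Cfsg.IrrCharacter Γ),
      (∀ g : G, (χh : Γ → ℂ) g = (χ : G → ℂ) g) → (Cfsg.detOrder (χh : Γ → ℂ)).Coprime (Nat.card S) →
      ∀ (c : C) (s : Γ), Subgroup.zpowers s = S →
        (χh : Γ → ℂ) ((c : Γ) * s) = (χh : Γ → ℂ) ((c : Γ) * s₀) := by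
    intro χ χh hres hdet c s hs
    have hmem : s ∈ Subgroup.zpowers s₀ := by rw [hs₀, ← hs]; exact Subgroup.mem_zpowers s
    obtain ⟨k, -, rfl⟩ := Finset.mem_image.1 (mem_zpowers_iff_mem_range_orderOf.1 hmem)
    refine H1.canon_gen_indep D (hcan χ χh hres hdet s₀ hs₀) k ?_ c
    have h1 : orderOf (s₀ ^ k) = orderOf s₀ := by
      rw [← Nat.card_zpowers, hs, ← hs₀, Nat.card_zpowers]
    rw [orderOf_pow] at h1
    rcases Nat.div_eq_self.1 h1 with h2 | h2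
    · exact absurd h2 (orderOf_pos s₀).ne'
    · exact (Nat.Coprime.symm h2 :)
  have hpos : ∀ β : Cfsg.IrrCharacter C, ∃ n : ℕ, 0 < n ∧ (β : C → ℂ) 1 = n := fun β =>
    CharBasic.IsIrr.exists_degree β.2
  have huniq : ∀ (β β' : Cfsg.IrrCharacter C) (ε ε' : ℤ), (ε = 1 ∨ ε = -1) → (ε' = 1 ∨ ε' = -1) →
      (∀ c, (ε : ℂ) * (β : C → ℂ) c = (ε' : ℂ) * (β' : C → ℂ) c) → β = β' ∧ ε = ε' := by
    intro β β' ε ε' hε hε' h
    obtain ⟨n, hn, hb⟩ := hpos β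
    obtain ⟨n', hn', hb'⟩ := hpos β'
    have h1 := h 1
    rw [hb, hb'] at h1
    have h2 : ε * n = ε' * n' := by exact_mod_cast h1
    have hεε : ε = ε' := by
      rcases hε with rfl | rfl <;> rcases hε' with rfl | rfl <;> first | rfl | omega
    subst hεε
    refine ⟨Subtype.ext (funext fun c => ?_), rfl⟩
    have := h c
    rcases hε with rfl | rfl <;> simpa using this
  refine ⟨fun χ χh hinv hres hdet => ?_, ?_, ?_⟩
  · have hc := hcan χ χh hres hdet s₀ hs₀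
    obtain ⟨β, ε, hε, hval, hconst⟩ := H1.exists_correspondent D hc
    have hall : ∀ c : C, ∀ s : Γ, Subgroup.zpowers s = S →
        (χh : Γ → ℂ) ((c : Γ) * s) = (ε : ℂ) * (β : C → ℂ) c := fun c s hs => by
      rw [hind χ χh hres hdet c s hs, hval]
    refine ⟨⟨(β, ε), ⟨hε, hall⟩, ?_⟩, ?_⟩
    · rintro ⟨β', ε'⟩ ⟨hε', h'⟩
      obtain ⟨rfl, rfl⟩ := huniq β' β ε' ε hε' hε fun c => by rw [← h' c s₀ hs₀, hval]
      rfl
    · intro β' ε' hε' h'
      obtain ⟨rfl, rfl⟩ := huniq β' β ε' ε hε' hε fun c => by rw [← h' c s₀ hs₀, hval]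
      exact hconst
  · intro χ χ' χh χh' _ _ hres hres' hdet hdet' β ε ε' hε hε' h h'
    by_contra hne
    have hv := H1.canon_value_inner D (hcan χ χh hres hdet s₀ hs₀) (hcan χ' χh' hres' hdet' s₀ hs₀)
    rw [show (fun c : C => (χh : Γ → ℂ) ((c : Γ) * s₀)) = (ε : ℂ) • (β : C → ℂ) from
        funext fun c => h c s₀ hs₀,
      show (fun c : C => (χh' : Γ → ℂ) ((c : Γ) * s₀)) = (ε' : ℂ) • (β : C → ℂ) from
        funext fun c => h' c s₀ hs₀, CharBasic.classInner_smul_left,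
      CharBasic.classInner_smul_right, CharBasic.classInner_irr_self β.2,
      if_neg fun he => hne (Subtype.ext he)] at hv
    rcases hε with rfl | rfl <;> rcases hε' with rfl | rfl <;> simp at hv
  · -- surjectivity by counting
    let T := {χ : Cfsg.IrrCharacter G //
      ∀ g g' : G, (g' : Γ) = s₀ * g * s₀⁻¹ → (χ : G → ℂ) g' = (χ : G → ℂ) g}
    have hex : ∀ χ : T, ∃ φ, H1.IsCanon (s := s₀) (χ.1 : G → ℂ) φ := by
      intro χ
      refine H1.exists_canon D χ.1.2 fun x g g' hx => ?_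
      have hmem : x ∈ G ⊔ Subgroup.zpowers s₀ := by rw [D.gen]; exact Subgroup.mem_top x
      obtain ⟨a, ha, b, hb, rfl⟩ := (Subgroup.mem_sup_of_normal_left.1 hmem)
      obtain ⟨i, -, rfl⟩ := Finset.mem_image.1 (mem_zpowers_iff_mem_range_orderOf.1 hb)
      have hpow : ∀ (i : ℕ) (g g' : G), (g' : Γ) = s₀ ^ i * g * (s₀ ^ i)⁻¹ →
          (χ.1 : G → ℂ) g' = (χ.1 : G → ℂ) g := by
        intro i
        induction i with
        | zero =>
          intro g g' h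
          rw [show g' = g from Subtype.ext (by simpa using h)]
        | succ i ih =>
          intro g g' h
          have h1 : (g' : Γ) = s₀ * ((⟨s₀ ^ i * g * (s₀ ^ i)⁻¹, hGn.conj_mem _ g.2 _⟩ : G) : Γ) * s₀⁻¹ := by
            rw [h, pow_succ']
            group
          rw [χ.2 _ g' h1, ih g _ rfl]
      let g₁ : G := ⟨s₀ ^ i * g * (s₀ ^ i)⁻¹, hGn.conj_mem _ g.2 _⟩
      have h1 : g' = ⟨a, ha⟩ * g₁ * (⟨a, ha⟩ : G)⁻¹ := Subtype.ext (by
        rw [hx]; simp [g₁, mul_assoc])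
      rw [h1, CharBasic.IsIrr.isClassFunction χ.1.2, hpow i g g₁ rfl]
    choose φ hφ using hex
    have hcor := fun χ : T => H1.exists_correspondent D (hφ χ)
    choose b e he hval hb using hcor
    have hinj : Function.Injective b := by
      intro χ χ' hbb
      by_contra hne
      have hv := H1.canon_value_inner D (hφ χ) (hφ χ')
      rw [show (fun c : C => φ χ ((c : Γ) * s₀)) = (e χ : ℂ) • (b χ : C → ℂ) from
          funext fun c => hval χ c,
        show (fun c : C => φ χ' ((c : Γ) * s₀)) = (e χ' : ℂ) • (b χ : C → ℂ) from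
          funext fun c => by rw [hval χ' c, hbb]; rfl, CharBasic.classInner_smul_left,
        CharBasic.classInner_smul_right, CharBasic.classInner_irr_self (b χ).2,
        if_neg fun he => hne (Subtype.ext (Subtype.ext he))] at hv
      rcases he χ with h1 | h1 <;> rcases he χ' with h2 | h2 <;> simp [h1, h2] at hv
    have hbij : Function.Bijective b :=
      Function.Injective.bijective_of_nat_card_le hinj (H1.card_invariant D).ge
    intro β
    obtain ⟨χ, rfl⟩ := hbij.2 β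
    refine ⟨χ.1, ⟨φ χ, (hφ χ).irr⟩, e χ, ?_, (hφ χ).res, ?_, he χ, fun c s hs => ?_⟩
    · intro s hs g g' hg
      show (χ.1 : G → ℂ) g' = (χ.1 : G → ℂ) g
      rw [← (hφ χ).res, ← (hφ χ).res, hg, CharBasic.IsIrr.isClassFunction (hφ χ).irr]
    · rw [← hs₀, Nat.card_zpowers]
      exact (hφ χ).det
    · rw [hind χ.1 ⟨φ χ, (hφ χ).irr⟩ (hφ χ).res (by rw [← hs₀, Nat.card_zpowers]; exact (hφ χ).det) c s hs]
      exact hval χ c

end Cfsg.Agent.S4446
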