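import Cfsg.Statements.S4447
import Cfsg.Agent.H80.Clifford
import Cfsg.Agent.H80.GlaubermanAmbient
import Cfsg.Agent.H83.PrincipalPair
import Cfsg.Agent.BlockBasic.Kernel
import Cfsg.Agent.Coprime.Action

set_option autoImplicit false
open Cfsg

namespace Cfsg.Agent.S4447

/-- Inside a finite group Γ let S normalise G and also normalise a normal subgroup N of G, with the order of S coprime to the index of N in G and S or G/N solvable. Then for every S-invariant irreducible character χ of G, the restriction of χ to N has an S-invariant irreducible constituent. -/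
theorem result {Γ : Type*} [Group Γ] [Fintype Γ] (G S N : Subgroup Γ) [Fintype G] [Fintype N] (hnorm : ∀ s ∈ S, ∀ g ∈ G, s * g * s⁻¹ ∈ G) (hNG : N ≤ G) [hNn : (N.subgroupOf G).Normal] (hNS : ∀ s ∈ S, ∀ n ∈ N, s * n * s⁻¹ ∈ N) (hcop : (N.relIndex G).Coprime (Nat.card S)) (hsolv : Group.IsSolvable S ∨ Group.IsSolvable (G ⧸ N.subgroupOf G)) (χ : Cfsg.IrrCharacter G) (hinv : (∀ s ∈ S, ∀ g g' : G, (g' : Γ) = s * g * s⁻¹ → (χ : G → ℂ) g' = (χ : G → ℂ) g)) : ∃ θ : Cfsg.IrrCharacter N, Cfsg.classInner (fun n : N => (χ : G → ℂ) ⟨n, hNG n.2⟩) (θ : N → ℂ) ≠ 0 ∧ (∀ s ∈ S, ∀ g g' : N, (g' : Γ) = s * g * s⁻¹ → (θ : N → ℂ) g' = (θ : N → ℂ) g) := by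
  classical
  set W := G ⊔ S with hW
  -- `W` normalises `N`
  have hGN : G ≤ Subgroup.normalizer (N : Set Γ) := fun g hg => by
    have hc : ∀ a ∈ G, ∀ n ∈ N, a * n * a⁻¹ ∈ N := fun a ha n hn =>
      hNn.conj_mem ⟨n, hNG hn⟩ hn ⟨a, ha⟩
    refine Subgroup.mem_normalizer_iff.mpr fun n => ⟨hc g hg n, fun h => ?_⟩
    simpa [mul_assoc] using hc g⁻¹ (G.inv_mem hg) _ h
  have hSN : S ≤ Subgroup.normalizer (N : Set Γ) := fun s hs =>
    Subgroup.mem_normalizer_iff.mpr fun n => ⟨hNS s hs n, fun h => by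
      simpa [mul_assoc] using hNS s⁻¹ (S.inv_mem hs) _ h⟩
  have hSG : S ≤ Subgroup.normalizer (G : Set Γ) := fun s hs =>
    Subgroup.mem_normalizer_iff.mpr fun n => ⟨hnorm s hs n, fun h => by
      simpa [mul_assoc] using hnorm s⁻¹ (S.inv_mem hs) _ h⟩
  have hWN : W ≤ Subgroup.normalizer (N : Set Γ) := sup_le hGN hSN
  let f : W →* MulAut N := N.normalizerMonoidHom.comp (Subgroup.inclusion hWN)
  have hf : ∀ (w : W) (n : N), ((f w n : N) : Γ) = w * n * (w : Γ)⁻¹ := fun w n => rfl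
  let π : W →* Equiv.Perm (Cfsg.IrrCharacter N) :=
    { toFun := fun w =>
        { toFun := fun α => H80.twist α (f w⁻¹)
          invFun := fun α => H80.twist α (f w)
          left_inv := fun α => Subtype.ext (funext fun n => by
            show (α : N → ℂ) (f w⁻¹ (f w n)) = _
            rw [← MulAut.mul_apply, ← map_mul, inv_mul_cancel, map_one]; rfl)
          right_inv := fun α => Subtype.ext (funext fun n => by
            show (α : N → ℂ) (f w (f w⁻¹ n)) = _
            rw [← MulAut.mul_apply, ← map_mul, mul_inv_cancel, map_one]; rfl) }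
      map_one' := Equiv.ext fun α => Subtype.ext (funext fun n => by
        show (α : N → ℂ) (f 1⁻¹ n) = _
        rw [inv_one, map_one]; rfl)
      map_mul' := fun v w => Equiv.ext fun α => Subtype.ext (funext fun n => by
        show (α : N → ℂ) (f (v * w)⁻¹ n) = (α : N → ℂ) (f w⁻¹ (f v⁻¹ n))
        rw [← MulAut.mul_apply, ← map_mul, mul_inv_rev]) }
  have hπ : ∀ (w : W) (α : Cfsg.IrrCharacter N) (n : N),
      (π w α : N → ℂ) n = (α : N → ℂ) (f w⁻¹ n) := fun w α n => rfl
  set N' := N.subgroupOf W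
  haveI : N'.Normal := Subgroup.normal_subgroupOf_of_le_normalizer hWN
  have hker : N' ≤ π.ker := fun w hw => MonoidHom.mem_ker.mpr (Equiv.ext fun α =>
    Subtype.ext (funext fun n => by
      rw [hπ]
      have h := CharBasic.IsIrr.isClassFunction α.2 n (⟨(w : Γ), hw⟩⁻¹ : N)
      refine Eq.trans (congrArg (α : N → ℂ) (Subtype.ext ?_)) h
      rw [hf]
      simp))
  let : MulAction (W ⧸ N') (Cfsg.IrrCharacter N) :=
    MulAction.compHom _ (QuotientGroup.lift N' π hker)
  have hsmul : ∀ (w : W) (α : Cfsg.IrrCharacter N), QuotientGroup.mk' N' w • α = π w α :=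
    fun w α => rfl
  set A := (S.subgroupOf W).map (QuotientGroup.mk' N')
  set K := (G.subgroupOf W).map (QuotientGroup.mk' N')
  haveI : (G.subgroupOf W).Normal := Subgroup.normal_subgroupOf_of_le_normalizer
    (sup_le Subgroup.le_normalizer hSG)
  have hAK : A ≤ Subgroup.normalizer (K : Set (W ⧸ N')) := by
    haveI : K.Normal := Subgroup.Normal.map inferInstance _ (QuotientGroup.mk'_surjective N')
    rw [Subgroup.normalizer_eq_top]; exact le_top
  have hcard : Nat.card K = N.relIndex G := by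
    have h1 : Nat.card K = N'.relIndex (G.subgroupOf W) := by
      have h2 := Subgroup.relIndex_ker (G.subgroupOf W) (QuotientGroup.mk' N')
      rw [QuotientGroup.ker_mk'] at h2
      rw [h2]
    rw [h1, Subgroup.relIndex_subgroupOf le_sup_left]
  have hcop' : (Nat.card A).Coprime (Nat.card K) := by
    rw [hcard]
    refine hcop.symm.coprime_dvd_left (((S.subgroupOf W).card_map_dvd _).trans ?_)
    rw [Nat.card_congr (Subgroup.subgroupOfEquivOfLe (le_sup_right : S ≤ W)).toEquiv]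
  have hsolv' : Group.IsSolvable A ∨ Group.IsSolvable K := by
    rcases hsolv with h | h
    · left
      haveI := h
      let g : S →* A :=
        { toFun := fun s => ⟨QuotientGroup.mk' N' ⟨s, Subgroup.mem_sup_right s.2⟩,
            Subgroup.mem_map_of_mem _ (show (⟨(s : Γ), Subgroup.mem_sup_right s.2⟩ : W) ∈ S.subgroupOf W from s.2)⟩
          map_one' := rfl
          map_mul' := fun _ _ => rfl }
      refine solvable_of_surjective (f := g) fun a => ?_
      obtain ⟨w, hw, hwa⟩ := a.2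
      exact ⟨⟨w, hw⟩, Subtype.ext hwa⟩
    · right
      haveI := h
      let g : G →* K :=
        { toFun := fun s => ⟨QuotientGroup.mk' N' ⟨s, Subgroup.mem_sup_left s.2⟩,
            Subgroup.mem_map_of_mem _ (show (⟨(s : Γ), Subgroup.mem_sup_left s.2⟩ : W) ∈ G.subgroupOf W from s.2)⟩
          map_one' := rfl
          map_mul' := fun _ _ => rfl }
      have hg : N.subgroupOf G ≤ g.ker := fun n hn => MonoidHom.mem_ker.mpr (Subtype.ext
        ((QuotientGroup.eq_one_iff _).mpr hn))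
      refine solvable_of_surjective (f := QuotientGroup.lift _ g hg) fun a => ?_
      obtain ⟨w, hw, hwa⟩ := a.2
      exact ⟨QuotientGroup.mk ⟨w, hw⟩, Subtype.ext hwa⟩
  -- the constituents
  set r : N → ℂ := fun n => (χ : G → ℂ) ⟨n, hNG n.2⟩
  set X : Set (Cfsg.IrrCharacter N) := {α | Cfsg.classInner r (α : N → ℂ) ≠ 0}
  have hmove : ∀ w : W, (∀ n : N, r (f w⁻¹ n) = r n) → ∀ α ∈ X, π w α ∈ X := by
    intro w hw α hα
    have h := H80.classInner_comp_mulEquiv (f w⁻¹) r (α : N → ℂ)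
    rw [funext hw] at h
    show Cfsg.classInner r (fun n => (α : N → ℂ) (f w⁻¹ n)) ≠ 0
    rwa [h]
  have hrS : ∀ (s : W), (s : Γ) ∈ S → ∀ n : N, r (f s⁻¹ n) = r n := by
    intro s hs n
    exact (hinv _ (S.inv_mem hs) ⟨n, hNG n.2⟩ ⟨(f s⁻¹ n : N), hNG (f s⁻¹ n).2⟩ (by
      show ((f s⁻¹ n : N) : Γ) = (s : Γ)⁻¹ * n * ((s : Γ)⁻¹)⁻¹
      rw [hf]; rfl))
  have hrG : ∀ (g : W), (g : Γ) ∈ G → ∀ n : N, r (f g⁻¹ n) = r n := by
    intro g hg n
    refine Eq.trans (congrArg (χ : G → ℂ) (Subtype.ext ?_))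
      (CharBasic.IsIrr.isClassFunction χ.2 ⟨n, hNG n.2⟩ ⟨(g : Γ)⁻¹, G.inv_mem hg⟩)
    show ((f g⁻¹ n : N) : Γ) = _
    rw [hf]
    simp
  -- inside `G`
  set e := Subgroup.subgroupOfEquivOfLe hNG
  haveI : Fintype (N.subgroupOf G) := Fintype.ofFinite _
  have hres : ∀ α : Cfsg.IrrCharacter N, Cfsg.classInner (fun n : N.subgroupOf G => (χ : G → ℂ) n)
      (H83.irrComp e α : N.subgroupOf G → ℂ) = Cfsg.classInner r (α : N → ℂ) :=
    fun α => H80.classInner_comp_mulEquiv e r (α : N → ℂ)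
  have hne : X.Nonempty := by
    obtain ⟨β, hβ⟩ := BlockBasic.exists_constituent χ (N.subgroupOf G)
    refine ⟨H83.irrComp e.symm β, ?_⟩
    show Cfsg.classInner r _ ≠ 0
    rwa [← hres, H83.irrComp_symm']
  obtain ⟨θ, hθ, hfix⟩ := Coprime.exists_fixed_point (A := A) (K := K) hAK hcop' hsolv' hne
    (fun a ha α hα => by
      obtain ⟨w, hw, rfl⟩ := ha
      rw [hsmul]
      exact hmove w (hrS w hw) α hα)
    (fun α hα β hβ => by
      obtain ⟨d, hd⟩ := H80.exists_conjTwist_eq (N.subgroupOf G) χ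
        (α := H83.irrComp e α) (γ := H83.irrComp e β) (by rwa [hres]) (by rwa [hres])
      refine ⟨QuotientGroup.mk' N' (⟨(d : Γ), Subgroup.mem_sup_left d.2⟩⁻¹ : W),
        Subgroup.mem_map_of_mem _ (inv_mem (show (⟨(d : Γ), Subgroup.mem_sup_left d.2⟩ : W) ∈
          G.subgroupOf W from d.2)), ?_⟩
      rw [hsmul]
      refine Subtype.ext (funext fun n => ?_)
      rw [hπ, inv_inv]
      have h := congrFun (congrArg Subtype.val hd) (e.symm n)
      rw [H80.conjTwist_apply, H83.irrComp_apply, H83.irrComp_apply, MulEquiv.apply_symm_apply] at h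
      rw [← h]
      refine congrArg (α : N → ℂ) (Subtype.ext ?_)
      rw [hf]
      rfl)
    (fun k hk α hα => by
      obtain ⟨w, hw, rfl⟩ := hk
      rw [hsmul]
      exact hmove w (hrG w hw) α hα)
  refine ⟨θ, hθ, fun s hs g g' hgg' => ?_⟩
  have h := hfix (QuotientGroup.mk' N' (⟨s, Subgroup.mem_sup_right hs⟩⁻¹ : W))
    (Subgroup.mem_map_of_mem _ (inv_mem (show (⟨s, Subgroup.mem_sup_right hs⟩ : W) ∈ S.subgroupOf W from hs)))
  rw [hsmul] at h
  conv_rhs => rw [← h]
  rw [hπ, inv_inv]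
  refine congrArg (θ : N → ℂ) (Subtype.ext ?_)
  rw [hf]
  exact hgg'

end Cfsg.Agent.S4447
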