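import Cfsg.Statements.S4452
import Cfsg.Agent.H26.HallExtend
import Cfsg.Agent.H80.GlaubermanSolvable
import Cfsg.Agent.Coprime.Action

set_option autoImplicit false
open Cfsg

namespace Cfsg.Agent.S4452

open Cfsg.Agent.CharInduce Cfsg.Agent.H26.HallExtend

universe u

variable {G : Type u} [Group G] [Finite G] {K H : Subgroup G} [K.Normal]

theorem index_eq_card (hKH : K ⊔ H = ⊤) (hcop : (Nat.card K).Coprime (Nat.card H)) :
    K.index = Nat.card H := by
  rw [← Subgroup.relIndex_top_right, ← hKH, sup_comm, Subgroup.relIndex_sup_right,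
    ← Subgroup.inf_relIndex_right, Subgroup.inf_eq_bot_of_coprime hcop, Subgroup.relIndex_bot_left]

theorem inf_normalizer_eq (hcop : (Nat.card K).Coprime (Nat.card H)) :
    K ⊓ Subgroup.normalizer (H : Set G) = K ⊓ Subgroup.centralizer (H : Set G) := by
  refine le_antisymm (fun x hx => ⟨hx.1, ?_⟩)
    (inf_le_inf_left _ (Subgroup.centralizer_le_normalizer _))
  exact Coprime.mem_centralizer_of_mem_normalizer
    (by rw [Subgroup.normalizer_eq_top]; exact le_top) (Coprime.inf_eq_bot hcop.symm) hx.1 hx.2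

/-- Invariant characters of `K` and all characters of its centralised part are equal in number. -/
theorem card_invariant_eq [Fintype G] [Fintype K] (hKH : K ⊔ H = ⊤)
    (hcop : (Nat.card K).Coprime (Nat.card H)) (hsolv : Group.IsSolvable H) :
    Nat.card {θ : Cfsg.IrrCharacter K // ∀ x : G, conjFun K (θ : K → ℂ) x = θ} =
      Nat.card (ConjClasses (K ⊓ Subgroup.centralizer (H : Set G) : Subgroup G)) := by
  classical
  have hnK : H ≤ Subgroup.normalizer (K : Set G) := by
    rw [Subgroup.normalizer_eq_top]; exact le_top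
  have hnorm : ∀ s ∈ H, ∀ g ∈ K, s * g * s⁻¹ ∈ K :=
    fun s _ g hg => ‹K.Normal›.conj_mem g hg s
  have e1 : Nat.card {θ : Cfsg.IrrCharacter K // ∀ x : G, conjFun K (θ : K → ℂ) x = θ} =
      Nat.card {θ : Cfsg.IrrCharacter K // H80.AInv H (θ : K → ℂ)} := by
    refine Nat.card_congr (Equiv.subtypeEquivRight fun θ => ⟨fun h s _ g g' e => ?_, fun h x => ?_⟩)
    · have := congrFun (h s) g
      rw [← this]
      exact congrArg _ (Subtype.ext e)
    · obtain ⟨k, hk, s, hs, rfl⟩ := Subgroup.mem_sup_of_normal_left.1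
        (show x ∈ K ⊔ H by rw [hKH]; exact Subgroup.mem_top x)
      funext n
      have h1 := h s hs n ⟨_, hnorm s hs n n.2⟩ rfl
      rw [← h1, ← CharBasic.IsIrr.isClassFunction θ.2 ⟨_, hnorm s hs n n.2⟩ ⟨k, hk⟩]
      refine congrArg (θ : K → ℂ) (Subtype.ext ?_)
      show k * s * (n : G) * (k * s)⁻¹ = k * (s * n * s⁻¹) * k⁻¹
      group
  rw [e1, H80.card_aInv_eq_card_classFix K H hnorm hcop hsolv]
  symm
  let i : (K ⊓ Subgroup.centralizer (H : Set G) : Subgroup G) →* K :=
    Subgroup.inclusion inf_le_left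
  have hsl : Group.IsSolvable H ∨ Group.IsSolvable K := Or.inl hsolv
  let conjMA : MulAction G G := MulAction.compHom G (MulAut.conj (G := G))
  letI : SMul G G := conjMA.toSMul
  have hsmul : ∀ a x : G, a • x = a * x * a⁻¹ := fun a x => rfl
  have hfix : ∀ x : (K ⊓ Subgroup.centralizer (H : Set G) : Subgroup G), ∀ s ∈ H,
      s * (x : G) * s⁻¹ = x := fun x s hs => by
    rw [Subgroup.mem_centralizer_iff.1 x.2.2 s hs, mul_inv_cancel_right]
  refine Nat.card_congr (Equiv.ofBijective
    (fun C => ⟨ConjClasses.map i C, ?_⟩) ⟨?_, ?_⟩)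
  · obtain ⟨x, rfl⟩ := ConjClasses.exists_rep C
    intro s hs g g' e hg
    have hg1 := ConjClasses.mk_eq_mk_iff_isConj.1 hg
    obtain ⟨c, hc⟩ := isConj_iff.1 hg1
    refine ConjClasses.mk_eq_mk_iff_isConj.2 (isConj_iff.2
      ⟨⟨s * c * s⁻¹, hnorm s hs c c.2⟩, Subtype.ext ?_⟩)
    have hc' : (c : G) * g * (c : G)⁻¹ = x := congrArg Subtype.val hc
    show s * c * s⁻¹ * g' * (s * c * s⁻¹)⁻¹ = (x : G)
    rw [e, ← hfix x s hs, ← hc']
    group
  · intro C C' e
    obtain ⟨x, rfl⟩ := ConjClasses.exists_rep C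
    obtain ⟨y, rfl⟩ := ConjClasses.exists_rep C'
    obtain ⟨k, hk⟩ := isConj_iff.1 (ConjClasses.mk_eq_mk_iff_isConj.1 (congrArg Subtype.val e))
    have hk' : (k : G) • (x : G) = (y : G) := congrArg Subtype.val hk
    obtain ⟨c, hc, hcxy⟩ := Coprime.exists_centralizer_smul_eq (X := G) hnK hcop.symm hsl
      (fun a ha => hfix x a ha) (fun a ha => hfix y a ha) k.2 hk'
    exact ConjClasses.mk_eq_mk_iff_isConj.2 (isConj_iff.2 ⟨⟨c, hc⟩, Subtype.ext hcxy⟩)
  · rintro ⟨C, hC⟩
    obtain ⟨g, rfl⟩ := ConjClasses.exists_rep C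
    let S : Set G := {y | ∃ k : K, (k : G) * g * (k : G)⁻¹ = y}
    obtain ⟨y, ⟨k, hk⟩, hy⟩ := Coprime.exists_fixed_point (X := G) (S := S) hnK hcop.symm hsl
      ⟨g, 1, by simp⟩
      (fun a ha y ⟨k, hk⟩ => by
        obtain ⟨c, hc⟩ := isConj_iff.1 (ConjClasses.mk_eq_mk_iff_isConj.1
          (hC a ha g ⟨_, hnorm a ha g g.2⟩ rfl rfl)).symm
        refine ⟨⟨a * k * a⁻¹, hnorm a ha k k.2⟩ * c, ?_⟩
        have hc' : (c : G) * g * (c : G)⁻¹ = a * g * a⁻¹ := congrArg Subtype.val hc
        rw [hsmul, ← hk]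
        calc _ = (a * k * a⁻¹) * ((c : G) * g * (c : G)⁻¹) * (a * k * a⁻¹)⁻¹ := by
              simp [mul_assoc]
          _ = _ := by rw [hc']; group)
      (fun x ⟨k, hk⟩ y ⟨l, hl⟩ => ⟨(l * k⁻¹ : K), SetLike.coe_mem _, by
        rw [hsmul, ← hk, ← hl]; simp [mul_assoc]⟩)
      (fun b hb y ⟨k, hk⟩ => ⟨⟨b, hb⟩ * k, by rw [hsmul, ← hk]; simp [mul_assoc]⟩)
    have hyK : y ∈ K := hk ▸ K.mul_mem (K.mul_mem k.2 g.2) (K.inv_mem k.2)
    have hyC : y ∈ Subgroup.centralizer (H : Set G) := by
      rw [Subgroup.mem_centralizer_iff]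
      intro a ha
      exact mul_inv_eq_iff_eq_mul.1 (hy a ha)
    exact ⟨ConjClasses.mk ⟨y, hyK, hyC⟩, Subtype.ext (ConjClasses.mk_eq_mk_iff_isConj.2
      (isConj_iff.2 ⟨k, Subtype.ext hk⟩).symm)⟩

/-- Let the finite group G be the product of a normal subgroup K and a solvable subgroup H of coprime orders, and let N = N_G(H). Then the number of irreducible characters of G of degree coprime to the order of H equals the number of irreducible characters of N of degree coprime to the order of H. (The two sets are in fact in a canonical bijection; only the equality of their sizes is stated here.) -/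
theorem result {G : Type*} [Group G] [Finite G] (K H : Subgroup G) [K.Normal] (hKH : K ⊔ H = ⊤) (hcop : (Nat.card K).Coprime (Nat.card H)) (hsolv : Group.IsSolvable H) : Nat.card {χ : Cfsg.IrrCharacter G // (Cfsg.charDegree (χ : G → ℂ)).Coprime (Nat.card H)} = Nat.card {η : Cfsg.IrrCharacter (Subgroup.normalizer (H : Set G)) // (Cfsg.charDegree (η : Subgroup.normalizer (H : Set G) → ℂ)).Coprime (Nat.card H)} := by
  classical
  haveI := Fintype.ofFinite G
  set N := Subgroup.normalizer (H : Set G) with hN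
  haveI : Fintype K := Fintype.ofFinite _
  haveI : Fintype N := Fintype.ofFinite _
  set K' : Subgroup N := K.subgroupOf N with hK'
  haveI : Fintype K' := Fintype.ofFinite _
  have hidx := index_eq_card hKH hcop
  have hidx' : K'.index = Nat.card H := by
    rw [← hidx]
    show K.relIndex N = K.index
    have htop : K ⊔ N = ⊤ := by
      rw [eq_top_iff, ← hKH]
      exact sup_le_sup_left Subgroup.le_normalizer K
    rw [← Subgroup.relIndex_sup_right, sup_comm, htop, Subgroup.relIndex_top_right]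
  have hcop' : (Nat.card K').Coprime (Nat.card H) := by
    refine hcop.coprime_dvd_left ?_
    rw [← Subgroup.card_map_of_injective N.subtype_injective, hK', Subgroup.subgroupOf_map_subtype]
    exact Subgroup.card_dvd_of_le inf_le_left
  conv_lhs => rw [← hidx]
  conv_rhs => rw [← hidx']
  rw [card_coprime_degree K (hidx.symm ▸ hcop), card_coprime_degree K' (hidx'.symm ▸ hcop'),
    card_invariant_eq hKH hcop hsolv]
  congr 1
  · let e : K' ≃* (K ⊓ Subgroup.centralizer (H : Set G) : Subgroup G) :=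
      ((Subgroup.equivMapOfInjective K' N.subtype N.subtype_injective).trans
        (MulEquiv.subgroupCongr (Subgroup.subgroupOf_map_subtype K N))).trans
        (MulEquiv.subgroupCongr (inf_normalizer_eq hcop))
    have hall : ∀ θ : Cfsg.IrrCharacter K', ∀ x : N, conjFun K' (θ : K' → ℂ) x = θ := by
      intro θ x
      obtain ⟨k, hk, s, hs, hks⟩ := Subgroup.mem_sup_of_normal_left.1
        (show (x : G) ∈ K ⊔ H by rw [hKH]; exact Subgroup.mem_top _)
      have hkN : k ∈ N := by
        rw [show k = (x : G) * s⁻¹ by rw [← hks, mul_inv_cancel_right]]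
        exact mul_mem x.2 (inv_mem (Subgroup.le_normalizer hs))
      funext n
      have hn : ((n : N) : G) ∈ Subgroup.centralizer (H : Set G) := (e n).2.2
      rw [← CharBasic.IsIrr.isClassFunction θ.2 n ⟨⟨k, hkN⟩, hk⟩]
      refine congrArg (θ : K' → ℂ) (Subtype.ext (Subtype.ext ?_))
      show (x : G) * (n : N) * (x : G)⁻¹ = k * (n : N) * k⁻¹
      rw [← hks]
      calc k * s * (n : N) * (k * s)⁻¹ = k * (s * (n : N) * s⁻¹) * k⁻¹ := by group
        _ = _ := by rw [Subgroup.mem_centralizer_iff.1 hn s hs, mul_inv_cancel_right]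
    rw [Nat.card_congr (Equiv.subtypeUnivEquiv hall), Nat.card_eq_fintype_card (α :=
      Cfsg.IrrCharacter K'), ← Nat.card_eq_fintype_card, CharBasic.card_irrCharacter]
    exact Nat.card_congr
      { toFun := ConjClasses.map e.symm.toMonoidHom
        invFun := ConjClasses.map e.toMonoidHom
        left_inv := fun C => by
          obtain ⟨x, rfl⟩ := ConjClasses.exists_rep C
          exact congrArg ConjClasses.mk (e.apply_symm_apply x)
        right_inv := fun C => by
          obtain ⟨x, rfl⟩ := ConjClasses.exists_rep C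
          exact congrArg ConjClasses.mk (e.symm_apply_apply x) }
  · let φ : N →* G ⧸ K := (QuotientGroup.mk' K).comp N.subtype
    have hφ : Function.Surjective φ := by
      intro q
      obtain ⟨g, rfl⟩ := QuotientGroup.mk_surjective q
      obtain ⟨k, hk, s, hs, rfl⟩ := Subgroup.mem_sup_of_normal_left.1
        (show g ∈ K ⊔ H by rw [hKH]; exact Subgroup.mem_top _)
      refine ⟨⟨s, Subgroup.le_normalizer hs⟩, ?_⟩
      show (s : G ⧸ K) = ((k * s : G) : G ⧸ K)
      rw [QuotientGroup.mk_mul, (QuotientGroup.eq_one_iff k).2 hk, one_mul]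
    have hker : φ.ker = K' := by
      ext x
      simp [φ, hK', Subgroup.mem_subgroupOf, MonoidHom.mem_ker]
    let e : N ⧸ K' ≃* G ⧸ K :=
      (QuotientGroup.quotientMulEquivOfEq hker.symm).trans
        (QuotientGroup.quotientKerEquivOfSurjective φ hφ)
    exact Nat.card_congr
      { toFun := fun l => l.comp e.toMonoidHom
        invFun := fun l => l.comp e.symm.toMonoidHom
        left_inv := fun l => MonoidHom.ext fun x => by simp
        right_inv := fun l => MonoidHom.ext fun x => by simp }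

end Cfsg.Agent.S4452
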