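import Cfsg.Statements.S4453
import Cfsg.Agent.H35.Odd.Reduce
import Cfsg.Agent.Coprime.Action

set_option autoImplicit false
open Cfsg

namespace Cfsg.Agent.S4453
section Prep

open Cfsg.Agent.H35.Odd

variable {Γ : Type*} [Group Γ]

/-- Conjugation by the operators on `G`. -/
def conjHom (G S : Subgroup Γ) (hnorm : ∀ s ∈ S, ∀ g ∈ G, s * g * s⁻¹ ∈ G) : S →* MulAut G where
  toFun s :=
    { toFun := fun g => ⟨s * g * (s : Γ)⁻¹, hnorm s s.2 g g.2⟩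
      invFun := fun g => ⟨(s : Γ)⁻¹ * g * s, by simpa using hnorm _ (inv_mem s.2) g g.2⟩
      left_inv := fun g => Subtype.ext (by simp [mul_assoc])
      right_inv := fun g => Subtype.ext (by simp [mul_assoc])
      map_mul' := fun a b => Subtype.ext (by simp [mul_assoc]) }
  map_one' := by ext g; simp
  map_mul' s t := by ext g; simp [mul_assoc]

theorem conjHom_coe (G S : Subgroup Γ) (hnorm : ∀ s ∈ S, ∀ g ∈ G, s * g * s⁻¹ ∈ G) (s : S) (g : G) :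
    ((conjHom G S hnorm s g : G) : Γ) = s * g * (s : Γ)⁻¹ := rfl

end Prep


/-- Inside a finite group Γ let S normalise the solvable subgroup G of odd order with the orders of G and S coprime, let C = G ⊓ C(S), and let L ≤ K be S-invariant normal subgroups of G with K/L abelian, G = KC and H = LC (so C ≤ H ≤ G). Then for each S-invariant irreducible character χ of G there is exactly one S-invariant irreducible character ψ of H whose multiplicity in the restriction of χ to H is odd, and χ ↦ ψ is a bijection from the S-invariant irreducible characters of G onto those of H (distinct χ give distinct ψ, and every S-invariant ψ arises). -/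
theorem result {Γ : Type*} [Group Γ] [Fintype Γ] (G S : Subgroup Γ) [Fintype G] (hnorm : ∀ s ∈ S, ∀ g ∈ G, s * g * s⁻¹ ∈ G) (hcop : (Nat.card G).Coprime (Nat.card S)) (hGsolv : Group.IsSolvable G) (hodd : Odd (Nat.card G)) (C : Subgroup Γ) [Fintype C] (hC : C = G ⊓ Subgroup.centralizer (S : Set Γ)) (hCG : C ≤ G) (K L H : Subgroup Γ) [Fintype H] (hLK : L ≤ K) (hKG : K ≤ G) (hKn : ∀ g ∈ G, ∀ k ∈ K, g * k * g⁻¹ ∈ K) (hLn : ∀ g ∈ G, ∀ l ∈ L, g * l * g⁻¹ ∈ L) (hKS : ∀ s ∈ S, ∀ k ∈ K, s * k * s⁻¹ ∈ K) (hLS : ∀ s ∈ S, ∀ l ∈ L, s * l * s⁻¹ ∈ L) (hab : ∀ a ∈ K, ∀ b ∈ K, a * b * a⁻¹ * b⁻¹ ∈ L) (hGKC : K ⊔ C = G) (hH : H = L ⊔ C) (hHG : H ≤ G) : (∀ χ : Cfsg.IrrCharacter G, (∀ s ∈ S, ∀ g g' : G, (g' : Γ) = s * g * s⁻¹ → (χ : G → ℂ) g' = (χ : G → ℂ) g) → ∃! ψ : Cfsg.IrrCharacter H, (∀ s ∈ S, ∀ g g' : H, (g' : Γ) = s * g * s⁻¹ → (ψ : H → ℂ) g' = (ψ : H → ℂ) g) ∧ ∃ m :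 ℕ, Cfsg.classInner (fun h : H => (χ : G → ℂ) ⟨h, hHG h.2⟩) (ψ : H → ℂ) = (m : ℂ) ∧ Odd m) ∧ (∀ χ χ' : Cfsg.IrrCharacter G, (∀ s ∈ S, ∀ g g' : G, (g' : Γ) = s * g * s⁻¹ → (χ : G → ℂ) g' = (χ : G → ℂ) g) → (∀ s ∈ S, ∀ g g' : G, (g' : Γ) = s * g * s⁻¹ → (χ' : G → ℂ) g' = (χ' : G → ℂ) g) → ∀ ψ : Cfsg.IrrCharacter H, (∀ s ∈ S, ∀ g g' : H, (g' : Γ) = s * g * s⁻¹ → (ψ : H → ℂ) g' = (ψ : H → ℂ) g) → ∀ m m' : ℕ, Cfsg.classInner (fun h : H => (χ : G → ℂ) ⟨h, hHG h.2⟩) (ψ : H → ℂ) = (m : ℂ) → Odd m → Cfsg.classInner (fun h : H => (χ' : G → ℂ) ⟨h, hHG h.2⟩) (ψ : H → ℂ) = (m' : ℂ) → Odd m' → χ = χ') ∧ (∀ ψ : Cfsg.IrrCharacter H, (∀ s ∈ S, ∀ g g' : H, (g' : Γ) = s * g * s⁻¹ → (ψ : H → ℂ) g' = (ψ : H → ℂ) g) → ∃ χ : Cfsg.IrrCharacter G, (∀ s ∈ S, ∀ g g' : G, (g' : Γ) = s * g * s⁻¹ → (χ : G → ℂ) g' = (χ : G → ℂ) g) ∧ ∃ m : ℕ, Cfsg.classInner (fun h : H => (χ : G → ℂ) ⟨h,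 hHG h.2⟩) (ψ : H → ℂ) = (m : ℂ) ∧ Odd m) := by

  classical
  haveI : Fintype S := Fintype.ofFinite S
  subst hC
  let σ := conjHom G S hnorm
  haveI hLn' : (L.subgroupOf G).Normal := ⟨fun l hl g => hLn g g.2 l hl⟩
  haveI hKn' : (K.subgroupOf G).Normal := ⟨fun l hl g => hKn g g.2 l hl⟩
  set C := G ⊓ Subgroup.centralizer (S : Set Γ) with hCdef
  have hLG : L ≤ G := hLK.trans hKG
  have hfixC : ∀ s : S, ∀ c ∈ C.subgroupOf G, σ s c = c := by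
    intro s c hc
    refine Subtype.ext ?_
    rw [conjHom_coe]
    have h1 : (s : Γ) * c = c * s := Subgroup.mem_centralizer_iff.1 hc.2 s s.2
    rw [h1, mul_inv_cancel_right]
  have hlift : ∀ k ∈ K.subgroupOf G, (∀ s, k⁻¹ * σ s k ∈ L.subgroupOf G) →
      ∃ c ∈ C.subgroupOf G, k⁻¹ * c ∈ L.subgroupOf G := by
    intro k _ hs
    obtain ⟨c, hc, hcl⟩ := Cfsg.Agent.Coprime.exists_centralizer_mem_coset (A := S) (K := G)
      (Subgroup.le_normalizer_iff.2 fun s hs g hg => hnorm s hs g hg) hcop.symm (Or.inr hGsolv)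
      hLG (Subgroup.le_normalizer_iff.2 fun s hs l hl => hLS s hs l hl) k.2
      (fun a ha => hs ⟨a, ha⟩)
    exact ⟨⟨c, hc.1⟩, hc, hcl⟩
  have hgen : K.subgroupOf G ⊔ C.subgroupOf G = ⊤ := by
    rw [← Subgroup.subgroupOf_sup hKG hCG, hGKC, Subgroup.subgroupOf_self]
  obtain ⟨B, hBσ, hBH⟩ := Cfsg.Agent.H35.Odd.exists_base (L.subgroupOf G) (K.subgroupOf G)
    (C.subgroupOf G) σ (fun _ h => hLK h) (fun a ha b hb => hab a ha b hb)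
    (fun s l hl => hLS s s.2 l hl) (fun s k hk => hKS s s.2 k hk) hfixC hlift hgen hodd hcop.symm
  have hH' : B.H = H.subgroupOf G := by
    rw [hBH, hH, ← Subgroup.subgroupOf_sup hLG hCG]
  let e : H ≃* B.H := (Subgroup.subgroupOfEquivOfLe hHG).symm.trans (MulEquiv.subgroupCongr hH'.symm)
  have he : ∀ h : H, ((e h : G) : Γ) = h := fun h => rfl
  obtain ⟨h1, h2, h3⟩ := B.main
  have hSI : ∀ χ : Cfsg.IrrCharacter G,
      (∀ s ∈ S, ∀ g g' : G, (g' : Γ) = s * g * s⁻¹ → (χ : G → ℂ) g' = (χ : G → ℂ) g) ↔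
        B.SInv χ := by
    intro χ
    constructor
    · intro h s g
      rw [hBσ]
      exact h s s.2 g _ rfl
    · intro h s hs g g' hg
      have := h ⟨s, hs⟩ g
      rw [hBσ] at this
      rw [← this]
      exact congrArg (χ : G → ℂ) (Subtype.ext hg)
  have hSH : ∀ ψ : B.H → ℂ,
      (∀ s ∈ S, ∀ g g' : H, (g' : Γ) = s * g * s⁻¹ → ψ (e g') = ψ (e g)) ↔ B.SInvH ψ := by
    intro ψ
    constructor
    · intro h s a b hab
      obtain ⟨a, rfl⟩ := e.surjective a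
      obtain ⟨b, rfl⟩ := e.surjective b
      rw [hBσ] at hab
      exact h s s.2 a b (congrArg Subtype.val hab)
    · intro h s hs g g' hg
      refine h ⟨s, hs⟩ (e g) (e g') ?_
      rw [hBσ]
      exact Subtype.ext hg
  let down : Cfsg.IrrCharacter B.H → Cfsg.IrrCharacter H := fun ψ =>
    ⟨fun h => (ψ : B.H → ℂ) (e h),
      Cfsg.Agent.CharInduce.IsIrr.comp ψ.2 e.toMonoidHom e.surjective⟩
  let up : Cfsg.IrrCharacter H → Cfsg.IrrCharacter B.H := fun ψ =>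
    ⟨fun x => (ψ : H → ℂ) (e.symm x),
      Cfsg.Agent.CharInduce.IsIrr.comp ψ.2 e.symm.toMonoidHom e.symm.surjective⟩
  have hdu : ∀ ψ, down (up ψ) = ψ := fun ψ => Subtype.ext (funext fun h => by simp [down, up])
  have hinner : ∀ (χ : Cfsg.IrrCharacter G) (ψ : Cfsg.IrrCharacter B.H),
      Cfsg.classInner (fun h : H => (χ : G → ℂ) ⟨h, hHG h.2⟩) (down ψ : H → ℂ) =
        Cfsg.classInner (fun x : B.H => (χ : G → ℂ) x) (ψ : B.H → ℂ) := by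
    intro χ ψ
    rw [← Cfsg.Agent.CharInduce.classInner_comp_mulEquiv e]
    rfl
  refine ⟨fun χ hχ => ?_, fun χ χ' hχ hχ' ψ hψ m m' hm hodd hm' hodd' => ?_, fun ψ hψ => ?_⟩
  · obtain ⟨ψ, ⟨hψ, m, hm, hodd⟩, huniq⟩ := h1 χ ((hSI χ).1 hχ)
    refine ⟨down ψ, ⟨(hSH ψ).2 hψ, m, by rw [hinner, hm], hodd⟩, ?_⟩
    rintro ψ' ⟨hψ', m', hm', hodd'⟩
    rw [← hdu ψ'] at hψ' hm' ⊢
    rw [hinner] at hm'
    rw [huniq (up ψ') ⟨(hSH _).1 hψ', m', hm', hodd'⟩]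
  · rw [← hdu ψ] at hψ hm hm'
    rw [hinner] at hm hm'
    exact h2 χ χ' ((hSI χ).1 hχ) ((hSI χ').1 hχ') (up ψ) ((hSH _).1 hψ) ⟨m, hm, hodd⟩
      ⟨m', hm', hodd'⟩
  · rw [← hdu ψ] at hψ ⊢
    obtain ⟨χ, hχ, m, hm, hodd⟩ := h3 (up ψ) ((hSH _).1 hψ)
    exact ⟨χ, (hSI χ).2 hχ, m, by rw [hinner, hm], hodd⟩

end Cfsg.Agent.S4453
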