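import Cfsg.Statements.S4454
import Cfsg.Agent.H80.FullyRamified

set_option autoImplicit false
open Cfsg

namespace Cfsg.Agent.S4454

universe u

open Cfsg.Agent.CharBasic Cfsg.Agent.CharInduce Cfsg.Agent.H80.FullyRamified Finset

theorem main {Γ : Type u} [Group Γ] [Fintype Γ] (G N : Subgroup Γ) [hG : G.Normal] [hN : N.Normal]
    [Fintype G] [Fintype N] (hNG : N ≤ G) (hGlt : G ≠ ⊤) (hcyc : IsCyclic (Γ ⧸ G))
    (hfrob : ∀ x : Γ, x ∉ G → ∀ g : Γ, g ∈ G → x * g * x⁻¹ * g⁻¹ ∈ N → g ∈ N)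
    {θ : N → ℂ} (hθ : IsIrrCharacter N θ)
    (hinv : ∀ (x : Γ) (n : N), θ ⟨x * n * x⁻¹, hN.conj_mem n n.2 x⟩ = θ n)
    {χ : G → ℂ} (hχ : IsIrrCharacter G χ) (e : ℕ)
    (hram : Cfsg.indFun (N.subgroupOf G) (fun n : N.subgroupOf G => θ ⟨(n : G), n.2⟩) =
      fun g => (e : ℂ) * χ g) :
    (G.index : ℤ) ∣ (e : ℤ) - 1 ∨ (G.index : ℤ) ∣ (e : ℤ) + 1 := by
  classical
  set M := N.subgroupOf G
  haveI : Fintype M := Fintype.ofFinite _
  set η : M → ℂ := fun n => θ ⟨(n : G), n.2⟩ with hη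
  have hηirr : IsIrrCharacter M η := by
    let E := Subgroup.subgroupOfEquivOfLe hNG
    have := IsIrr.comp hθ E.toMonoidHom E.surjective
    exact this
  have hηinv : ∀ g : G, conjFun M η g = η := fun g => funext fun n => by
    exact hinv (g : Γ) ⟨((n : G) : Γ), n.2⟩
  change indFun M η = fun g => (e : ℂ) * χ g at hram
  set q : ℕ := M.index with hq
  have hnorm := classInner_indFun_self_of_invariant M hηirr hηinv
  rw [hram, show (fun g => (e : ℂ) * χ g) = (e : ℂ) • χ from rfl, classInner_smul_left,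
    Cfsg.Agent.CharBasic.classInner_smul_right, classInner_irr_self hχ, map_natCast, mul_one,
    ← Nat.cast_mul, Nat.cast_inj, ← hq] at hnorm
  have he0 : e ≠ 0 := fun h => by
    rw [h, zero_mul] at hnorm; exact Subgroup.index_ne_zero_of_finite hnorm.symm
  have heC : (e : ℂ) ≠ 0 := Nat.cast_ne_zero.mpr he0
  have hoff : ∀ g : G, g ∉ M → χ g = 0 := by
    intro g hg
    have h := congrFun hram g
    rw [indFun_eq_zero_of_normal M _ hg] at h
    exact (mul_eq_zero.mp h.symm).resolve_left heC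
  have hon : ∀ n : M, χ n = (e : ℂ) * η n := by
    intro n
    have h := congrFun hram (n : G)
    rw [indFun_normal_coe] at h
    simp only [hηinv, sum_const, card_univ, nsmul_eq_mul, ← Nat.card_eq_fintype_card] at h
    rw [← M.card_mul_index, ← hq, ← hnorm, Nat.cast_mul, Nat.cast_mul] at h
    have hc := card_ne_zero_complex M
    field_simp at h
    exact h.symm
  have hχinv : ∀ (x : Γ) (g : G), χ ⟨x * g * x⁻¹, hG.conj_mem g g.2 x⟩ = χ g := by
    intro x g
    by_cases hg : g ∈ M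
    · have hg' : (⟨x * g * x⁻¹, hG.conj_mem g g.2 x⟩ : G) ∈ M := hN.conj_mem _ hg x
      rw [hon ⟨_, hg'⟩, hon ⟨g, hg⟩]
      exact congrArg _ (hinv x ⟨(g : Γ), hg⟩)
    · rw [hoff g hg, hoff]
      intro h
      apply hg
      have h' := hN.conj_mem _ (Subgroup.mem_subgroupOf.mp h) x⁻¹
      show (g : Γ) ∈ N
      simpa [mul_assoc] using h'
  obtain ⟨ξ, hξ, hξext⟩ := Cfsg.Agent.H80.FullyRamified.exists_extension hχ
    (fun x => funext fun g => hχinv x g) hcyc
  obtain ⟨xb, hxb⟩ := hcyc.exists_generator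
  obtain ⟨x, rfl⟩ := QuotientGroup.mk_surjective xb
  set m := G.index with hm
  have hm1 : 1 < m := by
    have h1 : m ≠ 1 := fun h => hGlt (Subgroup.index_eq_one.mp h)
    have h2 : m ≠ 0 := Subgroup.index_ne_zero_of_finite
    omega
  have hord : orderOf (x : Γ ⧸ G) = m := by
    rw [orderOf_eq_card_of_forall_mem_zpowers hxb, hm, Subgroup.index_eq_card]
  have hxG : x ∉ G := by
    intro h
    rw [(QuotientGroup.eq_one_iff x).mpr h, orderOf_one] at hord
    omega
  have hxm : x ^ m ∈ N := by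
    refine hfrob x hxG _ ?_ ?_
    · rw [← QuotientGroup.eq_one_iff, QuotientGroup.mk_pow, ← hord, pow_orderOf_eq_one]
    · rw [show x * x ^ m * x⁻¹ * (x ^ m)⁻¹ = 1 from by
        rw [← pow_succ', pow_succ]; group]
      exact N.one_mem
  set K := N ⊔ Subgroup.zpowers x
  have hinf : K ⊓ G = N := by
    refine le_antisymm (fun y hy => ?_) (le_inf le_sup_left hNG)
    obtain ⟨n, hn, z, hz, rfl⟩ := Subgroup.mem_sup_of_normal_left.mp hy.1
    obtain ⟨k, rfl⟩ := Subgroup.mem_zpowers_iff.mp hz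
    have hk : x ^ k ∈ G := (G.mul_mem_cancel_left (hNG hn)).mp hy.2
    rw [← QuotientGroup.eq_one_iff, QuotientGroup.mk_zpow, ← orderOf_dvd_iff_zpow_eq_one,
      hord] at hk
    obtain ⟨j, rfl⟩ := hk
    rw [zpow_mul, zpow_natCast]
    exact N.mul_mem hn (N.zpow_mem hxm j)
  haveI : Fintype K := Fintype.ofFinite _
  set L := N.subgroupOf K
  haveI : Fintype L := Fintype.ofFinite _
  have htop : K ⊔ G = ⊤ := by
    rw [eq_top_iff]
    intro y _
    obtain ⟨k, hk⟩ := Subgroup.mem_zpowers_iff.mp (hxb (y : Γ ⧸ G))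
    rw [← QuotientGroup.mk_zpow, QuotientGroup.eq] at hk
    rw [← mul_inv_cancel_left (x ^ k) y]
    exact Subgroup.mul_mem_sup
      ((le_sup_right : _ ≤ K) (Subgroup.zpow_mem _ (Subgroup.mem_zpowers x) k)) hk
  have hidx : L.index = m := by
    have h1 : N.relIndex K = G.relIndex K := by rw [← hinf, Subgroup.inf_relIndex_left]
    show N.relIndex K = m
    rw [h1, ← Subgroup.relIndex_sup_right (H := K) (K := G), htop, Subgroup.relIndex_top_right]
  have hKcyc : IsCyclic (K ⧸ L) := by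
    let f : K ⧸ L →* Γ ⧸ G := QuotientGroup.map L G K.subtype (fun k hk => hNG hk)
    refine isCyclic_of_injective f ((injective_iff_map_eq_one f).mpr fun z hz => ?_)
    induction z using QuotientGroup.induction_on with
    | _ k =>
      change ((k : Γ) : Γ ⧸ G) = 1 at hz
      rw [QuotientGroup.eq_one_iff] at hz
      rw [QuotientGroup.eq_one_iff, Subgroup.mem_subgroupOf, ← hinf]
      exact ⟨k.2, hz⟩
  set θK : L → ℂ := fun n => θ ⟨(n : K), n.2⟩ with hθK
  have hθKirr : IsIrrCharacter L θK := by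
    let E := Subgroup.subgroupOfEquivOfLe (le_sup_left : N ≤ K)
    exact IsIrr.comp hθ E.toMonoidHom E.surjective
  have hθKinv : ∀ k : K, conjFun L θK k = θK := fun k => funext fun n =>
    hinv (k : Γ) ⟨((n : K) : Γ), n.2⟩
  obtain ⟨hcard, hres⟩ := above_invariant_cyclic hθKirr hθKinv hKcyc
  set ξK : K → ℂ := fun k => ξ k
  have hξK : IsCharacter K ξK := IsChar.res (Cfsg.Agent.CharBasic.IsIrr.isCharacter hξ) K
  have hξN : ∀ n : L, ξK n = (e : ℂ) * θK n := by
    intro n
    have h := hξext ⟨((n : K) : Γ), hNG n.2⟩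
    rw [hon ⟨⟨((n : K) : Γ), hNG n.2⟩, n.2⟩] at h
    exact h
  choose a ha using fun ψ : IrrCharacter K => classInner_isChar_nat hξK
    (Cfsg.Agent.CharBasic.IsIrr.isCharacter ψ.2)
  have hsupp : ∀ ψ : IrrCharacter K, ψ ∉ above L θK → a ψ = 0 := by
    intro ψ hψ
    by_contra h0
    apply hψ
    rw [mem_above]
    obtain ⟨r, hr, heq⟩ := IsChar.exists_eq_add hξK ψ.2 (by
      rw [ha, Nat.cast_ne_zero]; exact h0)
    rw [classInner_indFun_left L _ _ (Cfsg.Agent.CharBasic.IsIrr.isClassFunction ψ.2),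
      ← conj_classInner]
    intro hz
    rw [map_eq_zero] at hz
    have hψr := Cfsg.Agent.CharBasic.IsIrr.isCharacter ψ.2
    obtain ⟨ψ0, hψ0, hψ0ne⟩ : ∃ ψ0, IsIrrCharacter L ψ0 ∧
        classInner (fun n : L => (ψ : K → ℂ) n) ψ0 ≠ 0 := by
      obtain ⟨φ0, hφ0⟩ := Cfsg.Agent.CharInduce.exists_constituent (IsChar.res hψr L)
        (fun h => Cfsg.Agent.CharBasic.IsIrr.one_ne_zero ψ.2 (congrFun h 1))
      exact ⟨φ0.1, φ0.2, hφ0⟩
    have hne : ψ0 ≠ θK := fun h => hψ0ne (by rw [h]; exact hz)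
    have h1 : classInner (fun n : L => ξK n) ψ0 = 0 := by
      rw [show (fun n : L => ξK n) = (e : ℂ) • θK from funext hξN, classInner_smul_left,
        classInner_irr_of_ne hθKirr hψ0 hne.symm, mul_zero]
    rw [show (fun n : L => ξK n) = (fun n : L => (ψ : K → ℂ) n) + fun n : L => r n from
        funext fun n => congrFun heq n, classInner_add_left] at h1
    obtain ⟨b, hb⟩ := classInner_isChar_nat (IsChar.res hψr L)
      (Cfsg.Agent.CharBasic.IsIrr.isCharacter hψ0)
    obtain ⟨c, hc⟩ := classInner_isChar_nat (IsChar.res hr L)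
      (Cfsg.Agent.CharBasic.IsIrr.isCharacter hψ0)
    rw [hb, hc, ← Nat.cast_add, Nat.cast_eq_zero] at h1
    rw [hb, Nat.cast_ne_zero] at hψ0ne
    omega
  have hexp : ξK = ∑ ψ ∈ above L θK, (a ψ : ℂ) • (ψ : K → ℂ) := by
    conv_lhs => rw [classFunction_expansion (IsChar.isClassFunction hξK)]
    simp only [ha]
    exact (Finset.sum_subset (Finset.subset_univ _)
      fun ψ _ h => by rw [hsupp ψ h, Nat.cast_zero, zero_smul]).symm
  have hθ1 : θK 1 ≠ 0 := Cfsg.Agent.CharBasic.IsIrr.one_ne_zero hθKirr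
  have hsum1 : ∑ ψ ∈ above L θK, a ψ = e := by
    have h1 := congrFun hexp ((1 : L) : K)
    rw [hξN 1, Finset.sum_apply] at h1
    rw [Finset.sum_congr rfl (fun ψ hψ => by
      rw [Pi.smul_apply, hres ψ hψ 1, smul_eq_mul]), ← Finset.sum_mul] at h1
    exact_mod_cast (mul_right_cancel₀ hθ1 h1).symm
  have hnormK : classInner ξK ξK = ((∑ ψ ∈ above L θK, a ψ * a ψ : ℕ) : ℂ) := by
    rw [classInner_eq_sum (IsChar.isClassFunction hξK)]
    simp only [ha, map_natCast]
    push_cast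
    exact (Finset.sum_subset (Finset.subset_univ _)
      fun ψ _ h => by rw [hsupp ψ h]; simp).symm
  set F : Γ → ℂ := fun g => ξ g * starRingEnd ℂ (ξ g) with hF
  have hFcl : IsClassFunction Γ F := fun g h => by
    simp only [hF]; rw [Cfsg.Agent.CharBasic.IsIrr.isClassFunction hξ g h]
  have hsumF : ∑ y : Γ, F y = Nat.card Γ := by
    have := classInner_irr_self hξ
    rw [Cfsg.classInner] at this
    have hc : (Nat.card Γ : ℂ) ≠ 0 := card_ne_zero_complex Γ
    field_simp at this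
    exact this
  have hsumG : ∑ y ∈ univ.filter (fun y : Γ => y ∈ G), F y = Nat.card G := by
    rw [← Finset.sum_subtype_eq_sum_filter, Finset.subtype_univ]
    have := classInner_irr_self hχ
    rw [Cfsg.classInner] at this
    have hc : (Nat.card G : ℂ) ≠ 0 := card_ne_zero_complex G
    field_simp at this
    rw [← this]
    exact Fintype.sum_equiv (Equiv.refl _) _ _ fun g => by
      simp only [hF, Equiv.refl_apply]; rw [hξext g]
  have hout := sum_outside G N K hNG hinf hidx (fun a b => by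
      have hab : (a : Γ ⧸ G) * b = b * a := by
        obtain ⟨i, hi⟩ := Subgroup.mem_zpowers_iff.mp (hxb (a : Γ ⧸ G))
        obtain ⟨j, hj⟩ := Subgroup.mem_zpowers_iff.mp (hxb (b : Γ ⧸ G))
        rw [← hi, ← hj]; exact (Commute.zpow_zpow_self _ i j).eq
      rw [← QuotientGroup.eq_one_iff]
      simp only [QuotientGroup.mk_mul, QuotientGroup.mk_inv, hab]
      group) hfrob F hFcl
  rw [show N.relIndex G = q from rfl] at hout
  have hsumKin : ∑ h ∈ univ.filter (fun h : K => (h : Γ) ∈ G), F h = (q : ℂ) * Nat.card L := by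
    have hset : univ.filter (fun h : K => (h : Γ) ∈ G) = univ.filter (fun h : K => h ∈ L) := by
      ext h
      simp only [mem_filter, mem_univ, true_and, L, Subgroup.mem_subgroupOf]
      exact ⟨fun hh => hinf ▸ ⟨h.2, hh⟩, fun hh => hNG hh⟩
    rw [hset, ← Finset.sum_subtype_eq_sum_filter, Finset.subtype_univ]
    have := classInner_irr_self hθKirr
    rw [Cfsg.classInner] at this
    have hc : (Nat.card L : ℂ) ≠ 0 := card_ne_zero_complex L
    field_simp at this
    rw [← this, Finset.mul_sum]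
    refine Fintype.sum_equiv (Equiv.refl _) _ _ fun n => ?_
    show ξK n * starRingEnd ℂ (ξK n) = _
    rw [hξN n, map_mul, map_natCast, Equiv.refl_apply, ← hnorm, Nat.cast_mul]
    ring
  have hkey : m * (∑ ψ ∈ above L θK, a ψ * a ψ) = e * e + (m - 1) := by
    have hK := hnormK
    rw [Cfsg.classInner] at hK
    have hc : (Nat.card K : ℂ) ≠ 0 := card_ne_zero_complex K
    field_simp at hK
    rw [show ∑ k : K, ξK k * starRingEnd ℂ (ξK k) = ∑ k : K, F k from rfl,
      ← Finset.sum_filter_add_sum_filter_not univ (fun h : K => (h : Γ) ∈ G), hsumKin] at hK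
    rw [← Finset.sum_filter_add_sum_filter_not univ (fun y : Γ => y ∈ G), hsumG] at hsumF
    have hcardΓ : (Nat.card Γ : ℂ) = (q : ℂ) * Nat.card L * m := by
      rw [← G.card_mul_index, ← hm, ← M.card_mul_index, ← hq,
        Nat.card_congr (Subgroup.subgroupOfEquivOfLe hNG).toEquiv,
        Nat.card_congr (Subgroup.subgroupOfEquivOfLe (le_sup_left : N ≤ K)).toEquiv]
      push_cast; ring
    have hcardG : (Nat.card G : ℂ) = (q : ℂ) * Nat.card L := by
      rw [← M.card_mul_index, ← hq,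
        Nat.card_congr (Subgroup.subgroupOfEquivOfLe hNG).toEquiv,
        Nat.card_congr (Subgroup.subgroupOfEquivOfLe (le_sup_left : N ≤ K)).toEquiv]
      push_cast; ring
    rw [← L.card_mul_index, hidx, Nat.cast_mul] at hK
    rw [hcardG, hcardΓ, hout] at hsumF
    have hq0 : (q : ℂ) ≠ 0 := Nat.cast_ne_zero.mpr Subgroup.index_ne_zero_of_finite
    have hL0 : (Nat.card L : ℂ) ≠ 0 := card_ne_zero_complex L
    have h3 : ((m * ∑ ψ ∈ above L θK, a ψ * a ψ : ℕ) : ℂ) = ((e * e + (m - 1) : ℕ) : ℂ) := by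
      rw [Nat.cast_add, Nat.cast_sub hm1.le, Nat.cast_mul m, Nat.cast_one, hnorm]
      refine mul_left_cancel₀ (mul_ne_zero hq0 hL0) ?_
      linear_combination (-(q : ℂ)) * hK + hsumF
    exact_mod_cast h3
  exact congruence_of_weights _ a hm1 (hcard.trans hidx) hsum1 hkey

/-- Let N ≤ G be normal subgroups of the finite group Γ with Γ/G cyclic and Γ/N a Frobenius group with kernel G/N: G ≠ Γ, N ≠ G, and no element of Γ outside G fixes a non-identity coset of N in G under conjugation. Let ϑ be an irreducible character of N invariant under conjugation by Γ and suppose ϑ is fully ramified in G: the character of G induced from ϑ equals e·χ for an irreducible character χ of G and a natural number e. Then the index of G in Γ divides e − 1 or e + 1. -/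
theorem result {Γ : Type*} [Group Γ] [Fintype Γ] (G N : Subgroup Γ) [hG : G.Normal] [hN : N.Normal] [Fintype G] [Fintype N] (hNG : N ≤ G) (hGlt : G ≠ ⊤) (hNlt : N ≠ G) (hcyc : IsCyclic (Γ ⧸ G)) (hfrob : ∀ x : Γ, x ∉ G → ∀ g : Γ, g ∈ G → x * g * x⁻¹ * g⁻¹ ∈ N → g ∈ N) (θ : Cfsg.IrrCharacter N) (hinv : ∀ (x : Γ) (n : N), (θ : N → ℂ) ⟨x * n * x⁻¹, hN.conj_mem n n.2 x⟩ = (θ : N → ℂ) n) (χ : Cfsg.IrrCharacter G) (e : ℕ) (hram : Cfsg.indFun (N.subgroupOf G) (fun n : N.subgroupOf G => (θ : N → ℂ) ⟨(n : G), n.2⟩) = fun g => (e : ℂ) * (χ : G → ℂ) g) : (G.index : ℤ) ∣ (e : ℤ) - 1 ∨ (G.index : ℤ) ∣ (e : ℤ) + 1 := by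
  classical
  exact main G N hNG hGlt hcyc hfrob θ.2 hinv χ.2 e hram

end Cfsg.Agent.S4454
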