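import Cfsg.Statements.S4465
import Cfsg.Agent.H80.Blichfeldt

set_option autoImplicit false
open Cfsg

namespace Cfsg.Agent.S4465

/-- Let the finite group G have a faithful character χ of degree n (G is a linear group of degree n), and let π be the set of primes greater than n + 1. Then G has an abelian Hall π-subgroup: an abelian subgroup A whose order is divisible only by primes greater than n + 1 and whose index is divisible by no prime greater than n + 1. -/
theorem result {G : Type*} [Group G] [Finite G] (χ : G → ℂ) (hχ : Cfsg.IsCharacter G χ) (hfaith : ∀ g : G, χ g = χ 1 → g = 1) (n : ℕ) (hn : Cfsg.charDegree χ = n) : ∃ A : Subgroup G, (∀ x ∈ A, ∀ y ∈ A, x * y = y * x) ∧ (∀ q : ℕ, q.Prime → q ∣ Nat.card A → n + 1 < q) ∧ ∀ q : ℕ, q.Prime → q ∣ A.index → q ≤ n + 1 := by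
  classical
  have h1 : χ 1 = (n : ℂ) := by
    obtain ⟨e, he⟩ := CharBasic.IsChar.exists_degree hχ
    rw [Cfsg.charDegree, he, Complex.natCast_re, Nat.floor_natCast] at hn
    rw [he, hn]
  have hF : H80.Blichfeldt.HasFaithful n G := ⟨χ, hχ, hfaith, n, le_rfl, h1⟩
  obtain ⟨A, hA1, hA2⟩ := H80.Blichfeldt.exists_bigHall _ G le_rfl hF
  exact ⟨A, fun x hx y hy => congrArg Subtype.val
    (H80.Blichfeldt.commute_of_big (hF.subgroup A) hA1 ⟨x, hx⟩ ⟨y, hy⟩), hA1,
    fun q hq hqd => le_of_not_gt fun h => hA2 q hq h hqd⟩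

end Cfsg.Agent.S4465
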