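import Cfsg.Statements.S4467
import Cfsg.Agent.H48.DegreeCongr


set_option autoImplicit false
open Cfsg

namespace Cfsg.Agent.S4467

open Cfsg.Agent.CharBasic Cfsg.Agent.CharInduce Cfsg.Agent.H48

universe u

/-- The conclusion. -/
def Good (n p : ℕ) : Prop :=
  ∃ q : ℕ, IsPrimePow q ∧ q ∣ n ∧
    ((q : ℤ) ≡ -1 [ZMOD p] ∨ (q : ℤ) ≡ 0 [ZMOD p] ∨ (q : ℤ) ≡ 1 [ZMOD p])

theorem Good.mono {m n p : ℕ} (h : Good m p) (hd : m ∣ n) : Good n p := by
  obtain ⟨q, h1, h2, h3⟩ := h
  exact ⟨q, h1, h2.trans hd, h3⟩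

theorem good_of_dvd {n p : ℕ} (hp : p.Prime) (h : p ∣ n) : Good n p :=
  ⟨p, hp.isPrimePow, h, Or.inr (Or.inl (Int.modEq_zero_iff_dvd.2 dvd_rfl))⟩

theorem good_of_sq {n p r q : ℕ} [Fact p.Prime] (hq : q.Prime) {a : ℕ} (hr : r ∣ q ^ a)
    (hr1 : r ≠ 1) (hrn : r ∣ n) (hsq : r * r ≡ 1 [MOD p]) : Good n p := by
  obtain ⟨b, -, rfl⟩ := (Nat.dvd_prime_pow hq).1 hr
  refine ⟨q ^ b, hq.isPrimePow.pow fun hb => hr1 (by rw [hb, pow_zero]), hrn, ?_⟩
  have h1 : ((q ^ b : ℕ) : ZMod p) * ((q ^ b : ℕ) : ZMod p) = 1 := by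
    rw [← Nat.cast_mul, (ZMod.natCast_eq_natCast_iff _ _ _).2 hsq, Nat.cast_one]
  rcases mul_self_eq_one_iff.1 h1 with h | h
  · exact Or.inr (Or.inr ((ZMod.intCast_eq_intCast_iff _ _ p).1 (by simpa using h)))
  · exact Or.inl ((ZMod.intCast_eq_intCast_iff _ _ p).1 (by simpa using h))

/-- The statement for a given group. -/
def Holds (G : Type u) [Group G] : Prop :=
  Group.IsSolvable G → ∀ (χ : G → ℂ), IsIrrCharacter G χ → (∀ g, χ g = χ 1 → g = 1) →
    ∀ n : ℕ, χ 1 = n → ∀ p : ℕ, p.Prime → ∀ P : Sylow p G, ¬ (P : Subgroup G).Normal → Good n p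

section step
variable {G : Type u} [Group G] [Fintype G]

/-- A proper normal subgroup containing a non-normal Sylow subgroup reduces the degree. -/
theorem good_of_normal (IH : ∀ (H : Type u) [Group H] [Finite H], Nat.card H < Nat.card G → Holds H)
    (hsolv : Group.IsSolvable G) {χ : G → ℂ} (hχ : IsIrrCharacter G χ)
    (hfaith : ∀ g, χ g = χ 1 → g = 1) {n : ℕ} (hn : χ 1 = n) {p : ℕ} (hp : p.Prime) (P : Sylow p G)
    (hP : ¬ (P : Subgroup G).Normal) (L : Subgroup G) [L.Normal] (hL : L ≠ ⊤)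
    (hPL : (P : Subgroup G) ≤ L) : Good n p := by
  classical
  have : Fact p.Prime := ⟨hp⟩
  haveI : Fintype L := Fintype.ofFinite L
  have hc := CharBasic.IsIrr.isCharacter hχ
  have hres : IsCharacter L (fun l : L => χ l) := CharInduce.IsChar.res hc L
  set PL := P.subtype hPL with hPLdef
  by_contra hgood
  -- every constituent sees a normal Sylow subgroup
  have hall : ∀ θ : IrrCharacter L, classInner (fun l : L => χ l) (θ : L → ℂ) ≠ 0 →
      ∃ K : Subgroup L, K.Normal ∧ (∀ l, l ∈ K ↔ (θ : L → ℂ) l = (θ : L → ℂ) 1) ∧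
        ((PL : Subgroup L) ⊔ K).Normal := by
    intro θ hθ
    obtain ⟨K, hK, hmem, hmul⟩ := CharBasic.IsChar.exists_kernel (CharBasic.IsIrr.isCharacter θ.2)
    refine ⟨K, hK, hmem, ?_⟩
    by_contra hbad
    apply hgood
    obtain ⟨ψ, hψc, hψ, hψi⟩ := CharInduce.IsChar.exists_deflate (CharBasic.IsIrr.isCharacter θ.2) K
      fun k hk => (hmem k).1 hk
    obtain ⟨e, he⟩ := classInner_isChar_nat hres (CharBasic.IsIrr.isCharacter θ.2)
    obtain ⟨m, -, hm⟩ := CharBasic.IsIrr.exists_degree θ.2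
    have hdeg := clifford_degree L hχ θ.2 hθ
    rw [he, hn, hm] at hdeg
    have hdeg' : n = e * (inertia L (θ : L → ℂ)).index * m := by exact_mod_cast hdeg
    refine Good.mono ?_ (Dvd.intro_left _ hdeg'.symm : m ∣ n)
    have hlt : Nat.card (L ⧸ K) < Nat.card G := by
      refine lt_of_le_of_lt (Nat.card_le_card_of_surjective _ (QuotientGroup.mk'_surjective K)) ?_
      exact lt_of_le_of_ne (Subgroup.card_le_card_group L) fun h => hL (Subgroup.eq_top_of_card_eq _ h)
    haveI := hsolv
    refine IH (L ⧸ K) hlt inferInstance ψ (hψi θ.2) (fun x hx => ?_) m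
      (by rw [← hm]; exact (hψ 1).symm) p hp (PL.mapSurjective (QuotientGroup.mk'_surjective K)) ?_
    · induction x using QuotientGroup.induction_on with
      | H l =>
        refine (QuotientGroup.eq_one_iff l).2 ((hmem l).2 ?_)
        rw [hψ l, hψ 1]; exact hx
    · intro hN
      apply hbad
      have h1 := hN.comap (QuotientGroup.mk' K)
      rwa [Sylow.coe_mapSurjective, Subgroup.comap_map_eq, QuotientGroup.ker_mk'] at h1
  -- hence the Sylow subgroup is normal
  choose K hKn hKmem hKsup using hall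
  let W : Subgroup L := ⨅ θ : {θ : IrrCharacter L // classInner (fun l : L => χ l) (θ : L → ℂ) ≠ 0},
    (PL : Subgroup L) ⊔ K θ.1 θ.2
  have hWn : W.Normal := Subgroup.normal_iInf_normal fun θ => hKsup θ.1 θ.2
  have hWp : IsPGroup p W := by
    rw [IsPGroup.iff_card]
    refine ⟨_, Nat.eq_prime_pow_of_unique_prime_dvd Nat.card_pos.ne' fun {r} hr hrd => ?_⟩
    by_contra hrp
    have : Fact r.Prime := ⟨hr⟩
    obtain ⟨w, hw⟩ := exists_prime_orderOf_dvd_card' r hrd
    have hw1 : (w : L) = 1 := by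
      have hwK : ∀ (θ : IrrCharacter L) (hθ : classInner (fun l : L => χ l) (θ : L → ℂ) ≠ 0),
          (θ : L → ℂ) (w : L) = (θ : L → ℂ) 1 := fun θ hθ => by
        refine (hKmem θ hθ _).1 ?_
        haveI := hKn θ hθ
        have hm : (w : L) ∈ (PL : Subgroup L) ⊔ K θ hθ :=
          (Subgroup.mem_iInf.1 w.2) ⟨θ, hθ⟩
        have h2 : QuotientGroup.mk' (K θ hθ) (w : L) ∈
            (PL : Subgroup L).map (QuotientGroup.mk' (K θ hθ)) := by
          have := Subgroup.mem_map_of_mem (QuotientGroup.mk' (K θ hθ)) hm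
          rwa [Subgroup.map_sup, QuotientGroup.map_mk'_self, sup_bot_eq] at this
        obtain ⟨y, hy⟩ := (PL.isPGroup'.map (QuotientGroup.mk' (K θ hθ))) ⟨_, h2⟩
        have h3 : orderOf (QuotientGroup.mk' (K θ hθ) (w : L)) ∣ p ^ y :=
          orderOf_dvd_of_pow_eq_one (congrArg Subtype.val hy)
        have h4 : orderOf (QuotientGroup.mk' (K θ hθ) (w : L)) ∣ r := by
          rw [← hw, ← Subgroup.orderOf_coe w]; exact orderOf_map_dvd _ _
        have hco : Nat.Coprime (p ^ y) r := ((Nat.coprime_primes hp hr).2 (Ne.symm hrp)).pow_left y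
        have h5 := Nat.eq_one_of_dvd_coprimes hco h3 h4
        exact (QuotientGroup.eq_one_iff _).1 (orderOf_eq_one_iff.1 h5)
      have hexp := classFunction_expansion (CharBasic.IsChar.isClassFunction hres)
      have h6 : χ ((w : L) : G) = χ ((1 : L) : G) := by
        rw [show χ ((w : L) : G) = (fun l : L => χ l) (w : L) from rfl,
          show χ ((1 : L) : G) = (fun l : L => χ l) 1 from rfl, hexp]
        simp only [Finset.sum_apply, Pi.smul_apply, smul_eq_mul]
        refine Finset.sum_congr rfl fun θ _ => ?_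
        by_cases hθ : classInner (fun l : L => χ l) (θ : L → ℂ) = 0
        · rw [hθ, zero_mul, zero_mul]
        · rw [hwK θ hθ]
      exact Subtype.ext (hfaith _ h6)
    rw [← Subgroup.orderOf_coe w, hw1, orderOf_one] at hw
    exact hr.one_lt.ne hw
  have hPW : W = (PL : Subgroup L) := PL.is_maximal' hWp (le_iInf fun θ => le_sup_left)
  have hchar : (PL : Subgroup L).Characteristic := Sylow.characteristic_of_normal PL (hPW ▸ hWn)
  apply hP
  have hmap : (PL : Subgroup L).map L.subtype = P := by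
    rw [hPLdef, Sylow.coe_subtype, Subgroup.map_subgroupOf_eq_of_le hPL]
  exact hmap ▸ ConjAct.normal_of_characteristic_of_normal

theorem exists_coatom_prime_index [Nontrivial G] (hsolv : Group.IsSolvable G) :
    ∃ L : Subgroup G, L.Normal ∧ L.index.Prime := by
  have : Group.IsSolvable G := hsolv
  have hne : commutator G ≠ ⊤ := (Group.IsSolvable.commutator_lt_top_of_nontrivial G).ne
  obtain ⟨L, hL, hle⟩ := (eq_top_or_exists_le_coatom (commutator G)).resolve_left hne
  have hn : L.Normal := Subgroup.Normal.of_commutator_le G hle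
  refine ⟨L, hn, ?_⟩
  haveI : IsSimpleGroup (G ⧸ L) := by
    haveI : Nontrivial (G ⧸ L) := QuotientGroup.nontrivial_iff.mpr hL.1
    refine ⟨fun M hM => ?_⟩
    have hs := QuotientGroup.mk'_surjective L
    rcases hL.le_iff.1 (show L ≤ M.comap (QuotientGroup.mk' L) from
        (QuotientGroup.ker_mk' L).ge.trans (MonoidHom.ker_le_comap _ _)) with h | h
    · exact Or.inr (by rw [← Subgroup.map_comap_eq_self_of_surjective hs M, h,
        Subgroup.map_top_of_surjective _ hs])
    · exact Or.inl (by rw [← Subgroup.map_comap_eq_self_of_surjective hs M, h,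
        QuotientGroup.map_mk'_self])
  letI : CommGroup (G ⧸ L) :=
    { (inferInstance : Group (G ⧸ L)) with
      mul_comm := fun a b => isMulCommutative_iff.1 (Subgroup.Normal.quotient_commutative_iff_commutator_le.2 hle) a b }
  rw [Subgroup.index_eq_card]
  exact IsSimpleGroup.prime_card

theorem card_mul_inf (H N : Subgroup G) [N.Normal] :
    Nat.card ↥(H ⊔ N) * Nat.card ↥(H ⊓ N) = Nat.card H * Nat.card N := by
  have h1 := Subgroup.relIndex_mul_relIndex ⊥ N (H ⊔ N) bot_le le_sup_right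
  have h2 := Subgroup.relIndex_mul_relIndex ⊥ (H ⊓ N) H bot_le inf_le_left
  rw [Subgroup.relIndex_bot_left, Subgroup.relIndex_bot_left] at h1 h2
  rw [← h1, ← h2, Subgroup.inf_relIndex_left, Subgroup.relIndex_sup_right]
  ring

theorem good_step (IH : ∀ (H : Type u) [Group H] [Finite H], Nat.card H < Nat.card G → Holds H) :
    Holds G := by
  classical
  intro hsolv χ hχ hfaith n hn p hp P hP
  have : Fact p.Prime := ⟨hp⟩
  haveI := hsolv
  by_contra hgood
  have hA : ∀ L : Subgroup G, L.Normal → (P : Subgroup G) ≤ L → L = ⊤ := fun L hL hPL => by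
    by_contra h
    exact hgood (good_of_normal IH hsolv hχ hfaith hn hp P hP L h hPL)
  have hc := CharBasic.IsIrr.isCharacter hχ
  -- proper subgroups on which `χ` stays irreducible have normal Sylow subgroup
  have hB : ∀ H : Subgroup G, H ≠ ⊤ → IsIrrCharacter H (fun h : H => χ h) →
      ∀ Q : Sylow p H, (Q : Subgroup H).Normal := fun H hH hi Q => by
    by_contra hQ
    exact hgood (IH H (lt_of_le_of_ne (Subgroup.card_le_card_group H)
      fun h => hH (Subgroup.eq_top_of_card_eq _ h)) inferInstance _ hi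
      (fun h e => Subtype.ext (hfaith _ e)) n (by simpa using hn) p hp Q hQ)
  haveI : Nontrivial G := by
    by_contra h
    rw [not_nontrivial_iff_subsingleton] at h
    exact hP ⟨fun x hx g => by rw [Subsingleton.elim (g * x * g⁻¹) x]; exact hx⟩
  obtain ⟨L, hLn, hLp⟩ := exists_coatom_prime_index hsolv
  haveI := hLn
  haveI : Fintype L := Fintype.ofFinite L
  have hLne : L ≠ ⊤ := fun h => hLp.ne_one (by rw [h, Subgroup.index_top])
  have hidx : L.index = p := by
    by_contra hne
    refine hLne (hA L hLn fun x hx => ?_)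
    obtain ⟨k, hk⟩ := P.isPGroup' ⟨x, hx⟩
    have h1 : orderOf (QuotientGroup.mk' L x) ∣ p ^ k :=
      (orderOf_map_dvd _ _).trans (orderOf_dvd_of_pow_eq_one (congrArg Subtype.val hk))
    have h2 : orderOf (QuotientGroup.mk' L x) ∣ L.index := by
      rw [Subgroup.index_eq_card]; exact orderOf_dvd_natCard _
    have hco : Nat.Coprime (p ^ k) L.index := ((Nat.coprime_primes hp hLp).2 (Ne.symm hne)).pow_left k
    exact (QuotientGroup.eq_one_iff _).1 (orderOf_eq_one_iff.1 (Nat.eq_one_of_dvd_coprimes hco h1 h2))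
  -- the restriction to `L` is irreducible
  have hLi : IsIrrCharacter L (fun l : L => χ l) := by
    by_contra hred
    haveI hcyc : IsCyclic (G ⧸ L) :=
      isCyclic_of_prime_card (p := p) (by rw [← Subgroup.index_eq_card, hidx])
    have hab : ∀ a b : G ⧸ L, a * b = b * a := fun a b => by
      letI := hcyc.commGroup
      exact mul_comm a b
    have hnh : ¬ ∀ l : G →* ℂˣ, L ≤ l.ker → (∀ g, χ g ≠ 0 → l g = 1) → l = 1 := fun h =>
      hred (DegreeCongr.isIrr_res_of_forall_hom L hab hχ h)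
    push Not at hnh
    obtain ⟨l, hlL, hlχ, hl1⟩ := hnh
    have hker : l.ker = L := by
      rcases Nat.Prime.eq_one_or_self_of_dvd hLp _ (Subgroup.index_dvd_of_le hlL) with h | h
      · exact absurd (MonoidHom.ker_eq_top_iff.1 (Subgroup.index_eq_one.1 h)) hl1
      · exact (Subgroup.eq_of_le_of_card_ge hlL (by
          have e1 := L.card_mul_index
          rw [← l.ker.card_mul_index, h] at e1
          exact (Nat.eq_of_mul_eq_mul_right hLp.pos e1).ge)).symm
    haveI : Fintype (⊤ : Subgroup G) := Fintype.ofFinite _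
    have htop : IsIrrCharacter (⊤ : Subgroup G) (fun h : (⊤ : Subgroup G) => χ h) :=
      CharInduce.IsIrr.comp hχ (Subgroup.topEquiv (G := G)).toMonoidHom Subgroup.topEquiv.surjective
    have hnorm := DegreeCongr.norm_res_of_vanish ⊤ L le_top htop fun g _ hg => by
      by_contra h
      exact hg (hker ▸ hlχ g h)
    obtain ⟨θ, e, m, hθ, he0, -, hne2, -, hdeg⟩ := DegreeCongr.exists_norm_res L hχ
    rw [hne2, Subgroup.relIndex_top_right, hidx, Nat.cast_inj] at hnorm
    rw [hn, Nat.cast_inj] at hdeg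
    apply hgood (good_of_dvd hp ?_)
    have he1 : e = 1 := by
      rcases hp.eq_one_or_self_of_dvd e (hnorm ▸ Dvd.dvd.mul_right (dvd_pow_self e two_ne_zero) _) with h | h
      · exact h
      · exfalso
        rw [h] at hnorm
        have : 0 < (inertia L θ).index := Nat.pos_of_ne_zero fun h0 => by
          rw [h0, mul_zero] at hnorm; exact hp.ne_zero hnorm.symm
        have := hp.two_le
        nlinarith
    rw [he1, one_pow, one_mul] at hnorm
    rw [hdeg, he1, hnorm, one_mul]
    exact dvd_mul_right p m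
  -- `P₀ = P ∩ L`
  set P0 : Subgroup G := (P : Subgroup G) ⊓ L with hP0
  haveI : Fintype P0 := Fintype.ofFinite P0
  have hPLtop : (P : Subgroup G) ⊔ L = ⊤ := by
    rcases hLp.eq_one_or_self_of_dvd _
      (Subgroup.index_dvd_of_le (le_sup_right : L ≤ (P : Subgroup G) ⊔ L)) with h | h
    · exact Subgroup.index_eq_one.1 h
    · exfalso
      refine hLne (hA L hLn (le_sup_left.trans (le_of_eq (?_ : (P : Subgroup G) ⊔ L = L))))
      exact (Subgroup.eq_of_le_of_card_ge le_sup_right (by
        have e1 := ((P : Subgroup G) ⊔ L).card_mul_index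
        rw [← L.card_mul_index, h] at e1
        exact (Nat.eq_of_mul_eq_mul_right hLp.pos e1).le)).symm
  have hcardP : Nat.card (P : Subgroup G) = p * Nat.card P0 := by
    have h1 := card_mul_inf (P : Subgroup G) L
    rw [hPLtop, Subgroup.card_top, ← L.card_mul_index, hidx, ← hP0] at h1
    exact Nat.eq_of_mul_eq_mul_right Nat.card_pos (by rw [← h1]; ring : Nat.card (P : Subgroup G) * Nat.card L = p * Nat.card P0 * Nat.card L)
  have hP0L : P0 ≤ L := inf_le_right
  have hP0idx : ¬ p ∣ P0.relIndex L := by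
    intro hd
    have h1 := Subgroup.relIndex_mul_relIndex ⊥ P0 L bot_le hP0L
    rw [Subgroup.relIndex_bot_left, Subgroup.relIndex_bot_left] at h1
    have h2 := (P : Subgroup G).card_mul_index
    rw [← L.card_mul_index, hidx, ← h1, hcardP] at h2
    have h3 : (P : Subgroup G).index = P0.relIndex L :=
      Nat.eq_of_mul_eq_mul_left (Nat.mul_pos hp.pos Nat.card_pos) (h2.trans (by ring))
    exact P.not_dvd_index (h3 ▸ hd)
  haveI hP0n : P0.Normal := by
    have hpg : IsPGroup p ↥(P0.subgroupOf L) :=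
      (P.isPGroup'.to_le (inf_le_left : P0 ≤ _)).of_equiv (Subgroup.subgroupOfEquivOfLe hP0L).symm
    let Q : Sylow p L := hpg.toSylow hP0idx
    haveI : (Q : Subgroup L).Characteristic := Sylow.characteristic_of_normal Q (hB L hLne hLi Q)
    have hmap : (Q : Subgroup L).map L.subtype = P0 := Subgroup.map_subgroupOf_eq_of_le hP0L
    exact hmap ▸ ConjAct.normal_of_characteristic_of_normal
  have hP0ne : P0 ≠ L := fun h => by
    have hLP : L ≤ (P : Subgroup G) := h ▸ inf_le_left
    exact hP (by rw [show (P : Subgroup G) = ⊤ from (sup_eq_left.2 hLP).symm.trans hPLtop]; infer_instance)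
  -- a chief factor `L/M`
  obtain ⟨M, -, hMmax⟩ := Finite.exists_le_maximal
    (p := fun M : Subgroup G => M.Normal ∧ P0 ≤ M ∧ M < L) (a := P0)
    ⟨hP0n, le_rfl, lt_of_le_of_ne hP0L hP0ne⟩
  obtain ⟨⟨hMn, hP0M, hML⟩, hMmax'⟩ := hMmax
  haveI := hMn
  haveI : Fintype M := Fintype.ofFinite M
  have hmax : ∀ X : Subgroup G, X.Normal → M ≤ X → X ≤ L → X = M ∨ X = L := fun X hX h1 h2 => by
    by_cases h : X = L
    · exact Or.inr h
    · exact Or.inl (le_antisymm (hMmax' ⟨hX, hP0M.trans h1, lt_of_le_of_ne h2 h⟩ h1) h1)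
  set π := QuotientGroup.mk' M with hπ
  have hπs := QuotientGroup.mk'_surjective M
  set A := L.map π with hA'
  haveI hAn : A.Normal := hLn.map π hπs
  haveI : Fintype A := Fintype.ofFinite A
  have hcomap : A.comap π = L := by
    rw [hA', Subgroup.comap_map_eq, hπ, QuotientGroup.ker_mk', sup_eq_left.2 hML.le]
  have hAmin : ∀ X : Subgroup (G ⧸ M), X.Normal → X ≤ A → X = ⊥ ∨ X = A := fun X hX h => by
    rcases hmax (X.comap π) (hX.comap π)
      ((QuotientGroup.ker_mk' M).ge.trans (MonoidHom.ker_le_comap _ _))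
      (hcomap ▸ Subgroup.comap_mono h) with h1 | h1
    · left; rw [← Subgroup.map_comap_eq_self_of_surjective hπs X, h1, QuotientGroup.map_mk'_self]
    · right; rw [← Subgroup.map_comap_eq_self_of_surjective hπs X, h1]
  have hAne : A ≠ ⊥ := fun h => hML.not_ge (by
    rw [← hcomap, h]; simp [hπ])
  have hAcard : Nat.card A = M.relIndex L := by
    have hkc : Subgroup.comap π (⊥ : Subgroup (G ⧸ M)) = M := by
      rw [MonoidHom.comap_bot, hπ, QuotientGroup.ker_mk']
    rw [← Subgroup.relIndex_bot_left, hA', ← Subgroup.relIndex_comap, hkc]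
  have hAcomm : ⁅A, A⁆ = ⊥ := by
    rcases hAmin _ inferInstance (Subgroup.commutator_le_left A A) with h | h
    · exact h
    · exact absurd h (Group.IsSolvable.commutator_lt_of_ne_bot hAne).ne
  have hAc : ∀ a ∈ A, ∀ b ∈ A, a * b = b * a := fun a ha b hb =>
    (Subgroup.mem_centralizer_iff.1 ((Subgroup.commutator_eq_bot_iff_le_centralizer.1 hAcomm) hb) a ha)
  have hAp : ¬ p ∣ Nat.card A := fun h => hP0idx (by
    rw [← Subgroup.relIndex_mul_relIndex _ _ _ hP0M hML.le, ← hAcard]; exact h.mul_left _)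
  obtain ⟨q, hq, hqd⟩ := Nat.exists_prime_and_dvd (n := Nat.card A)
    (fun h => hAne (Subgroup.card_eq_one.1 h))
  have : Fact q.Prime := ⟨hq⟩
  have hAq : IsPGroup q A := by
    let W : Subgroup (G ⧸ M) :=
      { carrier := {z | z ∈ A ∧ z ^ q = 1}
        one_mem' := ⟨one_mem _, one_pow q⟩
        mul_mem' := fun {a b} ha hb => ⟨mul_mem ha.1 hb.1, by
          rw [(show Commute a b from hAc a ha.1 b hb.1).mul_pow, ha.2, hb.2, one_mul]⟩
        inv_mem' := fun {a} ha => ⟨inv_mem ha.1, by rw [inv_pow, ha.2, inv_one]⟩ }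
    have hWn : W.Normal := ⟨fun z hz g => ⟨hAn.conj_mem z hz.1 g, by
      rw [conj_pow, hz.2, mul_one, mul_inv_cancel]⟩⟩
    obtain ⟨a, ha⟩ := exists_prime_orderOf_dvd_card' q hqd
    rcases hAmin W hWn fun z hz => hz.1 with h | h
    · exfalso
      have h1 : (a : G ⧸ M) ∈ W :=
        ⟨a.2, by rw [← ha, ← Subgroup.orderOf_coe, pow_orderOf_eq_one]⟩
      rw [h, Subgroup.mem_bot] at h1
      rw [← Subgroup.orderOf_coe, h1, orderOf_one] at ha
      exact hq.one_lt.ne ha
    · intro z
      refine ⟨1, ?_⟩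
      have hz : (z : G ⧸ M) ∈ W := h.symm ▸ z.2
      rw [pow_one]
      exact Subtype.ext hz.2
  obtain ⟨a, hqa⟩ := IsPGroup.iff_card.1 hAq
  -- `|L : M| ≡ 1 (mod p)`
  have hmod : q ^ a ≡ 1 [MOD p] := by
    rw [← hqa]
    set B := (P : Subgroup G).map π with hB'
    let C : Subgroup (G ⧸ M) := A ⊓ Subgroup.centralizer (B : Set (G ⧸ M))
    have hAB : A ⊔ B = ⊤ := by
      rw [hA', hB', ← Subgroup.map_sup, sup_comm, hPLtop, Subgroup.map_top_of_surjective _ hπs]
    have hCn : C.Normal := by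
      rw [← Subgroup.normalizer_eq_top_iff, eq_top_iff, ← hAB, sup_le_iff]
      constructor
      · intro x hx
        rw [Subgroup.mem_normalizer_iff]
        intro c
        constructor
        · intro hc'
          rwa [hAc x hx c hc'.1, mul_inv_cancel_right]
        · intro hc'
          have hcA : c ∈ A := by
            simpa [mul_assoc] using mul_mem (mul_mem (inv_mem hx) hc'.1) hx
          rwa [hAc x hx c hcA, mul_inv_cancel_right] at hc'
      · intro x hx
        rw [Subgroup.mem_normalizer_iff]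
        intro c
        constructor
        · intro hc'
          rwa [Subgroup.mem_centralizer_iff.1 hc'.2 x hx, mul_inv_cancel_right]
        · intro hc'
          have h := Subgroup.mem_centralizer_iff.1 hc'.2 x⁻¹ (inv_mem hx)
          have hcx : x * c * x⁻¹ = c := by
            have h' := congrArg (fun t => x * t * x) h
            simp [mul_assoc] at h'
            rw [mul_assoc]; exact h'.symm
          rwa [hcx] at hc'
      
    rcases hAmin C hCn inf_le_left with h | h
    · let act : MulAction (P : Subgroup G) A :=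
        { smul := fun x a => ⟨π x * a * (π x)⁻¹, hAn.conj_mem _ a.2 _⟩
          one_smul := fun a => Subtype.ext (show π ((1 : (P : Subgroup G)) : G) * (a : G ⧸ M) *
            (π ((1 : (P : Subgroup G)) : G))⁻¹ = a by simp)
          mul_smul := fun x y a => Subtype.ext (show π ((x * y : (P : Subgroup G)) : G) * (a : G ⧸ M) *
            (π ((x * y : (P : Subgroup G)) : G))⁻¹ = π (x : G) * (π (y : G) * a * (π (y : G))⁻¹) *
              (π (x : G))⁻¹ by simp [mul_assoc]) }
      letI := act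
      refine (P.isPGroup'.card_modEq_card_fixedPoints A).trans ?_
      rw [Nat.card_eq_one_iff_unique.2 ⟨⟨fun u v => ?_⟩, ⟨⟨1, fun x => Subtype.ext (show
        π (x : G) * ((1 : A) : G ⧸ M) * (π (x : G))⁻¹ = ((1 : A) : G ⧸ M) by simp)⟩⟩⟩]
      have hfix : ∀ w : MulAction.fixedPoints (P : Subgroup G) A, (w : A) = 1 := fun w => by
        have : ((w : A) : G ⧸ M) ∈ C := by
          refine ⟨(w : A).2, Subgroup.mem_centralizer_iff.2 ?_⟩
          rintro _ ⟨x, hx, rfl⟩
          have h1 : π x * ((w : A) : G ⧸ M) * (π x)⁻¹ = ((w : A) : G ⧸ M) :=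
            congrArg Subtype.val (w.2 ⟨x, hx⟩)
          conv_rhs => rw [← h1]
          rw [inv_mul_cancel_right]
        rw [h, Subgroup.mem_bot] at this
        exact Subtype.ext this
      exact Subtype.ext ((hfix u).trans (hfix v).symm)
    · exfalso
      have hAB' : A ≤ Subgroup.centralizer (B : Set (G ⧸ M)) := inf_eq_left.1 h
      have hBn : B.Normal := by
        rw [← Subgroup.normalizer_eq_top_iff, eq_top_iff, ← hAB, sup_le_iff]
        exact ⟨hAB'.trans (Subgroup.centralizer_le_normalizer _), Subgroup.le_normalizer⟩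
      have h1 := hA (B.comap π) (hBn.comap π) (Subgroup.le_comap_map _ _)
      rw [← Subgroup.comap_top π] at h1
      have hBtop : B = ⊤ := Subgroup.comap_injective hπs h1
      have h2 : IsPGroup p A :=
        (P.isPGroup'.map π).to_le (show A ≤ B from hBtop ▸ le_top)
      obtain ⟨b, hb⟩ := IsPGroup.iff_card.1 h2
      rcases b with _ | b
      · exact hAne (Subgroup.card_eq_one.1 (by rw [hb, pow_zero]))
      · exact hAp (hb ▸ dvd_pow_self p b.succ_ne_zero)
  -- where `χ` lives on `L`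
  let S : Set G := {g | g ∈ M ∨ (g ∈ L ∧ χ g ≠ 0)}
  have hSconj : ∀ g ∈ S, ∀ x : G, x * g * x⁻¹ ∈ S := by
    rintro g (hg | ⟨hg, hg'⟩) x
    · exact Or.inl (hMn.conj_mem g hg x)
    · exact Or.inr ⟨hLn.conj_mem g hg x, by rwa [CharBasic.IsIrr.isClassFunction hχ g x]⟩
  let B := Subgroup.normalClosure S
  have hBS : B = Subgroup.closure S := by
    refine le_antisymm (Subgroup.closure_mono ?_) Subgroup.closure_le_normalClosure
    intro y hy
    obtain ⟨g, hg, hgy⟩ := Group.mem_conjugatesOfSet_iff.1 hy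
    obtain ⟨c, rfl⟩ := isConj_iff.1 hgy
    exact hSconj g hg c
  rcases hmax B Subgroup.normalClosure_normal
    (fun m hm => Subgroup.subset_normalClosure (Or.inl hm))
    (by rw [hBS, Subgroup.closure_le]; rintro g (hg | ⟨hg, -⟩); exacts [hML.le hg, hg]) with hBM | hBL
  · -- `χ` vanishes on `L ∖ M`
    have hnorm := DegreeCongr.norm_res_of_vanish L M hML.le hLi fun g hg hgM => by
      by_contra h
      exact hgM (hBM ▸ Subgroup.subset_normalClosure (Or.inr ⟨hg, h⟩))
    obtain ⟨θ, e, m, hθ, he0, hθe, hne2, -, hdeg⟩ := DegreeCongr.exists_norm_res M hχ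
    rw [hne2, ← hAcard, hqa, Nat.cast_inj] at hnorm
    rw [hn, Nat.cast_inj] at hdeg
    set T := inertia M θ with hT
    have hMT : M ≤ T := le_inertia M (CharBasic.IsIrr.isClassFunction hθ)
    have hθ0 : classInner (fun k : M => χ k) θ ≠ 0 := by
      rw [hθe]; exact Nat.cast_ne_zero.2 he0.ne'
    have htrans : ∀ x : G, ∃ l ∈ L, x * l⁻¹ ∈ T := fun x => by
      haveI : Fintype (M.subgroupOf L) := Fintype.ofFinite _
      let ε := Subgroup.subgroupOfEquivOfLe hML.le
      have h2 : classInner (fun k : M => χ k) (conjFun M θ x) ≠ 0 := by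
        rwa [classInner_res_conjFun M (CharBasic.IsIrr.isClassFunction hχ)]
      obtain ⟨l, hl⟩ := exists_conjFun_eq_of_constituent (M.subgroupOf L) hLi
        (χ := fun k => θ (ε k)) (ψ := fun k => conjFun M θ x (ε k))
        (CharInduce.IsIrr.comp hθ ε.toMonoidHom ε.surjective)
        (CharInduce.IsIrr.comp (isIrrCharacter_conjFun M hθ x) ε.toMonoidHom ε.surjective)
        (by rw [← classInner_comp_mulEquiv ε] at hθ0; exact hθ0)
        (by rw [← classInner_comp_mulEquiv ε] at h2; exact h2)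
      refine ⟨l, l.2, (conjFun_eq_iff M θ x l).1 (funext fun k => ?_)⟩
      obtain ⟨k, rfl⟩ := ε.surjective k
      rw [congrFun hl k]
      rfl
    have hTL : T ⊔ L = ⊤ := by
      rw [eq_top_iff]
      intro x _
      obtain ⟨l, hl, hx⟩ := htrans x
      simpa using mul_mem (Subgroup.mem_sup_left hx : x * l⁻¹ ∈ T ⊔ L) (Subgroup.mem_sup_right hl)
    have hTn : (T ⊓ L).Normal := by
      rw [← Subgroup.normalizer_eq_top_iff, eq_top_iff, ← hTL, sup_le_iff]
      constructor
      · intro x hx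
        rw [Subgroup.mem_normalizer_iff]
        intro g
        refine ⟨fun hg => Subgroup.mem_inf.2 ⟨mul_mem (mul_mem hx hg.1) (inv_mem hx), hLn.conj_mem g hg.2 x⟩,
          fun hg => Subgroup.mem_inf.2 ⟨?_, ?_⟩⟩
        · simpa [mul_assoc] using mul_mem (mul_mem (inv_mem hx) hg.1) hx
        · simpa [mul_assoc] using hLn.conj_mem _ hg.2 x⁻¹
      · intro x hx
        rw [Subgroup.mem_normalizer_iff]
        have key : ∀ g ∈ L, ∀ y ∈ L, g ∈ T → y * g * y⁻¹ ∈ T ⊓ L := fun g hg y hy hgT => by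
          refine Subgroup.mem_inf.2 ⟨?_, mul_mem (mul_mem hy hg) (inv_mem hy)⟩
          have h0 : π g * π y = π y * π g := hAc _ ⟨g, hg, rfl⟩ _ ⟨y, hy, rfl⟩
          have h1 : y * g * y⁻¹ * g⁻¹ ∈ M := by
            refine (QuotientGroup.eq_one_iff _).1 ?_
            show π (y * g * y⁻¹ * g⁻¹) = 1
            rw [map_mul, map_mul, map_mul, map_inv, map_inv, ← h0]; group
          simpa using mul_mem (hMT h1) hgT
        intro g
        refine ⟨fun hg => key g hg.2 x hx hg.1, fun hg => ?_⟩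
        simpa [mul_assoc] using key _ hg.2 x⁻¹ (inv_mem hx) hg.1
    have hTidx : T.index = (T ⊓ L).relIndex L := by
      have h1 := card_mul_inf T L
      rw [hTL, Subgroup.card_top] at h1
      have h2 := Subgroup.relIndex_mul_relIndex ⊥ (T ⊓ L) L bot_le inf_le_right
      rw [Subgroup.relIndex_bot_left, Subgroup.relIndex_bot_left] at h2
      rw [← T.card_mul_index, ← h2] at h1
      exact Nat.eq_of_mul_eq_mul_left (Nat.mul_pos Nat.card_pos Nat.card_pos)
        (show Nat.card T * Nat.card ↥(T ⊓ L) * T.index = Nat.card T * Nat.card ↥(T ⊓ L) * (T ⊓ L).relIndex L by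
          rw [mul_right_comm, h1]; ring)
    have ha1 : q ^ a ≠ 1 := fun h => hAne (Subgroup.card_eq_one.1 (hqa.trans h))
    apply hgood
    rcases hmax (T ⊓ L) hTn (le_inf hMT hML.le) inf_le_right with h | h
    · refine good_of_sq (r := q ^ a) hq dvd_rfl ha1 ?_ (by simpa using hmod.mul hmod)
      rw [hdeg, hTidx, h, ← hAcard, hqa]
      exact (dvd_mul_left _ _).mul_right m
    · rw [hTidx, h, Subgroup.relIndex_self, mul_one, sq] at hnorm
      refine good_of_sq (r := e) hq ⟨e, hnorm.symm⟩ (fun h => ha1 (by rw [← hnorm, h, one_mul])) ?_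
        (hnorm ▸ hmod)
      rw [hdeg, mul_assoc]; exact dvd_mul_right _ _
  -- `χ` is irreducible on `M`
  have hMi : IsIrrCharacter M (fun k : M => χ k) := by
    haveI : Fintype (M.subgroupOf L) := Fintype.ofFinite _
    have hab : ∀ u v : L ⧸ M.subgroupOf L, u * v = v * u := by
      intro u v
      induction u using QuotientGroup.induction_on with
      | H u =>
        induction v using QuotientGroup.induction_on with
        | H v =>
          refine (QuotientGroup.eq).2 ?_
          rw [Subgroup.mem_subgroupOf]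
          refine (QuotientGroup.eq_one_iff _).1 ?_
          show π ((((u * v)⁻¹ * (v * u) : L) : G)) = 1
          push_cast
          have h0 : π (u : G) * π (v : G) = π (v : G) * π (u : G) :=
            hAc _ ⟨_, u.2, rfl⟩ _ ⟨_, v.2, rfl⟩
          rw [map_mul, map_inv, map_mul, map_mul, h0, inv_mul_cancel]
    have h := DegreeCongr.isIrr_res_of_forall_hom (M.subgroupOf L) hab hLi fun l hl hl' => by
      ext x
      have hx : (x : G) ∈ (l.ker).map L.subtype := by
        have hle : B ≤ (l.ker).map L.subtype := by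
          rw [hBS, Subgroup.closure_le]
          rintro g (hg | ⟨hg, hg'⟩)
          · exact ⟨⟨g, hML.le hg⟩, hl (show (⟨g, hML.le hg⟩ : L) ∈ M.subgroupOf L from hg), rfl⟩
          · exact ⟨⟨g, hg⟩, hl' ⟨g, hg⟩ hg', rfl⟩
        exact hle (hBL.symm ▸ x.2)
      obtain ⟨y, hy, hyx⟩ := hx
      rw [show x = y from Subtype.ext hyx.symm, MonoidHom.mem_ker.1 hy]
      rfl
    exact CharInduce.IsIrr.comp h (Subgroup.subgroupOfEquivOfLe hML.le).symm.toMonoidHom
      (Subgroup.subgroupOfEquivOfLe hML.le).symm.surjective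
  -- `P` is normal in `MP`
  set U : Subgroup G := (P : Subgroup G) ⊔ M with hU
  have hUne : U ≠ ⊤ := fun h => by
    have h1 := card_mul_inf (P : Subgroup G) M
    rw [show (P : Subgroup G) ⊓ M = P0 from le_antisymm (inf_le_inf_left _ hML.le)
      (le_inf inf_le_left hP0M), ← hU, h, Subgroup.card_top, ← L.card_mul_index, hidx, hcardP] at h1
    have h2 : Nat.card L = Nat.card M :=
      Nat.eq_of_mul_eq_mul_left (Nat.mul_pos hp.pos (Nat.card_pos (α := P0)))
        (show p * Nat.card P0 * Nat.card L = p * Nat.card P0 * Nat.card M by rw [← h1]; ring)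
    exact hML.ne (Subgroup.eq_of_le_of_card_ge hML.le h2.le)
  haveI : Fintype U := Fintype.ofFinite U
  have hUi : IsIrrCharacter U (fun h : U => χ h) := by
    haveI : Fintype (M.subgroupOf U) := Fintype.ofFinite _
    exact DegreeCongr.isIrr_of_res (N := M.subgroupOf U) (CharInduce.IsChar.res hc U)
      (CharInduce.IsIrr.comp hMi (Subgroup.subgroupOfEquivOfLe (le_sup_right : M ≤ U)).toMonoidHom
        (Subgroup.subgroupOfEquivOfLe (le_sup_right : M ≤ U)).surjective)
  have hPU : (P : Subgroup G) ≤ U := le_sup_left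
  have hMP : ∀ k ∈ M, ∀ y ∈ (P : Subgroup G), k * y * k⁻¹ ∈ (P : Subgroup G) := fun k hk y hy => by
    have hn' := hB U hUne hUi (P.subtype hPU)
    rw [Sylow.coe_subtype] at hn'
    exact hn'.conj_mem ⟨y, hPU hy⟩ hy ⟨k, Subgroup.mem_sup_right hk⟩
  -- `M / P₀` is central
  set ρ := QuotientGroup.mk' P0 with hρ
  have hMcent : ∀ g : G, ∀ k ∈ M, g * k * g⁻¹ * k⁻¹ ∈ P0 := by
    haveI : (M.map ρ).Normal := hMn.map ρ (QuotientGroup.mk'_surjective P0)
    have hCtop := hA ((Subgroup.centralizer (M.map ρ : Set (G ⧸ P0))).comap ρ)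
      ((inferInstance : (Subgroup.centralizer (M.map ρ : Set (G ⧸ P0))).Normal).comap ρ) (by
        intro y hy
        rw [Subgroup.mem_comap, Subgroup.mem_centralizer_iff]
        rintro _ ⟨k, hk, rfl⟩
        have h1 : k * y * k⁻¹ * y⁻¹ ∈ P0 := by
          refine Subgroup.mem_inf.2 ⟨mul_mem (hMP k hk y hy) (inv_mem hy), hML.le ?_⟩
          rw [show k * y * k⁻¹ * y⁻¹ = k * (y * k⁻¹ * y⁻¹) by group]
          exact mul_mem hk (hMn.conj_mem _ (inv_mem hk) y)
        have h2 : ρ (k * y * k⁻¹ * y⁻¹) = 1 := (QuotientGroup.eq_one_iff _).2 h1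
        simp only [map_mul, map_inv] at h2
        exact mul_inv_eq_iff_eq_mul.1 (mul_inv_eq_one.1 h2))
    intro g k hk
    have hg : ρ g ∈ Subgroup.centralizer (M.map ρ : Set (G ⧸ P0)) :=
      Subgroup.mem_comap.1 (hCtop.symm ▸ Subgroup.mem_top g)
    refine (QuotientGroup.eq_one_iff _).1 ?_
    show ρ (g * k * g⁻¹ * k⁻¹) = 1
    simp only [map_mul, map_inv]
    rw [← Subgroup.mem_centralizer_iff.1 hg (ρ k) ⟨k, hk, rfl⟩]
    group
  -- constituents on `P₀`
  obtain ⟨θ, e, m, hθ, he0, hθe, -, hθ1, hdeg⟩ := DegreeCongr.exists_norm_res P0 hχ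
  rw [hn, Nat.cast_inj] at hdeg
  have hm1 : m = 1 := by
    obtain ⟨d, -, hd, hdvd, -⟩ := CharBasic.IsIrr.degree_dvd hθ
    rw [hθ1, Nat.cast_inj] at hd
    obtain ⟨b, hb⟩ := IsPGroup.iff_card.1 (P.isPGroup'.to_le (inf_le_left : P0 ≤ _))
    rw [hb, ← hd] at hdvd
    obtain ⟨c, -, hc'⟩ := (Nat.dvd_prime_pow hp).1 hdvd
    rcases c with _ | c
    · exact hc'.trans (pow_zero p)
    · exfalso
      refine hgood (good_of_dvd hp ?_)
      rw [hdeg, hc']
      exact (dvd_pow_self p c.succ_ne_zero).mul_left _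
  obtain ⟨lam, hlam⟩ := CharInduce.IsChar.exists_hom_of_degree_one (CharBasic.IsIrr.isCharacter hθ)
    (by rw [hθ1, hm1, Nat.cast_one])
  set T := inertia P0 θ with hT
  have hθ0 : classInner (fun k : P0 => χ k) θ ≠ 0 := by
    rw [hθe]; exact Nat.cast_ne_zero.2 he0.ne'
  have hTM : ∀ g : G, ∃ k ∈ M, g * k⁻¹ ∈ T := fun g => by
    obtain ⟨k, hk, hk'⟩ := DegreeCongr.exists_conjFun_eq_mem M P0 hP0M hMi hθ
      (isIrrCharacter_conjFun P0 hθ g) hθ0
      (by rwa [classInner_res_conjFun P0 (CharBasic.IsIrr.isClassFunction hχ)])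
    exact ⟨k, hk, (conjFun_eq_iff P0 θ g k).1 hk'⟩
  have hTtop : T = ⊤ := by
    have htidx : ¬ p ∣ T.index := fun h => hgood (good_of_dvd hp (by
      rw [hdeg]; exact (h.mul_left e).mul_right m))
    obtain ⟨g, hg⟩ : ∃ g : G, ∀ y ∈ (P : Subgroup G), g * y * g⁻¹ ∈ T := by
      obtain ⟨Q0⟩ := (inferInstance : Nonempty (Sylow p T))
      have hQ0 : IsPGroup p ↥((Q0 : Subgroup T).map T.subtype) := Q0.isPGroup'.map _
      have hidx0 : ¬ p ∣ ((Q0 : Subgroup T).map T.subtype).index := by
        rw [Subgroup.index_map_subtype]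
        exact fun h => (hp.dvd_mul.1 h).elim Q0.not_dvd_index htidx
      obtain ⟨g, hg⟩ := MulAction.exists_smul_eq G P (hQ0.toSylow hidx0)
      refine ⟨g, fun y hy => ?_⟩
      have hmem : g * y * g⁻¹ ∈ ((g • P : Sylow p G) : Subgroup G) := by
        rw [Sylow.coe_subgroup_smul]
        exact Subgroup.smul_mem_pointwise_smul y (MulAut.conj g) _ hy
      rw [hg] at hmem
      exact Subgroup.map_subtype_le _ hmem
    obtain ⟨k, hk, hgk⟩ := hTM g
    have hPT : ∀ y ∈ (P : Subgroup G), y ∈ T := fun y hy => by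
      have hy' : k⁻¹ * y * k ∈ (P : Subgroup G) := by simpa using hMP k⁻¹ (inv_mem hk) y hy
      have h1 := mul_mem (mul_mem (inv_mem hgk) (hg _ hy')) hgk
      simpa [mul_assoc] using h1
    have hall : ∀ y ∈ (P : Subgroup G), ∀ x : G, x * y * x⁻¹ ∈ T := fun y hy x => by
      obtain ⟨k', hk', hxk⟩ := hTM x
      have h1 := mul_mem (mul_mem hxk (hPT _ (hMP k' hk' y hy))) (inv_mem hxk)
      simpa [mul_assoc] using h1
    refine top_le_iff.1 ?_
    rw [← hA (Subgroup.normalClosure (P : Set G)) Subgroup.normalClosure_normal Subgroup.subset_normalClosure]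
    refine (Subgroup.closure_le _).2 fun y hy => ?_
    obtain ⟨y₀, hy₀, hc'⟩ := Group.mem_conjugatesOfSet_iff.1 hy
    obtain ⟨x, rfl⟩ := isConj_iff.1 hc'
    exact hall y₀ hy₀ x
  have hP0c : ∀ z ∈ P0, ∀ g : G, g * z = z * g := fun z hz g => by
    have hinv : ∀ x : G, conjFun P0 θ x = θ := fun x => (mem_inertia P0).1 (show x ∈ T by rw [hTtop]; exact Subgroup.mem_top x)
    have hres := res_eq_smul_of_invariant P0 hχ hθ hinv hθ0
    set u : P0 := ⟨g * z * g⁻¹, hP0n.conj_mem z hz g⟩ * ⟨z, hz⟩⁻¹ with hu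
    have hθu : θ u = θ 1 := by
      have h1 : θ ⟨g * z * g⁻¹, hP0n.conj_mem z hz g⟩ = θ ⟨z, hz⟩ :=
        congrFun (hinv g) ⟨z, hz⟩
      simp only [hlam] at h1 ⊢
      rw [hu, map_mul, map_inv, Units.val_inj.1 h1, mul_inv_cancel, map_one]
    have h2 : χ (u : G) = χ ((1 : P0) : G) := by
      have e1 := congrFun hres u
      have e2 := congrFun hres 1
      simp only [Pi.smul_apply, smul_eq_mul] at e1 e2
      rw [e1, e2, hθu]
    have h3 := hfaith _ h2
    simp only [hu, Subgroup.coe_mul, InvMemClass.coe_inv, mul_inv_eq_one] at h3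
    exact mul_inv_eq_iff_eq_mul.1 h3
  -- `M` is abelian, so `χ` is linear
  have hMab : ∀ u v : M, u * v = v * u := by
    rintro ⟨u, hu⟩ ⟨v, hv⟩
    refine Subtype.ext ?_
    show u * v = v * u
    set w := u * v * u⁻¹ * v⁻¹ with hw
    have hwP : w ∈ P0 := hMcent u v hv
    have hwc : ∀ g : G, g * w = w * g := hP0c w hwP
    have hpow : ∀ k : ℕ, u ^ k * v = w ^ k * v * u ^ k := by
      intro k
      induction k with
      | zero => simp
      | succ k ih =>
        have huw : u ^ k * w = w * u ^ k := hwc _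
        calc u ^ (k + 1) * v = u ^ k * (u * v) := by rw [pow_succ, mul_assoc]
          _ = u ^ k * (w * (v * u)) := by rw [hw]; group
          _ = w * (u ^ k * v) * u := by rw [← mul_assoc, huw]; group
          _ = w ^ (k + 1) * v * u ^ (k + 1) := by rw [ih, pow_succ' w, pow_succ u]; group
    set k := P0.relIndex M with hk
    have huk : u ^ k ∈ P0 := by
      have := Subgroup.pow_index_mem (P0.subgroupOf M) (⟨u, hu⟩ : M)
      rw [Subgroup.mem_subgroupOf] at this
      simpa [hk, Subgroup.relIndex] using this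
    have hwk : w ^ k = 1 := by
      have := hpow k
      rw [← hP0c _ huk v] at this
      exact mul_eq_right.1 (mul_right_cancel this).symm
    obtain ⟨b, hb⟩ := P.isPGroup'.to_le (inf_le_left : P0 ≤ _) ⟨w, hwP⟩
    have hco : Nat.Coprime (p ^ b) k := by
      refine ((hp.coprime_iff_not_dvd).2 fun h => hP0idx ?_).pow_left b
      rw [← Subgroup.relIndex_mul_relIndex _ _ _ hP0M hML.le]; exact h.mul_right _
    have hw1 : w = 1 := orderOf_eq_one_iff.1 (Nat.eq_one_of_dvd_coprimes hco
      (orderOf_dvd_of_pow_eq_one (congrArg Subtype.val hb)) (orderOf_dvd_of_pow_eq_one hwk))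
    rw [hw, mul_inv_eq_one] at hw1
    calc u * v = u * v * u⁻¹ * u := by group
      _ = v * u := by rw [hw1]
  have hn1 : χ 1 = 1 := by
    have := (commutative_iff_forall_linear (G := M)).1 hMab ⟨_, hMi⟩
    simpa using this
  obtain ⟨lχ, hlχ⟩ := CharInduce.IsChar.exists_hom_of_degree_one hc hn1
  apply hP
  refine ⟨fun y hy g => ?_⟩
  have h1 : g * y * g⁻¹ * y⁻¹ = 1 := hfaith _ (by
    simp only [hlχ]
    rw [map_mul, map_mul, map_mul, map_inv, map_inv, map_one, mul_comm (lχ g), mul_inv_cancel_right,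
      mul_inv_cancel])
  rw [mul_inv_eq_one] at h1
  rwa [h1]

end step

theorem holds : ∀ (N : ℕ) (G : Type u) [Group G] [Finite G], Nat.card G = N → Holds G := by
  intro N
  induction N using Nat.strong_induction_on with
  | _ N ih =>
    intro G _ _ hN
    haveI := Fintype.ofFinite G
    exact good_step fun H _ _ hlt => ih _ (hN ▸ hlt) H rfl

/-- Let the finite solvable group G have a faithful irreducible character of degree n, and suppose that for the prime p a Sylow p-subgroup of G is not normal. Then n is divisible by a prime power q > 1 with q congruent to −1, 0 or 1 modulo p. -/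
theorem result {G : Type*} [Group G] [Finite G] (χ : Cfsg.IrrCharacter G) (hfaith : ∀ g : G, (χ : G → ℂ) g = (χ : G → ℂ) 1 → g = 1) (n : ℕ) (hn : Cfsg.charDegree (χ : G → ℂ) = n) (hsolv : Group.IsSolvable G) (p : ℕ) (hp : p.Prime) (P : Sylow p G) (hP : ¬ (P : Subgroup G).Normal) : ∃ q : ℕ, IsPrimePow q ∧ q ∣ n ∧ ((q : ℤ) ≡ -1 [ZMOD p] ∨ (q : ℤ) ≡ 0 [ZMOD p] ∨ (q : ℤ) ≡ 1 [ZMOD p]) := by
  have hn' : (χ : G → ℂ) 1 = n := by
    obtain ⟨m, -, hm⟩ := CharBasic.IsIrr.exists_degree χ.2
    rw [hm, ← hn]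
    simp [Cfsg.charDegree, hm]
  exact holds _ G rfl hsolv _ χ.2 hfaith n hn' p hp P hP

end Cfsg.Agent.S4467
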