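import Cfsg.Statements.S4468
import Cfsg.Agent.S4467
import Cfsg.Agent.H31.FFAmbient
import Cfsg.Agent.Coprime.Action
import Cfsg.Agent.Coprime.Basic
import Cfsg.Agent.S0144
import Cfsg.Agent.Cores.PCore


set_option autoImplicit false
open Cfsg

namespace Cfsg.Agent.S4468

open Cfsg.Agent.CharBasic Cfsg.Agent.CharInduce Cfsg.Agent.H48

universe u

/-- A faithful character of a soluble group with non-normal Sylow subgroup has an irreducible
constituent whose degree has the prime power divisor. -/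
theorem exists_good_constituent {H : Type u} [Group H] [Fintype H] (hsolv : Group.IsSolvable H)
    {ψ : H → ℂ} (hψ : IsCharacter H ψ) (hfaith : ∀ g, ψ g = ψ 1 → g = 1) {p : ℕ} (hp : p.Prime)
    (P : Sylow p H) (hP : ¬ (P : Subgroup H).Normal) :
    ∃ (θ : IrrCharacter H) (m : ℕ), classInner ψ (θ : H → ℂ) ≠ 0 ∧ (θ : H → ℂ) 1 = m ∧
      Cfsg.Agent.S4467.Good m p := by
  classical
  have : Fact p.Prime := ⟨hp⟩
  by_contra hgood
  push Not at hgood
  have hall : ∀ θ : IrrCharacter H, classInner ψ (θ : H → ℂ) ≠ 0 →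
      ∃ K : Subgroup H, K.Normal ∧ (∀ l, l ∈ K ↔ (θ : H → ℂ) l = (θ : H → ℂ) 1) ∧
        ((P : Subgroup H) ⊔ K).Normal := by
    intro θ hθ
    obtain ⟨K, hK, hmem, -⟩ := CharBasic.IsChar.exists_kernel (CharBasic.IsIrr.isCharacter θ.2)
    refine ⟨K, hK, hmem, ?_⟩
    by_contra hbad
    obtain ⟨m, -, hm⟩ := CharBasic.IsIrr.exists_degree θ.2
    refine hgood θ m hθ hm ?_
    obtain ⟨η, -, hη, hηi⟩ := CharInduce.IsChar.exists_deflate (CharBasic.IsIrr.isCharacter θ.2) K
      fun k hk => (hmem k).1 hk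
    haveI := hsolv
    refine Cfsg.Agent.S4467.holds _ (H ⧸ K) rfl inferInstance η (hηi θ.2) (fun x hx => ?_) m
      (by rw [← hm]; exact (hη 1).symm) p hp (P.mapSurjective (QuotientGroup.mk'_surjective K)) ?_
    · induction x using QuotientGroup.induction_on with
      | H l =>
        refine (QuotientGroup.eq_one_iff l).2 ((hmem l).2 ?_)
        rw [hη l, hη 1]; exact hx
    · intro hN
      apply hbad
      have h1 := hN.comap (QuotientGroup.mk' K)
      rwa [Sylow.coe_mapSurjective, Subgroup.comap_map_eq, QuotientGroup.ker_mk'] at h1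
  choose K hKn hKmem hKsup using hall
  let W : Subgroup H := ⨅ θ : {θ : IrrCharacter H // classInner ψ (θ : H → ℂ) ≠ 0},
    (P : Subgroup H) ⊔ K θ.1 θ.2
  have hWn : W.Normal := Subgroup.normal_iInf_normal fun θ => hKsup θ.1 θ.2
  have hWp : IsPGroup p W := by
    rw [IsPGroup.iff_card]
    refine ⟨_, Nat.eq_prime_pow_of_unique_prime_dvd Nat.card_pos.ne' fun {r} hr hrd => ?_⟩
    by_contra hrp
    have : Fact r.Prime := ⟨hr⟩
    obtain ⟨w, hw⟩ := exists_prime_orderOf_dvd_card' r hrd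
    have hw1 : (w : H) = 1 := by
      have hwK : ∀ (θ : IrrCharacter H) (hθ : classInner ψ (θ : H → ℂ) ≠ 0),
          (θ : H → ℂ) (w : H) = (θ : H → ℂ) 1 := fun θ hθ => by
        refine (hKmem θ hθ _).1 ?_
        haveI := hKn θ hθ
        have hm : (w : H) ∈ (P : Subgroup H) ⊔ K θ hθ := (Subgroup.mem_iInf.1 w.2) ⟨θ, hθ⟩
        have h2 : QuotientGroup.mk' (K θ hθ) (w : H) ∈
            (P : Subgroup H).map (QuotientGroup.mk' (K θ hθ)) := by
          have := Subgroup.mem_map_of_mem (QuotientGroup.mk' (K θ hθ)) hm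
          rwa [Subgroup.map_sup, QuotientGroup.map_mk'_self, sup_bot_eq] at this
        obtain ⟨y, hy⟩ := (P.isPGroup'.map (QuotientGroup.mk' (K θ hθ))) ⟨_, h2⟩
        have h3 : orderOf (QuotientGroup.mk' (K θ hθ) (w : H)) ∣ p ^ y :=
          orderOf_dvd_of_pow_eq_one (congrArg Subtype.val hy)
        have h4 : orderOf (QuotientGroup.mk' (K θ hθ) (w : H)) ∣ r := by
          rw [← hw, ← Subgroup.orderOf_coe w]; exact orderOf_map_dvd _ _
        have hco : Nat.Coprime (p ^ y) r := ((Nat.coprime_primes hp hr).2 (Ne.symm hrp)).pow_left y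
        exact (QuotientGroup.eq_one_iff _).1 (orderOf_eq_one_iff.1 (Nat.eq_one_of_dvd_coprimes hco h3 h4))
      have hexp := classFunction_expansion (CharBasic.IsChar.isClassFunction hψ)
      refine hfaith _ ?_
      rw [hexp]
      simp only [Finset.sum_apply, Pi.smul_apply, smul_eq_mul]
      refine Finset.sum_congr rfl fun θ _ => ?_
      by_cases hθ : classInner ψ (θ : H → ℂ) = 0
      · rw [hθ, zero_mul, zero_mul]
      · rw [hwK θ hθ]
    rw [← Subgroup.orderOf_coe w, hw1, orderOf_one] at hw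
    exact hr.one_lt.ne hw
  have hPW : W = (P : Subgroup H) := P.is_maximal' hWp (le_iInf fun θ => le_sup_left)
  exact hP (hPW ▸ hWn)

/-- A soluble `{p, q}`-subgroup keeping the Sylow subgroup non-normal. -/
theorem exists_solvable {G : Type u} [Group G] [Finite G] {p : ℕ} [Fact p.Prime]
    (hsolv : IsPSolvable p G) (P : Sylow p G) (hP : ¬ (P : Subgroup G).Normal) :
    ∃ (U : Subgroup G) (h : (P : Subgroup G) ≤ U), Group.IsSolvable U ∧
      ¬ (P.subtype h : Subgroup U).Normal := by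
  classical
  have hp : p.Prime := Fact.out
  set π := QuotientGroup.mk' (pCore p G) with hπ
  have hπs := QuotientGroup.mk'_surjective (pCore p G)
  set K := pPrimeCore p (G ⧸ pCore p G) with hK
  set B := (P : Subgroup G).map π with hB
  have hBp : IsPGroup p B := P.isPGroup'.map π
  have hBK : B ≤ Subgroup.normalizer (K : Set (G ⧸ pCore p G)) := by
    rw [Subgroup.normalizer_eq_top]; exact le_top
  have hcop : (Nat.card B).Coprime (Nat.card K) := by
    obtain ⟨j, hj⟩ := IsPGroup.iff_card.1 hBp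
    rw [hj]; exact (Cores.coprime_card_pPrimeCore.symm).pow_left j
  have hBs : Group.IsSolvable B := by
    haveI := hBp.isNilpotent
    infer_instance
  obtain ⟨q, hq, Q, hQi, hQc⟩ : ∃ q : ℕ, ∃ _ : Fact q.Prime, ∃ Q : Sylow q K,
      B ≤ Subgroup.normalizer (((Q : Subgroup K).map K.subtype : Subgroup (G ⧸ pCore p G)) : Set (G ⧸ pCore p G)) ∧
      ¬ ((Q : Subgroup K).map K.subtype ≤ Subgroup.centralizer (B : Set (G ⧸ pCore p G))) := by
    by_contra hcon
    push Not at hcon
    have hKc : K ≤ Subgroup.centralizer (B : Set (G ⧸ pCore p G)) := by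
      rw [← Subgroup.subgroupOf_eq_top]
      refine Subgroup.eq_top_of_card_eq _ (Nat.dvd_antisymm (Subgroup.card_subgroup_dvd_card _) ?_)
      rw [← Nat.factorization_prime_le_iff_dvd Nat.card_pos.ne' Nat.card_pos.ne']
      intro q hq
      have : Fact q.Prime := ⟨hq⟩
      obtain ⟨Q, hQ⟩ := Coprime.exists_invariant_sylow hBK hcop (Or.inl hBs) q
      rw [← hq.pow_dvd_iff_le_factorization Nat.card_pos.ne', ← Q.card_eq_multiplicity]
      refine Subgroup.card_dvd_of_le ?_
      intro x hx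
      exact Subgroup.mem_subgroupOf.2 (hcon q this Q hQ ⟨x, hx, rfl⟩)
    have hO : pCore p (G ⧸ pCore p G) = ⊥ := Cores.pCore_quotient_pCore
    have hle : B ≤ K := le_trans (fun b hb => Subgroup.mem_centralizer_iff.2 fun k hk =>
        (Subgroup.mem_centralizer_iff.1 (hKc hk) b hb).symm)
      (Cfsg.Agent.H31.FFAmb.centralizer_pPrimeCore_le (Cores.isPSolvable_quotient hsolv _) hO)
    have hBbot : B = ⊥ := by
      refine Subgroup.card_eq_one.1 (Nat.eq_one_of_dvd_coprimes hcop dvd_rfl ?_)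
      exact Subgroup.card_dvd_of_le hle
    rw [hB, Subgroup.map_eq_bot_iff, hπ, QuotientGroup.ker_mk'] at hBbot
    exact hP ((le_antisymm hBbot (Cores.pCore_le_sylow P)).symm ▸ (inferInstance : (pCore p G).Normal))
  set A := (Q : Subgroup K).map K.subtype with hA
  have hAq : IsPGroup q A := Q.isPGroup'.map _
  have hdisj : A ⊓ B = ⊥ := by
    refine Subgroup.card_eq_one.1 (Nat.eq_one_of_dvd_coprimes hcop.symm
      (Subgroup.card_dvd_of_le (inf_le_left.trans (Subgroup.map_subtype_le _)))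
      (Subgroup.card_dvd_of_le inf_le_right))
  have hPU : (P : Subgroup G) ≤ (A ⊔ B).comap π := fun y hy => Subgroup.mem_comap.2 (Subgroup.mem_sup_right ⟨y, hy, rfl⟩)
  refine ⟨(A ⊔ B).comap π, hPU, ?_, fun hn => hQc ?_⟩
  · obtain ⟨a, ha⟩ := IsPGroup.iff_card.1 (Cores.pCore_isPGroup (p := p) (G := G))
    obtain ⟨b, hb⟩ := IsPGroup.iff_card.1 hBp
    obtain ⟨c, hc⟩ := IsPGroup.iff_card.1 hAq
    refine Cfsg.Agent.S0144.result p q (a + b) c hp hq.out ?_
    have hsup := Coprime.card_sup hQi hdisj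
    have h1 := Subgroup.relIndex_mul_relIndex (⊥ : Subgroup G) (pCore p G) ((A ⊔ B).comap π) bot_le
      ((QuotientGroup.ker_mk' (pCore p G)).ge.trans (MonoidHom.ker_le_comap _ _))
    have h2 : (pCore p G).relIndex ((A ⊔ B).comap π) = Nat.card ↥(A ⊔ B) := by
      rw [← Cores.card_map_mk', Subgroup.map_comap_eq_self_of_surjective hπs]
    rw [Subgroup.relIndex_bot_left, Subgroup.relIndex_bot_left, h2, hsup, ha, hb, hc] at h1
    rw [← h1, pow_add]; ring
  · intro x hx
    obtain ⟨g, rfl⟩ := hπs x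
    have hgU : g ∈ (A ⊔ B).comap π := Subgroup.mem_comap.2 (Subgroup.mem_sup_left hx)
    rw [Subgroup.mem_centralizer_iff]
    rintro _ ⟨y, hy, rfl⟩
    rw [Sylow.coe_subtype] at hn
    have h1 : g * y * g⁻¹ ∈ (P : Subgroup G) := hn.conj_mem ⟨y, hPU hy⟩ hy ⟨g, hgU⟩
    have h2 : π g * π y * (π g)⁻¹ * (π y)⁻¹ ∈ A ⊓ B := by
      refine Subgroup.mem_inf.2 ⟨?_, ?_⟩
      · have h3 : π y * (π g)⁻¹ * (π y)⁻¹ ∈ A :=
          (Subgroup.mem_normalizer_iff.1 (hQi ⟨y, hy, rfl⟩) _).1 (inv_mem hx)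
        have := mul_mem hx h3
        simpa [mul_assoc, hπ] using this
      · have h3 : π (g * y * g⁻¹) ∈ B := ⟨_, h1, rfl⟩
        simp only [map_mul, map_inv] at h3
        exact mul_mem h3 (inv_mem ⟨y, hy, rfl⟩)
    rw [hdisj, Subgroup.mem_bot, mul_inv_eq_one] at h2
    exact (mul_inv_eq_iff_eq_mul.1 h2).symm

/-- Let the finite p-solvable group G have a faithful character χ of degree n ≤ p − 1 and suppose that a Sylow p-subgroup of G is not normal. Then n = p − 1, n is a power of 2, and χ is irreducible. -/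
theorem result {G : Type*} [Group G] [Finite G] (χ : G → ℂ) (hχ : Cfsg.IsCharacter G χ) (hfaith : ∀ g : G, χ g = χ 1 → g = 1) (n : ℕ) (hn : Cfsg.charDegree χ = n) (p : ℕ) (hp : p.Prime) (hsolv : Cfsg.IsPSolvable p G) (hnp : n + 1 ≤ p) (P : Sylow p G) (hP : ¬ (P : Subgroup G).Normal) : n + 1 = p ∧ (∃ k : ℕ, n = 2 ^ k) ∧ Cfsg.IsIrrCharacter G χ := by
  classical
  haveI := Fintype.ofFinite G
  have : Fact p.Prime := ⟨hp⟩
  obtain ⟨d, hd⟩ := CharBasic.IsChar.exists_degree hχ
  have hdn : d = n := by rw [← hn]; simp [Cfsg.charDegree, hd]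
  subst hdn
  obtain ⟨U, hPU, hUs, hUn⟩ := exists_solvable hsolv P hP
  haveI : Fintype U := Fintype.ofFinite U
  have hres : Cfsg.IsCharacter U (fun x : U => χ x) := CharInduce.IsChar.res hχ U
  obtain ⟨θ, m, hθ, hm, q, hq, hqm, hcong⟩ := exists_good_constituent hUs hres
    (fun x hx => Subtype.ext (hfaith _ hx)) hp (P.subtype hPU) hUn
  have hmd : m ≤ d := CharInduce.IsChar.degree_le_of_constituent hres θ.2 hθ hm (by simpa using hd)
  have hm0 : 0 < m := by
    obtain ⟨m', hm', hmm⟩ := CharBasic.IsIrr.exists_degree θ.2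
    rw [hm, Nat.cast_inj] at hmm
    omega
  have hqle : q ≤ m := Nat.le_of_dvd hm0 hqm
  have hq2 := hq.two_le
  have hqp : q + 1 = p := by
    rcases hcong with h | h | h
    · have h1 : (p : ℤ) ∣ ((q + 1 : ℕ) : ℤ) := by
        have := (Int.modEq_iff_dvd.1 h.symm)
        push_cast; simpa using this
      rw [Int.natCast_dvd_natCast] at h1
      exact le_antisymm (by omega) (Nat.le_of_dvd (by omega) h1)
    · exfalso
      rw [Int.modEq_zero_iff_dvd, Int.natCast_dvd_natCast] at h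
      exact absurd (Nat.le_of_dvd (by omega) h) (by omega)
    · exfalso
      have h1 : (p : ℤ) ∣ ((q - 1 : ℕ) : ℤ) := by
        have := (Int.modEq_iff_dvd.1 h.symm)
        rw [Nat.cast_sub (by omega : 1 ≤ q)]
        simpa using this
      rw [Int.natCast_dvd_natCast] at h1
      exact absurd (Nat.le_of_dvd (by omega) h1) (by omega)
  have hqd : q = d := by omega
  have hmd' : m = d := by omega
  refine ⟨by omega, ?_, ?_⟩
  · obtain ⟨r, k, hr, hk, rfl⟩ := (isPrimePow_nat_iff q).1 hq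
    have heven : Even (r ^ k) := by
      rcases hp.eq_two_or_odd' with h | h
      · omega
      · obtain ⟨t, ht⟩ := h; exact ⟨t, by omega⟩
    obtain ⟨hr2, -⟩ := Nat.even_pow.1 heven
    exact ⟨k, by rw [← hqd, (hr.even_iff.1 hr2)]⟩
  · obtain ⟨r, hr, he⟩ := CharInduce.IsChar.exists_eq_add hres θ.2 hθ
    have hr1 : r 1 = 0 := by
      have h1 := congrFun he 1
      rw [Pi.add_apply, hm, show ((1 : U) : G) = 1 from rfl, hd, hmd'] at h1
      exact left_eq_add.1 h1
    have hUi : Cfsg.IsIrrCharacter U (fun x : U => χ x) := by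
      rw [he, CharInduce.IsChar.eq_zero_of_one_eq_zero hr hr1, add_zero]; exact θ.2
    exact DegreeCongr.isIrr_of_res hχ hUi

end Cfsg.Agent.S4468
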