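import Cfsg.Statements.S4473
import Cfsg.Agent.CharInduce.Induce
import Cfsg.Agent.CharInduce.Ops
import Cfsg.Agent.CharBasic.Kernel
import Mathlib

set_option autoImplicit false
open Cfsg

namespace Cfsg.Agent.S4473

open Cfsg.Agent Module

universe u

variable {G : Type u} [Group G] [Fintype G]

/-- Klein's arithmetic, sorted. -/
theorem klein_sorted {N a b c x y z : ℕ} (hN : 2 ≤ N) (ha : a * x = N) (hb : b * y = N)
    (hc : c * z = N) (hx : 2 ≤ x) (hy : 2 ≤ y) (hz : 2 ≤ z) (hsum : a + b + c = N + 2)
    (hab : x ≤ y) (hbc : y ≤ z) :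
    (a = 2 ∨ b = 2 ∨ c = 2) ∨ N = 12 ∨ N = 24 ∨ N = 60 := by
  have hx2 : x = 2 := by
    by_contra h
    have h1 := Nat.mul_le_mul_left a (show 3 ≤ x by omega)
    have h2 := Nat.mul_le_mul_left b (show 3 ≤ y by omega)
    have h3 := Nat.mul_le_mul_left c (show 3 ≤ z by omega)
    omega
  subst hx2
  have hy3 : y ≤ 3 := by
    by_contra h
    have h2 := Nat.mul_le_mul_left b (show 4 ≤ y by omega)
    have h3 := Nat.mul_le_mul_left c (show 4 ≤ z by omega)
    omega
  rcases (show y = 2 ∨ y = 3 by omega) with rfl | rfl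
  · exact Or.inl (Or.inr (Or.inr (by omega)))
  · have hc6 : 6 * c = N + 12 := by omega
    have hz5 : z ≤ 5 := by
      by_contra h
      have := Nat.mul_le_mul_left c (show 6 ≤ z by omega)
      omega
    interval_cases z
    all_goals omega

/-- Klein's arithmetic. -/
theorem klein {N a b c x y z : ℕ} (hN : 2 ≤ N) (ha : a * x = N) (hb : b * y = N) (hc : c * z = N)
    (hx : 2 ≤ x) (hy : 2 ≤ y) (hz : 2 ≤ z) (hsum : a + b + c = N + 2) :
    (a = 2 ∨ b = 2 ∨ c = 2) ∨ N = 12 ∨ N = 24 ∨ N = 60 := by
  rcases le_total x y with h1 | h1 <;> rcases le_total y z with h2 | h2 <;>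
    rcases le_total x z with h3 | h3
  all_goals first
    | exact klein_sorted hN ha hb hc hx hy hz hsum h1 h2
    | (have := klein_sorted hN ha hc hb hx hz hy (by omega) h3 h2; omega)
    | (have := klein_sorted hN hb ha hc hy hx hz (by omega) h1 h3; omega)
    | (have := klein_sorted hN hb hc ha hy hz hx (by omega) h2 h3; omega)
    | (have := klein_sorted hN hc ha hb hz hx hy (by omega) h3 h1; omega)
    | (have := klein_sorted hN hc hb ha hz hy hx (by omega) h2 h1; omega)

/-- Two lines fixed by a subgroup of index at most `2` contradict primitivity. -/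
theorem not_two_lines {χ : G → ℂ} (ρ : Representation ℂ G (Fin 2 → ℂ)) (hρ : ρ.character = χ)
    (hirr : Cfsg.IsIrrCharacter G χ)
    (hprim : ∀ H : Subgroup G, H ≠ ⊤ → ∀ θ : H → ℂ, Cfsg.IsCharacter H θ → χ ≠ Cfsg.indFun H θ)
    {v w : Fin 2 → ℂ} (hvw : LinearIndependent ℂ ![v, w]) (H : Subgroup G) (hidx : H.index ≤ 2)
    (hv : ∀ g ∈ H, ∃ a : ℂ, ρ g v = a • v) (hw : ∀ g ∈ H, ∃ a : ℂ, ρ g w = a • w) : False := by
  classical
  haveI : Fintype H := Fintype.ofFinite H
  have hv0 : v ≠ 0 := by simpa using hvw.ne_zero 0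
  have hw0 : w ≠ 0 := by simpa using hvw.ne_zero 1
  have mk : ∀ (v : Fin 2 → ℂ), v ≠ 0 → (∀ g ∈ H, ∃ a : ℂ, ρ g v = a • v) →
      ∃ θ : H →* ℂˣ, ∀ h : H, ρ h v = (θ h : ℂ) • v := by
    intro v hv0 hv
    choose a ha using hv
    let θ0 : H →* ℂ :=
      { toFun := fun h => a h h.2
        map_one' := smul_left_injective ℂ hv0 (by
          show a _ _ • v = (1 : ℂ) • v
          rw [← ha]; simp)
        map_mul' := fun x y => smul_left_injective ℂ hv0 (by
          show a _ _ • v = (a _ _ * a _ _) • v
          rw [← ha, Subgroup.coe_mul, map_mul, Module.End.mul_apply, ha y y.2, map_smul, ha x x.2,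
            smul_smul, mul_comm]) }
    exact ⟨θ0.toHomUnits, fun h => ha h h.2⟩
  obtain ⟨θ, hθ⟩ := mk v hv0 hv
  obtain ⟨θ', hθ'⟩ := mk w hw0 hw
  let b : Basis (Fin 2) ℂ (Fin 2 → ℂ) := basisOfLinearIndependentOfCardEqFinrank hvw (by simp)
  have hres : (fun h : H => χ h) = (fun h : H => (θ h : ℂ)) + fun h : H => (θ' h : ℂ) := by
    funext h
    rw [← hρ]
    refine (CharBasic.trace_eq_sum_of_eigenbasis b ![(θ h : ℂ), (θ' h : ℂ)] (ρ h) fun i => ?_).trans
      (by simp)
    fin_cases i
    · simpa [b] using hθ h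
    · simpa [b] using hθ' h
  have hθc := CharInduce.isCharacter_hom θ
  have hθi := CharInduce.isIrrCharacter_hom θ
  have h1 : Cfsg.classInner (Cfsg.indFun H fun h => (θ h : ℂ)) χ ≠ 0 := by
    rw [CharInduce.classInner_indFun_left H _ χ (CharBasic.IsIrr.isClassFunction hirr)]
    intro h
    have h2 := congrArg (starRingEnd ℂ) h
    rw [CharInduce.conj_classInner, map_zero, hres, CharBasic.classInner_add_left,
      CharBasic.classInner_irr_self hθi] at h2
    obtain ⟨k, hk⟩ := CharBasic.classInner_isChar_nat (CharInduce.isCharacter_hom θ') hθc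
    rw [hk, ← Nat.cast_one, ← Nat.cast_add, Nat.cast_eq_zero] at h2
    omega
  obtain ⟨r, hr, he⟩ := CharInduce.IsChar.exists_eq_add (CharInduce.IsChar.ind H hθc) hirr h1
  obtain ⟨d, hd⟩ := CharBasic.IsChar.exists_degree hr
  have hdeg := congrFun he 1
  rw [CharInduce.indFun_one, Pi.add_apply, hd, ← hρ, Representation.char_one,
    Module.finrank_fin_fun, map_one, Units.val_one, mul_one] at hdeg
  have h2 : H.index = 2 + d := by exact_mod_cast hdeg
  have hr0 : r = 0 := CharInduce.IsChar.eq_zero_of_one_eq_zero hr (by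
    rw [hd, show d = 0 by omega, Nat.cast_zero])
  refine hprim H (fun h => ?_) _ hθc (by rw [he, hr0, add_zero])
  rw [h, Subgroup.index_top] at h2
  omega

/-- Lines with an element outside the centre fixing them. -/
def special (ρ : Representation ℂ G (Fin 2 → ℂ)) : Set (Projectivization ℂ (Fin 2 → ℂ)) :=
  {L | ∃ g : G, g ∉ Subgroup.center G ∧ ∃ a : ℂ, ρ g L.rep = a • L.rep}

theorem core {χ : G → ℂ} (ρ : Representation ℂ G (Fin 2 → ℂ)) (hρ : ρ.character = χ)
    (hirr : ρ.IsIrreducible) (hfaith : ∀ g : G, χ g = χ 1 → g = 1)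
    (hprim : ∀ H : Subgroup G, H ≠ ⊤ → ∀ θ : H → ℂ, Cfsg.IsCharacter H θ → χ ≠ Cfsg.indFun H θ) :
    (Subgroup.center G).index = 12 ∨ (Subgroup.center G).index = 24 ∨
      (Subgroup.center G).index = 60 := by
  classical
  haveI := hirr
  have hirr' : Cfsg.IsIrrCharacter G χ := ⟨2, ρ, hirr, hρ⟩
  have hinj : ∀ g : G, ρ g = 1 → g = 1 := fun g hg => hfaith g (by
    rw [← hρ]; simp only [Representation.character, hg, map_one])
  have happly : ∀ g : G, Function.Injective (ρ g) := fun g x y h => by
    have := congrArg (ρ g⁻¹) h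
    rwa [← Module.End.mul_apply, ← Module.End.mul_apply, ← map_mul, inv_mul_cancel, map_one] at this
  letI act : MulAction G (Projectivization ℂ (Fin 2 → ℂ)) :=
    { smul := fun g L => Projectivization.map (ρ g) (happly g) L
      one_smul := fun L => by
        induction L using Projectivization.ind with
        | h v hv =>
          show Projectivization.map (ρ 1) _ (Projectivization.mk ℂ v hv) = _
          rw [Projectivization.map_mk]
          simp
      mul_smul := fun g h L => by
        induction L using Projectivization.ind with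
        | h v hv =>
          show Projectivization.map (ρ (g * h)) _ (Projectivization.mk ℂ v hv) =
            Projectivization.map (ρ g) _ (Projectivization.map (ρ h) _ (Projectivization.mk ℂ v hv))
          simp only [Projectivization.map_mk, map_mul, Module.End.mul_apply] }
  have hfix : ∀ (g : G) (v : Fin 2 → ℂ) (hv : v ≠ 0),
      g • Projectivization.mk ℂ v hv = Projectivization.mk ℂ v hv ↔ ∃ a : ℂ, ρ g v = a • v := by
    intro g v hv
    show Projectivization.map (ρ g) _ (Projectivization.mk ℂ v hv) = _ ↔ _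
    rw [Projectivization.map_mk, Projectivization.mk_eq_mk_iff']
    exact exists_congr fun a => eq_comm
  have hfixr : ∀ (g : G) (L : Projectivization ℂ (Fin 2 → ℂ)),
      g • L = L ↔ ∃ a : ℂ, ρ g L.rep = a • L.rep := fun g L => by
    conv_lhs => rw [← L.mk_rep]
    exact hfix g _ L.rep_nonzero
  have hscalar : ∀ g ∈ Subgroup.center G, ∀ L : Projectivization ℂ (Fin 2 → ℂ), g • L = L := by
    intro g hg L
    obtain ⟨c, hc⟩ := CharBasic.schur_scalar ρ (ρ g) fun h => by
      rw [← map_mul, ← map_mul, Subgroup.mem_center_iff.1 hg h]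
    exact (hfixr g L).2 ⟨c, by rw [hc]; rfl⟩
  have htwo : ∀ g : G, g ∉ Subgroup.center G → ∃ L L' : Projectivization ℂ (Fin 2 → ℂ),
      L ≠ L' ∧ ∀ M, g • M = M ↔ M = L ∨ M = L' := by
    intro g hg
    obtain ⟨b, μ, hb, -, -⟩ := CharBasic.exists_eigenbasis_rep ρ g
    let e : Fin (finrank ℂ (Fin 2 → ℂ)) ≃ Fin 2 := finCongr (Module.finrank_fin_fun ℂ)
    let B := b.reindex e
    let ν : Fin 2 → ℂ := fun i => μ (e.symm i)
    have hB : ∀ i, ρ g (B i) = ν i • B i := fun i => by
      simp only [B, ν, Basis.reindex_apply]; exact hb _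
    have hne : ν 0 ≠ ν 1 := by
      intro h
      apply hg
      have hs : ρ g = ν 0 • LinearMap.id := B.ext fun i => by
        fin_cases i
        · simpa using hB 0
        · simpa [h] using hB 1
      rw [Subgroup.mem_center_iff]
      intro x
      refine (mul_inv_eq_one.1 (hinj ((g * x) * (x * g)⁻¹) ?_)).symm
      have : ρ (g * x) = ρ (x * g) := by
        rw [map_mul, map_mul, hs]
        ext v
        simp
      rw [map_mul, this, ← map_mul, mul_inv_cancel, map_one]
    refine ⟨Projectivization.mk ℂ (B 0) (B.ne_zero 0), Projectivization.mk ℂ (B 1) (B.ne_zero 1),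
      ?_, fun M => ⟨?_, ?_⟩⟩
    · intro h
      obtain ⟨a, ha⟩ := (Projectivization.mk_eq_mk_iff' ℂ _ _ _ _).1 h
      have := congrArg (fun z => B.repr z 0) ha
      simp at this
    · induction M using Projectivization.ind with
      | h v hv =>
        rw [hfix]
        rintro ⟨a, ha⟩
        have hsum := B.sum_repr v
        rw [Fin.sum_univ_two] at hsum
        have key : ∀ i, (ν i - a) * B.repr v i = 0 := by
          have h' : ∀ i, B.repr (ρ g v) i = a * B.repr v i := fun i => by rw [ha]; simp
          intro i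
          have h := h' i
          rw [← hsum, map_add, map_smul, map_smul, hB, hB] at h
          rw [hsum] at h
          revert i
          refine Fin.forall_fin_two.2 ⟨fun h => ?_, fun h => ?_⟩ <;> simp at h <;>
            linear_combination h
        rcases mul_eq_zero.1 (key 0) with h0 | h0
        · left
          have h1 : B.repr v 1 = 0 := by
            refine (mul_eq_zero.1 (key 1)).resolve_left fun h1 => hne ?_
            linear_combination h0 - h1
          rw [Projectivization.mk_eq_mk_iff']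
          exact ⟨B.repr v 0, by rw [h1, zero_smul, add_zero] at hsum; exact hsum⟩
        · right
          rw [Projectivization.mk_eq_mk_iff']
          exact ⟨B.repr v 1, by rw [h0, zero_smul, zero_add] at hsum; exact hsum⟩
    · rintro (rfl | rfl)
      · exact (hfix g _ _).2 ⟨_, hB 0⟩
      · exact (hfix g _ _).2 ⟨_, hB 1⟩
  -- the finite set of special lines
  set X := special ρ with hX
  have hmemX : ∀ L, L ∈ X ↔ ∃ g : G, g ∉ Subgroup.center G ∧ g • L = L := fun L =>
    exists_congr fun g => and_congr_right fun _ => (hfixr g L).symm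
  have hXfin : X.Finite := by
    choose L L' _ hLL using htwo
    refine Set.Finite.subset (Set.finite_iUnion fun g : {g : G // g ∉ Subgroup.center G} =>
      Set.toFinite ({L g.1 g.2, L' g.1 g.2} : Set (Projectivization ℂ (Fin 2 → ℂ)))) fun M hM => ?_
    obtain ⟨g, hg, hgM⟩ := (hmemX M).1 hM
    exact Set.mem_iUnion.2 ⟨⟨g, hg⟩, (hLL g hg M).1 hgM⟩
  let S : SubMulAction G (Projectivization ℂ (Fin 2 → ℂ)) :=
    { carrier := X
      smul_mem' := fun c L hL => by
        obtain ⟨g, hg, hgL⟩ := (hmemX L).1 hL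
        refine (hmemX _).2 ⟨c * g * c⁻¹, fun h => hg ?_, by rw [smul_smul]; simp [mul_smul, hgL]⟩
        have := (inferInstance : (Subgroup.center G).Normal).conj_mem _ h c⁻¹
        simpa [mul_assoc] using this }
  haveI : Finite S := hXfin.to_subtype
  haveI : Fintype S := Fintype.ofFinite _
  set Z := Subgroup.center G with hZ
  set N := Z.index with hNdef
  have hburn := MulAction.sum_card_fixedBy_eq_card_orbits_mul_card_group G S
  have hfixcard : ∀ g : G, Fintype.card (MulAction.fixedBy S g) =
      if g ∈ Z then Fintype.card S else 2 := by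
    intro g
    split_ifs with hg
    · rw [← Fintype.card_congr (Equiv.subtypeUnivEquiv (p := fun L : S => L ∈ MulAction.fixedBy S g)
        fun L => Subtype.ext (hscalar g hg L.1))]
    · obtain ⟨L, L', hne, hiff⟩ := htwo g hg
      have hL : L ∈ X := (hmemX L).2 ⟨g, hg, (hiff L).2 (Or.inl rfl)⟩
      have hL' : L' ∈ X := (hmemX L').2 ⟨g, hg, (hiff L').2 (Or.inr rfl)⟩
      have : (MulAction.fixedBy S g) = {⟨L, hL⟩, ⟨L', hL'⟩} := by
        ext M
        rw [MulAction.mem_fixedBy, Set.mem_insert_iff, Set.mem_singleton_iff, Subtype.ext_iff,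
          Subtype.ext_iff, Subtype.ext_iff]
        exact hiff M.1
      rw [← Nat.card_eq_fintype_card, this, Nat.card_coe_set_eq, Set.ncard_pair]
      exact fun h => hne (congrArg Subtype.val h)
  simp only [hfixcard] at hburn
  rw [Finset.sum_ite, Finset.sum_const, Finset.sum_const, smul_eq_mul, smul_eq_mul] at hburn
  set R := Fintype.card (Quotient (MulAction.orbitRel G S)) with hR
  have hzc : (Finset.univ.filter fun g : G => g ∈ Z).card = Nat.card Z := by
    rw [Nat.card_eq_fintype_card, Fintype.card_subtype]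
  have hnzc : (Finset.univ.filter fun g : G => ¬ g ∈ Z).card = Nat.card Z * (N - 1) := by
    rw [Finset.filter_not, Finset.card_sdiff_of_subset (Finset.subset_univ _), hzc, Finset.card_univ,
      Nat.mul_sub_one, ← Nat.card_eq_fintype_card, ← Z.card_mul_index]
  rw [hzc, hnzc, ← Nat.card_eq_fintype_card (α := G), ← Z.card_mul_index, ← hNdef] at hburn
  have heq : Fintype.card S + 2 * (N - 1) = R * N := by
    refine Nat.eq_of_mul_eq_mul_left (Nat.card_pos (α := Z)) ?_
    calc _ = Nat.card Z * Fintype.card S + Nat.card Z * (N - 1) * 2 := by ring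
      _ = R * (Nat.card Z * N) := hburn
      _ = _ := by ring
  have hN2 : 2 ≤ N := by
    have hpos : 0 < N := Nat.pos_of_ne_zero Subgroup.index_ne_zero_of_finite
    refine Nat.lt_of_le_of_ne hpos fun h => ?_
    obtain ⟨n, -, hn, -, hd⟩ := CharBasic.IsIrr.degree_dvd hirr'
    rw [← hρ, Representation.char_one, Module.finrank_fin_fun, Nat.cast_inj] at hn
    rw [← hZ, ← hNdef, ← h, ← hn] at hd
    exact absurd (Nat.le_of_dvd Nat.one_pos hd) (by omega)
  -- orbit sizes
  let sz : Quotient (MulAction.orbitRel G S) → ℕ := fun ω => (MulAction.stabilizer G ω.out).index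
  have hsz : ∀ ω, ∃ n, 2 ≤ n ∧ sz ω * n = N := by
    intro ω
    have hle : Z ≤ MulAction.stabilizer G ω.out := fun g hg =>
      MulAction.mem_stabilizer_iff.2 (Subtype.ext (hscalar g hg ω.out.1))
    refine ⟨Z.relIndex (MulAction.stabilizer G ω.out), ?_, by
      rw [mul_comm]; exact Subgroup.relIndex_mul_index hle⟩
    obtain ⟨g, hg, hgL⟩ := (hmemX _).1 ω.out.2
    have h0 : Z.relIndex (MulAction.stabilizer G ω.out) ≠ 0 := Subgroup.index_ne_zero_of_finite
    have h1 : Z.relIndex (MulAction.stabilizer G ω.out) ≠ 1 := fun h =>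
      hg (Subgroup.relIndex_eq_one.1 h (MulAction.mem_stabilizer_iff.2 (Subtype.ext hgL)))
    omega
  have hcardS : Fintype.card S = ∑ ω, sz ω := by
    rw [← Nat.card_eq_fintype_card, Nat.card_congr (MulAction.selfEquivSigmaOrbits G S),
      Nat.card_sigma]
    refine Finset.sum_congr rfl fun ω _ => ?_
    rw [Nat.card_congr (MulAction.orbitEquivQuotientStabilizer G ω.out), ← Subgroup.index_eq_card]
  have h2sz : ∀ ω, 2 * sz ω ≤ N := fun ω => by
    obtain ⟨n, hn, e⟩ := hsz ω
    calc 2 * sz ω = sz ω * 2 := mul_comm _ _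
      _ ≤ sz ω * n := Nat.mul_le_mul_left _ hn
      _ = N := e
  have hpos : ∀ ω, 1 ≤ sz ω := fun ω => Nat.pos_of_ne_zero Subgroup.index_ne_zero_of_finite
  have hup : 2 * Fintype.card S ≤ R * N := by
    rw [hcardS, Finset.mul_sum]
    refine (Finset.sum_le_card_nsmul _ _ N fun ω _ => h2sz ω).trans ?_
    rw [smul_eq_mul, Finset.card_univ]
  have hR3 : R ≤ 3 := by
    by_contra h
    have := Nat.mul_le_mul_right N (show 4 ≤ R by omega)
    omega
  -- contradiction from small orbits
  have hbad2 : ∀ ω, sz ω ≠ 2 := by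
    intro ω h
    set L : S := ω.out with hL
    obtain ⟨c, hc⟩ : ∃ c : G, c • L ≠ L := by
      by_contra hall
      push Not at hall
      have : MulAction.stabilizer G L = ⊤ := eq_top_iff.2 fun g _ => hall g
      rw [show sz ω = (MulAction.stabilizer G L).index from rfl, this, Subgroup.index_top] at h
      omega
    have horb : ∀ M ∈ MulAction.orbit G L, M = L ∨ M = c • L := by
      have h2 : (MulAction.orbit G L).ncard = 2 := by rw [← MulAction.index_stabilizer]; exact h
      obtain ⟨A, B, hAB, e⟩ := Set.ncard_eq_two.1 h2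
      have hL' : L ∈ MulAction.orbit G L := MulAction.mem_orbit_self L
      have hcL : c • L ∈ MulAction.orbit G L := MulAction.mem_orbit L c
      intro M hM
      rw [e, Set.mem_insert_iff, Set.mem_singleton_iff] at hL' hcL hM
      rcases hL' with rfl | rfl <;> rcases hcL with h' | h' <;> rcases hM with rfl | rfl
      all_goals first
        | exact Or.inl rfl
        | exact Or.inr h'.symm
        | exact absurd h' hc
    have hindep : LinearIndependent ℂ ![L.1.rep, (c • L).1.rep] := by
      rw [linearIndependent_fin2]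
      refine ⟨Projectivization.rep_nonzero _, fun a ha => hc (Subtype.ext ?_)⟩
      simp only [Matrix.cons_val_one, Matrix.cons_val_zero] at ha
      rw [← (c • L).1.mk_rep, ← L.1.mk_rep]
      exact ((Projectivization.mk_eq_mk_iff' ℂ _ _ _ _).2 ⟨a, ha⟩).symm
    refine not_two_lines ρ hρ hirr' hprim hindep (MulAction.stabilizer G L) (le_of_eq h)
      (fun g hg => (hfixr g _).1 (congrArg Subtype.val hg)) fun g hg => (hfixr g _).1 ?_
    rcases horb (g • c • L) (by rw [smul_smul]; exact MulAction.mem_orbit L _) with h' | h'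
    · exfalso
      have hg' : g • L = L := hg
      exact hc (MulAction.injective g (h'.trans hg'.symm))
    · exact congrArg Subtype.val h'
  have hR2 : R ≠ 2 := by
    intro h
    have hS2 : Fintype.card S = 2 := by rw [h] at heq; omega
    have hone : ∀ ω, sz ω = 1 := by
      obtain ⟨ω₁, ω₂, hne, hu⟩ := Finset.card_eq_two.1 ((Finset.card_univ).trans h)
      intro ω
      have hω : ω ∈ ({ω₁, ω₂} : Finset _) := hu ▸ Finset.mem_univ ω
      rw [hcardS, hu, Finset.sum_pair hne] at hS2
      have := hpos ω₁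
      have := hpos ω₂
      rcases Finset.mem_insert.1 hω with rfl | hω
      · omega
      · rw [Finset.mem_singleton.1 hω]; omega
    have hall : ∀ (M : S) (g : G), g • M = M := by
      intro M g
      set ω : Quotient (MulAction.orbitRel G S) := Quotient.mk'' M
      obtain ⟨c, hc⟩ : M ∈ MulAction.orbit G ω.out :=
        MulAction.orbitRel_apply.1 (Quotient.exact' (Quotient.out_eq' ω).symm)
      have hout : ∀ x : G, x • ω.out = ω.out := fun x =>
        MulAction.mem_stabilizer_iff.1 (Subgroup.index_eq_one.1 (hone ω) ▸ Subgroup.mem_top x)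
      have hc' : c • ω.out = M := hc
      rw [← hc', smul_smul, hout, hout]
    obtain ⟨A, B, hAB, -⟩ := Finset.card_eq_two.1 ((Finset.card_univ).trans hS2)
    have hindep : LinearIndependent ℂ ![A.1.rep, B.1.rep] := by
      rw [linearIndependent_fin2]
      refine ⟨Projectivization.rep_nonzero _, fun a ha => hAB (Subtype.ext ?_)⟩
      simp only [Matrix.cons_val_one, Matrix.cons_val_zero] at ha
      rw [← B.1.mk_rep, ← A.1.mk_rep]
      exact (Projectivization.mk_eq_mk_iff' ℂ _ _ _ _).2 ⟨a, ha⟩
    exact not_two_lines ρ hρ hirr' hprim hindep ⊤ (by simp)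
      (fun g _ => (hfixr g _).1 (congrArg Subtype.val (hall A g)))
      fun g _ => (hfixr g _).1 (congrArg Subtype.val (hall B g))
  have hR1 : 2 ≤ R := by
    by_contra h
    have hlow : R ≤ Fintype.card S := by
      rw [hcardS, hR, ← Finset.card_univ, Finset.card_eq_sum_ones]
      exact Finset.sum_le_sum fun ω _ => hpos ω
    rcases (show R = 0 ∨ R = 1 by omega) with h0 | h0 <;> rw [h0] at heq hup hlow <;> omega
  have hR' : R = 3 := by omega
  obtain ⟨a, b, c, hab, hac, hbc, hu⟩ := Finset.card_eq_three.1 ((Finset.card_univ).trans hR')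
  have hS3 : sz a + sz b + sz c = N + 2 := by
    rw [hcardS, hu, Finset.sum_insert (by simp [hab, hac]), Finset.sum_pair hbc, hR'] at heq
    omega
  obtain ⟨x, hx, ea⟩ := hsz a
  obtain ⟨y, hy, eb⟩ := hsz b
  obtain ⟨z, hz, ec⟩ := hsz c
  rcases klein hN2 ea eb ec hx hy hz hS3 with (h | h | h) | h
  · exact absurd h (hbad2 a)
  · exact absurd h (hbad2 b)
  · exact absurd h (hbad2 c)
  · exact h

/-- Let the finite group G have a faithful irreducible character χ of degree 2 that is primitive: χ is not induced from a character of any proper subgroup. Then the centre of G has index 12, 24 or 60. -/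
theorem result {G : Type*} [Group G] [Fintype G] (χ : Cfsg.IrrCharacter G) (hfaith : ∀ g : G, (χ : G → ℂ) g = (χ : G → ℂ) 1 → g = 1) (h2 : Cfsg.charDegree (χ : G → ℂ) = 2) (hprim : ∀ H : Subgroup G, H ≠ ⊤ → ∀ θ : H → ℂ, Cfsg.IsCharacter H θ → (χ : G → ℂ) ≠ Cfsg.indFun H θ) : (Subgroup.center G).index = 12 ∨ (Subgroup.center G).index = 24 ∨ (Subgroup.center G).index = 60 := by
  obtain ⟨n, ρ, hρi, hρ⟩ := χ.2
  obtain rfl : n = 2 := by
    rw [← h2, Cfsg.charDegree, ← hρ]
    simp
  exact core ρ hρ hρi hfaith hprim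

end Cfsg.Agent.S4473
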