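import Cfsg.Statements.S4476
import Cfsg.Agent.H24.FSIndicator
import Cfsg.Agent.H83.ClassConst
import Cfsg.Agent.CharInduce.Twist

set_option autoImplicit false
open Cfsg

namespace Cfsg.Agent.S4476

open Cfsg.Agent Cfsg.Agent.H24.FS
open scoped ComplexConjugate

/-- Let G be a finite group of even order g with exactly t involutions, and put α = (g − 1)/t (a rational number). Then (a) some non-identity element x of G has at most α² conjugates; and (b) some non-principal real-valued irreducible character of G has degree at most α. -/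
theorem result {G : Type*} [Group G] [Fintype G] (heven : Even (Nat.card G)) (t : ℕ) (ht : Nat.card {x : G // orderOf x = 2} = t) : (∃ x : G, x ≠ 1 ∧ ((Subgroup.centralizer ({x} : Set G)).index : ℚ) ≤ (((Nat.card G : ℚ) - 1) / t) ^ 2) ∧ ∃ χ : Cfsg.IrrCharacter G, (χ : G → ℂ) ≠ (fun _ => 1) ∧ (∀ g : G, ((χ : G → ℂ) g).im = 0) ∧ (Cfsg.charDegree (χ : G → ℂ) : ℚ) ≤ ((Nat.card G : ℚ) - 1) / t := by
  classical
  haveI : Finite (ConjClasses G) := Finite.of_surjective _ ConjClasses.mk_surjective
  haveI : Fintype (ConjClasses G) := Fintype.ofFinite _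
  haveI : Fact (Nat.Prime 2) := ⟨Nat.prime_two⟩
  let one : Cfsg.IrrCharacter G := ⟨fun _ => 1, CharBasic.isIrrCharacter_one⟩
  let real : Cfsg.IrrCharacter G → Prop := fun χ => ∀ g, ((χ : G → ℂ) g).im = 0
  let R : Finset (Cfsg.IrrCharacter G) := (Finset.univ.filter real).erase one
  let d : Cfsg.IrrCharacter G → ℕ := fun χ => Cfsg.charDegree (χ : G → ℂ)
  have hd1 : d one = 1 := by simp [d, one, Cfsg.charDegree]
  have hone : one ∈ Finset.univ.filter real := by simp [real, one]
  -- the number of involutions
  have hcount : Nat.card {s : G // s * s = 1} = t + 1 := by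
    rw [← ht, Nat.card_eq_fintype_card, Nat.card_eq_fintype_card, Fintype.card_subtype, Fintype.card_subtype]
    have : (Finset.univ.filter fun s : G => s * s = 1) = insert 1 (Finset.univ.filter fun s : G => orderOf s = 2) := by
      ext s
      simp only [Finset.mem_filter, Finset.mem_univ, true_and, Finset.mem_insert]
      refine ⟨fun h => (eq_or_ne s 1).imp_right fun hne => orderOf_eq_prime (by rwa [pow_two]) hne, ?_⟩
      rintro (rfl | h)
      · simp
      · rw [← pow_two, ← h]; exact pow_orderOf_eq_one s
    rw [this, Finset.card_insert_of_notMem (by simp)]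
  have hRsum : t ≤ ∑ χ ∈ R, d χ := by
    have h1 : ((t + 1 : ℕ) : ℝ) ≤ ((∑ χ ∈ Finset.univ.filter real, d χ : ℕ) : ℝ) := by
      rw [show ((t + 1 : ℕ) : ℝ) = ‖((t + 1 : ℕ) : ℂ)‖ by rw [Complex.norm_natCast], ← hcount, card_sqrt,
        ← Finset.sum_filter_of_ne (p := real) (fun χ _ hne => by
          by_contra hr
          rw [ind_eq_zero χ.2 hr, map_zero, zero_mul] at hne
          exact hne rfl), Nat.cast_sum]
      refine (norm_sum_le _ _).trans (Finset.sum_le_sum fun χ _ => ?_)
      rw [norm_mul, Complex.norm_conj, BlockBasic.apply_one_eq_charDegree, Complex.norm_natCast]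
      exact mul_le_of_le_one_left (Nat.cast_nonneg _) (norm_ind_le χ.2)
    have h2 : t + 1 ≤ ∑ χ ∈ Finset.univ.filter real, d χ := by exact_mod_cast h1
    rw [← Finset.add_sum_erase _ _ hone, hd1] at h2
    show t ≤ ∑ χ ∈ (Finset.univ.filter real).erase one, d χ
    omega
  have hsq : ∑ χ ∈ R, d χ ^ 2 + 1 ≤ Nat.card G := by
    have h : ∑ χ : Cfsg.IrrCharacter G, d χ ^ 2 = Nat.card G := by
      have := CharBasic.sum_sq_degree (G := G)
      simp only [BlockBasic.apply_one_eq_charDegree] at this
      exact_mod_cast this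
    rw [← h, show (1 : ℕ) = d one ^ 2 by rw [hd1, one_pow], add_comm, ← Finset.add_sum_erase _ _ (Finset.mem_univ one)]
    exact Nat.add_le_add_left (Finset.sum_le_sum_of_subset (Finset.erase_subset_erase _ (Finset.filter_subset _ _))) _
  have ht0 : 0 < t := by
    rw [← ht]
    obtain ⟨g, hg⟩ := exists_prime_orderOf_dvd_card' 2 heven.two_dvd
    haveI : Nonempty {x : G // orderOf x = 2} := ⟨⟨g, hg⟩⟩
    exact Nat.card_pos
  have hRne : R.Nonempty := by
    by_contra hc
    rw [Finset.not_nonempty_iff_eq_empty] at hc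
    rw [hc, Finset.sum_empty] at hRsum
    omega
  have hg1 : ((Nat.card G : ℚ) - 1) = ((Nat.card G - 1 : ℕ) : ℚ) := by
    rw [Nat.cast_sub (Nat.one_le_iff_ne_zero.2 Nat.card_pos.ne'), Nat.cast_one]
  have htq : (0 : ℚ) < t := by exact_mod_cast ht0
  refine ⟨?_, ?_⟩
  · -- classes
    have hperm := CharInduce.card_fixed_irr_eq_card_fixed_classes (G := G) (·⁻¹) CharInduce.isIrr_comp_inv
    have hL : Nat.card {χ : Cfsg.IrrCharacter G // (χ : G → ℂ) ∘ (·⁻¹) = χ} = R.card + 1 := by
      rw [Nat.card_eq_fintype_card, Fintype.card_subtype, Finset.card_erase_add_one hone]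
      refine congrArg Finset.card (Finset.filter_congr fun χ _ => ?_)
      rw [CharInduce.irr_comp_inv]
      exact ⟨fun h g => Complex.conj_eq_iff_im.1 (congrFun h g), fun h => funext fun g => Complex.conj_eq_iff_im.2 (h g)⟩
    let S : Finset (ConjClasses G) :=
      (Finset.univ.filter fun C : ConjClasses G => ∀ g : G, ConjClasses.mk g = C → IsConj g g⁻¹).erase (ConjClasses.mk 1)
    have hS : S.card = R.card := by
      rw [hL, Nat.card_eq_fintype_card, Fintype.card_subtype] at hperm
      have h1 : ConjClasses.mk (1 : G) ∈ Finset.univ.filter fun C : ConjClasses G => ∀ g : G, ConjClasses.mk g = C → IsConj g g⁻¹ := by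
        simp only [Finset.mem_filter, Finset.mem_univ, true_and]
        intro g hg
        rw [ConjClasses.mk_eq_mk_iff_isConj, isConj_one_left] at hg
        subst hg
        rw [inv_one]
      have := Finset.card_erase_add_one h1
      have : S.card + 1 = R.card + 1 := this.trans hperm.symm
      omega
    have hsum : ∑ C ∈ S, (Subgroup.centralizer ({C.out} : Set G)).index ≤ Nat.card G - 1 := by
      have hfib : ∀ C : ConjClasses G, (Subgroup.centralizer ({C.out} : Set G)).index =
          (Finset.univ.filter fun g : G => ConjClasses.mk g = C).card := by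
        intro C
        have hout : ConjClasses.mk (C.out : G) = C := Quotient.out_eq C
        refine (H83.classSize_eq_index C.out).symm.trans (congrArg Finset.card ?_)
        ext g
        simp only [Finset.mem_filter, Finset.mem_univ, true_and]
        conv_rhs => rw [← hout, eq_comm, ConjClasses.mk_eq_mk_iff_isConj]
      rw [Finset.sum_congr rfl fun C _ => hfib C]
      have hall := Finset.card_eq_sum_card_fiberwise (f := fun g : G => ConjClasses.mk g)
        (s := Finset.univ) (t := Finset.univ) (fun g _ => Finset.mem_univ _)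
      rw [← Finset.add_sum_erase _ _ (Finset.mem_univ (ConjClasses.mk (1 : G))), Finset.card_univ, ← Nat.card_eq_fintype_card] at hall
      have h1 : 0 < (Finset.univ.filter fun g : G => ConjClasses.mk g = ConjClasses.mk 1).card :=
        Finset.card_pos.2 ⟨1, by simp⟩
      have h2 : ∑ C ∈ S, (Finset.univ.filter fun g : G => ConjClasses.mk g = C).card ≤
          ∑ C ∈ Finset.univ.erase (ConjClasses.mk 1), (Finset.univ.filter fun g : G => ConjClasses.mk g = C).card :=
        Finset.sum_le_sum_of_subset (Finset.erase_subset_erase _ (Finset.filter_subset _ _))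
      omega
    obtain ⟨C, hC, hmin⟩ := Finset.exists_min_image S (fun C => (Subgroup.centralizer ({C.out} : Set G)).index)
      (Finset.card_pos.1 (hS ▸ Finset.card_pos.2 hRne))
    refine ⟨C.out, fun e => ?_, ?_⟩
    · refine (Finset.mem_erase.1 hC).1 ?_
      rw [← e]; exact (Quotient.out_eq C).symm
    · have h1 : S.card * (Subgroup.centralizer ({C.out} : Set G)).index ≤ Nat.card G - 1 := by
        refine le_trans ?_ hsum
        rw [← smul_eq_mul]
        exact Finset.card_nsmul_le_sum _ _ _ hmin
      have h2 : t ^ 2 ≤ R.card * (Nat.card G - 1) := by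
        refine (Nat.pow_le_pow_left hRsum 2).trans ?_
        refine (sq_sum_le_card_mul_sum_sq).trans ?_
        exact Nat.mul_le_mul_left _ (by omega)
      have h3 : (Subgroup.centralizer ({C.out} : Set G)).index * t ^ 2 ≤ (Nat.card G - 1) ^ 2 := by
        refine (Nat.mul_le_mul_left _ h2).trans ?_
        rw [hS] at h1
        rw [← mul_assoc, pow_two]
        exact Nat.mul_le_mul_right _ (by rw [mul_comm]; exact h1)
      rw [hg1, div_pow, le_div_iff₀ (pow_pos htq 2)]
      exact_mod_cast h3
  · obtain ⟨χ, hχ, hmin⟩ := Finset.exists_min_image R d hRne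
    refine ⟨χ, fun e => (Finset.mem_erase.1 hχ).1 (Subtype.ext e), (Finset.mem_filter.1 (Finset.mem_erase.1 hχ).2).2, ?_⟩
    have h : d χ * t ≤ Nat.card G - 1 := by
      refine (Nat.mul_le_mul_left _ hRsum).trans ?_
      rw [Finset.mul_sum]
      refine le_trans (Finset.sum_le_sum fun ψ hψ => ?_) (show ∑ ψ ∈ R, d ψ ^ 2 ≤ Nat.card G - 1 by omega)
      rw [pow_two]
      exact Nat.mul_le_mul_right _ (hmin ψ hψ)
    rw [hg1, le_div_iff₀ htq]
    exact_mod_cast h

end Cfsg.Agent.S4476
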