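import Cfsg.Statements.S4478
import Cfsg.Agent.H24.FSIndicator
import Cfsg.Agent.H84.Kernel
import Cfsg.Agent.H83.ClassConst

set_option autoImplicit false
open Cfsg

namespace Cfsg.Agent.S4478

open Cfsg.Agent Cfsg.Agent.H24.FS

theorem vanish {G : Type*} [Group G] [Fintype G] (χ : Cfsg.IrrCharacter G) {p : ℕ} (hp : p.Prime)
    (hd : p ^ (Nat.card G).factorization p ∣ Cfsg.charDegree (χ : G → ℂ)) {g : G} (hg : p ∣ orderOf g) :
    (χ : G → ℂ) g = 0 := by
  haveI := Fact.mk hp
  refine H84.apply_eq_zero_of_defect_zero χ (fun hdiv => ?_) hg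
  obtain ⟨c, hc⟩ := hdiv
  have h := Nat.mul_div_cancel' (BlockBasic.charDegree_dvd χ)
  rw [hc] at h
  obtain ⟨e, he⟩ := hd
  have h2 : p ^ ((Nat.card G).factorization p + 1) ∣ Nat.card G := by
    exact ⟨e * c, h.symm.trans (by rw [he]; ring)⟩
  have := (hp.pow_dvd_iff_le_factorization Nat.card_pos.ne').1 h2
  omega

/-- Let G be a finite group of even order and χ an irreducible character of G whose degree x is divisible by the full power of 2 dividing the order of G and, for every odd prime p such that G has an element of order 2p, by the full power of p dividing the order of G. Then all involutions of G are conjugate, the centralizer of every involution has order exactly x with x coprime to its index, and the Frobenius–Schur indicator of χ equals 1. -/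
theorem result {G : Type*} [Group G] [Fintype G] (heven : Even (Nat.card G)) (χ : Cfsg.IrrCharacter G) (h2 : 2 ^ (Nat.card G).factorization 2 ∣ Cfsg.charDegree (χ : G → ℂ)) (hp : ∀ p : ℕ, p.Prime → p ≠ 2 → (∃ g : G, orderOf g = 2 * p) → p ^ (Nat.card G).factorization p ∣ Cfsg.charDegree (χ : G → ℂ)) : (∀ s t : G, orderOf s = 2 → orderOf t = 2 → IsConj s t) ∧ (∀ s : G, orderOf s = 2 → Nat.card (Subgroup.centralizer ({s} : Set G)) = Cfsg.charDegree (χ : G → ℂ) ∧ (Nat.card (Subgroup.centralizer ({s} : Set G))).Coprime (Subgroup.centralizer ({s} : Set G)).index) ∧ (Nat.card G : ℂ)⁻¹ * ∑ g : G, (χ : G → ℂ) (g * g) = 1 := by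
  classical
  set x := Cfsg.charDegree (χ : G → ℂ) with hxdef
  haveI : Fact (Nat.Prime 2) := ⟨Nat.prime_two⟩
  have hx0 : 0 < x := BlockBasic.charDegree_pos χ
  have hπ : ∀ q : ℕ, q.Prime → ∀ s : G, q ∣ orderOf s → 2 ∣ orderOf s →
      q ^ (Nat.card G).factorization q ∣ x := by
    intro q hq s hqs h2s
    by_cases hq2 : q = 2
    · subst hq2; exact h2
    · refine hp q hq hq2 ?_
      obtain ⟨k, hk⟩ := Nat.Coprime.mul_dvd_of_dvd_of_dvd
        ((Nat.coprime_primes Nat.prime_two hq).2 (Ne.symm hq2)) h2s hqs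
      have hk0 : k ≠ 0 := fun e => (orderOf_pos s).ne' (by rw [hk, e, mul_zero])
      refine ⟨s ^ k, ?_⟩
      rw [orderOf_pow' s hk0, hk, Nat.gcd_eq_right (dvd_mul_left k _), Nat.mul_div_cancel _ (Nat.pos_of_ne_zero hk0)]
  have hev : ∀ s : G, 2 ∣ orderOf s → (χ : G → ℂ) s = 0 := fun s hs => vanish χ Nat.prime_two h2 hs
  have hsq : ∀ s : G, 2 ∣ orderOf s → s * s ≠ 1 → (χ : G → ℂ) (s * s) = 0 := by
    intro s hs hne
    obtain ⟨q, hq, hqd⟩ := Nat.exists_prime_and_dvd (mt orderOf_eq_one_iff.1 hne)
    have hqs : q ∣ orderOf s := by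
      rw [← pow_two] at hqd
      exact hqd.trans (orderOf_pow_dvd 2)
    exact vanish χ hq (hπ q hq s hqs hs) hqd
  have hne1 : (χ : G → ℂ) ≠ fun _ => 1 := fun e => by
    obtain ⟨g, hg⟩ := exists_prime_orderOf_dvd_card' 2 heven.two_dvd
    have := hev g (hg ▸ dvd_rfl)
    rw [e] at this
    exact one_ne_zero this
  have hsum0 : ∑ s : G, (χ : G → ℂ) s = 0 := by
    have h := CharBasic.classInner_irr_of_ne χ.2 CharBasic.isIrrCharacter_one hne1
    rw [CharBasic.classInner_def] at h
    simpa [Nat.card_eq_fintype_card] using h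
  set t := (Finset.univ.filter fun s : G => orderOf s = 2).card with ht
  have hoddsum : ∑ s : G with ¬ 2 ∣ orderOf s, (χ : G → ℂ) (s * s) = 0 := by
    rw [← hsum0, ← Finset.sum_filter_of_ne (p := fun s : G => ¬ 2 ∣ orderOf s) (f := fun s => (χ : G → ℂ) s)
      (fun s _ hne hs => hne (hev s hs))]
    have hro : ∀ s : G, ¬ 2 ∣ orderOf s → (s * s) ^ ((orderOf s + 1) / 2) = s := fun s hs => by
      rw [← pow_two, ← pow_mul, Nat.mul_div_cancel' (by omega), pow_succ, pow_orderOf_eq_one, one_mul]
    refine Finset.sum_bij (fun s _ => s * s) (fun s hs => ?_) (fun a ha b hb e => ?_) (fun b hb => ?_)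
      (fun s _ => rfl)
    · simp only [Finset.mem_filter, Finset.mem_univ, true_and] at hs ⊢
      rw [← pow_two]; exact fun h => hs (h.trans (orderOf_pow_dvd 2))
    · simp only [Finset.mem_filter, Finset.mem_univ, true_and] at ha hb
      have hab : orderOf a = orderOf b := by
        have h1 : orderOf (a * a) = orderOf a := by
          rw [← pow_two]; exact Nat.Coprime.orderOf_pow ((Nat.prime_two.coprime_iff_not_dvd.2 ha).symm)
        have h2 : orderOf (b * b) = orderOf b := by
          rw [← pow_two]; exact Nat.Coprime.orderOf_pow ((Nat.prime_two.coprime_iff_not_dvd.2 hb).symm)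
        rw [← h1, ← h2]; exact congrArg orderOf e
      rw [← hro a ha, ← hro b hb, hab]
      exact congrArg (· ^ _) e
    · simp only [Finset.mem_filter, Finset.mem_univ, true_and] at hb
      refine ⟨b ^ ((orderOf b + 1) / 2), ?_, ?_⟩
      · simp only [Finset.mem_filter, Finset.mem_univ, true_and]
        exact fun h => hb (h.trans (orderOf_pow_dvd _))
      · show b ^ ((orderOf b + 1) / 2) * b ^ ((orderOf b + 1) / 2) = b
        rw [← pow_two, ← pow_mul, mul_comm, pow_mul, pow_two, hro b hb]
  have heven' : ∑ s : G with 2 ∣ orderOf s, (χ : G → ℂ) (s * s) = (t : ℂ) * x := by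
    rw [← Finset.sum_subset (s₁ := Finset.univ.filter fun s : G => orderOf s = 2)]
    · rw [Finset.sum_congr rfl (g := fun _ => (x : ℂ)), Finset.sum_const, nsmul_eq_mul, ← ht]
      intro s hs
      rw [← pow_two, ← (Finset.mem_filter.1 hs).2, pow_orderOf_eq_one]
      exact BlockBasic.apply_one_eq_charDegree χ
    · intro s hs
      simp only [Finset.mem_filter, Finset.mem_univ, true_and] at hs ⊢
      rw [hs]
    · intro s hs hs2
      simp only [Finset.mem_filter, Finset.mem_univ, true_and] at hs hs2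
      refine hsq s hs fun e => hs2 (orderOf_eq_prime (by rwa [pow_two]) fun e1 => ?_)
      rw [e1, orderOf_one] at hs
      omega
  have hnu : ind (χ : G → ℂ) * (Nat.card G : ℂ) = (t : ℂ) * x := by
    rw [ind, mul_comm _ (Nat.card G : ℂ), mul_inv_cancel_left₀ (Nat.cast_ne_zero.2 Nat.card_pos.ne'),
      ← Finset.sum_filter_add_sum_filter_not Finset.univ (fun s : G => 2 ∣ orderOf s), hoddsum, heven', add_zero]
  have ht0 : 0 < t := by
    obtain ⟨g, hg⟩ := exists_prime_orderOf_dvd_card' 2 heven.two_dvd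
    exact Finset.card_pos.2 ⟨g, by simp [hg]⟩
  have hone : ind (χ : G → ℂ) = 1 := by
    have hreal : ∀ g, ((χ : G → ℂ) g).im = 0 := by
      by_contra hc
      rw [ind_eq_zero χ.2 hc, zero_mul] at hnu
      have : (t : ℂ) * x ≠ 0 := mul_ne_zero (Nat.cast_ne_zero.2 ht0.ne') (Nat.cast_ne_zero.2 hx0.ne')
      exact this hnu.symm
    refine (ind_eq_one_or χ.2 hreal).resolve_right fun e => ?_
    rw [e] at hnu
    have h' : ((Nat.card G + t * x : ℕ) : ℂ) = 0 := by
      push_cast; linear_combination -hnu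
    rw [Nat.cast_eq_zero] at h'
    have := Nat.card_pos (α := G)
    omega
  have hG : Nat.card G = t * x := by
    rw [hone, one_mul] at hnu
    exact_mod_cast hnu
  have hC : ∀ s : G, orderOf s = 2 → Nat.card (Subgroup.centralizer ({s} : Set G)) ∣ x ∧
      ∀ p : ℕ, p.Prime → p ∣ Nat.card (Subgroup.centralizer ({s} : Set G)) → p ^ (Nat.card G).factorization p ∣ x := by
    intro s hs
    have hpC : ∀ p : ℕ, p.Prime → p ∣ Nat.card (Subgroup.centralizer ({s} : Set G)) →
        p ^ (Nat.card G).factorization p ∣ x := by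
      intro p hpp hpd
      by_cases hp2 : p = 2
      · subst hp2; exact h2
      haveI := Fact.mk hpp
      obtain ⟨⟨y, hy⟩, hyo⟩ := exists_prime_orderOf_dvd_card' p hpd
      rw [Subgroup.orderOf_mk] at hyo
      refine hp p hpp hp2 ⟨s * y, ?_⟩
      have hc : Commute s y := (Subgroup.mem_centralizer_singleton_iff.1 hy).symm
      rw [hc.orderOf_mul_eq_mul_orderOf_of_coprime (by rw [hs, hyo]; exact (Nat.coprime_primes Nat.prime_two hpp).2 (Ne.symm hp2)), hs, hyo]
    refine ⟨(Nat.dvd_iff_prime_pow_dvd_dvd _ _).2 fun p k hpp hk => ?_, hpC⟩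
    rcases Nat.eq_zero_or_pos k with rfl | hk0
    · simp
    refine (pow_dvd_pow p ?_).trans (hpC p hpp ((dvd_pow_self p hk0.ne').trans hk))
    exact (hpp.pow_dvd_iff_le_factorization Nat.card_pos.ne').1 (hk.trans (Subgroup.card_subgroup_dvd_card _))
  have hclass : ∀ s : G, orderOf s = 2 → Nat.card (Subgroup.centralizer ({s} : Set G)) = x ∧
      (Finset.univ.filter fun g => IsConj s g) = Finset.univ.filter fun g : G => orderOf g = 2 := by
    intro s hs
    have hsub : (Finset.univ.filter fun g => IsConj s g) ⊆ Finset.univ.filter fun g : G => orderOf g = 2 := by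
      intro g hg
      simp only [Finset.mem_filter, Finset.mem_univ, true_and] at hg ⊢
      obtain ⟨c, rfl⟩ := isConj_iff.1 hg
      exact ((MulAut.conj c).orderOf_eq s).trans hs
    have h1 := Finset.card_le_card hsub
    have hidx : (Finset.univ.filter fun g => IsConj s g).card = (Subgroup.centralizer ({s} : Set G)).index := by
      convert H83.classSize_eq_index s
    rw [hidx, ← ht] at h1
    have h2 := Subgroup.index_mul_card (Subgroup.centralizer ({s} : Set G))
    rw [hG] at h2
    have h3 := Nat.le_of_dvd hx0 (hC s hs).1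
    have h4 : (Subgroup.centralizer ({s} : Set G)).index = t := by
      refine le_antisymm h1 (Nat.le_of_mul_le_mul_right ?_ hx0)
      rw [← h2]
      exact Nat.mul_le_mul_left _ h3
    refine ⟨?_, Finset.eq_of_subset_of_card_le hsub (by rw [hidx, h4])⟩
    rw [h4] at h2
    exact Nat.eq_of_mul_eq_mul_left ht0 h2
  refine ⟨fun s u hs hu => ?_, fun s hs => ⟨(hclass s hs).1, ?_⟩, hone⟩
  · have hm : u ∈ Finset.univ.filter fun g => IsConj s g := by
      rw [(hclass s hs).2]; simp [hu]
    exact (Finset.mem_filter.1 hm).2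
  · refine Nat.coprime_of_dvd fun q hq h1 h2' => ?_
    have h3 := (hC s hs).2 q hq h1
    rw [← (hclass s hs).1] at h3
    have h4 : q ^ ((Nat.card G).factorization q + 1) ∣ Nat.card G := by
      have := mul_dvd_mul h3 h2'
      rwa [Subgroup.card_mul_index, ← pow_succ] at this
    have := (hq.pow_dvd_iff_le_factorization Nat.card_pos.ne').1 h4
    omega

end Cfsg.Agent.S4478
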