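import Cfsg.Statements.S4480
import Cfsg.Agent.H24.KleinFourOrder

set_option autoImplicit false
open Cfsg

namespace Cfsg.Agent.S4480

/-- Same setting as the Klein-four order formula: G of order 4·g₀ (g₀ odd) with no normal 2-complement, P a Sylow 2-subgroup, J an involution of P, M over 2, principal 2-block {1, χ₁, χ₂, χ₃} with χ_i(J) = ε_i = ±1. Suppose ε₁ε₂ε₃ = −1 and ε₃ = −1, and put q = x₃ = χ₃(1). Then there is a natural number m with 4·c(J) = m·c(P)·(q + 1), and the order of G equals (m³·c(P)/4)·(q³ − q)/2, that is 8·#G = m³·c(P)·(q³ − q). -/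
theorem result {G : Type*} [Group G] [Finite G] (M : Ideal Cfsg.AlgInt) (hM : Cfsg.IsPModular 2 M) (g₀ : ℕ) (hg₀ : Odd g₀) (hG : Nat.card G = 4 * g₀) (hnc : ¬ ∃ N : Subgroup G, N.Normal ∧ Nat.card N = g₀) (P : Sylow 2 G) (J : G) (hJ : J ∈ (P : Subgroup G)) (hJ2 : orderOf J = 2) (χ₁ χ₂ χ₃ : Cfsg.IrrCharacter G) (ε₁ ε₂ ε₃ : ℤ) (hB : Cfsg.principalBlock M G = {χ : Cfsg.IrrCharacter G | (χ : G → ℂ) = (fun _ => 1) ∨ χ = χ₁ ∨ χ = χ₂ ∨ χ = χ₃}) (hdist : (χ₁ : G → ℂ) ≠ (fun _ => 1) ∧ (χ₂ : G → ℂ) ≠ (fun _ => 1) ∧ (χ₃ : G → ℂ) ≠ (fun _ => 1) ∧ χ₁ ≠ χ₂ ∧ χ₁ ≠ χ₃ ∧ χ₂ ≠ χ₃) (hε : (ε₁ = 1 ∨ ε₁ = -1) ∧ (ε₂ = 1 ∨ ε₂ = -1) ∧ (ε₃ = 1 ∨ ε₃ = -1)) (hval : (χ₁ : G → ℂ) J = ε₁ ∧ (χ₂ : G → ℂ) J = ε₂ ∧ (χ₃ : G → ℂ) J = ε₃) (hprod : ε₁ * ε₂ * ε₃ = -1) (hε₃ : ε₃ = -1) : ∃ m : ℕ, 4 * Nat.card (Subgroup.centralizer ({J} : Set G)) = m * Nat.card (Subgroup.centralizer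 ((P : Subgroup G) : Set G)) * (Cfsg.charDegree (χ₃ : G → ℂ) + 1) ∧ 8 * Nat.card G = m ^ 3 * Nat.card (Subgroup.centralizer ((P : Subgroup G) : Set G)) * (Cfsg.charDegree (χ₃ : G → ℂ) ^ 3 - Cfsg.charDegree (χ₃ : G → ℂ)) := by
  cases nonempty_fintype G
  obtain ⟨N, x, hx0, hN, hq, hidx, hd⟩ := Cfsg.Agent.H24.KleinBlock.klein_minus hM g₀ hg₀ hG hnc P J hJ hJ2 χ₁ χ₂ χ₃ ε₁ ε₂ ε₃ hB hdist hε hval hprod hε₃
  obtain ⟨m, hm⟩ := hd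
  refine ⟨m, ?_, ?_⟩
  · rw [hN, hq]
    calc 4 * (N * Nat.card (Subgroup.centralizer ((P : Subgroup G) : Set G)))
        = (2 * N) * (2 * Nat.card (Subgroup.centralizer ((P : Subgroup G) : Set G))) := by ring
      _ = _ := by rw [hm]; ring
  · have hG2 : Nat.card G = (Subgroup.centralizer ({J} : Set G)).index *
        Nat.card (Subgroup.centralizer ({J} : Set G)) := (Subgroup.index_mul_card _).symm
    rw [hG2, hN, hq]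
    set i := (Subgroup.centralizer ({J} : Set G)).index
    set cP := Nat.card (Subgroup.centralizer ((P : Subgroup G) : Set G))
    have hz : (2 * x + 1) ^ 3 - (2 * x + 1) = (2 * x + 1) * (2 * x * (2 * x + 2)) := by
      rw [Nat.sub_eq_iff_eq_add (Nat.le_self_pow (by norm_num) _)]; ring
    rw [hz]
    apply Nat.eq_of_mul_eq_mul_left (show 0 < (x + 1) ^ 2 by positivity)
    calc (x + 1) ^ 2 * (8 * (i * (N * cP))) = i * (x + 1) ^ 2 * (8 * N * cP) := by ring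
      _ = 4 * (x * (2 * x + 1)) * (2 * N) ^ 3 * cP := by rw [hidx]; ring
      _ = _ := by rw [hm]; ring

end Cfsg.Agent.S4480
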