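import Cfsg.Statements.S4494
import Cfsg.Agent.H80.Pairing

set_option autoImplicit false
open Cfsg

namespace Cfsg.Agent.S4494

/-- The Brauer–Feit bound. Let B be a p-block of the finite group G (relative to a maximal ideal M of the algebraic integers containing p) and let d be its defect. Then the number k(B) of irreducible characters in B satisfies k(B) ≤ p^(2d)/4 + 1, stated here as 4·k(B) ≤ p^(2d) + 4. -/
theorem result {G : Type*} [Group G] [Finite G] (p : ℕ) [Fact p.Prime] (M : Ideal Cfsg.AlgInt) (hM : Cfsg.IsPModular p M) (B : Set (Cfsg.IrrCharacter G)) (hB : Cfsg.IsPBlock M B) : 4 * Nat.card B ≤ p ^ (2 * Cfsg.blockDefect p B) + 4 := by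
  classical
  haveI : Fintype G := Fintype.ofFinite G
  obtain ⟨χ, hχ, h0⟩ := H35.exists_height_zero (p := p) hM hB
  set a := (Nat.card G).factorization p with ha
  set b := H80.degExp p χ with hb
  have hmin := (H80.height_zero_iff hχ).1 h0
  have hd : Cfsg.blockDefect p B = a - b := by
    rw [Cfsg.blockDefect]
    congr 1
    refine le_antisymm (Nat.sInf_le ⟨χ, hχ, rfl⟩) (le_csInf ⟨_, χ, hχ, rfl⟩ ?_)
    rintro _ ⟨ξ, hξ, rfl⟩
    exact hmin ξ hξ
  have hba : b ≤ a := H80.degExp_le χ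
  choose m hm using fun ξ => H80.dvd_nn_left (p := p) χ ξ
  have hne : ∀ ξ ∈ B, m ξ ≠ 0 := by
    intro ξ hξ h
    refine (not_not_intro h0) ((H80.ratio_mem_ideal_iff_height hM hB hχ hξ).1 ?_)
    rw [H80.ratio_mem_ideal_iff hM, hm ξ, h, mul_zero]
    exact dvd_zero _
  have hclass := H80.isClassFunction_tilde (p := p) (CharBasic.IsIrr.isClassFunction χ.2)
  have hnorm : ∑ ξ : Cfsg.IrrCharacter G, H80.nn p χ ξ ^ 2 = (p : ℤ) ^ a * H80.nn p χ χ := by
    apply Int.cast_injective (α := ℂ)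
    push_cast
    have htt : H80.tilde p (H80.tilde p (χ : G → ℂ)) =
        ((p ^ a : ℕ) : ℂ) • H80.tilde p (χ : G → ℂ) := by
      funext x
      simp only [H80.tilde, Pi.smul_apply, smul_eq_mul]
      split_ifs <;> simp [ha]
    have h1 : Cfsg.classInner (H80.tilde p (χ : G → ℂ)) (H80.tilde p (χ : G → ℂ)) =
        (p : ℂ) ^ a * (H80.nn p χ χ : ℂ) := by
      rw [H80.classInner_tilde_symm, htt, CharBasic.classInner_smul_left, H80.nn_spec,
        Nat.cast_pow]
    rw [← h1, CharBasic.classInner_eq_sum hclass]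
    exact Finset.sum_congr rfl fun ξ _ => by rw [H80.nn_spec, map_intCast, sq]
  set S : Finset (Cfsg.IrrCharacter G) := Finset.univ.filter (· ∈ B) with hS
  have hcard : Nat.card B = S.card := by
    rw [hS, Nat.card_eq_fintype_card, Fintype.card_subtype]
  have hsum : ∑ ξ ∈ S, m ξ ^ 2 = (p : ℤ) ^ (a - b) * m χ := by
    have h2 : ∑ ξ ∈ S, H80.nn p χ ξ ^ 2 = (p : ℤ) ^ a * H80.nn p χ χ := by
      rw [← hnorm]
      refine Finset.sum_subset (Finset.subset_univ _) fun ξ _ hξ => ?_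
      rw [H80.nn_eq_zero hM hB hχ fun h => hξ (by simpa [hS] using h), zero_pow two_ne_zero]
    simp only [hm, mul_pow, ← Finset.mul_sum] at h2
    have hp0 : ((p : ℤ) ^ b) ^ 2 ≠ 0 :=
      pow_ne_zero _ (pow_ne_zero _ (by exact_mod_cast (Fact.out : p.Prime).ne_zero))
    refine mul_left_cancel₀ hp0 (h2.trans ?_)
    rw [show a = a - b + b by omega, pow_add, Nat.add_sub_cancel]
    ring
  have hχS : χ ∈ S := by simp [hS, hχ]
  have hlow : ((S.card : ℤ) - 1) + m χ ^ 2 ≤ ∑ ξ ∈ S, m ξ ^ 2 := by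
    rw [← Finset.sum_erase_add S _ hχS, add_le_add_iff_right]
    have h3 : ∑ ξ ∈ S.erase χ, (1 : ℤ) ≤ ∑ ξ ∈ S.erase χ, m ξ ^ 2 := by
      refine Finset.sum_le_sum fun ξ hξ => ?_
      have hξB : ξ ∈ B := by simpa [hS] using Finset.mem_of_mem_erase hξ
      have := sq_pos_of_ne_zero (hne ξ hξB)
      omega
    rw [Finset.sum_const, Finset.card_erase_of_mem hχS, nsmul_eq_mul, mul_one] at h3
    have : 1 ≤ S.card := Finset.card_pos.2 ⟨χ, hχS⟩
    push_cast [Nat.cast_sub this] at h3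
    exact h3
  rw [hsum] at hlow
  rw [hcard, hd]
  have hq : ((p : ℤ) ^ (2 * (a - b))) = ((p : ℤ) ^ (a - b)) ^ 2 := by rw [← pow_mul, mul_comm]
  have : 4 * (S.card : ℤ) ≤ (p : ℤ) ^ (2 * (a - b)) + 4 := by
    rw [hq]
    nlinarith [sq_nonneg ((p : ℤ) ^ (a - b) - 2 * m χ)]
  exact_mod_cast this

end Cfsg.Agent.S4494
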