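import Cfsg.Statements.S4483
import Cfsg.Agent.H80.TwoBlocks
import Cfsg.Agent.S4494

set_option autoImplicit false
open Cfsg

namespace Cfsg.Agent.S4483

/-- Let G be a finite group of order 2^n·g₀ with g₀ odd, and M a maximal ideal of the algebraic integers containing 2. Every real-valued irreducible character of G of odd degree lies in the principal 2-block; consequently G has at most 2^(2n) real-valued irreducible characters of odd degree. -/
theorem result {G : Type*} [Group G] [Finite G] (M : Ideal Cfsg.AlgInt) (hM : Cfsg.IsPModular 2 M) : (∀ χ : Cfsg.IrrCharacter G, (∀ g : G, ((χ : G → ℂ) g).im = 0) → Odd (Cfsg.charDegree (χ : G → ℂ)) → χ ∈ Cfsg.principalBlock M G) ∧ Nat.card {χ : Cfsg.IrrCharacter G // (∀ g : G, ((χ : G → ℂ) g).im = 0) ∧ Odd (Cfsg.charDegree (χ : G → ℂ))} ≤ 2 ^ (2 * (Nat.card G).factorization 2) := by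
  classical
  haveI : Fintype G := Fintype.ofFinite G
  haveI : Fact (Nat.Prime 2) := ⟨Nat.prime_two⟩
  have h1 : ∀ χ : Cfsg.IrrCharacter G, (∀ g : G, ((χ : G → ℂ) g).im = 0) →
      Odd (Cfsg.charDegree (χ : G → ℂ)) → χ ∈ Cfsg.principalBlock M G := by
    intro χ hreal hodd
    have hc : H80.conjIrr χ = χ := Subtype.ext (funext fun g => Complex.conj_eq_iff_im.2 (hreal g))
    rw [← H80.eq_principalBlock_of_odd hM (BlockBasic.isPBlock_blockOf M χ)
      (fun ξ hξ => H80.conjIrr_mem_blockOf hc hξ) (BlockBasic.self_mem_blockOf hM χ) hodd]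
    exact BlockBasic.self_mem_blockOf hM χ
  refine ⟨h1, ?_⟩
  have hk := S4494.result 2 M hM _ (BlockBasic.isPBlock_principalBlock (G := G) M)
  have hle : Nat.card {χ : Cfsg.IrrCharacter G // (∀ g : G, ((χ : G → ℂ) g).im = 0) ∧
      Odd (Cfsg.charDegree (χ : G → ℂ))} ≤ Nat.card (Cfsg.principalBlock M G) :=
    Nat.card_le_card_of_injective (fun χ => ⟨χ.1, h1 χ.1 χ.2.1 χ.2.2⟩)
      fun a b e => Subtype.ext (congrArg (fun z : Cfsg.principalBlock M G => z.1) e)
  have hd : 2 ^ (2 * Cfsg.blockDefect 2 (Cfsg.principalBlock M G)) ≤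
      2 ^ (2 * (Nat.card G).factorization 2) := by
    refine Nat.pow_le_pow_right (by norm_num) ?_
    rw [Cfsg.blockDefect]
    omega
  have h0 : 1 ≤ 2 ^ (2 * (Nat.card G).factorization 2) := Nat.one_le_two_pow
  omega

end Cfsg.Agent.S4483
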