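import Cfsg.Statements.S4484
import Cfsg.Agent.H80.ThreePrime

set_option autoImplicit false
open Cfsg

namespace Cfsg.Agent.S4484

universe u

open Cfsg.Agent.CharBasic Cfsg.Agent.BlockBasic Cfsg.Agent.H80

theorem main {G : Type u} [Group G] [Finite G] [IsSimpleGroup G] (p q a b g₀ : ℕ) (hp : p.Prime)
    (hq : q.Prime) (hpq : p ≠ q) (ha : 0 < a) (hg : Nat.card G = p ^ a * q ^ b * g₀)
    (hcop : ¬ p ∣ g₀) (hcoq : ¬ q ∣ g₀) (hne : Nat.card G ≠ p) (hle : 6 ^ (g₀ - 1) ≤ p) :
    False := by
  classical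
  haveI : Fact p.Prime := ⟨hp⟩
  haveI := Fintype.ofFinite G
  have hpG : p ∣ Nat.card G := by
    rw [hg]; exact dvd_mul_of_dvd_left (dvd_mul_of_dvd_left (dvd_pow_self p ha.ne') _) _
  -- the centre is trivial
  have hZ : Subgroup.center G = ⊥ := by
    rcases Subgroup.Normal.eq_bot_or_eq_top (inferInstance : (Subgroup.center G).Normal) with h | h
    · exact h
    · exfalso
      letI : CommGroup G := { (inferInstance : Group G) with
        mul_comm := fun x y => Subgroup.mem_center_iff.1 (h ▸ Subgroup.mem_top y) x }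
      exact hne ((Nat.prime_dvd_prime_iff_eq hp (IsSimpleGroup.prime_card (α := G))).1 hpG).symm
  -- an element of order `p` in the centre of a Sylow subgroup
  obtain ⟨P⟩ : Nonempty (Sylow p G) := inferInstance
  haveI : Nontrivial (P : Subgroup G) := by
    refine (Subgroup.nontrivial_iff_ne_bot _).2 fun h => ?_
    have h1 := P.dvd_card_of_dvd_card hpG
    rw [h, Subgroup.card_bot, Nat.dvd_one] at h1
    exact hp.ne_one h1
  obtain ⟨z', hz'⟩ := exists_prime_orderOf_dvd_card' p (G := Subgroup.center (P : Subgroup G)) (by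
    obtain ⟨k, hk⟩ := IsPGroup.iff_card.1 (P.isPGroup'.to_subgroup (Subgroup.center (P : Subgroup G)))
    have := P.isPGroup'.center_nontrivial
    have hk0 : k ≠ 0 := fun h => by
      rw [h, pow_zero, Nat.card_eq_one_iff_unique] at hk
      exact not_subsingleton _ hk.1
    rw [hk]; exact dvd_pow_self p hk0)
  set z : G := ((z' : (P : Subgroup G)) : G) with hzdef
  have hz : orderOf z = p := by rw [hzdef, Subgroup.orderOf_coe, Subgroup.orderOf_coe, hz']
  have hcent : ¬ p ∣ (Subgroup.centralizer ({z} : Set G)).index := by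
    intro h
    refine P.not_dvd_index (h.trans (Subgroup.index_dvd_of_le fun w hw => ?_))
    rw [Subgroup.mem_centralizer_singleton_iff]
    exact congrArg Subtype.val (Subgroup.mem_center_iff.1 z'.2 ⟨w, hw⟩)
  have hz1 : z ≠ 1 := fun h => by rw [h, orderOf_one] at hz; exact hp.one_lt.ne hz
  -- a suitable character in the principal block
  obtain ⟨M, hM⟩ := exists_isPModular hp
  set B := principalBlock M G with hB
  have horth : blockKernel B 1 z = 0 :=
    blockKernel_eq_zero_of_regular_of_singular hM (isPBlock_principalBlock M)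
      (by rw [orderOf_one, Nat.dvd_one]; exact hp.ne_one) (by rw [hz])
  obtain ⟨χ, hχB, hχ1, hχz, hqχ⟩ : ∃ χ ∈ B, (χ : G → ℂ) ≠ (fun _ => 1) ∧ (χ : G → ℂ) z ≠ 0 ∧
      ¬ q ∣ Cfsg.charDegree (χ : G → ℂ) := by
    by_contra hno
    push Not at hno
    rw [blockKernel, finsum_mem_eq_toFinset_sum] at horth
    have h1mem : (trivialIrr : IrrCharacter G) ∈ B.toFinset := by
      rw [Set.mem_toFinset]
      intro g
      show MemLocalIdeal M (centralChar (fun _ : G => (1 : ℂ)) g - centralChar (fun _ : G => (1 : ℂ)) g)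
      rw [sub_self]
      exact memLocalIdeal_zero hM
    rw [← Finset.add_sum_erase _ _ h1mem] at horth
    set S := ∑ x ∈ B.toFinset.erase trivialIrr,
      (x : G → ℂ) 1 * (starRingEnd ℂ) ((x : G → ℂ) z) with hS
    have hq0 : (q : ℂ) ≠ 0 := Nat.cast_ne_zero.2 hq.ne_zero
    have hdiv : IsIntegral ℤ (S / q) := by
      rw [hS, Finset.sum_div]
      refine IsIntegral.sum _ fun x hx => ?_
      rw [Finset.mem_erase, Set.mem_toFinset] at hx
      by_cases hxz : (x : G → ℂ) z = 0
      · simp [hxz, isIntegral_zero]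
      · obtain ⟨c, hc⟩ := hno x hx.2 (fun h => hx.1 (Subtype.ext h)) hxz
        rw [apply_one_eq_charDegree, hc, Nat.cast_mul, mul_assoc, mul_div_cancel_left₀ _ hq0]
        exact (isIntegral_natCast c).mul
          (IsIntegral.map (starRingEnd ℂ).toIntAlgHom (IsChar.isIntegral (IsIrr.isCharacter x.2) z))
    have hS1 : S = -1 := by
      have : ((trivialIrr : IrrCharacter G) : G → ℂ) = fun _ => 1 := rfl
      simp only [this, map_one, mul_one] at horth
      exact eq_neg_of_add_eq_zero_right horth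
    rw [hS1] at hdiv
    obtain ⟨k, hk⟩ := IsIntegrallyClosed.isIntegral_iff.1
      (show IsIntegral ℤ ((-1 : ℚ) / q) from by
        refine (isIntegral_algHom_iff ((algebraMap ℚ ℂ).toIntAlgHom) (RingHom.injective _)).1 ?_
        simpa using hdiv)
    have hk' : (q : ℤ) * k = -1 := by
      have h2 : (k : ℚ) * q = -1 := by
        rw [show (k : ℚ) = algebraMap ℤ ℚ k from rfl, hk,
          div_mul_cancel₀ _ (Nat.cast_ne_zero.2 hq.ne_zero)]
      exact_mod_cast (mul_comm (q : ℚ) k).trans h2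
    have h3 := Int.natAbs_mul (q : ℤ) k
    rw [hk'] at h3
    simp only [Int.natAbs_neg, Int.natAbs_one, Int.natAbs_natCast] at h3
    exact hq.ne_one (Nat.eq_one_of_mul_eq_one_right h3.symm)
  obtain ⟨χ, hχirr⟩ := χ
  dsimp only at hχ1 hχz hqχ hχB
  obtain ⟨n, ρ, hρ, rfl⟩ := hχirr
  haveI := hρ
  have hn1 : ρ.character 1 = (n : ℂ) := by simp
  have hdeg : Cfsg.charDegree ρ.character = n := by
    rw [Cfsg.charDegree, hn1, Complex.natCast_re, Nat.floor_natCast]
  rw [hdeg] at hqχ
  have hn0 : n ≠ 0 := fun h => hqχ (h ▸ dvd_zero q)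
  -- faithful
  have hinj : ∀ g : G, ρ g = LinearMap.id → g = 1 := by
    intro g hg'
    rcases Subgroup.Normal.eq_bot_or_eq_top (inferInstance : (MonoidHom.ker ρ).Normal) with h | h
    · exact Subgroup.mem_bot.1 (h ▸ hg')
    · exfalso
      refine hχ1 (funext fun x => ?_)
      have hx : ∀ y : G, ρ.character y = (n : ℂ) := fun y => by
        rw [(character_eq_finrank_iff ρ y).2 ((MonoidHom.mem_ker).1 (h ▸ Subgroup.mem_top y)),
          Module.finrank_fin_fun]
      have h1 := classInner_irr_self (χ := ρ.character) ⟨n, ρ, hρ, rfl⟩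
      rw [Cfsg.classInner] at h1
      simp only [hx, map_natCast, Finset.sum_const, Finset.card_univ, nsmul_eq_mul,
        ← Nat.card_eq_fintype_card] at h1
      rw [← mul_assoc, inv_mul_cancel₀ (Nat.cast_ne_zero.2 Nat.card_pos.ne'), one_mul,
        ← Nat.cast_mul, Nat.cast_eq_one, mul_eq_one] at h1
      rw [hx, h1.1, Nat.cast_one]
  -- the eigenvalues of `z`
  obtain ⟨bs, μ, hb, hμ, -⟩ := exists_eigenbasis_rep ρ z
  rw [hz] at hμ
  set i₀ := n.factorization p with hi₀
  set g' := n / p ^ i₀ with hg'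
  have hgn : p ^ i₀ * g' = n := Nat.ordProj_mul_ordCompl_eq_self n p
  have hdvd : g' ∣ g₀ := by
    have hnG : n ∣ Nat.card G := by
      have := finrank_dvd_card ρ
      rwa [Module.finrank_fin_fun] at this
    have h1 : g' ∣ p ^ a * q ^ b * g₀ := hg ▸ (Nat.ordCompl_dvd n p).trans hnG
    have hp' : g'.Coprime (p ^ a) :=
      ((hp.coprime_iff_not_dvd.2 (Nat.not_dvd_ordCompl hp hn0)).symm).pow_right a
    have hq' : g'.Coprime (q ^ b) :=
      ((hq.coprime_iff_not_dvd.2 fun h => hqχ (h.trans (Nat.ordCompl_dvd n p))).symm).pow_right b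
    exact (hp'.mul_right hq').dvd_of_dvd_mul_left h1
  set J := Finset.univ.image μ with hJ
  have hblock : SameBlock M (fun _ : G => (1 : ℂ)) ρ.character := hχB
  have hJcard : J.card ≤ g' := by
    have h1 : ∀ ν ∈ J, p ^ i₀ ≤ (Finset.univ.filter fun i => μ i = ν).card := by
      intro ν hν
      obtain ⟨i, -, rfl⟩ := Finset.mem_image.1 hν
      refine Nat.le_of_dvd (Finset.card_pos.2 ⟨i, by simp⟩) ?_
      exact ThreePrime.pow_dvd_multiplicity hM ρ hn0 hblock hz hcent bs μ hb hμ (hμ i)
    have h2 := Finset.card_nsmul_le_sum J _ _ h1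
    rw [← Finset.card_eq_sum_card_fiberwise (fun i _ => Finset.mem_image_of_mem μ (Finset.mem_univ i)),
      Finset.card_univ, Fintype.card_fin, Module.finrank_fin_fun, smul_eq_mul, mul_comm] at h2
    exact Nat.le_of_mul_le_mul_left (h2.trans_eq hgn.symm) (pow_pos hp.pos _)
  have hg0 : 0 < g₀ := Nat.pos_of_ne_zero fun h => hcop (h ▸ dvd_zero p)
  have hg'le : g' ≤ g₀ := Nat.le_of_dvd hg0 hdvd
  have hne6 : ∀ k : ℕ, 6 ^ k ≠ p := by
    intro k h
    rcases Nat.eq_zero_or_pos k with hk | hk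
    · rw [hk, pow_zero] at h; exact hp.ne_one h.symm
    · have h2 : 2 ∣ p := h ▸ dvd_pow (by norm_num) hk.ne'
      have h3 : 3 ∣ p := h ▸ dvd_pow (by norm_num) hk.ne'
      have := (Nat.prime_dvd_prime_iff_eq Nat.prime_two hp).1 h2
      have := (Nat.prime_dvd_prime_iff_eq Nat.prime_three hp).1 h3
      omega
  have hlt : 6 ^ (J.card - 1) < p :=
    lt_of_le_of_ne ((Nat.pow_le_pow_right (by norm_num) (by omega)).trans hle) (hne6 _)
  let i₁ : Fin (Module.finrank ℂ (Fin n → ℂ)) :=
    ⟨0, by rw [Module.finrank_fin_fun]; exact Nat.pos_of_ne_zero hn0⟩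
  obtain ⟨t, ht0, htp, hclose⟩ := ThreePrime.exists_close hp J
    (fun ν hν => by obtain ⟨i, -, rfl⟩ := Finset.mem_image.1 hν; exact hμ i)
    (Finset.mem_image_of_mem μ (Finset.mem_univ i₁)) hlt
  have ha1 : z ^ t ≠ 1 := fun h => by
    have := orderOf_dvd_of_pow_eq_one h
    rw [hz] at this
    exact absurd (Nat.le_of_dvd ht0 this) (by omega)
  have hpow : ∀ i, ρ (z ^ t) (bs i) = μ i ^ t • bs i := by
    intro i
    clear hclose ha1 ht0 htp
    induction t with
    | zero => simp
    | succ t ih =>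
      rw [pow_succ, map_mul, Module.End.mul_apply, hb, map_smul, ih, smul_smul, ← pow_succ']
  have hscal := Blichfeldt60.eigenvalue_eq ρ ha1 bs (fun i => μ i ^ t) hpow i₁
    (fun i => hclose _ (Finset.mem_image_of_mem μ (Finset.mem_univ i)))
  have hρa : ρ (z ^ t) = (μ i₁ ^ t) • LinearMap.id :=
    bs.ext fun i => by rw [hpow i]; simp only [hscal i]; simp
  have hmem : z ^ t ∈ Subgroup.center G := by
    rw [Subgroup.mem_center_iff]
    intro g
    have h1 : ρ (g * z ^ t * g⁻¹ * (z ^ t)⁻¹) = LinearMap.id := by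
      have hc : ρ g * ρ (z ^ t) = ρ (z ^ t) * ρ g := by
        rw [hρa]
        exact LinearMap.ext fun v => by simp
      rw [map_mul, map_mul, map_mul, hc, mul_assoc (ρ (z ^ t)), ← map_mul, mul_inv_cancel, map_one,
        mul_one, ← map_mul, mul_inv_cancel, map_one]
      rfl
    have h2 := hinj _ h1
    rw [mul_inv_eq_one, mul_inv_eq_iff_eq_mul] at h2
    exact h2
  rw [hZ, Subgroup.mem_bot] at hmem
  exact ha1 hmem

/-- A refinement of Burnside's result on simple groups of order divisible by only two primes. Let G be a finite simple group of order p^a · q^b · g₀ with p, q distinct primes, a > 0, g₀ coprime to p and q, and the order of G different from p. Then g₀ − 1 > log p / log 6, that is 6^(g₀ − 1) > p. -/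
theorem result {G : Type*} [Group G] [Finite G] [IsSimpleGroup G] (p q a b g₀ : ℕ) (hp : p.Prime) (hq : q.Prime) (hpq : p ≠ q) (ha : 0 < a) (hg : Nat.card G = p ^ a * q ^ b * g₀) (hcop : ¬ p ∣ g₀) (hcoq : ¬ q ∣ g₀) (hne : Nat.card G ≠ p) : p < 6 ^ (g₀ - 1) := by
  classical
  by_contra hlt
  rw [not_lt] at hlt
  open Cfsg.Agent.CharBasic Cfsg.Agent.BlockBasic in
  exact main p q a b g₀ hp hq hpq ha hg hcop hcoq hne hlt

end Cfsg.Agent.S4484
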