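import Cfsg.Statements.S4490
import Cfsg.Agent.H80.TwoBlocks

set_option autoImplicit false
open Cfsg

namespace Cfsg.Agent.S4490

/-- Let G be a finite group and M a maximal ideal of the algebraic integers containing 2. Every 2-block B of G whose defect groups are the Sylow 2-subgroups of G (a block of full defect) and which is not the principal block is different from its complex-conjugate block, the block formed by the complex conjugates of the members of B. -/
theorem result {G : Type*} [Group G] [Finite G] (M : Ideal Cfsg.AlgInt) (hM : Cfsg.IsPModular 2 M) (B : Set (Cfsg.IrrCharacter G)) (hB : Cfsg.IsPBlock M B) (P : Sylow 2 G) (hfull : Cfsg.IsDefectGroup 2 M B (P : Subgroup G)) (hnp : B ≠ Cfsg.principalBlock M G) : {ψ : Cfsg.IrrCharacter G | ∃ χ ∈ B, (ψ : G → ℂ) = fun g => (starRingEnd ℂ) ((χ : G → ℂ) g)} ≠ B := by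
  classical
  haveI : Fintype G := Fintype.ofFinite G
  haveI : Fact (Nat.Prime 2) := ⟨Nat.prime_two⟩
  intro heq
  obtain ⟨χ, hχ, h0⟩ := H35.exists_height_zero (p := 2) hM hB
  have hclosed : ∀ ξ ∈ B, H80.conjIrr ξ ∈ B := by
    intro ξ hξ
    exact (Set.ext_iff.1 heq (H80.conjIrr ξ)).1 
      (show ∃ η ∈ B, (H80.conjIrr ξ : G → ℂ) = fun g => (starRingEnd ℂ) ((η : G → ℂ) g) from
        ⟨ξ, hξ, rfl⟩)
  refine hnp (H80.eq_principalBlock_of_odd hM hB hclosed hχ ?_)
  have hcard := H35.card_defectGroup hM hB hfull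
  rw [P.card_eq_multiplicity] at hcard
  have hd := Nat.pow_right_injective (le_refl 2) hcard
  have hbound : sInf ((fun ψ : Cfsg.IrrCharacter G =>
      (Cfsg.charDegree (ψ : G → ℂ)).factorization 2) '' B) ≤ (Nat.card G).factorization 2 :=
    (Nat.sInf_le (Set.mem_image_of_mem _ hχ)).trans ((Nat.factorization_le_iff_dvd
      (BlockBasic.charDegree_pos χ).ne' Nat.card_pos.ne').2 (BlockBasic.charDegree_dvd χ) 2)
  rw [Cfsg.blockDefect] at hd
  rw [Cfsg.blockHeight] at h0
  have hz : (Cfsg.charDegree (χ : G → ℂ)).factorization 2 = 0 := by omega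
  rw [← Nat.not_even_iff_odd, even_iff_two_dvd]
  intro h
  rw [Nat.factorization_eq_zero_iff] at hz
  rcases hz with h' | h' | h'
  · exact h' Nat.prime_two
  · exact h' h
  · exact (BlockBasic.charDegree_pos χ).ne' h' 

end Cfsg.Agent.S4490
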