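import Cfsg.Statements.S4491
import Cfsg.Agent.H83.Subsection
import Cfsg.Agent.H35.Defect

set_option autoImplicit false
open Cfsg

namespace Cfsg.Agent.S4491

open scoped ComplexConjugate

universe u

variable {G : Type u} [Group G] [Fintype G] {p : ℕ} [hp : Fact p.Prime] {M : Ideal Cfsg.AlgInt}

open scoped Classical in
theorem main (hM : Cfsg.IsPModular p M) {B : Set (Cfsg.IrrCharacter G)} (hB : Cfsg.IsPBlock M B) :
    (∑ᶠ χ ∈ B, Cfsg.charDegree (χ : G → ℂ) ^ 2).factorization p =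
      2 * (Nat.card G).factorization p - Cfsg.blockDefect p B := by
  set a := (Nat.card G).factorization p with ha
  set d := Cfsg.blockDefect p B with hd
  set m := H83.minExp p B with hm
  have hdm : d + m = a := H83.defect_add_minExp hM hB
  have hp0 : (p : ℤ) ≠ 0 := by exact_mod_cast hp.out.ne_zero
  obtain ⟨θ, hθ, h0⟩ := H83.exists_height_zero hM hB
  set f : Cfsg.IrrCharacter G → ℤ := fun ψ =>
    if ψ ∈ B then ((Cfsg.charDegree (ψ : G → ℂ) / p ^ m : ℕ) : ℤ) else 0 with hf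
  have hfd : ∀ ψ ∈ B, p ^ m * (Cfsg.charDegree (ψ : G → ℂ) / p ^ m) = Cfsg.charDegree (ψ : G → ℂ) :=
    fun ψ hψ => Nat.mul_div_cancel' ((pow_dvd_pow p (H83.minExp_le hψ)).trans (Nat.ordProj_dvd _ _))
  have hfc : ∀ ψ ∈ B, (ψ : G → ℂ) 1 = (p : ℂ) ^ m * (f ψ : ℂ) := fun ψ hψ => by
    simp only [hf, if_pos hψ]
    rw [BlockBasic.apply_one_eq_charDegree, Int.cast_natCast, ← Nat.cast_pow, ← Nat.cast_mul,
      hfd ψ hψ]
  have hfh : ∀ ψ ∈ B, ∃ f' : ℤ, f ψ = (p : ℤ) ^ Cfsg.blockHeight p B (ψ : G → ℂ) * f' ∧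
      ¬ (p : ℤ) ∣ f' := by
    intro ψ hψ
    set h := Cfsg.blockHeight p B (ψ : G → ℂ)
    set D := Cfsg.charDegree (ψ : G → ℂ)
    have hfac : D.factorization p = m + h := H83.factorization_eq hM hψ
    refine ⟨((D / p ^ (m + h) : ℕ) : ℤ), ?_, ?_⟩
    · simp only [hf, if_pos hψ]
      have h1 : p ^ (m + h) * (D / p ^ (m + h)) = D :=
        Nat.mul_div_cancel' (hfac ▸ Nat.ordProj_dvd D p)
      have h2 : D / p ^ m = p ^ h * (D / p ^ (m + h)) := by
        apply Nat.eq_of_mul_eq_mul_left (pow_pos hp.out.pos m)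
        rw [hfd ψ hψ, ← mul_assoc, ← pow_add, h1]
      rw [h2]
      push_cast
      rfl
    · rw [Int.natCast_dvd_natCast, ← hfac]
      exact Nat.not_dvd_ordCompl hp.out (BlockBasic.charDegree_pos ψ).ne'
  set e : Cfsg.IrrCharacter G → ℤ := fun ψ => H83.entry p B θ ψ with he
  set G' := Nat.card G / p ^ a with hG'
  have hG'eq : p ^ a * G' = Nat.card G := Nat.mul_div_cancel' (Nat.ordProj_dvd _ _)
  have hG'p : ¬ p ∣ G' := Nat.not_dvd_ordCompl hp.out Nat.card_pos.ne'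
  -- the key identity
  have hkey : ∀ ψ ∈ B, (G' : ℂ) * (e ψ : ℂ) =
      (f ψ : ℂ) * BlockBasic.omega (ψ : G → ℂ) (H83.regElt p θ) := by
    intro ψ hψ
    have h1 := H83.regInner_eq_omega (p := p) θ ψ
    rw [hfc ψ hψ, ← hG'eq, H83.regInner_symm] at h1
    simp only [he, H83.entry_spec hM hB hθ ψ]
    apply mul_left_cancel₀ (pow_ne_zero m (Nat.cast_ne_zero.2 hp.out.ne_zero) : (p : ℂ) ^ m ≠ 0)
    rw [← mul_assoc ((p : ℂ) ^ m) (f ψ : ℂ), ← h1, ← hdm]
    push_cast
    rw [pow_add, ← hd]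
    ring
  set n : Cfsg.IrrCharacter G → ℤ := fun ψ => e θ * f ψ - f θ * e ψ with hn
  have hdvd : ∀ ψ, (p : ℤ) ∣ n ψ := by
    intro ψ
    by_cases hψ : ψ ∈ B
    swap
    · simp only [hn, he, hf, if_neg hψ, H83.entry_eq_zero hM hB hθ hψ, mul_zero, sub_zero]
      exact dvd_zero _
    obtain ⟨f', hf', -⟩ := hfh ψ hψ
    obtain ⟨e', he'⟩ : (p : ℤ) ^ Cfsg.blockHeight p B (ψ : G → ℂ) ∣ e ψ :=
      H83.dvd_entry hM hB hθ hψ
    have hnn : n ψ = (p : ℤ) ^ Cfsg.blockHeight p B (ψ : G → ℂ) * (e θ * f' - f θ * e') := by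
      simp only [hn, hf', he']
      ring
    rw [hnn]
    refine Dvd.dvd.mul_left ?_ _
    refine ((Int.prime_iff_natAbs_prime.2 (by simpa using hp.out) : Prime (p : ℤ)).dvd_or_dvd
      (a := (G' : ℤ)) ?_).resolve_left (fun h => hG'p (Int.natCast_dvd_natCast.1 h))
    refine (BlockBasic.memLocalIdeal_intCast_iff hM _).1 ?_
    have hpc : ((p : ℂ) ^ Cfsg.blockHeight p B (ψ : G → ℂ)) ≠ 0 :=
      pow_ne_zero _ (Nat.cast_ne_zero.2 hp.out.ne_zero)
    have k1 := hkey θ hθ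
    have k2 := hkey ψ hψ
    rw [hf', he'] at k2
    push_cast at k2
    have k3 : (G' : ℂ) * (e' : ℂ) = (f' : ℂ) * BlockBasic.omega (ψ : G → ℂ) (H83.regElt p θ) :=
      mul_left_cancel₀ hpc (by linear_combination k2)
    have k4 : (((G' : ℤ) * (e θ * f' - f θ * e') : ℤ) : ℂ) =
        ((f θ * f' : ℤ) : ℂ) * (BlockBasic.omega (θ : G → ℂ) (H83.regElt p θ) -
          BlockBasic.omega (ψ : G → ℂ) (H83.regElt p θ)) := by
      push_cast
      linear_combination (f' : ℂ) * k1 - (f θ : ℂ) * k3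
    rw [k4]
    exact BlockBasic.memLocalIdeal_mul hM ((BlockBasic.mem_locRing (hM := hM)).1 (intCast_mem _ _))
      (BlockBasic.omega_congr hM (CharBasic.IsIrr.isClassFunction θ.2)
        (CharBasic.IsIrr.isClassFunction ψ.2) (BlockBasic.isPBlock_sameBlock hM hB hθ hψ)
        (H83.isCentralElt_regElt θ) (H83.isIntElt_regElt hM θ))
  choose g hg using hdvd
  have hfsum : ∀ x : G, (p : ℂ) ^ m * ∑ ψ : Cfsg.IrrCharacter G, (f ψ : ℂ) * (ψ : G → ℂ) x =
      ∑ ψ : Cfsg.IrrCharacter G, if ψ ∈ B then (ψ : G → ℂ) 1 * (ψ : G → ℂ) x else 0 := by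
    intro x
    rw [Finset.mul_sum]
    refine Finset.sum_congr rfl fun ψ _ => ?_
    split_ifs with hψ
    · rw [hfc ψ hψ]; ring
    · simp [hf, hψ]
  have hvan : ∀ x : G, x ≠ 1 → p ∣ orderOf x →
      ∑ ψ : Cfsg.IrrCharacter G, (g ψ : ℂ) * (ψ : G → ℂ) x = 0 := by
    intro x _ hx
    have h1 := BlockBasic.blockCoeff_eq_zero_of_singular hM hB hx
    rw [Cfsg.blockCoeff, BlockBasic.finsum_mem_eq_sum_ite, mul_eq_zero] at h1
    have h1' := congrArg (starRingEnd ℂ)
      (h1.resolve_left (inv_ne_zero (Nat.cast_ne_zero.2 Nat.card_pos.ne')))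
    rw [map_sum, map_zero] at h1'
    have h2 : ∑ ψ : Cfsg.IrrCharacter G, (f ψ : ℂ) * (ψ : G → ℂ) x = 0 := by
      have h := hfsum x
      rw [show (∑ ψ : Cfsg.IrrCharacter G, if ψ ∈ B then (ψ : G → ℂ) 1 * (ψ : G → ℂ) x else 0) = 0
        from Eq.trans (Finset.sum_congr rfl fun ψ _ => by
          split_ifs with hψ
          · rw [map_mul, Complex.conj_conj, BlockBasic.apply_one_eq_charDegree, Complex.conj_natCast]
          · rw [map_zero]) h1'] at h
      exact (mul_eq_zero.1 h).resolve_left (pow_ne_zero _ (Nat.cast_ne_zero.2 hp.out.ne_zero))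
    have h3 := H83.sum_entry_mul_apply hM hB hθ x
    rw [H83.pRegularPart_eq_zero _ hx, mul_zero] at h3
    apply mul_left_cancel₀ (Nat.cast_ne_zero.2 hp.out.ne_zero : (p : ℂ) ≠ 0)
    rw [mul_zero, Finset.mul_sum]
    calc ∑ ψ : Cfsg.IrrCharacter G, (p : ℂ) * ((g ψ : ℂ) * (ψ : G → ℂ) x)
        = ∑ ψ : Cfsg.IrrCharacter G, ((e θ : ℂ) * ((f ψ : ℂ) * (ψ : G → ℂ) x) -
            (f θ : ℂ) * ((e ψ : ℂ) * (ψ : G → ℂ) x)) := by
          refine Finset.sum_congr rfl fun ψ _ => ?_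
          have h4 : ((n ψ : ℤ) : ℂ) = (p : ℂ) * (g ψ : ℂ) := by rw [hg]; push_cast; rfl
          rw [← mul_assoc, ← h4]
          simp only [hn]
          push_cast
          ring
      _ = 0 := by
          rw [Finset.sum_sub_distrib, ← Finset.mul_sum, ← Finset.mul_sum, h2, h3]
          simp
  obtain ⟨k, hk⟩ := H83.degree_dvd_of_vanish g hvan
  set T : ℤ := ∑ ψ : Cfsg.IrrCharacter G, f ψ * (Cfsg.charDegree (ψ : G → ℂ) : ℤ) with hT
  have hθd : (Cfsg.charDegree (θ : G → ℂ) : ℤ) = (p : ℤ) ^ m * f θ := by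
    have h := hfc θ hθ
    rw [BlockBasic.apply_one_eq_charDegree] at h
    exact_mod_cast h
  have hTeq : e θ * T = (p : ℤ) ^ a * (f θ * f θ + p * k) := by
    apply Int.cast_injective (α := ℂ)
    have h5 := H83.sum_entry_mul_apply hM hB hθ 1
    rw [H83.pRegularPart_eq_self _ (by simp [orderOf_one, hp.out.ne_one] : ¬ p ∣ orderOf (1 : G)),
      hfc θ hθ] at h5
    have h6 : ∑ ψ : Cfsg.IrrCharacter G, ((n ψ : ℤ) : ℂ) * (ψ : G → ℂ) 1 =
        (p : ℂ) * ((p : ℂ) ^ a * k) := by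
      rw [← hk, Finset.mul_sum]
      exact Finset.sum_congr rfl fun ψ _ => by rw [hg]; push_cast; ring
    have h7 : ∑ ψ : Cfsg.IrrCharacter G, ((n ψ : ℤ) : ℂ) * (ψ : G → ℂ) 1 =
        (e θ : ℂ) * (T : ℂ) - (f θ : ℂ) * ((p : ℂ) ^ d * ((p : ℂ) ^ m * (f θ : ℂ))) := by
      rw [hd, ← h5, hT, Int.cast_sum, Finset.mul_sum, Finset.mul_sum, ← Finset.sum_sub_distrib]
      refine Finset.sum_congr rfl fun ψ _ => ?_
      simp only [hn, he]
      push_cast
      rw [BlockBasic.apply_one_eq_charDegree]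
      ring
    rw [h7] at h6
    push_cast
    rw [← hdm, pow_add] at *
    linear_combination h6
  have heθ : ¬ (p : ℤ) ∣ e θ := by
    have h := H83.not_dvd_entry_of_height_zero hM hB hθ h0 hθ
    rwa [h0, zero_add, pow_one] at h
  have hfθ : ¬ (p : ℤ) ∣ f θ := by
    obtain ⟨f', hf', hnd⟩ := hfh θ hθ
    rw [h0, pow_zero, one_mul] at hf'
    rwa [hf']
  have hrhs : ¬ (p : ℤ) ∣ f θ * f θ + p * k := by
    intro h
    have h' := dvd_sub h (dvd_mul_right (p : ℤ) k)
    rw [add_sub_cancel_right] at h'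
    rcases (Int.prime_iff_natAbs_prime.2 (by simpa using hp.out) : Prime (p : ℤ)).dvd_or_dvd h' with
      h'' | h'' <;> exact hfθ h''
  -- conclude
  set S := ∑ᶠ χ ∈ B, Cfsg.charDegree (χ : G → ℂ) ^ 2 with hS
  have hST : (S : ℤ) = (p : ℤ) ^ m * T := by
    rw [hS, finsum_mem_eq_toFinset_sum, hT, Finset.mul_sum, Nat.cast_sum,
      ← Finset.sum_subset (Finset.subset_univ B.toFinset) fun ψ _ hψ => by
        simp [hf, show ψ ∉ B by simpa using hψ]]
    refine Finset.sum_congr rfl fun ψ hψ => ?_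
    simp only [hf, if_pos (Set.mem_toFinset.1 hψ)]
    rw [← mul_assoc, ← Nat.cast_pow, ← Nat.cast_mul, hfd ψ (Set.mem_toFinset.1 hψ), ← Nat.cast_mul, sq]
  have habs := congrArg Int.natAbs (show e θ * (S : ℤ) = (p : ℤ) ^ (a + m) * (f θ * f θ + p * k) by
    rw [hST, pow_add, mul_left_comm, hTeq]; ring)
  rw [Int.natAbs_mul, Int.natAbs_mul, Int.natAbs_pow, Int.natAbs_natCast, Int.natAbs_natCast] at habs
  have he' : ¬ p ∣ (e θ).natAbs := fun h => heθ (Int.natCast_dvd.2 h)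
  have hr' : ¬ p ∣ (f θ * f θ + p * k).natAbs := fun h => hrhs (Int.natCast_dvd.2 h)
  have hS0 : S ≠ 0 := by
    intro h
    rw [h, mul_zero] at habs
    rcases mul_eq_zero.1 habs.symm with h1 | h1
    · exact pow_ne_zero _ hp.out.ne_zero h1
    · exact hr' (by rw [h1]; exact dvd_zero p)
  have hv := congrArg (fun x => x.factorization p) habs
  rw [Nat.factorization_mul (fun h => he' (by rw [h]; exact dvd_zero p)) hS0,
    Nat.factorization_mul (pow_ne_zero _ hp.out.ne_zero) (fun h => hr' (by rw [h]; exact dvd_zero p)),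
    Nat.factorization_pow, Finsupp.add_apply, Finsupp.add_apply, Finsupp.smul_apply,
    Nat.factorization_eq_zero_of_not_dvd he', Nat.factorization_eq_zero_of_not_dvd hr',
    hp.out.factorization_self, smul_eq_mul] at hv
  omega

/-- Let B be a p-block of defect d of the finite group G (relative to a maximal ideal M of the algebraic integers containing p), and let p^a be the p-part of the order of G. Then the exact power of p dividing the sum of the squares of the degrees of the irreducible characters in B is p^(2a − d). -/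
theorem result {G : Type*} [Group G] [Finite G] (p : ℕ) [Fact p.Prime] (M : Ideal Cfsg.AlgInt) (hM : Cfsg.IsPModular p M) (B : Set (Cfsg.IrrCharacter G)) (hB : Cfsg.IsPBlock M B) : (∑ᶠ χ ∈ B, Cfsg.charDegree (χ : G → ℂ) ^ 2).factorization p = 2 * (Nat.card G).factorization p - Cfsg.blockDefect p B := by
  cases nonempty_fintype G
  exact main hM hB

end Cfsg.Agent.S4491
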