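import Cfsg.Statements.S4493
import Cfsg.Agent.H84.ItoSylow

set_option autoImplicit false
open Cfsg

namespace Cfsg.Agent.S4493

/-- Let G be a finite solvable group and p a prime. Then G has a normal abelian Sylow p-subgroup if and only if no irreducible character degree of G is divisible by p. -/
theorem result {G : Type*} [Group G] [Finite G] (hsolv : Group.IsSolvable G) (p : ℕ) (hp : p.Prime) : (∃ P : Subgroup G, P.Normal ∧ (∀ x ∈ P, ∀ y ∈ P, x * y = y * x) ∧ IsPGroup p P ∧ ¬ p ∣ P.index) ↔ ∀ χ : Cfsg.IrrCharacter G, ¬ p ∣ Cfsg.charDegree (χ : G → ℂ) := by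
  haveI : Fact p.Prime := ⟨hp⟩
  haveI := hsolv
  constructor
  · rintro ⟨P, hn, hab, hP, hi⟩ χ
    refine Cfsg.Agent.H84.not_dvd_degree_of_normal_abelian_sylow (hP.toSylow hi) ?_ ?_ χ
    · show P.Normal; exact hn
    · show IsMulCommutative P; exact ⟨⟨fun a b => Subtype.ext (hab a a.2 b b.2)⟩⟩
  · intro h
    obtain ⟨P⟩ := (inferInstance : Nonempty (Sylow p G))
    obtain ⟨h1, h2⟩ := Cfsg.Agent.H84.normal_abelian_sylow_of_degrees Cfsg.Agent.Cores.isPSolvable_of_isSolvable h P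
    exact ⟨P, h1, h2, P.2, P.not_dvd_index⟩

end Cfsg.Agent.S4493
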