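import Cfsg.Statements.S4495
import Mathlib.GroupTheory.Transfer
import Mathlib.GroupTheory.PGroup
import Mathlib.GroupTheory.SpecificGroups.Cyclic
import Mathlib.Tactic

set_option autoImplicit false
open Cfsg

namespace Cfsg.Agent.S4495

/-- Let the finite group G contain an element x of prime order p with C_G(x) = ⟨x⟩, and let t be the number of conjugacy classes of elements of order p. If t ≠ p − 1 then the commutator subgroup has index at most (p − 1)/t; if t = p − 1 it has index exactly p. -/
theorem result {G : Type*} [Group G] [Finite G] (p : ℕ) (hp : p.Prime) (x : G) (hx : orderOf x = p) (hC : Subgroup.centralizer ({x} : Set G) = Subgroup.zpowers x) (t : ℕ) (ht : Nat.card {C : ConjClasses G // ∃ g ∈ C.carrier, orderOf g = p} = t) : (t ≠ p - 1 → (commutator G).index * t ≤ p - 1) ∧ (t = p - 1 → (commutator G).index = p) := by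
  classical
  haveI : Fact p.Prime := ⟨hp⟩
  set X := Subgroup.zpowers x with hX
  have hXcard : Nat.card X = p := by rw [hX, Nat.card_zpowers, hx]
  have hgen : ∀ y ∈ X, y ≠ 1 → Subgroup.zpowers y = X := by
    intro y hy hy1
    refine Subgroup.eq_of_le_of_card_ge (Subgroup.zpowers_le.mpr hy) ?_
    have hd : orderOf y ∣ p := by
      rw [← hXcard, ← Nat.card_zpowers]
      exact Subgroup.card_dvd_of_le (Subgroup.zpowers_le.mpr hy)
    rcases (Nat.dvd_prime hp).mp hd with h | h
    · exact absurd (orderOf_eq_one_iff.mp h) hy1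
    · rw [hXcard, Nat.card_zpowers, h]
  have hcentY : ∀ y ∈ X, y ≠ 1 → ∀ g, Commute g y → g ∈ X := by
    intro y hy hy1 g hg
    rw [← hC, Subgroup.mem_centralizer_iff]
    intro z hz
    rw [Set.mem_singleton_iff] at hz
    rw [hz]
    have hxy : x ∈ Subgroup.zpowers y := by rw [hgen y hy hy1, hX]; exact Subgroup.mem_zpowers x
    obtain ⟨k, hk⟩ := Subgroup.mem_zpowers_iff.mp hxy
    rw [← hk]
    exact ((hg.zpow_right k).eq).symm
  -- the Sylow `p`-subgroup is `X`
  obtain ⟨P, hXP⟩ := (IsPGroup.of_card (n := 1) (by rw [hXcard, pow_one]) : IsPGroup p X).exists_le_sylow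
  have hPX : (P : Subgroup G) = X := by
    refine le_antisymm ?_ hXP
    haveI : Nontrivial (P : Subgroup G) := by
      refine (Subgroup.nontrivial_iff_ne_bot _).mpr fun h => ?_
      have hx1 : x ∈ (P : Subgroup G) := hXP (Subgroup.mem_zpowers x)
      rw [h, Subgroup.mem_bot] at hx1
      rw [hx1, orderOf_one] at hx
      exact hp.one_lt.ne hx
    haveI : Finite (P : Subgroup G) := inferInstance
    obtain ⟨⟨z, hz⟩, hz1⟩ := (nontrivial_iff_exists_ne (1 : Subgroup.center (P : Subgroup G))).mp
      P.isPGroup'.center_nontrivial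
    have hzc : ∀ g ∈ (P : Subgroup G), Commute g (z : G) := fun g hg =>
      congrArg Subtype.val (Subgroup.mem_center_iff.mp hz ⟨g, hg⟩)
    have hzne : (z : G) ≠ 1 := fun h => hz1 (Subtype.ext (Subtype.ext h))
    have hx1 : x ≠ 1 := fun h => by rw [h, orderOf_one] at hx; exact hp.one_lt.ne hx
    have hzX : (z : G) ∈ X :=
      hcentY x (Subgroup.mem_zpowers x) hx1 _ (hzc x (hXP (Subgroup.mem_zpowers x))).symm
    exact fun g hg => hcentY _ hzX hzne g (hzc g hg)
  have hconjX : ∀ g : G, orderOf g = p → ∃ c : G, c * g * c⁻¹ ∈ X := by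
    intro g hg
    obtain ⟨Q, hQ⟩ := (IsPGroup.of_card (n := 1) (by rw [Nat.card_zpowers, hg, pow_one]) :
      IsPGroup p (Subgroup.zpowers g)).exists_le_sylow
    obtain ⟨c, hc⟩ := MulAction.exists_smul_eq G Q P
    refine ⟨c, ?_⟩
    rw [← hPX, ← hc]
    exact Subgroup.smul_mem_pointwise_smul g (MulAut.conj c) _ (hQ (Subgroup.mem_zpowers g))
  -- counting
  set N := Subgroup.normalizer (X : Set G) with hN
  have hXN : X ≤ N := Subgroup.le_normalizer
  set m := X.relIndex N with hm
  have hmem : ∀ g : G, ∀ y ∈ X, y ≠ 1 → g * y * g⁻¹ ∈ X → g ∈ N := by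
    intro g y hy hy1 hgy
    have hgy1 : g * y * g⁻¹ ≠ 1 := fun h => hy1 (by simpa using h)
    have hmap : X.map (MulAut.conj g).toMonoidHom = X := by
      conv_lhs => rw [← hgen y hy hy1]
      rw [MonoidHom.map_zpowers]
      exact hgen _ hgy hgy1
    refine Subgroup.mem_normalizer_iff.mpr fun h => ?_
    conv_rhs => rw [← hmap]
    exact (Subgroup.mem_map_iff_mem (f := (MulAut.conj g).toMonoidHom) (MulAut.conj g).injective).symm
  have hfib : ∀ y ∈ X, y ≠ 1 → Nat.card {z : G // z ∈ X ∧ IsConj y z} = m := by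
    intro y hy hy1
    rw [hm, Subgroup.relIndex, Subgroup.index]
    symm
    refine Nat.card_congr (Equiv.ofBijective
      (fun c : N ⧸ X.subgroupOf N => (⟨(c.out : G) * y * (c.out : G)⁻¹,
        (Subgroup.mem_normalizer_iff.mp c.out.2 y).mp hy,
        isConj_iff.mpr ⟨_, rfl⟩⟩ : {z : G // z ∈ X ∧ IsConj y z})) ⟨?_, ?_⟩)
    · intro c d hcd
      simp only [Subtype.mk.injEq] at hcd
      rw [← QuotientGroup.out_eq' c, ← QuotientGroup.out_eq' d, QuotientGroup.eq,
        Subgroup.mem_subgroupOf]
      refine hcentY y hy hy1 _ ?_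
      show ((c.out : G))⁻¹ * (d.out : G) * y = y * (((c.out : G))⁻¹ * (d.out : G))
      calc ((c.out : G))⁻¹ * (d.out : G) * y
          = (c.out : G)⁻¹ * ((d.out : G) * y * (d.out : G)⁻¹) * (d.out : G) := by group
        _ = (c.out : G)⁻¹ * ((c.out : G) * y * (c.out : G)⁻¹) * (d.out : G) := by rw [hcd]
        _ = y * (((c.out : G))⁻¹ * (d.out : G)) := by group
    · rintro ⟨z, hz, hyz⟩
      obtain ⟨g, hg⟩ := isConj_iff.mp hyz
      have hgN : g ∈ N := hmem g y hy hy1 (hg ▸ hz)
      obtain ⟨h, hh⟩ := QuotientGroup.mk_out_eq_mul (X.subgroupOf N) ⟨g, hgN⟩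
      refine ⟨QuotientGroup.mk ⟨g, hgN⟩, Subtype.ext ?_⟩
      simp only [hh, Subgroup.coe_mul]
      obtain ⟨k, hk⟩ := Subgroup.mem_zpowers_iff.mp
        (show ((h : N) : G) ∈ Subgroup.zpowers y by rw [hgen y hy hy1]; exact h.2)
      rw [← hk, ← hg]
      group
  let T := {C : ConjClasses G // ∃ g ∈ C.carrier, orderOf g = p}
  let S := {z : G // z ∈ X ∧ z ≠ 1}
  have hord : ∀ z : S, orderOf (z : G) = p := fun z => by
    rw [← Nat.card_zpowers, hgen _ z.2.1 z.2.2, hXcard]
  let f : S → T := fun z => ⟨ConjClasses.mk z.1, z.1, ConjClasses.mem_carrier_mk, hord z⟩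
  have hfibT : ∀ C : T, Nat.card {z : S // f z = C} = m := by
    rintro ⟨C, g, hgC, hg⟩
    obtain ⟨c, hc⟩ := hconjX g hg
    have hcy : c * g * c⁻¹ ≠ 1 := fun h => by
      have : g = 1 := by simpa using h
      rw [this, orderOf_one] at hg; exact hp.one_lt.ne hg
    rw [← hfib _ hc hcy]
    have hmk : C = ConjClasses.mk (c * g * c⁻¹) := by
      rw [ConjClasses.mem_carrier_iff_mk_eq] at hgC
      rw [← hgC, ConjClasses.mk_eq_mk_iff_isConj]
      exact isConj_iff.mpr ⟨c, rfl⟩
    refine Nat.card_congr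
      { toFun := fun z => ⟨z.1.1, z.1.2.1, ?_⟩
        invFun := fun z => ⟨⟨z.1, z.2.1, ?_⟩, ?_⟩
        left_inv := fun z => rfl
        right_inv := fun z => rfl }
    · have h1 : ConjClasses.mk z.1.1 = C := congrArg Subtype.val z.2
      exact ConjClasses.mk_eq_mk_iff_isConj.mp (by rw [← hmk]; exact h1.symm)
    · intro h
      have := z.2.2
      rw [h, isConj_one_left] at this
      exact hcy this
    · refine Subtype.ext ?_
      show ConjClasses.mk z.1 = C
      rw [hmk]
      exact (ConjClasses.mk_eq_mk_iff_isConj.mpr z.2.2).symm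
  haveI : Finite T := Subtype.finite
  haveI : Fintype T := Fintype.ofFinite _
  have hS : Nat.card S = t * m := by
    rw [Nat.card_congr (Equiv.sigmaFiberEquiv f).symm, Nat.card_sigma]
    simp only [hfibT, Finset.sum_const, Finset.card_univ, smul_eq_mul]
    rw [← ht, Nat.card_eq_fintype_card]
  have hS' : Nat.card S = p - 1 := by
    haveI : Fintype X := Fintype.ofFinite _
    rw [Nat.card_congr (β := {z : X // z ≠ 1})
      { toFun := fun z => ⟨⟨z.1, z.2.1⟩, fun h => z.2.2 (congrArg Subtype.val h)⟩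
        invFun := fun z => ⟨z.1.1, z.1.2, fun h => z.2 (Subtype.ext h)⟩
        left_inv := fun z => rfl
        right_inv := fun z => rfl }, Nat.card_eq_fintype_card, Fintype.card_subtype_compl,
      Fintype.card_subtype_eq, ← Nat.card_eq_fintype_card, hXcard]
  have hp1 : 0 < p - 1 := by have := hp.two_le; omega
  constructor
  · intro hne
    have hm1 : m ≠ 1 := fun h => hne (by rw [h, mul_one] at hS; omega)
    obtain ⟨n, hnN, hnX⟩ : ∃ n ∈ N, n ∉ X := by
      by_contra! h
      exact hm1 (Subgroup.relIndex_eq_one.mpr h)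
    have hx1 : x ≠ 1 := fun h => by rw [h, orderOf_one] at hx; exact hp.one_lt.ne hx
    have hcx : n * x * n⁻¹ * x⁻¹ ∈ X ∧ n * x * n⁻¹ * x⁻¹ ≠ 1 := by
      refine ⟨X.mul_mem ((Subgroup.mem_normalizer_iff.mp hnN x).mp (Subgroup.mem_zpowers x))
        (X.inv_mem (Subgroup.mem_zpowers x)), fun h => hnX ?_⟩
      refine hcentY x (Subgroup.mem_zpowers x) hx1 n ?_
      exact mul_inv_eq_iff_eq_mul.mp (mul_inv_eq_one.mp h)
    have hXG : X ≤ commutator G := by
      rw [← hgen _ hcx.1 hcx.2, Subgroup.zpowers_le, commutator_def]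
      exact Subgroup.commutator_mem_commutator (Subgroup.mem_top n) (Subgroup.mem_top x)
    have hsup : N ⊔ commutator G = ⊤ := by
      have := Sylow.normalizer_sup_eq_top (P.subtype (hPX ▸ hXG))
      rw [Sylow.coe_subtype, Subgroup.subgroupOf_map_subtype,
        inf_eq_left.mpr (hPX ▸ hXG)] at this
      simpa only [hPX] using this
    have hidx : (commutator G).index = (commutator G).relIndex N := by
      rw [← Subgroup.relIndex_top_right, ← hsup]
      exact Subgroup.relIndex_sup_right _ _
    have hle : (commutator G).index ≤ m := by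
      rw [hidx]
      refine Nat.le_of_dvd (Nat.pos_of_ne_zero fun h => ?_)
        (Subgroup.relIndex_dvd_of_le_left N hXG)
      rw [hm] at h
      exact Subgroup.index_ne_zero_of_finite h
    calc (commutator G).index * t ≤ m * t := Nat.mul_le_mul_right t hle
      _ = p - 1 := by rw [mul_comm, ← hS, hS']
  · intro he
    have hm1 : m = 1 := by
      rw [hS, he] at hS'
      exact Nat.eq_of_mul_eq_mul_left hp1 (by omega)
    have hNX : N ≤ X := Subgroup.relIndex_eq_one.mp hm1
    have hxX : ∀ a ∈ X, ∀ b ∈ X, a * b = b * a := by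
      intro a ha b hb
      obtain ⟨i, rfl⟩ := Subgroup.mem_zpowers_iff.mp ha
      obtain ⟨j, rfl⟩ := Subgroup.mem_zpowers_iff.mp hb
      exact (Commute.zpow_zpow_self x i j).eq
    have hburn : Subgroup.normalizer ((P : Subgroup G) : Set G) ≤
        Subgroup.centralizer ((P : Subgroup G) : Set G) := by
      rw [hPX]
      intro g hg
      rw [Subgroup.mem_centralizer_iff]
      exact fun z hz => hxX z hz g (hNX hg)
    set K := (MonoidHom.transferSylow P hburn).ker with hK
    have hKP : Subgroup.IsComplement' K (P : Subgroup G) :=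
      MonoidHom.ker_transferSylow_isComplement' P hburn
    have hKidx : K.index = p := by
      have := hKP.card_mul
      rw [hPX, hXcard, ← K.card_mul_index] at this
      exact (Nat.eq_of_mul_eq_mul_left Nat.card_pos this).symm
    suffices commutator G = K by rw [this, hKidx]
    refine le_antisymm ?_ fun k hk => ?_
    · rw [commutator_def, Subgroup.commutator_le]
      intro a _ b _
      rw [hK, MonoidHom.mem_ker, map_commutatorElement, commutatorElement_eq_one_iff_mul_comm]
      exact Subtype.ext (hxX _ (hPX ▸ SetLike.coe_mem _) _ (hPX ▸ SetLike.coe_mem _))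
    · let φ : K → K := fun k => ⟨(k : G)⁻¹ * x * k * x⁻¹, by
        rw [mul_assoc, mul_assoc, ← mul_assoc x]
        exact K.mul_mem (K.inv_mem k.2) ((inferInstance : K.Normal).conj_mem _ k.2 x)⟩
      have hφ : Function.Injective φ := by
        intro a b hab
        have h1 : (a : G)⁻¹ * x * a * x⁻¹ = (b : G)⁻¹ * x * b * x⁻¹ := congrArg Subtype.val hab
        have h2 : (b : G) * (a : G)⁻¹ ∈ X := by
          rw [← hC, Subgroup.mem_centralizer_iff]
          intro z hz
          rw [Set.mem_singleton_iff] at hz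
          rw [hz]
          have h3 := mul_right_cancel h1
          calc x * ((b : G) * (a : G)⁻¹)
              = b * ((b : G)⁻¹ * x * b) * (a : G)⁻¹ := by group
            _ = b * ((a : G)⁻¹ * x * a) * (a : G)⁻¹ := by rw [h3]
            _ = b * (a : G)⁻¹ * x := by group
        have h3 : (b : G) * (a : G)⁻¹ = 1 := by
          have := hKP.disjoint.le_bot (x := (b : G) * (a : G)⁻¹)
            ⟨K.mul_mem b.2 (K.inv_mem a.2), hPX.symm ▸ h2⟩
          exact Subgroup.mem_bot.mp this
        exact Subtype.ext (mul_inv_eq_one.mp h3).symm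
      obtain ⟨a, ha⟩ := (Finite.injective_iff_surjective.mp hφ) ⟨k, hk⟩
      have h1 : (a : G)⁻¹ * x * a * x⁻¹ = k := congrArg Subtype.val ha
      rw [← h1, commutator_def]
      have := Subgroup.commutator_mem_commutator (Subgroup.mem_top (a : G)⁻¹) (Subgroup.mem_top x)
      rwa [commutatorElement_def, inv_inv] at this

end Cfsg.Agent.S4495
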