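import Cfsg.Statements.S4496
import Cfsg.Agent.H80.SelfCentralizing

set_option autoImplicit false
open Cfsg

namespace Cfsg.Agent.S4496

/-- Let the finite group G contain an element x of prime order p with C_G(x) = ⟨x⟩. Then: (a) every normal subgroup of order divisible by p contains the commutator subgroup; (b) every normal subgroup S of order prime to p has order dividing the number of subgroups of order p of G and congruent to 1 modulo p, and in G/S the image of x again has prime order p and commutes only with its own powers. -/
theorem result {G : Type*} [Group G] [Finite G] (p : ℕ) (hp : p.Prime) (x : G) (hx : orderOf x = p) (hC : Subgroup.centralizer ({x} : Set G) = Subgroup.zpowers x) (S : Subgroup G) [S.Normal] : (p ∣ Nat.card S → commutator G ≤ S) ∧ (¬ p ∣ Nat.card S → Nat.card S ∣ Nat.card {H : Subgroup G // Nat.card H = p} ∧ Nat.card S % p = 1 ∧ orderOf (QuotientGroup.mk x : G ⧸ S) = p ∧ Subgroup.centralizer ({(QuotientGroup.mk x : G ⧸ S)} : Set (G ⧸ S)) = Subgroup.zpowers (QuotientGroup.mk x : G ⧸ S)) := by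
  haveI : Fact p.Prime := ⟨hp⟩
  open Cfsg.Agent.H80.SelfCentralizing in
  refine ⟨fun h => commutator_le_of_dvd hx hC S h, fun hS => ⟨?_, card_mod_eq_one hx hC S hS, ?_, ?_⟩⟩
  · obtain ⟨P, hP⟩ := Cfsg.Agent.H80.SelfCentralizing.isSylow hx hC
    have h1 : Nat.card {H : Subgroup G // Nat.card H = p} =
        (Subgroup.normalizer (Subgroup.zpowers x : Set G)).index := by
      rw [← hP, Sylow.coe_coe, ← P.card_eq_index_normalizer]
      have hPp : Nat.card (P : Subgroup G) = p := by
        rw [hP, Cfsg.Agent.H80.SelfCentralizing.card_zpowers_eq hx]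
      have hfac : p = p ^ (Nat.card G).factorization p := by
        rw [← P.card_eq_multiplicity]; exact hPp.symm
      refine Nat.card_congr
        { toFun := fun H => Sylow.ofCard H.1 (H.2.trans hfac)
          invFun := fun Q => ⟨Q, by rw [Q.card_eq_multiplicity]; exact hfac.symm⟩
          left_inv := fun H => rfl
          right_inv := fun Q => Sylow.ext rfl }
    rw [h1]
    exact Cfsg.Agent.H80.SelfCentralizing.card_dvd_index_normalizer hx hC S hS
  · have h1 := orderOf_map_dvd (QuotientGroup.mk' S) x
    rw [hx] at h1
    rcases (Nat.dvd_prime hp).mp h1 with h | h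
    · rw [orderOf_eq_one_iff, QuotientGroup.mk'_apply, QuotientGroup.eq_one_iff] at h
      exact absurd (hx ▸ S.orderOf_dvd_natCard h) hS
    · exact h
  · refine le_antisymm (fun q hq => ?_) ?_
    · induction q using QuotientGroup.induction_on with
      | _ g =>
        refine Cfsg.Agent.H80.SelfCentralizing.eq_zpowers_of_centralizer hx hC S hS ?_
        rw [Subgroup.mem_centralizer_singleton_iff] at hq
        rw [← QuotientGroup.eq_one_iff]
        simp only [QuotientGroup.mk_mul, QuotientGroup.mk_inv, hq]
        group
    · rw [Subgroup.zpowers_le, Subgroup.mem_centralizer_singleton_iff]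

end Cfsg.Agent.S4496
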