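import Cfsg.Statements.S4497
import Cfsg.Agent.H80.SelfCentralizing
import Cfsg.Agent.S4495

set_option autoImplicit false
open Cfsg

namespace Cfsg.Agent.S4497

/-- Let the finite group G contain an element x of prime order p with C_G(x) = ⟨x⟩, let t be the number of conjugacy classes of elements of order p, and let S* = O_{p′}(G) be the largest normal subgroup of order prime to p. Then S* ≤ G′; if t ≠ p − 1 the quotient G′/S* is simple (in particular non-trivial); if t = p − 1 then G′ = S*. -/
theorem result {G : Type*} [Group G] [Finite G] (p : ℕ) (hp : p.Prime) (x : G) (hx : orderOf x = p) (hC : Subgroup.centralizer ({x} : Set G) = Subgroup.zpowers x) (t : ℕ) (ht : Nat.card {C : ConjClasses G // ∃ g ∈ C.carrier, orderOf g = p} = t) : Cfsg.pPrimeCore p G ≤ commutator G ∧ (t ≠ p - 1 → ∀ h : ((Cfsg.pPrimeCore p G).subgroupOf (commutator G)).Normal, IsSimpleGroup (↥(commutator G) ⧸ (Cfsg.pPrimeCore p G).subgroupOf (commutator G))) ∧ (t = p - 1 → commutator G = Cfsg.pPrimeCore p G) := by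
  haveI : Fact p.Prime := ⟨hp⟩
  have hS : ¬ p ∣ Nat.card (pPrimeCore p G) := Cfsg.Agent.Cores.not_dvd_card_pPrimeCore
  have hle : pPrimeCore p G ≤ commutator G :=
    Cfsg.Agent.H80.SelfCentralizing.le_commutator hx hC _ hS
  obtain ⟨h95a, h95b⟩ := Cfsg.Agent.S4495.result p hp x hx hC t ht
  have hsq := Cfsg.Agent.H80.SelfCentralizing.not_sq_dvd hx hC
  refine ⟨hle, fun hne _ => ?_, fun he => ?_⟩
  · have hidx := h95a hne
    have ht0 : 0 < t := by
      rw [← ht, Nat.card_pos_iff]
      exact ⟨⟨⟨ConjClasses.mk x, x, ConjClasses.mem_carrier_mk, hx⟩⟩, inferInstance⟩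
    have hp' : p ∣ Nat.card (commutator G) := by
      have hd : p ∣ Nat.card (commutator G) * (commutator G).index := by
        rw [Subgroup.card_mul_index]
        exact hx ▸ orderOf_dvd_natCard x
      rcases hp.dvd_mul.mp hd with h | h
      · exact h
      · exfalso
        have h1 := Nat.le_of_dvd (Nat.pos_of_ne_zero Subgroup.index_ne_zero_of_finite) h
        have h2 : p * t ≤ p - 1 := le_trans (Nat.mul_le_mul_right t h1) hidx
        have h3 : p ≤ p * t := Nat.le_mul_of_pos_right p ht0
        have := hp.pos
        omega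
    have hgenG : ∀ M : Subgroup (commutator G), M.Normal → p ∣ Nat.card M → M = ⊤ := by
      intro M hM hd
      haveI := hM
      let T : Set G := {g | orderOf g = p}
      haveI hK : (Subgroup.closure T).Normal := by
        refine ⟨fun k hk g => ?_⟩
        have h1 : (Subgroup.closure T).map (MulAut.conj g).toMonoidHom ≤ Subgroup.closure T := by
          rw [MonoidHom.map_closure]
          refine Subgroup.closure_mono ?_
          rintro _ ⟨a, ha, rfl⟩
          show orderOf ((MulAut.conj g).toMonoidHom a) = p
          rw [orderOf_injective _ (MulAut.conj g).injective]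
          exact ha
        exact h1 ⟨k, hk, rfl⟩
      have hKp : p ∣ Nat.card (Subgroup.closure T) :=
        hx ▸ Subgroup.orderOf_dvd_natCard _ (Subgroup.subset_closure hx)
      have hGK := Cfsg.Agent.H80.SelfCentralizing.commutator_le_of_dvd hx hC _ hKp
      have hKM : Subgroup.closure T ≤ M.map (commutator G).subtype := by
        rw [Subgroup.closure_le]
        intro g hg
        have hgc : g ∈ commutator G :=
          Cfsg.Agent.H80.SelfCentralizing.mem_normal_of_orderOf hx hC _ hp' hg
        exact ⟨⟨g, hgc⟩, Cfsg.Agent.H80.SelfCentralizing.mem_of_orderOf hx hC M hd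
          (by rw [Subgroup.orderOf_mk]; exact hg), rfl⟩
      rw [eq_top_iff]
      intro a _
      obtain ⟨b, hb, hba⟩ := hKM (hGK a.2)
      rwa [← Subtype.ext hba]
    have hlow : ∀ M : Subgroup (commutator G), M.Normal → ¬ p ∣ Nat.card M →
        M ≤ (pPrimeCore p G).subgroupOf (commutator G) := by
      intro M hM hd
      haveI := hM
      rw [← Cfsg.Agent.Cores.pPrimeCore_of_normal]
      exact Cfsg.Agent.Cores.le_pPrimeCore ((hp.coprime_iff_not_dvd.mpr hd).symm)
    set L := (pPrimeCore p G).subgroupOf (commutator G)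
    have hLtop : L ≠ ⊤ := by
      intro h
      have h1 : Nat.card L = Nat.card (pPrimeCore p G) :=
        Nat.card_congr (Subgroup.subgroupOfEquivOfLe hle).toEquiv
      rw [h, Subgroup.card_top] at h1
      exact hS (h1 ▸ hp')
    haveI : Nontrivial (commutator G ⧸ L) := by
      obtain ⟨a, -, ha⟩ := SetLike.exists_of_lt (lt_top_iff_ne_top.mpr hLtop)
      exact ⟨⟨QuotientGroup.mk a, 1, fun h => ha ((QuotientGroup.eq_one_iff a).mp h)⟩⟩
    refine ⟨fun Q hQ => ?_⟩
    set M := Q.comap (QuotientGroup.mk' L)
    have hQM : M.map (QuotientGroup.mk' L) = Q :=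
      Subgroup.map_comap_eq_self_of_surjective (QuotientGroup.mk'_surjective L) Q
    have hMn : M.Normal := hQ.comap _
    by_cases hd : p ∣ Nat.card M
    · right
      rw [← hQM, hgenG M hMn hd, Subgroup.map_top_of_surjective _ (QuotientGroup.mk'_surjective L)]
    · left
      rw [← hQM, Subgroup.map_eq_bot_iff, QuotientGroup.ker_mk']
      exact hlow M hMn hd
  · refine le_antisymm ?_ hle
    refine Cfsg.Agent.Cores.le_pPrimeCore ((hp.coprime_iff_not_dvd.mpr fun h => ?_).symm)
    refine hsq ?_
    rw [← Subgroup.card_mul_index (commutator G), h95b he]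
    exact Nat.mul_dvd_mul h dvd_rfl

end Cfsg.Agent.S4497
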