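import Cfsg.Statements.S4498
import Cfsg.Agent.H80.Pairing

set_option autoImplicit false
open Cfsg

namespace Cfsg.Agent.S4498

/-- Let p and q be distinct primes dividing the order of the finite group G, and suppose G has no element of order p·q. Fix maximal ideals M_p over p and M_q over q of the algebraic integers. Then the principal p-block and the principal q-block of G have a non-principal irreducible character in common. -/
theorem result {G : Type*} [Group G] [Finite G] (p q : ℕ) [Fact p.Prime] [Fact q.Prime] (hpq : p ≠ q) (hp : p ∣ Nat.card G) (hq : q ∣ Nat.card G) (hno : ∀ g : G, orderOf g ≠ p * q) (Mp Mq : Ideal Cfsg.AlgInt) (hMp : Cfsg.IsPModular p Mp) (hMq : Cfsg.IsPModular q Mq) : ∃ χ : Cfsg.IrrCharacter G, (χ : G → ℂ) ≠ (fun _ => 1) ∧ χ ∈ Cfsg.principalBlock Mp G ∧ χ ∈ Cfsg.principalBlock Mq G := by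
  classical
  haveI : Fintype G := Fintype.ofFinite G
  let f : ℕ → G → ℂ := fun r x => if r ∣ orderOf x then 1 else 0
  have hf : ∀ r, Cfsg.IsClassFunction G (f r) := by
    intro r g h
    have e : orderOf (h * g * h⁻¹) = orderOf g := MulEquiv.orderOf_eq (MulAut.conj h) g
    simp only [f, e]
  have hvan : ∀ (r : ℕ) [Fact r.Prime] (M : Ideal Cfsg.AlgInt), Cfsg.IsPModular r M →
      ∀ χ : Cfsg.IrrCharacter G, χ ∉ Cfsg.principalBlock M G →
        Cfsg.classInner (f r) (χ : G → ℂ) = 0 := by
    intro r _ M hM χ hχ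
    have hB := BlockBasic.isPBlock_principalBlock (G := G) M
    have hmem : (BlockBasic.trivialIrr : Cfsg.IrrCharacter G) ∈ Cfsg.principalBlock M G :=
      BlockBasic.sameBlock_refl hM _
    have hne : (BlockBasic.trivialIrr : Cfsg.IrrCharacter G) ≠ χ := fun e => hχ (e ▸ hmem)
    have hpa : ((r ^ (Nat.card G).factorization r : ℕ) : ℂ) ≠ 0 :=
      Nat.cast_ne_zero.2 (pow_ne_zero _ (Fact.out : r.Prime).ne_zero)
    have hf' : f r = ((BlockBasic.trivialIrr : Cfsg.IrrCharacter G) : G → ℂ) +
        (-((r ^ (Nat.card G).factorization r : ℕ) : ℂ)⁻¹) •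
          H80.tilde r ((BlockBasic.trivialIrr : Cfsg.IrrCharacter G) : G → ℂ) := by
      funext x
      simp only [f, H80.tilde, BlockBasic.trivialIrr, Pi.add_apply, Pi.smul_apply, smul_eq_mul]
      split_ifs
      · ring
      · rw [mul_one, neg_mul, inv_mul_cancel₀ hpa]
        ring
    rw [hf', CharBasic.classInner_add_left, CharBasic.classInner_smul_left, H80.nn_spec,
      H80.nn_eq_zero hM hB hmem hχ, CharBasic.classInner_irr_of_ne BlockBasic.trivialIrr.2 χ.2
        (fun e => hne (Subtype.ext e))]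
    simp
  have hpos : ∀ (r : ℕ), r.Prime → r ∣ Nat.card G →
      Cfsg.classInner (f r) (BlockBasic.trivialIrr (G := G) : G → ℂ) ≠ 0 := by
    intro r hr hdvd
    haveI : Fact r.Prime := ⟨hr⟩
    obtain ⟨g, hg⟩ := exists_prime_orderOf_dvd_card' r hdvd
    rw [CharBasic.classInner_def, mul_ne_zero_iff]
    refine ⟨inv_ne_zero (Nat.cast_ne_zero.2 Nat.card_pos.ne'), ?_⟩
    simp only [f, BlockBasic.trivialIrr, map_one, mul_one, Finset.sum_boole, ne_eq,
      Nat.cast_eq_zero]
    exact Finset.card_ne_zero.2 ⟨g, by simp [hg]⟩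
  by_contra hcon
  push Not at hcon
  have h0 : Cfsg.classInner (f p) (f q) = 0 := by
    rw [CharBasic.classInner_def]
    refine mul_eq_zero_of_right _ (Finset.sum_eq_zero fun x _ => ?_)
    simp only [f]
    split_ifs with hxp hxq
    · have hd : p * q ∣ orderOf x :=
        ((Nat.coprime_primes Fact.out Fact.out).2 hpq).mul_dvd_of_dvd_of_dvd hxp hxq
      exact absurd (orderOf_pow_orderOf_div (orderOf_pos x).ne' hd) (hno _)
    all_goals simp
  rw [CharBasic.classInner_eq_sum (hf p),
    Finset.sum_eq_single (BlockBasic.trivialIrr (G := G))] at h0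
  · rcases mul_eq_zero.1 h0 with h | h
    · exact hpos p Fact.out hp h
    · exact hpos q Fact.out hq ((map_eq_zero _).1 h)
  · intro χ _ hne
    by_cases hP : χ ∈ Cfsg.principalBlock Mp G
    · have hQ := hcon χ (fun e => hne (Subtype.ext e)) hP
      rw [hvan q Mq hMq χ hQ, map_zero, mul_zero]
    · rw [hvan p Mp hMp χ hP, zero_mul]
  · simp

end Cfsg.Agent.S4498
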