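import Cfsg.Statements.S4505
import Cfsg.Agent.BlockBasic.Residue
import Cfsg.Agent.H35.Consequences
open Cfsg.Agent.BlockBasic Cfsg.Agent.CharBasic

set_option autoImplicit false
open Cfsg

namespace Cfsg.Agent.S4505

/-- Let G be a finite group, p a prime and M a maximal ideal of the algebraic integers containing p. For every σ, the number of p-blocks of defect exactly σ is at most the number of conjugacy classes of p-regular elements whose centralizer has order divisible by p^σ but not by p^(σ+1). -/
theorem result {G : Type*} [Group G] [Finite G] (p : ℕ) [Fact p.Prime] (M : Ideal Cfsg.AlgInt) (hM : Cfsg.IsPModular p M) (σ : ℕ) : Nat.card {B : Set (Cfsg.IrrCharacter G) // Cfsg.IsPBlock M B ∧ Cfsg.blockDefect p B = σ} ≤ Nat.card {C : ConjClasses G // ∃ g : G, ConjClasses.mk g = C ∧ ¬ p ∣ orderOf g ∧ (Nat.card (Subgroup.centralizer ({g} : Set G))).factorization p = σ} := by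
  classical
  cases nonempty_fintype G
  haveI : Finite (ConjClasses G) := Finite.of_surjective _ ConjClasses.mk_surjective
  haveI : Fintype (ConjClasses G) := Fintype.ofFinite _
  haveI := locMax_isMaximal hM
  letI : Field (Residue hM) := Ideal.Quotient.field _
  let Blk := {B : Set (Cfsg.IrrCharacter G) // Cfsg.IsPBlock M B ∧ Cfsg.blockDefect p B = σ}
  let Cls := {C : ConjClasses G // ∃ g : G, ConjClasses.mk g = C ∧ ¬ p ∣ orderOf g ∧
    (Nat.card (Subgroup.centralizer ({g} : Set G))).factorization p = σ}
  haveI : Fintype Blk := Fintype.ofFinite _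
  haveI : Fintype Cls := Fintype.ofFinite _
  choose χ hχ using fun B : Blk => isPBlock_nonempty hM B.2.1
  have hω : ∀ (B : Blk) (g : G), MemLocalRing M (Cfsg.centralChar (χ B : G → ℂ) g) :=
    fun B g => memLocalRing_centralChar hM (χ B).2 g
  let v : Blk → Cls → Residue hM := fun B C => res hM (Cfsg.centralChar (χ B : G → ℂ) C.1.out)
  have hsum : ∀ B B' : Blk,
      ∑ C : Cls, res hM (Cfsg.blockCoeff B'.1 C.1.out) * v B C = if B = B' then 1 else 0 := by
    intro B B'
    have hi : ∀ C : ConjClasses G, MemLocalRing M (Cfsg.blockCoeff B'.1 C.out) :=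
      fun C => memLocalRing_blockCoeff hM B'.2.1 _
    have hrest : ∀ C : ConjClasses G, (¬ ∃ g : G, ConjClasses.mk g = C ∧ ¬ p ∣ orderOf g ∧
        (Nat.card (Subgroup.centralizer ({g} : Set G))).factorization p = σ) →
        MemLocalIdeal M (Cfsg.blockCoeff B'.1 C.out * Cfsg.centralChar (χ B : G → ℂ) C.out) := by
      intro C hC
      by_contra hne
      rw [memLocalIdeal_mul_iff hM (hi C) (hω B _), not_or] at hne
      have hreg : ¬ p ∣ orderOf C.out := fun h => hne.1 (by
        rw [blockCoeff_eq_zero_of_singular hM B'.2.1 h]; exact memLocalIdeal_zero hM)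
      refine hC ⟨C.out, Quotient.out_eq C, hreg, le_antisymm ?_ ?_⟩
      · set R : Sylow p (Subgroup.centralizer ({C.out} : Set G)) := default
        obtain ⟨D, hD, hRD⟩ := H35.exists_defectGroup_ge hM B'.2.1 hne.1 (H35.sylImage R)
          (H35.sylImage_isPGroup R) (H35.sylImage_le R)
        have h := Subgroup.card_le_of_le hRD
        rwa [H35.card_sylImage, H35.card_defectGroup hM B'.2.1 hD, B'.2.2,
          Nat.pow_le_pow_iff_right (Fact.out : p.Prime).one_lt] at h
      · obtain ⟨h, hh⟩ := exists_isDefectClass (p := p) hM B.2.1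
        obtain ⟨c, hc⟩ := H35.exists_sylImage_le hM B.2.1 (hχ B) hne.2 hh.2.1
          (default : Sylow p (Subgroup.centralizer ({h} : Set G))) default
        have h1 := Subgroup.card_le_of_le hc
        rw [Subgroup.card_map_of_injective (MulAut.conj c).injective, H35.card_sylImage,
          H35.card_sylImage, ← H35.blockDefect_eq hM B.2.1 hh, B.2.2,
          Nat.pow_le_pow_iff_right (Fact.out : p.Prime).one_lt] at h1
        exact h1
    have hall : ∑ C : ConjClasses G, Cfsg.blockCoeff B'.1 C.out * Cfsg.centralChar (χ B : G → ℂ) C.out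
        = if B = B' then 1 else 0 := by
      have := omega_blockElem B'.1 (χ B)
      rw [omega_eq_sum_classes (IsIrr.isClassFunction (χ B).2) (isCentralElt_blockElem _)] at this
      simp only [coeff_blockElem] at this
      rw [this]
      refine if_congr ⟨fun h => Subtype.ext (isPBlock_eq_of_mem hM B.2.1 B'.2.1 (hχ B) h), ?_⟩ rfl rfl
      rintro rfl
      exact hχ B
    have hres : res hM (∑ C : ConjClasses G,
        Cfsg.blockCoeff B'.1 C.out * Cfsg.centralChar (χ B : G → ℂ) C.out) =
        ∑ C : ConjClasses G, res hM (Cfsg.blockCoeff B'.1 C.out * Cfsg.centralChar (χ B : G → ℂ) C.out) :=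
      res_sum hM _ fun C _ => memLocalRing_mul hM (hi C) (hω B _)
    rw [hall, apply_ite (res hM), res_one hM, res_zero hM] at hres
    rw [hres, ← Finset.sum_subset (Finset.subset_univ (Finset.univ.filter fun C : ConjClasses G =>
      ∃ g : G, ConjClasses.mk g = C ∧ ¬ p ∣ orderOf g ∧
        (Nat.card (Subgroup.centralizer ({g} : Set G))).factorization p = σ))
      (fun C _ hC => (res_eq_zero_iff hM (memLocalRing_mul hM (hi C) (hω B _))).2
        (hrest C (fun h => hC (Finset.mem_filter.2 ⟨Finset.mem_univ _, h⟩)))),
      Finset.sum_subtype _ (p := fun C : ConjClasses G => ∃ g : G, ConjClasses.mk g = C ∧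
        ¬ p ∣ orderOf g ∧ (Nat.card (Subgroup.centralizer ({g} : Set G))).factorization p = σ)
        (by simp)]
    exact Finset.sum_congr rfl fun C _ => (res_mul hM (hi _) (hω B _)).symm
  have hli : LinearIndependent (Residue hM) v := by
    rw [Fintype.linearIndependent_iff]
    intro c hc B'
    have h := congrArg (fun f : Cls → Residue hM =>
      ∑ C : Cls, res hM (Cfsg.blockCoeff B'.1 C.1.out) * f C) hc
    simp only [Finset.sum_apply, Pi.smul_apply, Pi.zero_apply, smul_eq_mul, mul_zero,
      Finset.sum_const_zero, Finset.mul_sum, mul_left_comm] at h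
    rw [Finset.sum_comm] at h
    simp only [← Finset.mul_sum, hsum, mul_ite, mul_one, mul_zero, Finset.mem_univ] at h
    rwa [Finset.sum_eq_single B' (fun x _ hx => if_neg hx) (fun hx => absurd (Finset.mem_univ _) hx),
      if_pos rfl] at h
  have := hli.fintype_card_le_finrank
  rw [Module.finrank_fintype_fun_eq_card, ← Nat.card_eq_fintype_card, ← Nat.card_eq_fintype_card] at this
  exact this

end Cfsg.Agent.S4505
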