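import Cfsg.Statements.S4506
import Cfsg.Agent.H43.Galois
import Cfsg.Agent.H81.GaloisSum
import Cfsg.Agent.BlockBasic.Orth
import Cfsg.Agent.BlockBasic.Basic

set_option autoImplicit false
open Cfsg

namespace Cfsg.Agent.S4506

open Cfsg.Agent BlockBasic MulAction
open scoped ComplexConjugate

section Action

variable {G : Type*} [Group G] [Finite G]

/-- The conjugate of an irreducible character by an exponent prime to the group order. -/
noncomputable def powConj (u : (ZMod (Nat.card G))ˣ) (χ : Cfsg.IrrCharacter G) :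
    Cfsg.IrrCharacter G :=
  ⟨fun g => (χ : G → ℂ) (g ^ (u : ZMod (Nat.card G)).val), by
    obtain ⟨σ, hσ⟩ := H43.exists_aut_pow (n := Nat.card G) Nat.card_pos.ne'
      (ZMod.val_coe_unit_coprime u)
    have h : (fun g => (χ : G → ℂ) (g ^ (u : ZMod (Nat.card G)).val)) =
        fun g => σ ((χ : G → ℂ) g) := by
      funext g
      obtain ⟨k, ζ, e, hζ, hval⟩ := H81.exists_exponents (CharBasic.IsIrr.isCharacter χ.2) g
      have hn : ∀ i, (ζ ^ e i) ^ Nat.card G = 1 := fun i => by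
        obtain ⟨c, hc⟩ := orderOf_dvd_natCard g
        rw [← pow_mul, mul_comm, pow_mul, hc, pow_mul, hζ.pow_eq_one, one_pow, one_pow]
      rw [hval, show (χ : G → ℂ) g = (χ : G → ℂ) (g ^ 1) by rw [pow_one], hval, map_sum]
      refine Finset.sum_congr rfl fun i _ => ?_
      rw [pow_one, hσ _ (hn i), ← pow_mul, ← pow_mul, mul_comm]
    rw [h]
    exact H43.aut_irr σ χ.2⟩

theorem powConj_apply (u : (ZMod (Nat.card G))ˣ) (χ : Cfsg.IrrCharacter G) (g : G) :
    (powConj u χ : G → ℂ) g = (χ : G → ℂ) (g ^ (u : ZMod (Nat.card G)).val) := rfl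

/-- Characters are permuted by the exponents prime to the group order. -/
noncomputable instance instPowConj : MulAction (ZMod (Nat.card G))ˣ (Cfsg.IrrCharacter G) where
  smul := powConj
  one_smul χ := Subtype.ext <| funext fun g => by
    show (χ : G → ℂ) (g ^ ((1 : (ZMod (Nat.card G))ˣ) : ZMod (Nat.card G)).val) = _
    rw [Units.val_one, ZMod.val_one_eq_one_mod, pow_mod_natCard, pow_one]
  mul_smul u v χ := Subtype.ext <| funext fun g => by
    show (χ : G → ℂ) (g ^ ((u * v : (ZMod (Nat.card G))ˣ) : ZMod (Nat.card G)).val) =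
      (χ : G → ℂ) ((g ^ (u : ZMod (Nat.card G)).val) ^ (v : ZMod (Nat.card G)).val)
    rw [Units.val_mul, ZMod.val_mul, pow_mod_natCard, ← pow_mul]

theorem smul_apply' (u : (ZMod (Nat.card G))ˣ) (χ : Cfsg.IrrCharacter G) (g : G) :
    (u • χ : Cfsg.IrrCharacter G).1 g = (χ : G → ℂ) (g ^ (u : ZMod (Nat.card G)).val) := rfl

end Action

/-- Kernels of reduction of units. -/
theorem card_unitsMap_ker {n m : ℕ} [NeZero n] (h : m ∣ n) :
    Nat.card (ZMod.unitsMap h).ker * m.totient = n.totient := by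
  haveI : NeZero m := ⟨fun h0 => NeZero.ne n (by simpa [h0] using h)⟩
  rw [← ZMod.card_units_eq_totient m, ← ZMod.card_units_eq_totient n, ← Nat.card_eq_fintype_card,
    ← Nat.card_eq_fintype_card, ← Subgroup.card_mul_index (ZMod.unitsMap h).ker,
    Subgroup.index_ker, MonoidHom.range_eq_top.2 (ZMod.unitsMap_surjective h), Subgroup.card_top]

theorem val_modEq_one_of_mem_ker {n m : ℕ} [NeZero n] (h : m ∣ n) {u : (ZMod n)ˣ}
    (hu : u ∈ (ZMod.unitsMap h).ker) : (u : ZMod n).val ≡ 1 [MOD m] := by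
  have h1 : ((u : ZMod n).cast : ZMod m) = 1 := congrArg Units.val (MonoidHom.mem_ker.1 hu)
  rw [← ZMod.natCast_eq_natCast_iff, Nat.cast_one, ← h1]
  exact ZMod.natCast_val _

/-- The sum of a character over the exponents congruent to `1` modulo `M` is divisible by their
number. -/
theorem trace_dvd {G : Type*} [Group G] [Finite G] {χ : G → ℂ} (hχ : Cfsg.IsCharacter G χ)
    {M q : ℕ} (hn : Nat.card G = M * q) (hq : 0 < q)
    (hker : Nat.card (ZMod.unitsMap (Dvd.intro q hn.symm : M ∣ Nat.card G)).ker = q)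
    [Fintype (ZMod.unitsMap (Dvd.intro q hn.symm : M ∣ Nat.card G)).ker] (g : G) :
    ∃ z : ℂ, IsIntegral ℤ z ∧
      ∑ u : (ZMod.unitsMap (Dvd.intro q hn.symm : M ∣ Nat.card G)).ker,
        χ (g ^ ((u : (ZMod (Nat.card G))ˣ) : ZMod (Nat.card G)).val) = (q : ℂ) * z := by
  obtain ⟨k, ζ, e, hζ, hval⟩ := H81.exists_exponents hχ g
  set T := (ZMod.unitsMap (Dvd.intro q hn.symm : M ∣ Nat.card G)).ker
  have hM : 0 < M := Nat.pos_of_ne_zero fun h => Nat.card_pos.ne' (by rw [hn, h, zero_mul])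
  -- exponents
  have hsum : ∀ μ : ℂ, μ ^ Nat.card G = 1 →
      ∑ u : T, μ ^ ((u : (ZMod (Nat.card G))ˣ) : ZMod (Nat.card G)).val =
        if μ ^ M = 1 then (q : ℂ) * μ else 0 := by
    intro μ hμ
    have hlt : ∀ u : T, ((u : (ZMod (Nat.card G))ˣ) : ZMod (Nat.card G)).val / M < q := fun u =>
      Nat.div_lt_of_lt_mul (hn ▸ ZMod.val_lt _)
    have hdec : ∀ u : T, ((u : (ZMod (Nat.card G))ˣ) : ZMod (Nat.card G)).val =
        M * (((u : (ZMod (Nat.card G))ˣ) : ZMod (Nat.card G)).val / M) + 1 % M := fun u => by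
      rw [← (val_modEq_one_of_mem_ker _ u.2 : _ % M = 1 % M), Nat.div_add_mod]
    let f : T → Fin q := fun u => ⟨_, hlt u⟩
    have hf : Function.Bijective f := by
      refine (Fintype.bijective_iff_injective_and_card f).2 ⟨fun u v huv => ?_, ?_⟩
      · have h : ((u : (ZMod (Nat.card G))ˣ) : ZMod (Nat.card G)).val / M =
            ((v : (ZMod (Nat.card G))ˣ) : ZMod (Nat.card G)).val / M := congrArg Fin.val huv
        exact Subtype.ext (Units.ext (ZMod.val_injective _ (by rw [hdec u, hdec v, h])))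
      · rw [← Nat.card_eq_fintype_card, hker, Fintype.card_fin]
    rw [Fintype.sum_bijective f hf _ (fun l : Fin q => μ ^ (M * (l : ℕ) + 1 % M))
      fun u => congrArg (μ ^ ·) (hdec u)]
    split_ifs with h
    · have h1 : μ ^ (1 % M) = μ := by
        have h2 : μ ^ 1 = μ ^ (1 % M) := pow_eq_pow_mod 1 h
        rw [← h2, pow_one]
      simp [pow_add, pow_mul, h, h1]
    · rw [Fin.sum_univ_eq_sum_range fun l => μ ^ (M * l + 1 % M)]
      simp only [pow_add, pow_mul, ← Finset.sum_mul]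
      rw [geom_sum_eq h, ← pow_mul, ← hn, hμ, sub_self, zero_div, zero_mul]
  have hroot : ∀ i, (ζ ^ e i) ^ Nat.card G = 1 := fun i => by
    obtain ⟨c, hc⟩ := orderOf_dvd_natCard g
    rw [← pow_mul, mul_comm, pow_mul, hc, pow_mul, hζ.pow_eq_one, one_pow, one_pow]
  refine ⟨∑ i, if (ζ ^ e i) ^ M = 1 then ζ ^ e i else 0, ?_, ?_⟩
  · refine IsIntegral.sum _ fun i _ => ?_
    split_ifs
    · exact (hζ.isIntegral (orderOf_pos g)).pow _
    · exact isIntegral_zero
  · rw [Finset.mul_sum]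
    simp only [hval]
    rw [Finset.sum_comm]
    refine Finset.sum_congr rfl fun i _ => ?_
    rw [mul_ite, mul_zero, ← hsum _ (hroot i)]
    exact Finset.sum_congr (Finset.ext fun u => by simp) fun u _ => by
      rw [← pow_mul, ← pow_mul, mul_comm]


set_option maxHeartbeats 1000000 in
/-- Let G be a finite group, p a prime, p^a the p-part of the order of G and g′ its p′-part. Call two irreducible characters p-conjugate when one is obtained from the other by applying a field automorphism of ℂ that fixes the g′-th roots of unity, and let r be the number of characters p-conjugate to the irreducible character χ (χ included). Then the exponent of p in r·χ(1) is at most a; and if p^a divides r·χ(1) then p^a already divides χ(1). -/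
theorem result {G : Type*} [Group G] [Finite G] (p : ℕ) (hp : p.Prime) (χ : Cfsg.IrrCharacter G) (r : ℕ) (hr : Nat.card {ψ : Cfsg.IrrCharacter G // ∃ σ : ℂ ≃+* ℂ, σ (Complex.exp (2 * Real.pi * Complex.I / ((Nat.card G / p ^ (Nat.card G).factorization p) : ℕ))) = Complex.exp (2 * Real.pi * Complex.I / ((Nat.card G / p ^ (Nat.card G).factorization p) : ℕ)) ∧ (ψ : G → ℂ) = fun g => σ ((χ : G → ℂ) g)} = r) : (r * Cfsg.charDegree (χ : G → ℂ)).factorization p ≤ (Nat.card G).factorization p ∧ (p ^ (Nat.card G).factorization p ∣ r * Cfsg.charDegree (χ : G → ℂ) → p ^ (Nat.card G).factorization p ∣ Cfsg.charDegree (χ : G → ℂ)) := by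
  classical
  cases nonempty_fintype G
  haveI := Fact.mk hp
  haveI : NeZero (Nat.card G) := ⟨Nat.card_pos.ne'⟩
  haveI : Finite (Cfsg.IrrCharacter G) := CharBasic.finite_irrCharacter
  set n := Nat.card G with hn
  set a := n.factorization p with ha
  set m := n / p ^ a with hm
  set d := Cfsg.charDegree (χ : G → ℂ) with hd
  have hmn : m ∣ n := Nat.div_dvd_of_dvd (Nat.ordProj_dvd n p)
  have hnm : p ^ a * m = n := Nat.ordProj_mul_ordCompl_eq_self n p
  have hpm : ¬ p ∣ m := Nat.not_dvd_ordCompl hp Nat.card_pos.ne'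
  have hm0 : 0 < m := Nat.pos_of_ne_zero fun h => hpm (h ▸ dvd_zero p)
  have hd0 : d ≠ 0 := (charDegree_pos χ).ne'
  -- the orbit
  set T := (ZMod.unitsMap hmn).ker with hT
  have horb : {ψ : Cfsg.IrrCharacter G | ∃ σ : ℂ ≃+* ℂ,
      σ (Complex.exp (2 * Real.pi * Complex.I / (m : ℕ))) =
        Complex.exp (2 * Real.pi * Complex.I / (m : ℕ)) ∧
      (ψ : G → ℂ) = fun g => σ ((χ : G → ℂ) g)} = orbit T χ := by
    have hζm := Complex.isPrimitiveRoot_exp m hm0.ne'
    have happ : ∀ (σ : ℂ ≃+* ℂ) (k : ℕ), (∀ z : ℂ, z ^ n = 1 → σ z = z ^ k) →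
        ∀ g, σ ((χ : G → ℂ) g) = (χ : G → ℂ) (g ^ k) := by
      intro σ k hσ g
      obtain ⟨l, ζ, e, hζ, hval⟩ := H81.exists_exponents (CharBasic.IsIrr.isCharacter χ.2) g
      rw [hval, show (χ : G → ℂ) g = (χ : G → ℂ) (g ^ 1) by rw [pow_one], hval, map_sum]
      refine Finset.sum_congr rfl fun i _ => ?_
      obtain ⟨c, hc⟩ : orderOf g ∣ n := orderOf_dvd_natCard g
      rw [pow_one, hσ _ (by rw [← pow_mul, mul_comm, pow_mul, hc, pow_mul, hζ.pow_eq_one, one_pow,
        one_pow]), ← pow_mul, ← pow_mul, mul_comm]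
    ext ψ
    constructor
    · rintro ⟨σ, hσm, hψ⟩
      obtain ⟨k, hk, hσ⟩ := H43.aut_eq_pow σ (n := n) Nat.card_pos.ne'
      set z := Complex.exp (2 * Real.pi * Complex.I / (m : ℕ))
      have hkm : k ≡ 1 [MOD m] := by
        have h1 : z ^ k = z ^ 1 := by
          rw [pow_one, ← hσ z ?_, hσm]
          obtain ⟨c, hc⟩ := hmn
          rw [hc, pow_mul, hζm.pow_eq_one, one_pow]
        rw [hζm.eq_orderOf]
        exact (hζm.isOfFinOrder hm0.ne').pow_eq_pow_iff_modEq.1 h1
      refine ⟨⟨ZMod.unitOfCoprime k hk, ?_⟩, ?_⟩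
      · rw [hT, MonoidHom.mem_ker]
        ext
        show ((ZMod.unitOfCoprime k hk : ZMod n).cast : ZMod m) = 1
        rw [ZMod.coe_unitOfCoprime, ZMod.cast_natCast hmn, ← Nat.cast_one,
          ZMod.natCast_eq_natCast_iff]
        exact hkm
      · refine Subtype.ext (funext fun g => ?_)
        rw [hψ]
        dsimp only
        rw [happ σ k hσ g]
        show (χ : G → ℂ) (g ^ (ZMod.unitOfCoprime k hk : ZMod n).val) = _
        rw [ZMod.coe_unitOfCoprime, ZMod.val_natCast, pow_mod_natCard]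
    · rintro ⟨u, rfl⟩
      obtain ⟨σ, hσ⟩ := H43.exists_aut_pow (n := n) Nat.card_pos.ne'
        (ZMod.val_coe_unit_coprime (u : (ZMod n)ˣ))
      refine ⟨σ, ?_, funext fun g => (happ σ _ hσ g).symm⟩
      rw [hσ _ (by obtain ⟨c, hc⟩ := hmn; rw [hc, pow_mul, hζm.pow_eq_one, one_pow])]
      conv_rhs => rw [← pow_one (Complex.exp _)]
      rw [(hζm.isOfFinOrder hm0.ne').pow_eq_pow_iff_modEq, ← hζm.eq_orderOf]
      exact val_modEq_one_of_mem_ker hmn u.2
  have hrT : r = (stabilizer T χ).index := by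
    rw [index_stabilizer, ← horb, ← hr, ← Nat.card_coe_set_eq]
    rfl
  rcases Nat.eq_zero_or_pos a with ha0 | ha0
  · rw [ha0]
    refine ⟨?_, fun _ => by rw [pow_zero]; exact one_dvd _⟩
    have hcard : Nat.card T = 1 := by
      have h := card_unitsMap_ker (n := n) hmn
      rw [← hT, show m = n by rw [hm, ha0, pow_zero, Nat.div_one]] at h
      exact Nat.eq_of_mul_eq_mul_right (Nat.totient_pos.2 Nat.card_pos) (by rw [h, one_mul])
    have hr1 : r = 1 := Nat.eq_one_of_dvd_one (hcard ▸ hrT ▸ Subgroup.index_dvd_card _)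
    rw [hr1, one_mul]
    have h := (Nat.factorization_le_iff_dvd hd0 Nat.card_pos.ne').2 (charDegree_dvd χ) p
    rw [← hn, ← ha, ha0] at h
    exact h
  -- the `p`-part of the orbit
  set q := p ^ (a - 1) with hqdef
  have hq0 : 0 < q := pow_pos hp.pos _
  have hMq : n = m * p * q := by
    rw [hqdef, mul_assoc, ← pow_succ', Nat.sub_add_cancel ha0, mul_comm, hnm]
  have hMn : m * p ∣ n := Dvd.intro q hMq.symm
  set Tp := (ZMod.unitsMap hMn).ker with hTp
  have hTpT : Tp ≤ T := by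
    intro u hu
    rw [hT, MonoidHom.mem_ker, ← ZMod.unitsMap_comp (Dvd.intro p rfl : m ∣ m * p) hMn,
      MonoidHom.comp_apply, MonoidHom.mem_ker.1 hu, map_one]
  have htot : ∀ k, 0 < k → (p ^ k).totient = p ^ (k - 1) * (p - 1) := fun k hk =>
    Nat.totient_prime_pow hp hk
  have hcop : ∀ k, Nat.Coprime m (p ^ k) := fun k =>
    Nat.Coprime.pow_right _ (hp.coprime_iff_not_dvd.2 hpm).symm
  have hcT : Nat.card T = q * (p - 1) := by
    have h := card_unitsMap_ker (n := n) hmn
    rw [← hT] at h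
    conv_rhs at h => rw [← hnm, mul_comm, Nat.totient_mul (hcop a), htot a ha0]
    exact Nat.eq_of_mul_eq_mul_right (Nat.totient_pos.2 hm0) (by rw [h]; ring)
  have hcTp : Nat.card Tp = q := by
    have h := card_unitsMap_ker (n := n) hMn
    rw [← hTp] at h
    have hmp : (m * p).totient = m.totient * (p - 1) := by
      rw [Nat.totient_mul (by simpa using hcop 1), Nat.totient_prime hp]
    conv_rhs at h => rw [← hnm, mul_comm, Nat.totient_mul (hcop a), htot a ha0]
    rw [hmp] at h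
    exact Nat.eq_of_mul_eq_mul_right
      (Nat.mul_pos (Nat.totient_pos.2 hm0) (Nat.sub_pos_of_lt hp.one_lt)) (by rw [h]; ring)
  haveI : Fintype (Cfsg.IrrCharacter G) := Fintype.ofFinite _
  set O : Finset (Cfsg.IrrCharacter G) := Finset.univ.image fun u : Tp => u • χ with hO
  have hOorb : O.card = (stabilizer Tp χ).index := by
    rw [index_stabilizer, ← Set.ncard_coe_finset, hO, Finset.coe_image, Finset.coe_univ,
      Set.image_univ]
    rfl
  -- `ν(r) ≤ ν(|O|)`
  have hrdvd : r.factorization p ≤ O.card.factorization p := by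
    set S := stabilizer (ZMod n)ˣ χ
    have hsub : ∀ K : Subgroup (ZMod n)ˣ, (stabilizer K χ).index = S.relIndex K := fun K => rfl
    have h1 : S.relIndex T ∣ (S ⊓ Tp).relIndex T :=
      Subgroup.relIndex_dvd_of_le_left T inf_le_left
    have h2 : (S ⊓ Tp).relIndex T = S.relIndex Tp * Tp.relIndex T := by
      rw [← Subgroup.inf_relIndex_right S Tp]
      exact (Subgroup.relIndex_mul_relIndex _ _ _ inf_le_right hTpT).symm
    have h3 : Tp.relIndex T = p - 1 := by
      have h := Subgroup.relIndex_mul_relIndex ⊥ Tp T bot_le hTpT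
      rw [Subgroup.relIndex_bot_left, Subgroup.relIndex_bot_left, hcT, hcTp] at h
      exact Nat.eq_of_mul_eq_mul_left hq0 h
    rw [hrT, hsub, hOorb, hsub]
    have hne : S.relIndex Tp * Tp.relIndex T ≠ 0 := by
      rw [h3, ← hsub, ← hOorb]
      exact Nat.mul_ne_zero (Finset.card_pos.2 ⟨χ, Finset.mem_image.2 ⟨1, Finset.mem_univ _,
        one_smul _ _⟩⟩).ne' (Nat.sub_pos_of_lt hp.one_lt).ne'
    have hr0 : S.relIndex T ≠ 0 := fun h => hne (h2 ▸ Nat.eq_zero_of_zero_dvd (h ▸ h1))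
    have h := (Nat.factorization_le_iff_dvd hr0 hne).2 (h2 ▸ h1) p
    rw [Nat.factorization_mul (Nat.mul_ne_zero_iff.1 hne).1 (Nat.mul_ne_zero_iff.1 hne).2,
      Finsupp.add_apply, h3, Nat.factorization_eq_zero_of_not_dvd (n := p - 1)] at h
    · simpa using h
    · intro hdvd
      have := Nat.le_of_dvd (Nat.sub_pos_of_lt hp.one_lt) hdvd
      have := hp.two_le
      omega
  obtain ⟨k, hk⟩ : ∃ k, O.card = p ^ k := by
    obtain ⟨k, -, hk⟩ := (Nat.dvd_prime_pow hp).1
      (show (stabilizer Tp χ).index ∣ p ^ (a - 1) from hqdef ▸ hcTp ▸ Subgroup.index_dvd_card _)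
    exact ⟨k, hOorb.trans hk⟩
  have hkfac : O.card.factorization p = k := by rw [hk, hp.factorization_pow]; simp
  -- the orbit sum
  have hsumO : ∀ g, ∃ z : ℂ, IsIntegral ℤ z ∧
      ∑ ψ ∈ O, (ψ : G → ℂ) g = (p : ℂ) ^ k * z := by
    intro g
    obtain ⟨z, hz, hzsum⟩ := trace_dvd (CharBasic.IsIrr.isCharacter χ.2) hMq hq0 hcTp g
    refine ⟨z, hz, ?_⟩
    set f : Cfsg.IrrCharacter G → ℂ := fun ψ => (ψ : G → ℂ) g
    have h1 : ∑ u : Tp, f (u • χ) = (Nat.card (stabilizer Tp χ) : ℂ) * ∑ ψ ∈ O, f ψ := by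
      rw [Finset.mul_sum, ← Finset.sum_fiberwise_of_maps_to (t := O) (g := fun u : Tp => u • χ)
        (fun u _ => Finset.mem_image_of_mem _ (Finset.mem_univ u))]
      refine Finset.sum_congr rfl fun ψ hψ => ?_
      obtain ⟨v, -, rfl⟩ := Finset.mem_image.1 hψ
      rw [Finset.sum_congr rfl (g := fun _ => f (v • χ)) fun u hu => by
        rw [(Finset.mem_filter.1 hu).2], Finset.sum_const, nsmul_eq_mul]
      congr 2
      rw [Nat.card_eq_fintype_card, ← Fintype.card_subtype]
      refine Fintype.card_congr ((Equiv.mulLeft v⁻¹).subtypeEquiv fun u => ?_)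
      rw [mem_stabilizer_iff, Equiv.coe_mulLeft, mul_smul, inv_smul_eq_iff]
    have h2 : ∑ u : Tp, f (u • χ) = (q : ℂ) * z := hzsum
    have h3 : Nat.card (stabilizer Tp χ) * p ^ k = q := by
      rw [← hk, hOorb, Subgroup.card_mul_index, hcTp]
    rw [h2, ← h3] at h1
    push_cast at h1
    have h0 : (Nat.card (stabilizer Tp χ) : ℂ) ≠ 0 := Nat.cast_ne_zero.2 Nat.card_pos.ne'
    exact mul_left_cancel₀ h0 (by rw [← h1]; ring)
  choose θ hθ hθsum using hsumO
  have hχO : χ ∈ O := Finset.mem_image.2 ⟨1, Finset.mem_univ _, one_smul _ _⟩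
  have hOdeg : ∀ ψ ∈ O, (ψ : G → ℂ) 1 = d := fun ψ hψ => by
    obtain ⟨u, -, rfl⟩ := Finset.mem_image.1 hψ
    show (χ : G → ℂ) (1 ^ ((u : (ZMod n)ˣ) : ZMod n).val) = _
    rw [one_pow, apply_one_eq_charDegree]
  obtain ⟨M, hM⟩ := exists_isPModular hp
  have hpk : (p : ℂ) ^ k ≠ 0 := pow_ne_zero _ (Nat.cast_ne_zero.2 hp.ne_zero)
  have hθclass : Cfsg.IsClassFunction G θ := fun g h => mul_left_cancel₀ hpk <| by
    rw [← hθsum, ← hθsum]
    exact Finset.sum_congr rfl fun ψ _ => CharBasic.IsIrr.isClassFunction ψ.2 g h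
  -- the bound
  have hconjθ : ∀ g, IsIntegral ℤ (conj (θ g)) := fun g =>
    (hθ g).map ((starRingEnd ℂ).toIntAlgHom)
  set z : MonoidAlgebra ℂ G := ofFun fun g => conj (θ g)
  have hω : MemLocalRing M (omega (χ : G → ℂ) z) :=
    memLocalRing_omega hM χ.2 (isCentralElt_ofFun fun g h => congrArg conj (hθclass g h))
      fun g => by rw [coeff_ofFun]; exact memLocalRing_of_isIntegral hM (hconjθ g)
  have hωval : (n : ℂ) = (p : ℂ) ^ k * (d * omega (χ : G → ℂ) z) := by
    rw [omega, apply_one_eq_charDegree, ← hd, mul_div_cancel₀ _ (Nat.cast_ne_zero.2 hd0), chiLin,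
      Finset.mul_sum]
    have h1 : ∀ g : G, (p : ℂ) ^ k * (z.coeff g * (χ : G → ℂ) g) =
        ∑ ψ ∈ O, (χ : G → ℂ) g * conj ((ψ : G → ℂ) g) := fun g => by
      rw [← Finset.mul_sum, ← map_sum, hθsum, map_mul, map_pow, Complex.conj_natCast]
      simp only [z, coeff_ofFun]
      ring
    rw [Finset.sum_congr rfl fun g _ => h1 g, Finset.sum_comm, Finset.sum_eq_single χ]
    · have h := CharBasic.classInner_irr_self χ.2
      rw [CharBasic.classInner_def, inv_mul_eq_one₀ (Nat.cast_ne_zero.2 Nat.card_pos.ne')] at h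
      exact h
    · intro ψ _ hne
      have h := CharBasic.classInner_irr_of_ne χ.2 ψ.2 fun he => hne (Subtype.ext he.symm)
      rw [CharBasic.classInner_def, mul_eq_zero] at h
      exact h.resolve_left (inv_ne_zero (Nat.cast_ne_zero.2 Nat.card_pos.ne'))
    · exact fun h => absurd hχO h
  obtain ⟨d', hd'p, hd'⟩ : ∃ d', ¬ p ∣ d' ∧ p ^ d.factorization p * d' = d :=
    ⟨_, Nat.not_dvd_ordCompl hp hd0, Nat.ordProj_mul_ordCompl_eq_self d p⟩
  set c := d.factorization p with hc
  have hkc : k + c ≤ a := by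
    by_contra hlt
    obtain ⟨j, hj⟩ : ∃ j, k + c = a + (j + 1) := ⟨k + c - a - 1, by omega⟩
    have h1 : (p : ℂ) ^ a * m = (p : ℂ) ^ a *
        ((p : ℂ) * ((p : ℂ) ^ j * d' * omega (χ : G → ℂ) z)) := by
      rw [← Nat.cast_pow, ← Nat.cast_mul, hnm, hωval, ← hd', Nat.cast_mul, Nat.cast_pow,
        ← mul_assoc ((p : ℂ) ^ k), ← mul_assoc ((p : ℂ) ^ k), ← pow_add, hj]
      push_cast
      ring
    have h2 := mul_left_cancel₀ (pow_ne_zero _ (Nat.cast_ne_zero.2 hp.ne_zero)) h1
    refine hpm ((memLocalIdeal_natCast_iff hM m).1 ?_)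
    rw [h2, mul_comm]
    exact memLocalIdeal_mul hM (memLocalRing_mul hM (memLocalRing_mul hM (by
      rw [← Nat.cast_pow]; exact memLocalRing_natCast hM _) (memLocalRing_natCast hM _)) hω)
      ((memLocalIdeal_natCast_iff hM p).2 dvd_rfl)
  have hr0 : r ≠ 0 := by
    rw [hrT]
    exact Subgroup.index_ne_zero_of_finite
  have hfac : (r * d).factorization p = r.factorization p + c :=
    by rw [Nat.factorization_mul hr0 hd0, Finsupp.add_apply]
  refine ⟨hfac ▸ le_trans (Nat.add_le_add_right (hkfac ▸ hrdvd) c) hkc, fun heq => ?_⟩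
  have hkc' : k + c = a := by
    refine le_antisymm hkc ?_
    have h := (hp.pow_dvd_iff_le_factorization (Nat.mul_ne_zero hr0 hd0)).1 heq
    rw [hfac] at h
    omega
  -- the orbit idempotent is locally integral
  have hA : ∀ g, MemLocalRing M (blockCoeff (O : Set (Cfsg.IrrCharacter G)) g) := by
    intro g
    have h1 : blockCoeff (O : Set (Cfsg.IrrCharacter G)) g = (d' : ℂ) * (m : ℂ)⁻¹ * conj (θ g) := by
      rw [blockCoeff, finsum_mem_coe_finset,
        Finset.sum_congr rfl fun ψ hψ => by rw [hOdeg ψ hψ], ← Finset.mul_sum, ← map_sum, hθsum,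
        map_mul, map_pow, Complex.conj_natCast, ← hn, ← hnm, ← hd']
      have hm' : (m : ℂ) ≠ 0 := Nat.cast_ne_zero.2 hm0.ne'
      have hp' : (p : ℂ) ≠ 0 := Nat.cast_ne_zero.2 hp.ne_zero
      rw [← hkc']
      push_cast
      rw [pow_add]
      field_simp
    rw [h1]
    exact memLocalRing_mul hM (memLocalRing_mul hM (memLocalRing_natCast hM _)
      (memLocalRing_natCast_inv hM hpm)) (memLocalRing_of_isIntegral hM (hconjθ g))
  set B := blockOf M (χ : G → ℂ)
  have hB : IsPBlock M B := isPBlock_blockOf M χ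
  have hBO : B ⊆ (O : Set (Cfsg.IrrCharacter G)) := blockOf_subset hM hA hχO
  let P : Sylow p G := default
  haveI : Fintype (P : Subgroup G) := Fintype.ofFinite _
  have hcardP : Nat.card (P : Subgroup G) = p ^ a := by rw [P.card_eq_multiplicity]
  have hPsum : ∀ ψ ∈ O, ∑ y : (P : Subgroup G), conj ((ψ : G → ℂ) y) =
      ∑ y : (P : Subgroup G), conj ((χ : G → ℂ) y) := by
    intro ψ hψ
    obtain ⟨u, -, rfl⟩ := Finset.mem_image.1 hψ
    have hco : Nat.Coprime (Nat.card (P : Subgroup G)) ((u : (ZMod n)ˣ) : ZMod n).val :=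
      (Nat.Coprime.coprime_dvd_right (Subgroup.card_subgroup_dvd_card _)
        (ZMod.val_coe_unit_coprime (u : (ZMod n)ˣ))).symm
    exact Fintype.sum_equiv (powCoprime hco) _ _ fun y => rfl
  haveI : DecidablePred (· ∈ B) := fun _ => Classical.dec _
  set B' := O.filter (· ∈ B)
  have hB' : ∀ f : Cfsg.IrrCharacter G → ℂ, ∑ᶠ ψ ∈ B, f ψ = ∑ ψ ∈ B', f ψ := fun f => by
    refine finsum_mem_eq_finite_toFinset_sum f (Set.toFinite B) |>.trans ?_
    refine Finset.sum_congr ?_ fun _ _ => rfl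
    ext ψ
    simp only [Set.Finite.mem_toFinset, B', Finset.mem_filter]
    exact ⟨fun h => ⟨hBO h, h⟩, fun h => h.2⟩
  have hzero : ∀ y : (P : Subgroup G), y ≠ 1 → ∑ ψ ∈ B', conj ((ψ : G → ℂ) y) = 0 := by
    intro y hy
    have hdvd : p ∣ orderOf (y : G) := by
      rw [Subgroup.orderOf_coe]
      obtain ⟨j, hj⟩ := P.2 y
      obtain ⟨i, -, hi⟩ := (Nat.dvd_prime_pow hp).1 (orderOf_dvd_of_pow_eq_one hj)
      rcases i with _ | i
      · exact absurd (orderOf_eq_one_iff.1 (by simpa using hi)) hy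
      · rw [hi]; exact dvd_pow_self p (Nat.succ_ne_zero i)
    have h := blockCoeff_eq_zero_of_singular hM hB hdvd
    rw [blockCoeff, hB', mul_eq_zero] at h
    have h' := h.resolve_left (inv_ne_zero (Nat.cast_ne_zero.2 Nat.card_pos.ne'))
    rw [Finset.sum_congr rfl
      (g := fun ψ : Cfsg.IrrCharacter G => (d : ℂ) * conj ((ψ : G → ℂ) y)) fun ψ hψ => by
      rw [hOdeg ψ (Finset.mem_filter.1 hψ).1], ← Finset.mul_sum, mul_eq_zero] at h'
    exact h'.resolve_left (Nat.cast_ne_zero.2 hd0)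
  have htotal : (B'.card : ℂ) * ∑ y : (P : Subgroup G), conj ((χ : G → ℂ) y) = B'.card * d := by
    calc (B'.card : ℂ) * ∑ y : (P : Subgroup G), conj ((χ : G → ℂ) y)
        = ∑ ψ ∈ B', ∑ y : (P : Subgroup G), conj ((ψ : G → ℂ) y) := by
          rw [Finset.sum_congr rfl fun ψ hψ => hPsum ψ (Finset.mem_filter.1 hψ).1,
            Finset.sum_const, nsmul_eq_mul]
      _ = ∑ y : (P : Subgroup G), ∑ ψ ∈ B', conj ((ψ : G → ℂ) y) := Finset.sum_comm
      _ = ∑ ψ ∈ B', conj ((ψ : G → ℂ) 1) := by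
          rw [Finset.sum_eq_single (1 : (P : Subgroup G)) (fun y _ hy => hzero y hy) (by simp),
            OneMemClass.coe_one]
      _ = (B'.card : ℂ) * d := by
          rw [Finset.sum_congr rfl (g := fun _ => (d : ℂ)) fun ψ hψ => by
            rw [hOdeg ψ (Finset.mem_filter.1 hψ).1, Complex.conj_natCast], Finset.sum_const,
            nsmul_eq_mul]
  have hB'0 : (B'.card : ℂ) ≠ 0 := Nat.cast_ne_zero.2
    (Finset.card_pos.2 ⟨χ, Finset.mem_filter.2 ⟨hχO, self_mem_blockOf hM χ⟩⟩).ne'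
  have h1 := congrArg conj (mul_left_cancel₀ hB'0 htotal)
  rw [map_sum, Complex.conj_natCast] at h1
  simp only [Complex.conj_conj] at h1
  obtain ⟨ℓ, ρ, hρ, hρχ⟩ := χ.2
  have h2 := FDRep.average_char_eq_finrank_invariants (k := ℂ)
    (FDRep.of (ρ.comp (P : Subgroup G).subtype))
  have h3 : ∀ y : (P : Subgroup G),
      (FDRep.of (ρ.comp (P : Subgroup G).subtype)).character y = (χ : G → ℂ) y := fun y => by
    rw [← hρχ]; rfl
  rw [Finset.sum_congr rfl fun y _ => h3 y, h1, hcardP,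
    inv_mul_eq_iff_eq_mul₀ (Nat.cast_ne_zero.2 (pow_ne_zero _ hp.ne_zero))] at h2
  norm_cast at h2
  exact ⟨_, h2⟩

end Cfsg.Agent.S4506
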