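import Cfsg.Statements.S4507
import Cfsg.Agent.CycOne.Galois

set_option autoImplicit false
set_option maxHeartbeats 1000000
open Cfsg

namespace Cfsg.Agent.S4507

/-- Let G be a finite group whose order g is divisible by the prime p exactly once, g′ = g/p, and fix a maximal ideal M of the algebraic integers containing p. Call two irreducible characters p-conjugate when a field automorphism of ℂ fixing the g′-th roots of unity carries one to the other. Let B be a p-block of positive defect (its defect group is a Sylow p-subgroup). Then B contains a subset Y (the exceptional family) such that: Y is a full p-conjugacy class (its members are pairwise p-conjugate and every p-conjugate of a member of Y lies in Y); every member of B outside Y is p-conjugate only to itself; the size t of Y divides p − 1 and B has exactly t + (p − 1)/t members; and there are signs δ_χ = ±1 (χ ∈ B) such that for every p-regular element x and every θ ∈ Y, Σ_{χ ∈ B ∖ Y} δ_χ χ(x)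 + δ_θ θ(x) = 0. -/
theorem result {G : Type*} [Group G] [Finite G] (p : ℕ) [Fact p.Prime] (M : Ideal Cfsg.AlgInt) (hM : Cfsg.IsPModular p M) (hdiv : p ∣ Nat.card G) (hsq : ¬ p ^ 2 ∣ Nat.card G) (B : Set (Cfsg.IrrCharacter G)) (hB : Cfsg.IsPBlock M B) (hd : 0 < Cfsg.blockDefect p B) : ∃ Y : Set (Cfsg.IrrCharacter G), Y ⊆ B ∧ Y.Nonempty ∧ (∀ θ ∈ Y, ∀ ψ : Cfsg.IrrCharacter G, (∃ σ : ℂ ≃+* ℂ, σ (Complex.exp (2 * Real.pi * Complex.I / ((Nat.card G / p ^ (Nat.card G).factorization p) : ℕ))) = Complex.exp (2 * Real.pi * Complex.I / ((Nat.card G / p ^ (Nat.card G).factorization p) : ℕ)) ∧ (ψ : G → ℂ) = fun g => σ ((θ : G → ℂ) g)) ↔ ψ ∈ Y) ∧ (∀ χ ∈ B, χ ∉ Y → ∀ ψ : Cfsg.IrrCharacter G, (∃ σ : ℂ ≃+* ℂ, σ (Complex.exp (2 * Real.pi * Complex.I / ((Nat.card G / p ^ (Nat.card G).factorization p) : ℕ))) = Complex.exp (2 * Real.pi * Complex.I / ((Nat.card G / p ^ (Nat.card G).factorization p) : ℕ)) ∧ (ψ : G → ℂ) = fun g => σ ((χ : G → ℂ) g)) → ψ = χ) ∧ Nat.card Y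 ∣ p - 1 ∧ Nat.card B = Nat.card Y + (p - 1) / Nat.card Y ∧ ∃ δ : Cfsg.IrrCharacter G → ℤ, (∀ χ ∈ B, δ χ = 1 ∨ δ χ = -1) ∧ ∀ x : G, ¬ p ∣ orderOf x → ∀ θ ∈ Y, (∑ᶠ χ ∈ B \ Y, (δ χ : ℂ) * (χ : G → ℂ) x) + (δ θ : ℂ) * (θ : G → ℂ) x = 0 := by
  classical
  letI : Fintype G := Fintype.ofFinite G
  have hp : p.Prime := Fact.out
  have hfac : (Nat.card G).factorization p = 1 :=
    le_antisymm (not_lt.1 fun h => hsq ((hp.pow_dvd_iff_le_factorization Nat.card_pos.ne').2 h))
      (hp.factorization_pos_of_dvd Nat.card_pos.ne' hdiv)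
  obtain ⟨g, hg⟩ := BlockBasic.exists_isDefectClass (p := p) hM hB
  have hD : IsDefectGroup p M B
      (H35.sylImage (default : Sylow p (Subgroup.centralizer ({g} : Set G)))) :=
    ⟨g, hg, default, rfl⟩
  have hdle : blockDefect p B ≤ (Nat.card G).factorization p := Nat.sub_le _ _
  have hd1 : blockDefect p B = 1 := by omega
  have hcard := H35.card_defectGroup hM hB hD
  rw [hd1, pow_one] at hcard
  obtain ⟨P, hle⟩ := (IsPGroup.of_card (p := p) (n := 1)
    (G := (H35.sylImage (default : Sylow p (Subgroup.centralizer ({g} : Set G))) : Subgroup G))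
      (by rw [pow_one]; exact hcard)).exists_le_sylow
  have hP : Nat.card P = p := by rw [P.card_eq_multiplicity, hfac, pow_one]
  have hPe := Subgroup.eq_of_le_of_card_ge hle (le_of_eq (hP.trans hcard.symm))
  have hBP : IsDefectGroup p M B (P : Subgroup G) := hPe ▸ hD
  letI : Fintype (CycOne.cen P) := Fintype.ofFinite _
  letI : Fintype (CycOne.nor P) := Fintype.ofFinite _
  have hgC : g ∈ CycOne.cen P := by
    rw [CycOne.cen, ← hPe]
    refine Subgroup.mem_centralizer_iff.2 ?_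
    rintro y ⟨z, -, rfl⟩
    exact Subgroup.mem_centralizer_singleton_iff.1 z.2
  obtain ⟨ξ, hξ⟩ := BlockBasic.exists_root hM P.isPGroup' (CycOne.le_cen P hP) le_rfl
    (CycOne.cen_le_nor P) hB hgC hg.2.1
  have hθ := CycOne.isTriv_bs P hP ξ
  have hind : IsInducedBlock M (CycOne.cen P)
      (blockOf M (CycOne.bs P hP ξ : CycOne.cen P → ℂ)) B := by
    have hmem : CycOne.bs P hP ξ ∈ blockOf M (ξ : CycOne.cen P → ℂ) :=
      BlockBasic.mem_blockOf.2 ((CycOne.isCS P hP).sameBlock_base hM ξ)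
    rwa [← BlockBasic.isPBlock_eq_blockOf hM hξ.1 hmem]
  generalize CycOne.bs P hP ξ = θ at hθ hind
  obtain ⟨S⟩ := CycOne.nonempty_blockShape P hP hM hBP hd hθ hind
  have hquot : Nat.card G / p ^ (Nat.card G).factorization p = Nat.card G / p := by
    rw [hfac, pow_one]
  rw [hquot]
  have hm0 : Nat.card G / p ≠ 0 :=
    (Nat.div_pos (Nat.le_of_dvd Nat.card_pos hdiv) hp.pos).ne'
  refine ⟨S.Y, fun y hy => S.subset y hy, S.Y_nonempty, fun y hy ψ => ⟨?_, fun hψ => ?_⟩, ?_, ?_,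
    ?_, fun χ => if χ ∈ S.Y then S.δ else S.a χ, fun χ hχ => ?_, fun x hx y hy => ?_⟩
  · rintro ⟨σ, hσ, hval⟩
    obtain ⟨η, hη, rfl⟩ := S.ζ_surj y hy
    have hfix := CycOne.fixesRoots_of_exp hm0 hσ
    rw [show ψ = CycOne.galIrr σ (S.ζ η) from Subtype.ext hval,
      CycOne.gal_in P hP S hM hBP hθ hind hfix hη]
    exact S.ζ_mem _ (CycOne.gal_mem_fam P hP hfix hθ hη)
  · obtain ⟨η, hη, rfl⟩ := S.ζ_surj y hy
    obtain ⟨η', hη', rfl⟩ := S.ζ_surj ψ hψ
    obtain ⟨σ, hfix, hσ⟩ := CycOne.exists_gal_fam P hP hθ hη hη'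
    refine ⟨σ, hfix _ (Complex.isPrimitiveRoot_exp _ hm0).pow_eq_one, ?_⟩
    exact congrArg Subtype.val ((CycOne.gal_in P hP S hM hBP hθ hind hfix hη).trans
      (congrArg S.ζ hσ)).symm
  · rintro χ hχ hχY ψ ⟨σ, hσ, hval⟩
    exact (show ψ = CycOne.galIrr σ χ from Subtype.ext hval).trans
      (CycOne.gal_out P hP S hM hBP hθ hind (CycOne.fixesRoots_of_exp hm0 hσ) hχ hχY)
  · rw [Nat.card_coe_set_eq, Set.ncard_coe_finset]
    have h := S.card_Y
    exact ⟨CycOne.idx P θ, by omega⟩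
  · rw [Nat.card_coe_set_eq ((S.Y : Set (IrrCharacter G))), Set.ncard_coe_finset, S.card_B]
    congr 1
    have h := S.card_Y
    rw [show p - 1 = S.Y.card * CycOne.idx P θ by omega,
      Nat.mul_div_cancel_left _ S.Y_nonempty.card_pos]
  · dsimp only
    split_ifs with h
    · exact S.δ_sign
    · exact S.a_sign χ hχ h
  · refine Eq.trans ?_ (S.regular_relation hM hind (y := y) hy hx)
    congr 1
    · exact finsum_mem_congr rfl fun χ hχ => by simp [show χ ∉ S.Y from hχ.2]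
    · simp [show y ∈ S.Y from hy]

end Cfsg.Agent.S4507
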