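import Cfsg.Statements.S4508
import Cfsg.Agent.CharBasic.Orth
import Cfsg.Prelude.Def_Blocks
import Mathlib.GroupTheory.Transfer
import Mathlib.GroupTheory.SpecificGroups.Cyclic
import Mathlib.GroupTheory.Abelianization.Defs
import Mathlib.Analysis.SpecialFunctions.Complex.CircleAddChar
import Mathlib.NumberTheory.LegendreSymbol.AddCharacter
import Mathlib.FieldTheory.Finite.Basic

set_option autoImplicit false
open Cfsg

namespace Cfsg.Agent.S4508

open Module Cfsg.Agent CharBasic
open scoped ComplexConjugate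

variable {G : Type*} [Group G] [Finite G] {p : ℕ} [hp : Fact p.Prime] {x : G}

/-- A self-centralizing element of prime order generates a Sylow subgroup. -/
theorem card_sylow (hx : orderOf x = p)
    (hC : Subgroup.centralizer ({x} : Set G) = Subgroup.zpowers x) :
    ∃ P : Sylow p G, (P : Subgroup G) = Subgroup.zpowers x := by
  obtain ⟨P, hP⟩ := (IsPGroup.of_card (n := 1)
    (show Nat.card (Subgroup.zpowers x) = p ^ 1 by rw [Nat.card_zpowers, hx, pow_one])).exists_le_sylow
  refine ⟨P, le_antisymm ?_ hP⟩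
  have hxP : x ∈ (P : Subgroup G) := hP (Subgroup.mem_zpowers x)
  haveI : Nontrivial (P : Subgroup G) :=
    ⟨⟨⟨x, hxP⟩, 1, fun h => by
      have h' : x = 1 := congrArg Subtype.val h
      rw [h', orderOf_one] at hx
      exact hp.out.ne_one hx.symm⟩⟩
  haveI := P.2.center_nontrivial
  obtain ⟨z, hz⟩ := exists_ne (1 : Subgroup.center (P : Subgroup G))
  have hzc : ∀ y : (P : Subgroup G), y * (z : (P : Subgroup G)) = (z : (P : Subgroup G)) * y :=
    fun y => Subgroup.mem_center_iff.1 z.2 y
  have hzx : ((z : (P : Subgroup G)) : G) ∈ Subgroup.zpowers x := by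
    rw [← hC, Subgroup.mem_centralizer_singleton_iff]
    exact (congrArg Subtype.val (hzc ⟨x, hxP⟩)).symm
  have hgen : Subgroup.zpowers ((z : (P : Subgroup G)) : G) = Subgroup.zpowers x := by
    refine Subgroup.eq_of_le_of_card_ge (Subgroup.zpowers_le.2 hzx) ?_
    have hne : ((z : (P : Subgroup G)) : G) ≠ 1 := fun h => hz (Subtype.ext (Subtype.ext h))
    have hd := orderOf_dvd_of_mem_zpowers hzx
    rw [hx] at hd
    rw [Nat.card_zpowers, Nat.card_zpowers, hx,
      (hp.out.eq_one_or_self_of_dvd _ hd).resolve_left (by rwa [orderOf_eq_one_iff])]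
  intro y hy
  rw [← hC, Subgroup.mem_centralizer_singleton_iff]
  obtain ⟨i, hi⟩ := Subgroup.mem_zpowers_iff.1 (hgen.symm ▸ Subgroup.mem_zpowers x)
  have hc : Commute y ((z : (P : Subgroup G)) : G) := congrArg Subtype.val (hzc ⟨y, hy⟩)
  rw [← hi]
  exact (hc.zpow_right i).eq

/-- The additive character used for eigenvalues of `x`. -/
noncomputable abbrev ψ (p : ℕ) [Fact p.Prime] : AddChar (ZMod p) ℂ := ZMod.stdAddChar

theorem exists_exponent {μ : ℂ} (h : μ ^ p = 1) : ∃ j : ZMod p, ψ p j = μ := by
  have hζ := Complex.isPrimitiveRoot_exp p hp.out.ne_zero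
  obtain ⟨i, -, rfl⟩ := hζ.eq_pow_of_pow_eq_one h
  refine ⟨((i : ℤ) : ZMod p), ?_⟩
  show ZMod.stdAddChar ((i : ℤ) : ZMod p) = _
  rw [ZMod.stdAddChar_coe, ← Complex.exp_nat_mul]
  congr 1
  push_cast
  ring

/-- The second moment of the values of a character on a cyclic group of prime order. -/
theorem sum_normSq {ι : Type*} [Fintype ι] (j : ι → ZMod p) :
    ∑ a : ZMod p, ‖∑ i, ψ p (a * j i)‖ ^ 2 =
      (p : ℝ) * ∑ c : ZMod p, ((Finset.univ.filter fun i => j i = c).card : ℝ) ^ 2 := by
  classical
  apply Complex.ofReal_injective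
  push_cast
  simp_rw [← Complex.mul_conj', map_sum, ← AddChar.map_neg_eq_conj, Finset.sum_mul, Finset.mul_sum,
    ← AddChar.map_add_eq_mul]
  rw [Finset.sum_comm]
  have h : ∀ i i' : ι, ∑ a : ZMod p, ψ p (a * j i + -(a * j i')) =
      if j i = j i' then (p : ℂ) else 0 := by
    intro i i'
    simp_rw [show ∀ a : ZMod p, a * j i + -(a * j i') = a * (j i - j i') from fun a => by ring]
    rw [AddChar.sum_mulShift _ (ZMod.isPrimitive_stdAddChar p), ZMod.card]
    simp only [sub_eq_zero, Nat.cast_ite, Nat.cast_zero]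
  calc ∑ i, ∑ a : ZMod p, ∑ i', ψ p (a * j i + -(a * j i'))
      = ∑ i, ∑ i', if j i = j i' then (p : ℂ) else 0 := by
        refine Finset.sum_congr rfl fun i _ => ?_
        rw [Finset.sum_comm]
        exact Finset.sum_congr rfl fun i' _ => h i i'
    _ = _ := by
        rw [← Finset.sum_fiberwise Finset.univ j]
        refine Finset.sum_congr rfl fun c _ => ?_
        rw [Finset.sum_congr rfl fun i hi => by rw [(Finset.mem_filter.1 hi).2]]
        simp only [Finset.sum_ite, Finset.sum_const_zero, add_zero, Finset.sum_const, nsmul_eq_mul,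
          smul_eq_mul, eq_comm (a := c), sq]
        ring

/-- A function invariant under a free multiplier sums to a multiple of its order. -/
theorem orderOf_dvd_sum (k : (ZMod p)ˣ) (f : ZMod p → ℕ) (hf : ∀ c, f ((k : ZMod p) * c) = f c) :
    orderOf k ∣ ∑ u : (ZMod p)ˣ, f (u : ZMod p) := by
  classical
  set H := Subgroup.zpowers k
  have hH : ∀ h ∈ H, ∀ u : (ZMod p)ˣ, f ((u * h : (ZMod p)ˣ) : ZMod p) = f (u : ZMod p) := by
    intro h hh u
    obtain ⟨i, rfl⟩ := mem_powers_iff_mem_zpowers.2 hh
    dsimp only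
    induction i with
    | zero => simp
    | succ i ih =>
      rw [pow_succ, ← mul_assoc, mul_comm _ k, Units.val_mul, hf]
      exact ih (Subgroup.npow_mem_zpowers k i)
  have h : ∑ u : (ZMod p)ˣ, f (u : ZMod p) =
      ∑ c : ((ZMod p)ˣ ⧸ H), orderOf k * f ((c.out : (ZMod p)ˣ) : ZMod p) := by
    rw [← Finset.sum_fiberwise Finset.univ (QuotientGroup.mk : (ZMod p)ˣ → (ZMod p)ˣ ⧸ H)]
    refine Finset.sum_congr rfl fun c _ => ?_
    have e : ∀ u ∈ Finset.univ.filter
        (fun u => (QuotientGroup.mk u : (ZMod p)ˣ ⧸ H) = c), f (u : ZMod p) =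
          f ((c.out : (ZMod p)ˣ) : ZMod p) := by
      intro u hu
      have : (c.out)⁻¹ * u ∈ H := QuotientGroup.eq.1 (by
        rw [QuotientGroup.out_eq', (Finset.mem_filter.1 hu).2])
      rw [← hH _ this c.out, mul_inv_cancel_left]
    rw [Finset.sum_congr rfl e, Finset.sum_const, smul_eq_mul]
    congr 1
    rw [← Nat.card_zpowers, Nat.card_eq_fintype_card, ← Fintype.card_subtype]
    refine Fintype.card_congr
      { toFun := fun u => ⟨(c.out)⁻¹ * u, QuotientGroup.eq.1 (by
          rw [QuotientGroup.out_eq', u.2])⟩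
        invFun := fun h => ⟨c.out * h, by
          rw [QuotientGroup.mk_mul_of_mem _ h.2, QuotientGroup.out_eq']⟩
        left_inv := fun u => by simp
        right_inv := fun h => by simp }
  rw [h]
  exact Finset.dvd_sum fun c _ => dvd_mul_right _ _

/-- A linear character with value `-1` forces even index of the commutator subgroup. -/
theorem even_index (f : G →* ℂˣ) (g : G) (hg : f g = -1) : Even (commutator G).index := by
  have h : orderOf (Abelianization.lift f (Abelianization.of g)) ∣
      orderOf (Abelianization.of g) := orderOf_map_dvd _ _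
  rw [Abelianization.lift_apply_of, hg] at h
  have h2 : orderOf (-1 : ℂˣ) = 2 := by
    rw [← orderOf_units, Units.val_neg, Units.val_one, orderOf_neg_one, ringChar.eq_zero]
    simp
  rw [h2] at h
  rw [even_iff_two_dvd, Subgroup.index_eq_card]
  exact h.trans (orderOf_dvd_natCard _)

/-- Let the finite group G contain an element x of prime order p with C_G(x) = ⟨x⟩, and let t be the number of conjugacy classes of elements of order p. If G has an irreducible character of degree p − 1, then t is even or the commutator subgroup has even index. -/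
theorem result {G : Type*} [Group G] [Finite G] (p : ℕ) (hp : p.Prime) (x : G) (hx : orderOf x = p) (hC : Subgroup.centralizer ({x} : Set G) = Subgroup.zpowers x) (t : ℕ) (ht : Nat.card {C : ConjClasses G // ∃ g ∈ C.carrier, orderOf g = p} = t) (χ : Cfsg.IrrCharacter G) (hχ : Cfsg.charDegree (χ : G → ℂ) + 1 = p) : Even t ∨ Even (commutator G).index := by
  classical
  cases nonempty_fintype G
  haveI := Fact.mk hp
  haveI : NeZero p := ⟨hp.ne_zero⟩
  obtain ⟨Q, hQ⟩ := card_sylow hx hC
  set P := Subgroup.zpowers x with hPdef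
  set N := Subgroup.normalizer (P : Set G) with hN
  have hxP : x ∈ P := Subgroup.mem_zpowers x
  have hPN : P ≤ N := Subgroup.le_normalizer
  have hcardP : Nat.card P = p := by rw [Nat.card_zpowers, hx]
  have hx1 : x ≠ 1 := fun h => hp.ne_one (by rw [← hx, h, orderOf_one])
  have hgen : ∀ u ∈ P, u ≠ 1 → Subgroup.zpowers u = P := by
    intro u hu hu1
    refine Subgroup.eq_of_le_of_card_ge (Subgroup.zpowers_le.2 hu) ?_
    have hd := orderOf_dvd_of_mem_zpowers hu
    rw [hx] at hd
    rw [hcardP, Nat.card_zpowers,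
      (hp.eq_one_or_self_of_dvd _ hd).resolve_left (by rwa [orderOf_eq_one_iff])]
  have hconjN : ∀ u ∈ P, u ≠ 1 → ∀ g : G, g * u * g⁻¹ ∈ P → g ∈ N := by
    intro u hu hu1 g hg
    have hg1 : g * u * g⁻¹ ≠ 1 := by simpa [conj_eq_one_iff] using hu1
    refine Subgroup.mem_normalizer_iff.2 fun v => ?_
    constructor
    · intro hv
      rw [← hgen u hu hu1] at hv
      obtain ⟨i, rfl⟩ := Subgroup.mem_zpowers_iff.1 hv
      rw [← conj_zpow]
      exact P.zpow_mem hg i
    · intro hv
      rw [← hgen _ hg hg1] at hv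
      obtain ⟨i, hi⟩ := Subgroup.mem_zpowers_iff.1 hv
      rw [conj_zpow] at hi
      have : v = u ^ i := by simpa using hi.symm
      exact this ▸ P.zpow_mem hu i
  -- the action of `N` on `P`
  let c : N →* MulAut P := Subgroup.normalizerMonoidHom P
  have hker : c.ker = P.subgroupOf N := by
    rw [Subgroup.normalizerMonoidHom_ker]
    congr 1
    refine le_antisymm (fun y hy => hC ▸ Subgroup.mem_centralizer_singleton_iff.2
      (hy x hxP).symm) ?_
    intro y hy z hz
    obtain ⟨i, rfl⟩ := Subgroup.mem_zpowers_iff.1 hy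
    obtain ⟨j, rfl⟩ := Subgroup.mem_zpowers_iff.1 hz
    exact Commute.zpow_zpow (Commute.refl x) j i
  set e := Nat.card c.range with he
  have hNcard : Nat.card N = p * e := by
    rw [← Subgroup.card_mul_index c.ker, Subgroup.index_ker, hker,
      Nat.card_congr (Subgroup.subgroupOfEquivOfLe hPN).toEquiv, hcardP]
  haveI : IsCyclic P := Subgroup.isCyclic_zpowers x
  haveI : IsCyclic (ZMod (Nat.card P))ˣ := by rw [hcardP]; infer_instance
  haveI : IsCyclic (MulAut P) := (IsCyclic.mulAutMulEquiv P).isCyclic.2 inferInstance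
  have hedvd : e ∣ p - 1 := by
    have h := Subgroup.card_subgroup_dvd_card c.range
    rw [IsCyclic.card_mulAut P, hcardP, Nat.totient_prime hp] at h
    exact h
  have he0 : 0 < e := Nat.card_pos
  have hecop : Nat.Coprime p e := hp.coprime_iff_not_dvd.2 fun h => by
    have := Nat.le_of_dvd (Nat.sub_pos_of_lt hp.one_lt) (h.trans hedvd)
    have := hp.two_le
    omega
  obtain ⟨⟨γ, y₀, rfl⟩, hγ⟩ := IsCyclic.exists_generator (α := c.range)
  have hord : orderOf (c y₀) = e := by
    have h := orderOf_eq_card_of_forall_mem_zpowers hγ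
    rw [← Subgroup.orderOf_coe] at h
    exact h
  set y : G := ((y₀ ^ p : N) : G) with hy
  have hyN : y ∈ N := (y₀ ^ p : N).2
  have hcy : orderOf (c (y₀ ^ p)) = e := by
    rw [map_pow, Nat.Coprime.orderOf_pow, hord]
    rw [hord]; exact hecop.symm
  have hye : y ^ e = 1 := by
    have h : y₀ ^ e ∈ c.ker := by rw [MonoidHom.mem_ker, map_pow, ← hord, pow_orderOf_eq_one]
    rw [hker, Subgroup.mem_subgroupOf] at h
    have h2 : ((y₀ ^ e : N) : G) ^ Nat.card P = 1 := by
      have := orderOf_dvd_natCard (⟨_, h⟩ : P)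
      rw [← Subgroup.orderOf_coe] at this
      exact orderOf_dvd_iff_pow_eq_one.1 this
    rw [hcardP] at h2
    rw [hy, SubgroupClass.coe_pow, ← pow_mul, mul_comm, pow_mul]
    simpa using h2
  have hyC : ∀ l : ℕ, l < e → Commute (y ^ l) x → l = 0 := by
    intro l hl hc
    by_contra hl0
    have h : (y₀ ^ p) ^ l ∈ c.ker := by
      rw [hker, Subgroup.mem_subgroupOf, SubgroupClass.coe_pow, ← hy, ← hC,
        Subgroup.mem_centralizer_singleton_iff]
      exact hc.eq
    rw [MonoidHom.mem_ker, map_pow, ← orderOf_dvd_iff_pow_eq_one, hcy] at h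
    exact absurd (Nat.le_of_dvd (Nat.pos_of_ne_zero hl0) h) (by omega)
  have hNy : ∀ g ∈ N, ∃ l < e, (y ^ l)⁻¹ * g ∈ P := by
    intro g hg
    have hmem : c ⟨g, hg⟩ ∈ Subgroup.zpowers (c (y₀ ^ p)) := by
      have h1 : Subgroup.zpowers (c (y₀ ^ p)) = c.range := by
        refine Subgroup.eq_of_le_of_card_ge (Subgroup.zpowers_le.2 ⟨_, rfl⟩) ?_
        rw [Nat.card_zpowers, hcy]
      exact h1 ▸ ⟨_, rfl⟩
    rw [mem_zpowers_iff_mem_range_orderOf, Finset.mem_image, hcy] at hmem
    obtain ⟨l, hl, hle⟩ := hmem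
    refine ⟨l, Finset.mem_range.1 hl, ?_⟩
    have h : ((y₀ ^ p) ^ l)⁻¹ * ⟨g, hg⟩ ∈ c.ker := by
      rw [MonoidHom.mem_ker, map_mul, map_inv, map_pow, ← hle, inv_mul_cancel]
    rw [hker, Subgroup.mem_subgroupOf] at h
    simpa [hy] using h
  -- counting classes
  have hte : t * e + 1 = p := by
    let f : P → ConjClasses G := fun u => ConjClasses.mk (u : G)
    set D : Finset P := Finset.univ.erase 1
    have hT : Nat.card {C : ConjClasses G // ∃ g ∈ C.carrier, orderOf g = p} = (D.image f).card := by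
      rw [← Set.ncard_coe_finset]
      refine (Nat.card_coe_set_eq {C : ConjClasses G | ∃ g ∈ C.carrier, orderOf g = p}).trans ?_
      congr 1
      ext C
      simp only [Set.mem_setOf_eq, Finset.coe_image, Set.mem_image, Finset.mem_coe, D,
        Finset.mem_erase, Finset.mem_univ, and_true, f]
      constructor
      · rintro ⟨g, hgC, hgo⟩
        obtain ⟨R, hR⟩ := (IsPGroup.of_card (n := 1)
          (show Nat.card (Subgroup.zpowers g) = p ^ 1 by
            rw [Nat.card_zpowers, hgo, pow_one])).exists_le_sylow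
        obtain ⟨h, hh⟩ := MulAction.exists_smul_eq G R Q
        have hmem : h * g * h⁻¹ ∈ P := by
          rw [← hQ, ← hh]
          exact ⟨g, hR (Subgroup.mem_zpowers g), rfl⟩
        refine ⟨⟨_, hmem⟩, fun h1 => ?_, ?_⟩
        · have h1' : h * g * h⁻¹ = 1 := congrArg Subtype.val h1
          rw [conj_eq_one_iff] at h1'
          rw [h1', orderOf_one] at hgo
          exact hp.ne_one hgo.symm
        · rw [← (ConjClasses.mem_carrier_iff_mk_eq.1 hgC)]
          exact ConjClasses.mk_eq_mk_iff_isConj.2 (isConj_iff.2 ⟨h, rfl⟩).symm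
      · rintro ⟨u, hu, rfl⟩
        refine ⟨u, ConjClasses.mem_carrier_mk, ?_⟩
        have hu1 : (u : G) ≠ 1 := fun h => hu (Subtype.ext h)
        rw [← Nat.card_zpowers, hgen u u.2 hu1, hcardP]
    have hfib : ∀ C ∈ D.image f, (D.filter fun v => f v = C).card = e := by
      intro C hC'
      obtain ⟨u, hu, rfl⟩ := Finset.mem_image.1 hC'
      have hu1 : (u : G) ≠ 1 := fun h => (Finset.mem_erase.1 hu).1 (Subtype.ext h)
      rw [← Finset.card_range e]
      refine (Finset.card_nbij (fun l => (⟨y ^ l * u * (y ^ l)⁻¹,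
        (Subgroup.mem_normalizer_iff.1 (N.pow_mem hyN l) u).1 u.2⟩ : P)) ?_ ?_ ?_).symm
      · intro l _
        simp only [Finset.mem_coe, Finset.mem_filter, D, Finset.mem_erase, Finset.mem_univ, and_true]
        refine ⟨fun h => hu1 ?_, ConjClasses.mk_eq_mk_iff_isConj.2
          (isConj_iff.2 ⟨y ^ l, rfl⟩).symm⟩
        exact conj_eq_one_iff.1 (congrArg Subtype.val h)
      · have key : ∀ l l', l < l' → l' < e →
            y ^ l * u * (y ^ l)⁻¹ = y ^ l' * u * (y ^ l')⁻¹ → False := by
          intro l l' hlt hl' hll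
          obtain ⟨d, rfl⟩ := Nat.exists_eq_add_of_le hlt.le
          rw [pow_add] at hll
          have hcd : Commute (y ^ d) (u : G) := by
            show y ^ d * u = u * y ^ d
            rw [← mul_inv_eq_iff_eq_mul]
            have h2 : y ^ l * u * (y ^ l)⁻¹ = y ^ l * (y ^ d * u * (y ^ d)⁻¹) * (y ^ l)⁻¹ := by
              rw [hll]; group
            exact (mul_left_cancel (mul_right_cancel h2)).symm
          obtain ⟨i, hi⟩ := Subgroup.mem_zpowers_iff.1 ((hgen u u.2 hu1).symm ▸ hxP)
          have := hyC d (by omega) (hi ▸ hcd.zpow_right i)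
          omega
        intro l hl l' hl' hll
        have hll' : y ^ l * u * (y ^ l)⁻¹ = y ^ l' * u * (y ^ l')⁻¹ := congrArg Subtype.val hll
        rcases Nat.lt_trichotomy l l' with h | h | h
        · exact (key l l' h (Finset.mem_range.1 hl') hll').elim
        · exact h
        · exact (key l' l h (Finset.mem_range.1 hl) hll'.symm).elim
      · intro v hv
        simp only [Finset.mem_coe, Finset.mem_filter, D, Finset.mem_erase, Finset.mem_univ,
          and_true] at hv
        obtain ⟨g, hg⟩ := isConj_iff.1 (ConjClasses.mk_eq_mk_iff_isConj.1 hv.2.symm)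
        obtain ⟨l, hl, hlP⟩ := hNy g (hconjN u u.2 hu1 g (hg ▸ v.2))
        refine ⟨l, Finset.mem_range.2 hl, Subtype.ext ?_⟩
        have hcomm : Commute ((y ^ l)⁻¹ * g) (u : G) := by
          obtain ⟨i, hi⟩ := Subgroup.mem_zpowers_iff.1 hlP
          obtain ⟨j, hj⟩ := Subgroup.mem_zpowers_iff.1 u.2
          rw [← hi, ← hj]
          exact Commute.zpow_zpow (Commute.refl x) i j
        show y ^ l * u * (y ^ l)⁻¹ = (v : G)
        calc y ^ l * (u : G) * (y ^ l)⁻¹
            = y ^ l * (((y ^ l)⁻¹ * g) * u * ((y ^ l)⁻¹ * g)⁻¹) * (y ^ l)⁻¹ := by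
              rw [hcomm.eq, mul_inv_cancel_right]
          _ = g * u * g⁻¹ := by group
          _ = (v : G) := hg
    have h := Finset.card_eq_sum_card_image f D
    rw [Finset.sum_congr rfl hfib, Finset.sum_const, smul_eq_mul, ← hT, ht,
      Finset.card_erase_of_mem (Finset.mem_univ _), Finset.card_univ, ← Nat.card_eq_fintype_card,
      hcardP] at h
    have := hp.two_le
    omega
  rcases Nat.lt_or_ge 1 e with he1 | he1
  swap
  · have he' : e = 1 := by omega
    rw [he', mul_one] at hte
    rcases hp.eq_two_or_odd' with rfl | hodd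
    · -- transfer
      right
      have hNle : Subgroup.normalizer ((Q : Subgroup G) : Set G) ≤
          Subgroup.centralizer ((Q : Subgroup G) : Set G) := by
        rw [hQ]
        intro g hg z hz
        obtain ⟨l, hl, hlP⟩ := hNy g hg
        obtain rfl : l = 0 := by omega
        rw [pow_zero, inv_one, one_mul] at hlP
        obtain ⟨i, rfl⟩ := Subgroup.mem_zpowers_iff.1 hlP
        obtain ⟨j, rfl⟩ := Subgroup.mem_zpowers_iff.1 hz
        exact Commute.zpow_zpow (Commute.refl x) j i
      have h := (MonoidHom.ker_transferSylow_isComplement' Q hNle).index_eq_card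
      set K := (MonoidHom.transferSylow Q hNle).ker with hK
      have hcomp := MonoidHom.ker_transferSylow_isComplement' Q hNle
      have hidx : K.index = 2 := by
        rw [hcomp.symm.index_eq_card, hQ, hcardP]
      have hle : commutator G ≤ K := by
        haveI : Fact (Nat.Prime 2) := ⟨Nat.prime_two⟩
        haveI : IsCyclic (G ⧸ K) := isCyclic_of_prime_card (p := 2) (by
          rw [← Subgroup.index_eq_card, hidx])
        letI := IsCyclic.commGroup (α := G ⧸ K)
        exact (Abelianization.commutator_subset_ker (QuotientGroup.mk' K)).trans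
          (QuotientGroup.ker_mk' K).le
      rw [even_iff_two_dvd, ← hidx]
      exact Subgroup.index_dvd_of_le hle
    · left
      obtain ⟨m, hm⟩ := hodd
      exact ⟨m, by omega⟩
  -- `1 < e`
  by_cases hteven : Even t
  · exact Or.inl hteven
  right
  obtain ⟨n, ρ, hρ, hρχ⟩ := χ.2
  have hn : n + 1 = p := by
    rw [← hχ, ← hρχ]
    simp [Cfsg.charDegree]
  have hn0 : 0 < n := by have := hp.two_le; omega
  obtain ⟨v, μ, hv, hμ, hμsum⟩ := exists_eigenbasis_rep ρ x
  rw [hx] at hμ
  choose j hj using fun i => exists_exponent (hμ i)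
  have hιcard : Fintype.card (Fin (finrank ℂ (Fin n → ℂ))) = n := by simp
  have hval : ∀ a : ℕ, ρ.character (x ^ a) = ∑ i, ψ p ((a : ZMod p) * j i) := by
    intro a
    refine trace_eq_sum_of_eigenbasis v _ _ fun i => ?_
    rw [← nsmul_eq_mul, AddChar.map_nsmul_eq_pow, hj]
    induction a with
    | zero => simp
    | succ a ih => rw [pow_succ', map_mul, Module.End.mul_apply, ih, map_smul, hv, smul_smul, pow_succ]
  set b : ZMod p → ℕ := fun c => (Finset.univ.filter fun i => j i = c).card with hb
  have hbsum : ∑ c, b c = n := by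
    rw [← hιcard, ← Finset.card_univ,
      Finset.card_eq_sum_card_fiberwise (t := Finset.univ) fun i _ => Finset.mem_univ (j i)]
  -- the multiplier of `y`
  obtain ⟨k₀, hk₀⟩ : ∃ k₀ : ℕ, y * x * y⁻¹ = x ^ k₀ := by
    obtain ⟨k, hk⟩ := mem_powers_iff_mem_zpowers.2
      ((Subgroup.mem_normalizer_iff.1 hyN x).1 hxP)
    exact ⟨k, hk.symm⟩
  have hconj : ∀ l : ℕ, y ^ l * x * (y ^ l)⁻¹ = x ^ (k₀ ^ l) := by
    intro l
    induction l with
    | zero => simp
    | succ l ih =>
      rw [pow_succ', show y * y ^ l * x * (y * y ^ l)⁻¹ = y * (y ^ l * x * (y ^ l)⁻¹) * y⁻¹ by group,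
        ih, ← conj_pow, hk₀, ← pow_mul, ← pow_succ']
  have hxpow : ∀ i i' : ℕ, x ^ i = x ^ i' ↔ (i : ZMod p) = (i' : ZMod p) := fun i i' => by
    rw [pow_eq_pow_iff_modEq, hx, ZMod.natCast_eq_natCast_iff]
  have hk0 : (k₀ : ZMod p) ≠ 0 := by
    intro h
    have h' : x ^ k₀ = x ^ 0 := (hxpow _ _).2 (by simpa using h)
    rw [pow_zero] at h'
    exact hx1 (conj_eq_one_iff.1 (hk₀.trans h'))
  set k : (ZMod p)ˣ := Units.mk0 _ hk0
  have hkl : ∀ l < e, k ^ l = 1 → l = 0 := by
    intro l hl h
    refine hyC l hl ?_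
    have h' : ((k₀ ^ l : ℕ) : ZMod p) = ((1 : ℕ) : ZMod p) := by
      simpa [k] using congrArg Units.val h
    rw [← hxpow, pow_one, ← hconj] at h'
    exact mul_inv_eq_iff_eq_mul.1 h'
  have hke : orderOf k = e := by
    have h : k ^ e = 1 := Units.ext <| by
      have h' := hconj e
      rw [hye, one_mul, inv_one, mul_one] at h'
      have h2 : ((1 : ℕ) : ZMod p) = ((k₀ ^ e : ℕ) : ZMod p) := (hxpow _ _).1 (by rw [pow_one, ← h'])
      simpa [k] using h2.symm
    rw [orderOf_eq_iff he0]
    exact ⟨h, fun l hl hl0 h' => hl0.ne' (hkl l hl h')⟩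
  have hbinv : ∀ c, b ((k : ZMod p) * c) = b c := by
    intro c
    have hF : ∀ c : ZMod p, (p : ℂ) * b c = ∑ a : ZMod p, ψ p (-(a * c)) * ρ.character (x ^ a.val) := by
      intro c
      have h1 : ∀ i, (∑ a : ZMod p, ψ p (-(a * c)) * ψ p (a * j i)) =
          if j i = c then (p : ℂ) else 0 := by
        intro i
        simp_rw [← AddChar.map_add_eq_mul,
          show ∀ a : ZMod p, -(a * c) + a * j i = a * (j i - c) from fun a => by ring]
        rw [AddChar.sum_mulShift _ (ZMod.isPrimitive_stdAddChar p), ZMod.card]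
        simp only [sub_eq_zero, Nat.cast_ite, Nat.cast_zero]
      simp only [hval, ZMod.natCast_zmod_val, Finset.mul_sum]
      rw [Finset.sum_comm, Finset.sum_congr rfl fun i _ => h1 i]
      simp [hb, Finset.sum_ite, mul_comm]
    have h := hF ((k : ZMod p) * c)
    have h2 : ∑ a : ZMod p, ψ p (-(a * ((k : ZMod p) * c))) * ρ.character (x ^ a.val) =
        ∑ a : ZMod p, ψ p (-(a * c)) * ρ.character (x ^ a.val) := by
      refine Fintype.sum_equiv k.mulRight _ _ fun a => ?_
      simp only [Units.mulRight_apply]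
      congr 1
      · congr 1; ring
      · have hpow : x ^ (a * (k : ZMod p)).val = y * x ^ a.val * y⁻¹ := by
          rw [← conj_pow, hk₀, ← pow_mul, hxpow]
          simp [k, mul_comm]
        rw [hpow, Representation.char_conj]
    rw [h2, ← hF] at h
    exact_mod_cast mul_left_cancel₀ (Nat.cast_ne_zero.2 hp.ne_zero) h
  -- the inequality
  have hineq : ∑ c, b c ^ 2 < e + n := by
    have hnorm : ∑ g : G, ‖ρ.character g‖ ^ 2 = (Nat.card G : ℝ) := by
      have h := classInner_irr_self χ.2
      rw [classInner_def, inv_mul_eq_one₀ (Nat.cast_ne_zero.2 Nat.card_pos.ne'), ← hρχ] at h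
      apply Complex.ofReal_injective
      push_cast
      rw [h]
      exact Finset.sum_congr rfl fun g _ => (Complex.mul_conj' _).symm
    set D : Finset P := Finset.univ.erase 1
    let F : (G ⧸ N) × P → G := fun qu => qu.1.out * qu.2 * qu.1.out⁻¹
    have hinj : Set.InjOn F ↑((Finset.univ : Finset (G ⧸ N)) ×ˢ D) := by
      rintro ⟨q, u⟩ hu ⟨q', u'⟩ hu' h
      simp only [Finset.coe_product, Set.mem_prod, Finset.mem_coe, D, Finset.mem_erase,
        Finset.mem_univ, and_true, Finset.coe_univ, Set.mem_univ, true_and] at hu hu'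
      have h' : q.out * u * q.out⁻¹ = q'.out * (u' : G) * q'.out⁻¹ := h
      have hmem : (q'.out⁻¹ * q.out) * u * (q'.out⁻¹ * q.out)⁻¹ = (u' : G) := by
        calc (q'.out⁻¹ * q.out) * (u : G) * (q'.out⁻¹ * q.out)⁻¹
            = q'.out⁻¹ * (q.out * u * q.out⁻¹) * q'.out := by group
          _ = (u' : G) := by rw [h']; group
      have hN' := hconjN u u.2 (fun h1 => hu (Subtype.ext h1)) _ (hmem ▸ u'.2)
      have hq : q = q' := by
        rw [← QuotientGroup.out_eq' q, ← QuotientGroup.out_eq' q']
        exact (QuotientGroup.eq.2 hN').symm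
      subst hq
      refine Prod.ext rfl (Subtype.ext ?_)
      simpa using h'
    have hsub : insert (1 : G) ((Finset.univ ×ˢ D).image F) ⊆ Finset.univ := Finset.subset_univ _
    have h1 := Finset.sum_le_sum_of_subset_of_nonneg (f := fun g => ‖ρ.character g‖ ^ 2) hsub
      fun g _ _ => sq_nonneg _
    have hnot : (1 : G) ∉ (Finset.univ ×ˢ D).image F := by
      simp only [Finset.mem_image, Finset.mem_product, D, Finset.mem_erase, Finset.mem_univ,
        and_true, true_and, not_exists, not_and]
      rintro ⟨q, u⟩ hu h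
      exact hu (Subtype.ext (conj_eq_one_iff.1 h))
    rw [Finset.sum_insert hnot, Finset.sum_image hinj, hnorm, Finset.sum_product] at h1
    have hD : ∀ q : G ⧸ N, ∑ u ∈ D, ‖ρ.character (F (q, u))‖ ^ 2 =
        (p : ℝ) * ∑ c, (b c : ℝ) ^ 2 - (n : ℝ) ^ 2 := by
      intro q
      have hall : ∑ u : P, ‖ρ.character (u : G)‖ ^ 2 = (p : ℝ) * ∑ c, (b c : ℝ) ^ 2 := by
        rw [← sum_normSq j]
        let g : ZMod p → P := fun a => ⟨x ^ a.val, Subgroup.npow_mem_zpowers x _⟩
        have hg : Function.Bijective g := by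
          refine (Fintype.bijective_iff_injective_and_card g).2 ⟨fun a a' h => ?_, ?_⟩
          · have h' : x ^ a.val = x ^ a'.val := congrArg Subtype.val h
            rw [hxpow, ZMod.natCast_zmod_val, ZMod.natCast_zmod_val] at h'
            exact h'
          · rw [ZMod.card, ← Nat.card_eq_fintype_card, hcardP]
        rw [← Fintype.sum_bijective g hg _ _ fun a => rfl]
        exact Finset.sum_congr rfl fun a _ => by rw [hval, ZMod.natCast_zmod_val]
      rw [← hall, Finset.sum_erase_eq_sub (Finset.mem_univ _)]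
      simp [F, Representation.char_conj]
    rw [Finset.sum_congr rfl fun q _ => hD q, Finset.sum_const, nsmul_eq_mul, Finset.card_univ] at h1
    have hG : (Nat.card G : ℝ) = (Fintype.card (G ⧸ N) : ℝ) * ((p : ℝ) * e) := by
      rw [← Nat.cast_mul, ← Nat.cast_mul, ← hNcard, ← Nat.card_eq_fintype_card,
        ← Subgroup.index_eq_card, Subgroup.index_mul_card]
    rw [hG] at h1
    simp only [Representation.char_one, Complex.norm_natCast, Module.finrank_fin_fun] at h1
    have hI : (1 : ℝ) ≤ (Fintype.card (G ⧸ N) : ℝ) := by exact_mod_cast Fintype.card_pos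
    have hnR : (1 : ℝ) ≤ (n : ℝ) := by exact_mod_cast hn0
    have hpn : (n : ℝ) + 1 = (p : ℝ) := by exact_mod_cast hn
    have hlt : (p : ℝ) * ∑ c, (b c : ℝ) ^ 2 - (n : ℝ) ^ 2 < (p : ℝ) * e := by
      by_contra hge
      push Not at hge
      have := mul_le_mul_of_nonneg_left hge (le_trans zero_le_one hI)
      nlinarith
    have hfin : (p : ℝ) * ∑ c, (b c : ℝ) ^ 2 < (p : ℝ) * ((e : ℝ) + n) := by nlinarith
    have := (mul_lt_mul_iff_right₀ (by exact_mod_cast hp.pos)).1 hfin
    exact_mod_cast this
  -- no fixed vector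
  have hb0 : b 0 = 0 := by
    have hsplit : ∀ f : ZMod p → ℕ, ∑ c, f c = f 0 + ∑ u : (ZMod p)ˣ, f (u : ZMod p) := by
      intro f
      rw [← Finset.add_sum_erase _ _ (Finset.mem_univ (0 : ZMod p))]
      congr 1
      refine Finset.sum_bij' (fun c hc => Units.mk0 c (Finset.mem_erase.1 hc).1)
        (fun u _ => (u : ZMod p)) (fun _ _ => Finset.mem_univ _)
        (fun u _ => Finset.mem_erase.2 ⟨u.ne_zero, Finset.mem_univ _⟩)
        (fun _ _ => rfl) (fun u _ => Units.ext rfl) (fun _ _ => rfl)
    rw [hsplit] at hbsum hineq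
    have hdvd : e ∣ b 0 := by
      have h := orderOf_dvd_sum k b hbinv
      rw [hke] at h
      refine (Nat.dvd_add_left h).1 ?_
      rw [hbsum]
      exact hedvd.trans (by rw [← hn]; simp)
    have hle : ∑ u : (ZMod p)ˣ, b (u : ZMod p) ≤ ∑ u : (ZMod p)ˣ, b (u : ZMod p) ^ 2 :=
      Finset.sum_le_sum fun u _ => Nat.le_self_pow two_ne_zero _
    by_contra h0
    obtain ⟨d, hd⟩ := hdvd
    have hd1 : 1 ≤ d := Nat.pos_of_ne_zero fun h => h0 (by rw [hd, h, mul_zero])
    have h2 : e * d * (e * d) < e + e * d := by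
      rw [← hd, ← sq]
      omega
    have h3 : 2 ≤ e := he1
    nlinarith [Nat.mul_le_mul h3 hd1, Nat.mul_le_mul_left e hd1]
  -- the trace of `y ^ l`
  have hyzero : ∀ l < e, l ≠ 0 → ρ.character (y ^ l) = 0 := by
    intro l hl hl0
    show LinearMap.trace ℂ _ (ρ (y ^ l)) = 0
    rw [LinearMap.trace_eq_matrix_trace ℂ v, Matrix.trace]
    refine Finset.sum_eq_zero fun i _ => ?_
    rw [Matrix.diag_apply, LinearMap.toMatrix_apply]
    set w := ρ (y ^ l) (v i)
    have hw : ρ (x ^ (k₀ ^ l)) w = μ i • w := by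
      rw [← hconj, ← Module.End.mul_apply, ← map_mul, inv_mul_cancel_right, map_mul,
        Module.End.mul_apply, hv, map_smul]
    have heig : ∀ (a : ℕ) i', ρ (x ^ a) (v i') = μ i' ^ a • v i' := by
      intro a i'
      induction a with
      | zero => simp
      | succ a ih =>
        rw [pow_succ', map_mul, Module.End.mul_apply, ih, map_smul, hv, smul_smul, pow_succ]
    have hrepr : v.repr (ρ (x ^ (k₀ ^ l)) w) i = μ i ^ (k₀ ^ l) * v.repr w i := by
      conv_lhs => rw [← v.sum_repr w]
      rw [map_sum, map_sum, Finsupp.coe_finsetSum, Finset.sum_apply, Finset.sum_eq_single i]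
      · rw [map_smul, heig, smul_smul, map_smul, Basis.repr_self, Finsupp.smul_apply,
          Finsupp.single_eq_same, smul_eq_mul, mul_one, mul_comm]
      · intro i' _ hne
        rw [map_smul, heig, smul_smul, map_smul, Basis.repr_self, Finsupp.smul_apply,
          Finsupp.single_eq_of_ne hne.symm, smul_zero]
      · simp
    rw [hw, map_smul, Finsupp.smul_apply, smul_eq_mul] at hrepr
    by_contra hne
    have h := mul_right_cancel₀ hne hrepr
    rw [← hj, ← AddChar.map_nsmul_eq_pow, nsmul_eq_mul] at h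
    have h' := ZMod.injective_stdAddChar h
    have hji : j i ≠ 0 := fun h0 =>
      (Finset.card_pos.2 ⟨i, Finset.mem_filter.2 ⟨Finset.mem_univ i, h0⟩⟩).ne' hb0
    have h1 : ((k₀ ^ l : ℕ) : ZMod p) = 1 :=
      mul_right_cancel₀ hji (h'.symm.trans (one_mul _).symm)
    exact hl0 (hkl l hl (Units.ext (by simpa [k] using h1)))
  -- the determinant
  obtain ⟨w, ν, hw, hν', hνsum⟩ := exists_eigenbasis_rep ρ y
  have hν : ∀ i, ν i ^ e = 1 := fun i => by
    obtain ⟨d, hd⟩ := orderOf_dvd_of_pow_eq_one hye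
    rw [hd, pow_mul, hν', one_pow]
  have hζ := Complex.isPrimitiveRoot_exp e he0.ne'
  set ζ := Complex.exp (2 * Real.pi * Complex.I / e)
  choose ex hex1 hex2 using fun i => hζ.eq_pow_of_pow_eq_one (hν i)
  have hnet : n = t * e := by omega
  have hmult : ∀ r < e, (Finset.univ.filter fun i => ex i = r).card = t := by
    intro r hr
    have h1 : ∀ i, ∑ l ∈ Finset.range e, ((ζ ^ r)⁻¹ * ν i) ^ l =
        if ex i = r then (e : ℂ) else 0 := by
      intro i
      have hz : ζ ^ r ≠ 0 := pow_ne_zero r (hζ.ne_zero he0.ne')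
      split_ifs with hir
      · rw [← hex2, hir, inv_mul_cancel₀ hz]; simp
      · have hne : (ζ ^ r)⁻¹ * ν i ≠ 1 := fun h => hir (by
          rw [inv_mul_eq_one₀ hz, ← hex2] at h
          exact (hζ.pow_inj (hex1 i) hr h.symm))
        rw [geom_sum_eq hne, mul_pow, inv_pow, ← pow_mul, mul_comm r, pow_mul, hζ.pow_eq_one,
          one_pow, inv_one, one_mul, hν, sub_self, zero_div]
    have h2 : ∑ i, ∑ l ∈ Finset.range e, ((ζ ^ r)⁻¹ * ν i) ^ l =
        ((Finset.univ.filter fun i => ex i = r).card : ℂ) * e := by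
      simp [h1, Finset.sum_ite]
    rw [Finset.sum_comm, Finset.sum_eq_single 0] at h2
    · have h3 : (n : ℂ) = ((Finset.univ.filter fun i => ex i = r).card : ℂ) * e := by
        simpa using h2
      norm_cast at h3
      exact Nat.eq_of_mul_eq_mul_right he0 (h3.symm.trans hnet)
    · intro l hl hl0
      have h3 : ρ.character (y ^ l) = ∑ i, ν i ^ l := by
        refine trace_eq_sum_of_eigenbasis w _ _ fun i => ?_
        clear hl0 hl
        induction l with
        | zero => simp
        | succ l ih =>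
          rw [pow_succ', map_mul, Module.End.mul_apply, ih, map_smul, hw, smul_smul, pow_succ]
      simp only [mul_pow]
      rw [← Finset.mul_sum, ← h3, hyzero l (Finset.mem_range.1 hl) hl0, mul_zero]
    · simp [he0.ne']
  have hdet : LinearMap.det (ρ y) = ∏ i, ν i := by
    rw [← LinearMap.det_toMatrix w, show LinearMap.toMatrix w w (ρ y) = Matrix.diagonal ν from ?_,
      Matrix.det_diagonal]
    ext a b
    rw [LinearMap.toMatrix_apply, hw, map_smul, Finsupp.smul_apply, Basis.repr_self,
      Finsupp.single_apply, Matrix.diagonal_apply]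
    split_ifs with h1 h2 h2
    · subst h1; simp
    · exact absurd h1.symm h2
    · exact absurd h2.symm h1
    · simp
  have hprod : ∏ i, ν i = -1 := by
    rw [← Finset.prod_fiberwise_of_maps_to (t := Finset.range e) (g := ex)
      fun i _ => Finset.mem_range.2 (hex1 i)]
    rw [Finset.prod_congr rfl (g := fun r => (ζ ^ r) ^ t) fun r hr => by
      rw [Finset.prod_congr rfl (g := fun _ => ζ ^ r) fun i hi => by
        rw [← hex2 i, (Finset.mem_filter.1 hi).2], Finset.prod_const,
        hmult r (Finset.mem_range.1 hr)]]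
    rw [Finset.prod_pow, Finset.prod_pow_eq_pow_sum, Finset.sum_range_id]
    obtain ⟨f, hf⟩ : Even e := by
      by_contra hodd
      rw [Nat.not_even_iff_odd] at hodd
      have hpo : Odd p := by
        rcases hp.eq_two_or_odd' with rfl | h
        · exfalso
          have := Nat.le_of_dvd one_pos hedvd
          omega
        · exact h
      have : Even (t * e) := by
        obtain ⟨a, ha⟩ := hpo
        exact ⟨a, by omega⟩
      rcases Nat.even_mul.1 this with h | h
      · exact hteven h
      · exact (Nat.not_even_iff_odd.2 hodd) h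
    have hhalf : ζ ^ f = -1 := by
      have h1 : IsPrimitiveRoot (ζ ^ f) 2 := hζ.pow he0 (by omega)
      exact h1.eq_neg_one_of_two_right
    have hdiv : e * (e - 1) / 2 = f * (e - 1) := by
      rw [hf, ← two_mul, mul_assoc, Nat.mul_div_cancel_left _ two_pos]
    rw [hdiv, pow_mul, hhalf]
    have hodd1 : Odd (e - 1) := ⟨f - 1, by omega⟩
    rw [hodd1.neg_one_pow, (Nat.not_even_iff_odd.1 hteven).neg_one_pow]
  let δ : G →* ℂˣ := ((LinearMap.det : Module.End ℂ (Fin n → ℂ) →* ℂ).comp ρ).toHomUnits
  exact even_index δ y (Units.ext (hdet.trans hprod))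

end Cfsg.Agent.S4508
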