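import Cfsg.Statements.S4509
import Cfsg.Agent.Fusion.PComplement
import Mathlib.GroupTheory.Solvable
import Mathlib.Tactic.Group

set_option autoImplicit false
open Cfsg
open scoped commutatorElement Pointwise

namespace Cfsg.Agent.S4509

section

variable {G : Type*} [Group G] [Finite G] {p : ℕ} {x : G}

theorem zpowers_eq_of_mem [Fact p.Prime] (hx : orderOf x = p) {y : G}
    (hy : y ∈ Subgroup.zpowers x) (hy1 : y ≠ 1) : Subgroup.zpowers y = Subgroup.zpowers x := by
  have hle : Subgroup.zpowers y ≤ Subgroup.zpowers x := (Subgroup.zpowers_le).2 hy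
  refine Subgroup.eq_of_le_of_card_ge hle ?_
  rw [Nat.card_zpowers, Nat.card_zpowers, hx]
  have hd : orderOf y ∣ p := by
    rw [← hx, ← Nat.card_zpowers x]
    exact Subgroup.orderOf_dvd_natCard _ hy
  rcases ((Fact.out : p.Prime).eq_one_or_self_of_dvd _ hd) with h | h
  · exact absurd (orderOf_eq_one_iff.1 h) hy1
  · exact h.ge

theorem sylow_of_selfCentralizing [Fact p.Prime] (hx : orderOf x = p)
    (hC : Subgroup.centralizer ({x} : Set G) = Subgroup.zpowers x) :
    ∃ P : Sylow p G, (P : Subgroup G) = Subgroup.zpowers x := by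
  have hp : IsPGroup p (Subgroup.zpowers x) :=
    IsPGroup.of_card (n := 1) (by rw [Nat.card_zpowers, hx, pow_one])
  obtain ⟨P, hP⟩ := hp.exists_le_sylow
  refine ⟨P, le_antisymm ?_ hP⟩
  haveI : Nontrivial P := by
    rw [Subgroup.nontrivial_iff_ne_bot]
    intro h
    rw [h, le_bot_iff, Subgroup.zpowers_eq_bot] at hP
    rw [hP, orderOf_one] at hx
    exact (Fact.out : p.Prime).ne_one hx.symm
  haveI := IsPGroup.center_nontrivial P.2
  obtain ⟨⟨z, hz⟩, hz1⟩ := exists_ne (1 : Subgroup.center P)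
  have hz1' : (z : G) ≠ 1 := fun h => hz1 (Subtype.ext (Subtype.ext h))
  have hzx : (z : G) ∈ Subgroup.zpowers x := by
    rw [← hC, Subgroup.mem_centralizer_singleton_iff]
    exact (congrArg Subtype.val
      (Subgroup.mem_center_iff.1 hz ⟨x, hP (Subgroup.mem_zpowers x)⟩)).symm
  intro a ha
  rw [← hC, Subgroup.mem_centralizer_singleton_iff]
  have hx' : x ∈ Subgroup.zpowers (z : G) :=
    (zpowers_eq_of_mem hx hzx hz1') ▸ Subgroup.mem_zpowers x
  obtain ⟨k, hk⟩ := Subgroup.mem_zpowers_iff.1 hx'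
  rw [← hk]
  exact (Commute.zpow_right
    (show Commute a (z : G) from congrArg Subtype.val (Subgroup.mem_center_iff.1 hz ⟨a, ha⟩)) k)

theorem card_classes [Fact p.Prime] (P : Sylow p G) (hP : (P : Subgroup G) = Subgroup.zpowers x)
    (hx : orderOf x = p) (hC : Subgroup.centralizer ({x} : Set G) = Subgroup.zpowers x) :
    (Subgroup.normalizer ((P : Subgroup G) : Set G) = (P : Subgroup G) →
      Nat.card {C : ConjClasses G // ∃ g ∈ C.carrier, orderOf g = p} = p - 1) ∧
    (Subgroup.normalizer ((P : Subgroup G) : Set G) ≠ (P : Subgroup G) →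
      Nat.card {C : ConjClasses G // ∃ g ∈ C.carrier, orderOf g = p} < p - 1) := by
  classical
  have hord : ∀ y : {y : Subgroup.zpowers x // y ≠ 1}, orderOf ((y.1 : G)) = p := fun y => by
    rw [← Nat.card_zpowers, zpowers_eq_of_mem hx y.1.2 (fun h => y.2 (Subtype.ext h)),
      Nat.card_zpowers, hx]
  let f : {y : Subgroup.zpowers x // y ≠ 1} →
      {C : ConjClasses G // ∃ g ∈ C.carrier, orderOf g = p} :=
    fun y => ⟨ConjClasses.mk (y.1 : G), (y.1 : G), ConjClasses.mem_carrier_mk, hord y⟩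
  have hsurj : Function.Surjective f := by
    rintro ⟨C, g, hgC, hg⟩
    have hgp : IsPGroup p (Subgroup.zpowers g) :=
      IsPGroup.of_card (n := 1) (by rw [Nat.card_zpowers, hg, pow_one])
    obtain ⟨Q, hQ⟩ := hgp.exists_le_sylow
    obtain ⟨a, ha⟩ := MulAction.exists_smul_eq G Q P
    have hm : a * g * a⁻¹ ∈ Subgroup.zpowers x := by
      rw [← hP, ← ha]
      exact ⟨g, hQ (Subgroup.mem_zpowers g), rfl⟩
    refine ⟨⟨⟨_, hm⟩, fun h => ?_⟩, ?_⟩
    · have : g = 1 := by simpa using congrArg Subtype.val h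
      rw [this, orderOf_one] at hg
      exact (Fact.out : p.Prime).ne_one hg.symm
    · refine Subtype.ext ?_
      show ConjClasses.mk (a * g * a⁻¹) = C
      rw [ConjClasses.mem_carrier_iff_mk_eq] at hgC
      rw [← hgC]
      exact ConjClasses.mk_eq_mk_iff_isConj.2 (isConj_iff.2 ⟨a, rfl⟩).symm
  have hcard : Nat.card {y : Subgroup.zpowers x // y ≠ 1} = p - 1 := by
    haveI := Fintype.ofFinite (Subgroup.zpowers x)
    rw [Nat.card_eq_fintype_card, Fintype.card_subtype_compl, Fintype.card_subtype_eq,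
      ← Nat.card_eq_fintype_card, Nat.card_zpowers, hx]
  have hnorm : ∀ (a : G) (y : {y : Subgroup.zpowers x // y ≠ 1}),
      a * (y.1 : G) * a⁻¹ ∈ Subgroup.zpowers x →
      a ∈ Subgroup.normalizer ((P : Subgroup G) : Set G) := by
    intro a y hy
    have hy1 : (y.1 : G) ≠ 1 := fun h => y.2 (Subtype.ext h)
    rw [hP, Subgroup.mem_normalizer_iff_map_conj_eq]
    conv_lhs => rw [← zpowers_eq_of_mem hx y.1.2 hy1]
    rw [MonoidHom.map_zpowers]
    exact zpowers_eq_of_mem hx hy (by simpa using hy1)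
  constructor
  · intro hN
    rw [← hcard]
    refine (Nat.card_eq_of_bijective f ⟨fun y y' h => ?_, hsurj⟩).symm
    obtain ⟨a, ha⟩ := isConj_iff.1 (ConjClasses.mk_eq_mk_iff_isConj.1 (congrArg Subtype.val h))
    have haN := hnorm a y (ha ▸ y'.1.2)
    rw [hN, hP] at haN
    obtain ⟨i, rfl⟩ := Subgroup.mem_zpowers_iff.1 haN
    obtain ⟨j, hj⟩ := Subgroup.mem_zpowers_iff.1 y.1.2
    refine Subtype.ext (Subtype.ext ?_)
    rw [← ha, ← hj]
    group
  · intro hN
    rw [← hcard]
    refine lt_of_le_of_ne (Nat.card_le_card_of_surjective f hsurj) fun heq => ?_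
    have hbij := (Nat.bijective_iff_surjective_and_card f).2 ⟨hsurj, heq.symm⟩
    obtain ⟨a, haN, haP⟩ := SetLike.exists_of_lt
      (lt_of_le_of_ne Subgroup.le_normalizer (Ne.symm hN))
    have hax : a * x * a⁻¹ ∈ Subgroup.zpowers x := by
      rw [← hP]
      exact (Subgroup.mem_normalizer_iff.1 haN x).1 (hP ▸ Subgroup.mem_zpowers x)
    have hx1 : x ≠ 1 := fun h => (Fact.out : p.Prime).ne_one (by rw [← hx, h, orderOf_one])
    have := hbij.1 (a₁ := ⟨⟨_, hax⟩, fun h => hx1 (by simpa using congrArg Subtype.val h)⟩)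
      (a₂ := ⟨⟨x, Subgroup.mem_zpowers x⟩, fun h => hx1 (congrArg Subtype.val h)⟩)
      (Subtype.ext (ConjClasses.mk_eq_mk_iff_isConj.2 (isConj_iff.2 ⟨a, rfl⟩).symm))
    apply haP
    rw [hP, ← hC, Subgroup.mem_centralizer_singleton_iff]
    exact mul_inv_eq_iff_eq_mul.1 (congrArg (fun y => ((y.1 : G))) this)

theorem inf_normalizer_eq_bot [Fact p.Prime] (P : Sylow p G)
    (hP : (P : Subgroup G) = Subgroup.zpowers x)
    (hC : Subgroup.centralizer ({x} : Set G) = Subgroup.zpowers x)
    (S : Subgroup G) [hS : S.Normal] (hSP : S ⊓ (P : Subgroup G) = ⊥) :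
    S ⊓ Subgroup.normalizer ((P : Subgroup G) : Set G) = ⊥ := by
  rw [eq_bot_iff]
  rintro a ⟨haS, haN⟩
  have hxP : x ∈ (P : Subgroup G) := hP ▸ Subgroup.mem_zpowers x
  have h1 : a * x * a⁻¹ * x⁻¹ ∈ S ⊓ (P : Subgroup G) := ⟨by
    rw [mul_assoc (a * x), mul_assoc a, ← mul_assoc x]
    exact S.mul_mem haS (hS.conj_mem _ (S.inv_mem haS) x),
    Subgroup.mul_mem _ ((Subgroup.mem_normalizer_iff.1 haN x).1 hxP) (Subgroup.inv_mem _ hxP)⟩
  rw [hSP, Subgroup.mem_bot, mul_inv_eq_one, mul_inv_eq_iff_eq_mul] at h1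
  have h2 : a ∈ Subgroup.centralizer ({x} : Set G) :=
    Subgroup.mem_centralizer_singleton_iff.2 h1
  rw [hC, ← hP] at h2
  exact hSP ▸ (⟨haS, h2⟩ : a ∈ S ⊓ (P : Subgroup G))

/-- `x` acts without fixed points, so `S` consists of commutators. -/
theorem le_commutator [Fact p.Prime] (P : Sylow p G)
    (hP : (P : Subgroup G) = Subgroup.zpowers x)
    (hC : Subgroup.centralizer ({x} : Set G) = Subgroup.zpowers x)
    (S : Subgroup G) [hS : S.Normal] (hSP : S ⊓ (P : Subgroup G) = ⊥) :
    S ≤ ⁅S, (P : Subgroup G)⁆ := by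
  let f : S → S := fun k => ⟨k * x * (k : G)⁻¹ * x⁻¹, by
    rw [mul_assoc ((k : G) * x), mul_assoc (k : G), ← mul_assoc x]
    exact S.mul_mem k.2 (hS.conj_mem _ (S.inv_mem k.2) x)⟩
  have hinj : Function.Injective f := by
    intro a b h
    have h' := congrArg Subtype.val h
    simp only [f] at h'
    rw [mul_left_inj, mul_inv_eq_iff_eq_mul] at h'
    have h2 : (b : G)⁻¹ * a ∈ Subgroup.centralizer ({x} : Set G) := by
      rw [Subgroup.mem_centralizer_singleton_iff, mul_assoc, h']
      group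
    rw [hC, ← hP] at h2
    have h3 : (b : G)⁻¹ * a ∈ S ⊓ (P : Subgroup G) := ⟨S.mul_mem (S.inv_mem b.2) a.2, h2⟩
    rw [hSP, Subgroup.mem_bot, inv_mul_eq_one] at h3
    exact Subtype.ext h3.symm
  intro s hs
  obtain ⟨k, hk⟩ := (Finite.injective_iff_surjective.1 hinj) ⟨s, hs⟩
  rw [show s = k * x * (k : G)⁻¹ * x⁻¹ from (congrArg Subtype.val hk).symm]
  exact Subgroup.commutator_mem_commutator k.2 (hP ▸ Subgroup.mem_zpowers x)

end

/-- Let the finite group G contain an element x of prime order p with C_G(x) = ⟨x⟩; let t be the number of conjugacy classes of elements of order p and 1 + n·p the number of subgroups of order p. Then G has a normal subgroup of order 1 + n·p if and only if either t = p − 1, or t < p − 1 and G″ ≠ G′. Moreover, if t = p − 1 then G′ has order 1 + n·p and G/G′ is cyclic of order p; and if t < p − 1 and G″ ≠ G′ then G″ has order 1 + n·p and G′ has order p·(1 + n·p). -/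
theorem result {G : Type*} [Group G] [Finite G] (p : ℕ) (hp : p.Prime) (x : G) (hx : orderOf x = p) (hC : Subgroup.centralizer ({x} : Set G) = Subgroup.zpowers x) (t : ℕ) (ht : Nat.card {C : ConjClasses G // ∃ g ∈ C.carrier, orderOf g = p} = t) (n : ℕ) (hn : Nat.card {H : Subgroup G // Nat.card H = p} = 1 + n * p) : ((∃ S : Subgroup G, S.Normal ∧ Nat.card S = 1 + n * p) ↔ (t = p - 1 ∨ (t < p - 1 ∧ derivedSeries G 2 ≠ derivedSeries G 1))) ∧ (t = p - 1 → Nat.card (commutator G) = 1 + n * p ∧ IsCyclic (G ⧸ commutator G) ∧ (commutator G).index = p) ∧ (t < p - 1 → derivedSeries G 2 ≠ derivedSeries G 1 → Nat.card (derivedSeries G 2) = 1 + n * p ∧ Nat.card (commutator G) = p * (1 + n * p)) := by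
  haveI : Fact p.Prime := ⟨hp⟩
  obtain ⟨P, hP⟩ := sylow_of_selfCentralizing hx hC
  set N := Subgroup.normalizer ((P : Subgroup G) : Set G) with hN
  have hPc : Nat.card P = p := by rw [hP, Nat.card_zpowers, hx]
  have hPN : (P : Subgroup G) ≤ N := Subgroup.le_normalizer
  have hxP : x ∈ (P : Subgroup G) := hP ▸ Subgroup.mem_zpowers x
  have hx1 : x ≠ 1 := fun h => hp.ne_one (by rw [← hx, h, orderOf_one])
  have hsyl : ∀ H : Subgroup G, Nat.card H = p → ∃ Q : Sylow p G, (Q : Subgroup G) = H := by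
    intro H hH
    obtain ⟨Q, hQ⟩ := (IsPGroup.of_card (n := 1) (by rw [hH, pow_one]) :
      IsPGroup p H).exists_le_sylow
    refine ⟨Q, (Subgroup.eq_of_le_of_card_ge hQ ?_).symm⟩
    rw [hH, Q.card_eq_multiplicity, ← P.card_eq_multiplicity, hPc]
  have hcount : N.index = 1 + n * p := by
    rw [← hn, hN]
    refine P.card_eq_index_normalizer.symm.trans ?_
    refine Nat.card_eq_of_bijective (fun Q => ⟨(Q : Subgroup G), by
      rw [Q.card_eq_multiplicity, ← P.card_eq_multiplicity, hPc]⟩) ⟨fun Q Q' h => ?_, ?_⟩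
    · exact Sylow.ext (congrArg Subtype.val h)
    · rintro ⟨H, hH⟩
      obtain ⟨Q, rfl⟩ := hsyl H hH
      exact ⟨Q, rfl⟩
  have hnp : ¬ p ∣ 1 + n * p := fun h => hp.ne_one
    (Nat.dvd_one.1 ((Nat.dvd_add_left (dvd_mul_left p n)).1 h))
  have hcardG : (1 + n * p) * Nat.card N = Nat.card G := hcount ▸ N.index_mul_card
  have hdisj : ∀ S : Subgroup G, ¬ p ∣ Nat.card S → S ⊓ (P : Subgroup G) = ⊥ := fun S h =>
    Subgroup.inf_eq_bot_of_coprime ((hPc.symm ▸ hp.coprime_iff_not_dvd.2 h : Nat.Coprime (Nat.card P) _).symm)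
  -- the order of a normal p'-subgroup supplementing N
  have hnorS : ∀ S : Subgroup G, S.Normal → ¬ p ∣ Nat.card S → S ⊔ N = ⊤ →
      Nat.card S = 1 + n * p := by
    intro S hS hpS htop
    have hcomp : S.IsComplement' N := by
      refine Subgroup.isComplement'_of_disjoint_and_mul_eq_univ
        (disjoint_iff.2 (inf_normalizer_eq_bot P hP hC S (hdisj S hpS))) ?_
      rw [← Subgroup.normal_mul, htop]
      rfl
    exact Nat.eq_of_mul_eq_mul_right Nat.card_pos (hcomp.card_mul_card.trans hcardG.symm)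
  have hN' : derivedSeries N 1 ≤ (P : Subgroup G).subgroupOf N := by
    rw [derivedSeries_one]
    rw [commutator_def, Subgroup.commutator_le]
    intro a _ b _
    rw [← inv_inv a, ← inv_inv b]
    generalize a⁻¹ = a, b⁻¹ = b
    have haut : ∀ c : N, ∃ i : ℤ, (c : G) * x * (c : G)⁻¹ = x ^ i := fun c => by
      have h := (Subgroup.mem_normalizer_iff.1 c.2 x).1 hxP
      rw [hP, Subgroup.mem_zpowers_iff] at h
      exact ⟨h.choose, h.choose_spec.symm⟩
    obtain ⟨i, hi⟩ := haut a
    obtain ⟨j, hj⟩ := haut b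
    have key : ∀ (c : G) (k : ℤ), c * x * c⁻¹ = x ^ k → ∀ l : ℤ, c * x ^ l * c⁻¹ = x ^ (k * l) :=
      fun c k h l => by rw [← conj_zpow, h, zpow_mul]
    have hcomm : ((a : G) * b) * x * ((a : G) * b)⁻¹ = ((b : G) * a) * x * ((b : G) * a)⁻¹ := by
      rw [show ((a : G) * b) * x * ((a : G) * b)⁻¹ = a * (b * x * (b : G)⁻¹) * (a : G)⁻¹ by group,
        show ((b : G) * a) * x * ((b : G) * a)⁻¹ = b * (a * x * (a : G)⁻¹) * (b : G)⁻¹ by group,
        hi, hj, key _ i hi, key _ j hj, mul_comm i j]
    show ((⁅a⁻¹, b⁻¹⁆ : N) : G) ∈ (P : Subgroup G)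
    rw [hP, ← hC, Subgroup.mem_centralizer_singleton_iff]
    simp only [commutatorElement_def, Subgroup.coe_mul, InvMemClass.coe_inv, inv_inv]
    generalize (a : G) = u, (b : G) = v at hcomm
    calc u⁻¹ * v⁻¹ * u * v * x = (v * u)⁻¹ * ((u * v) * x * (u * v)⁻¹) * (u * v) := by group
      _ = x * (u⁻¹ * v⁻¹ * u * v) := by rw [hcomm]; group
  haveI hd2 : (derivedSeries G 2).Normal := derivedSeries_normal G 2
  have hNN : derivedSeries N 2 = ⊥ := by
    rw [show (2 : ℕ) = 1 + 1 from rfl, derivedSeries_succ, eq_bot_iff]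
    refine (Subgroup.commutator_mono hN' hN').trans (Subgroup.commutator_le.2 ?_)
    rintro a ha b hb
    rw [Subgroup.mem_subgroupOf, hP, Subgroup.mem_zpowers_iff] at ha hb
    obtain ⟨i, hi⟩ := ha
    obtain ⟨j, hj⟩ := hb
    rw [Subgroup.mem_bot, commutatorElement_eq_one_iff_mul_comm]
    exact Subtype.ext (by simp only [Subgroup.coe_mul, ← hi, ← hj]; exact zpow_mul_comm x i j)
  have hPd1 : Nat.card N ≠ p → (P : Subgroup G) ≤ commutator G := by
    intro hne
    have hlt : (P : Subgroup G) < N := lt_of_le_of_ne hPN fun h => hne (by rw [← h]; exact hPc)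
    obtain ⟨a, haN, haP⟩ := SetLike.exists_of_lt hlt
    have hy : ⁅a, x⁆ ∈ (P : Subgroup G) := Subgroup.mul_mem _
      ((Subgroup.mem_normalizer_iff.1 haN x).1 hxP) (Subgroup.inv_mem _ hxP)
    have hy1 : ⁅a, x⁆ ≠ 1 := by
      intro h
      apply haP
      rw [hP, ← hC, Subgroup.mem_centralizer_singleton_iff]
      exact commutatorElement_eq_one_iff_mul_comm.1 h
    rw [hP] at hy ⊢
    rw [← zpowers_eq_of_mem hx hy hy1, Subgroup.zpowers_le, commutator_def]
    exact Subgroup.commutator_mem_commutator (Subgroup.mem_top a) (Subgroup.mem_top x)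
  have hPd : Nat.card N = p → N = (P : Subgroup G) := fun h =>
    (Subgroup.eq_of_le_of_card_ge hPN (by rw [h]; exact hPc.ge)).symm
  obtain ⟨hteq, htlt⟩ := card_classes P hP hx hC
  rw [ht] at hteq htlt
  have htop : t = p - 1 → N = (P : Subgroup G) := fun h => by
    by_contra hne
    exact absurd h (htlt hne).ne
  -- the case `t = p - 1`
  have key1 : t = p - 1 → Nat.card (commutator G) = 1 + n * p ∧ IsCyclic (G ⧸ commutator G) ∧
      (commutator G).index = p := by
    intro h
    have hNP := htop h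
    have hcompl := Cfsg.Agent.Fusion.hasNormalPComplement_of_normalizer_le_centralizer P (by
      rw [← hN, hNP, hP, Subgroup.le_centralizer_iff_isMulCommutative]
      infer_instance)
    set K := Cfsg.pResidual p G
    have hK := Cfsg.Agent.Fusion.isComplement'_pResidual hcompl P
    have hKp : ¬ p ∣ Nat.card K := Cfsg.Agent.Fusion.not_dvd_card_of_isComplement' P hK
    haveI hKn : K.Normal := inferInstance
    have hK1 : K ≤ commutator G :=
      (le_commutator P hP hC K (hdisj K hKp)).trans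
        (Subgroup.commutator_mono le_top le_top)
    have hKi : K.index = p := by rw [hK.symm.index_eq_card, hPc]
    have hcyc : IsCyclic (G ⧸ K) := isCyclic_of_prime_card (p := p)
      (by rw [← Subgroup.index_eq_card, hKi])
    have hK2 : commutator G ≤ K := by
      letI := hcyc.commGroup
      rw [← QuotientGroup.ker_mk' K]
      exact Abelianization.commutator_subset_ker (QuotientGroup.mk' K)
    have hKeq : commutator G = K := le_antisymm hK2 hK1
    have hidx : (commutator G).index = p := by rw [hKeq, hKi]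
    refine ⟨?_, isCyclic_of_prime_card (p := p) (by rw [← Subgroup.index_eq_card, hidx]), hidx⟩
    rw [hKeq]
    have h1 := K.card_mul_index
    rw [hKi, ← hcardG, hNP, hPc] at h1
    exact Nat.eq_of_mul_eq_mul_right hp.pos h1
  have key2 : t < p - 1 → derivedSeries G 2 ≠ derivedSeries G 1 →
      Nat.card (derivedSeries G 2) = 1 + n * p ∧ Nat.card (commutator G) = p * (1 + n * p) := by
    intro hlt hne
    set S := derivedSeries G 2 with hS
    haveI : S.Normal := hd2
    have hNne : Nat.card N ≠ p := fun h => absurd (hteq (hPd h)) hlt.ne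
    have hPG1 : (P : Subgroup G) ≤ commutator G := hPd1 hNne
    have hS1 : S ≤ commutator G := by
      rw [← derivedSeries_one, hS]
      exact derivedSeries_antitone G (by norm_num)
    -- anything supplemented by N is sandwiched
    have hsand : ∀ L : Subgroup G, L.Normal → L ⊔ N = ⊤ → commutator G ≤ L ⊔ (P : Subgroup G) := by
      intro L hL hLN
      haveI := hL
      have hsurj : Function.Surjective ((QuotientGroup.mk' L).comp N.subtype) := by
        intro q
        obtain ⟨g, rfl⟩ := QuotientGroup.mk'_surjective L q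
        have hg : g ∈ (↑(L ⊔ N) : Set G) := by rw [hLN]; trivial
        rw [Subgroup.normal_mul] at hg
        obtain ⟨l, hl, m, hm, rfl⟩ := hg
        refine ⟨⟨m, hm⟩, ?_⟩
        show QuotientGroup.mk' L m = QuotientGroup.mk' L (l * m)
        rw [map_mul, show QuotientGroup.mk' L l = 1 from (QuotientGroup.eq_one_iff l).2 hl, one_mul]
      intro g hg
      have : QuotientGroup.mk' L g ∈ (derivedSeries N 1).map ((QuotientGroup.mk' L).comp N.subtype) := by
        rw [map_derivedSeries_eq hsurj,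
          ← map_derivedSeries_eq (QuotientGroup.mk'_surjective L), derivedSeries_one]
        exact Subgroup.mem_map_of_mem _ hg
      obtain ⟨m, hm, hmg⟩ := this
      have h1 : (m : G)⁻¹ * g ∈ L := QuotientGroup.eq.1 hmg
      have h2 := Subgroup.mul_mem_sup h1 (hN' hm : (m : G) ∈ (P : Subgroup G))
      rw [show g = ((m : G)) * ((m : G)⁻¹ * g) by group]
      exact (L ⊔ (P : Subgroup G)).mul_mem (Subgroup.mem_sup_right (hN' hm))
        (Subgroup.mem_sup_left h1)
    have hpS : ¬ p ∣ Nat.card S := by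
      intro hdvd
      obtain ⟨y, hy⟩ := exists_prime_orderOf_dvd_card' p hdvd
      have hyG : orderOf (y : G) = p := (Subgroup.orderOf_coe y).trans hy
      obtain ⟨Q, hQ⟩ := hsyl (Subgroup.zpowers (y : G)) (by rw [Nat.card_zpowers, hyG])
      obtain ⟨a, ha⟩ := MulAction.exists_smul_eq G Q P
      have hPS : (P : Subgroup G) ≤ S := by
        rw [← ha]
        rintro _ ⟨z, hz, rfl⟩
        refine hd2.conj_mem z ?_ a
        have hz' : z ∈ Subgroup.zpowers (y : G) := hQ ▸ hz
        exact (Subgroup.zpowers_le.2 y.2) hz'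
      refine hne (le_antisymm (derivedSeries_antitone G (by norm_num)) ?_)
      rw [derivedSeries_one]
      refine (hsand S hd2 ?_).trans (sup_le le_rfl hPS)
      rw [sup_comm]
      exact P.normalizer_sup_eq_top' hPS
    -- `P S` is normal
    have hSN : S ⊔ N = ⊤ := by
      let q := QuotientGroup.mk' S
      let A := (commutator G).map q
      haveI hAn : A.Normal := Subgroup.Normal.map inferInstance q (QuotientGroup.mk'_surjective S)
      have hab : ∀ a ∈ A, ∀ b ∈ A, a * b = b * a := by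
        rintro _ ⟨a, ha, rfl⟩ _ ⟨b, hb, rfl⟩
        rw [← commutatorElement_eq_one_iff_mul_comm, ← map_commutatorElement]
        refine (QuotientGroup.eq_one_iff _).2 ?_
        rw [hS, show (2 : ℕ) = 1 + 1 from rfl, derivedSeries_succ, derivedSeries_one]
        exact Subgroup.commutator_mem_commutator ha hb
      have hPSn : ((P : Subgroup G) ⊔ S).Normal := by
        have hPq : ((P : Subgroup G).map q).Normal := by
          constructor
          rintro _ ⟨y, hy, rfl⟩ g
          obtain ⟨g, rfl⟩ := QuotientGroup.mk'_surjective S g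
          let PQ := P.mapSurjective (QuotientGroup.mk'_surjective S)
          have hPA : (PQ : Subgroup (G ⧸ S)) ≤ A := by
            rw [Sylow.coe_mapSurjective]; exact Subgroup.map_mono hPG1
          haveI : IsMulCommutative A := ⟨⟨fun a b => Subtype.ext (hab _ a.2 _ b.2)⟩⟩
          haveI hnA : ((PQ.subtype hPA : Sylow p A) : Subgroup A).Normal := inferInstance
          haveI := Sylow.characteristic_of_normal (PQ.subtype hPA) hnA
          have := ConjAct.normal_of_characteristic_of_normal (H := A)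
            (K := ((PQ.subtype hPA : Sylow p A) : Subgroup A))
          rw [Sylow.coe_subtype, Subgroup.map_subgroupOf_eq_of_le hPA,
            Sylow.coe_mapSurjective] at this
          exact this.conj_mem _ (Subgroup.mem_map_of_mem _ hy) _
        rw [← QuotientGroup.ker_mk' S, ← Subgroup.comap_map_eq]
        exact hPq.comap _
      rw [eq_top_iff, ← P.normalizer_sup_eq_top' (le_sup_left : (P : Subgroup G) ≤ _ ⊔ S)]
      exact sup_le le_sup_right (sup_le (hPN.trans le_sup_right) le_sup_left)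
    have hScard := hnorS S hd2 hpS hSN
    refine ⟨hScard, ?_⟩
    have heq : commutator G = S ⊔ (P : Subgroup G) :=
      le_antisymm (hsand S hd2 hSN) (sup_le hS1 hPG1)
    rw [heq]
    have h1 : Nat.card ↥(S ⊔ (P : Subgroup G)) = Nat.card S * Nat.card P := by
      have hb : Function.Bijective (fun sp : S × (P : Subgroup G) =>
          (⟨sp.1 * sp.2, Subgroup.mul_mem_sup sp.1.2 sp.2.2⟩ : ↥(S ⊔ (P : Subgroup G)))) := by
        refine ⟨fun a b h => ?_, fun g => ?_⟩
        · refine Subgroup.mul_injective_of_disjoint (disjoint_iff.2 (hdisj S hpS)) ?_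
          exact congrArg Subtype.val h
        · obtain ⟨s, hs, u, hu, hg⟩ :=
            (by rw [← Subgroup.normal_mul]; exact g.2 : (g : G) ∈ (S : Set G) * ((P : Subgroup G) : Set G))
          exact ⟨(⟨s, hs⟩, ⟨u, hu⟩), Subtype.ext hg⟩
      rw [← Nat.card_eq_of_bijective _ hb, Nat.card_prod]
    rw [h1, hScard, hPc, mul_comm]
  refine ⟨⟨?_, ?_⟩, key1, key2⟩
  · rintro ⟨S, hSn, hSc⟩
    haveI := hSn
    by_cases hNP : N = (P : Subgroup G)
    · exact Or.inl (hteq hNP)
    have hlt := htlt hNP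
    refine Or.inr ⟨hlt, fun heq => ?_⟩
    have hNne : Nat.card N ≠ p := fun h => hNP (hPd h)
    have hpS : ¬ p ∣ Nat.card S := hSc ▸ hnp
    have hdj := inf_normalizer_eq_bot P hP hC S (hdisj S hpS)
    have hcomp : S.IsComplement' N := by
      refine Subgroup.isComplement'_of_card_mul_and_disjoint ?_ (disjoint_iff.2 hdj)
      rw [hSc, hcardG]
    have hsurj : Function.Surjective ((QuotientGroup.mk' S).comp N.subtype) := by
      intro q
      obtain ⟨g, rfl⟩ := QuotientGroup.mk'_surjective S q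
      obtain ⟨⟨s, m⟩, hg⟩ := hcomp.2 g
      refine ⟨m, ?_⟩
      show QuotientGroup.mk' S (m : G) = QuotientGroup.mk' S g
      rw [← hg, map_mul, show QuotientGroup.mk' S (s : G) = 1 from
        (QuotientGroup.eq_one_iff _).2 s.2, one_mul]
    have hle : derivedSeries G 2 ≤ S := by
      rw [← QuotientGroup.ker_mk' S, ← Subgroup.map_eq_bot_iff,
        map_derivedSeries_eq (QuotientGroup.mk'_surjective S), ← map_derivedSeries_eq hsurj,
        hNN, Subgroup.map_bot]
    rw [heq, derivedSeries_one] at hle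
    have := hle (hPd1 hNne hxP)
    have h0 : x ∈ S ⊓ (P : Subgroup G) := ⟨this, hxP⟩
    rw [hdisj S hpS] at h0
    exact hx1 h0
  · rintro (h | ⟨hlt, hne⟩)
    · exact ⟨commutator G, inferInstance, (key1 h).1⟩
    · exact ⟨derivedSeries G 2, hd2, (key2 hlt hne).1⟩

end Cfsg.Agent.S4509
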