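import Cfsg.Statements.S4512
import Cfsg.Agent.S0948
import Cfsg.Agent.Cores.ThirdMain
import Mathlib.LinearAlgebra.Dimension.Constructions

set_option autoImplicit false
open Cfsg

namespace Cfsg.Agent.S4512

/-- If G is a finite group with a Sylow 2-subgroup that is a Klein four-group and a single conjugacy class of involutions, then its principal 2-block (relative to a maximal ideal M of the algebraic integers containing 2) has 2-regular rank 3: the restrictions of its irreducible characters to the elements of odd order span a space of dimension 3 (it has three irreducible Brauer characters). -/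
theorem result {G : Type*} [Group G] [Finite G] (M : Ideal Cfsg.AlgInt) (hM : Cfsg.IsPModular 2 M) (P : Sylow 2 G)
    (hP : Nat.card P = 4) (hexp : ∀ x : P, x * x = 1)
    (hone : ∀ s t : G, orderOf s = 2 → orderOf t = 2 → IsConj s t) :
    Cfsg.blockRank 2 (Cfsg.principalBlock M G) = 3 := by
  classical
  have : Fact (Nat.Prime 2) := ⟨Nat.prime_two⟩
  cases nonempty_fintype G
  have hK : IsKleinFour (P : Subgroup G) := by
    haveI : Nontrivial (P : Subgroup G) :=
      (Finite.one_lt_card_iff_nontrivial).1 (by rw [hP]; norm_num)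
    exact ⟨hP, (Monoid.exponent_eq_prime_iff Nat.prime_two).2 fun x hx =>
      orderOf_eq_prime (by rw [sq]; exact hexp x) hx⟩
  obtain ⟨ζ₂, ζ₃, ζ₄, ε, hε, h21, h31, h23, h24, h34, hB, hz, -, -, -, hrel⟩ :=
    Cfsg.Agent.S0948.result M hM P hK hone
  set T : Cfsg.IrrCharacter G := BlockBasic.trivialIrr with hT
  have hTB : T ∈ Cfsg.principalBlock M G := BlockBasic.sameBlock_refl hM _
  -- singular elements
  have hval : ∀ χ ∈ Cfsg.principalBlock M G, ∀ g : G, 2 ∣ orderOf g →
      ∃ t : G, orderOf t = 2 ∧ (χ : G → ℂ) g = (χ : G → ℂ) t := by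
    intro χ hχ g hg
    obtain ⟨k, hk⟩ := BlockBasic.exists_orderOf_pPart (p := 2) g
    have ht4 : (BlockBasic.pPart (p := 2) g) ^ 2 = 1 := by
      have hQ : IsPGroup 2 (Subgroup.zpowers (BlockBasic.pPart (p := 2) g)) :=
        IsPGroup.of_card (n := k) (by rw [Nat.card_zpowers, hk])
      obtain ⟨S, hS⟩ := hQ.exists_le_sylow
      obtain ⟨c, rfl⟩ := MulAction.exists_smul_eq G P S
      obtain ⟨q, hq, hqe⟩ := hS (Subgroup.mem_zpowers _)
      have hqe' : c * q * c⁻¹ = BlockBasic.pPart (p := 2) g := hqe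
      rw [← hqe', conj_pow, conj_eq_one_iff, sq]
      exact congrArg Subtype.val (hexp ⟨q, hq⟩)
    set t := BlockBasic.pPart (p := 2) g with ht
    have ht2 : orderOf t = 2 := orderOf_eq_prime ht4 fun e =>
      (BlockBasic.pPart_eq_one_iff g).1 e hg
    refine ⟨t, ht2, ?_⟩
    have hQ : IsPGroup 2 (Subgroup.zpowers t) :=
      IsPGroup.of_card (n := 1) (by rw [Nat.card_zpowers, ht2]; rfl)
    obtain ⟨S, hS⟩ := hQ.exists_le_sylow
    obtain ⟨c, rfl⟩ := MulAction.exists_smul_eq G P S
    obtain ⟨q, hq, hqe⟩ := hS (Subgroup.mem_zpowers _)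
    have hqe' : c * q * c⁻¹ = t := hqe
    have hq2 : orderOf q = 2 := by
      rw [← ht2, ← hqe', ← MulAut.conj_apply, MulEquiv.orderOf_eq]
    have hC := Cores.hasNormalPComplement_centralizer_involution P hK hq2 hq
    obtain ⟨S'⟩ : Nonempty (Sylow 2 (Subgroup.centralizer ({q} : Set G))) := inferInstance
    have hc := Cores.exists_normal_isComplement'_sylow hC S'
    set g' := c⁻¹ * g * c with hg'
    have hpq : BlockBasic.pPart (p := 2) g' = q := by
      have := BlockBasic.pPart_conj (p := 2) g c⁻¹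
      rw [inv_inv, ← ht, ← hqe'] at this
      rw [hg', this]; group
    have hmem : BlockBasic.pReg (p := 2) g' ∈ Subgroup.centralizer ({q} : Set G) := by
      refine Subgroup.mem_centralizer_singleton_iff.mpr ?_
      have := BlockBasic.commute_pPart_pReg (p := 2) g'
      rw [hpq] at this
      exact this.eq.symm
    have hreg : (⟨_, hmem⟩ : Subgroup.centralizer ({q} : Set G)) ∈
        Cfsg.pPrimeCore 2 (Subgroup.centralizer ({q} : Set G)) := by
      refine BlockBasic.mem_of_regular ⟨_, by rw [hc.symm.index_eq_card]; exact S'.card_eq_multiplicity⟩ ?_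
      rw [Subgroup.orderOf_mk]
      exact BlockBasic.not_dvd_orderOf_pReg g'
    have h1 := Cores.principalBlock_apply_mul hM (e := 1) (by rw [hq2]; rfl) hχ _
      Cores.not_dvd_card_pPrimeCore hreg
    simp only at h1
    rw [← hqe', CharBasic.IsIrr.isClassFunction χ.2 q c,
      show g = c * g' * c⁻¹ by rw [hg']; group, CharBasic.IsIrr.isClassFunction χ.2 g' c,
      ← BlockBasic.pPart_mul_pReg (p := 2) g', hpq]
    exact h1
  have hfun : ∀ (χ : Cfsg.IrrCharacter G) (g : G),
      Cfsg.pRegularPart 2 (χ : G → ℂ) g = if ¬ 2 ∣ orderOf g then (χ : G → ℂ) g else 0 := fun χ g => by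
    simp only [Cfsg.pRegularPart]
    congr 1
  let v : Fin 3 → G → ℂ := ![Cfsg.pRegularPart 2 (T : G → ℂ), Cfsg.pRegularPart 2 (ζ₂ : G → ℂ),
    Cfsg.pRegularPart 2 (ζ₃ : G → ℂ)]
  have hli : LinearIndependent ℂ v := by
    rw [Fintype.linearIndependent_iff]
    intro a ha
    simp only [Fin.sum_univ_three, v, Matrix.cons_val_zero, Matrix.cons_val_one, Matrix.cons_val,
      Matrix.cons_val_two, Matrix.head_cons, Matrix.tail_cons] at ha
    -- the combination and the relation are both constant on singular elements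
    set K : ℂ := a 0 + a 1 + a 2 * ε
    have h4 : ∀ g : G, 4 * (a 0 * (T : G → ℂ) g + a 1 * (ζ₂ : G → ℂ) g + a 2 * (ζ₃ : G → ℂ) g) =
        K * ((T : G → ℂ) g + (ζ₂ : G → ℂ) g + ε * (ζ₃ : G → ℂ) g - (ζ₄ : G → ℂ) g) := by
      intro g
      by_cases hg : 2 ∣ orderOf g
      · obtain ⟨t₁, ht₁, e1⟩ := hval ζ₂ (by rw [hB]; simp) g hg
        obtain ⟨t₂, ht₂, e2⟩ := hval ζ₃ (by rw [hB]; simp) g hg
        obtain ⟨t₃, ht₃, e3⟩ := hval ζ₄ (by rw [hB]; simp) g hg
        rw [e1, e2, e3, (hz t₁ ht₁).1, (hz t₂ ht₂).2.1, (hz t₃ ht₃).2.2]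
        have : (ε : ℂ) * ε = 1 := by rcases hε with e | e <;> simp [e]
        simp only [hT, BlockBasic.trivialIrr, K]
        linear_combination (-K) * this
      · have e1 := congrFun ha g
        simp only [Pi.add_apply, Pi.smul_apply, smul_eq_mul, hfun, hg, not_false_eq_true, if_true,
          Pi.zero_apply] at e1
        rw [e1, show (T : G → ℂ) g = 1 from rfl,
          hrel g (Nat.not_even_iff_odd.1 fun h => hg (even_iff_two_dvd.1 h))]
        ring
    have hlin := CharBasic.linearIndependent_irr (G := G)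
    rw [Fintype.linearIndependent_iff] at hlin
    have hc := hlin (fun χ => (if χ = T then 4 * a 0 - K else 0) + (if χ = ζ₂ then 4 * a 1 - K else 0) +
      (if χ = ζ₃ then 4 * a 2 - K * ε else 0) + (if χ = ζ₄ then K else 0)) (by
        funext g
        simp only [Finset.sum_apply, Pi.smul_apply, smul_eq_mul, add_mul, ite_mul, zero_mul,
          Finset.sum_add_distrib, Finset.sum_ite_eq', Finset.mem_univ, if_true, Pi.zero_apply]
        linear_combination h4 g)
    have n2 : ζ₂ ≠ T := fun e => h21 (by rw [e]; rfl)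
    have n3 : ζ₃ ≠ T := fun e => h31 (by rw [e]; rfl)
    have n4 : ζ₄ ≠ T := fun e => by
      obtain ⟨t, ht⟩ := exists_prime_orderOf_dvd_card' (G := (P : Subgroup G)) 2 (by rw [hP]; norm_num)
      have h1 := (hz (t : G) (by rw [Subgroup.orderOf_coe, ht])).2.2
      rw [e] at h1
      norm_num [hT, BlockBasic.trivialIrr] at h1
    have c4 := hc ζ₄
    simp only [n4, h24.symm, h34.symm, if_false, if_true, zero_add] at c4
    have c1 := hc T
    have c2 := hc ζ₂
    have c3 := hc ζ₃
    simp only [n2, n3, n4, n2.symm, n3.symm, n4.symm, h23, h23.symm, h24, h34, if_false, if_true,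
      zero_add, add_zero, c4, sub_zero, zero_mul, mul_eq_zero, OfNat.ofNat_ne_zero, false_or] at c1 c2 c3
    intro i
    fin_cases i
    · exact c1
    · exact c2
    · exact c3
  have hspan : Submodule.span ℂ ((fun χ : Cfsg.IrrCharacter G => Cfsg.pRegularPart 2 (χ : G → ℂ)) ''
      Cfsg.principalBlock M G) = Submodule.span ℂ (Set.range v) := by
    apply le_antisymm
    · rw [Submodule.span_le]
      rintro _ ⟨χ, hχ, rfl⟩
      show Cfsg.pRegularPart 2 (χ : G → ℂ) ∈ Submodule.span ℂ (Set.range v)
      rw [hB] at hχ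
      rcases hχ with e | rfl | rfl | rfl
      · rw [show χ = T from Subtype.ext e]
        exact Submodule.subset_span ⟨0, rfl⟩
      · exact Submodule.subset_span ⟨1, rfl⟩
      · exact Submodule.subset_span ⟨2, rfl⟩
      · have e : Cfsg.pRegularPart 2 (χ : G → ℂ) = v 0 + v 1 + (ε : ℂ) • v 2 := by
          funext g
          simp only [v, Matrix.cons_val_zero, Matrix.cons_val_one, Matrix.cons_val, Matrix.cons_val_two,
            Matrix.head_cons, Matrix.tail_cons, Pi.add_apply, Pi.smul_apply, smul_eq_mul, hfun]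
          by_cases hg : 2 ∣ orderOf g
          · simp [hg]
          · simp only [hg, not_false_eq_true, if_true, hT, BlockBasic.trivialIrr]
            linear_combination -(hrel g (Nat.not_even_iff_odd.1 fun h => hg (even_iff_two_dvd.1 h)))
        rw [e]
        exact Submodule.add_mem _ (Submodule.add_mem _ (Submodule.subset_span ⟨0, rfl⟩)
          (Submodule.subset_span ⟨1, rfl⟩)) (Submodule.smul_mem _ _ (Submodule.subset_span ⟨2, rfl⟩))
    · rw [Submodule.span_le]
      rintro _ ⟨i, rfl⟩
      apply Submodule.subset_span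
      fin_cases i
      · exact ⟨T, hTB, rfl⟩
      · exact ⟨ζ₂, by rw [hB]; simp, rfl⟩
      · exact ⟨ζ₃, by rw [hB]; simp, rfl⟩
  rw [Cfsg.blockRank, hspan, finrank_span_eq_card hli, Fintype.card_fin]

end Cfsg.Agent.S4512
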