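import Cfsg.Statements.S4513
import Cfsg.Agent.H43.DefectOneTwo

set_option autoImplicit false
open Cfsg

namespace Cfsg.Agent.S4513

/-- Blocks of defect one for p = 2. Let M be a maximal ideal of the algebraic integers containing 2, B a 2-block of the finite group G whose defect group is the subgroup generated by an involution x, C = C_G(x), b a block of C inducing B and θ a member of b taking the same value at x as at 1 (there is exactly one). Then B consists of exactly two irreducible characters, which agree on every element of odd order, and they can be labelled χ₁, χ₂ with signs ε₁, ε₂ = ±1, ε₁ε₂ = −1, such that χᵢ(x y) = εᵢ θ(y) for every element y of C of odd order. -/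
theorem result {G : Type*} [Group G] [Finite G] (M : Ideal Cfsg.AlgInt) (hM : Cfsg.IsPModular 2 M) (x : G) (hx : orderOf x = 2)
    (B : Set (Cfsg.IrrCharacter G)) (hB : Cfsg.IsPBlock M B) (hBD : Cfsg.IsDefectGroup 2 M B (Subgroup.zpowers x))
    (b : Set (Cfsg.IrrCharacter ↥(Subgroup.centralizer ({x} : Set G)))) (hb : Cfsg.IsInducedBlock M (Subgroup.centralizer ({x} : Set G)) b B)
    (θ : Cfsg.IrrCharacter ↥(Subgroup.centralizer ({x} : Set G))) (hθ : θ ∈ b)
    (hθx : ∀ z : ↥(Subgroup.centralizer ({x} : Set G)), (z : G) = x → (θ : ↥(Subgroup.centralizer ({x} : Set G)) → ℂ) z = (θ : ↥(Subgroup.centralizer ({x} : Set G)) → ℂ) 1) :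
    Nat.card B = 2 ∧ (∀ χ ∈ B, ∀ ψ ∈ B, ∀ g : G, ¬ 2 ∣ orderOf g → (χ : G → ℂ) g = (ψ : G → ℂ) g) ∧
      ∃ χ₁ ∈ B, ∃ χ₂ ∈ B, χ₁ ≠ χ₂ ∧ ∃ ε₁ ε₂ : ℤ, (ε₁ = 1 ∨ ε₁ = -1) ∧ (ε₂ = 1 ∨ ε₂ = -1) ∧ ε₁ * ε₂ = -1 ∧
        ∀ y : ↥(Subgroup.centralizer ({x} : Set G)), ¬ 2 ∣ orderOf y →
          (χ₁ : G → ℂ) (x * y) = (ε₁ : ℂ) * (θ : ↥(Subgroup.centralizer ({x} : Set G)) → ℂ) y ∧ (χ₂ : G → ℂ) (x * y) = (ε₂ : ℂ) * (θ : ↥(Subgroup.centralizer ({x} : Set G)) → ℂ) y := by
  classical
  cases nonempty_fintype G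
  letI : Fintype (Subgroup.centralizer ({x} : Set G)) := Fintype.ofFinite _
  let xH : (Subgroup.centralizer ({x} : Set G)) := ⟨x, Subgroup.mem_centralizer_singleton_iff.mpr rfl⟩
  have hxx : x * x = 1 := by
    have := pow_orderOf_eq_one x
    rwa [hx, pow_two] at this
  have hcomm : ∀ c : (Subgroup.centralizer ({x} : Set G)), Commute x (c : G) := fun c =>
    (Subgroup.mem_centralizer_singleton_iff.mp c.2).symm
  have hxc : xH ∈ Subgroup.center (Subgroup.centralizer ({x} : Set G)) :=
    Subgroup.mem_center_iff.2 fun c => Subtype.ext (hcomm c).eq.symm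
  have hdB : Cfsg.blockDefect 2 B = 1 := by
    have h := H35.card_defectGroup hM hB hBD
    rw [Nat.card_zpowers, hx] at h
    exact ((Nat.pow_eq_self_iff (le_refl 2)).1 h.symm)
  obtain ⟨c₁, c₂, hc12, hBmem, hh1, hh2, hreg, hsing, hhalf⟩ := H43.two_of_defect_one hM hB hdB
  have hBz : ∀ χ ∈ B, Cfsg.blockHeight 2 B (χ : G → ℂ) = 0 ∧ H83.regInner 2 χ χ = 1 / 2 := by
    intro χ hχ
    rcases (hBmem χ).1 hχ with rfl | rfl
    · exact ⟨hh1, hhalf⟩
    · refine ⟨hh2, ?_⟩
      rw [← hhalf]
      apply mul_left_cancel₀ (Nat.cast_ne_zero.2 (Nat.card_pos (α := G)).ne' : (Nat.card G : ℂ) ≠ 0)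
      rw [H83.regInner_eq_sum, H83.regInner_eq_sum]
      exact Finset.sum_congr rfl fun g _ => by split_ifs with h <;> simp [hreg g, h]
  have hsig := H43.sign_of_central_involution hxc (Subtype.ext hxx)
  choose s hs hsval using hsig
  -- blocks of (Subgroup.centralizer ({x} : Set G)) inducing B
  have hblock : ∀ b', Cfsg.IsInducedBlock M (Subgroup.centralizer ({x} : Set G)) b' B → ∃ t₁ t₂ : Cfsg.IrrCharacter (Subgroup.centralizer ({x} : Set G)), t₁ ≠ t₂ ∧
      (∀ η, η ∈ b' ↔ η = t₁ ∨ η = t₂) ∧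
      (∀ y : (Subgroup.centralizer ({x} : Set G)), ¬ 2 ∣ orderOf y → (t₁ : (Subgroup.centralizer ({x} : Set G)) → ℂ) y = (t₂ : (Subgroup.centralizer ({x} : Set G)) → ℂ) y) ∧
      (∀ η ∈ b', ∀ η' ∈ b', H83.regInner 2 η η' = 1 / 2) ∧
      (∀ χ ∈ B, ∀ n : Cfsg.IrrCharacter (Subgroup.centralizer ({x} : Set G)) → ℕ,
        (∀ η : Cfsg.IrrCharacter (Subgroup.centralizer ({x} : Set G)), Cfsg.classInner (fun h : (Subgroup.centralizer ({x} : Set G)) => (χ : G → ℂ) h) (η : (Subgroup.centralizer ({x} : Set G)) → ℂ) = (n η : ℂ)) →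
          (s t₁ * n t₁ + s t₂ * n t₂ : ℤ) ≠ 0) := by
    intro b' hind
    obtain ⟨g, hg⟩ := BlockBasic.exists_isDefectClass hM hind.1
    obtain ⟨S⟩ : Nonempty (Sylow 2 (Subgroup.centralizer ({g} : Set (Subgroup.centralizer ({x} : Set G))))) := inferInstance
    have hD : Cfsg.IsDefectGroup 2 M b' ((S : Subgroup (Subgroup.centralizer ({g} : Set (Subgroup.centralizer ({x} : Set G))))).map
        (Subgroup.centralizer ({g} : Set (Subgroup.centralizer ({x} : Set G)))).subtype) := ⟨g, hg, S, rfl⟩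
    set D := (S : Subgroup (Subgroup.centralizer ({g} : Set (Subgroup.centralizer ({x} : Set G))))).map
      (Subgroup.centralizer ({g} : Set (Subgroup.centralizer ({x} : Set G)))).subtype
    obtain ⟨E, hE, hDE⟩ := H35.defectGroup_le_induced hM (Subgroup.centralizer ({x} : Set G)) hind hD
    have hle : Nat.card D ≤ 2 := by
      have h1 := Subgroup.card_le_of_le hDE
      rw [Subgroup.card_map_of_injective (Subgroup.subtype_injective _), H35.card_defectGroup hM hB hE, hdB] at h1
      simpa using h1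
    haveI hN : (Subgroup.zpowers xH).Normal := ⟨fun n hn c => by
      have hc : Subgroup.zpowers xH ≤ Subgroup.center (Subgroup.centralizer ({x} : Set G)) := Subgroup.zpowers_le.2 hxc
      rw [Subgroup.mem_center_iff.1 (hc hn) c, mul_inv_cancel_right]
      exact hn⟩
    have ho : orderOf xH = 2 := by rw [← Subgroup.orderOf_coe]; exact hx
    have hge := Subgroup.card_le_of_le (H35.le_defectGroup_of_normal hM hind.1 hD (Subgroup.zpowers xH)
      (IsPGroup.of_card (n := 1) (by rw [Nat.card_zpowers, ho, pow_one])))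
    rw [Nat.card_zpowers, ho] at hge
    have hd : Cfsg.blockDefect 2 b' = 1 := by
      have h := H35.card_defectGroup hM hind.1 hD
      rw [show Nat.card D = 2 by omega] at h
      exact ((Nat.pow_eq_self_iff (le_refl 2)).1 h.symm)
    obtain ⟨t₁, t₂, hne, hmem, hu1, hu2, hr, -, hq⟩ := H43.two_of_defect_one hM hind.1 hd
    refine ⟨t₁, t₂, hne, hmem, hr, ?_, ?_⟩
    · intro η hη η' hη'
      rw [← hq]
      apply mul_left_cancel₀ (Nat.cast_ne_zero.2 (Nat.card_pos (α := (Subgroup.centralizer ({x} : Set G)))).ne' : (Nat.card (Subgroup.centralizer ({x} : Set G)) : ℂ) ≠ 0)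
      rw [H83.regInner_eq_sum, H83.regInner_eq_sum]
      refine Finset.sum_congr rfl fun y _ => ?_
      split_ifs with h
      · rfl
      · rcases (hmem η).1 hη with rfl | rfl <;> rcases (hmem η').1 hη' with rfl | rfl <;>
          simp [hr y h]
    · intro χ hχ n hn hc
      have ht : ∀ η, η ∈ b' → H83.regElt 2 η = H83.regElt 2 t₁ := by
        intro η hη
        apply MonoidAlgebra.coeff_injective
        ext y
        simp only [H83.regElt, BlockBasic.coeff_ofFun]
        split_ifs with h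
        · rfl
        · rcases (hmem η).1 hη with rfl | rfl
          · rfl
          · rw [hr y h]
      have ht₁ : t₁ ∈ b' := (hmem t₁).2 (Or.inl rfl)
      have ht₂ : t₂ ∈ b' := (hmem t₂).2 (Or.inr rfl)
      apply H43.omega_regElt_unit hM hB hχ (hBz χ hχ).1 hχ
      have hcong := Cores.omega_resElt_congr hM (CharBasic.IsIrr.isClassFunction χ.2)
        (hind.2.2 t₁ ht₁ χ hχ) (H83.isCentralElt_regElt (p := 2) χ) (H83.isIntElt_regElt hM χ)
      have hz : ∀ η : Cfsg.IrrCharacter (Subgroup.centralizer ({x} : Set G)), (η ≠ t₁ ∧ η ≠ t₂) →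
          t₁ ∈ Cfsg.blockOf M (η : (Subgroup.centralizer ({x} : Set G)) → ℂ) → False := by
        intro η hη h
        have : η ∈ b' := BlockBasic.isPBlock_eq_of_mem hM hind.1 (BlockBasic.isPBlock_blockOf M η) ht₁ h ▸
          BlockBasic.sameBlock_refl hM _
        rcases (hmem η).1 this with h3 | h3
        · exact hη.1 h3
        · exact hη.2 h3
      rw [H43.omega_resElt_regElt_eq_sum n hn t₁, Finset.sum_eq_add t₁ t₂ hne (fun η _ hη => by
          rw [H43.omega_regElt_zero hM (BlockBasic.isPBlock_blockOf M η) (BlockBasic.sameBlock_refl hM _)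
            (fun h => hz η hη h), mul_zero]) (by simp) (by simp), ht t₂ ht₂, ← add_mul] at hcong
      have h2 : 2 ∣ n t₁ + n t₂ := by
        rcases hs t₁ with h1 | h1 <;> rcases hs t₂ with h2 | h2 <;> rw [h1, h2] at hc <;> omega
      have hR := BlockBasic.memLocalRing_omega hM t₁.2 (H83.isCentralElt_regElt t₁)
        (H83.isIntElt_regElt (p := 2) hM t₁)
      have hI := BlockBasic.memLocalIdeal_mul hM hR ((BlockBasic.memLocalIdeal_natCast_iff hM _).2 h2)
      rw [Nat.cast_add, mul_comm] at hI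
      simpa using BlockBasic.memLocalIdeal_sub hM hI hcong
  -- the values on the section
  have hmain : ∀ χ ∈ B, ∃ ε : ℤ, (ε = 1 ∨ ε = -1) ∧ ∀ y : (Subgroup.centralizer ({x} : Set G)), ¬ 2 ∣ orderOf y →
      (χ : G → ℂ) (x * y) = (ε : ℂ) * (θ : (Subgroup.centralizer ({x} : Set G)) → ℂ) y := by
    intro χ hχ
    have hχH : Cfsg.IsCharacter (Subgroup.centralizer ({x} : Set G)) (fun h : (Subgroup.centralizer ({x} : Set G)) => (χ : G → ℂ) h) :=
      CharInduce.IsChar.res (CharBasic.IsIrr.isCharacter χ.2) (Subgroup.centralizer ({x} : Set G))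
    choose n hn using fun η : Cfsg.IrrCharacter (Subgroup.centralizer ({x} : Set G)) =>
      CharBasic.classInner_isChar_nat hχH (CharBasic.IsIrr.isCharacter η.2)
    let m : Cfsg.IrrCharacter (Subgroup.centralizer ({x} : Set G)) → ℤ := fun η => s η * n η
    have hexp : ∀ y : (Subgroup.centralizer ({x} : Set G)), (χ : G → ℂ) (x * y) = ∑ η, (m η : ℂ) * (η : (Subgroup.centralizer ({x} : Set G)) → ℂ) y := by
      intro y
      have h := congrFun (CharBasic.classFunction_expansion (CharBasic.IsChar.isClassFunction hχH))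
        (xH * y)
      simp only [Finset.sum_apply, Pi.smul_apply, smul_eq_mul, hn, hsval] at h
      refine h.trans (Finset.sum_congr rfl fun η _ => ?_)
      simp only [m]; push_cast; ring
    have hother : ∀ b', Cfsg.IsPBlock M b' → ¬ Cfsg.IsInducedBlock M (Subgroup.centralizer ({x} : Set G)) b' B → ∀ y : (Subgroup.centralizer ({x} : Set G)),
        ¬ 2 ∣ orderOf y → ∑ η, (if η ∈ b' then (m η : ℂ) * (η : (Subgroup.centralizer ({x} : Set G)) → ℂ) y else 0) = 0 := by
      intro b' hb' hnot y hy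
      refine Eq.trans ?_ (Cores.second_main hM (e := 1) (x := x) (by rw [hx, pow_one]) hB hχ hb' hnot y hy)
      rw [Cfsg.blockPart, BlockBasic.finsum_mem_eq_sum_ite]
      refine Finset.sum_congr rfl fun η _ => ?_
      split_ifs
      · congr 1
        rw [show (fun c : (Subgroup.centralizer ({x} : Set G)) => (χ : G → ℂ) (x * (c : G))) = fun c => ∑ η', (m η' : ℂ) * (η' : (Subgroup.centralizer ({x} : Set G)) → ℂ) c
          from funext hexp]
        rw [show (fun c : (Subgroup.centralizer ({x} : Set G)) => ∑ η' : Cfsg.IrrCharacter (Subgroup.centralizer ({x} : Set G)), (m η' : ℂ) * (η' : (Subgroup.centralizer ({x} : Set G)) → ℂ) c) =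
          ∑ η' : Cfsg.IrrCharacter (Subgroup.centralizer ({x} : Set G)), (m η' : ℂ) • (η' : (Subgroup.centralizer ({x} : Set G)) → ℂ) from by
            funext c; simp [Finset.sum_apply]]
        rw [CharBasic.classInner_sum_left, Finset.sum_eq_single η (fun η' _ h => by
          rw [CharBasic.classInner_smul_left, CharBasic.classInner_irrCharacter, if_neg h, mul_zero])
          (by simp), CharBasic.classInner_smul_left, CharBasic.classInner_irrCharacter, if_pos rfl,
          mul_one]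
      · rfl
    -- the norm over the section
    have hbound : ((Nat.card (Subgroup.centralizer ({x} : Set G)) : ℝ))⁻¹ * ∑ y : (Subgroup.centralizer ({x} : Set G)), (if 2 ∣ orderOf y then 0 else
        Complex.normSq ((χ : G → ℂ) (x * y))) ≤ 1 / 2 := by
      let Φ : G × (Subgroup.centralizer ({x} : Set G)) → G := fun q => q.1 * (x * q.2) * q.1⁻¹
      let W : G → ℝ := fun g => if 2 ∣ orderOf g then Complex.normSq ((χ : G → ℂ) g) else 0
      have hW : ∀ g, 0 ≤ W g := fun g => by
        simp only [W]; split_ifs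
        · exact Complex.normSq_nonneg _
        · exact le_rfl
      set R := Finset.univ.filter (fun q : G × (Subgroup.centralizer ({x} : Set G)) => ¬ 2 ∣ orderOf q.2) with hR
      have hord : ∀ y : (Subgroup.centralizer ({x} : Set G)), ¬ 2 ∣ orderOf y → 2 ∣ orderOf (x * (y : G)) := by
        intro y hy
        rw [(hcomm y).orderOf_mul_eq_mul_orderOf_of_coprime, hx]
        · exact dvd_mul_right 2 _
        · rw [hx, Subgroup.orderOf_coe]; exact (Nat.prime_two.coprime_iff_not_dvd.2 hy)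
      have hfib : ∀ g : G, (R.filter (fun q => Φ q = g)).card ≤ Nat.card (Subgroup.centralizer ({x} : Set G)) := by
        intro g
        rcases (R.filter (fun q => Φ q = g)).eq_empty_or_nonempty with h | ⟨⟨t₀, y₀⟩, h₀⟩
        · simp [h]
        obtain ⟨hy₀, he₀⟩ : ¬ 2 ∣ orderOf y₀ ∧ Φ (t₀, y₀) = g := by simpa [R] using h₀
        rw [Nat.card_eq_fintype_card, ← Finset.card_univ]
        have key : ∀ q ∈ R.filter (fun q => Φ q = g), t₀⁻¹ * q.1 ∈ (Subgroup.centralizer ({x} : Set G)) := by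
          rintro ⟨t, y⟩ hq
          obtain ⟨hy, he⟩ : ¬ 2 ∣ orderOf y ∧ Φ (t, y) = g := by simpa [R] using hq
          rw [← he₀] at he
          simp only [Φ] at he
          have e : (t₀⁻¹ * t) * (x * (y : G)) * (t₀⁻¹ * t)⁻¹ = x * (y₀ : G) := by
            calc (t₀⁻¹ * t) * (x * (y : G)) * (t₀⁻¹ * t)⁻¹
                = t₀⁻¹ * (t * (x * (y : G)) * t⁻¹) * t₀ := by group
              _ = _ := by rw [he]; group
          have h1 : Cfsg.IsPPart 2 (x * (y₀ : G)) x :=
            ⟨y₀, rfl, hcomm y₀, ⟨1, by rw [hx, pow_one]⟩, by rw [Subgroup.orderOf_coe]; exact hy₀⟩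
          have h2 : Cfsg.IsPPart 2 (x * (y₀ : G)) ((t₀⁻¹ * t) * x * (t₀⁻¹ * t)⁻¹) := by
            refine ⟨(t₀⁻¹ * t) * (y : G) * (t₀⁻¹ * t)⁻¹, by rw [← e]; group,
              (hcomm y).map (MulAut.conj (t₀⁻¹ * t)).toMonoidHom, ⟨1, ?_⟩, ?_⟩
            · rw [← MulAut.conj_apply, MulEquiv.orderOf_eq, hx, pow_one]
            · rw [← MulAut.conj_apply, MulEquiv.orderOf_eq, Subgroup.orderOf_coe]; exact hy
          have h3 := BlockBasic.isPPart_unique Nat.prime_two h2 h1
          exact Subgroup.mem_centralizer_singleton_iff.2 (mul_inv_eq_iff_eq_mul.1 h3)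
        refine Finset.card_le_card_of_injOn (fun q => if h : t₀⁻¹ * q.1 ∈ (Subgroup.centralizer ({x} : Set G)) then (⟨_, h⟩ : (Subgroup.centralizer ({x} : Set G))) else 1)
          (fun q _ => Finset.mem_univ _) ?_
        intro q hq q' hq' he
        rw [Finset.mem_coe] at hq hq'
        simp only [dif_pos (key q hq), dif_pos (key q' hq'), Subtype.mk.injEq, mul_right_inj] at he
        obtain ⟨-, e1⟩ := Finset.mem_filter.1 hq
        obtain ⟨-, e2⟩ := Finset.mem_filter.1 hq'
        have e3 := e1.trans e2.symm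
        simp only [Φ, he, mul_left_inj, mul_right_inj] at e3
        exact Prod.ext he (Subtype.ext e3)
      have h1 : (Nat.card G : ℝ) * ∑ y : (Subgroup.centralizer ({x} : Set G)), (if 2 ∣ orderOf y then 0 else
          Complex.normSq ((χ : G → ℂ) (x * y))) = ∑ q ∈ R, W (Φ q) := by
        rw [hR, Finset.sum_filter, Fintype.sum_prod_type, Nat.card_eq_fintype_card, ← nsmul_eq_mul,
          ← Finset.card_univ, ← Finset.sum_const]
        refine Finset.sum_congr rfl fun t _ => Finset.sum_congr rfl fun y _ => ?_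
        split_ifs with h
        · rfl
        · simp only [W, Φ]
          rw [CharBasic.IsIrr.isClassFunction χ.2 (x * (y : G)) t, if_pos]
          rw [← MulAut.conj_apply, MulEquiv.orderOf_eq]
          exact hord y h
      have h2 : ∑ q ∈ R, W (Φ q) ≤ (Nat.card (Subgroup.centralizer ({x} : Set G)) : ℝ) * ∑ g : G, W g := by
        rw [← Finset.sum_fiberwise R Φ, Finset.mul_sum]
        refine Finset.sum_le_sum fun g _ => ?_
        rw [Finset.sum_congr rfl (g := fun _ => W g) (fun q hq => by rw [(Finset.mem_filter.1 hq).2]),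
          Finset.sum_const, nsmul_eq_mul]
        exact mul_le_mul_of_nonneg_right (by exact_mod_cast hfib g) (hW g)
      have h3 : ∑ g : G, W g = (Nat.card G : ℝ) / 2 := by
        have e1 : ((∑ g : G, W g : ℝ) : ℂ) = (Nat.card G : ℂ) - (Nat.card G : ℂ) * H83.regInner 2 χ χ := by
          have := H83.sum_norm_sq χ.2
          rw [H83.regInner_eq_sum, ← this, ← Finset.sum_sub_distrib, Complex.ofReal_sum]
          refine Finset.sum_congr rfl fun g _ => ?_
          simp only [W]
          split_ifs with h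
          · rw [Complex.normSq_eq_conj_mul_self, sub_zero]
          · rw [mul_comm, sub_self, Complex.ofReal_zero]
        rw [(hBz χ hχ).2] at e1
        have : ((∑ g : G, W g : ℝ) : ℂ) = (((Nat.card G : ℝ) / 2 : ℝ) : ℂ) := by
          rw [e1]; push_cast; ring
        exact_mod_cast this
      rw [h3] at h2
      rw [← h1] at h2
      have hG : (0 : ℝ) < Nat.card G := by exact_mod_cast Nat.card_pos
      have hC : (0 : ℝ) < Nat.card (Subgroup.centralizer ({x} : Set G)) := by exact_mod_cast Nat.card_pos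
      rw [inv_mul_le_iff₀ hC]
      nlinarith
    have hQ : ∀ f : Cfsg.IrrCharacter (Subgroup.centralizer ({x} : Set G)) → ℤ, (∀ y : (Subgroup.centralizer ({x} : Set G)), ¬ 2 ∣ orderOf y →
        (χ : G → ℂ) (x * y) = ∑ η, (f η : ℂ) * (η : (Subgroup.centralizer ({x} : Set G)) → ℂ) y) →
        ((((Nat.card (Subgroup.centralizer ({x} : Set G)) : ℝ))⁻¹ * ∑ y : (Subgroup.centralizer ({x} : Set G)), (if 2 ∣ orderOf y then 0 else
          Complex.normSq ((χ : G → ℂ) (x * y))) : ℝ) : ℂ) =
          ∑ η, ∑ η', (f η : ℂ) * (f η' : ℂ) * H83.regInner 2 η η' := by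
      intro f hf
      have hC : (Nat.card (Subgroup.centralizer ({x} : Set G)) : ℂ) ≠ 0 := Nat.cast_ne_zero.2 Nat.card_pos.ne'
      have h := H43.sum_regular_pair (p := 2) (fun η => (f η : ℂ)) (fun η => (f η : ℂ))
      simp only [map_intCast] at h
      rw [← mul_right_inj' hC, ← h]
      push_cast
      rw [← mul_assoc, mul_inv_cancel₀ hC, one_mul]
      refine Finset.sum_congr rfl fun y _ => ?_
      split_ifs with hy
      · simp
      · rw [← hf y hy, Complex.mul_conj]
    obtain ⟨t₁, t₂, hne, hmem, hr, hq, hodd⟩ := hblock b hb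
    have huniq : ∀ b', Cfsg.IsInducedBlock M (Subgroup.centralizer ({x} : Set G)) b' B → b' = b := by
      intro b' hb'
      by_contra hbb
      obtain ⟨u₁, u₂, hne', hmem', -, hq', hodd'⟩ := hblock b' hb'
      obtain ⟨r, hr0, hsplit⟩ := H43.block_bessel (p := 2) hM hb.1 hb'.1 (Ne.symm hbb) m
      rw [← hQ m (fun y _ => hexp y)] at hsplit
      have hsquare : ∀ (b'' : Set (Cfsg.IrrCharacter (Subgroup.centralizer ({x} : Set G)))) (v₁ v₂ : Cfsg.IrrCharacter (Subgroup.centralizer ({x} : Set G))), v₁ ≠ v₂ →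
          (∀ η, η ∈ b'' ↔ η = v₁ ∨ η = v₂) → (∀ η ∈ b'', ∀ η' ∈ b'', H83.regInner 2 η η' = 1 / 2) →
          (∑ᶠ η ∈ b'', ∑ᶠ η' ∈ b'', (m η : ℂ) * (m η' : ℂ) * H83.regInner 2 η η') =
            ((m v₁ + m v₂ : ℤ) : ℂ) ^ 2 / 2 := by
        intro b'' v₁ v₂ hv hm' hr'
        have e : b'' = {v₁, v₂} := Set.ext fun η => by simp [hm' η]
        have a1 : v₁ ∈ b'' := (hm' _).2 (Or.inl rfl)
        have a2 : v₂ ∈ b'' := (hm' _).2 (Or.inr rfl)
        rw [e, finsum_mem_pair hv, finsum_mem_pair hv, finsum_mem_pair hv, hr' _ a1 _ a1, hr' _ a1 _ a2,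
          hr' _ a2 _ a1, hr' _ a2 _ a2]
        push_cast; ring
      rw [hsquare b t₁ t₂ hne hmem hq, hsquare b' u₁ u₂ hne' hmem' hq'] at hsplit
      set T := ((Nat.card (Subgroup.centralizer ({x} : Set G)) : ℝ))⁻¹ * ∑ y : (Subgroup.centralizer ({x} : Set G)), (if 2 ∣ orderOf y then 0 else
        Complex.normSq ((χ : G → ℂ) (x * y)))
      have e : T = ((m t₁ + m t₂ : ℤ) : ℝ) ^ 2 / 2 + ((m u₁ + m u₂ : ℤ) : ℝ) ^ 2 / 2 + r := by
        exact_mod_cast hsplit
      have l1 : (1 : ℝ) ≤ ((m t₁ + m t₂ : ℤ) : ℝ) ^ 2 := by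
        have := hodd χ hχ n hn
        exact_mod_cast (sq_pos_of_ne_zero this : (0 : ℤ) < (m t₁ + m t₂) ^ 2)
      have l2 : (1 : ℝ) ≤ ((m u₁ + m u₂ : ℤ) : ℝ) ^ 2 := by
        have := hodd' χ hχ n hn
        exact_mod_cast (sq_pos_of_ne_zero this : (0 : ℤ) < (m u₁ + m u₂) ^ 2)
      linarith
    have hval : ∀ y : (Subgroup.centralizer ({x} : Set G)), ¬ 2 ∣ orderOf y →
        (χ : G → ℂ) (x * y) = ((m t₁ + m t₂ : ℤ) : ℂ) * (t₁ : (Subgroup.centralizer ({x} : Set G)) → ℂ) y := by
      intro y hy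
      rw [hexp y]
      have h0 : ∑ η ∈ Finset.univ.filter (· ∉ b), (m η : ℂ) * (η : (Subgroup.centralizer ({x} : Set G)) → ℂ) y = 0 := by
        rw [← Finset.sum_fiberwise_of_maps_to (g := fun η : Cfsg.IrrCharacter (Subgroup.centralizer ({x} : Set G)) =>
            Cfsg.blockOf M (η : (Subgroup.centralizer ({x} : Set G)) → ℂ))
          (t := (Finset.univ.filter (· ∉ b)).image fun η : Cfsg.IrrCharacter (Subgroup.centralizer ({x} : Set G)) =>
            Cfsg.blockOf M (η : (Subgroup.centralizer ({x} : Set G)) → ℂ)) (fun η hη => Finset.mem_image_of_mem _ hη)]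
        refine Finset.sum_eq_zero fun b' hb' => ?_
        obtain ⟨η₀, hη₀, rfl⟩ := Finset.mem_image.1 hb'
        rw [Finset.mem_filter] at hη₀
        have hb0 := BlockBasic.isPBlock_blockOf M η₀
        rw [← hother _ hb0 (fun h => hη₀.2 (huniq _ h ▸ BlockBasic.sameBlock_refl hM _)) y hy,
          ← Finset.sum_filter, Finset.filter_filter]
        refine Finset.sum_congr ?_ fun _ _ => rfl
        ext η
        simp only [Finset.mem_filter, Finset.mem_univ, true_and]
        constructor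
        · intro h
          exact h.2 ▸ BlockBasic.sameBlock_refl hM _
        · intro h
          have e := BlockBasic.isPBlock_eq_of_mem hM (BlockBasic.isPBlock_blockOf M η) hb0
            (BlockBasic.sameBlock_refl hM _) h
          refine ⟨fun hη => hη₀.2 ?_, e⟩
          rw [BlockBasic.isPBlock_eq_of_mem hM hb.1 hb0 hη h]
          exact BlockBasic.sameBlock_refl hM _
      rw [← Finset.sum_filter_add_sum_filter_not Finset.univ (fun η => η ∈ b), h0, add_zero]
      have e : Finset.univ.filter (fun η => η ∈ b) = {t₁, t₂} := by ext η; simp [hmem η]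
      rw [e, Finset.sum_pair hne, hr y hy]
      push_cast; ring
    have hθ' : ∀ y : (Subgroup.centralizer ({x} : Set G)), ¬ 2 ∣ orderOf y → (θ : (Subgroup.centralizer ({x} : Set G)) → ℂ) y = (t₁ : (Subgroup.centralizer ({x} : Set G)) → ℂ) y := by
      intro y hy
      rcases (hmem θ).1 hθ with rfl | rfl
      · rfl
      · exact (hr y hy).symm
    set c := m t₁ + m t₂ with hc
    have hc2 : c ^ 2 ≤ 1 := by
      have h := hQ (fun η => if η = t₁ then c else 0) (fun y hy => by
        rw [hval y hy, Finset.sum_eq_single t₁ (fun η _ h => by rw [if_neg h]; simp) (by simp), if_pos rfl])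
      rw [Finset.sum_eq_single t₁ (fun η _ h => by
          exact Finset.sum_eq_zero fun η' _ => by rw [if_neg h]; simp) (by simp),
        Finset.sum_eq_single t₁ (fun η' _ h => by rw [if_neg h]; simp) (by simp), if_pos rfl,
        hq t₁ ((hmem t₁).2 (Or.inl rfl)) t₁ ((hmem t₁).2 (Or.inl rfl))] at h
      set T := ((Nat.card (Subgroup.centralizer ({x} : Set G)) : ℝ))⁻¹ * ∑ y : (Subgroup.centralizer ({x} : Set G)), (if 2 ∣ orderOf y then 0 else
        Complex.normSq ((χ : G → ℂ) (x * y)))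
      have e : ((T : ℝ) : ℂ) = ((((c : ℝ) * c) / 2 : ℝ) : ℂ) := by rw [h]; push_cast; ring
      have e' : T = (c : ℝ) * c / 2 := by exact_mod_cast e
      have : ((c ^ 2 : ℤ) : ℝ) ≤ 1 := by push_cast; nlinarith
      exact_mod_cast this
    have hc0 : c ≠ 0 := hodd χ hχ n hn
    refine ⟨c, ?_, fun y hy => by rw [hθ' y hy, hval y hy]⟩
    have : c ^ 2 = 1 := le_antisymm hc2 (sq_pos_of_ne_zero hc0)
    exact sq_eq_one_iff.1 this
  refine ⟨?_, ?_, c₁, (hBmem c₁).2 (Or.inl rfl), c₂, (hBmem c₂).2 (Or.inr rfl), hc12, ?_⟩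
  · have : B = {c₁, c₂} := Set.ext fun η => by simp [hBmem η]
    rw [this, Nat.card_coe_set_eq, Set.ncard_pair hc12]
  · intro χ hχ ψ hψ g hg
    rcases (hBmem χ).1 hχ with rfl | rfl <;> rcases (hBmem ψ).1 hψ with rfl | rfl <;>
      simp [hreg g hg]
  · obtain ⟨ε, hε, hval⟩ := hmain c₁ ((hBmem c₁).2 (Or.inl rfl))
    refine ⟨ε, -ε, hε, by omega, by rcases hε with h | h <;> subst h <;> norm_num, fun y hy =>
      ⟨hval y hy, ?_⟩⟩
    have hord : 2 ∣ orderOf (x * (y : G)) := by
      rw [(hcomm y).orderOf_mul_eq_mul_orderOf_of_coprime, hx]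
      · exact dvd_mul_right 2 _
      · rw [hx, Subgroup.orderOf_coe]; exact (Nat.prime_two.coprime_iff_not_dvd.2 hy)
    rw [hsing _ hord, hval y hy]
    push_cast; ring

end Cfsg.Agent.S4513
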