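import Cfsg.Statements.S4514
import Cfsg.Agent.H82.ConstDiff.Main
import Cfsg.Agent.H82.ConstDiff.Converse
import Cfsg.Agent.Cores.PrincipalLambda

set_option autoImplicit false
open Cfsg

namespace Cfsg.Agent.S4514

/-- Let G be a finite group, u an element of G, and fix a maximal ideal M of the algebraic integers containing 2 (defining the 2-blocks). There is a complex number k with χ(1) − χ(u) = k for every non-principal irreducible character χ in the principal 2-block if and only if one of the following holds: u lies in O(G); or G/O(G) has order 2 and u ∉ O(G); or G/O(G) ≅ PSL(2, 2ⁿ) for some n ≥ 2, u ∉ O(G) and u² ∈ O(G). -/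
theorem result {G : Type*} [Group G] [Finite G] (M : Ideal Cfsg.AlgInt) (hM : Cfsg.IsPModular 2 M) (u : G) :
    (∃ k : ℂ, ∀ χ : Cfsg.IrrCharacter G, χ ∈ Cfsg.principalBlock M G → (χ : G → ℂ) ≠ (fun _ => 1) →
        (χ : G → ℂ) 1 - (χ : G → ℂ) u = k) ↔
      (u ∈ Cfsg.oddCore G ∨ (Nat.card (G ⧸ Cfsg.oddCore G) = 2 ∧ u ∉ Cfsg.oddCore G) ∨
        (∃ (F : Type) (_ : Field F) (_ : Fintype F) (n : ℕ), 2 ≤ n ∧ Fintype.card F = 2 ^ n ∧
          Nonempty (G ⧸ Cfsg.oddCore G ≃* Matrix.ProjectiveSpecialLinearGroup (Fin 2) F) ∧ u ∉ Cfsg.oddCore G ∧ u ^ 2 ∈ Cfsg.oddCore G)) := by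
  classical
  haveI : Fact (Nat.Prime 2) := ⟨Nat.prime_two⟩
  cases nonempty_fintype G
  have hN : ¬ 2 ∣ Nat.card (pPrimeCore 2 G) := Cores.not_dvd_card_pPrimeCore
  letI : Fintype (G ⧸ pPrimeCore 2 G) := Fintype.ofFinite _
  have hdefl : ∀ χ : IrrCharacter G, χ ∈ principalBlock M G → (χ : G → ℂ) ≠ (fun _ => 1) →
      ∃ ψ : IrrCharacter (G ⧸ pPrimeCore 2 G), ψ ≠ BlockBasic.trivialIrr ∧
        ∀ g : G, (χ : G → ℂ) g = (ψ : G ⧸ pPrimeCore 2 G → ℂ) g := by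
    intro χ hχ h1
    obtain ⟨f, -, hf, hirr⟩ := CharInduce.IsChar.exists_deflate (CharBasic.IsIrr.isCharacter χ.2)
      (pPrimeCore 2 G) fun n hn => H82.apply_eq_of_mem_principalBlock hM hχ _ hN hn
    refine ⟨⟨f, hirr χ.2⟩, fun e => h1 (funext fun g => ?_), hf⟩
    rw [hf g]
    exact congrArg (fun c : IrrCharacter (G ⧸ pPrimeCore 2 G) =>
      (c : G ⧸ pPrimeCore 2 G → ℂ) (g : G ⧸ pPrimeCore 2 G)) e
  constructor
  · rintro ⟨k, hk⟩
    by_cases hu : u ∈ oddCore G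
    · exact Or.inl hu
    have hu1 : (u : G ⧸ pPrimeCore 2 G) ≠ 1 := fun e => hu ((QuotientGroup.eq_one_iff u).1 e)
    have hkq : H82.ConstDiff.Diff M (u : G ⧸ pPrimeCore 2 G) k := by
      intro ψ hψ h1
      refine hk (Cores.inflIrr (pPrimeCore 2 G) ψ)
        ((Cores.inflIrr_mem_principalBlock_iff hM _ hN ψ).2 hψ) fun e => h1 ?_
      refine Subtype.ext (funext fun q => ?_)
      obtain ⟨g, rfl⟩ := QuotientGroup.mk_surjective q
      exact congrFun e g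
    rcases H82.ConstDiff.reduced hM Cores.pPrimeCore_quotient_pPrimeCore hu1 hkq with
      h | ⟨F, iF, iFt, n, hn, hF, hiso, hw2⟩
    · exact Or.inr (Or.inl ⟨h, hu⟩)
    · refine Or.inr (Or.inr ⟨F, iF, iFt, n, hn, hF, hiso, hu, (QuotientGroup.eq_one_iff _).1 ?_⟩)
      rw [QuotientGroup.mk_pow, hw2]
  · rintro (hu | ⟨h, hu⟩ | ⟨F, iF, iFt, n, hn, hF, ⟨φ⟩, hu, hu2⟩)
    · refine ⟨0, fun χ hχ _ => ?_⟩
      rw [H82.apply_eq_of_mem_principalBlock hM hχ _ hN hu, sub_self]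
    · refine ⟨2, fun χ hχ h1 => ?_⟩
      obtain ⟨ψ, hψ, hf⟩ := hdefl χ hχ h1
      rw [hf, hf, QuotientGroup.mk_one]
      exact H82.ConstDiff.order_two_diff h (fun e => hu ((QuotientGroup.eq_one_iff u).1 e)) ψ hψ
    · refine ⟨(2 : ℂ) ^ n, fun χ hχ h1 => ?_⟩
      obtain ⟨ψ, hψ, hf⟩ := hdefl χ hχ h1
      rw [hf, hf, QuotientGroup.mk_one]
      refine H82.ConstDiff.psl_diff F hn hF φ (fun e => hu ((QuotientGroup.eq_one_iff u).1 e)) ?_ ψ hψ
      rw [← QuotientGroup.mk_pow]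
      exact (QuotientGroup.eq_one_iff _).2 hu2

end Cfsg.Agent.S4514
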