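import Cfsg.Statements.S4517
import Cfsg.Agent.H81.FullDefect

set_option autoImplicit false
open Cfsg

namespace Cfsg.Agent.S4517

/-- Let G be a finite group, M a maximal ideal of the algebraic integers containing 2, and k a natural number coprime to the order of G with g ^ k = g⁻¹ for every element g of odd order (so that g ↦ g ^ k induces a field automorphism of the character values inverting the roots of unity of odd order). If B is a 2-block of full defect (its defect equals the exponent of 2 in the order of G) that is stable under χ ↦ χ ∘ (· ^ k), then B is the principal 2-block. -/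
theorem result {G : Type*} [Group G] [Finite G] (M : Ideal Cfsg.AlgInt) (hM : Cfsg.IsPModular 2 M) (k : ℕ) (hk : Nat.Coprime k (Nat.card G)) (hk₂ : ∀ g : G, Odd (orderOf g) → g ^ k = g⁻¹) (B : Set (Cfsg.IrrCharacter G)) (hB : Cfsg.IsPBlock M B) (hdef : Cfsg.blockDefect 2 B = (Nat.card G).factorization 2) (hstab : ∀ χ ∈ B, ∃ ψ ∈ B, ∀ g : G, (ψ : G → ℂ) g = (χ : G → ℂ) (g ^ k)) : B = Cfsg.principalBlock M G := by
  haveI : Fact (Nat.Prime 2) := ⟨Nat.prime_two⟩
  obtain ⟨χ, hχB, hodd⟩ := Cfsg.Agent.H81.exists_degree_not_dvd hM hB hdef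
  have hdeg : Odd (Cfsg.charDegree (χ : G → ℂ)) := by
    rwa [← Nat.not_even_iff_odd, even_iff_two_dvd]
  obtain ⟨ψ, hψB, hψ⟩ := hstab χ hχB
  have hψdeg : Odd (Cfsg.charDegree (ψ : G → ℂ)) := by
    have : Cfsg.charDegree (ψ : G → ℂ) = Cfsg.charDegree (χ : G → ℂ) := by
      simp [Cfsg.charDegree, hψ]
    rwa [this]
  have hsb := Cfsg.Agent.BlockBasic.isPBlock_sameBlock hM hB hψB hχB
  have hmem := Cfsg.Agent.H81.mem_principalBlock_of_inv_congr hM χ hdeg fun g hg => by
    have h := ((Cfsg.Agent.H81.centralChar_modM_apply hM ψ hψdeg hg.2).symm.trans hM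
      (hsb g)).trans hM (Cfsg.Agent.H81.centralChar_modM_apply hM χ hdeg hg.2)
    rwa [hψ g, hk₂ g hg.1] at h
  exact Cfsg.Agent.BlockBasic.isPBlock_eq_of_mem hM hB
    (Cfsg.Agent.BlockBasic.isPBlock_principalBlock M) hχB hmem

end Cfsg.Agent.S4517
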