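import Cfsg.Statements.S4518
import Cfsg.Agent.H81.Power
import Mathlib.GroupTheory.Perm.Cycle.Type

set_option autoImplicit false
open Cfsg

namespace Cfsg.Agent.S4518

/-- Let N be a normal subgroup of the finite group G whose index is not divisible by the prime p, and let k be coprime to the order of G with k ^ (p ^ e) ≡ 1 modulo the order of G for some e (so g ↦ g ^ k induces a field automorphism of p-power order on character values). If an irreducible character χ of G satisfies χ (g ^ k) = χ g for all g, then every irreducible constituent θ of the restriction of χ to N satisfies θ (n ^ k) = θ n for all n. -/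
theorem result {G : Type*} [Group G] [Fintype G] (p : ℕ) [Fact p.Prime] (N : Subgroup G) [N.Normal] [Fintype N] (hidx : ¬ p ∣ N.index) (k e : ℕ) (hk : Nat.Coprime k (Nat.card G)) (hke : k ^ (p ^ e) ≡ 1 [MOD Nat.card G]) (χ : Cfsg.IrrCharacter G) (hχ : ∀ g : G, (χ : G → ℂ) (g ^ k) = (χ : G → ℂ) g) (θ : Cfsg.IrrCharacter N) (hθ : Cfsg.classInner (fun n : N => (χ : G → ℂ) n) (θ : N → ℂ) ≠ 0) : ∀ n : N, (θ : N → ℂ) (n ^ k) = (θ : N → ℂ) n := by
  classical
  have hkN := Cfsg.Agent.H81.coprime_subgroup hk N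
  let K := {ψ : Cfsg.IrrCharacter N //
    Cfsg.classInner (fun n : N => (χ : G → ℂ) n) (ψ : N → ℂ) ≠ 0}
  haveI : Fintype K := Fintype.ofFinite K
  -- the constituents form one orbit, of size prime to `p`
  let T := Cfsg.Agent.CharInduce.inertia N (θ : N → ℂ)
  let f : G ⧸ T → K := Quotient.lift
    (fun x : G => (⟨⟨Cfsg.Agent.CharInduce.conjFun N (θ : N → ℂ) x⁻¹,
      Cfsg.Agent.CharInduce.isIrrCharacter_conjFun N θ.2 x⁻¹⟩, by
        rw [Cfsg.Agent.CharInduce.classInner_res_conjFun N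
          (Cfsg.Agent.CharBasic.IsIrr.isClassFunction χ.2)]
        exact hθ⟩ : K)) fun a b hab => Subtype.ext (Subtype.ext (by
      have h : a⁻¹ * b ∈ T := QuotientGroup.leftRel_apply.1 hab
      refine (Cfsg.Agent.CharInduce.conjFun_eq_iff N _ _ _).2 ?_
      rwa [inv_inv]))
  have hf : Function.Bijective f := by
    constructor
    · refine Quotient.ind₂ fun a b h => Quotient.sound ?_
      have h' := (Cfsg.Agent.CharInduce.conjFun_eq_iff N _ _ _).1
        (congrArg (fun z : K => ((z.1 : Cfsg.IrrCharacter N) : N → ℂ)) h)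
      rw [inv_inv] at h'
      exact QuotientGroup.leftRel_apply.2 h'
    · rintro ⟨ψ, hψ⟩
      obtain ⟨x, hx⟩ := Cfsg.Agent.CharInduce.exists_conjFun_eq_of_constituent N χ.2 θ.2 ψ.2 hθ hψ
      refine ⟨Quotient.mk'' x⁻¹, Subtype.ext (Subtype.ext ?_)⟩
      show Cfsg.Agent.CharInduce.conjFun N (θ : N → ℂ) x⁻¹⁻¹ = _
      rw [inv_inv, hx]
  have hcardK : ¬ p ∣ Fintype.card K := by
    rw [← Nat.card_eq_fintype_card, ← Nat.card_eq_of_bijective f hf, ← Subgroup.index_eq_card]
    exact fun h => hidx (h.trans (Subgroup.index_dvd_of_le (Cfsg.Agent.CharInduce.le_inertia N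
      (Cfsg.Agent.CharBasic.IsIrr.isClassFunction θ.2))))
  let τ₀ : K → K := fun ψ => ⟨Cfsg.Agent.H81.powIrr hkN ψ.1, by
    have h := Cfsg.Agent.H81.classInner_comp_pow hkN (fun n : N => (χ : G → ℂ) n) (ψ.1 : N → ℂ)
    simp only [Subgroup.coe_pow, hχ] at h
    show Cfsg.classInner _ (fun n : N => (ψ.1 : N → ℂ) (n ^ k)) ≠ 0
    rw [h]
    exact ψ.2⟩
  let τ : Equiv.Perm K := Equiv.ofBijective τ₀ (Finite.injective_iff_bijective.1 fun a b h =>
    Subtype.ext (Cfsg.Agent.H81.powIrr_injective hkN (congrArg Subtype.val h)))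
  have hit : ∀ (m : ℕ) (ψ : K), ((τ ^ m) ψ).1 = (Cfsg.Agent.H81.powIrr hkN)^[m] ψ.1 := by
    intro m
    induction m with
    | zero => intro ψ; rfl
    | succ m ih =>
      intro ψ
      rw [pow_succ', Function.iterate_succ_apply', ← ih]
      rfl
  have hτ : τ ^ p ^ e = 1 := by
    refine Equiv.ext fun ψ => Subtype.ext (Subtype.ext (funext fun n => ?_))
    rw [hit, Cfsg.Agent.H81.powIrr_iterate]
    show _ = (ψ.1 : N → ℂ) n
    rw [Cfsg.Agent.H81.pow_pow_eq_self (hke.of_dvd N.card_subgroup_dvd_card)]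
  obtain ⟨ψ, hψ⟩ := Equiv.Perm.exists_fixed_point_of_prime hcardK hτ
  have hψfix : ∀ n : N, (ψ.1 : N → ℂ) (n ^ k) = (ψ.1 : N → ℂ) n := fun n =>
    congrFun (congrArg (fun z : K => ((z.1 : Cfsg.IrrCharacter N) : N → ℂ)) hψ) n
  obtain ⟨x, hx⟩ :=
    Cfsg.Agent.CharInduce.exists_conjFun_eq_of_constituent N χ.2 ψ.1.2 θ.2 ψ.2 hθ
  intro n
  rw [hx]
  have h := congrFun (Cfsg.Agent.H81.conjFun_comp_pow (ψ.1 : N → ℂ) x k) n
  rw [funext hψfix] at h
  exact h.symm

end Cfsg.Agent.S4518
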