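import Cfsg.Statements.S4519
import Cfsg.Agent.H81.FixedOver
import Cfsg.Agent.H81.CliffordInduce

set_option autoImplicit false
open Cfsg

namespace Cfsg.Agent.S4519

/-- Let N be a normal subgroup of odd index in the finite group G, and let k be coprime to the order of G with k ^ (2 ^ e) ≡ 1 modulo the order of G for some e and g ^ k = g⁻¹ for every element g of odd order (so g ↦ g ^ k induces a field automorphism of 2-power order inverting the roots of unity of odd order). If an irreducible character θ of N satisfies θ (n ^ k) = θ n for all n, then there is exactly one irreducible character χ of G with θ a constituent of its restriction to N and χ (g ^ k) = χ g for all g; moreover, if θ is invariant under conjugation by G, that χ restricts to θ. -/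
theorem result {G : Type*} [Group G] [Fintype G] (N : Subgroup G) [hN : N.Normal] [Fintype N] (hidx : Odd N.index) (k e : ℕ) (hk : Nat.Coprime k (Nat.card G)) (hke : k ^ (2 ^ e) ≡ 1 [MOD Nat.card G]) (hk₂ : ∀ g : G, Odd (orderOf g) → g ^ k = g⁻¹) (θ : Cfsg.IrrCharacter N) (hθ : ∀ n : N, (θ : N → ℂ) (n ^ k) = (θ : N → ℂ) n) : ∃ χ : Cfsg.IrrCharacter G, (Cfsg.classInner (fun n : N => (χ : G → ℂ) n) (θ : N → ℂ) ≠ 0 ∧ (∀ g : G, (χ : G → ℂ) (g ^ k) = (χ : G → ℂ) g) ∧ ((∀ g : G, ∀ n : N, (θ : N → ℂ) ⟨g * n * g⁻¹, hN.conj_mem n n.2 g⟩ = (θ : N → ℂ) n) → ∀ n : N, (χ : G → ℂ) n = (θ : N → ℂ) n)) ∧ ∀ χ' : Cfsg.IrrCharacter G, Cfsg.classInner (fun n : N => (χ' : G → ℂ) n) (θ : N → ℂ) ≠ 0 → (∀ g : G, (χ' : G → ℂ) (g ^ k) = (χ' : G → ℂ) g) → χ' = χ := by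
  classical
  have hθirr : Cfsg.IsIrrCharacter N (θ : N → ℂ) := θ.2
  let T := Cfsg.Agent.CharInduce.inertia N (θ : N → ℂ)
  have hle : N ≤ T := Cfsg.Agent.CharInduce.le_inertia N
    (Cfsg.Agent.CharBasic.IsIrr.isClassFunction θ.2)
  haveI := Fintype.ofFinite T
  haveI := Fintype.ofFinite (N.subgroupOf T)
  have hkT := Cfsg.Agent.H81.coprime_subgroup hk T
  have hk₂T : ∀ g : T, Odd (orderOf g) → g ^ k = g⁻¹ := fun g hg => Subtype.ext
    (by simpa using hk₂ (g : G) (by rwa [Subgroup.orderOf_coe]))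
  have hoddT : Odd (N.subgroupOf T).index :=
    hidx.of_dvd_nat (Subgroup.relIndex_dvd_index_of_normal N T)
  let θ' : N.subgroupOf T → ℂ := fun n => (θ : N → ℂ) (Subgroup.subgroupOfEquivOfLe hle n)
  have hθ' : Cfsg.IsIrrCharacter (N.subgroupOf T) θ' :=
    Cfsg.Agent.CharInduce.IsIrr.comp θ.2 (Subgroup.subgroupOfEquivOfLe hle).toMonoidHom
      (Subgroup.subgroupOfEquivOfLe hle).surjective
  have hinv' : ∀ x : T, Cfsg.Agent.CharInduce.conjFun (N.subgroupOf T) θ' x = θ' := fun x =>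
    funext fun n => congrFun ((Cfsg.Agent.CharInduce.mem_inertia N).1 x.2) ⟨_, n.2⟩
  have hfix' : ∀ n : N.subgroupOf T, θ' (n ^ k) = θ' n := fun n => by
    show (θ : N → ℂ) _ = _
    rw [map_pow, hθ]
  obtain ⟨η, hη, hηN, hηk⟩ :=
    Cfsg.Agent.H81.exists_fixed_extension (N.subgroupOf T) hθ' hinv' hoddT hkT hk₂T hfix'
  have hηN' : ∀ n : N, η ⟨n, hle n.2⟩ = ((1 : ℕ) : ℂ) * (θ : N → ℂ) n := fun n => by
    rw [Nat.cast_one, one_mul]; exact hηN ⟨⟨n, hle n.2⟩, n.2⟩
  have hχ : Cfsg.IsIrrCharacter G (Cfsg.indFun T η) := by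
    refine Cfsg.Agent.CharInduce.isIrr_of_norm_one
      (Cfsg.Agent.CharInduce.IsChar.ind T (Cfsg.Agent.CharBasic.IsIrr.isCharacter hη)) ?_
    rw [Cfsg.Agent.H81.classInner_indFun_inertia N θ.2 hη hη 1 1 hηN' hηN',
      Cfsg.Agent.CharBasic.classInner_irr_self hη]
  have hmult := Cfsg.Agent.H81.classInner_indFun_inertia_res N θ.2 η _ hηN'
  rw [Nat.cast_one] at hmult
  refine ⟨⟨_, hχ⟩, ⟨by rw [hmult]; exact one_ne_zero, fun g => ?_, fun hinv n => ?_⟩,
    fun χ' hover hfix => ?_⟩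
  · show Cfsg.indFun T η (g ^ k) = Cfsg.indFun T η g
    rw [Cfsg.Agent.H81.indFun_comp_pow hk, funext hηk]
  · have hT : ∀ x : G, x ∈ T := fun x =>
      (Cfsg.Agent.CharInduce.mem_inertia N).2 (funext fun m => hinv x m)
    show Cfsg.indFun T η (n : G) = _
    have hcard : (Nat.card T : ℂ) = (Fintype.card G : ℂ) := by
      rw [show T = ⊤ from Subgroup.eq_top_iff' T |>.2 hT, Subgroup.card_top,
        Nat.card_eq_fintype_card]
    rw [Cfsg.Agent.CharInduce.indFun_apply, hcard]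
    have hterm : ∀ x : G, Cfsg.extendByZero T η (x⁻¹ * (n : G) * x) = (θ : N → ℂ) n := by
      intro x
      have hm : x⁻¹ * (n : G) * x ∈ N := by simpa using hN.conj_mem _ n.2 x⁻¹
      rw [Cfsg.Agent.CharInduce.extendByZero_of_mem η (hle hm), hηN' ⟨_, hm⟩, Nat.cast_one,
        one_mul]
      have h := hinv x⁻¹ n
      simpa using h
    simp only [hterm, Finset.sum_const, Finset.card_univ, nsmul_eq_mul]
    rw [← mul_assoc, inv_mul_cancel₀ (by exact_mod_cast Fintype.card_ne_zero), one_mul]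
  · obtain ⟨φ, hφ, hind, f, hf, hφN⟩ :=
      Cfsg.Agent.CharInduce.exists_clifford_correspondent N χ'.2 θ.2 hover
    have hφ' := Cfsg.Agent.H81.isIrr_comp_pow hkT hφ
    have hφN' : ∀ n : N, φ ((⟨n, hle n.2⟩ : T) ^ k) = (f : ℂ) * (θ : N → ℂ) n := fun n => by
      rw [← hθ n, ← hφN (n ^ k)]
      rfl
    have hφfix : (fun t => φ (t ^ k)) = φ := by
      by_contra hne
      have h1 := Cfsg.Agent.H81.classInner_indFun_inertia N θ.2 hφ' hφ f f hφN' hφN
      rw [Cfsg.Agent.CharBasic.classInner_irr_of_ne hφ' hφ hne] at h1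
      have h2 : Cfsg.indFun T (fun t => φ (t ^ k)) = (χ' : G → ℂ) := funext fun g => by
        rw [← Cfsg.Agent.H81.indFun_comp_pow hk, hind, hfix]
      rw [h2, hind, Cfsg.Agent.CharBasic.classInner_irr_self χ'.2] at h1
      exact one_ne_zero h1
    have hφη : φ = η := by
      refine Cfsg.Agent.H81.eq_of_fixed_over (N.subgroupOf T) hθ' hinv' hoddT hkT hk₂T hfix' hφ hη
        ?_ ?_ (congrFun hφfix) hηk
      · rw [show (fun n : N.subgroupOf T => φ n) = (f : ℂ) • θ' from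
          funext fun n => hφN ⟨_, n.2⟩, Cfsg.Agent.CharBasic.classInner_smul_left,
          Cfsg.Agent.CharBasic.classInner_irr_self hθ', mul_one]
        exact_mod_cast hf.ne'
      · rw [show (fun n : N.subgroupOf T => η n) = θ' from funext hηN,
          Cfsg.Agent.CharBasic.classInner_irr_self hθ']
        exact one_ne_zero
    refine Subtype.ext ?_
    show (χ' : G → ℂ) = Cfsg.indFun T η
    rw [← hind, hφη]

end Cfsg.Agent.S4519
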