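import Cfsg.Statements.S4520
import Cfsg.Agent.S4519
import Cfsg.Agent.H81.CoverParity
-- import your own Cfsg.Agent.* helpers here

set_option autoImplicit false
open Cfsg

namespace Cfsg.Agent.S4520

/-- Let N be a normal subgroup of odd index in the finite group G, M a maximal ideal of the algebraic integers containing 2, and k coprime to the order of G with k ^ (2 ^ e) ≡ 1 modulo the order of G for some e and g ^ k = g⁻¹ for every element g of odd order. Let θ be an irreducible character of N and χ an irreducible character of G over θ, both unchanged by composing with g ↦ g ^ k. Then χ lies in the principal 2-block of G if and only if θ lies in the principal 2-block of N. -/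
theorem result {G : Type*} [Group G] [Fintype G] (M : Ideal Cfsg.AlgInt) (hM : Cfsg.IsPModular 2 M) (N : Subgroup G) [N.Normal] [Fintype N] (hidx : Odd N.index) (k e : ℕ) (hk : Nat.Coprime k (Nat.card G)) (hke : k ^ (2 ^ e) ≡ 1 [MOD Nat.card G]) (hk₂ : ∀ g : G, Odd (orderOf g) → g ^ k = g⁻¹) (θ : Cfsg.IrrCharacter N) (hθ : ∀ n : N, (θ : N → ℂ) (n ^ k) = (θ : N → ℂ) n) (χ : Cfsg.IrrCharacter G) (hχ : ∀ g : G, (χ : G → ℂ) (g ^ k) = (χ : G → ℂ) g) (hover : Cfsg.classInner (fun n : N => (χ : G → ℂ) n) (θ : N → ℂ) ≠ 0) : χ ∈ Cfsg.principalBlock M G ↔ θ ∈ Cfsg.principalBlock M N := by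
  classical
  refine ⟨fun h => Cfsg.Agent.H81.mem_principalBlock_of_over N hM h hover, fun h => ?_⟩
  obtain ⟨χ₀, -, huniq⟩ := Cfsg.Agent.S4519.result N hidx k e hk hke hk₂ θ hθ
  have heq : ∀ ψ : Cfsg.IrrCharacter G, Odd (Cfsg.Agent.H81.overMult N θ ψ) →
      (∀ g : G, (ψ : G → ℂ) (g ^ k) = (ψ : G → ℂ) g) → ψ = χ := by
    intro ψ hψ hψk
    have hne : Cfsg.classInner (fun n : N => (ψ : G → ℂ) n) (θ : N → ℂ) ≠ 0 := by
      rw [← Cfsg.Agent.H81.cast_overMult]
      exact Nat.cast_ne_zero.2 hψ.pos.ne'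
    rw [huniq ψ hne hψk, huniq χ hover hχ]
  let one : Cfsg.IrrCharacter N := Cfsg.Agent.BlockBasic.trivialIrr
  obtain ⟨χ₁, -, huniq₁⟩ := Cfsg.Agent.S4519.result N hidx k e hk hke hk₂ one (fun _ => rfl)
  let One : Cfsg.IrrCharacter G := Cfsg.Agent.BlockBasic.trivialIrr
  have hB := Cfsg.Agent.BlockBasic.isPBlock_principalBlock (G := G) M
  have hstable : ∀ ψ ∈ Cfsg.principalBlock M G,
      Cfsg.Agent.H81.powIrr hk ψ ∈ Cfsg.principalBlock M G :=
    fun ψ hψ => Cfsg.Agent.H81.powIrr_mem_principalBlock hk hψ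
  have hOne : One ∈ Cfsg.principalBlock M G := Cfsg.Agent.BlockBasic.sameBlock_refl hM _
  have hover₁ : Cfsg.classInner (fun n : N => (One : G → ℂ) n) (one : N → ℂ) = 1 :=
    Cfsg.Agent.CharBasic.classInner_irr_self one.2
  have hmult₁ : Cfsg.Agent.H81.overMult N one One = 1 := by
    have := Cfsg.Agent.H81.cast_overMult N one One
    rw [hover₁] at this
    exact_mod_cast this
  -- the trivial character is the only fixed one over the trivial character
  have hone : Nat.card {ψ : Cfsg.IrrCharacter G // ψ ∈ Cfsg.principalBlock M G ∧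
      Odd (Cfsg.Agent.H81.overMult N one ψ) ∧ ∀ g : G, (ψ : G → ℂ) (g ^ k) = (ψ : G → ℂ) g} = 1 := by
    rw [Nat.card_eq_one_iff_unique]
    refine ⟨⟨fun a b => Subtype.ext ?_⟩, ⟨⟨One, hOne, by rw [hmult₁]; exact odd_one, fun _ => rfl⟩⟩⟩
    have hne : ∀ ψ : Cfsg.IrrCharacter G, Odd (Cfsg.Agent.H81.overMult N one ψ) →
        Cfsg.classInner (fun n : N => (ψ : G → ℂ) n) (one : N → ℂ) ≠ 0 := by
      intro ψ hψ
      rw [← Cfsg.Agent.H81.cast_overMult]
      exact Nat.cast_ne_zero.2 hψ.pos.ne'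
    rw [huniq₁ a.1 (hne _ a.2.2.1) a.2.2.2, huniq₁ b.1 (hne _ b.2.2.1) b.2.2.2]
  have h1 := Cfsg.Agent.H81.card_fixed_over_modEq N hidx hk hke one (fun _ => rfl) _ hstable
  have h2 := Cfsg.Agent.H81.card_fixed_over_modEq N hidx hk hke θ hθ _ hstable
  have h3 := Cfsg.Agent.H81.overWeight_modEq N hM hB
    (θ := one) (φ := θ) h
  rw [hone] at h1
  have h4 := ((h1.trans h3).trans h2.symm)
  have hpos : 0 < Nat.card {ψ : Cfsg.IrrCharacter G // ψ ∈ Cfsg.principalBlock M G ∧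
      Odd (Cfsg.Agent.H81.overMult N θ ψ) ∧ ∀ g : G, (ψ : G → ℂ) (g ^ k) = (ψ : G → ℂ) g} := by
    rw [Nat.pos_iff_ne_zero]
    intro h0
    rw [h0] at h4
    exact absurd h4 (by decide)
  obtain ⟨⟨ψ, hψB, hψe, hψk⟩⟩ := (Nat.card_pos_iff.1 hpos).1
  exact heq ψ hψe hψk ▸ hψB

end Cfsg.Agent.S4520
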