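import Cfsg.Statements.S4539
import Cfsg.Agent.H83.MajorContrib

set_option autoImplicit false
set_option linter.style.haveILetI false
open Cfsg

namespace Cfsg.Agent.S4539

open Polynomial
open scoped ComplexConjugate

universe u

variable {G : Type u} [Group G] [Fintype G] {p : ℕ} [hp : Fact p.Prime] {M : Ideal Cfsg.AlgInt}

omit [Fintype G] in
/-- The sum of a power over the primitive roots of prime power order. -/
theorem sum_primitiveRoots_pow {m : ℕ} {ζ : ℂ} (hζ : IsPrimitiveRoot ζ (p ^ (m + 1))) (j : ℕ) :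
    ∑ η ∈ primitiveRoots (p ^ (m + 1)) ℂ, η ^ j =
      (p : ℂ) ^ m * ((if p ^ (m + 1) ∣ j then (p : ℂ) else 0) - if p ^ m ∣ j then 1 else 0) := by
  classical
  have hN0 : 0 < p ^ (m + 1) := pow_pos hp.out.pos _
  have hS : primitiveRoots (p ^ (m + 1)) ℂ =
      ((Finset.range (p ^ (m + 1))).filter fun i => ¬ p ∣ i).image (ζ ^ ·) := by
    ext η
    rw [mem_primitiveRoots hN0, Finset.mem_image, hζ.isPrimitiveRoot_iff]
    constructor
    · rintro ⟨i, hi, hco, rfl⟩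
      refine ⟨i, Finset.mem_filter.2 ⟨Finset.mem_range.2 hi, fun h => ?_⟩, rfl⟩
      exact hp.out.not_dvd_one (hco ▸ Nat.dvd_gcd h (dvd_pow_self p (Nat.succ_ne_zero m)))
    · rintro ⟨i, hi, rfl⟩
      obtain ⟨hi, hpi⟩ := Finset.mem_filter.1 hi
      exact ⟨i, Finset.mem_range.1 hi,
        Nat.Coprime.pow_right _ ((hp.out.coprime_iff_not_dvd.2 hpi).symm), rfl⟩
  have hinj : Set.InjOn (ζ ^ ·) ↑((Finset.range (p ^ (m + 1))).filter fun i => ¬ p ∣ i) :=
    fun a ha c hc h => hζ.pow_inj (Finset.mem_range.1 (Finset.mem_filter.1 ha).1)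
      (Finset.mem_range.1 (Finset.mem_filter.1 hc).1) h
  have hgeom : ∀ (ω : ℂ) (N : ℕ), ω ^ N = 1 →
      ∑ i ∈ Finset.range N, ω ^ i = if ω = 1 then (N : ℂ) else 0 := by
    intro ω N hω
    split_ifs with h
    · simp [h]
    · rw [geom_sum_eq h, hω, sub_self, zero_div]
  have h1 := hgeom (ζ ^ j) (p ^ (m + 1)) (by rw [← pow_mul, mul_comm, pow_mul, hζ.pow_eq_one, one_pow])
  have h2 := hgeom ((ζ ^ j) ^ p) (p ^ m) (by
    rw [← pow_mul, ← pow_mul, mul_comm p, ← pow_succ, mul_comm, pow_mul, hζ.pow_eq_one, one_pow])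
  have hmult : ∑ i ∈ (Finset.range (p ^ (m + 1))).filter (fun i => p ∣ i), (ζ ^ j) ^ i =
      ∑ i ∈ Finset.range (p ^ m), ((ζ ^ j) ^ p) ^ i := by
    refine (Finset.sum_bij' (fun i _ => p * i) (fun i _ => i / p) ?_ ?_ ?_ ?_ ?_).symm
    · intro i hi
      refine Finset.mem_filter.2 ⟨Finset.mem_range.2 ?_, dvd_mul_right _ _⟩
      rw [pow_succ']
      exact Nat.mul_lt_mul_of_pos_left (Finset.mem_range.1 hi) hp.out.pos
    · intro i hi
      obtain ⟨hi, hpi⟩ := Finset.mem_filter.1 hi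
      refine Finset.mem_range.2 (Nat.div_lt_of_lt_mul ?_)
      rw [← pow_succ']
      exact Finset.mem_range.1 hi
    · exact fun i _ => Nat.mul_div_cancel_left _ hp.out.pos
    · exact fun i hi => Nat.mul_div_cancel' (Finset.mem_filter.1 hi).2
    · intro i _; rw [pow_mul]
  have h3 := Finset.sum_filter_add_sum_filter_not (Finset.range (p ^ (m + 1))) (fun i => p ∣ i)
    fun i => (ζ ^ j) ^ i
  rw [hmult, h1, h2] at h3
  rw [hS, Finset.sum_image hinj]
  have h4 : ∀ i, (ζ ^ i) ^ j = (ζ ^ j) ^ i := fun i => by rw [← pow_mul, mul_comm, pow_mul]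
  simp only [h4]
  rw [eq_sub_of_add_eq' h3]
  simp only [hζ.pow_eq_one_iff_dvd, ← pow_mul]
  have hd : p ^ (m + 1) ∣ j * p ↔ p ^ m ∣ j := by
    rw [pow_succ, Nat.mul_dvd_mul_iff_right hp.out.pos]
  simp only [hd]
  split_ifs <;> push_cast <;> ring

omit [Fintype G] hp in
/-- The sum of the values of a form at differences. -/
theorem two_mul_diag {s : Finset ℕ} (x x' : ℕ → ℤ) :
    ∑ i ∈ s, ∑ j ∈ s, (x i - x j) * (x' i - x' j) =
      2 * ((s.card : ℤ) * ∑ i ∈ s, x i * x' i - (∑ i ∈ s, x i) * ∑ i ∈ s, x' i) := by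
  simp only [sub_mul, mul_sub, Finset.sum_sub_distrib, Finset.sum_const, ← Finset.mul_sum,
    ← Finset.sum_mul, nsmul_eq_mul]
  ring

open scoped Classical in
theorem main (hM : Cfsg.IsPModular p M) {B : Set (Cfsg.IrrCharacter G)} (hB : Cfsg.IsPBlock M B)
    {y : G} {n : ℕ} (hy : orderOf y = p ^ n) [Fintype ↥(Subgroup.centralizer ({y} : Set G))]
    {b : Set (Cfsg.IrrCharacter ↥(Subgroup.centralizer ({y} : Set G)))}
    (hind : Cfsg.IsInducedBlock M (Subgroup.centralizer ({y} : Set G)) b B)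
    (hbd : Cfsg.blockDefect p b = Cfsg.blockDefect p B) (hl : Cfsg.blockRank p b ≤ 2) :
    Nat.card B ≤ p ^ Cfsg.blockDefect p B := by
  haveI : NeZero (p ^ n) := ⟨pow_ne_zero _ hp.out.ne_zero⟩
  obtain ⟨ζ, e, hζ, hcol, hsymm, hall, hdiv⟩ := H83.exists_major_contrib hM hy hind hbd
  rw [hbd] at hcol
  have hb := hind.1
  set d := Cfsg.blockDefect p B with hddef
  set bf := Finset.univ.filter
    (fun ψ : Cfsg.IrrCharacter ↥(Subgroup.centralizer ({y} : Set G)) => ψ ∈ b) with hbf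
  have hbm : ∀ {ψ}, ψ ∈ bf → ψ ∈ b := fun h => (Finset.mem_filter.1 h).2
  set h : Cfsg.IrrCharacter G → ℕ := fun χ => Cfsg.blockHeight p B (χ : G → ℂ)
  set P : Cfsg.IrrCharacter G → Cfsg.IrrCharacter G → ℤ[X] := H83.contribPoly p (p ^ n) b e with hP
  set N := H83.entry p b with hN
  set S := primitiveRoots (p ^ n) ℂ with hS
  have hmem : ∀ {η}, η ∈ S → IsPrimitiveRoot η (p ^ n) :=
    fun h => (mem_primitiveRoots (NeZero.pos _)).1 h
  have hcard : (0 : ℝ) < (S.card : ℝ) := by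
    rw [Nat.cast_pos, Finset.card_pos]
    exact ⟨ζ, (mem_primitiveRoots (NeZero.pos _)).2 hζ⟩
  set Bf := Finset.univ.filter (fun χ : Cfsg.IrrCharacter G => χ ∈ B) with hBf
  have hk : Nat.card B = Bf.card := by rw [Nat.card_eq_fintype_card, Fintype.card_subtype]
  rw [hk]
  obtain ⟨θ₀, hθ₀, hθ₀0⟩ := H83.exists_height_zero hM hB
  have hθ₀f : θ₀ ∈ Bf := Finset.mem_filter.2 ⟨Finset.mem_univ _, hθ₀⟩
  have hunit : ∀ θ ∈ Bf, h θ = 0 → ¬ Cfsg.MemLocalIdeal M (aeval ζ (P θ θ)) := by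
    intro θ hθ hθ0
    obtain ⟨H, hH, hHM⟩ := hdiv θ (Finset.mem_filter.1 hθ).2 θ (Finset.mem_filter.1 hθ).2
    rw [hH ζ hζ]
    simp only [h] at hθ0
    rw [hθ0, pow_zero, one_mul, hHM]
    omega
  have hne : ∀ χ ∈ Bf, ∀ θ ∈ Bf, h θ = 0 → aeval ζ (P χ θ) ≠ 0 := by
    intro χ hχ θ hθ hθ0 h0
    obtain ⟨H, hH, hHM⟩ := hdiv χ (Finset.mem_filter.1 hχ).2 θ (Finset.mem_filter.1 hθ).2
    rw [hH ζ hζ, mul_eq_zero] at h0
    rw [h0.resolve_left (pow_ne_zero _ (Nat.cast_ne_zero.2 hp.out.ne_zero))] at hHM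
    have := hHM.1 (BlockBasic.memLocalIdeal_zero hM)
    simp only [h] at hθ0
    omega
  have htr : ∑ χ ∈ Bf, ∑ η ∈ S, (aeval η (P χ χ)).re ≤ (S.card : ℝ) * ((p : ℝ) ^ d * 2) := by
    rw [Finset.sum_comm, Finset.sum_congr rfl fun η hη => (hall η (hmem hη)).2.1, Finset.sum_const,
      nsmul_eq_mul]
    gcongr
    exact_mod_cast hl
  -- the form
  set Q : (Cfsg.IrrCharacter ↥(Subgroup.centralizer ({y} : Set G)) → ℤ) → ℤ :=
    fun x => ∑ ψ ∈ bf, ∑ ψ' ∈ bf, x ψ * x ψ' * N ψ ψ' with hQdef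
  have hproj : ∀ a ∈ bf, ∀ c ∈ bf, ∑ κ ∈ bf, N a κ * N κ c = (p : ℤ) ^ d * N a c := by
    intro a ha c hc
    rw [← hbd, hN, ← H83.sum_entry_mul hM hb (hbm ha) (hbm hc)]
    refine Finset.sum_subset (Finset.subset_univ _) fun κ _ hκ => ?_
    rw [H83.entry_eq_zero hM hb (hbm ha) (fun h => hκ (Finset.mem_filter.2 ⟨Finset.mem_univ _, h⟩)),
      zero_mul]
  have hsymN : ∀ a ∈ bf, ∀ c ∈ bf, N a c = N c a := fun a ha c hc =>
    H83.entry_symm hM hb (hbm ha) (hbm hc)
  have hQsq : ∀ x, (p : ℤ) ^ d * Q x = ∑ κ ∈ bf, (∑ ψ ∈ bf, x ψ * N κ ψ) ^ 2 := by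
    intro x
    simp only [hQdef, sq, Finset.sum_mul_sum]
    rw [Finset.mul_sum]
    symm
    rw [Finset.sum_comm]
    refine Finset.sum_congr rfl fun ψ hψ => ?_
    rw [Finset.mul_sum, Finset.sum_comm]
    refine Finset.sum_congr rfl fun ψ' hψ' => ?_
    calc ∑ κ ∈ bf, x ψ * N κ ψ * (x ψ' * N κ ψ')
        = x ψ * x ψ' * ∑ κ ∈ bf, N ψ κ * N κ ψ' := by
          rw [Finset.mul_sum]
          exact Finset.sum_congr rfl fun κ hκ => by rw [hsymN κ hκ ψ hψ]; ring
      _ = _ := by rw [hproj ψ hψ ψ' hψ']; ring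
  by_cases hone : ∃ v, Q v = 1
  swap
  · -- every value of the form is zero or at least two
    push Not at hone
    have hcase : ∀ x, (∀ κ ∈ bf, ∑ ψ ∈ bf, x ψ * N κ ψ = 0) ∨ 2 ≤ Q x := by
      intro x
      have hpd : (0 : ℤ) < (p : ℤ) ^ d := pow_pos (by exact_mod_cast hp.out.pos) d
      have hsq := hQsq x
      have hnn : 0 ≤ Q x := (mul_nonneg_iff_of_pos_left hpd).1
        (hsq ▸ Finset.sum_nonneg fun κ _ => sq_nonneg _)
      rcases eq_or_ne (Q x) 0 with h0 | h0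
      · left
        rw [h0, mul_zero, eq_comm, Finset.sum_eq_zero_iff_of_nonneg fun _ _ => sq_nonneg _] at hsq
        exact fun κ hκ => sq_eq_zero_iff.1 (hsq κ hκ)
      · right
        have := hone x
        omega
    have hdiag : ∀ χ ∈ Bf, (2 : ℝ) * (S.card : ℝ) ≤ ∑ η ∈ S, (aeval η (P χ χ)).re := by
      intro χ hχ
      have hχ0 : aeval ζ (P χ χ) ≠ 0 := by
        intro h0
        have h1 := (hall ζ hζ).1 χ
        rw [h0, Complex.zero_re, mul_zero,
          Finset.sum_eq_zero_iff_of_nonneg fun _ _ => sq_nonneg _] at h1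
        have h2 := h1 θ₀ hθ₀f
        rw [sq_eq_zero_iff, norm_eq_zero] at h2
        exact hne χ hχ θ₀ hθ₀f hθ₀0 h2
      set m : Cfsg.IrrCharacter ↥(Subgroup.centralizer ({y} : Set G)) → ℤ :=
        fun ψ => (H83.mult χ ψ : ℤ) with hm
      have hPη : ∀ η : ℂ, aeval η (P χ χ) = ∑ ψ ∈ bf, ∑ ψ' ∈ bf,
          ((m ψ * m ψ' * N ψ ψ' : ℤ) : ℂ) * η ^ (e ψ + (p ^ n - 1) * e ψ') := fun η => by
        simp [hP, H83.contribPoly, H83.contribCoeff, hm, hN, hbf]
      rcases Nat.eq_zero_or_pos n with hn0 | hn0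
      · -- a single conjugate
        have hone' : ∀ η : ℂ, η ^ p ^ n = 1 → aeval η (P χ χ) = (Q m : ℂ) := fun η hη => by
          rw [hn0, pow_zero, pow_one] at hη
          simp [hPη, hη, hQdef]
        rw [Finset.sum_congr rfl fun η hη => by rw [hone' η (hmem hη).pow_eq_one],
          Finset.sum_const, nsmul_eq_mul, Complex.intCast_re, mul_comm]
        refine mul_le_mul_of_nonneg_left ?_ hcard.le
        rcases hcase m with h1 | h1
        · exfalso
          have h2 := hQsq m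
          rw [Finset.sum_eq_zero fun κ hκ => by rw [h1 κ hκ, zero_pow two_ne_zero],
            mul_eq_zero] at h2
          rw [hone' ζ hζ.pow_eq_one, Int.cast_ne_zero] at hχ0
          exact hχ0 (h2.resolve_left (pow_ne_zero _ (by exact_mod_cast hp.out.ne_zero)))
        · exact_mod_cast h1
      obtain ⟨c, rfl⟩ : ∃ c, n = c + 1 := ⟨n - 1, by omega⟩
      set I : ℤ := ∑ ψ ∈ bf, ∑ ψ' ∈ bf, m ψ * m ψ' * N ψ ψ' *
        ((if e ψ % p ^ (c + 1) = e ψ' % p ^ (c + 1) then (p : ℤ) else 0) -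
          if e ψ % p ^ c = e ψ' % p ^ c then 1 else 0) with hI
      have hdvd : ∀ (q a a' : ℕ), q ∣ p ^ (c + 1) →
          (q ∣ a + (p ^ (c + 1) - 1) * a' ↔ a % q = a' % q) := by
        intro q a a' hq
        obtain ⟨t, ht⟩ := hq
        have h2 : a + (p ^ (c + 1) - 1) * a' + a' = a + q * (t * a') := by
          have : (p ^ (c + 1) - 1) * a' + a' = p ^ (c + 1) * a' := by
            rw [← Nat.succ_mul]
            congr 1
            have := pow_pos hp.out.pos (c + 1)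
            omega
          rw [add_assoc, this, ht, mul_assoc]
        constructor
        · intro h
          have h1 : (a + (p ^ (c + 1) - 1) * a' + a') % q = a' % q := by
            rw [Nat.add_mod, Nat.mod_eq_zero_of_dvd h |> id]; simp
          rwa [h2, Nat.add_mul_mod_self_left] at h1
        · intro h
          have h3 : (a + (p ^ (c + 1) - 1) * a' + a') % q = (0 + a') % q := by
            rw [h2, Nat.add_mul_mod_self_left, h, zero_add]
          exact Nat.modEq_zero_iff_dvd.1 (Nat.ModEq.add_right_cancel' a' h3)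
      have hsum : ∑ η ∈ S, aeval η (P χ χ) = (p : ℂ) ^ c * (I : ℂ) := by
        simp only [hPη, hI, Int.cast_sum, Finset.mul_sum]
        rw [Finset.sum_comm]
        refine Finset.sum_congr rfl fun ψ _ => ?_
        rw [Finset.sum_comm]
        refine Finset.sum_congr rfl fun ψ' _ => ?_
        rw [← Finset.mul_sum, hS, sum_primitiveRoots_pow hζ]
        simp only [hdvd _ _ _ dvd_rfl, hdvd _ _ _ (pow_dvd_pow p (Nat.le_succ c))]
        push_cast
        ring
      set x : ℕ → ℕ → Cfsg.IrrCharacter ↥(Subgroup.centralizer ({y} : Set G)) → ℤ :=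
        fun r i ψ => if e ψ % p ^ (c + 1) = r + p ^ c * i then m ψ else 0 with hx
      set q : ℕ → ℕ → ℕ → ℤ := fun r i j => Q (fun ψ => x r i ψ - x r j ψ) with hq
      have hpc : 0 < p ^ c := pow_pos hp.out.pos c
      have hdig : ∀ ψ : Cfsg.IrrCharacter ↥(Subgroup.centralizer ({y} : Set G)),
          e ψ % p ^ c < p ^ c ∧ e ψ % p ^ (c + 1) / p ^ c < p ∧
          e ψ % p ^ (c + 1) = e ψ % p ^ c + p ^ c * (e ψ % p ^ (c + 1) / p ^ c) := by
        intro ψ
        refine ⟨Nat.mod_lt _ hpc, Nat.div_lt_of_lt_mul ?_, ?_⟩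
        · rw [← pow_succ]
          exact Nat.mod_lt _ (pow_pos hp.out.pos _)
        · rw [← Nat.mod_mod_of_dvd (e ψ) (pow_dvd_pow p (Nat.le_succ c))]
          exact (Nat.mod_add_div _ _).symm
      have hxeq : ∀ ψ r i, r < p ^ c → x r i ψ =
          if r = e ψ % p ^ c ∧ i = e ψ % p ^ (c + 1) / p ^ c then m ψ else 0 := by
        intro ψ r i hr
        simp only [hx]
        refine if_congr ⟨fun h => ?_, fun ⟨h1, h2⟩ => ?_⟩ rfl rfl
        · rw [← Nat.mod_mod_of_dvd (e ψ) (pow_dvd_pow p (Nat.le_succ c)), h,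
            Nat.add_mul_mod_self_left, Nat.mod_eq_of_lt hr, Nat.add_mul_div_left _ _ hpc,
            Nat.div_eq_of_lt hr, zero_add]
          exact ⟨rfl, rfl⟩
        · rw [h1, h2]
          exact (hdig ψ).2.2
      have h2I : ∑ r ∈ Finset.range (p ^ c), ∑ i ∈ Finset.range p, ∑ j ∈ Finset.range p, q r i j =
          2 * I := by
        have hloc : ∀ ψ ψ', ∑ r ∈ Finset.range (p ^ c), ∑ i ∈ Finset.range p, ∑ j ∈ Finset.range p,
            (x r i ψ - x r j ψ) * (x r i ψ' - x r j ψ') = 2 * (m ψ * m ψ' *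
              ((if e ψ % p ^ (c + 1) = e ψ' % p ^ (c + 1) then (p : ℤ) else 0) -
                if e ψ % p ^ c = e ψ' % p ^ c then 1 else 0)) := by
          intro ψ ψ'
          rw [Finset.sum_congr rfl fun r _ => two_mul_diag (fun i => x r i ψ) (fun i => x r i ψ'),
            ← Finset.mul_sum, Finset.card_range]
          congr 1
          obtain ⟨a1, a2, a3⟩ := hdig ψ
          obtain ⟨b1, b2, b3⟩ := hdig ψ'
          rw [Finset.sum_eq_single (e ψ % p ^ c)]
          rotate_left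
          · intro r hr hr'
            simp only [hxeq _ _ _ (Finset.mem_range.1 hr), hr', false_and, if_false, zero_mul,
              Finset.sum_const_zero, mul_zero, sub_self]
          · exact fun h => absurd (Finset.mem_range.2 a1) h
          simp only [hxeq _ _ _ a1, true_and]
          rw [Finset.sum_eq_single (e ψ % p ^ (c + 1) / p ^ c) (fun i _ hi => by simp [hi])
            (fun h => absurd (Finset.mem_range.2 a2) h), if_pos rfl,
            Finset.sum_ite_eq' (Finset.range p), if_pos (Finset.mem_range.2 a2)]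
          by_cases hr : e ψ % p ^ c = e ψ' % p ^ c
          · simp only [hr, true_and]
            rw [Finset.sum_ite_eq' (Finset.range p), if_pos (Finset.mem_range.2 b2), if_true]
            by_cases hi : e ψ % p ^ (c + 1) / p ^ c = e ψ' % p ^ (c + 1) / p ^ c
            · rw [if_pos hi, if_pos (by rw [a3, b3, hr, hi])]; ring
            · rw [if_neg hi, if_neg fun he => hi (by rw [he])]; ring
          · simp only [hr, false_and, if_false, Finset.sum_const_zero, mul_zero, sub_self]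
            rw [if_neg fun he => hr (by
              rw [← Nat.mod_mod_of_dvd (e ψ) (pow_dvd_pow p (Nat.le_succ c)), he,
                Nat.mod_mod_of_dvd (e ψ') (pow_dvd_pow p (Nat.le_succ c))])]
            simp
        simp only [hq, hQdef]
        rw [hI, Finset.mul_sum]
        calc ∑ r ∈ Finset.range (p ^ c), ∑ i ∈ Finset.range p, ∑ j ∈ Finset.range p, ∑ ψ ∈ bf,
              ∑ ψ' ∈ bf, (x r i ψ - x r j ψ) * (x r i ψ' - x r j ψ') * N ψ ψ'
            = ∑ ψ ∈ bf, ∑ ψ' ∈ bf, (∑ r ∈ Finset.range (p ^ c), ∑ i ∈ Finset.range p,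
              ∑ j ∈ Finset.range p, (x r i ψ - x r j ψ) * (x r i ψ' - x r j ψ')) * N ψ ψ' := by
              simp only [Finset.sum_mul]
              rw [Finset.sum_congr rfl fun r _ => Finset.sum_congr rfl fun i _ => Finset.sum_comm,
                Finset.sum_congr rfl fun r _ => Finset.sum_comm, Finset.sum_comm]
              refine Finset.sum_congr rfl fun ψ _ => ?_
              rw [Finset.sum_congr rfl fun r _ => Finset.sum_congr rfl fun i _ => Finset.sum_comm,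
                Finset.sum_congr rfl fun r _ => Finset.sum_comm, Finset.sum_comm]
          _ = _ := by
              refine Finset.sum_congr rfl fun ψ _ => ?_
              rw [Finset.mul_sum]
              exact Finset.sum_congr rfl fun ψ' _ => by rw [hloc]; ring
      -- some difference is not zero
      set V : ℕ → ℕ → Cfsg.IrrCharacter ↥(Subgroup.centralizer ({y} : Set G)) → ℤ :=
        fun r i κ => ∑ ψ ∈ bf, x r i ψ * N κ ψ with hV
      obtain ⟨r₁, hr₁, i₁, hi₁, κ₁, hκ₁, hVne⟩ : ∃ r ∈ Finset.range (p ^ c), ∃ i ∈ Finset.range p,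
          ∃ κ ∈ bf, V r i κ ≠ V r 0 κ := by
        by_contra hcon
        push Not at hcon
        apply hχ0
        set μ := ζ ^ (p ^ (c + 1) - 1) with hμ
        have hμprim : IsPrimitiveRoot μ (p ^ (c + 1)) := hζ.pow_of_coprime _
          (Nat.Coprime.pow_right _ ((hp.out.coprime_iff_not_dvd.2 fun h => by
            have h1 : p ∣ p ^ (c + 1) := dvd_pow_self p (Nat.succ_ne_zero c)
            have h2 := Nat.dvd_sub h1 h
            have := pow_pos hp.out.pos (c + 1)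
            rw [Nat.sub_sub_self (by omega)] at h2
            exact hp.out.not_dvd_one h2).symm))
        rw [hPη]
        refine Finset.sum_eq_zero fun ψ hψ => ?_
        calc ∑ ψ' ∈ bf, ((m ψ * m ψ' * N ψ ψ' : ℤ) : ℂ) * ζ ^ (e ψ + (p ^ (c + 1) - 1) * e ψ')
            = (m ψ : ℂ) * ζ ^ e ψ * ∑ r ∈ Finset.range (p ^ c), ∑ i ∈ Finset.range p,
                μ ^ (r + p ^ c * i) * (V r i ψ : ℂ) := by
              simp only [hV, Int.cast_sum, Int.cast_mul, Finset.mul_sum]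
              rw [Finset.sum_congr rfl fun r _ => Finset.sum_comm, Finset.sum_comm]
              refine Finset.sum_congr rfl fun ψ' _ => ?_
              obtain ⟨b1, b2, b3⟩ := hdig ψ'
              rw [Finset.sum_eq_single (e ψ' % p ^ c) (fun r hr hr' => Finset.sum_eq_zero fun i _ => by
                  simp [hxeq _ _ _ (Finset.mem_range.1 hr), hr'])
                (fun h => absurd (Finset.mem_range.2 b1) h),
                Finset.sum_eq_single (e ψ' % p ^ (c + 1) / p ^ c) (fun i _ hi => by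
                  simp [hxeq _ _ _ b1, hi])
                (fun h => absurd (Finset.mem_range.2 b2) h),
                hxeq _ _ _ b1, if_pos ⟨rfl, rfl⟩, ← b3, ← pow_eq_pow_mod _ hμprim.pow_eq_one,
                pow_add, pow_mul, ← hμ]
              ring
          _ = 0 := by
              rw [Finset.sum_eq_zero fun r hr => ?_, mul_zero]
              rw [Finset.sum_congr rfl fun i hi => by rw [hcon r hr i hi ψ hψ, pow_add, pow_mul, mul_assoc],
                ← Finset.mul_sum, ← Finset.sum_mul]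
              have hω : IsPrimitiveRoot (μ ^ p ^ c) p :=
                hμprim.pow (pow_pos hp.out.pos _) (by rw [pow_succ])
              rw [hω.geom_sum_eq_zero hp.out.one_lt, zero_mul, mul_zero]
      have hcase2 : ∀ r i j, (∀ κ ∈ bf, V r i κ = V r j κ) ∨ 2 ≤ q r i j := by
        intro r i j
        rcases hcase (fun ψ => x r i ψ - x r j ψ) with h1 | h1
        · refine Or.inl fun κ hκ => ?_
          have h2 := h1 κ hκ
          simpa only [sub_mul, Finset.sum_sub_distrib, sub_eq_zero] using h2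
        · exact Or.inr h1
      have hqnn : ∀ r i j, 0 ≤ q r i j := fun r i j => (mul_nonneg_iff_of_pos_left
        (pow_pos (by exact_mod_cast hp.out.pos) d)).1 ((hQsq _).symm ▸ Finset.sum_nonneg fun κ _ => sq_nonneg _)
      have hpair : ∀ j, 2 ≤ q r₁ 0 j + q r₁ i₁ j := by
        intro j
        rcases hcase2 r₁ 0 j with h | h
        · rcases hcase2 r₁ i₁ j with h' | h'
          · exact absurd ((h' κ₁ hκ₁).trans (h κ₁ hκ₁).symm) hVne
          · have := hqnn r₁ 0 j; omega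
        · have := hqnn r₁ i₁ j; omega
      have h0r : 0 ∈ Finset.range p := Finset.mem_range.2 hp.out.pos
      have hi10 : i₁ ≠ 0 := fun h => hVne (by rw [h])
      have h01 : 2 ≤ q r₁ 0 i₁ := by
        rcases hcase2 r₁ 0 i₁ with h | h
        · exact absurd (h κ₁ hκ₁).symm hVne
        · exact h
      have hsymq : ∀ i j, q r₁ i j = q r₁ j i := fun i j =>
        Finset.sum_congr rfl fun ψ _ => Finset.sum_congr rfl fun ψ' _ => by ring
      set U := ((Finset.range p).erase 0).erase i₁ with hU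
      have hi₁' : i₁ ∈ (Finset.range p).erase 0 := Finset.mem_erase.2 ⟨hi10, hi₁⟩
      have hsplit : ∀ f : ℕ → ℤ, ∑ a ∈ Finset.range p, f a = f 0 + (f i₁ + ∑ a ∈ U, f a) := fun f => by
        rw [← Finset.add_sum_erase _ _ h0r, ← Finset.add_sum_erase _ _ hi₁']
      have hUcard : (U.card : ℤ) = (p : ℤ) - 2 := by
        rw [hU, Finset.card_erase_of_mem hi₁', Finset.card_erase_of_mem h0r, Finset.card_range]
        have := hp.out.two_le
        omega
      have hUsum : (U.card : ℤ) * 2 ≤ ∑ j ∈ U, (q r₁ 0 j + q r₁ i₁ j) := by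
        have h := Finset.sum_le_sum (s := U) fun j _ => hpair j
        simpa [nsmul_eq_mul] using h
      have htot : 2 * (((p : ℤ) - 1) * 2) ≤
          ∑ i ∈ Finset.range p, ∑ j ∈ Finset.range p, q r₁ i j := by
        simp only [hsplit, Finset.sum_add_distrib]
        have e1 : ∑ a ∈ U, q r₁ a 0 = ∑ a ∈ U, q r₁ 0 a := Finset.sum_congr rfl fun a _ => hsymq a 0
        have e2 : ∑ a ∈ U, q r₁ a i₁ = ∑ a ∈ U, q r₁ i₁ a := Finset.sum_congr rfl fun a _ => hsymq a i₁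
        have e3 : 0 ≤ ∑ a ∈ U, ∑ a' ∈ U, q r₁ a a' :=
          Finset.sum_nonneg fun a _ => Finset.sum_nonneg fun a' _ => hqnn r₁ a a'
        have e4 := hsymq i₁ 0
        have e5 := hqnn r₁ 0 0
        have e6 := hqnn r₁ i₁ i₁
        rw [Finset.sum_add_distrib, hUcard] at hUsum
        rw [e1, e2]
        linarith
      have hIge : ((p : ℤ) - 1) * 2 ≤ I := by
        have h1 := Finset.single_le_sum
          (f := fun r => ∑ i ∈ Finset.range p, ∑ j ∈ Finset.range p, q r i j)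
          (fun r _ => Finset.sum_nonneg fun i _ => Finset.sum_nonneg fun j _ => hqnn r i j) hr₁
        rw [h2I] at h1
        linarith
      have hre : ∑ η ∈ S, (aeval η (P χ χ)).re = (p : ℝ) ^ c * (I : ℝ) := by
        rw [← Complex.re_sum, hsum]
        simp [Complex.mul_re, ← Complex.ofReal_natCast, ← Complex.ofReal_pow]
      rw [hre, hS, hζ.card_primitiveRoots, Nat.totient_prime_pow_succ hp.out, Nat.cast_mul,
        Nat.cast_pow, Nat.cast_sub hp.out.one_le, Nat.cast_one]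
      have h2 : ((p : ℝ) - 1) * 2 ≤ (I : ℝ) := by exact_mod_cast hIge
      calc (2 : ℝ) * ((p : ℝ) ^ c * ((p : ℝ) - 1)) = (p : ℝ) ^ c * (((p : ℝ) - 1) * 2) := by ring
        _ ≤ _ := mul_le_mul_of_nonneg_left h2 (by positivity)
    have h1 := (Finset.sum_le_sum hdiag).trans htr
    rw [Finset.sum_const, nsmul_eq_mul] at h1
    have h2 : (Bf.card : ℝ) ≤ ((p ^ d : ℕ) : ℝ) := by
      push_cast
      exact le_of_mul_le_mul_right (by linarith) (mul_pos two_pos hcard)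
    exact_mod_cast h2
  -- a vector of value one
  obtain ⟨v, hv⟩ := hone
  set u : Cfsg.IrrCharacter ↥(Subgroup.centralizer ({y} : Set G)) → ℤ :=
    fun a => ∑ ψ ∈ bf, v ψ * N a ψ with hu
  have hu2 : ∑ κ ∈ bf, u κ ^ 2 = (p : ℤ) ^ d := by rw [← hQsq v, hv, mul_one]
  have hNu : ∀ a ∈ bf, ∑ κ ∈ bf, N a κ * u κ = (p : ℤ) ^ d * u a := by
    intro a ha
    simp only [hu, Finset.mul_sum]
    rw [Finset.sum_comm]
    refine Finset.sum_congr rfl fun ψ hψ => ?_
    calc ∑ κ ∈ bf, N a κ * (v ψ * N κ ψ) = v ψ * ∑ κ ∈ bf, N a κ * N κ ψ := by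
          rw [Finset.mul_sum]; exact Finset.sum_congr rfl fun κ _ => by ring
      _ = _ := by rw [hproj a ha ψ hψ]; ring
  set R : Cfsg.IrrCharacter ↥(Subgroup.centralizer ({y} : Set G)) →
      Cfsg.IrrCharacter ↥(Subgroup.centralizer ({y} : Set G)) → ℤ := fun a c => N a c - u a * u c with hR
  have hRproj : ∀ a ∈ bf, ∀ c ∈ bf, ∑ κ ∈ bf, R a κ * R κ c = (p : ℤ) ^ d * R a c := by
    intro a ha c hc
    have e1 : ∑ κ ∈ bf, N κ c * u κ = (p : ℤ) ^ d * u c := by
      rw [← hNu c hc]; exact Finset.sum_congr rfl fun κ hκ => by rw [hsymN κ hκ c hc]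
    calc ∑ κ ∈ bf, R a κ * R κ c
        = (∑ κ ∈ bf, N a κ * N κ c) - u c * (∑ κ ∈ bf, N a κ * u κ) -
            u a * (∑ κ ∈ bf, N κ c * u κ) + u a * u c * ∑ κ ∈ bf, u κ ^ 2 := by
          simp only [hR, Finset.mul_sum, ← Finset.sum_sub_distrib, ← Finset.sum_add_distrib]
          exact Finset.sum_congr rfl fun κ _ => by ring
      _ = _ := by rw [hproj a ha c hc, hNu a ha, e1, hu2]; simp only [hR]; ring
  have hRdvd : ∀ a ∈ bf, ∀ c ∈ bf, (p : ℤ) ∣ R a c := by
    obtain ⟨ψ₀, hψ₀, h₀⟩ := H83.exists_height_zero hM hb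
    have hn0 : ¬ (p : ℤ) ∣ N ψ₀ ψ₀ := by
      have h := H83.not_dvd_entry_of_height_zero hM hb hψ₀ h₀ hψ₀
      rwa [h₀, zero_add, pow_one] at h
    have hn' : ((N ψ₀ ψ₀ : ℤ) : ZMod p) ≠ 0 := fun h =>
      hn0 ((ZMod.intCast_zmod_eq_zero_iff_dvd _ _).1 h)
    set w : Cfsg.IrrCharacter ↥(Subgroup.centralizer ({y} : Set G)) → ZMod p :=
      fun a => ((N a ψ₀ : ℤ) : ZMod p) with hw
    have hrank : ∀ a ∈ bf, ∀ c ∈ bf,
        ((N a c : ℤ) : ZMod p) = w a * w c * ((N ψ₀ ψ₀ : ℤ) : ZMod p)⁻¹ := by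
      intro a ha c hc
      have h := (ZMod.intCast_zmod_eq_zero_iff_dvd _ _).2
        (H83.entry_mul_congr hM hb hψ₀ h₀ (hbm ha) (hbm hc))
      push_cast at h
      rw [eq_mul_inv_iff_mul_eq₀ hn']
      simp only [hw, hN]
      exact sub_eq_zero.1 h
    set t : ZMod p := ∑ ψ ∈ bf, (v ψ : ZMod p) * w ψ with ht
    have hu' : ∀ a ∈ bf, ((u a : ℤ) : ZMod p) = w a * t * ((N ψ₀ ψ₀ : ℤ) : ZMod p)⁻¹ := by
      intro a ha
      simp only [hu, ht, Int.cast_sum, Int.cast_mul, Finset.mul_sum, Finset.sum_mul]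
      exact Finset.sum_congr rfl fun ψ hψ => by rw [hrank a ha ψ hψ]; ring
    have hQ1 : t * t * ((N ψ₀ ψ₀ : ℤ) : ZMod p)⁻¹ = 1 := by
      have h := congrArg (fun z : ℤ => (z : ZMod p)) hv
      simp only [hQdef, Int.cast_sum, Int.cast_mul, Int.cast_one] at h
      refine Eq.trans ?_ h
      simp only [ht, Finset.sum_mul_sum]
      simp only [Finset.sum_mul]
      exact Finset.sum_congr rfl fun ψ hψ => Finset.sum_congr rfl fun ψ' hψ' => by
        rw [hrank ψ hψ ψ' hψ']; ring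
    intro a ha c hc
    refine (ZMod.intCast_zmod_eq_zero_iff_dvd _ _).1 ?_
    simp only [hR, Int.cast_sub, Int.cast_mul]
    rw [hrank a ha c hc, hu' a ha, hu' c hc]
    linear_combination -(w a * w c * ((N ψ₀ ψ₀ : ℤ) : ZMod p)⁻¹) * hQ1
  set A : Cfsg.IrrCharacter G → ℤ[X] := fun χ =>
    ∑ ψ ∈ bf, C ((H83.mult χ ψ : ℤ) * u ψ) * X ^ e ψ with hA
  set Rp : Cfsg.IrrCharacter G → Cfsg.IrrCharacter G → ℤ[X] := fun χ θ =>
    ∑ ψ ∈ bf, ∑ ψ' ∈ bf, C ((H83.mult χ ψ : ℤ) * (H83.mult θ ψ' : ℤ) * (R ψ ψ' / (p : ℤ))) *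
      X ^ (e ψ + (p ^ n - 1) * e ψ') with hRp
  have hdec : ∀ η : ℂ, η ^ p ^ n = 1 → ∀ χ θ, aeval η (P χ θ) =
      aeval η (A χ) * conj (aeval η (A θ)) + (p : ℂ) * aeval η (Rp χ θ) := by
    intro η hη χ θ
    simp only [hP, H83.contribPoly, H83.contribCoeff, hA, hRp, map_sum, map_mul, aeval_C, map_pow,
      aeval_X, eq_intCast, Int.cast_mul, Int.cast_natCast, map_intCast, map_natCast,
      Finset.mul_sum, Finset.sum_mul, ← hbf, ← hN, Complex.conj_natCast]
    rw [Finset.sum_comm (f := fun ψ' ψ => (H83.mult χ ψ : ℂ) * (u ψ : ℂ) * η ^ e ψ *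
      ((H83.mult θ ψ' : ℂ) * (u ψ' : ℂ) * conj η ^ e ψ')), ← Finset.sum_add_distrib]
    refine Finset.sum_congr rfl fun ψ hψ => ?_
    rw [← Finset.sum_add_distrib]
    refine Finset.sum_congr rfl fun ψ' hψ' => ?_
    have hsp : ((N ψ ψ' : ℤ) : ℂ) = (u ψ : ℂ) * (u ψ' : ℂ) + (p : ℂ) * ((R ψ ψ' / (p : ℤ) : ℤ) : ℂ) := by
      have h1 : (p : ℤ) * (R ψ ψ' / (p : ℤ)) = R ψ ψ' := Int.mul_ediv_cancel' (hRdvd ψ hψ ψ' hψ')
      have h2 : N ψ ψ' = u ψ * u ψ' + (p : ℤ) * (R ψ ψ' / (p : ℤ)) := by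
        rw [h1]; simp only [hR]; ring
      exact_mod_cast h2
    rw [hsp, H83.conj_eq_pow_pred hη (NeZero.ne _), pow_add, pow_mul]
    ring
  have hRre : ∀ η : ℂ, η ^ p ^ n = 1 → ∀ χ θ, (p : ℂ) ^ d * ((p : ℂ) * aeval η (Rp χ θ)) =
      ∑ κ ∈ bf, (∑ ψ ∈ bf, (H83.mult χ ψ : ℂ) * η ^ e ψ * (R ψ κ : ℂ)) *
        conj (∑ ψ ∈ bf, (H83.mult θ ψ : ℂ) * η ^ e ψ * (R ψ κ : ℂ)) := by
    intro η hη χ θ
    simp only [hRp, map_sum, map_mul, aeval_C, map_pow, aeval_X, eq_intCast, Int.cast_mul,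
      Int.cast_natCast, map_intCast, map_natCast, Finset.sum_mul_sum, Complex.conj_natCast]
    simp only [Finset.mul_sum]
    symm
    rw [Finset.sum_comm]
    refine Finset.sum_congr rfl fun ψ hψ => ?_
    rw [Finset.sum_comm]
    refine Finset.sum_congr rfl fun ψ' hψ' => ?_
    have h1 : ∑ κ ∈ bf, R ψ κ * R ψ' κ = (p : ℤ) ^ d * ((p : ℤ) * (R ψ ψ' / (p : ℤ))) := by
      rw [Int.mul_ediv_cancel' (hRdvd ψ hψ ψ' hψ'), ← hRproj ψ hψ ψ' hψ']
      refine Finset.sum_congr rfl fun κ hκ => ?_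
      simp only [hR, hsymN ψ' hψ' κ hκ]
      ring
    have h2 : ∑ κ ∈ bf, (R ψ κ : ℂ) * (R ψ' κ : ℂ) =
        (p : ℂ) ^ d * ((p : ℂ) * ((R ψ ψ' / (p : ℤ) : ℤ) : ℂ)) := by exact_mod_cast h1
    calc ∑ κ ∈ bf, (H83.mult χ ψ : ℂ) * η ^ e ψ * (R ψ κ : ℂ) *
          ((H83.mult θ ψ' : ℂ) * conj η ^ e ψ' * (R ψ' κ : ℂ))
        = (H83.mult χ ψ : ℂ) * η ^ e ψ * ((H83.mult θ ψ' : ℂ) * conj η ^ e ψ') *
            ∑ κ ∈ bf, (R ψ κ : ℂ) * (R ψ' κ : ℂ) := by
          rw [Finset.mul_sum]; exact Finset.sum_congr rfl fun κ _ => by ring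
      _ = _ := by rw [h2, H83.conj_eq_pow_pred hη (NeZero.ne _), pow_add, pow_mul]; ring
  have hpd0 : ((p : ℂ) ^ d * (p : ℂ)) ≠ 0 :=
    mul_ne_zero (pow_ne_zero _ (Nat.cast_ne_zero.2 hp.out.ne_zero)) (Nat.cast_ne_zero.2 hp.out.ne_zero)
  have hRpos : ∀ η : ℂ, η ^ p ^ n = 1 → ∀ χ, conj (aeval η (Rp χ χ)) = aeval η (Rp χ χ) ∧
      0 ≤ (aeval η (Rp χ χ)).re ∧
      (aeval η (Rp χ χ) = 0 → ∀ θ, aeval η (Rp χ θ) = 0 ∧ aeval η (Rp θ χ) = 0) := by
    intro η hη χ
    set W : Cfsg.IrrCharacter G → Cfsg.IrrCharacter ↥(Subgroup.centralizer ({y} : Set G)) → ℂ :=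
      fun χ κ => ∑ ψ ∈ bf, (H83.mult χ ψ : ℂ) * η ^ e ψ * (R ψ κ : ℂ)
    have h1 : (((p : ℝ) ^ d * (p : ℝ) : ℝ) : ℂ) * aeval η (Rp χ χ) =
        ((∑ κ ∈ bf, ‖W χ κ‖ ^ 2 : ℝ) : ℂ) := by
      push_cast
      rw [mul_assoc, hRre η hη]
      exact Finset.sum_congr rfl fun κ _ => Complex.mul_conj' _
    have hpos : (0 : ℝ) < (p : ℝ) ^ d * (p : ℝ) :=
      mul_pos (pow_pos (Nat.cast_pos.2 hp.out.pos) d) (Nat.cast_pos.2 hp.out.pos)
    have hval : aeval η (Rp χ χ) =
        (((∑ κ ∈ bf, ‖W χ κ‖ ^ 2) / ((p : ℝ) ^ d * (p : ℝ)) : ℝ) : ℂ) := by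
      rw [Complex.ofReal_div, eq_div_iff (Complex.ofReal_ne_zero.2 hpos.ne'), mul_comm, h1]
    refine ⟨by rw [hval, Complex.conj_ofReal], by rw [hval, Complex.ofReal_re]; positivity,
      fun h0 θ => ?_⟩
    rw [h0, mul_zero, eq_comm, Complex.ofReal_eq_zero,
      Finset.sum_eq_zero_iff_of_nonneg fun _ _ => sq_nonneg _] at h1
    have h3 : ∀ κ ∈ bf, W χ κ = 0 := fun κ hκ => by simpa using h1 κ hκ
    constructor <;> apply mul_left_cancel₀ hpd0 <;> rw [mul_assoc, hRre η hη, mul_zero]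
    · exact Finset.sum_eq_zero fun κ hκ => by
        rw [show (∑ ψ ∈ bf, (H83.mult χ ψ : ℂ) * η ^ e ψ * (R ψ κ : ℂ)) = W χ κ from rfl, h3 κ hκ,
          zero_mul]
    · exact Finset.sum_eq_zero fun κ hκ => by
        rw [show (∑ ψ ∈ bf, (H83.mult χ ψ : ℂ) * η ^ e ψ * (R ψ κ : ℂ)) = W χ κ from rfl, h3 κ hκ,
          map_zero, mul_zero]
  have hconjA : ∀ η : ℂ, η ^ p ^ n = 1 → ∀ χ, conj (aeval η (A χ)) = aeval (η ^ (p ^ n - 1)) (A χ) := by
    intro η hη χ
    rw [← H83.conj_eq_pow_pred hη (NeZero.ne _)]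
    exact (aeval_algHom_apply (starRingEnd ℂ).toIntAlgHom η (A χ)).symm
  have hAsum : ∀ η ∈ S, ∑ χ ∈ Bf, ‖aeval η (A χ)‖ ^ 2 = (p : ℝ) ^ d := by
    have h1 : ∑ χ ∈ Bf, aeval ζ (A χ) * conj (aeval ζ (A χ)) = (p : ℂ) ^ d := by
      have hAc : ∀ χ, aeval ζ (A χ) = ∑ κ ∈ bf, (v κ : ℂ) * aeval ζ (H83.colPoly p b e χ κ) := by
        intro χ
        simp only [hA, H83.colPoly, map_sum, map_mul, aeval_C, map_pow, aeval_X, eq_intCast,
          Int.cast_mul, Int.cast_natCast, map_intCast, map_natCast, hu, Int.cast_sum, Finset.mul_sum,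
          Finset.sum_mul, ← hbf, ← hN]
        rw [Finset.sum_comm]
        exact Finset.sum_congr rfl fun κ _ => Finset.sum_congr rfl fun ψ _ => by ring
      calc ∑ χ ∈ Bf, aeval ζ (A χ) * conj (aeval ζ (A χ))
          = ∑ κ ∈ bf, ∑ κ' ∈ bf, (v κ : ℂ) * (v κ' : ℂ) * ∑ χ ∈ Bf,
              aeval ζ (H83.colPoly p b e χ κ) * conj (aeval ζ (H83.colPoly p b e χ κ')) := by
            simp only [hAc, map_sum, map_mul, map_intCast, Finset.sum_mul_sum]
            simp only [Finset.mul_sum]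
            rw [Finset.sum_comm]
            refine Finset.sum_congr rfl fun κ _ => ?_
            rw [Finset.sum_comm]
            exact Finset.sum_congr rfl fun κ' _ => Finset.sum_congr rfl fun χ _ => by ring
        _ = (p : ℂ) ^ d * ((Q v : ℤ) : ℂ) := by
            simp only [hQdef, Int.cast_sum, Int.cast_mul, Finset.mul_sum]
            refine Finset.sum_congr rfl fun κ hκ => Finset.sum_congr rfl fun κ' hκ' => ?_
            rw [← Finset.mul_sum, hBf, hcol κ (hbm hκ) κ' (hbm hκ')]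
            ring
        _ = _ := by rw [hv, Int.cast_one, mul_one]
    intro η hη
    have hη' := hmem hη
    have h2 := H83.aeval_eq_zero_transfer
      (∑ χ ∈ Bf, A χ * (A χ).comp (X ^ (p ^ n - 1)) - C ((p : ℤ) ^ d)) hζ hη' ?_
    · simp only [map_sub, map_sum, map_mul, aeval_comp, map_pow, aeval_X, aeval_C, eq_intCast,
        Int.cast_pow, Int.cast_natCast, map_intCast, map_natCast, sub_eq_zero] at h2
      rw [Finset.sum_congr rfl fun χ _ => by rw [← hconjA η hη'.pow_eq_one χ, Complex.mul_conj']] at h2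
      exact_mod_cast h2
    · simp only [map_sub, map_sum, map_mul, aeval_comp, map_pow, aeval_X, aeval_C, eq_intCast,
        Int.cast_pow, Int.cast_natCast, map_intCast, map_natCast, sub_eq_zero]
      rw [Finset.sum_congr rfl fun χ _ => by rw [← hconjA ζ hζ.pow_eq_one χ]]
      exact h1
  by_cases hT : ∀ χ ∈ Bf, aeval ζ (A χ) ≠ 0
  · have h1 : ∑ χ ∈ Bf, (S.card : ℝ) ≤ ∑ χ ∈ Bf, ∑ η ∈ S, ‖aeval η (A χ)‖ ^ 2 :=
      Finset.sum_le_sum fun χ hχ => H83.card_le_sum_norm_sq_aeval (A χ) hζ (hT χ hχ)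
    rw [Finset.sum_comm (s := Bf) (t := S), Finset.sum_congr rfl hAsum, Finset.sum_const,
      Finset.sum_const, nsmul_eq_mul, nsmul_eq_mul, mul_comm] at h1
    have h2 : (Bf.card : ℝ) ≤ ((p ^ d : ℕ) : ℝ) := by
      push_cast
      exact le_of_mul_le_mul_left h1 hcard
    exact_mod_cast h2
  push Not at hT
  obtain ⟨χT, hχT, hχT0⟩ := hT
  have hpM : ∀ x, Cfsg.MemLocalRing M x → Cfsg.MemLocalIdeal M ((p : ℂ) * x) := fun x hx => by
    rw [mul_comm]
    exact BlockBasic.memLocalIdeal_mul hM hx ((BlockBasic.memLocalIdeal_natCast_iff hM p).2 dvd_rfl)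
  have hRploc : ∀ χ θ, Cfsg.MemLocalRing M (aeval ζ (Rp χ θ)) := fun χ θ =>
    H83.memLocalRing_aeval hM hζ.pow_eq_one _
  have hζ' : (ζ ^ (p ^ n - 1)) ^ p ^ n = 1 := by
    rw [← pow_mul, mul_comm, pow_mul, hζ.pow_eq_one, one_pow]
  have hA0 : ∀ θ ∈ Bf, h θ = 0 → aeval ζ (A θ) ≠ 0 ∧
      ¬ Cfsg.MemLocalIdeal M (aeval (ζ ^ (p ^ n - 1)) (A θ)) := by
    intro θ hθ hθ0
    have h1 : ¬ Cfsg.MemLocalIdeal M (aeval (ζ ^ (p ^ n - 1)) (A θ)) := fun hc =>
      hunit θ hθ hθ0 (by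
        rw [hdec ζ hζ.pow_eq_one, hconjA ζ hζ.pow_eq_one]
        exact BlockBasic.memLocalIdeal_add hM
          (BlockBasic.memLocalIdeal_mul hM (H83.memLocalRing_aeval hM hζ.pow_eq_one _) hc)
          (hpM _ (hRploc θ θ)))
    refine ⟨fun hc => h1 ?_, h1⟩
    rw [← hconjA ζ hζ.pow_eq_one, hc, map_zero]
    exact BlockBasic.memLocalIdeal_zero hM
  set T := Bf.filter (fun χ => aeval ζ (A χ) = 0) with hTdef
  set K0 := Bf.filter (fun χ => h χ = 0) with hK0
  set Sp := Bf.filter (fun χ => aeval ζ (A χ) ≠ 0 ∧ h χ ≠ 0) with hSp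
  have hdisj : Disjoint K0 T := Finset.disjoint_left.2 fun χ h1 h2 =>
    (hA0 χ (Finset.mem_filter.1 h1).1 (Finset.mem_filter.1 h1).2).1 (Finset.mem_filter.1 h2).2
  have hdisj' : Disjoint K0 Sp := Finset.disjoint_left.2 fun χ h1 h2 =>
    (Finset.mem_filter.1 h2).2.2 (Finset.mem_filter.1 h1).2
  have hcover : Bf.card ≤ (K0 ∪ T).card + Sp.card := by
    refine le_trans (Finset.card_le_card fun χ hχ => ?_) (Finset.card_union_le _ _)
    by_cases h1 : aeval ζ (A χ) = 0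
    · exact Finset.mem_union_left _ (Finset.mem_union_right _ (Finset.mem_filter.2 ⟨hχ, h1⟩))
    by_cases h2 : h χ = 0
    · exact Finset.mem_union_left _ (Finset.mem_union_left _ (Finset.mem_filter.2 ⟨hχ, h2⟩))
    · exact Finset.mem_union_right _ (Finset.mem_filter.2 ⟨hχ, h1, h2⟩)
  have hTge : ∀ χ ∈ K0 ∪ T, (S.card : ℝ) ≤ ∑ η ∈ S, (aeval η (Rp χ χ)).re := by
    intro χ hχ
    refine (H83.sum_re_ge hζ (Rp χ χ) (fun η hη => (hRpos η hη.pow_eq_one χ).1)
      (fun η hη => (hRpos η hη.pow_eq_one χ).2.1) fun hc => ?_).1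
    rcases Finset.mem_union.1 hχ with h1 | h1
    · obtain ⟨hχB, hχ0⟩ := Finset.mem_filter.1 h1
      apply hne χT hχT χ hχB hχ0
      rw [hdec ζ hζ.pow_eq_one, hχT0, zero_mul, zero_add,
        ((hRpos ζ hζ.pow_eq_one χ).2.2 hc χT).2, mul_zero]
    · obtain ⟨hχB, hχ0⟩ := Finset.mem_filter.1 h1
      apply hne χ hχB θ₀ hθ₀f hθ₀0
      rw [hdec ζ hζ.pow_eq_one, hχ0, zero_mul, zero_add,
        ((hRpos ζ hζ.pow_eq_one χ).2.2 hc θ₀).1, mul_zero]
  have hRtot : (p : ℝ) * ∑ χ ∈ K0 ∪ T, ∑ η ∈ S, (aeval η (Rp χ χ)).re ≤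
      (S.card : ℝ) * (p : ℝ) ^ d := by
    have hsub : K0 ∪ T ⊆ Bf := Finset.union_subset (Finset.filter_subset _ _) (Finset.filter_subset _ _)
    refine le_trans (mul_le_mul_of_nonneg_left (Finset.sum_le_sum_of_subset_of_nonneg hsub fun χ _ _ =>
      Finset.sum_nonneg fun η hη => (hRpos η (hmem hη).pow_eq_one χ).2.1) (Nat.cast_nonneg p)) ?_
    have h1 : ∀ η ∈ S, ∀ χ, (p : ℝ) * (aeval η (Rp χ χ)).re =
        (aeval η (P χ χ)).re - ‖aeval η (A χ)‖ ^ 2 := by
      intro η hη χ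
      rw [hdec η (hmem hη).pow_eq_one, Complex.mul_conj', Complex.add_re, ← Complex.ofReal_natCast,
        Complex.re_ofReal_mul, ← Complex.ofReal_pow, Complex.ofReal_re]
      ring
    simp only [Finset.mul_sum]
    rw [Finset.sum_congr rfl fun χ _ => Finset.sum_congr rfl fun η hη => h1 η hη χ]
    simp only [Finset.sum_sub_distrib]
    rw [Finset.sum_comm (f := fun χ η => ‖aeval η (A χ)‖ ^ 2), Finset.sum_congr rfl hAsum,
      Finset.sum_const, nsmul_eq_mul]
    linarith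
  have hSge : ∀ χ ∈ Sp, ((p : ℝ) ^ 2) * (S.card : ℝ) ≤ ∑ η ∈ S, ‖aeval η (A χ)‖ ^ 2 := by
    intro χ hχ
    obtain ⟨hχB, hA1, hh⟩ := Finset.mem_filter.1 hχ
    obtain ⟨H, hH, -⟩ := hdiv χ (Finset.mem_filter.1 hχB).2 θ₀ hθ₀
    obtain ⟨j, hj⟩ := Nat.exists_eq_succ_of_ne_zero hh
    set a' := aeval (ζ ^ (p ^ n - 1)) (A θ₀) with ha'
    have ha'u := (hA0 θ₀ hθ₀f hθ₀0).2
    have ha'0 : a' ≠ 0 := fun hc => ha'u (by
      rw [← ha', hc]; exact BlockBasic.memLocalIdeal_zero hM)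
    set w := ((p : ℂ) ^ j * aeval ζ H - aeval ζ (Rp χ θ₀)) * a'⁻¹ with hwdef
    have hw : Cfsg.MemLocalRing M w := BlockBasic.memLocalRing_mul hM
      ((BlockBasic.locRing hM).sub_mem (BlockBasic.memLocalRing_mul hM
        ((BlockBasic.locRing hM).pow_mem (BlockBasic.memLocalRing_natCast hM p) j)
        (H83.memLocalRing_aeval hM hζ.pow_eq_one _)) (hRploc χ θ₀))
      (BlockBasic.memLocalRing_inv hM (H83.memLocalRing_aeval hM hζ' _) ha'u)
    have hAw : aeval ζ (A χ) = (p : ℂ) ^ 1 * w := by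
      have h1 := hH ζ hζ
      rw [hdec ζ hζ.pow_eq_one, hconjA ζ hζ.pow_eq_one, ← ha'] at h1
      simp only [h] at hj
      rw [hj, pow_succ'] at h1
      rw [hwdef]
      field_simp
      linear_combination h1
    obtain ⟨H', hH'ζ, hH'⟩ := H83.exists_eq_pow_mul_of_local hM hζ 1 (A χ) hw hAw
    refine H83.sum_norm_sq_ge hζ (F := A χ) (H := H') p (fun η hη => by rw [hH' η hη, pow_one]) fun hc => hA1 ?_
    rw [hH' ζ hζ, hc, mul_zero]
  have hAtot : ((K0.card : ℝ) + (p : ℝ) ^ 2 * Sp.card) * (S.card : ℝ) ≤ (S.card : ℝ) * (p : ℝ) ^ d := by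
    have h1 : ∑ χ ∈ K0 ∪ Sp, ∑ η ∈ S, ‖aeval η (A χ)‖ ^ 2 ≤ (S.card : ℝ) * (p : ℝ) ^ d := by
      refine le_trans (Finset.sum_le_sum_of_subset_of_nonneg
        (Finset.union_subset (Finset.filter_subset _ _) (Finset.filter_subset _ _))
        fun χ _ _ => Finset.sum_nonneg fun η _ => sq_nonneg _) ?_
      rw [Finset.sum_comm, Finset.sum_congr rfl hAsum, Finset.sum_const, nsmul_eq_mul]
    rw [Finset.sum_union hdisj'] at h1
    have h2 := Finset.sum_le_sum (s := K0) fun χ hχ => H83.card_le_sum_norm_sq_aeval (A χ) hζ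
      (hA0 χ (Finset.mem_filter.1 hχ).1 (Finset.mem_filter.1 hχ).2).1
    have h3 := Finset.sum_le_sum hSge
    rw [Finset.sum_const, nsmul_eq_mul] at h2 h3
    rw [← hS] at h2
    linarith
  have hTtot := (mul_le_mul_of_nonneg_left (Finset.sum_le_sum hTge) (Nat.cast_nonneg p)).trans hRtot
  rw [Finset.sum_const, nsmul_eq_mul] at hTtot
  have h4 : (p : ℝ) * ((K0 ∪ T).card : ℝ) ≤ (p : ℝ) ^ d :=
    le_of_mul_le_mul_right (by linarith) hcard
  have h5 : (K0.card : ℝ) + (p : ℝ) ^ 2 * Sp.card ≤ (p : ℝ) ^ d :=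
    le_of_mul_le_mul_right (by linarith) hcard
  have h6 : (p : ℕ) * (K0 ∪ T).card ≤ p ^ d := by exact_mod_cast h4
  have h7 : K0.card + p ^ 2 * Sp.card ≤ p ^ d := by exact_mod_cast h5
  have hp2 := hp.out.two_le
  have h8 : 2 * (K0 ∪ T).card ≤ p ^ d := le_trans (Nat.mul_le_mul_right _ hp2) h6
  have h9 : 4 * Sp.card ≤ p ^ d :=
    le_trans (Nat.mul_le_mul_right _ (by nlinarith : 4 ≤ p ^ 2)) ((Nat.le_add_left _ _).trans h7)
  omega

/-- Let B be a p-block of the finite group G (relative to a maximal ideal M of the algebraic integers containing p) of defect d with defect group D. Let z be an element of D commuting with every element of D, and let b be a block of the centralizer C of z with defect group D that induces B (a major subsection (z, b)). If b has p-regular rank at most two, then B contains at most p ^ d irreducible characters. -/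
theorem result {G : Type*} [Group G] [Finite G] (p : ℕ) [Fact p.Prime] (M : Ideal Cfsg.AlgInt) (hM : Cfsg.IsPModular p M) (B : Set (Cfsg.IrrCharacter G)) (hB : Cfsg.IsPBlock M B) (D : Subgroup G) (hD : Cfsg.IsDefectGroup p M B D) (z : G) (hzD : z ∈ D) (hzc : ∀ d ∈ D, d * z = z * d) (b : Set (Cfsg.IrrCharacter ↥(Subgroup.centralizer ({z} : Set G)))) (hb : Cfsg.IsInducedBlock M (Subgroup.centralizer ({z} : Set G)) b B) (hbD : Cfsg.IsDefectGroup p M b (D.subgroupOf (Subgroup.centralizer ({z} : Set G)))) (hl : Cfsg.blockRank p b ≤ 2) : Nat.card B ≤ p ^ Cfsg.blockDefect p B := by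
  classical
  cases nonempty_fintype G
  haveI : Fintype ↥(Subgroup.centralizer ({z} : Set G)) := Fintype.ofFinite _
  have hbd := H83.blockDefect_eq_of_major hM hB hD hzc hb.1 hbD
  obtain ⟨n, hn⟩ : ∃ n : ℕ, orderOf z = p ^ n := by
    obtain ⟨g, hg, P, rfl⟩ := hD
    obtain ⟨n, hn⟩ := IsPGroup.iff_orderOf.1 (H35.sylImage_isPGroup P) ⟨z, hzD⟩
    exact ⟨n, (orderOf_injective (H35.sylImage P).subtype Subtype.val_injective ⟨z, hzD⟩).trans hn⟩
  exact main hM hB hn hb hbd hl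

end Cfsg.Agent.S4539
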