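import Cfsg.Statements.S4540
import Cfsg.Agent.H83.MajorContrib

set_option autoImplicit false
set_option linter.style.haveILetI false
open Cfsg

namespace Cfsg.Agent.S4540

open Polynomial

universe u

variable {G : Type u} [Group G] [Fintype G] {M : Ideal Cfsg.AlgInt}

open scoped Classical in
theorem main (hM : Cfsg.IsPModular 2 M) {B : Set (Cfsg.IrrCharacter G)} (hB : Cfsg.IsPBlock M B)
    {y : G} {n : ℕ} (hy : orderOf y = 2 ^ n) [Fintype ↥(Subgroup.centralizer ({y} : Set G))]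
    {b : Set (Cfsg.IrrCharacter ↥(Subgroup.centralizer ({y} : Set G)))}
    (hind : Cfsg.IsInducedBlock M (Subgroup.centralizer ({y} : Set G)) b B)
    (hbd : Cfsg.blockDefect 2 b = Cfsg.blockDefect 2 B) (hl : Cfsg.blockRank 2 b ≤ 3) :
    3 * (Finset.univ.filter fun χ : Cfsg.IrrCharacter G =>
        χ ∈ B ∧ Cfsg.blockHeight 2 B (χ : G → ℂ) = 0).card +
      2 * ∑ χ ∈ Finset.univ.filter (fun χ : Cfsg.IrrCharacter G =>
        χ ∈ B ∧ 1 ≤ Cfsg.blockHeight 2 B (χ : G → ℂ)), 2 ^ Cfsg.blockHeight 2 B (χ : G → ℂ) ≤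
      3 * 2 ^ Cfsg.blockDefect 2 B := by
  haveI := Fact.mk Nat.prime_two
  haveI : NeZero (2 ^ n) := ⟨pow_ne_zero _ two_ne_zero⟩
  obtain ⟨ζ, e, hζ, -, hsymm, hall, hdiv⟩ := H83.exists_major_contrib hM hy hind hbd
  simp only [Nat.cast_ofNat] at hall hdiv
  set d := Cfsg.blockDefect 2 B
  set h : Cfsg.IrrCharacter G → ℕ := fun χ => Cfsg.blockHeight 2 B (χ : G → ℂ)
  set S := primitiveRoots (2 ^ n) ℂ with hS
  have hmem : ∀ {η}, η ∈ S → IsPrimitiveRoot η (2 ^ n) :=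
    fun h => (mem_primitiveRoots (NeZero.pos _)).1 h
  have hcard : (0 : ℝ) < (S.card : ℝ) := by
    rw [Nat.cast_pos, Finset.card_pos]
    exact ⟨ζ, (mem_primitiveRoots (NeZero.pos _)).2 hζ⟩
  set Bf := Finset.univ.filter (fun χ : Cfsg.IrrCharacter G => χ ∈ B) with hBf
  set K0 := Finset.univ.filter (fun χ : Cfsg.IrrCharacter G => χ ∈ B ∧ h χ = 0) with hK0
  set Kp := Finset.univ.filter (fun χ : Cfsg.IrrCharacter G => χ ∈ B ∧ 1 ≤ h χ) with hKp
  have hsplit : ∀ (F : Cfsg.IrrCharacter G → ℤ), ∑ χ ∈ Bf, F χ = ∑ χ ∈ K0, F χ + ∑ χ ∈ Kp, F χ := by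
    intro F
    rw [← Finset.sum_filter_add_sum_filter_not Bf (fun χ => h χ = 0), hBf, Finset.filter_filter,
      Finset.filter_filter]
    simp only [hK0, hKp, Nat.one_le_iff_ne_zero]
  suffices hz : 3 * (K0.card : ℤ) + 2 * ∑ χ ∈ Kp, (2 : ℤ) ^ h χ ≤ 3 * 2 ^ d by
    exact_mod_cast hz
  have hpj := fun η hη => (hall η hη).1
  have hpos := fun η hη => (hall η hη).2.2
  by_cases hone : ∃ θ ∈ B, h θ = 0 ∧
      ∑ η ∈ S, (aeval η (H83.contribPoly 2 (2 ^ n) b e θ θ)).re = (S.card : ℝ)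
  · obtain ⟨θ, hθ, hθ0, hsum⟩ := hone
    -- the row of `θ`
    have hrow : ∀ χ ∈ Bf, ((4 : ℝ) ^ h χ) * (S.card : ℝ) ≤
        ∑ η ∈ S, ‖aeval η (H83.contribPoly 2 (2 ^ n) b e θ χ)‖ ^ 2 := by
      intro χ hχ
      obtain ⟨H, hH, hHM⟩ := hdiv χ (Finset.mem_filter.1 hχ).2 θ hθ
      have hne : aeval ζ H ≠ 0 := fun h0 => by
        rw [h0] at hHM
        have := hHM.1 (BlockBasic.memLocalIdeal_zero hM)
        simp only [h] at hθ0
        omega
      have h1 := H83.sum_norm_sq_ge hζ (F := H83.contribPoly 2 (2 ^ n) b e χ θ) (2 ^ h χ)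
        (fun η hη => by push_cast; exact hH η hη) hne
      refine le_trans (le_of_eq ?_) (h1.trans (le_of_eq (Finset.sum_congr rfl fun η hη => ?_)))
      · push_cast
        rw [← pow_mul, mul_comm (h χ) 2, pow_mul]
        norm_num [hS]
      · rw [hsymm η (hmem hη).pow_eq_one θ χ, Complex.norm_conj]
    have h1 := Finset.sum_le_sum hrow
    rw [Finset.sum_comm, Finset.sum_congr rfl fun η hη => hpj η (hmem hη) θ,
      ← Finset.mul_sum, hsum, ← Finset.sum_mul] at h1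
    have h2 : ∑ χ ∈ Bf, (4 : ℤ) ^ h χ ≤ 2 ^ d := by
      have h3 : ((∑ χ ∈ Bf, (4 : ℤ) ^ h χ : ℤ) : ℝ) ≤ ((2 ^ d : ℤ) : ℝ) := by
        push_cast
        exact le_of_mul_le_mul_right h1 hcard
      exact_mod_cast h3
    rw [hsplit] at h2
    have h4 : ∑ χ ∈ K0, (4 : ℤ) ^ h χ = K0.card := by
      rw [Finset.sum_congr rfl fun χ hχ => by rw [(Finset.mem_filter.1 hχ).2.2, pow_zero]]
      simp
    have h5 : ∑ χ ∈ Kp, (2 : ℤ) ^ h χ ≤ ∑ χ ∈ Kp, (4 : ℤ) ^ h χ :=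
      Finset.sum_le_sum fun χ _ => pow_le_pow_left₀ (by norm_num) (by norm_num) _
    have h6 : (0 : ℤ) ≤ ∑ χ ∈ Kp, (2 : ℤ) ^ h χ := Finset.sum_nonneg fun χ _ => by positivity
    omega
  push Not at hone
  choose a ha ha1 ha0 hap using fun χ (hχ : χ ∈ B) =>
    H83.exists_diag_average_two hM hB hζ hsymm hpj hpos hdiv hχ
  set A : Cfsg.IrrCharacter G → ℤ := fun χ => if hχ : χ ∈ B then a χ hχ else 0 with hA
  have htr : ∑ χ ∈ Bf, A χ ≤ 3 * 2 ^ d := by
    have h1 : ((∑ χ ∈ Bf, A χ : ℤ) : ℝ) * (S.card : ℝ) =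
        ((2 ^ d * Cfsg.blockRank 2 b : ℕ) : ℝ) * (S.card : ℝ) := by
      push_cast
      rw [Finset.sum_mul, Finset.sum_congr rfl fun χ hχ => by
        simp only [hA]; rw [dif_pos (Finset.mem_filter.1 hχ).2, mul_comm, ← ha χ _], Finset.sum_comm,
        Finset.sum_congr rfl fun η hη => (hall η (hmem hη)).2.1, Finset.sum_const, nsmul_eq_mul,
        mul_comm]
    have h2 := mul_right_cancel₀ hcard.ne' h1
    have h3 : ∑ χ ∈ Bf, A χ = ((2 ^ d * Cfsg.blockRank 2 b : ℕ) : ℤ) := by exact_mod_cast h2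
    rw [h3]
    push_cast
    rw [mul_comm]
    exact mul_le_mul_of_nonneg_right (by exact_mod_cast hl) (by positivity)
  rw [hsplit] at htr
  have h4 : 3 * (K0.card : ℤ) ≤ ∑ χ ∈ K0, A χ := by
    rw [mul_comm, ← nsmul_eq_mul, ← Finset.sum_const]
    refine Finset.sum_le_sum fun χ hχ => ?_
    obtain ⟨-, hχB, hχ0⟩ := Finset.mem_filter.1 hχ
    rw [hA]
    simp only [dif_pos hχB]
    have h1 := ha1 χ hχB
    have h2 := ha0 χ hχB hχ0
    have h3 : a χ hχB ≠ 1 := fun he => hone χ hχB hχ0 (by rw [ha χ hχB, he, Int.cast_one, mul_one])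
    simp only [h] at hχ0
    rw [hχ0, pow_zero] at h1
    omega
  have h5 : 2 * ∑ χ ∈ Kp, (2 : ℤ) ^ h χ ≤ ∑ χ ∈ Kp, A χ := by
    rw [Finset.mul_sum]
    refine Finset.sum_le_sum fun χ hχ => ?_
    obtain ⟨-, hχB, hχp⟩ := Finset.mem_filter.1 hχ
    rw [hA]
    simp only [dif_pos hχB]
    rw [← pow_succ']
    exact Int.le_of_dvd (lt_of_lt_of_le (by positivity) (ha1 χ hχB)) (hap χ hχB hχp)
  omega

/-- Let B be a 2-block of the finite group G (relative to a maximal ideal M of the algebraic integers containing 2) of defect d with defect group D. Let z be an element of D commuting with every element of D, and let b be a block of the centralizer C of z with defect group D that induces B (a major subsection (z, b)). If b has 2-regular rank at most three, then 3·k(B) ≤ 3·k₀(B) + 2·Σ 2 ^ h(χ), where k(B) is the number of members of B, k₀(B) the number of members of height zero, and the sum runs over the members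 χ of B of positive height h(χ); this bound is at most 3·2 ^ d, so in particular B contains at most 2 ^ d irreducible characters. -/
theorem result {G : Type*} [Group G] [Finite G] (M : Ideal Cfsg.AlgInt) (hM : Cfsg.IsPModular 2 M) (B : Set (Cfsg.IrrCharacter G)) (hB : Cfsg.IsPBlock M B) (D : Subgroup G) (hD : Cfsg.IsDefectGroup 2 M B D) (z : G) (hzD : z ∈ D) (hzc : ∀ d ∈ D, d * z = z * d) (b : Set (Cfsg.IrrCharacter ↥(Subgroup.centralizer ({z} : Set G)))) (hb : Cfsg.IsInducedBlock M (Subgroup.centralizer ({z} : Set G)) b B) (hbD : Cfsg.IsDefectGroup 2 M b (D.subgroupOf (Subgroup.centralizer ({z} : Set G)))) (hl : Cfsg.blockRank 2 b ≤ 3) : 3 * Nat.card B ≤ 3 * Nat.card {χ : Cfsg.IrrCharacter G // χ ∈ B ∧ Cfsg.blockHeight 2 B (χ : G → ℂ) = 0} + 2 * (∑ᶠ χ ∈ {χ : Cfsg.IrrCharacter G | χ ∈ B ∧ 1 ≤ Cfsg.blockHeight 2 B (χ : G → ℂ)}, 2 ^ Cfsg.blockHeight 2 B (χ : G → ℂ)) ∧ 3 * Nat.card {χ : Cfsg.IrrCharacter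 G // χ ∈ B ∧ Cfsg.blockHeight 2 B (χ : G → ℂ) = 0} + 2 * (∑ᶠ χ ∈ {χ : Cfsg.IrrCharacter G | χ ∈ B ∧ 1 ≤ Cfsg.blockHeight 2 B (χ : G → ℂ)}, 2 ^ Cfsg.blockHeight 2 B (χ : G → ℂ)) ≤ 3 * 2 ^ Cfsg.blockDefect 2 B := by
  classical
  cases nonempty_fintype G
  haveI := Fact.mk Nat.prime_two
  haveI : Fintype ↥(Subgroup.centralizer ({z} : Set G)) := Fintype.ofFinite _
  have hbd := H83.blockDefect_eq_of_major hM hB hD hzc hb.1 hbD
  obtain ⟨n, hn⟩ : ∃ n : ℕ, orderOf z = 2 ^ n := by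
    obtain ⟨g, hg, P, rfl⟩ := hD
    obtain ⟨n, hn⟩ := IsPGroup.iff_orderOf.1 (H35.sylImage_isPGroup P) ⟨z, hzD⟩
    exact ⟨n, (orderOf_injective (H35.sylImage P).subtype Subtype.val_injective ⟨z, hzD⟩).trans hn⟩
  have h := main hM hB hn hb hbd hl
  set h0 := fun χ : Cfsg.IrrCharacter G => Cfsg.blockHeight 2 B (χ : G → ℂ)
  have e0 : Nat.card {χ : Cfsg.IrrCharacter G // χ ∈ B ∧ h0 χ = 0} =
      (Finset.univ.filter fun χ : Cfsg.IrrCharacter G => χ ∈ B ∧ h0 χ = 0).card := by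
    rw [Nat.card_eq_fintype_card, Fintype.card_subtype]
  have e1 : (∑ᶠ χ ∈ {χ : Cfsg.IrrCharacter G | χ ∈ B ∧ 1 ≤ h0 χ}, 2 ^ h0 χ) =
      ∑ χ ∈ Finset.univ.filter (fun χ : Cfsg.IrrCharacter G => χ ∈ B ∧ 1 ≤ h0 χ), 2 ^ h0 χ := by
    refine finsum_mem_eq_sum_of_inter_support_eq _ ?_
    ext χ
    simp
  simp only [h0] at e0 e1
  rw [e0, e1]
  refine ⟨?_, h⟩
  have hk : Nat.card B = (Finset.univ.filter fun χ : Cfsg.IrrCharacter G =>
      χ ∈ B ∧ h0 χ = 0).card + (Finset.univ.filter fun χ : Cfsg.IrrCharacter G =>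
        χ ∈ B ∧ 1 ≤ h0 χ).card := by
    rw [Nat.card_eq_fintype_card, Fintype.card_subtype,
      ← Finset.card_filter_add_card_filter_not (s := Finset.univ.filter (fun χ => χ ∈ B)) (fun χ => h0 χ = 0),
      Finset.filter_filter, Finset.filter_filter]
    simp only [Nat.one_le_iff_ne_zero]
  simp only [h0] at hk
  rw [hk, mul_add]
  refine Nat.add_le_add_left ?_ _
  rw [Finset.mul_sum, mul_comm, ← smul_eq_mul, ← Finset.sum_const]
  refine Finset.sum_le_sum fun χ hχ => ?_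
  obtain ⟨-, -, hp⟩ := Finset.mem_filter.1 hχ
  have : 2 ≤ 2 ^ Cfsg.blockHeight 2 B (χ : G → ℂ) := Nat.le_self_pow (by omega) 2
  omega

end Cfsg.Agent.S4540
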