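import Cfsg.Statements.S4541
import Cfsg.Agent.H83.Subsection
import Mathlib.Algebra.Order.Chebyshev

set_option autoImplicit false
open Cfsg

namespace Cfsg.Agent.S4541

open Polynomial
open scoped ComplexConjugate

/-- The trace weight of a power of a primitive root of unity of order a power of two. -/
def weight (N m : ℕ) : ℤ := if N ∣ m then 1 else if N ∣ 2 * m then -1 else 0

theorem sum_pow_primitiveRoots (n : ℕ) {ζ : ℂ} (hζ : IsPrimitiveRoot ζ (2 ^ n)) (m : ℕ) :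
    ∑ η ∈ primitiveRoots (2 ^ n) ℂ, η ^ m =
      ((primitiveRoots (2 ^ n) ℂ).card : ℂ) * (weight (2 ^ n) m : ℂ) := by
  have hN : 0 < 2 ^ n := Nat.two_pow_pos n
  have hmem : ∀ η : ℂ, η ∈ primitiveRoots (2 ^ n) ℂ ↔ IsPrimitiveRoot η (2 ^ n) := fun η =>
    mem_primitiveRoots hN
  unfold weight
  split_ifs with h1 h2
  · rw [Finset.sum_congr rfl fun η hη => ((hmem η).1 hη).pow_eq_one_iff_dvd m |>.2 h1]
    simp
  · rw [Finset.sum_congr rfl (g := fun _ => (-1 : ℂ)) fun η hη => ?_]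
    · simp
    · have hsq : (η ^ m) ^ 2 = 1 := by
        rw [← pow_mul, mul_comm]
        exact (((hmem η).1 hη).pow_eq_one_iff_dvd _).2 h2
      exact (sq_eq_one_iff.1 hsq).resolve_left fun h =>
        h1 ((((hmem η).1 hη).pow_eq_one_iff_dvd _).1 h)
  · rcases n with _ | k
    · simp at h1
    have hω : (ζ ^ 2) ^ m ≠ 1 := by
      rw [← pow_mul]
      exact fun h => h2 ((hζ.pow_eq_one_iff_dvd _).1 h)
    have hprim : ∀ η : ℂ, IsPrimitiveRoot η (2 ^ (k + 1)) ↔ η ^ 2 ^ (k + 1) = 1 ∧ η ^ 2 ^ k ≠ 1 := by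
      intro η
      refine ⟨fun h => ⟨h.pow_eq_one, h.pow_ne_one_of_pos_of_lt (Nat.two_pow_pos k).ne'
        (Nat.pow_lt_pow_right one_lt_two k.lt_succ_self)⟩, fun ⟨ha, hb⟩ => ?_⟩
      haveI : Fact (Nat.Prime 2) := ⟨Nat.prime_two⟩
      rw [← orderOf_eq_prime_pow hb ha]
      exact IsPrimitiveRoot.orderOf η
    have hz2 : (ζ ^ 2) ^ 2 ^ k = 1 := by
      rw [← pow_mul, ← pow_succ']; exact hζ.pow_eq_one
    have hshift : ∀ η : ℂ, η ∈ primitiveRoots (2 ^ (k + 1)) ℂ ↔
        η * ζ ^ 2 ∈ primitiveRoots (2 ^ (k + 1)) ℂ := by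
      intro η
      simp only [hmem, hprim, mul_pow, hz2, mul_one]
      rw [show (ζ ^ 2) ^ 2 ^ (k + 1) = 1 by rw [pow_succ 2 k, pow_mul, hz2, one_pow], mul_one]
    have hz0 : ζ ^ 2 ≠ 0 := pow_ne_zero 2 (hζ.ne_zero hN.ne')
    have hsum : ∑ η ∈ primitiveRoots (2 ^ (k + 1)) ℂ, η ^ m =
        (ζ ^ 2) ^ m * ∑ η ∈ primitiveRoots (2 ^ (k + 1)) ℂ, η ^ m := by
      rw [Finset.mul_sum]
      symm
      refine Finset.sum_bij (fun η _ => η * ζ ^ 2) (fun η hη => (hshift η).1 hη)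
        (fun a _ b _ h => mul_right_cancel₀ hz0 h)
        (fun η hη => ⟨η * (ζ ^ 2)⁻¹, (hshift _).2 (by rwa [inv_mul_cancel_right₀ hz0]),
          inv_mul_cancel_right₀ hz0 η⟩)
        (fun η _ => by rw [mul_pow η, mul_comm])
    simp only [Int.cast_zero, mul_zero]
    by_contra h
    exact hω (mul_right_cancel₀ h (hsum.symm.trans (one_mul _).symm))

/-- Let B be a 2-block of the finite group G (relative to a maximal ideal M of the algebraic integers containing 2), u a 2-element, and b a block of the centralizer of u inducing B (a subsection (u, b)), of defect q and 2-regular rank l; write s for the integer square root of l and k₀(B) for the number of members of B of height zero. If s is odd then k₀(B) ≤ s·2 ^ q, and otherwise (s + 1)·k₀(B) ≤ l·2 ^ q; in particular k₀(B) ≤ 2 ^ q when l ≤ 3. -/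
theorem result {G : Type*} [Group G] [Finite G] (M : Ideal Cfsg.AlgInt) (hM : Cfsg.IsPModular 2 M) (B : Set (Cfsg.IrrCharacter G)) (hB : Cfsg.IsPBlock M B) (u : G) (hu : ∃ j : ℕ, orderOf u = 2 ^ j) (b : Set (Cfsg.IrrCharacter ↥(Subgroup.centralizer ({u} : Set G)))) (hb : Cfsg.IsInducedBlock M (Subgroup.centralizer ({u} : Set G)) b B) : (Odd (Nat.sqrt (Cfsg.blockRank 2 b)) → Nat.card {χ : Cfsg.IrrCharacter G // χ ∈ B ∧ Cfsg.blockHeight 2 B (χ : G → ℂ) = 0} ≤ Nat.sqrt (Cfsg.blockRank 2 b) * 2 ^ Cfsg.blockDefect 2 b) ∧ (¬ Odd (Nat.sqrt (Cfsg.blockRank 2 b)) → (Nat.sqrt (Cfsg.blockRank 2 b) + 1) * Nat.card {χ : Cfsg.IrrCharacter G // χ ∈ B ∧ Cfsg.blockHeight 2 B (χ : G → ℂ) = 0} ≤ Cfsg.blockRank 2 b * 2 ^ Cfsg.blockDefect 2 b) ∧ (Cfsg.blockRank 2 b ≤ 3 → Nat.card {χ : Cfsg.IrrCharacter G // χ ∈ B ∧ Cfsg.blockHeight 2 B (χ : G → ℂ) = 0} ≤ 2 ^ Cfsg.blockDefect 2 b) := by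
  classical
  cases nonempty_fintype G
  haveI : Fact (Nat.Prime 2) := ⟨Nat.prime_two⟩
  obtain ⟨n, hn⟩ := hu
  set q := Cfsg.blockDefect 2 b with hq
  set l := Cfsg.blockRank 2 b with hl
  haveI : Fintype ↥(Subgroup.centralizer ({u} : Set G)) := Fintype.ofFinite _
  obtain ⟨ζ, e, hζ, hsymm, hproj, htrace, hcongr, hT⟩ := H83.exists_contrib hM hn _ rfl hb
  set N := 2 ^ n with hN
  haveI : NeZero N := ⟨(Nat.two_pow_pos n).ne'⟩
  set P := H83.contribPoly 2 N b e with hP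
  set K := Finset.univ.filter (fun χ : Cfsg.IrrCharacter G =>
    χ ∈ B ∧ Cfsg.blockHeight 2 B (χ : G → ℂ) = 0) with hK
  have hk0 : Nat.card {χ : Cfsg.IrrCharacter G // χ ∈ B ∧ Cfsg.blockHeight 2 B (χ : G → ℂ) = 0} =
      K.card := by
    rw [Nat.card_eq_fintype_card, Fintype.card_subtype, hK]
  set bf := Finset.univ.filter
    (fun ψ : Cfsg.IrrCharacter ↥(Subgroup.centralizer ({u} : Set G)) => ψ ∈ b) with hbf
  set x : Cfsg.IrrCharacter G → ℤ := fun χ => ∑ a ∈ bf ×ˢ bf,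
    H83.contribCoeff 2 b χ χ a.1 a.2 * weight N (e a.1 + (N - 1) * e a.2) with hx
  set S := primitiveRoots N ℂ with hS
  have hSpos : (0 : ℝ) < S.card := by
    rw [hS, hζ.card_primitiveRoots]
    exact Nat.cast_pos.2 (Nat.totient_pos.2 (NeZero.pos N))
  have havg : ∀ χ, ∑ η ∈ S, (aeval η (P χ χ)).re = (S.card : ℝ) * (x χ : ℝ) := by
    intro χ
    have h : ∑ η ∈ S, aeval η (P χ χ) = (S.card : ℂ) * (x χ : ℂ) := by
      have hexp : ∀ η : ℂ, aeval η (P χ χ) = ∑ a ∈ bf ×ˢ bf,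
          (H83.contribCoeff 2 b χ χ a.1 a.2 : ℂ) * η ^ (e a.1 + (N - 1) * e a.2) := fun η => by
        simp only [hP, H83.contribPoly, map_sum, map_mul, map_intCast, aeval_C, map_pow, aeval_X, eq_intCast,
          Finset.sum_product, hbf]
      simp only [hexp]
      rw [Finset.sum_comm, hx]
      simp only [Int.cast_sum, Int.cast_mul, Finset.mul_sum]
      refine Finset.sum_congr rfl fun a _ => ?_
      rw [← Finset.mul_sum, hS, hN, sum_pow_primitiveRoots n hζ]
      ring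
    have h2 := congrArg Complex.re h
    rw [Complex.re_sum] at h2
    rw [h2]
    simp
  have hdata := fun (η : ℂ) (hη : η ∈ S) =>
    H83.contrib_conjugates (l := l) hζ ((mem_primitiveRoots (NeZero.pos N)).1 hη)
      (Finset.univ.filter fun χ : Cfsg.IrrCharacter G => χ ∈ B) hsymm hproj htrace
  have hKB : K ⊆ Finset.univ.filter (fun χ : Cfsg.IrrCharacter G => χ ∈ B) := fun χ hχ =>
    Finset.mem_filter.2 ⟨Finset.mem_univ _, (Finset.mem_filter.1 hχ).2.1⟩
  have hne : ∀ χ ∈ K, ∀ χ' ∈ K, aeval ζ (P χ χ') ≠ 0 := by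
    intro χ hχ χ' hχ' h0
    obtain ⟨-, h1, h2⟩ := Finset.mem_filter.1 hχ
    obtain ⟨-, h1', h2'⟩ := Finset.mem_filter.1 hχ'
    have h3 := hcongr χ χ'
    rw [h0, zero_sub] at h3
    exact hT χ h1 h2 χ' h1' h2' ((BlockBasic.memLocalIdeal_intCast_iff hM _).1
      (by simpa using BlockBasic.memLocalIdeal_neg h3))
  -- the average of a diagonal entry is an odd integer
  have hodd : ∀ χ ∈ K, ¬ (2 : ℤ) ∣ x χ := by
    intro χ hχ
    obtain ⟨-, h1, h2⟩ := Finset.mem_filter.1 hχ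
    have hT' := hT χ h1 h2 χ h1 h2
    intro hdvd
    apply hT'
    have hdiff : ((x χ : ℤ) : ZMod 2) = ((H83.contribSum 2 b χ χ : ℤ) : ZMod 2) := by
      have hsum : H83.contribSum 2 b χ χ = ∑ a ∈ bf ×ˢ bf, H83.contribCoeff 2 b χ χ a.1 a.2 := by
        rw [Finset.sum_product]
        simp only [H83.contribSum, hbf]
      rw [hsum, hx, Int.cast_sum, Int.cast_sum, ← sub_eq_zero, ← Finset.sum_sub_distrib]
      refine Finset.sum_involution (fun a _ => (a.2, a.1)) ?_ ?_ ?_ ?_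
      · intro a ha
        obtain ⟨ha1, ha2⟩ := Finset.mem_product.1 ha
        have hc : H83.contribCoeff 2 b χ χ a.2 a.1 = H83.contribCoeff 2 b χ χ a.1 a.2 := by
          unfold H83.contribCoeff
          rw [H83.entry_symm hM hb.1 (Finset.mem_filter.1 ha2).2 (Finset.mem_filter.1 ha1).2]
          ring
        have hw : ((weight N (e a.2 + (N - 1) * e a.1) : ℤ) : ZMod 2) =
            ((weight N (e a.1 + (N - 1) * e a.2) : ℤ) : ZMod 2) := by
          have hdvd : ∀ i j : ℕ, N ∣ 2 * (i + (N - 1) * j) → N ∣ 2 * (j + (N - 1) * i) := by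
            intro i j h
            have hsum : 2 * (i + (N - 1) * j) + 2 * (j + (N - 1) * i) = N * (2 * (i + j)) := by
              obtain ⟨M', hM'⟩ : ∃ M', N = M' + 1 := ⟨N - 1, by have := NeZero.pos N; omega⟩
              rw [hM', Nat.add_sub_cancel]
              ring
            exact (Nat.dvd_add_right h).1 (hsum ▸ dvd_mul_right N _)
          have hval : ∀ m, ((weight N m : ℤ) : ZMod 2) = if N ∣ 2 * m then 1 else 0 := by
            intro m
            unfold weight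
            by_cases h1 : N ∣ m
            · rw [if_pos h1, if_pos (h1.mul_left 2)]; rfl
            · rw [if_neg h1]
              split_ifs
              · rfl
              · rfl
          rw [hval, hval]
          by_cases h : N ∣ 2 * (e a.1 + (N - 1) * e a.2)
          · rw [if_pos h, if_pos (hdvd _ _ h)]
          · rw [if_neg h, if_neg fun h' => h (hdvd _ _ h')]
        simp only [Int.cast_mul, hc, hw]
        exact CharTwo.add_self_eq_zero _
      · intro a _ ha heq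
        apply ha
        have h12 : a.2 = a.1 := congrArg Prod.fst heq
        rw [h12, Int.cast_mul, show weight N (e a.1 + (N - 1) * e a.1) = 1 from ?_]
        · simp
        · rw [weight, if_pos]
          rw [show e a.1 + (N - 1) * e a.1 = ((N - 1) + 1) * e a.1 by ring, Nat.sub_add_cancel (NeZero.pos N)]
          exact dvd_mul_right N _
      · intro a ha
        exact Finset.mem_product.2 ⟨(Finset.mem_product.1 ha).2, (Finset.mem_product.1 ha).1⟩
      · intro a _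
        rfl
    rw [(ZMod.intCast_zmod_eq_zero_iff_dvd _ 2).2 (by exact_mod_cast hdvd)] at hdiff
    exact (ZMod.intCast_zmod_eq_zero_iff_dvd _ 2).1 hdiff.symm
  -- the quadratic inequality
  have hquad : ∀ χ ∈ K, x χ ^ 2 + ((K.card : ℤ) - 1) ≤ (2 : ℤ) ^ q * x χ := by
    intro χ hχ
    have hKe : (K.erase χ).card + 1 = K.card := Finset.card_erase_add_one hχ
    have hdiag : (S.card : ℝ) * (x χ : ℝ) ^ 2 ≤ ∑ η ∈ S, ‖aeval η (P χ χ)‖ ^ 2 := by
      have hreal : ∀ η ∈ S, ‖aeval η (P χ χ)‖ ^ 2 = (aeval η (P χ χ)).re ^ 2 := by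
        intro η hη
        have h := hsymm η ((mem_primitiveRoots (NeZero.pos N)).1 hη).pow_eq_one χ χ
        have him : (aeval η (P χ χ)).im = 0 := Complex.conj_eq_iff_im.1 h.symm
        rw [Complex.sq_norm, Complex.normSq_apply, him]
        ring
      rw [Finset.sum_congr rfl hreal]
      have hcs := sq_sum_le_card_mul_sum_sq (s := S) (f := fun η => (aeval η (P χ χ)).re)
      rw [havg χ] at hcs
      refine le_of_mul_le_mul_left ?_ hSpos
      calc (S.card : ℝ) * ((S.card : ℝ) * (x χ : ℝ) ^ 2) = ((S.card : ℝ) * (x χ : ℝ)) ^ 2 := by ring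
        _ ≤ _ := hcs
    have hoff : ((K.erase χ).card : ℝ) * S.card ≤
        ∑ χ' ∈ K.erase χ, ∑ η ∈ S, ‖aeval η (P χ χ')‖ ^ 2 := by
      rw [← nsmul_eq_mul]
      refine Finset.card_nsmul_le_sum _ _ _ fun χ' hχ' => ?_
      exact H83.card_le_sum_norm_sq_aeval _ hζ (hne χ hχ χ' (Finset.mem_of_mem_erase hχ'))
    have hall : (S.card : ℝ) * ((x χ : ℝ) ^ 2 + ((K.card : ℝ) - 1)) ≤
        (S.card : ℝ) * ((2 : ℝ) ^ q * (x χ : ℝ)) := by
      calc (S.card : ℝ) * ((x χ : ℝ) ^ 2 + ((K.card : ℝ) - 1))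
          = (S.card : ℝ) * (x χ : ℝ) ^ 2 + ((K.erase χ).card : ℝ) * S.card := by
            rw [← hKe]; push_cast; ring
        _ ≤ ∑ η ∈ S, ‖aeval η (P χ χ)‖ ^ 2 + ∑ χ' ∈ K.erase χ, ∑ η ∈ S, ‖aeval η (P χ χ')‖ ^ 2 :=
            add_le_add hdiag hoff
        _ = ∑ η ∈ S, ∑ χ' ∈ K, ‖aeval η (P χ χ')‖ ^ 2 := by
            rw [Finset.add_sum_erase K (fun χ' => ∑ η ∈ S, ‖aeval η (P χ χ')‖ ^ 2) hχ]
            exact Finset.sum_comm
        _ ≤ ∑ η ∈ S, (2 : ℝ) ^ q * (aeval η (P χ χ)).re := by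
            refine Finset.sum_le_sum fun η hη => ?_
            refine le_trans (Finset.sum_le_sum_of_subset_of_nonneg hKB fun _ _ _ => sq_nonneg _)
              (le_of_eq ?_)
            exact_mod_cast (hdata η hη).1 χ
        _ = _ := by rw [← Finset.mul_sum, havg]; ring
    exact_mod_cast le_of_mul_le_mul_left hall hSpos
  have hsumx : ∑ χ ∈ K, x χ ≤ (2 : ℤ) ^ q * (l : ℤ) := by
    have h1 : (S.card : ℝ) * (((∑ χ ∈ K, x χ : ℤ)) : ℝ) ≤
        (S.card : ℝ) * ((2 : ℝ) ^ q * (l : ℝ)) := by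
      calc (S.card : ℝ) * (((∑ χ ∈ K, x χ : ℤ)) : ℝ)
          = ∑ η ∈ S, ∑ χ ∈ K, (aeval η (P χ χ)).re := by
            rw [Int.cast_sum, Finset.mul_sum, Finset.sum_comm]
            exact Finset.sum_congr rfl fun χ _ => (havg χ).symm
        _ ≤ ∑ η ∈ S, ((2 : ℝ) ^ q * (l : ℝ)) := Finset.sum_le_sum fun η hη =>
            le_trans (Finset.sum_le_sum_of_subset_of_nonneg hKB fun χ _ _ => (hdata η hη).2.2 χ)
              (le_of_eq (by exact_mod_cast (hdata η hη).2.1))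
        _ = _ := by rw [Finset.sum_const, nsmul_eq_mul]
    exact_mod_cast le_of_mul_le_mul_left h1 hSpos
  set s := Nat.sqrt l with hs
  have hs1 : (s : ℤ) * s ≤ l := by exact_mod_cast Nat.sqrt_le l
  have hs2 : (l : ℤ) < (s + 1) * (s + 1) := by exact_mod_cast Nat.lt_succ_sqrt l
  set T : ℤ := (2 : ℤ) ^ q with hTdef
  have hT1 : 1 ≤ T := one_le_pow₀ (by norm_num)
  have hx1 : ∀ χ ∈ K, 1 ≤ x χ := by
    intro χ hχ
    have h1 := hquad χ hχ
    have h2 : (1 : ℤ) ≤ K.card := by exact_mod_cast Finset.card_pos.2 ⟨χ, hχ⟩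
    have h3 : 0 ≤ T * x χ := le_trans (by nlinarith) h1
    have h4 : x χ ≠ 0 := fun h => hodd χ hχ (h ▸ dvd_zero _)
    rcases lt_or_gt_of_ne h4 with h | h
    · nlinarith
    · omega
  -- the dichotomy
  have hdich : ∀ c : ℤ, (∀ χ ∈ K, c ≤ x χ) → c * K.card ≤ T * l := by
    intro c hc
    refine le_trans ?_ hsumx
    rw [mul_comm, ← nsmul_eq_mul]
    exact Finset.card_nsmul_le_sum _ _ _ hc
  have hsmall : ∀ c : ℤ, ∀ χ ∈ K, x χ ≤ c → (K.card : ℤ) ≤ T * c := by
    intro c χ hχ hc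
    have h1 := hquad χ hχ
    have h2 := hx1 χ hχ
    nlinarith
  have hA : Odd s → K.card ≤ s * 2 ^ q := by
    intro hso
    obtain ⟨k, hk⟩ := hso
    suffices (K.card : ℤ) ≤ T * s by
      have h : (K.card : ℤ) ≤ ((s * 2 ^ q : ℕ) : ℤ) := by push_cast; linarith
      exact_mod_cast h
    by_cases hall : ∀ χ ∈ K, (s : ℤ) + 2 ≤ x χ
    · have h := hdich _ hall
      have h3 : T * l ≤ T * ((s : ℤ) * (s + 2)) := mul_le_mul_of_nonneg_left (by nlinarith) (by linarith)
      nlinarith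
    · push Not at hall
      obtain ⟨χ, hχ, hlt⟩ := hall
      refine hsmall _ χ hχ ?_
      by_contra hgt
      apply hodd χ hχ
      exact ⟨(k : ℤ) + 1, by have : (s : ℤ) = 2 * k + 1 := by exact_mod_cast hk
                             omega⟩
  have hB' : ¬ Odd s → (s + 1) * K.card ≤ l * 2 ^ q := by
    intro hso
    rw [Nat.not_odd_iff_even] at hso
    obtain ⟨k, hk⟩ := hso
    suffices ((s : ℤ) + 1) * K.card ≤ T * l by
      have h : (((s + 1) * K.card : ℕ) : ℤ) ≤ ((l * 2 ^ q : ℕ) : ℤ) := by push_cast; linarith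
      exact_mod_cast h
    by_cases hall : ∀ χ ∈ K, (s : ℤ) + 1 ≤ x χ
    · exact hdich _ hall
    · push Not at hall
      obtain ⟨χ, hχ, hlt⟩ := hall
      have h1 : x χ ≤ (s : ℤ) - 1 := by
        by_contra hgt
        apply hodd χ hχ
        exact ⟨(k : ℤ), by have : (s : ℤ) = k + k := by exact_mod_cast hk
                           omega⟩
      have h2 := hsmall _ χ hχ h1
      nlinarith
  rw [hk0]
  refine ⟨hA, hB', fun hl3 => ?_⟩
  by_cases h0 : l = 0
  · have := hB' (by simp [hs, h0])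
    simp [hs, h0] at this
    simp [this]
  · have hs' : s = 1 := by
      have hs1' := Nat.sqrt_le l
      have hs2' := Nat.lt_succ_sqrt l
      rw [← hs] at hs1' hs2'
      rcases Nat.eq_zero_or_pos s with h | h
      · rw [h] at hs2'; omega
      · nlinarith
    simpa [hs'] using hA (by rw [hs']; exact odd_one)

end Cfsg.Agent.S4541
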