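import Cfsg.Statements.S4552
import Cfsg.Agent.H80.PuigUsami.RankTwo

set_option autoImplicit false
open Cfsg
open Cfsg.Agent

namespace Cfsg.Agent.S4552

/-- Let B be a 2-block of the finite group G (relative to a maximal ideal M of the algebraic integers containing 2) whose defect group D is the direct product of two cyclic groups of the same order 2 ^ m, m ≥ 2. Then either B has 2-regular rank one and exactly 4 ^ m irreducible characters, or B has 2-regular rank three and exactly (4 ^ m + 8) / 3 irreducible characters. -/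
theorem result {G : Type*} [Group G] [Finite G] (M : Ideal Cfsg.AlgInt) (hM : Cfsg.IsPModular 2 M) (B : Set (Cfsg.IrrCharacter G)) (hB : Cfsg.IsPBlock M B) (D : Subgroup G) (hD : Cfsg.IsDefectGroup 2 M B D) (m : ℕ) (hm : 2 ≤ m) (hiso : Nonempty (D ≃* Multiplicative (ZMod (2 ^ m) × ZMod (2 ^ m)))) : (Cfsg.blockRank 2 B = 1 ∧ Nat.card B = 4 ^ m) ∨ (Cfsg.blockRank 2 B = 3 ∧ 3 * Nat.card B = 4 ^ m + 8) := by
  classical
  cases nonempty_fintype G
  obtain ⟨P, c, hmax⟩ := H82.exists_maximal hM hB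
  have hPD := S4659.result 2 M hM B P c hmax
  obtain ⟨g, hg⟩ := H35.defectGroup_le_conj hM hB hD hPD
  have hcardD : Nat.card D = 4 ^ m := by
    obtain ⟨φ⟩ := hiso
    rw [Nat.card_congr φ.toEquiv, Nat.card_congr Multiplicative.toAdd, Nat.card_prod, Nat.card_zmod,
      ← mul_pow]
    norm_num
  have hcard : Nat.card P = Nat.card D := by
    rw [H35.card_defectGroup hM hB hPD, H35.card_defectGroup hM hB hD]
  have hPeq : P = D.map (MulAut.conj g).toMonoidHom := Subgroup.eq_of_le_of_card_ge hg (by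
    rw [hcard, Subgroup.card_map_of_injective (MulAut.conj g).injective])
  obtain ⟨φ⟩ := hiso
  let ψ : P ≃* Multiplicative (ZMod (2 ^ m) × ZMod (2 ^ m)) :=
    ((MulEquiv.subgroupCongr hPeq).trans
      (D.equivMapOfInjective _ (MulAut.conj g).injective).symm).trans φ
  have hab : ∀ x ∈ P, ∀ y ∈ P, x * y = y * x := fun x hx y hy =>
    congrArg Subtype.val (ψ.injective (show ψ (⟨x, hx⟩ * ⟨y, hy⟩) = ψ (⟨y, hy⟩ * ⟨x, hx⟩) by
      rw [map_mul, map_mul, mul_comm]))
  have hP1 : P ≠ ⊥ := fun h => by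
    rw [h, Subgroup.card_bot, hcardD] at hcard
    exact absurd (Nat.one_lt_pow (by omega : m ≠ 0) (by norm_num : 1 < 4)) (by omega)
  have h4 : (Finset.univ.filter fun x : P => x ^ 2 = 1).card ≤ 4 := by
    let f : P → Multiplicative (ZMod (2 ^ m)) × Multiplicative (ZMod (2 ^ m)) := fun x =>
      ((AddMonoidHom.fst (ZMod (2 ^ m)) (ZMod (2 ^ m))).toMultiplicative (ψ x),
        (AddMonoidHom.snd (ZMod (2 ^ m)) (ZMod (2 ^ m))).toMultiplicative (ψ x))
    refine (Finset.card_le_card_of_injOn f (t := (Finset.univ.filter fun x => x ^ 2 = 1) ×ˢ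
      (Finset.univ.filter fun x => x ^ 2 = 1)) (fun x hx => ?_) fun x _ y _ hxy => ?_).trans ?_
    · have hx2 : x ^ 2 = 1 := (Finset.mem_filter.1 hx).2
      refine Finset.mem_product.2 ⟨?_, ?_⟩ <;> refine Finset.mem_filter.2 ⟨Finset.mem_univ _, ?_⟩ <;>
        simp only [f, ← map_pow, hx2, map_one]
    · refine ψ.injective (Multiplicative.toAdd.injective (Prod.ext ?_ ?_))
      · exact congrArg Multiplicative.toAdd (Prod.ext_iff.1 hxy).1
      · exact congrArg Multiplicative.toAdd (Prod.ext_iff.1 hxy).2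
    · rw [Finset.card_product]
      exact Nat.mul_le_mul (IsCyclic.card_pow_eq_one_le (by norm_num))
        (IsCyclic.card_pow_eq_one_le (by norm_num))
  obtain ⟨hfree, he⟩ := H80.PuigUsami.free_of_four hM hmax hab hP1 h4
  have hC : P ≤ Subgroup.centralizer (P : Set G) := fun x hx =>
    Subgroup.mem_centralizer_iff.2 fun y hy => hab y hy x hx
  obtain ⟨n, -, hn, -, hkl, -, heq⟩ := H80.PuigUsami.main hM hmax hPD
    (H83.major_of_le hM hmax hmax.1.1.1 hC hC Relation.ReflTransGen.refl).1 hab hfree hP1 rfl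
  rcases he with h | h <;> rw [h] at hn heq <;> rw [hkl, heq (by norm_num)]
  · exact Or.inl ⟨rfl, by rw [← hcardD, ← hcard, ← hn]; omega⟩
  · exact Or.inr ⟨rfl, by rw [← hcardD, ← hcard, ← hn]; omega⟩

end Cfsg.Agent.S4552
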