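import Cfsg.Statements.S4560
import Cfsg.Agent.H81.FourTransitive
import Mathlib.GroupTheory.Perm.Cycle.PossibleTypes
import Mathlib.GroupTheory.SpecificGroups.Alternating

set_option autoImplicit false
open Cfsg

namespace Cfsg.Agent.S4560

open MulAction Equiv Equiv.Perm H81

variable {n : ℕ}

theorem fixCount_perm (g : Equiv.Perm (Fin n)) :
    fixCount (Fin n) g = n - g.cycleType.sum := by
  rw [sum_cycleType, fixCount]
  have : (Finset.univ.filter fun a : Fin n => g • a = a) = g.supportᶜ := by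
    ext a; simp
  rw [this, Finset.card_compl, Fintype.card_fin]

theorem swapCount_perm (g : Equiv.Perm (Fin n)) (h : 2 ∉ g.cycleType) :
    swapCount (Fin n) g = 0 := by
  rw [swapCount, Finset.card_eq_zero, Finset.filter_eq_empty_iff]
  rintro a - ⟨ha, ha2⟩
  rw [Equiv.Perm.smul_def] at ha ha2
  rw [Equiv.Perm.smul_def] at ha2
  apply h
  have hc : (g.cycleOf a).IsCycle := isCycle_cycleOf _ ha
  have h2 : g.cycleOf a ^ 2 = 1 := by
    refine hc.pow_eq_one_iff.2 ⟨a, by rwa [cycleOf_apply_self], ?_⟩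
    rw [cycleOf_pow_apply_self, pow_two, Equiv.Perm.mul_apply, ha2]
  have ho : orderOf (g.cycleOf a) = 2 := orderOf_eq_prime h2 hc.ne_one
  rw [cycleType_def, Multiset.mem_map]
  exact ⟨g.cycleOf a, Finset.mem_def.1 (cycleOf_mem_cycleFactorsFinset_iff.2 (mem_support.2 ha)),
    by rw [Function.comp_apply, ← hc.orderOf, ho]⟩

/-- An even permutation of prescribed cycle type. -/
theorem exists_alt (m : Multiset ℕ) (N : ℕ) (h2 : ∀ a ∈ m, 2 ≤ a ∧ a ∣ N) (hs : m.sum ≤ n)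
    (he : Even (m.sum + Multiset.card m)) :
    ∃ x : alternatingGroup (Fin n), (x : Equiv.Perm (Fin n)).cycleType = m ∧ orderOf x ∣ N := by
  obtain ⟨g, hg⟩ := (Equiv.Perm.exists_with_cycleType_iff (Fin n)).2
    ⟨by rwa [Fintype.card_fin], fun a ha => (h2 a ha).1⟩
  refine ⟨⟨g, ?_⟩, hg, ?_⟩
  · rw [mem_alternatingGroup, sign_of_cycleType, hg, he.neg_one_pow]
  · rw [← Subgroup.orderOf_coe, ← lcm_cycleType]
    exact Multiset.lcm_dvd.2 fun a ha => (h2 a (by simpa [hg] using ha)).2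

/-- The three characters, with the conditions for vanishing. -/
theorem exists_pair (hn : 7 ≤ n) (x : alternatingGroup (Fin n))
    (h : n - (x : Equiv.Perm (Fin n)).cycleType.sum = 1 ∨
      (n - (x : Equiv.Perm (Fin n)).cycleType.sum = 0 ∨
        n - (x : Equiv.Perm (Fin n)).cycleType.sum = 2) ∧
        2 ∉ (x : Equiv.Perm (Fin n)).cycleType) :
    ∃ χ : Cfsg.IrrCharacter (alternatingGroup (Fin n)),
      (χ : alternatingGroup (Fin n) → ℂ) x = 0 ∧
      ∃ ψ : Cfsg.IrrCharacter (Equiv.Perm (Fin n)), ∀ x : alternatingGroup (Fin n),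
        (ψ : Equiv.Perm (Fin n) → ℂ) x = (χ : alternatingGroup (Fin n) → ℂ) x := by
  classical
  have h4 : 4 ≤ Fintype.card (Fin n) := by rw [Fintype.card_fin]; omega
  haveI : IsMultiplyPretransitive (Equiv.Perm (Fin n)) (Fin n) 4 :=
    Equiv.Perm.isMultiplyPretransitive (Fin n) 4
  haveI : IsMultiplyPretransitive (alternatingGroup (Fin n)) (Fin n) 4 := by
    haveI := alternatingGroup.isMultiplyPretransitive (Fin n)
    exact isMultiplyPretransitive_of_le (n := Nat.card (Fin n) - 2)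
      (by rw [Nat.card_fin]; omega) (Nat.sub_le _ _)
  have hf : fixC (Fin n) x = ((n - (x : Equiv.Perm (Fin n)).cycleType.sum : ℕ) : ℂ) :=
    congrArg Nat.cast (fixCount_perm (x : Equiv.Perm (Fin n)))
  rcases h with h | ⟨h, hs⟩
  · refine ⟨⟨_, isIrr_std h4⟩, ?_, ⟨_, isIrr_std h4⟩, fun y => rfl⟩
    show fixC (Fin n) x - 1 = 0
    rw [hf, h]; norm_num
  · have hs' : swapC (Fin n) x = 0 := by
      have : swapC (Fin n) x = ((swapCount (Fin n) (x : Equiv.Perm (Fin n)) : ℕ) : ℂ) := rfl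
      rw [this, swapCount_perm _ hs, Nat.cast_zero]
    rcases h with h | h
    · refine ⟨⟨_, isIrr_sym h4⟩, ?_, ⟨_, isIrr_sym h4⟩, fun y => rfl⟩
      show (fixC (Fin n) x ^ 2 - 3 * fixC (Fin n) x + swapC (Fin n) x) / 2 = 0
      rw [hf, h, hs']; norm_num
    · refine ⟨⟨_, isIrr_alt h4⟩, ?_, ⟨_, isIrr_alt h4⟩, fun y => rfl⟩
      show (fixC (Fin n) x ^ 2 - 3 * fixC (Fin n) x + 2 - swapC (Fin n) x) / 2 = 0
      rw [hf, h, hs']; norm_num

theorem exists_two_element (hn : 7 ≤ n) : ∃ x : alternatingGroup (Fin n),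
    (∃ j : ℕ, orderOf x = 2 ^ j) ∧
    (n - (x : Equiv.Perm (Fin n)).cycleType.sum = 1 ∨
      (n - (x : Equiv.Perm (Fin n)).cycleType.sum = 0 ∨
        n - (x : Equiv.Perm (Fin n)).cycleType.sum = 2) ∧
        2 ∉ (x : Equiv.Perm (Fin n)).cycleType) := by
  have key : ∀ m : Multiset ℕ, (∀ a ∈ m, 2 ≤ a ∧ a ∣ 2 ^ 3) → m.sum ≤ n →
      Even (m.sum + Multiset.card m) →
      (n - m.sum = 1 ∨ (n - m.sum = 0 ∨ n - m.sum = 2) ∧ 2 ∉ m) →
      ∃ x : alternatingGroup (Fin n), (∃ j : ℕ, orderOf x = 2 ^ j) ∧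
      (n - (x : Equiv.Perm (Fin n)).cycleType.sum = 1 ∨
        (n - (x : Equiv.Perm (Fin n)).cycleType.sum = 0 ∨
          n - (x : Equiv.Perm (Fin n)).cycleType.sum = 2) ∧
          2 ∉ (x : Equiv.Perm (Fin n)).cycleType) := by
    intro m h1 h2 h3 h4
    obtain ⟨x, hx, hord⟩ := exists_alt m _ h1 h2 h3
    obtain ⟨j, -, hj⟩ := (Nat.dvd_prime_pow Nat.prime_two).1 hord
    exact ⟨x, ⟨j, hj⟩, by rw [hx]; exact h4⟩
  obtain ⟨q, r, hr, rfl⟩ : ∃ q r, r < 4 ∧ n = 4 * q + r :=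
    ⟨n / 4, n % 4, Nat.mod_lt _ (by norm_num), (Nat.div_add_mod n 4).symm⟩
  obtain hr | hr | hr | hr : r = 0 ∨ r = 1 ∨ r = 2 ∨ r = 3 := by omega
  all_goals subst hr
  · -- only four-cycles, or one eight-cycle and four-cycles
    obtain ⟨t, rfl | rfl⟩ : ∃ t, q = 2 * t ∨ q = 2 * t + 3 :=
      (Nat.even_or_odd' q).elim fun t ht => ht.elim (fun h => ⟨t, Or.inl h⟩)
        fun h => ⟨t - 1, Or.inr (by omega)⟩
    · refine key (Multiset.replicate (2 * t) 4) ?_ ?_ ?_ ?_ <;>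
        simp [Multiset.mem_replicate, Nat.even_iff] <;> omega
    · refine key (8 ::ₘ Multiset.replicate (2 * t + 1) 4) ?_ ?_ ?_ ?_ <;>
        simp [Multiset.mem_replicate, Nat.even_iff] <;> omega
  · refine key (Multiset.replicate (2 * q) 2) ?_ ?_ ?_ ?_ <;>
      simp [Multiset.mem_replicate, Nat.even_iff] <;> omega
  · obtain ⟨t, rfl | rfl⟩ : ∃ t, q = 2 * t ∨ q = 2 * t + 3 :=
      (Nat.even_or_odd' q).elim fun t ht => ht.elim (fun h => ⟨t, Or.inl h⟩)
        fun h => ⟨t - 1, Or.inr (by omega)⟩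
    · refine key (Multiset.replicate (2 * t) 4) ?_ ?_ ?_ ?_ <;>
        simp [Multiset.mem_replicate, Nat.even_iff] <;> omega
    · refine key (8 ::ₘ Multiset.replicate (2 * t + 1) 4) ?_ ?_ ?_ ?_ <;>
        simp [Multiset.mem_replicate, Nat.even_iff] <;> omega
  · refine key (4 ::ₘ Multiset.replicate (2 * q - 1) 2) ?_ ?_ ?_ ?_ <;>
      simp [Multiset.mem_replicate, Nat.even_iff] <;> omega

theorem exists_three_element (hn : 7 ≤ n) : ∃ x : alternatingGroup (Fin n),
    orderOf x = 3 ∧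
    (n - (x : Equiv.Perm (Fin n)).cycleType.sum = 1 ∨
      (n - (x : Equiv.Perm (Fin n)).cycleType.sum = 0 ∨
        n - (x : Equiv.Perm (Fin n)).cycleType.sum = 2) ∧
        2 ∉ (x : Equiv.Perm (Fin n)).cycleType) := by
  obtain ⟨x, hx, hord⟩ := exists_alt (n := n) (Multiset.replicate (n / 3) 3) 3
    (fun a ha => by simp [Multiset.eq_of_mem_replicate ha])
    (by simp; omega) (by simp [Nat.even_iff]; omega)
  refine ⟨x, (Nat.prime_three.eq_one_or_self_of_dvd _ hord).resolve_left fun h => ?_, ?_⟩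
  · have h1 : x = 1 := orderOf_eq_one_iff.1 h
    have h0 := congrArg Multiset.card hx
    rw [h1, Subgroup.coe_one, cycleType_one, Multiset.card_zero, Multiset.card_replicate] at h0
    omega
  · rw [hx]
    simp [Multiset.mem_replicate]
    omega

/-- For n ≥ 7 the alternating group on n letters has an irreducible character that vanishes at some 2-element and is the restriction of an irreducible character of the symmetric group, and an irreducible character that vanishes at some element of order 3 and is the restriction of an irreducible character of the symmetric group. -/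
theorem result (n : ℕ) (hn : 7 ≤ n) : (∃ χ : Cfsg.IrrCharacter (alternatingGroup (Fin n)), (∃ x : alternatingGroup (Fin n), (∃ j : ℕ, orderOf x = 2 ^ j) ∧ (χ : alternatingGroup (Fin n) → ℂ) x = 0) ∧ ∃ ψ : Cfsg.IrrCharacter (Equiv.Perm (Fin n)), ∀ x : alternatingGroup (Fin n), (ψ : Equiv.Perm (Fin n) → ℂ) x = (χ : alternatingGroup (Fin n) → ℂ) x) ∧ (∃ χ : Cfsg.IrrCharacter (alternatingGroup (Fin n)), (∃ y : alternatingGroup (Fin n), orderOf y = 3 ∧ (χ : alternatingGroup (Fin n) → ℂ) y = 0) ∧ ∃ ψ : Cfsg.IrrCharacter (Equiv.Perm (Fin n)), ∀ x : alternatingGroup (Fin n), (ψ : Equiv.Perm (Fin n) → ℂ) x = (χ : alternatingGroup (Fin n) → ℂ) x) := by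
  obtain ⟨x, hx, hx'⟩ := exists_two_element hn
  obtain ⟨y, hy, hy'⟩ := exists_three_element hn
  obtain ⟨χ, h1, h2⟩ := exists_pair hn x hx'
  obtain ⟨φ, h3, h4⟩ := exists_pair hn y hy'
  exact ⟨⟨χ, ⟨x, hx, h1⟩, h2⟩, ⟨φ, ⟨y, hy, h3⟩, h4⟩⟩

end Cfsg.Agent.S4560
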