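import Cfsg.Statements.S4561
import Cfsg.Agent.H81.CentralType
import Cfsg.Agent.CharBasic.Rep
import Mathlib.RingTheory.RootsOfUnity.Complex

set_option autoImplicit false
universe u
open Cfsg

namespace Cfsg.Agent.S4561

variable {m : ℕ} {K : Type u} [Group K] {ι : Type u} [Fintype ι] [DecidableEq ι]

/-- Scalar multiples of the basis, as units. -/
def carrierSet (m : ℕ) (M : K → Matrix ι ι ℂ) : Set (Matrix ι ι ℂ)ˣ :=
  {h | ∃ (z : ℂ) (k : K), z ^ m = 1 ∧ (h : Matrix ι ι ℂ) = z • M k}

theorem ne_zero_of_pow (hm : m ≠ 0) {z : ℂ} (hz : z ^ m = 1) : z ≠ 0 := fun h => by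
  rw [h, zero_pow hm] at hz
  exact zero_ne_one hz

/-- The finite group of units spanned by a twisted basis. -/
def twistedGroup (m : ℕ) (hm : m ≠ 0) (M : K → Matrix ι ι ℂ) (c : K → K → ℂ) (h1 : M 1 = 1)
    (hc : ∀ x y, c x y ^ m = 1 ∧ M x * M y = c x y • M (x * y)) :
    Subgroup (Matrix ι ι ℂ)ˣ where
  carrier := carrierSet m M
  one_mem' := ⟨1, 1, one_pow m, by rw [Units.val_one, one_smul, h1]⟩
  mul_mem' := by
    rintro a b ⟨z, k, hz, ha⟩ ⟨w, l, hw, hb⟩
    refine ⟨z * w * c k l, k * l, ?_, ?_⟩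
    · rw [mul_pow, mul_pow, hz, hw, (hc k l).1, one_mul, one_mul]
    · rw [Units.val_mul, ha, hb, Matrix.smul_mul, Matrix.mul_smul, (hc k l).2, smul_smul, smul_smul,
        mul_assoc]
  inv_mem' := by
    rintro a ⟨z, k, hz, ha⟩
    refine ⟨(z * c k k⁻¹)⁻¹, k⁻¹, by rw [inv_pow, mul_pow, hz, (hc _ _).1, one_mul, inv_one], ?_⟩
    refine Units.inv_eq_of_mul_eq_one_right ?_
    rw [ha, Matrix.smul_mul, Matrix.mul_smul, (hc _ _).2, smul_smul, smul_smul, mul_inv_cancel, h1]
    have h0 : z * c k k⁻¹ ≠ 0 :=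
      mul_ne_zero (ne_zero_of_pow hm hz) (ne_zero_of_pow hm (hc _ _).1)
    rw [show z * (z * c k k⁻¹)⁻¹ * c k k⁻¹ = 1 by field_simp; rw [div_self h0], one_smul]

/-- A twisted basis gives a group of central type. -/
theorem exists_central_type (hm : m ≠ 0) [Fintype K] (hT : H81.HasTwistedBasis m K) :
    ∃ (H : Type u) (_ : Group H) (_ : Finite H) (χ : Cfsg.IrrCharacter H),
      (∀ h : H, (χ : H → ℂ) h = (χ : H → ℂ) 1 → h = 1) ∧
      (Cfsg.charDegree (χ : H → ℂ)) ^ 2 = (Subgroup.center H).index ∧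
      Nonempty (K →* H ⧸ Subgroup.center H) ∧
      (∃ f : K →* H ⧸ Subgroup.center H, Function.Injective f) ∧
      Nat.card (Subgroup.center H) = m ∧ Nat.card H = m * Fintype.card K := by
  classical
  haveI : NeZero m := ⟨hm⟩
  obtain ⟨ι, _, _, M, c, hli, hcard, h1, hc⟩ := hT
  let H := twistedGroup m hm M c h1 hc
  have hunit : ∀ (z : ℂ) (k : K), z ^ m = 1 → IsUnit (z • M k) := by
    intro z k hz
    have h0 : z * c k k⁻¹ ≠ 0 :=
      mul_ne_zero (ne_zero_of_pow hm hz) (ne_zero_of_pow hm (hc _ _).1)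
    refine IsUnit.of_mul_eq_one ((z * c k k⁻¹)⁻¹ • M k⁻¹) ?_
    rw [Matrix.smul_mul, Matrix.mul_smul, (hc _ _).2, smul_smul, smul_smul, mul_inv_cancel, h1,
      show z * (z * c k k⁻¹)⁻¹ * c k k⁻¹ = 1 by field_simp; rw [div_self h0], one_smul]
  let mk : rootsOfUnity m ℂ × K → H := fun x =>
    ⟨(hunit ((x.1 : ℂˣ) : ℂ) x.2 ((mem_rootsOfUnity' m _).1 x.1.2)).unit,
      ((x.1 : ℂˣ) : ℂ), x.2, (mem_rootsOfUnity' m _).1 x.1.2, IsUnit.unit_spec _⟩
  have hmk : ∀ x : rootsOfUnity m ℂ × K,
      ((mk x : (Matrix ι ι ℂ)ˣ) : Matrix ι ι ℂ) = ((x.1 : ℂˣ) : ℂ) • M x.2 := fun x =>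
    IsUnit.unit_spec _
  have hinj : ∀ (z w : ℂ) (k l : K), z ≠ 0 → z • M k = w • M l → k = l ∧ z = w := by
    intro z w k l hz h
    have h0 := Fintype.linearIndependent_iff.1 hli (Pi.single k z - Pi.single l w) (by
      simp [sub_smul, Finset.sum_sub_distrib, Pi.single_apply, ite_smul, h])
    have hk := h0 k
    by_cases hkl : k = l
    · subst hkl
      simpa [sub_eq_zero] using hk
    · simp [Pi.single_apply, hkl, hz] at hk
  have hmkinj : Function.Injective mk := by
    intro x y h
    have h' := congrArg (fun h : H => ((h : (Matrix ι ι ℂ)ˣ) : Matrix ι ι ℂ)) h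
    simp only [hmk] at h'
    obtain ⟨h2, h3⟩ := hinj _ _ _ _ (Units.ne_zero _) h'
    exact Prod.ext (Subtype.ext (Units.ext h3)) h2
  have hmksurj : Function.Surjective mk := by
    rintro ⟨h, z, k, hz, hh⟩
    exact ⟨(rootsOfUnity.mkOfPowEq z hz, k), Subtype.ext (Units.ext ((hmk _).trans
      (by rw [rootsOfUnity.val_mkOfPowEq_coe]; exact hh.symm)))⟩
  let E := Equiv.ofBijective mk ⟨hmkinj, hmksurj⟩
  haveI : Finite H := Finite.of_equiv _ E
  have hHcard : Nat.card H = m * Fintype.card K := by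
    rw [← Nat.card_congr E, Nat.card_prod, Complex.card_rootsOfUnity, Nat.card_eq_fintype_card]
  have hspan : Submodule.span ℂ (Set.range M) = ⊤ := by
    refine hli.span_eq_top_of_card_eq_finrank' ?_
    rw [Module.finrank_matrix, Module.finrank_self, mul_one, hcard, sq]
  have hcentral : ∀ (z : rootsOfUnity m ℂ) (k : K), mk (z, k) ∈ Subgroup.center H ↔ k = 1 := by
    intro z k
    constructor
    · intro hk
      rw [Subgroup.mem_center_iff] at hk
      have hcomm : ∀ X ∈ Submodule.span ℂ (Set.range M), X * M k = M k * X := by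
        intro X hX
        induction hX using Submodule.span_induction with
        | mem X hX =>
          obtain ⟨l, rfl⟩ := hX
          have h2 := congrArg (fun h : H => ((h : (Matrix ι ι ℂ)ˣ) : Matrix ι ι ℂ))
            (hk (mk (1, l)))
          simp only [Subgroup.coe_mul, Units.val_mul, hmk, OneMemClass.coe_one, Units.val_one,
            one_smul, Matrix.smul_mul, Matrix.mul_smul] at h2
          exact smul_right_injective _ (Units.ne_zero (z : ℂˣ)) h2
        | zero => simp
        | add a b _ _ ha hb => rw [Matrix.add_mul, Matrix.mul_add, ha, hb]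
        | smul a b _ hb => rw [Matrix.smul_mul, Matrix.mul_smul, hb]
      obtain ⟨a, ha⟩ := Matrix.mem_range_scalar_of_commute_single (M := M k)
        fun i j _ => hcomm _ (hspan ▸ Submodule.mem_top)
      have h3 : (1 : ℂ) • M k = a • M 1 := by
        rw [one_smul, h1, ← ha, Matrix.scalar_apply, Matrix.smul_one_eq_diagonal]
      exact (hinj _ _ _ _ one_ne_zero h3).1
    · rintro rfl
      refine Subgroup.mem_center_iff.2 fun g => Subtype.ext (Units.ext ?_)
      simp only [Subgroup.coe_mul, Units.val_mul, hmk, h1, Matrix.smul_mul, Matrix.mul_smul,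
        Matrix.one_mul, Matrix.mul_one]
  have hZcard : Nat.card (Subgroup.center H) = m := by
    rw [← Nat.card_congr (Equiv.ofBijective
      (fun z : rootsOfUnity m ℂ => (⟨mk (z, 1), (hcentral z 1).2 rfl⟩ : Subgroup.center H))
      ⟨fun a b h => (Prod.ext_iff.1 (hmkinj (congrArg Subtype.val h))).1, fun ⟨g, hg⟩ => by
        obtain ⟨⟨z, k⟩, rfl⟩ := hmksurj g
        obtain rfl := (hcentral z k).1 hg
        exact ⟨z, rfl⟩⟩), Complex.card_rootsOfUnity]
  -- the embedding
  let f : K →* H ⧸ Subgroup.center H := MonoidHom.mk' (fun k => (mk (1, k) : H ⧸ Subgroup.center H))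
    fun k l => by
      rw [← QuotientGroup.mk_mul]
      have hz : mk (rootsOfUnity.mkOfPowEq (c k l) (hc k l).1, 1) ∈ Subgroup.center H :=
        (hcentral _ 1).2 rfl
      refine QuotientGroup.eq.2 ?_
      have h2 : mk (1, k) * mk (1, l) =
          mk (1, k * l) * mk (rootsOfUnity.mkOfPowEq (c k l) (hc k l).1, 1) := by
        refine Subtype.ext (Units.ext ?_)
        simp only [Subgroup.coe_mul, Units.val_mul, hmk, h1, OneMemClass.coe_one, Units.val_one,
          one_smul, Matrix.mul_smul, Matrix.mul_one, (hc k l).2, rootsOfUnity.val_mkOfPowEq_coe]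
      rw [h2, inv_mul_cancel_left]
      exact hz
  have hf : Function.Injective f := by
    refine (injective_iff_map_eq_one f).2 fun k hk => (hcentral 1 k).1 ?_
    exact (QuotientGroup.eq_one_iff _).1 hk
  -- the character
  let e := Fintype.equivFin ι
  let ρ : Representation ℂ H (Fin (Fintype.card ι) → ℂ) :=
    ((Matrix.toLinAlgEquiv' : Matrix (Fin (Fintype.card ι)) (Fin (Fintype.card ι)) ℂ ≃ₐ[ℂ] _)
      |>.toAlgHom.toMonoidHom).comp
      (((Matrix.reindexAlgEquiv ℂ ℂ e).toAlgHom.toMonoidHom).comp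
        ((Units.coeHom (Matrix ι ι ℂ)).comp H.subtype))
  have hρ : ∀ g : H, ρ g = Matrix.toLinAlgEquiv'
      (Matrix.reindexAlgEquiv ℂ ℂ e ((g : (Matrix ι ι ℂ)ˣ) : Matrix ι ι ℂ)) := fun g => rfl
  have hpos : 0 < Fintype.card ι := by
    rcases Nat.eq_zero_or_pos (Fintype.card ι) with h | h
    · rw [h] at hcard
      exact absurd hcard Fintype.card_ne_zero
    · exact h
  have hirr : ρ.IsIrreducible := by
    haveI : Nontrivial (Subrepresentation ρ) := by
      refine ⟨⊥, ⊤, fun h => ?_⟩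
      have h2 : (Pi.single ⟨0, hpos⟩ 1 : Fin (Fintype.card ι) → ℂ) ∈
          (⊥ : Subrepresentation ρ).toSubmodule := h ▸ Submodule.mem_top
      have h3 : (Pi.single ⟨0, hpos⟩ 1 : Fin (Fintype.card ι) → ℂ) = 0 := h2
      simpa using congrFun h3 ⟨0, hpos⟩
    refine ⟨fun S => ?_⟩
    by_cases hS : ∀ v ∈ S.toSubmodule, v = 0
    · exact Or.inl (Subrepresentation.toSubmodule_injective
        ((Submodule.eq_bot_iff _).2 hS))
    · right
      push Not at hS
      obtain ⟨v, hv, hv0⟩ := hS
      have hX : ∀ X ∈ Submodule.span ℂ (Set.range M),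
          Matrix.toLinAlgEquiv' (Matrix.reindexAlgEquiv ℂ ℂ e X) v ∈ S.toSubmodule := by
        intro X hX
        induction hX using Submodule.span_induction with
        | mem X hX =>
          obtain ⟨l, rfl⟩ := hX
          have h2 := S.apply_mem_toSubmodule (mk (1, l)) hv
          simpa only [hρ, hmk, OneMemClass.coe_one, Units.val_one, one_smul] using h2
        | zero => simp
        | add a b _ _ ha hb =>
          rw [map_add, map_add, LinearMap.add_apply]
          exact Submodule.add_mem _ ha hb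
        | smul a b _ hb =>
          rw [map_smul, map_smul, LinearMap.smul_apply]
          exact Submodule.smul_mem _ _ hb
      obtain ⟨j, hj⟩ := Function.ne_iff.1 hv0
      refine Subrepresentation.toSubmodule_injective (eq_top_iff.2 fun w _ => ?_)
      let T : Matrix (Fin (Fintype.card ι)) (Fin (Fintype.card ι)) ℂ :=
        Matrix.vecMulVec w (Pi.single j (v j)⁻¹)
      have h2 := hX ((Matrix.reindexAlgEquiv ℂ ℂ e).symm T) (hspan ▸ Submodule.mem_top)
      rw [AlgEquiv.apply_symm_apply] at h2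
      convert h2
      rw [Matrix.toLinAlgEquiv'_apply, Matrix.vecMulVec_mulVec, single_dotProduct,
        inv_mul_cancel₀ hj]
      simp
  refine ⟨H, inferInstance, inferInstance, ⟨ρ.character, _, ρ, hirr, rfl⟩, ?_, ?_, ⟨f⟩, ⟨f, hf⟩,
    hZcard, hHcard⟩
  · intro g hg
    change ρ.character g = ρ.character 1 at hg
    rw [Representation.char_one, Cfsg.Agent.CharBasic.character_eq_finrank_iff] at hg
    change ρ g = (1 : Module.End ℂ _) at hg
    rw [hρ, map_eq_one_iff _ Matrix.toLinAlgEquiv'.injective,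
      map_eq_one_iff _ (Matrix.reindexAlgEquiv ℂ ℂ e).injective] at hg
    exact Subtype.ext (Units.ext hg)
  · have hd : Cfsg.charDegree ρ.character = Fintype.card ι := by
      rw [Cfsg.charDegree, Representation.char_one, Module.finrank_fin_fun, Complex.natCast_re,
        Nat.floor_natCast]
    show Cfsg.charDegree ρ.character ^ 2 = _
    rw [hd, ← hcard]
    have h2 := (Subgroup.center H).card_mul_index
    rw [hZcard, hHcard] at h2
    exact (Nat.eq_of_mul_eq_mul_left (Nat.pos_of_ne_zero hm) h2).symm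

/-- For every finite solvable group G there is a finite group H with a faithful irreducible character χ whose degree squared equals the index of the centre Z(H) (so χ is fully ramified over the centre), such that G is isomorphic to a subgroup of H/Z(H), the primes dividing the orders of H, of Z(H) and of G are the same, and the order of Z(H) is squarefree. -/
theorem result {G : Type u} [Group G] [Finite G] (hsolv : Group.IsSolvable G) : ∃ (H : Type u) (_ : Group H) (_ : Finite H) (χ : Cfsg.IrrCharacter H), (∀ h : H, (χ : H → ℂ) h = (χ : H → ℂ) 1 → h = 1) ∧ (Cfsg.charDegree (χ : H → ℂ)) ^ 2 = (Subgroup.center H).index ∧ (∃ f : G →* H ⧸ Subgroup.center H, Function.Injective f) ∧ (∀ p : ℕ, p.Prime → ((p ∣ Nat.card H ↔ p ∣ Nat.card G) ∧ (p ∣ Nat.card (Subgroup.center H) ↔ p ∣ Nat.card G))) ∧ Squarefree (Nat.card (Subgroup.center H)) := by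
  classical
  set m := ∏ p ∈ (Nat.card G).primeFactors, p with hmdef
  have hm : m ≠ 0 := Finset.prod_ne_zero_iff.2 fun p hp => (Nat.prime_of_mem_primeFactors hp).ne_zero
  have hdvd : ∀ p, p.Prime → (p ∣ m ↔ p ∣ Nat.card G) := by
    intro p hp
    constructor
    · intro h
      obtain ⟨q, hq, hpq⟩ := hp.prime.exists_mem_finset_dvd h
      rw [(Nat.prime_dvd_prime_iff_eq hp (Nat.prime_of_mem_primeFactors hq)).1 hpq]
      exact Nat.dvd_of_mem_primeFactors hq
    · exact fun h => Finset.dvd_prod_of_mem _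
        (Nat.mem_primeFactors.2 ⟨hp, h, Nat.card_pos.ne'⟩)
  obtain ⟨K, _, _, hT, ⟨φ, hφ⟩, hpr⟩ :=
    H81.exists_embedding_twistedBasis (Nat.card G) le_rfl hsolv m fun p hp h => (hdvd p hp).2 h
  obtain ⟨H, instH, hfin, χ, hf1, hf2, -, ⟨f, hf⟩, hZ, hH⟩ := exists_central_type hm hT
  refine ⟨H, instH, hfin, χ, hf1, hf2, ⟨f.comp φ, hf.comp hφ⟩, fun p hp => ⟨?_, ?_⟩, ?_⟩
  · rw [hH, hp.dvd_mul, hdvd p hp, ← Nat.card_eq_fintype_card, hpr p hp, or_self]
  · rw [hZ, hdvd p hp]
  · rw [hZ, hmdef]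
    refine Finset.squarefree_prod_of_pairwise_isCoprime (fun p hp q hq hpq => ?_)
      fun p hp => (Nat.prime_of_mem_primeFactors hp).squarefree
    exact Nat.coprime_iff_isRelPrime.1 ((Nat.coprime_primes (Nat.prime_of_mem_primeFactors hp)
      (Nat.prime_of_mem_primeFactors hq)).2 hpq)

end Cfsg.Agent.S4561
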