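import Cfsg.Statements.S4564
import Cfsg.Agent.H46.RamifiedQuot
-- import your own Cfsg.Agent.* helpers here

set_option autoImplicit false
open Cfsg

namespace Cfsg.Agent.S4564

/-- Let χ be an irreducible character of the finite group H that is fully ramified over the normal subgroup Z: the restriction of χ to Z is e times an irreducible character of Z with e ^ 2 equal to the index of Z. Let K be a normal subgroup of H containing Z and P a cyclic Sylow p-subgroup of H/K. Then P has a complement in H/K: a subgroup meeting P trivially whose product with P is the whole group. -/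
theorem result {H : Type*} [Group H] [Finite H] (Z : Subgroup H) [Z.Normal] (χ : Cfsg.IrrCharacter H) (hfr : ∃ (θ : Cfsg.IrrCharacter ↥Z) (e : ℕ), e ^ 2 = Z.index ∧ ∀ z : ↥Z, (χ : H → ℂ) z = (e : ℂ) * (θ : ↥Z → ℂ) z) (K : Subgroup H) [K.Normal] (hZK : Z ≤ K) (p : ℕ) [Fact p.Prime] (P : Sylow p (H ⧸ K)) (hcyc : IsCyclic P) : ∃ M : Subgroup (H ⧸ K), M.IsComplement' (P : Subgroup (H ⧸ K)) := by
  obtain ⟨θ, e, he, hres⟩ := hfr
  cases nonempty_fintype H
  haveI := Fintype.ofFinite Z
  obtain ⟨M, hM⟩ := H46.RamifiedQuot.exists_complement Z K χ.2 θ.2 he hres hZK p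
    (Or.inl fun A hA => by
      obtain ⟨Q, hQ⟩ := hA.exists_le_sylow
      haveI : IsCyclic Q := (P.equiv Q).isCyclic.1 hcyc
      exact isCyclic_of_injective (Subgroup.inclusion hQ) (Subgroup.inclusion_injective hQ))
  refine ⟨M, ?_⟩
  have hP : Nat.card P = p ^ (Nat.card (H ⧸ K)).factorization p := P.card_eq_multiplicity
  refine Subgroup.isComplement'_of_coprime ?_ ?_
  · rw [hP, ← hM, Subgroup.card_mul_index]
  · rw [hP]
    refine Nat.Coprime.pow_right _ ?_
    have h1 := M.card_mul_index
    have h2 : Nat.card M = Nat.card (H ⧸ K) / p ^ (Nat.card (H ⧸ K)).factorization p := by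
      rw [← hM]
      exact Nat.eq_div_of_mul_eq_left (Subgroup.index_ne_zero_of_finite) h1
    rw [h2]
    exact ((Nat.Prime.coprime_iff_not_dvd (Fact.out)).2
      (Nat.not_dvd_ordCompl (Fact.out) Nat.card_pos.ne')).symm

end Cfsg.Agent.S4564
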