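import Cfsg.Statements.S4566
import Cfsg.Agent.H81.Central

set_option autoImplicit false
open Cfsg

namespace Cfsg.Agent.S4566

/-- Let N be a central subgroup of the finite group G, ψ a faithful irreducible (hence degree-one) character of N, and χ an irreducible character of G whose restriction to N contains ψ. If g ∈ G and some x ∈ G has commutator x⁻¹ g⁻¹ x g in N but different from 1, then χ g = 0. -/
theorem result {G : Type*} [Group G] [Fintype G] (N : Subgroup G) [Fintype N] (hN : N ≤ Subgroup.center G) (ψ : Cfsg.IrrCharacter ↥N) (hfaith : ∀ n : ↥N, (ψ : ↥N → ℂ) n = (ψ : ↥N → ℂ) 1 → n = 1) (χ : Cfsg.IrrCharacter G) (hover : Cfsg.classInner (fun n : ↥N => (χ : G → ℂ) n) (ψ : ↥N → ℂ) ≠ 0) (g x : G) (hcomm : x⁻¹ * g⁻¹ * x * g ∈ N) (hne : x⁻¹ * g⁻¹ * x * g ≠ 1) : (χ : G → ℂ) g = 0 := by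
  obtain ⟨ω, hω, hψω⟩ := Cfsg.Agent.H81.exists_centralHom_over N hN χ.2 ψ.2 hover
  let n : ↥N := ⟨_, hcomm⟩
  have hn : ω n⁻¹ ≠ 1 := fun h => hne (by
    have h1 : n⁻¹ = 1 := hfaith _ (by rw [hψω, h, one_mul])
    exact congrArg Subtype.val (inv_eq_one.1 h1))
  have hconj : (n⁻¹ : ↥N).1 * g = x⁻¹ * g * x := by
    rw [← Subgroup.mem_center_iff.1 (hN (n⁻¹).2) g, InvMemClass.coe_inv]
    simp only [n]
    group
  have key := Cfsg.Agent.CharBasic.IsIrr.isClassFunction χ.2 g x⁻¹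
  rw [inv_inv, ← hconj, hω] at key
  have : (ω n⁻¹ - 1) * (χ : G → ℂ) g = 0 := by rw [sub_mul, key, one_mul, sub_self]
  exact (mul_eq_zero.1 this).resolve_left (sub_ne_zero.2 hn)

end Cfsg.Agent.S4566
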