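import Cfsg.Statements.S4569
import Cfsg.Agent.H82.NineMain

set_option autoImplicit false
open Cfsg

namespace Cfsg.Agent.S4569

/-- Let G be a finite group whose Sylow 2-subgroup P is elementary abelian of order 16, suppose the centralizer of P has index 9 in its normalizer, and let M be a maximal ideal of the algebraic integers containing 2. Then the principal 2-block contains exactly 16 irreducible characters and has 2-regular rank 9. -/
theorem result {G : Type*} [Group G] [Finite G] (M : Ideal Cfsg.AlgInt) (hM : Cfsg.IsPModular 2 M) (P : Sylow 2 G) (hcard : Nat.card P = 16) (hel : ∀ x : P, x ^ 2 = 1) (he : (Subgroup.centralizer ((P : Subgroup G) : Set G)).relIndex (Subgroup.normalizer ((P : Subgroup G) : Set G)) = 9) : Nat.card (Cfsg.principalBlock M G) = 16 ∧ Cfsg.blockRank 2 (Cfsg.principalBlock M G) = 9 := by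
  classical
  cases nonempty_fintype G
  haveI : Fact (Nat.Prime 2) := ⟨Nat.prime_two⟩
  have hel' : ∀ x ∈ (P : Subgroup G), x * x = 1 := fun x hx => by
    have h := congrArg Subtype.val (hel ⟨x, hx⟩)
    simpa [pow_two] using h
  have hN : Nat.card (Subgroup.normalizer ((P : Subgroup G) : Set G)) =
      9 * Nat.card (Subgroup.centralizer ((P : Subgroup G) : Set G)) := by
    rw [← he]
    have h := Subgroup.index_mul_card ((Subgroup.centralizer ((P : Subgroup G) : Set G)).subgroupOf
      (Subgroup.normalizer ((P : Subgroup G) : Set G)))
    rw [Nat.card_congr (Subgroup.subgroupOfEquivOfLe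
      (show Subgroup.centralizer ((P : Subgroup G) : Set G) ≤
        Subgroup.normalizer ((P : Subgroup G) : Set G) from
        Subgroup.centralizer_le_normalizer _)).toEquiv] at h
    exact h.symm
  obtain ⟨F⟩ := H82.Nine.exists_frame (P : Subgroup G) hcard he
  have h1 := F.card_eq P hcard hel' hN hM
  have h2 := F.card_eq_rank_add P hcard hel' hN hM
  exact ⟨h1, by omega⟩

end Cfsg.Agent.S4569
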