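import Cfsg.Statements.S4570
import Cfsg.Agent.H82.FreePoint.Main

set_option autoImplicit false
open Cfsg

namespace Cfsg.Agent.S4570

/-- Let G be a finite group with a commutative Sylow 2-subgroup P and M a maximal ideal of the algebraic integers containing 2, and suppose some involution x of G has the property that the principal 2-block of its centralizer has 2-regular rank one. If P has order 8 then the principal 2-block of G contains exactly 8 irreducible characters, and if P has order 16 it contains 8 or 16. -/
theorem result {G : Type*} [Group G] [Finite G] (M : Ideal Cfsg.AlgInt) (hM : Cfsg.IsPModular 2 M) (P : Sylow 2 G) (hab : IsMulCommutative P) (x : G) (hx : orderOf x = 2) (hl : Cfsg.blockRank 2 (Cfsg.principalBlock M ↥(Subgroup.centralizer ({x} : Set G))) = 1) : (Nat.card P = 8 → Nat.card (Cfsg.principalBlock M G) = 8) ∧ (Nat.card P = 16 → Nat.card (Cfsg.principalBlock M G) = 8 ∨ Nat.card (Cfsg.principalBlock M G) = 16) := by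
  classical
  haveI : Fact (Nat.Prime 2) := ⟨Nat.prime_two⟩
  haveI : IsMulCommutative (P : Subgroup G) := hab
  cases nonempty_fintype G
  haveI := Fintype.ofFinite (Subgroup.centralizer ({x} : Set G))
  have hcomp : HasNormalPComplement 2 (Subgroup.centralizer ({x} : Set G)) :=
    (S4691.result 2 M hM).2 ((S4646.result 2 M hM).2 hl)
  obtain ⟨Q, hQ⟩ := (IsPGroup.of_card (G := Subgroup.zpowers x) (n := 1)
    (by rw [Nat.card_zpowers, hx, pow_one])).exists_le_sylow
  obtain ⟨g, hg⟩ := MulAction.exists_smul_eq G Q P
  have hxP : g * x * g⁻¹ ∈ (P : Subgroup G) := by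
    rw [← hg]
    exact (Fusion.mem_sylow_smul).2 (by
      rw [show g⁻¹ * (g * x * g⁻¹) * g = x by group]; exact hQ (Subgroup.mem_zpowers _))
  exact H82.FreePoint.card_cases P hM hxP
    (by rw [← MulAut.conj_apply, MulEquiv.orderOf_eq, hx])
    fun n hn h => H82.FreePoint.stab_of_hasNormalPComplement P hcomp hxP hn h

end Cfsg.Agent.S4570
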