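import Cfsg.Statements.S4573
import Cfsg.Agent.H81.MGroupWreath
import Mathlib.GroupTheory.Solvable
import Mathlib.GroupTheory.Perm.Cycle.Type

set_option autoImplicit false
universe u
open Cfsg

namespace Cfsg.Agent.S4573

open Cfsg.Agent

/-- A proper subgroup containing the commutator lies in a normal subgroup of prime index. -/
theorem exists_normal_prime_index {G : Type*} [Group G] [Finite G] (h : commutator G ≠ ⊤) :
    ∃ N : Subgroup G, N.Normal ∧ N.index.Prime := by
  obtain ⟨N, hN, hle⟩ : ∃ N : Subgroup G, IsCoatom N ∧ commutator G ≤ N :=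
    (eq_top_or_exists_le_coatom (commutator G)).resolve_left h
  have hnorm : N.Normal := ⟨fun n hn g => by
    have h1 : g * n * g⁻¹ * n⁻¹ ∈ N :=
      hle (Subgroup.commutator_mem_commutator (Subgroup.mem_top g) (Subgroup.mem_top n))
    simpa [mul_assoc] using N.mul_mem h1 hn⟩
  refine ⟨N, hnorm, ?_⟩
  have h1 : N.index ≠ 1 := fun h1 => hN.1 (Subgroup.index_eq_one.1 h1)
  obtain ⟨q, hq, hdvd⟩ := Nat.exists_prime_and_dvd h1
  haveI := Fact.mk hq
  rw [Subgroup.index_eq_card] at hdvd
  obtain ⟨z, hz⟩ := exists_prime_orderOf_dvd_card' q hdvd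
  have hlt : N < (Subgroup.zpowers z).comap (QuotientGroup.mk' N) := by
    refine lt_of_le_of_ne (fun n hn => ?_) fun he => ?_
    · rw [Subgroup.mem_comap, QuotientGroup.mk'_apply, (QuotientGroup.eq_one_iff n).2 hn]
      exact Subgroup.one_mem _
    · obtain ⟨g, rfl⟩ := QuotientGroup.mk'_surjective N z
      have hg : g ∈ N := by rw [he]; exact Subgroup.mem_zpowers _
      rw [QuotientGroup.mk'_apply, (QuotientGroup.eq_one_iff g).2 hg, orderOf_one] at hz
      exact hq.ne_one hz.symm
  have htop := hN.2 _ hlt
  have hz' : Subgroup.zpowers z = ⊤ := by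
    rw [← Subgroup.map_comap_eq_self_of_surjective (QuotientGroup.mk'_surjective N)
      (Subgroup.zpowers z), htop, Subgroup.map_top_of_surjective _ (QuotientGroup.mk'_surjective N)]
  rwa [Subgroup.index_eq_card, ← Subgroup.card_top, ← hz', Nat.card_zpowers, hz]

/-- The Kaloujnine–Krasner map attached to a homomorphism defined on a normal subgroup. -/
noncomputable def kkHom {G M : Type*} [Group G] [Group M] (N : Subgroup G) [N.Normal]
    (f : N →* M) : G →* RegularWreathProduct M (G ⧸ N) where
  toFun g := ⟨fun q => f ⟨q.out⁻¹ * g * ((g : G ⧸ N)⁻¹ * q).out, by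
    rw [← QuotientGroup.eq_one_iff]
    simp [mul_assoc]⟩, g⟩
  map_one' := by
    ext q
    · simp only [QuotientGroup.mk_one, inv_one, one_mul, mul_one, RegularWreathProduct.one_left,
        Pi.one_apply, inv_mul_cancel]
      exact map_one f
    · rfl
  map_mul' g h := by
    ext q
    · simp only [RegularWreathProduct.mul_left, Pi.mul_apply, ← map_mul]
      congr 1
      refine Subtype.ext ?_
      simp [mul_assoc]
    · rfl

theorem kkHom_injective {G M : Type*} [Group G] [Group M] (N : Subgroup G) [N.Normal]
    {f : N →* M} (hf : Function.Injective f) : Function.Injective (kkHom N f) := by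
  rw [injective_iff_map_eq_one]
  intro g hg
  have hr : (g : G ⧸ N) = 1 := congrArg RegularWreathProduct.right hg
  have hl := congrFun (congrArg RegularWreathProduct.left hg) 1
  have h2 := congrArg Subtype.val ((injective_iff_map_eq_one f).1 hf _ hl)
  simp only [hr, inv_one, one_mul, OneMemClass.coe_one] at h2
  have h3 : ((1 : G ⧸ N).out)⁻¹ * g * (1 : G ⧸ N).out = ((1 : G ⧸ N).out)⁻¹ * 1 * (1 : G ⧸ N).out := by
    simpa using h2
  exact mul_left_cancel (mul_right_cancel h3)

/-- Every finite solvable group is isomorphic to a subgroup of a finite M-group, a group each of whose irreducible characters is induced from a homomorphism of some subgroup into ℂˣ. -/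
theorem result {G : Type u} [Group G] [Finite G] (hsolv : Group.IsSolvable G) : ∃ (M : Type u) (_ : Group M) (_ : Fintype M), (∀ χ : M → ℂ, Cfsg.IsIrrCharacter M χ → (∃ (H : Subgroup M) (lam : ↥H →* ℂˣ), χ = Cfsg.indFun H (fun h => (lam h : ℂ)))) ∧ ∃ f : G →* M, Function.Injective f := by
  suffices h : ∀ (n : ℕ) (G : Type u) [Group G] [Finite G], Nat.card G = n → Group.IsSolvable G →
      ∃ (M : Type u) (_ : Group M) (_ : Fintype M), H81.IsMGroup M ∧
        ∃ f : G →* M, Function.Injective f from h _ G rfl hsolv
  clear! G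
  intro n
  induction n using Nat.strong_induction_on with
  | _ n ih =>
    intro G _ _ hn hsolv
    rcases subsingleton_or_nontrivial G with hG | hG
    · cases nonempty_fintype G
      exact ⟨G, inferInstance, inferInstance, fun χ hχ => CharInduce.isMonomial_of_nilpotent G hχ,
        MonoidHom.id G, Function.injective_id⟩
    haveI := hsolv
    obtain ⟨N, hN, hp⟩ :=
      exists_normal_prime_index (Group.IsSolvable.commutator_lt_top_of_nontrivial G).ne
    haveI := hN
    haveI := Fact.mk hp
    have hlt : Nat.card N < n := by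
      rw [← hn, ← Subgroup.card_mul_index N]
      exact lt_mul_of_one_lt_right Nat.card_pos hp.one_lt
    obtain ⟨M, instM, instF, hM, f, hf⟩ := ih _ hlt N rfl inferInstance
    cases nonempty_fintype G
    haveI : Fintype (G ⧸ N) := Fintype.ofFinite _
    haveI : Finite M := Finite.of_fintype M
    haveI : Fintype (RegularWreathProduct M (G ⧸ N)) := Fintype.ofFinite _
    exact ⟨RegularWreathProduct M (G ⧸ N), inferInstance, inferInstance,
      H81.isMGroup_wreath (p := N.index) (Subgroup.index_eq_card N).symm hM,
      kkHom N f, kkHom_injective N hf⟩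

end Cfsg.Agent.S4573
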