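import Cfsg.Statements.S4574
import Cfsg.Agent.H81.GaloisSum

set_option autoImplicit false
open Cfsg

namespace Cfsg.Agent.S4574

/-- Let χ be an irreducible character of the finite group G, of degree d, and let Z(χ) be the set of elements g with |χ g| = d (the centre of χ). Then χ vanishes on at least (d ^ 2 - 1) · |Z(χ)| elements of G, with equality when every value |χ g| is 0, 1 or d. -/
theorem result {G : Type*} [Group G] [Fintype G] [DecidableEq G] (χ : G → ℂ) (hχ : Cfsg.IsIrrCharacter G χ) : (Cfsg.charDegree χ ^ 2 - 1) * (Finset.univ.filter (fun g : G => ‖χ g‖ = (Cfsg.charDegree χ : ℝ))).card ≤ (Finset.univ.filter (fun g : G => χ g = 0)).card ∧ ((∀ g : G, ‖χ g‖ = 0 ∨ ‖χ g‖ = 1 ∨ ‖χ g‖ = (Cfsg.charDegree χ : ℝ)) → (Cfsg.charDegree χ ^ 2 - 1) * (Finset.univ.filter (fun g : G => ‖χ g‖ = (Cfsg.charDegree χ : ℝ))).card = (Finset.univ.filter (fun g : G => χ g = 0)).card) := by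
  classical
  obtain ⟨m, ρ, hρ, rfl⟩ := hχ
  haveI := hρ
  have hdeg : Cfsg.charDegree ρ.character = Module.finrank ℂ (Fin m → ℂ) := by
    rw [Cfsg.charDegree, Representation.char_one, Complex.natCast_re, Nat.floor_natCast]
  have hd1 : 1 ≤ Cfsg.charDegree ρ.character := by
    rw [hdeg]; exact Cfsg.Agent.CharBasic.finrank_pos_of_isIrreducible ρ
  rw [hdeg] at hd1 ⊢
  set d := Module.finrank ℂ (Fin m → ℂ)
  set Z := Finset.univ.filter (fun g : G => ‖ρ.character g‖ = (d : ℝ)) with hZ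
  set O := Finset.univ.filter (fun g : G => ρ.character g = 0) with hO
  set A := Finset.univ.filter (fun g : G => ρ.character g ≠ 0 ∧ ‖ρ.character g‖ ≠ (d : ℝ)) with hA
  have hd0 : (0 : ℝ) < d := by exact_mod_cast hd1
  have hchar : Cfsg.IsCharacter G ρ.character := Cfsg.Agent.CharBasic.isCharacter_character ρ
  have hscal : ∀ (g : G) (k : ℕ), ‖ρ.character g‖ = (d : ℝ) →
      ‖ρ.character (g ^ k)‖ = (d : ℝ) := by
    intro g k hg
    obtain ⟨ω, hω⟩ := (Cfsg.Agent.CharBasic.norm_character_eq_iff ρ g).1 hg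
    refine (Cfsg.Agent.CharBasic.norm_character_eq_iff ρ _).2 ⟨ω ^ k, ?_⟩
    rw [map_pow, hω, ← Module.End.one_eq_id, smul_pow, one_pow]
  have hcl : ∀ g ∈ A, ∀ k : ℕ, Nat.Coprime k (orderOf g) → g ^ k ∈ A := by
    intro g hg k hk
    simp only [hA, Finset.mem_filter, Finset.mem_univ, true_and] at hg ⊢
    obtain ⟨j, hj⟩ := exists_pow_eq_self_of_coprime hk
    exact ⟨Cfsg.Agent.H81.char_pow_ne_zero hchar hg.1 hk, fun h => hg.2 (hj ▸ hscal _ j h)⟩
  have hsumA := Cfsg.Agent.H81.card_le_sum_norm_sq_of_closed hchar A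
    (fun g hg => (Finset.mem_filter.1 hg).2.1) hcl
  have hpart : ∀ f : G → ℝ, ∑ g, f g = ∑ g ∈ Z, f g + (∑ g ∈ O, f g + ∑ g ∈ A, f g) := by
    intro f
    rw [hZ, hO, hA, Finset.sum_filter, Finset.sum_filter, Finset.sum_filter,
      ← Finset.sum_add_distrib, ← Finset.sum_add_distrib]
    refine Finset.sum_congr rfl fun g _ => ?_
    by_cases h0 : ρ.character g = 0
    · have : ¬ ‖ρ.character g‖ = (d : ℝ) := by rw [h0, norm_zero]; exact hd0.ne
      simp [h0, hd0.ne]
    · by_cases hd : ‖ρ.character g‖ = (d : ℝ) <;> simp [h0, hd]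
  have hnorm : ∑ g, ‖ρ.character g‖ ^ 2 = (Fintype.card G : ℝ) := by
    have h := Cfsg.Agent.CharBasic.classInner_irr
      (⟨m, ρ, hρ, rfl⟩ : Cfsg.IsIrrCharacter G ρ.character)
      (⟨m, ρ, hρ, rfl⟩ : Cfsg.IsIrrCharacter G ρ.character)
    rw [if_pos rfl, Cfsg.classInner,
      inv_mul_eq_one₀ (by exact_mod_cast Nat.card_pos.ne')] at h
    simp only [Complex.mul_conj'] at h
    rw [← Nat.card_eq_fintype_card]
    exact_mod_cast h.symm
  have h1 := hpart (fun g => ‖ρ.character g‖ ^ 2)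
  have h2 := hpart (fun _ => 1)
  have hsO : ∑ g ∈ O, ‖ρ.character g‖ ^ 2 = 0 :=
    Finset.sum_eq_zero fun g hg => by simp [(Finset.mem_filter.1 hg).2]
  have hsZ : ∑ g ∈ Z, ‖ρ.character g‖ ^ 2 = Z.card * (d : ℝ) ^ 2 := by
    rw [Finset.sum_congr rfl fun g hg => by rw [(Finset.mem_filter.1 hg).2],
      Finset.sum_const, nsmul_eq_mul]
  rw [hnorm, hsO, hsZ] at h1
  simp only [Finset.sum_const, nsmul_eq_mul, mul_one, Finset.card_univ] at h2
  have hd2 : 1 ≤ d ^ 2 := Nat.one_le_pow _ _ hd1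
  constructor
  · rw [← Nat.cast_le (α := ℝ), Nat.cast_mul, Nat.cast_sub hd2]
    push_cast
    linarith
  · intro hall
    have hAeq : ∑ g ∈ A, ‖ρ.character g‖ ^ 2 = A.card := by
      rw [Finset.card_eq_sum_ones, Nat.cast_sum, Nat.cast_one]
      refine Finset.sum_congr rfl fun g hg => ?_
      obtain ⟨hg0, hgd⟩ := (Finset.mem_filter.1 hg).2
      rcases hall g with h | h | h
      · exact absurd (norm_eq_zero.1 h) hg0
      · simp [h]
      · exact absurd h hgd
    rw [← Nat.cast_inj (R := ℝ), Nat.cast_mul, Nat.cast_sub hd2]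
    push_cast
    linarith

end Cfsg.Agent.S4574
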