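import Cfsg.Statements.S4575
import Cfsg.Agent.H83.MajorContrib
import Cfsg.Agent.S4698

set_option autoImplicit false
set_option linter.style.haveILetI false
open Cfsg

namespace Cfsg.Agent.S4575

open Polynomial
open scoped ComplexConjugate

universe u

variable {G : Type u} [Group G] [Fintype G] {M : Ideal Cfsg.AlgInt}

open scoped Classical in
theorem main (hM : Cfsg.IsPModular 2 M) {B : Set (Cfsg.IrrCharacter G)} (hB : Cfsg.IsPBlock M B)
    {y : G} {n : ℕ} (hy : orderOf y = 2 ^ n) [Fintype ↥(Subgroup.centralizer ({y} : Set G))]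
    {b : Set (Cfsg.IrrCharacter ↥(Subgroup.centralizer ({y} : Set G)))}
    (hind : Cfsg.IsInducedBlock M (Subgroup.centralizer ({y} : Set G)) b B)
    (hbd : Cfsg.blockDefect 2 b = Cfsg.blockDefect 2 B)
    (hl : Nat.card B ≤ Cfsg.blockRank 2 b + 3) : Nat.card B ≤ 2 ^ Cfsg.blockDefect 2 B := by
  haveI := Fact.mk Nat.prime_two
  rcases le_or_gt (Cfsg.blockDefect 2 B) 2 with hd | hd
  · exact (S4698.main hM _ G B hB rfl).1 hd
  haveI : NeZero (2 ^ n) := ⟨pow_ne_zero _ two_ne_zero⟩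
  obtain ⟨ζ, e, hζ, -, hsymm, hall, hdiv⟩ := H83.exists_major_contrib hM hy hind hbd
  simp only [Nat.cast_ofNat] at hall hdiv
  set d := Cfsg.blockDefect 2 B with hddef
  set h : Cfsg.IrrCharacter G → ℕ := fun χ => Cfsg.blockHeight 2 B (χ : G → ℂ)
  set P : Cfsg.IrrCharacter G → Cfsg.IrrCharacter G → ℤ[X] := H83.contribPoly 2 (2 ^ n) b e with hP
  set S := primitiveRoots (2 ^ n) ℂ with hS
  have hmem : ∀ {η}, η ∈ S → IsPrimitiveRoot η (2 ^ n) :=
    fun h => (mem_primitiveRoots (NeZero.pos _)).1 h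
  have hcard : (0 : ℝ) < (S.card : ℝ) := by
    rw [Nat.cast_pos, Finset.card_pos]
    exact ⟨ζ, (mem_primitiveRoots (NeZero.pos _)).2 hζ⟩
  set Bf := Finset.univ.filter (fun χ : Cfsg.IrrCharacter G => χ ∈ B) with hBf
  have hk : Nat.card B = Bf.card := by rw [Nat.card_eq_fintype_card, Fintype.card_subtype]
  rcases le_or_gt (Nat.card B) 1 with hk1 | hk1
  · exact hk1.trans Nat.one_le_two_pow
  have hpj := fun η hη => (hall η hη).1
  have hpos := fun η hη => (hall η hη).2.2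
  have hreal : ∀ η : ℂ, IsPrimitiveRoot η (2 ^ n) → ∀ χ, aeval η (P χ χ) = ((aeval η (P χ χ)).re : ℂ) :=
    fun η hη χ => (Complex.conj_eq_iff_re.1 (hsymm η hη.pow_eq_one χ χ).symm).symm
  -- the complementary diagonal
  have hle : ∀ η : ℂ, IsPrimitiveRoot η (2 ^ n) → ∀ χ ∈ Bf, (aeval η (P χ χ)).re ≤ (2 : ℝ) ^ d := by
    intro η hη χ hχ
    rcases (hpos η hη χ).lt_or_eq with h0 | h0
    · have h1 : ‖aeval η (P χ χ)‖ ^ 2 ≤ (2 : ℝ) ^ d * (aeval η (P χ χ)).re := by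
        rw [← hpj η hη χ]
        exact Finset.single_le_sum (f := fun χ' => ‖aeval η (P χ χ')‖ ^ 2) (fun _ _ => sq_nonneg _) hχ
      rw [hreal η hη χ, Complex.norm_real, Real.norm_eq_abs, abs_of_pos h0, Complex.ofReal_re, sq] at h1
      exact le_of_mul_le_mul_right h1 h0
    · rw [← h0]; positivity
  -- off-diagonal entries in the rows and columns of height zero do not vanish
  have hne : ∀ χ ∈ Bf, ∀ θ ∈ Bf, h θ = 0 → aeval ζ (P χ θ) ≠ 0 := by
    intro χ hχ θ hθ hθ0 h0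
    obtain ⟨H, hH, hHM⟩ := hdiv χ (Finset.mem_filter.1 hχ).2 θ (Finset.mem_filter.1 hθ).2
    rw [hH ζ hζ, mul_eq_zero] at h0
    rw [h0.resolve_left (pow_ne_zero _ two_ne_zero)] at hHM
    have := hHM.1 (BlockBasic.memLocalIdeal_zero hM)
    simp only [h] at hθ0
    omega
  set F : Cfsg.IrrCharacter G → ℤ[X] := fun χ => C ((2 : ℤ) ^ d) - P χ χ with hF
  have hFv : ∀ (η : ℂ) χ, aeval η (F χ) = (2 : ℂ) ^ d - aeval η (P χ χ) := fun η χ => by
    simp only [hF, map_sub, map_pow, eq_intCast]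
    simp [map_ofNat]
  have hFre : ∀ η : ℂ, IsPrimitiveRoot η (2 ^ n) → ∀ χ,
      (aeval η (F χ)).re = (2 : ℝ) ^ d - (aeval η (P χ χ)).re := fun η hη χ => by
    rw [hFv, hreal η hη χ, show (2 : ℂ) ^ d = (((2 : ℝ) ^ d : ℝ) : ℂ) by push_cast; rfl,
      ← Complex.ofReal_sub, Complex.ofReal_re, Complex.ofReal_re]
  have hFconj : ∀ η : ℂ, IsPrimitiveRoot η (2 ^ n) → ∀ χ, conj (aeval η (F χ)) = aeval η (F χ) :=
    fun η hη χ => by
      rw [hFv, map_sub, map_pow, map_ofNat, ← hsymm η hη.pow_eq_one χ χ]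
  have hF0 : ∀ χ ∈ Bf, aeval ζ (F χ) ≠ 0 := by
    intro χ hχ h0
    rw [hFv, sub_eq_zero] at h0
    obtain ⟨θ, hθB, hθ0⟩ := H83.exists_height_zero hM hB
    have hθf : θ ∈ Bf := Finset.mem_filter.2 ⟨Finset.mem_univ _, hθB⟩
    obtain ⟨ψ, hψ, hψne, hψ0⟩ : ∃ ψ ∈ Bf, ψ ≠ χ ∧ aeval ζ (P χ ψ) ≠ 0 := by
      by_cases hθχ : θ = χ
      · subst hθχ
        obtain ⟨ψ, hψ, hψne⟩ := Finset.exists_mem_ne (hk ▸ hk1) θ
        refine ⟨ψ, hψ, hψne, fun hc => hne ψ hψ θ hθf hθ0 ?_⟩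
        show aeval ζ (P ψ θ) = 0
        rw [hsymm ζ hζ.pow_eq_one θ ψ, hc, map_zero]
      · exact ⟨θ, hθf, hθχ, hne χ hχ θ hθf hθ0⟩
    have h1 : ‖aeval ζ (P χ χ)‖ ^ 2 + ‖aeval ζ (P χ ψ)‖ ^ 2 ≤ (2 : ℝ) ^ d * (aeval ζ (P χ χ)).re := by
      rw [← hpj ζ hζ χ, ← Finset.add_sum_erase _ _ hχ]
      refine add_le_add le_rfl ?_
      exact Finset.single_le_sum (f := fun χ' => ‖aeval ζ (P χ χ')‖ ^ 2) (fun _ _ => sq_nonneg _)
        (Finset.mem_erase.2 ⟨hψne, hψ⟩)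
    rw [← h0, show (2 : ℂ) ^ d = (((2 : ℝ) ^ d : ℝ) : ℂ) by push_cast; rfl, Complex.norm_real,
      Complex.ofReal_re, Real.norm_eq_abs, sq_abs, ← sq] at h1
    have : 0 < ‖aeval ζ (P χ ψ)‖ ^ 2 := by positivity
    linarith
  by_cases hone : ∃ θ ∈ Bf, h θ = 0 ∧ ∑ η ∈ S, (aeval η (F θ)).re = (S.card : ℝ)
  · obtain ⟨θ, hθ, hθ0, hsum⟩ := hone
    have hall1 := (H83.sum_re_ge hζ (F θ) (fun η hη => hFconj η hη θ) (fun η hη => by
      rw [hFre η hη θ]; linarith [hle η hη θ hθ]) (hF0 θ hθ)).2 hsum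
    have hval : ∀ η : ℂ, IsPrimitiveRoot η (2 ^ n) →
        aeval η (P θ θ) = (((2 : ℝ) ^ d - 1 : ℝ) : ℂ) := fun η hη => by
      have h1 := hall1 η hη
      rw [hFv] at h1
      push_cast
      linear_combination -h1
    have hrow : ∀ η ∈ S, ∑ χ ∈ Bf.erase θ, ‖aeval η (P θ χ)‖ ^ 2 = (2 : ℝ) ^ d - 1 := by
      intro η hη
      have h1 := hpj η (hmem hη) θ
      rw [← Finset.add_sum_erase _ _ hθ, hval η (hmem hη), Complex.norm_real, Complex.ofReal_re,
        Real.norm_eq_abs, sq_abs] at h1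
      nlinarith
    have hge : ∀ χ ∈ Bf.erase θ, (S.card : ℝ) ≤ ∑ η ∈ S, ‖aeval η (P θ χ)‖ ^ 2 := fun χ hχ =>
      H83.card_le_sum_norm_sq_aeval _ hζ fun hc => by
        have h1 := hne χ (Finset.mem_of_mem_erase hχ) θ hθ hθ0
        apply h1
        show aeval ζ (P χ θ) = 0
        rw [hsymm ζ hζ.pow_eq_one θ χ, hc, map_zero]
    have h1 := Finset.sum_le_sum hge
    rw [Finset.sum_comm, Finset.sum_congr rfl hrow, Finset.sum_const, Finset.sum_const,
      nsmul_eq_mul, nsmul_eq_mul, mul_comm] at h1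
    have h2 : ((Bf.erase θ).card : ℝ) + 1 ≤ ((2 ^ d : ℕ) : ℝ) := by
      push_cast
      linarith [le_of_mul_le_mul_left h1 hcard]
    have h3 : (Bf.erase θ).card + 1 ≤ 2 ^ d := by exact_mod_cast h2
    rw [Finset.card_erase_of_mem hθ] at h3
    omega
  push Not at hone
  choose a ha ha1 ha0 hap using fun χ (hχ : χ ∈ Bf) =>
    H83.exists_diag_average_two hM hB hζ hsymm hpj hpos hdiv (Finset.mem_filter.1 hχ).2
  have hge : ∀ χ (hχ : χ ∈ Bf), 3 ≤ (2 : ℤ) ^ d - a χ hχ := by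
    intro χ hχ
    have hs : ∑ η ∈ S, (aeval η (F χ)).re = (S.card : ℝ) * (((2 : ℤ) ^ d - a χ hχ : ℤ) : ℝ) := by
      rw [Finset.sum_congr rfl fun η hη => hFre η (hmem hη) χ, Finset.sum_sub_distrib, ha χ hχ,
        Finset.sum_const, nsmul_eq_mul]
      push_cast
      ring
    have h1 := (H83.sum_re_ge hζ (F χ) (fun η hη => hFconj η hη χ) (fun η hη => by
      rw [hFre η hη χ]; linarith [hle η hη χ hχ]) (hF0 χ hχ)).1
    rw [hs] at h1
    have h2 : (1 : ℤ) ≤ (2 : ℤ) ^ d - a χ hχ := by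
      have h3 : ((1 : ℤ) : ℝ) ≤ (((2 : ℤ) ^ d - a χ hχ : ℤ) : ℝ) :=
        le_of_mul_le_mul_left (by rw [Int.cast_one, mul_one]; exact h1) hcard
      exact_mod_cast h3
    have h4 : (4 : ℤ) ∣ (2 : ℤ) ^ d := by
      rw [show (4 : ℤ) = 2 ^ 2 by norm_num]; exact pow_dvd_pow _ (by omega)
    rcases Nat.eq_zero_or_pos (Cfsg.blockHeight 2 B (χ : G → ℂ)) with h0 | h0
    · have h5 := ha0 χ hχ h0
      have h6 : (2 : ℤ) ^ d - a χ hχ ≠ 1 := fun he =>
        hone χ hχ h0 (by rw [hs, he, Int.cast_one, mul_one])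
      have h7 : ¬ (2 : ℤ) ∣ (2 : ℤ) ^ d - a χ hχ := fun hc =>
        h5 (by
          have := dvd_sub (dvd_trans (by norm_num) h4 : (2 : ℤ) ∣ (2 : ℤ) ^ d) hc
          rwa [sub_sub_cancel] at this)
      omega
    · have h5 : (4 : ℤ) ∣ a χ hχ := by
        refine dvd_trans ?_ (hap χ hχ h0)
        rw [show (4 : ℤ) = 2 ^ 2 by norm_num]
        exact pow_dvd_pow _ (by omega)
      have h6 := dvd_sub h4 h5
      omega
  have htot : (Bf.card : ℤ) * 3 ≤ (2 : ℤ) ^ d * ((Bf.card : ℤ) - Cfsg.blockRank 2 b) := by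
    have h1 : (((∑ χ ∈ Bf.attach, a χ.1 χ.2 : ℤ)) : ℝ) * (S.card : ℝ) =
        (((2 : ℤ) ^ d * Cfsg.blockRank 2 b : ℤ) : ℝ) * (S.card : ℝ) := by
      push_cast
      rw [Finset.sum_mul, Finset.sum_congr rfl fun χ _ => by rw [mul_comm, ← ha χ.1 χ.2],
        Finset.sum_attach Bf fun χ => ∑ η ∈ S, (aeval η (P χ χ)).re, Finset.sum_comm,
        Finset.sum_congr rfl fun η hη => (hall η (hmem hη)).2.1, Finset.sum_const, nsmul_eq_mul,
        mul_comm]
    have h2 : (∑ χ ∈ Bf.attach, a χ.1 χ.2) = (2 : ℤ) ^ d * Cfsg.blockRank 2 b := by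
      exact_mod_cast mul_right_cancel₀ hcard.ne' h1
    have h3 := Finset.sum_le_sum (s := Bf.attach) fun χ _ => hge χ.1 χ.2
    rw [Finset.sum_sub_distrib, h2, Finset.sum_const, Finset.sum_const, Finset.card_attach,
      nsmul_eq_mul, nsmul_eq_mul] at h3
    linarith
  rw [hk] at hl ⊢
  have h5 : (2 : ℤ) ^ d * ((Bf.card : ℤ) - Cfsg.blockRank 2 b) ≤ (2 : ℤ) ^ d * 3 :=
    mul_le_mul_of_nonneg_left (by omega) (by positivity)
  have h6 : (Bf.card : ℤ) ≤ ((2 ^ d : ℕ) : ℤ) := by push_cast; linarith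
  exact_mod_cast h6

/-- Let B be a 2-block of the finite group G (relative to a maximal ideal M of the algebraic integers containing 2) of defect d with defect group D. Let z be an element of D commuting with every element of D, and let b be a block of the centralizer of z with defect group D that induces B (a major subsection (z, b)). If the number of irreducible characters in B exceeds the 2-regular rank of b by at most three, then B contains at most 2 ^ d irreducible characters. -/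
theorem result {G : Type*} [Group G] [Finite G] (M : Ideal Cfsg.AlgInt) (hM : Cfsg.IsPModular 2 M) (B : Set (Cfsg.IrrCharacter G)) (hB : Cfsg.IsPBlock M B) (D : Subgroup G) (hD : Cfsg.IsDefectGroup 2 M B D) (z : G) (hzD : z ∈ D) (hzc : ∀ d ∈ D, d * z = z * d) (b : Set (Cfsg.IrrCharacter ↥(Subgroup.centralizer ({z} : Set G)))) (hb : Cfsg.IsInducedBlock M (Subgroup.centralizer ({z} : Set G)) b B) (hbD : Cfsg.IsDefectGroup 2 M b (D.subgroupOf (Subgroup.centralizer ({z} : Set G)))) (h : Nat.card B ≤ Cfsg.blockRank 2 b + 3) : Nat.card B ≤ 2 ^ Cfsg.blockDefect 2 B := by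
  classical
  cases nonempty_fintype G
  haveI := Fact.mk Nat.prime_two
  haveI : Fintype ↥(Subgroup.centralizer ({z} : Set G)) := Fintype.ofFinite _
  have hbd := H83.blockDefect_eq_of_major hM hB hD hzc hb.1 hbD
  obtain ⟨n, hn⟩ : ∃ n : ℕ, orderOf z = 2 ^ n := by
    obtain ⟨g, hg, P, rfl⟩ := hD
    obtain ⟨n, hn⟩ := IsPGroup.iff_orderOf.1 (H35.sylImage_isPGroup P) ⟨z, hzD⟩
    exact ⟨n, (orderOf_injective (H35.sylImage P).subtype Subtype.val_injective ⟨z, hzD⟩).trans hn⟩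
  exact main hM hB hn hb hbd h

end Cfsg.Agent.S4575
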