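import Cfsg.Statements.S4580
import Cfsg.Agent.H81.FullDefect
import Cfsg.Agent.H81.Gallagher

set_option autoImplicit false
open Cfsg

namespace Cfsg.Agent.S4580

/-- Let N be a normal subgroup of the finite group G, M a maximal ideal of the algebraic integers containing 2, and θ a real-valued irreducible character of N of odd degree that extends to G (some irreducible character of G restricts to θ). Then θ has an extension to G lying in the principal 2-block of G. -/
theorem result {G : Type*} [Group G] [Finite G] (N : Subgroup G) [N.Normal] (M : Ideal Cfsg.AlgInt) (hM : Cfsg.IsPModular 2 M) (θ : Cfsg.IrrCharacter N) (hreal : ∀ n : N, ((θ : N → ℂ) n).im = 0) (hodd : Odd (Cfsg.charDegree (θ : N → ℂ))) (hext : ∃ η : Cfsg.IrrCharacter G, ∀ n : N, (η : G → ℂ) n = (θ : N → ℂ) n) :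
    ∃ η : Cfsg.IrrCharacter G, (∀ n : N, (η : G → ℂ) n = (θ : N → ℂ) n) ∧ η ∈ Cfsg.principalBlock M G := by
  classical
  cases nonempty_fintype G
  haveI := Fintype.ofFinite N
  obtain ⟨η, hη⟩ := hext
  have hres : Cfsg.IsIrrCharacter N (fun n : N => (η : G → ℂ) n) := by
    rw [funext hη]; exact θ.2
  obtain ⟨l, hlN, hl⟩ := Cfsg.Agent.H81.exists_hom_of_extension N η.2 hres
    (Cfsg.Agent.CharInduce.IsIrr.conj η.2) fun n => by
      show starRingEnd ℂ ((η : G → ℂ) n) = _
      rw [hη]; exact Complex.conj_eq_iff_im.2 (hreal n)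
  -- a square root of `l` on the elements of odd order
  obtain ⟨a, m, hm, ham⟩ := Nat.exists_eq_pow_mul_and_not_dvd
    (Nat.card_pos (α := G)).ne' 2 (by norm_num)
  obtain ⟨c, hc⟩ : ∃ c, m + 1 = 2 * c := ⟨(m + 1) / 2, by omega⟩
  let μ : G →* ℂˣ := l ^ c
  have hμN : ∀ n ∈ N, μ n = 1 := fun n hn => by simp [μ, hlN n hn]
  have hμirr : Cfsg.IsIrrCharacter (G ⧸ N)
      (fun q => ((QuotientGroup.lift N μ (fun n hn => hμN n hn) q : ℂˣ) : ℂ)) :=
    haveI := Fintype.ofFinite (G ⧸ N)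
    Cfsg.Agent.CharInduce.isIrrCharacter_hom _
  have hnew := Cfsg.Agent.H81.isIrr_mul_inflate N η.2 hres ⟨_, hμirr⟩
  let η' : Cfsg.IrrCharacter G := ⟨fun g => (η : G → ℂ) g * (μ g : ℂ), hnew⟩
  have hext' : ∀ n : N, (η' : G → ℂ) n = (θ : N → ℂ) n := fun n => by
    show (η : G → ℂ) n * (μ n : ℂ) = _
    rw [hμN n n.2, Units.val_one, mul_one, hη]
  refine ⟨η', hext', Cfsg.Agent.H81.mem_principalBlock_of_inv_congr hM η' ?_ ?_⟩
  · have h1 := hext' 1
    simp only [Subgroup.coe_one] at h1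
    simpa [Cfsg.charDegree, h1] using hodd
  intro g hg
  have hgm : l g ^ m = 1 := by
    have hdvd : orderOf g ∣ m := by
      have hd := ham ▸ orderOf_dvd_natCard g
      exact (Nat.Coprime.pow_right a ((Nat.coprime_two_right).2 hg.1)).dvd_of_dvd_mul_left hd
    rw [← map_pow, orderOf_dvd_iff_pow_eq_one.1 hdvd, map_one]
  have hsq : μ g * μ g = l g := by
    show l g ^ c * l g ^ c = l g
    rw [← pow_add, ← two_mul, ← hc, pow_succ, hgm, one_mul]
  have he : (η : G → ℂ) g⁻¹ = (η : G → ℂ) g * (l g : ℂ) := by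
    rw [Cfsg.Agent.CharBasic.IsChar.inv_apply (Cfsg.Agent.CharBasic.IsIrr.isCharacter η.2) g]
    exact congrFun hl g
  have : (η' : G → ℂ) g⁻¹ = (η' : G → ℂ) g := by
    show (η : G → ℂ) g⁻¹ * (μ g⁻¹ : ℂ) = (η : G → ℂ) g * (μ g : ℂ)
    rw [he, mul_assoc, ← Units.val_mul, ← hsq, map_inv, mul_inv_cancel_right]
  rw [this]
  exact Cfsg.Agent.H81.ModM.refl hM _

end Cfsg.Agent.S4580
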