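import Cfsg.Statements.S4581
import Cfsg.Agent.H80.RealOddAll
import Cfsg.Agent.PGroups.Basic

set_option autoImplicit false
open Cfsg
open Cfsg.Agent

namespace Cfsg.Agent.S4581

/-- Linear characters separate the points of the abelianisation. -/
theorem mem_commutator_of_hom {P : Type*} [Group P] [Finite P] {x : P}
    (h : ∀ l : P →* ℂˣ, l x = 1) : x ∈ commutator P := by
  by_contra hx
  have hne : (QuotientGroup.mk x : P ⧸ commutator P) ≠ 1 := fun e =>
    hx ((QuotientGroup.eq_one_iff x).1 e)
  obtain ⟨φ, hφ⟩ := CharBasic.exists_irr_ne_of_ne_one hne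
  have hcomm : ∀ a b : P ⧸ commutator P, a * b = b * a := fun a b => by
    obtain ⟨a, rfl⟩ := QuotientGroup.mk_surjective a
    obtain ⟨b, rfl⟩ := QuotientGroup.mk_surjective b
    rw [← QuotientGroup.mk_mul, ← QuotientGroup.mk_mul, QuotientGroup.eq, mul_inv_rev, commutator_def]
    have := Subgroup.commutator_mem_commutator (Subgroup.mem_top b⁻¹) (Subgroup.mem_top a⁻¹)
    simpa [commutatorElement_def, mul_assoc] using this
  haveI : Fintype (P ⧸ commutator P) := Fintype.ofFinite _
  have h1 := (CharBasic.commutative_iff_forall_linear.1 hcomm) φ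
  obtain ⟨l, hl⟩ := CharInduce.IsChar.exists_hom_of_degree_one (CharBasic.IsIrr.isCharacter φ.2) h1
  apply hφ
  rw [h1, hl]
  exact congrArg Units.val (h (l.comp (QuotientGroup.mk' (commutator P))))

/-- Let G be a finite solvable group, P a Sylow 2-subgroup and N its normalizer. Then G and N have the same number of real-valued irreducible characters of odd degree; and every odd-degree irreducible character of G is real-valued exactly when the derived subgroup of P equals the Frattini subgroup of P and P is its own normalizer in G. -/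
theorem result {G : Type*} [Group G] [Finite G] [Group.IsSolvable G] (P : Sylow 2 G) :
    Nat.card {χ : Cfsg.IrrCharacter G // (∀ g : G, ((χ : G → ℂ) g).im = 0) ∧ Odd (Cfsg.charDegree (χ : G → ℂ))} =
      Nat.card {ψ : Cfsg.IrrCharacter (Subgroup.normalizer ((P : Subgroup G) : Set G)) // (∀ g, ((ψ : Subgroup.normalizer ((P : Subgroup G) : Set G) → ℂ) g).im = 0) ∧ Odd (Cfsg.charDegree (ψ : Subgroup.normalizer ((P : Subgroup G) : Set G) → ℂ))} ∧
    ((∀ χ : Cfsg.IrrCharacter G, Odd (Cfsg.charDegree (χ : G → ℂ)) → ∀ g : G, ((χ : G → ℂ) g).im = 0) ↔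
      (commutator (P : Subgroup G) = frattini (P : Subgroup G) ∧ Subgroup.normalizer ((P : Subgroup G) : Set G) = (P : Subgroup G))) := by
  refine ⟨H80.RealOdd.ro_eq G P, ?_, fun ⟨hfr, hN⟩ => ?_⟩
  · intro h
    have hN : Subgroup.normalizer ((P : Subgroup G) : Set G) = (P : Subgroup G) :=
      le_antisymm (H80.RealOdd.normalizer_le_of_allReal G P h) Subgroup.le_normalizer
    refine ⟨le_antisymm (PGroups.commutator_le_frattini P.isPGroup') ?_, hN⟩
    refine PGroups.frattini_le_of_commutator_le (p := 2) _ le_rfl fun y => ?_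
    refine mem_commutator_of_hom fun l => ?_
    rw [map_pow, sq]
    exact H80.RealOdd.hom_sq_of_real G P (z := 1) (Subgroup.one_mem _) (mul_one 1)
      (P.1.one_mem) (ε := 1) (map_one _) (fun χ hχ _ => h χ hχ) l (congrArg Units.val l.map_one) y
  · refine H80.RealOdd.allReal_of_normalizer G P hN fun y => ?_
    rw [hfr, ← sq]
    exact PGroups.pow_mem_frattini P.isPGroup' y

end Cfsg.Agent.S4581
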