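import Cfsg.Statements.S4582
import Mathlib.GroupTheory.Transfer
import Mathlib.GroupTheory.Abelianization.Defs

set_option autoImplicit false
open Cfsg

namespace Cfsg.Agent.S4582

open scoped Classical in
theorem aux {G : Type*} [Group G] [Finite G] (N S : Subgroup G) [N.Normal] (hgen : S ⊔ N = ⊤)
    (hS2 : IsPGroup 2 S) (hidx : ¬ 2 ∣ S.index) (hodd : Odd (Nat.card (Abelianization N)))
    (hP : ∀ x ∈ S, x ^ 2 ∈ (S ⊓ N) ⊔ ⁅S, S⁆) (hQ : ∀ x ∈ S ⊓ N, x ^ 2 ∈ ⁅S ⊓ N, S ⊓ N⁆) :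
    ∀ x ∈ S, x ^ 2 ∈ ⁅S, S⁆ := by
  intro x hx
  set φ : S →* Abelianization S := Abelianization.of with hφ
  set V : G →* Abelianization S := φ.transfer with hV
  have hA2 : IsPGroup 2 (Abelianization S) :=
    hS2.of_surjective φ (QuotientGroup.mk'_surjective _)
  have hcop : ∀ a : Abelianization S, ∀ m : ℕ, ¬ 2 ∣ m → a ^ m = 1 → a = 1 := by
    intro a m hm ham
    obtain ⟨k, hk⟩ := hA2 a
    refine orderOf_eq_one_iff.mp (Nat.eq_one_of_dvd_coprimes ?_ (orderOf_dvd_of_pow_eq_one hk)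
      (orderOf_dvd_of_pow_eq_one ham))
    exact Nat.Coprime.pow_left k ((Nat.prime_two.coprime_iff_not_dvd).mpr hm)
  have hVN : N ≤ V.ker := by
    intro n hn
    rw [MonoidHom.mem_ker]
    refine hcop _ _ hodd.not_two_dvd_nat ?_
    set W : Abelianization N →* Abelianization S := Abelianization.lift (V.comp N.subtype) with hW
    have h1 : W (Abelianization.of (⟨n, hn⟩ : N)) = V n := by simp [hW]
    rw [← h1, ← map_pow, pow_card_eq_one', map_one]
  have hVc : ⁅S, S⁆ ≤ V.ker :=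
    Subgroup.commutator_le.mpr fun a _ b _ => by
      rw [MonoidHom.mem_ker, map_commutatorElement, commutatorElement_eq_one_iff_commute]
      exact Commute.all _ _
  set Qb : Subgroup (Abelianization S) := (N.subgroupOf S).map φ with hQb
  have hQb2 : ∀ q ∈ Qb, q ^ 2 = 1 := by
    rintro q ⟨s, hs, rfl⟩
    rw [← map_pow]
    have h1 : ((s ^ 2 : S) : G) ∈ ⁅S, S⁆ :=
      Subgroup.commutator_mono inf_le_left inf_le_left (hQ _ ⟨s.2, hs⟩)
    rw [← Subgroup.map_subtype_commutator] at h1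
    obtain ⟨c, hc, hcs⟩ := h1
    rw [← Subtype.ext hcs]
    exact (QuotientGroup.eq_one_iff _).mpr hc
  set ψ : S →* Abelianization S ⧸ Qb := (QuotientGroup.mk' Qb).comp φ with hψ
  have hψN : ∀ s : S, (s : G) ∈ N → ψ s = 1 := fun s hs =>
    (QuotientGroup.eq_one_iff _).mpr ⟨s, hs, rfl⟩
  have : Fintype (Quotient (MulAction.orbitRel (Subgroup.zpowers x) (G ⧸ S))) := Fintype.ofFinite _
  have key : QuotientGroup.mk' Qb (V x) = QuotientGroup.mk' Qb (φ ⟨x, hx⟩) ^ S.index := by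
    let := S.fintypeQuotientOfFiniteIndex
    rw [hV, MonoidHom.transfer_eq_prod_quotient_orbitRel_zpowers_quot, map_prod,
      Subgroup.index_eq_sum_minimalPeriod S x, ← Finset.prod_pow_eq_pow_sum]
    refine Finset.prod_congr rfl fun q _ => ?_
    set r := Function.minimalPeriod (x • ·) q.out with hr
    set t : G := q.out.out with ht
    have htS : t⁻¹ * x ^ r * t ∈ S := QuotientGroup.out_conj_pow_minimalPeriod_mem S x q.out
    change ψ ⟨t⁻¹ * x ^ r * t, htS⟩ = ψ ⟨x, hx⟩ ^ r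
    have htop : t ∈ S ⊔ N := hgen ▸ Subgroup.mem_top t
    obtain ⟨s, hs, n, hn, hsn⟩ := Subgroup.mem_sup_of_normal_right.mp htop
    set d : S := ⟨s, hs⟩⁻¹ * ⟨x, hx⟩ ^ r * ⟨s, hs⟩ with hd
    have hdiff : ((d⁻¹ * ⟨t⁻¹ * x ^ r * t, htS⟩ : S) : G) ∈ N := by
      simp only [hd, Subgroup.coe_mul, Subgroup.coe_inv, Subgroup.coe_pow, ← hsn]
      have : (s⁻¹ * x ^ r * s)⁻¹ * ((s * n)⁻¹ * x ^ r * (s * n)) =
          ((s⁻¹ * x ^ r * s)⁻¹ * n⁻¹ * (s⁻¹ * x ^ r * s)) * n := by group
      rw [this]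
      exact mul_mem (by simpa using
        (‹N.Normal›).conj_mem _ (inv_mem hn) (s⁻¹ * x ^ r * s)⁻¹) hn
    have h1 := hψN _ hdiff
    rw [map_mul, map_inv, inv_mul_eq_one] at h1
    rw [← h1, hd, map_mul, map_mul, map_inv, map_pow, mul_comm (ψ _)⁻¹, inv_mul_cancel_right]
  rw [← map_pow, QuotientGroup.mk'_eq_mk'] at key
  obtain ⟨z, hz, hzeq⟩ := key
  have hVx : V x ^ 2 = 1 := by
    rw [← map_pow]
    exact MonoidHom.mem_ker.mp ((sup_le (inf_le_right.trans hVN) hVc) (hP x hx))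
  have hsq : (φ ⟨x, hx⟩ ^ 2) ^ S.index = 1 := by
    rw [← pow_mul, mul_comm, pow_mul, ← hzeq, mul_pow, hVx, hQb2 z hz, mul_one]
  have h2 := hcop _ _ hidx hsq
  rw [← map_pow] at h2
  have h3 : (⟨x, hx⟩ ^ 2 : S) ∈ _root_.commutator S := (QuotientGroup.eq_one_iff _).mp h2
  have := Subgroup.mem_map_of_mem S.subtype h3
  rwa [Subgroup.map_subtype_commutator] at this

/-- Let N be a normal subgroup of the finite group G, P a Sylow 2-subgroup of G and Q = P ∩ N. Suppose that P/QP' and Q/Q' are elementary abelian (every square of an element of P lies in the subgroup generated by Q and the derived subgroup of P, and every square of an element of Q lies in the derived subgroup of Q), and that the commutator factor group N/N' has odd order. Then P/P' is elementary abelian. -/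
theorem result {G : Type*} [Group G] [Finite G] (N : Subgroup G) [N.Normal] (P : Sylow 2 G)
    (hP : ∀ x ∈ (P : Subgroup G), x ^ 2 ∈ ((P : Subgroup G) ⊓ N) ⊔ ⁅(P : Subgroup G), (P : Subgroup G)⁆)
    (hQ : ∀ x ∈ (P : Subgroup G) ⊓ N, x ^ 2 ∈ ⁅(P : Subgroup G) ⊓ N, (P : Subgroup G) ⊓ N⁆)
    (hodd : Odd (Nat.card (Abelianization N))) :
    ∀ x ∈ (P : Subgroup G), x ^ 2 ∈ ⁅(P : Subgroup G), (P : Subgroup G)⁆ := by
  intro x hx
  set K : Subgroup G := (P : Subgroup G) ⊔ N with hK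
  have hPK : (P : Subgroup G) ≤ K := le_sup_left
  have hNK : N ≤ K := le_sup_right
  set S : Subgroup K := (P : Subgroup G).subgroupOf K
  set M : Subgroup K := N.subgroupOf K
  have mS : S.map K.subtype = (P : Subgroup G) := Subgroup.map_subgroupOf_eq_of_le hPK
  have mM : M.map K.subtype = N := Subgroup.map_subgroupOf_eq_of_le hNK
  have mI : (S ⊓ M).map K.subtype = (P : Subgroup G) ⊓ N := by
    rw [Subgroup.map_inf _ _ _ K.subtype_injective, mS, mM]
  have back : ∀ (T : Subgroup K) (y : K), (y : G) ∈ T.map K.subtype → y ∈ T := by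
    rintro T y ⟨z, hz, hzy⟩
    rwa [← K.subtype_injective hzy]
  have hgen : S ⊔ M = ⊤ := by
    apply Subgroup.map_injective K.subtype_injective
    rw [Subgroup.map_sup, mS, mM, ← MonoidHom.range_eq_map, K.range_subtype]
  have hidx : ¬ 2 ∣ S.index := fun h =>
    P.not_dvd_index (h.trans (Subgroup.relIndex_dvd_index_of_le hPK))
  have hodd' : Odd (Nat.card (Abelianization M)) := by
    rwa [Nat.card_congr (Subgroup.subgroupOfEquivOfLe hNK).abelianizationCongr.toEquiv]
  have h := aux M S hgen (P.2.of_equiv (Subgroup.subgroupOfEquivOfLe hPK).symm) hidx hodd'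
    (fun y hy => back _ _ (by
      rw [Subgroup.map_sup, mI, Subgroup.map_commutator, mS]
      exact hP _ hy))
    (fun y hy => back _ _ (by
      rw [Subgroup.map_commutator, mI]
      exact hQ _ (mI ▸ Subgroup.mem_map_of_mem K.subtype hy)))
    ⟨x, hPK hx⟩ hx
  have := Subgroup.mem_map_of_mem K.subtype h
  rwa [Subgroup.map_commutator, mS] at this

end Cfsg.Agent.S4582
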