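import Cfsg.Statements.S4583
import Cfsg.Agent.S4642
import Cfsg.Agent.H82.BrauerMap
import Cfsg.Agent.H82.PrincipalBlock
import Cfsg.Agent.Cores.ThirdMain
import Cfsg.Agent.H82.StarPoints
import Cfsg.Agent.CharInduce.Ops
import Cfsg.Agent.CharBasic.Virtual

set_option autoImplicit false
open Cfsg

namespace Cfsg.Agent.S4583

open BlockBasic CharBasic MonoidAlgebra H82
open scoped ComplexConjugate

universe u

variable {G : Type u} [Group G] [Fintype G] {p : ℕ} [Fact p.Prime] {M : Ideal AlgInt}

/-- The Brauer image of the principal idempotent is the principal idempotent. -/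
theorem br_principal_congr (hM : IsPModular p M) {Q : Subgroup G} (hQ : IsPGroup p Q)
    (c : Subgroup.centralizer (Q : Set G)) :
    MemLocalIdeal M (blockCoeff (principalBlock M G) (c : G) -
      blockCoeff (principalBlock M (Subgroup.centralizer (Q : Set G))) c) := by
  classical
  cases nonempty_fintype (Subgroup.centralizer (Q : Set G))
  set B := principalBlock M G
  have hB : IsPBlock M B := isPBlock_principalBlock M
  set b₀ := principalBlock M (Subgroup.centralizer (Q : Set G)) with hb₀
  set w := blockElem B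
  have hwi : IsIntElt M w := isIntElt_blockElem hM hB
  have hwC : IsInvElt (Subgroup.centralizer (Q : Set G)) w :=
    isInvElt_of_isCentralElt (isCentralElt_blockElem B) _
  have hwQ : IsInvElt Q w := isInvElt_of_isCentralElt (isCentralElt_blockElem B) _
  have hww : w * w = w := by
    refine eq_of_omega_eq ((isCentralElt_blockElem B).mul (isCentralElt_blockElem B))
      (isCentralElt_blockElem B) fun χ => ?_
    rw [omega_mul χ.2 (isCentralElt_blockElem B), omega_blockElem]
    split_ifs <;> simp
  set z := br Q w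
  have hz : IsCentralElt z := isCentralElt_br (Q := Q) hwC
  have hzi : IsIntElt M z := isIntElt_br (Q := Q) hwi
  have hzz : IsIdealElt M (z - z * z) := by
    have := isIdealElt_br_mul (Q := Q) hM hQ hwi hwi hwQ hwQ
    rwa [hww] at this
  set d := blockElem b₀
  have hdC : IsCentralElt d := isCentralElt_blockElem _
  have hdi : IsIntElt M d := isIntElt_blockElem hM (isPBlock_principalBlock M)
  have hdd : d * d = d := by
    refine eq_of_omega_eq (hdC.mul hdC) hdC fun χ => ?_
    rw [omega_mul χ.2 hdC, omega_blockElem]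
    split_ifs <;> simp
  have hzω : ∀ ξ : IrrCharacter (Subgroup.centralizer (Q : Set G)),
      MemLocalIdeal M (omega (ξ : _ → ℂ) z - if ξ ∈ b₀ then 1 else 0) := by
    intro ξ
    split_ifs with h
    · rw [← brOmega_eq]
      exact brOmega_blockElem_of_isBrauerPairOf (isBrauerPairOf_principalBlock hM hQ) h
    · rw [sub_zero]
      have hr : MemLocalRing M (omega (ξ : _ → ℂ) z) := by
        rw [← brOmega_eq]; exact memLocalRing_brOmega (Q := Q) hM ξ.2 hwC hwi
      have h01 : MemLocalIdeal M (omega (ξ : _ → ℂ) z * (1 - omega (ξ : _ → ℂ) z)) := by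
        have := isIdealElt_omega hM ξ.2 (hz.sub (hz.mul hz)) hzz
        rwa [omega_sub, omega_mul ξ.2 hz, ← mul_one_sub] at this
      refine ((memLocalIdeal_mul_iff hM hr
        ((locRing hM).sub_mem (locRing hM).one_mem hr)).mp h01).resolve_right fun h1 => h ?_
      have h3 : MemLocalIdeal M (brOmega Q (ξ : _ → ℂ) w - 1) := by
        rw [brOmega_eq]
        have := memLocalIdeal_neg h1
        rwa [neg_sub] at this
      have hpair := isBrauerPairOf_of_mem hM hB (e := blockOf M (ξ : _ → ℂ))
        ⟨hQ, isPBlock_blockOf M ξ⟩ (self_mem_blockOf hM ξ) h3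
      obtain ⟨χ, hχ⟩ := isPBlock_nonempty hM hB
      have hind := (S4642.isInducedBlock_centralizer_iff hM hQ hB hχ).mpr
        ⟨hpair.1.2, fun ξ' hξ' => brOmega_blockElem_of_isBrauerPairOf hpair hξ'⟩
      rw [hb₀, ← (Cores.third_main hM hind).mp rfl]
      exact self_mem_blockOf hM ξ
  have i1 : ∀ a, MemLocalIdeal M ((z * (1 - d)).coeff a) := by
    refine H35.coeff_mem_of_omega_mem hM (hz.mul (IsCentralElt.one.sub hdC))
      (hzi.mul hM ((isIntElt_one hM).sub hM hdi)) (fun a => ?_) fun ξ => ?_
    · have e : z * (1 - d) * (z * (1 - d)) - z * (1 - d) = (z * z - z) * (1 - d) := by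
        rw [mul_assoc, ← mul_assoc (1 - d), isCentralElt_comm (IsCentralElt.one.sub hdC) z,
          mul_assoc z (1 - d), show (1 - d) * (1 - d) = 1 - d by
            simp only [mul_sub, sub_mul, one_mul, mul_one, hdd]; abel, ← mul_assoc, ← sub_mul]
      rw [← Finsupp.sub_apply, ← coeff_sub, e, ← isCentralElt_comm (IsCentralElt.one.sub hdC)]
      refine isIdealElt_mul_left hM ((isIntElt_one hM).sub hM hdi) (fun b => ?_) a
      have := memLocalIdeal_neg (hzz b)
      rwa [← Finsupp.neg_apply, ← coeff_neg, neg_sub] at this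
    · rw [omega_mul ξ.2 hz, omega_sub, omega_one ξ.2, omega_blockElem]
      have := hzω ξ
      split_ifs with h
      · rw [sub_self, mul_zero]; exact memLocalIdeal_zero hM
      · rw [if_neg h, sub_zero] at this
        rwa [sub_zero, mul_one]
  have i2 : ∀ a, MemLocalIdeal M ((d * (1 - z)).coeff a) := by
    refine H35.coeff_mem_of_omega_mem hM (hdC.mul (IsCentralElt.one.sub hz))
      (hdi.mul hM ((isIntElt_one hM).sub hM hzi)) (fun a => ?_) fun ξ => ?_
    · have e : d * (1 - z) * (d * (1 - z)) - d * (1 - z) = d * (z * z - z) := by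
        rw [mul_assoc, ← mul_assoc (1 - z), isCentralElt_comm (IsCentralElt.one.sub hz) d,
          ← mul_assoc, ← mul_assoc, hdd, mul_assoc, ← mul_sub,
          show (1 - z) * (1 - z) - (1 - z) = z * z - z by
            simp only [mul_sub, sub_mul, one_mul, mul_one]; abel]
      rw [← Finsupp.sub_apply, ← coeff_sub, e]
      refine isIdealElt_mul_left hM hdi (fun b => ?_) a
      have := memLocalIdeal_neg (hzz b)
      rwa [← Finsupp.neg_apply, ← coeff_neg, neg_sub] at this
    · rw [omega_mul ξ.2 hdC, omega_sub, omega_one ξ.2, omega_blockElem]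
      have := hzω ξ
      split_ifs with h
      · rw [if_pos h] at this
        have := memLocalIdeal_neg this
        rwa [neg_sub, ← one_mul (1 - _)] at this
      · rw [zero_mul]; exact memLocalIdeal_zero hM
  have key := memLocalIdeal_sub hM (i1 c) (i2 c)
  rw [← Finsupp.sub_apply, ← coeff_sub,
    show z * (1 - d) - d * (1 - z) = z - d by
      rw [mul_sub, mul_sub, mul_one, mul_one, isCentralElt_comm hdC z]; abel,
    coeff_sub, Finsupp.sub_apply, show z.coeff c = w.coeff (c : G) from coeff_br _ _ _,
    coeff_blockElem, coeff_blockElem] at key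
  exact key

/-- In a group with central Sylow subgroup the sums of the principal idempotent over normal
subgroups are units. -/
theorem not_mem_sum_normal {C : Type u} [Group C] [Fintype C] (hM : IsPModular p M)
    (Z : Subgroup C) (hZc : Z ≤ Subgroup.center C) (hZp : IsPGroup p Z) (hZi : ¬ p ∣ Z.index)
    (L : Subgroup C) [DecidablePred (· ∈ L)] :
    ¬ MemLocalIdeal M (∑ c ∈ Finset.univ.filter (· ∈ L), blockCoeff (principalBlock M C) c) := by
  classical
  have hp : p.Prime := Fact.out
  haveI : Z.Normal := ⟨fun z hz g => by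
    rw [Subgroup.mem_center_iff.mp (hZc hz) g, mul_inv_cancel_right]; exact hz⟩
  obtain ⟨a, ha⟩ := IsPGroup.iff_card.mp hZp
  obtain ⟨K, hK⟩ := Subgroup.exists_right_complement'_of_coprime
    (show (Nat.card Z).Coprime Z.index by
      rw [ha]; exact (hp.coprime_iff_not_dvd.mpr hZi).pow_left a)
  have hKc : ¬ p ∣ Nat.card K := hK.symm.index_eq_card ▸ hZi
  have hdec : ∀ c : C, ∃ z ∈ Z, ∃ k ∈ K, z * k = c := fun c => by
    obtain ⟨⟨z, k⟩, h⟩ := hK.2 c
    exact ⟨z, z.2, k, k.2, h⟩
  haveI : K.Normal := ⟨fun k hk g => by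
    obtain ⟨z, hz, k', hk', rfl⟩ := hdec g
    have hcomm := Subgroup.mem_center_iff.mp (hZc hz)
    rw [show z * k' * k * (z * k')⁻¹ = z * (k' * k * k'⁻¹) * z⁻¹ by group, ← hcomm,
      mul_inv_cancel_right]
    exact K.mul_mem (K.mul_mem hk' hk) (K.inv_mem hk')⟩
  have hreg : ∀ c : C, ¬ p ∣ orderOf c → c ∈ K := by
    intro c hc
    obtain ⟨z, hz, k, hk, rfl⟩ := hdec c
    have hcomm : Commute z k := (Subgroup.mem_center_iff.mp (hZc hz) k).symm
    obtain ⟨i, hi⟩ := IsPGroup.iff_orderOf.mp hZp ⟨z, hz⟩
    rw [Subgroup.orderOf_mk] at hi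
    have hk1 : k ^ Nat.card K = 1 := congrArg Subtype.val (pow_card_eq_one' (x := (⟨k, hk⟩ : K)))
    have h1 : (z * k) ^ Nat.card K = z ^ Nat.card K := by rw [hcomm.mul_pow, hk1, mul_one]
    have h2 : orderOf (z ^ Nat.card K) ∣ orderOf (z * k) := h1 ▸ orderOf_pow_dvd _
    have h3 : orderOf (z ^ Nat.card K) = orderOf z :=
      Nat.Coprime.orderOf_pow (by rw [hi]; exact (hp.coprime_iff_not_dvd.mpr hKc).pow_left i)
    rw [h3, hi] at h2
    rcases i with _ | i
    · rw [show z = 1 from orderOf_eq_one_iff.mp (hi.trans (pow_zero p)), one_mul]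
      exact hk
    · exact absurd ((dvd_pow_self p i.succ_ne_zero).trans h2) hc
  set b := principalBlock M C
  set β := blockCoeff b (1 : C)
  have hoff : ∀ c, c ∉ K → blockCoeff b c = 0 := fun c hc =>
    blockCoeff_eq_zero_of_singular hM (isPBlock_principalBlock M) (by
      by_contra h
      exact hc (hreg c h))
  have hon : ∀ c ∈ K, blockCoeff b c = β := fun c hc => by
    show blockCoeff b c = blockCoeff b 1
    unfold blockCoeff
    congr 1
    exact finsum_mem_congr rfl fun χ hχ => by
      rw [apply_eq_of_mem_principalBlock hM hχ K hKc hc]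
  have hsum : (Nat.card K : ℂ) * β = 1 := by
    rw [← sum_blockCoeff_principalBlock (G := C) hM,
      ← Finset.sum_subset (Finset.subset_univ (Finset.univ.filter (· ∈ K))) fun c _ hc =>
        hoff c (by simpa using hc),
      Finset.sum_congr rfl fun c hc => hon c (Finset.mem_filter.mp hc).2, Finset.sum_const,
      nsmul_eq_mul]
    congr 2
    rw [Nat.card_eq_fintype_card, Fintype.card_subtype]
  intro hmem
  have heq : ∑ c ∈ Finset.univ.filter (· ∈ L), blockCoeff b c =
      (Nat.card ↥(L ⊓ K) : ℂ) * β := by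
    rw [← Finset.sum_subset (s₁ := Finset.univ.filter (· ∈ L ⊓ K))
      (fun c hc => by simpa using (Subgroup.mem_inf.mp (Finset.mem_filter.mp hc).2).1)
      fun c hc hc' => hoff c fun hK' => hc' (by simp [Subgroup.mem_inf, hK', (Finset.mem_filter.mp hc).2]),
      Finset.sum_congr rfl fun c hc => hon c (Subgroup.mem_inf.mp (Finset.mem_filter.mp hc).2).2,
      Finset.sum_const, nsmul_eq_mul]
    congr 2
    rw [Nat.card_eq_fintype_card, Fintype.card_subtype]
  rw [heq] at hmem
  have h1 := memLocalIdeal_mul hM (memLocalRing_natCast hM (Nat.card K)) hmem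
  rw [mul_left_comm, hsum, mul_one, memLocalIdeal_natCast_iff hM] at h1
  exact hKc (h1.trans (Subgroup.card_dvd_of_le inf_le_right))

theorem main (hM : IsPModular p M) (N : Subgroup G) [N.Normal] [Fintype N] (P : Sylow p G)
    (θ : IrrCharacter N) (hθ : θ ∈ principalBlock M N) (hdeg : ¬ p ∣ charDegree (θ : N → ℂ))
    (H : Subgroup G) (hH : H = N ⊔ (P : Subgroup G)) (hNH : N ≤ H) (η : IrrCharacter H)
    (hη : ∀ n : N, (η : H → ℂ) (Subgroup.inclusion hNH n) = (θ : N → ℂ) n) :
    ∃ χ : IrrCharacter G, χ ∈ principalBlock M G ∧ ¬ p ∣ charDegree (χ : G → ℂ) ∧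
      classInner (fun n : N => (χ : G → ℂ) n) (θ : N → ℂ) ≠ 0 := by
  classical
  cases nonempty_fintype H
  have hp : p.Prime := Fact.out
  set B := principalBlock M G
  have hB : IsPBlock M B := isPBlock_principalBlock M
  have hPH : (P : Subgroup G) ≤ H := hH ▸ le_sup_right
  have hHi : ¬ p ∣ H.index := fun h =>
    P.not_dvd_index (h.trans (Subgroup.index_dvd_of_le hPH))
  have hres : ∀ χ : IrrCharacter G, IsCharacter H fun h : H => (χ : G → ℂ) h := fun χ =>
    CharInduce.IsChar.comp (IsIrr.isCharacter χ.2) H.subtype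
  have ha : ∀ χ : IrrCharacter G, ∃ a : ℕ, classInner (η : H → ℂ) (fun h : H => (χ : G → ℂ) h) = a :=
    fun χ => classInner_isChar_nat (IsIrr.isCharacter η.2) (hres χ)
  choose a ha using ha
  -- the `p`-regular elements of `H` lie in `N`
  have hregN : ∀ h : H, blockCoeff B (h : G) ≠ 0 → (h : G) ∈ N := by
    intro h hh
    by_contra hhN
    refine hh (blockCoeff_eq_zero_of_singular hM hB ?_)
    by_contra hp'
    refine hhN ?_
    let π := QuotientGroup.mk' N
    have hmem : π (h : G) ∈ ((P : Subgroup G).map π) := by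
      have h1 : (h : G) ∈ N ⊔ (P : Subgroup G) := hH.le h.2
      obtain ⟨n, hn, x, hx, hnx⟩ := Subgroup.mem_sup_of_normal_left.mp h1
      refine ⟨x, hx, ?_⟩
      rw [← hnx, map_mul, (QuotientGroup.eq_one_iff n).mpr hn |> fun h => (h : π n = 1), one_mul]
    obtain ⟨k, hk⟩ := IsPGroup.iff_orderOf.mp (P.2.map π) ⟨_, hmem⟩
    rw [Subgroup.orderOf_mk] at hk
    have hd : orderOf (π (h : G)) ∣ orderOf (h : G) := orderOf_map_dvd _ _
    rcases k with _ | k
    · exact (QuotientGroup.eq_one_iff _).mp (orderOf_eq_one_iff.mp (hk.trans (pow_zero p)) :)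
    · exact absurd ((hk ▸ dvd_pow_self p k.succ_ne_zero).trans hd) hp'
  set W : ℂ := ∑ n : N, blockCoeff B (n : G) * (θ : N → ℂ) n
  have hHsum : ∑ h : H, blockCoeff B (h : G) * (η : H → ℂ) h = W := by
    rw [← Finset.sum_subset (Finset.subset_univ (Finset.univ.image (Subgroup.inclusion hNH)))
      fun h _ hh => by
        by_contra h0
        exact hh (Finset.mem_image.mpr ⟨⟨(h : G), hregN h fun e => h0 (by rw [e, zero_mul])⟩,
          Finset.mem_univ _, rfl⟩),
      Finset.sum_image (Subgroup.inclusion_injective hNH).injOn]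
    exact Finset.sum_congr rfl fun n _ => by rw [hη]; rfl
  have hS : ((∑ χ ∈ Finset.univ.filter (· ∈ B), a χ * charDegree (χ : G → ℂ) : ℕ) : ℂ) =
      (H.index : ℂ) * W := by
    rw [← hHsum]
    push_cast
    have hHG : (Nat.card G : ℂ) = (Nat.card H : ℂ) * (H.index : ℂ) := by
      exact_mod_cast H.card_mul_index.symm
    have hH0 : (Nat.card H : ℂ) ≠ 0 := Nat.cast_ne_zero.mpr Nat.card_pos.ne'
    have hi0 : (H.index : ℂ) ≠ 0 := Nat.cast_ne_zero.mpr Subgroup.index_ne_zero_of_finite
    simp only [← ha, ← apply_one_eq_charDegree, classInner_def, blockCoeff, hHG,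
      finsum_mem_eq_sum_ite, Finset.mul_sum, Finset.sum_mul]
    rw [Finset.sum_filter, Finset.sum_comm]
    refine Finset.sum_congr rfl fun χ _ => ?_
    split_ifs
    · exact Finset.sum_congr rfl fun h _ => by field_simp
    · simp
  -- the idempotent summed over `N` is a unit
  have hθ1 : MemLocalIdeal M (omega (fun _ : N => (1 : ℂ)) (ofFun fun n : N => blockCoeff B (n : G)) -
      omega (θ : N → ℂ) (ofFun fun n : N => blockCoeff B (n : G))) :=
    omega_congr hM (fun _ _ => rfl) (IsIrr.isClassFunction θ.2) hθ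
      (isCentralElt_ofFun fun g h => isClassFunction_blockCoeff B (g : G) (h : G))
      (fun n => by rw [coeff_ofFun]; exact memLocalRing_blockCoeff hM hB _)
  set U : ℂ := ∑ n : N, blockCoeff B (n : G)
  have e1 : omega (fun _ : N => (1 : ℂ)) (ofFun fun n : N => blockCoeff B (n : G)) = U := by
    simp [omega, chiLin, U]
  have e2 : omega (θ : N → ℂ) (ofFun fun n : N => blockCoeff B (n : G)) =
      W / (θ : N → ℂ) 1 := by
    simp [omega, chiLin, W]
  rw [e1, e2] at hθ1
  have hU : ¬ MemLocalIdeal M U := by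
    intro hmem
    cases nonempty_fintype (Subgroup.centralizer ((P : Subgroup G) : Set G))
    set C := Subgroup.centralizer ((P : Subgroup G) : Set G)
    have h1 := memLocalIdeal_sum_sub_sum_centralizer hM P.2
      (f := fun x => if x ∈ N then blockCoeff B x else 0)
      (fun x => by
        split_ifs
        · exact memLocalRing_blockCoeff hM hB x
        · exact (locRing hM).zero_mem)
      (fun q _ x => by
        rw [isClassFunction_blockCoeff B x q]
        exact if_congr ⟨fun h => by
          simpa [mul_assoc] using ‹N.Normal›.conj_mem _ h q⁻¹, fun h => ‹N.Normal›.conj_mem _ h q⟩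
          rfl rfl)
    have eU : ∑ x : G, (if x ∈ N then blockCoeff B x else 0) = U := by
      rw [← Finset.sum_filter, Finset.sum_subtype (p := fun x => x ∈ N) _ (fun x => by simp)]
    rw [eU, ← Finset.sum_filter] at h1
    have h2 : MemLocalIdeal M (∑ c ∈ Finset.univ.filter (fun c : C => (c : G) ∈ N),
        (blockCoeff B (c : G) - blockCoeff (principalBlock M C) c)) :=
      memLocalIdeal_sum hM _ _ fun c _ => br_principal_congr hM P.2 c
    rw [Finset.sum_sub_distrib] at h2
    have h3 := memLocalIdeal_sub hM (memLocalIdeal_sub hM hmem h1) h2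
    rw [sub_sub_cancel, sub_sub_cancel] at h3
    refine not_mem_sum_normal hM ((P : Subgroup G).subgroupOf C) (fun z hz => ?_)
      (P.2.comap_of_injective _ C.subtype_injective) ?_ (N.subgroupOf C) ?_
    · exact Subgroup.mem_center_iff.mpr fun c => Subtype.ext
        ((Subgroup.mem_centralizer_iff.mp c.2 z (Subgroup.mem_subgroupOf.mp hz)).symm)
    · intro hd
      have hN' : C ≤ Subgroup.normalizer ((P : Subgroup G) : Set G) :=
        Subgroup.centralizer_le_normalizer _
      have : ((P : Subgroup G).subgroupOf C).index ∣ (P : Subgroup G).index := by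
        show (P : Subgroup G).relIndex C ∣ _
        rw [← Subgroup.relIndex_subgroupOf hN']
        exact (Subgroup.relIndex_dvd_index_of_normal _ _).trans
          (Subgroup.relIndex_dvd_index_of_le Subgroup.le_normalizer)
      exact P.not_dvd_index (hd.trans this)
    · convert h3 using 2
      ext c
      simp [Subgroup.mem_subgroupOf]
  have hθd : (θ : N → ℂ) 1 = (charDegree (θ : N → ℂ) : ℂ) := apply_one_eq_charDegree θ
  have hθ0 : (θ : N → ℂ) 1 ≠ 0 := IsIrr.one_ne_zero θ.2
  have hnS : ¬ p ∣ ∑ χ ∈ Finset.univ.filter (· ∈ B), a χ * charDegree (χ : G → ℂ) := by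
    intro hd
    have h1 := (memLocalIdeal_natCast_iff hM _).mpr hd
    rw [hS] at h1
    have hWr : MemLocalRing M W := (locRing hM).sum_mem fun n _ =>
      memLocalRing_mul hM (memLocalRing_blockCoeff hM hB _)
        (memLocalRing_of_isIntegral hM (IsChar.isIntegral (IsIrr.isCharacter θ.2) n))
    have h2 := ((memLocalIdeal_mul_iff hM (memLocalRing_natCast hM H.index) hWr).mp h1).resolve_left
      fun h => hHi ((memLocalIdeal_natCast_iff hM _).mp h)
    have h3 : MemLocalIdeal M ((θ : N → ℂ) 1 * U) := by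
      have h4 := memLocalIdeal_mul hM (x := (θ : N → ℂ) 1) (y := U - W / (θ : N → ℂ) 1)
        (by rw [hθd]; exact memLocalRing_natCast hM _) hθ1
      rw [mul_sub, mul_div_cancel₀ _ hθ0] at h4
      simpa using memLocalIdeal_add hM h4 h2
    have hUr : MemLocalRing M U :=
      (locRing hM).sum_mem fun n _ => memLocalRing_blockCoeff hM hB _
    rw [hθd] at h3
    exact hU (((memLocalIdeal_mul_iff hM (memLocalRing_natCast hM _) hUr).mp h3).resolve_left
      fun h => hdeg ((memLocalIdeal_natCast_iff hM _).mp h))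
  obtain ⟨χ, hχ, hχd⟩ : ∃ χ ∈ Finset.univ.filter (· ∈ B), ¬ p ∣ a χ * charDegree (χ : G → ℂ) := by
    by_contra h
    push Not at h
    exact hnS (Finset.dvd_sum h)
  refine ⟨χ, (Finset.mem_filter.mp hχ).2, fun h => hχd (h.mul_left _), ?_⟩
  -- `θ` is a constituent
  obtain ⟨n, hninner, hn⟩ := IsChar.exists_nat_mult (hres χ)
  have hnη : n η = a χ := by
    have : (n η : ℂ) = a χ := by
      rw [← ha, ← classInner_conj_symm, ← Complex.conj_natCast]
      congr 1
      rw [hn, classInner_sum_irr]
    exact_mod_cast this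
  have hb : ∀ ψ : IrrCharacter H, ∃ k : ℕ,
      classInner (fun m : N => (ψ : H → ℂ) (Subgroup.inclusion hNH m)) (θ : N → ℂ) = k := fun ψ =>
    classInner_isChar_nat (CharInduce.IsChar.comp (IsIrr.isCharacter ψ.2) (Subgroup.inclusion hNH))
      (IsIrr.isCharacter θ.2)
  choose k hk using hb
  have hkη : k η = 1 := by
    have : (k η : ℂ) = 1 := by
      rw [← hk]
      simp only [hη]
      exact classInner_irr_self θ.2
    exact_mod_cast this
  have hsum : classInner (fun m : N => (χ : G → ℂ) m) (θ : N → ℂ) =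
      ((∑ ψ : IrrCharacter H, n ψ * k ψ : ℕ) : ℂ) := by
    have hfun : (fun m : N => (χ : G → ℂ) m) = ∑ ψ : IrrCharacter H,
        (n ψ : ℂ) • fun m : N => (ψ : H → ℂ) (Subgroup.inclusion hNH m) := by
      funext m
      have := congrFun hn (Subgroup.inclusion hNH m)
      simp only [Finset.sum_apply, Pi.smul_apply] at this ⊢
      exact this
    rw [hfun, classInner_sum_left]
    push_cast
    exact Finset.sum_congr rfl fun ψ _ => by rw [classInner_smul_left, hk]
  rw [hsum, Nat.cast_ne_zero]
  intro h0
  have h5 := Finset.sum_eq_zero_iff.mp h0 η (Finset.mem_univ _)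
  rw [hnη, hkη, mul_one] at h5
  exact hχd (by rw [h5, zero_mul]; exact dvd_zero _)


/-- Let N be a normal subgroup of the finite group G, p a prime, M a maximal ideal of the algebraic integers containing p, and P a Sylow p-subgroup of G. Let θ be an irreducible character of N of degree prime to p lying in the principal p-block of N, and suppose θ extends to the subgroup NP (some irreducible character of NP restricts to θ). Then some irreducible character χ of G of degree prime to p in the principal p-block of G lies over θ (θ is a constituent of the restriction of χ to N). -/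
theorem result {G : Type*} [Group G] [Finite G] (N : Subgroup G) [N.Normal] (p : ℕ) [Fact p.Prime] (M : Ideal Cfsg.AlgInt) (hM : Cfsg.IsPModular p M) (P : Sylow p G)
    (θ : Cfsg.IrrCharacter N) (hθ : θ ∈ Cfsg.principalBlock M N) (hdeg : ¬ p ∣ Cfsg.charDegree (θ : N → ℂ))
    (hext : ∃ η : Cfsg.IrrCharacter ↥(N ⊔ (P : Subgroup G)), ∀ n : N, (η : ↥(N ⊔ (P : Subgroup G)) → ℂ) (Subgroup.inclusion le_sup_left n) = (θ : N → ℂ) n) :
    ∃ χ : Cfsg.IrrCharacter G, χ ∈ Cfsg.principalBlock M G ∧ ¬ p ∣ Cfsg.charDegree (χ : G → ℂ) ∧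
      haveI := Fintype.ofFinite N; Cfsg.classInner (fun n : N => (χ : G → ℂ) n) (θ : N → ℂ) ≠ 0 := by
  classical
  cases nonempty_fintype G
  letI := Fintype.ofFinite N
  obtain ⟨η, hη⟩ := hext
  exact main hM N P θ hθ hdeg _ rfl le_sup_left η hη

end Cfsg.Agent.S4583
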