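import Cfsg.Statements.S4585
import Cfsg.Agent.H82.SmallPGroup

set_option autoImplicit false
open Cfsg
open scoped commutatorElement

namespace Cfsg.Agent.S4585

/-- Let p be a prime and P a group of order p^4. Then P' has index p^2 in P if and only if P has maximal nilpotency class, that is, nilpotency class exactly 3. -/
theorem result {P : Type*} [Group P] [Finite P] (p : ℕ) [Fact p.Prime] (hP : Nat.card P = p ^ 4) :
    (commutator P).index = p ^ 2 ↔ Group.nilpotencyClass P = 3 := by
  have hPG : IsPGroup p P := IsPGroup.of_card hP
  have hnil : Group.IsNilpotent P := hPG.isNilpotent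
  have hp := (Fact.out : p.Prime)
  obtain ⟨k, hk4, hk⟩ := H82.exists_card_eq_pow hP (_root_.commutator P)
  have hidx := H82.index_eq_pow_of_card hP _ hk4 hk
  have h2 : Subgroup.lowerCentralSeries (⊤ : Subgroup P) 1 = _root_.commutator P := rfl
  have central : _root_.commutator P ≤ Subgroup.center P →
      Group.nilpotencyClass P ≤ 2 := by
    intro hc
    rw [← lowerCentralSeries_eq_bot_iff_nilpotencyClass_le, eq_bot_iff]
    refine Subgroup.commutator_le.mpr fun x hx y _ => ?_
    rw [Subgroup.mem_bot, commutatorElement_eq_one_iff_mul_comm]
    exact (Subgroup.mem_center_iff.mp (hc (h2 ▸ hx)) y).symm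
  constructor
  · intro hi
    rw [hidx] at hi
    have hk2 : k = 2 := by have := Nat.pow_right_injective hp.two_le hi; omega
    subst hk2
    have hnc : ¬ _root_.commutator P ≤ Subgroup.center P := by
      intro hc
      obtain ⟨j, hj4, hj⟩ := H82.exists_card_eq_pow hP (Subgroup.center P)
      have hjidx := H82.index_eq_pow_of_card hP _ hj4 hj
      have hj2 : 2 ≤ j := by
        have := Subgroup.card_le_of_le hc
        rw [hk, hj] at this
        exact (Nat.pow_le_pow_iff_right hp.one_lt).mp this
      have hj3 : j ≠ 3 := fun h3 => by
        rw [h3] at hjidx; exact PGroups.center_index_ne_prime (by simpa using hjidx)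
      have hj4' : j ≠ 4 := by
        rintro rfl
        have ht : Subgroup.center P = ⊤ := Subgroup.eq_top_of_card_eq _ (hj.trans hP.symm)
        have : _root_.commutator P = ⊥ := by
          refine eq_bot_iff.mpr (Subgroup.commutator_le.mpr fun x _ y _ => ?_)
          rw [Subgroup.mem_bot, commutatorElement_eq_one_iff_mul_comm]
          exact Subgroup.mem_center_iff.mp (ht ▸ Subgroup.mem_top y) x
        rw [this, Subgroup.card_bot] at hk
        exact absurd hk.symm (by nlinarith [hp.one_lt])
      have := H82.commutator_card_of_center_index hP
        (by rw [hjidx, show j = 2 by omega])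
      rw [hk] at this
      nlinarith [hp.one_lt]
    -- the third term is strictly below the commutator subgroup and hence central
    have hlt : Subgroup.lowerCentralSeries (⊤ : Subgroup P) 2 < _root_.commutator P := by
      refine lt_of_le_of_ne (h2 ▸ Subgroup.lowerCentralSeries_antitone ⊤ (by norm_num : 1 ≤ 2)) fun he => ?_
      have hst : ∀ n, 1 ≤ n → Subgroup.lowerCentralSeries (⊤ : Subgroup P) n = _root_.commutator P := by
        intro n hn
        induction n, hn using Nat.le_induction with
        | base => exact h2
        | succ n hn ih =>
          rw [Subgroup.lowerCentralSeries_succ, ih, ← h2, ← Subgroup.lowerCentralSeries_succ]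
          exact he.trans h2.symm
      have hb := hst (max 1 (Group.nilpotencyClass P)) (le_max_left _ _)
      rw [lowerCentralSeries_eq_bot_iff_nilpotencyClass_le.mpr (le_max_right _ _)] at hb
      rw [← hb, Subgroup.card_bot] at hk
      exact absurd hk.symm (by nlinarith [hp.one_lt])
    have hle3 : Group.nilpotencyClass P ≤ 3 := by
      rw [← lowerCentralSeries_eq_bot_iff_nilpotencyClass_le, eq_bot_iff]
      have hcard := H82.mul_card_le_of_lt hPG hlt
      rw [hk] at hcard
      obtain ⟨j, -, hj⟩ := H82.exists_card_eq_pow hP (Subgroup.lowerCentralSeries (⊤ : Subgroup P) 2)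
      rw [hj, ← pow_succ'] at hcard
      have hj1 : j ≤ 1 := by
        have := (Nat.pow_le_pow_iff_right hp.one_lt).mp hcard
        omega
      have hc : Subgroup.lowerCentralSeries (⊤ : Subgroup P) 2 ≤ Subgroup.center P := by
        rcases Nat.le_one_iff_eq_zero_or_eq_one.mp hj1 with rfl | rfl
        · rw [pow_zero] at hj
          rw [Subgroup.card_eq_one.mp hj]; exact bot_le
        · exact PGroups.le_center_of_card_eq hPG _ (hj.trans (pow_one p))
      refine Subgroup.commutator_le.mpr fun x hx y _ => ?_
      rw [Subgroup.mem_bot, commutatorElement_eq_one_iff_mul_comm]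
      exact (Subgroup.mem_center_iff.mp (hc hx) y).symm
    have hgt : ¬ Group.nilpotencyClass P ≤ 2 := by
      intro hle
      rw [← lowerCentralSeries_eq_bot_iff_nilpotencyClass_le] at hle
      apply hnc
      intro x hx
      refine Subgroup.mem_center_iff.mpr fun y => ?_
      have : ⁅x, y⁆ ∈ Subgroup.lowerCentralSeries (⊤ : Subgroup P) 2 :=
        Subgroup.commutator_mem_commutator (h2.symm ▸ hx) (Subgroup.mem_top y)
      rw [hle, Subgroup.mem_bot, commutatorElement_eq_one_iff_mul_comm] at this
      exact this.symm
    omega
  · intro hcl
    rw [hidx]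
    have hk2 : 2 ≤ k := by
      by_contra hlt
      have : _root_.commutator P ≤ Subgroup.center P := by
        rcases (show k = 0 ∨ k = 1 by omega) with rfl | rfl
        · rw [pow_zero] at hk
          rw [Subgroup.card_eq_one.mp hk]; exact bot_le
        · exact PGroups.le_center_of_card_eq hPG _ (hk.trans (pow_one p))
      have := central this
      omega
    have hk2' : k ≤ 2 := by
      by_contra hgt
      have hdvd : (_root_.commutator P).index ∣ p ^ 1 := by
        rw [hidx]; exact pow_dvd_pow p (by omega)
      have hc : IsCyclic (P ⧸ frattini P) := by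
        have h1 := (Subgroup.index_dvd_of_le (PGroups.commutator_le_frattini hPG)).trans hdvd
        rw [pow_one, Subgroup.index_eq_card] at h1
        rcases (Nat.dvd_prime hp).mp h1 with h | h
        · have : Subsingleton (P ⧸ frattini P) := (Nat.card_eq_one_iff_unique.mp h).1
          infer_instance
        · exact isCyclic_of_prime_card h
      have : IsCyclic P := PGroups.isCyclic_of_frattini (G := P)
      have := central (fun x _ => Subgroup.mem_center_iff.mpr fun y => by
        obtain ⟨g, hg⟩ := IsCyclic.exists_generator (α := P)
        obtain ⟨i, rfl⟩ := hg x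
        obtain ⟨j, rfl⟩ := hg y
        group)
      omega
    rw [show k = 2 by omega]

end Cfsg.Agent.S4585
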