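import Cfsg.Statements.S4586
import Mathlib.GroupTheory.Abelianization.Defs
import Mathlib.Algebra.Group.Subgroup.Finite
import Mathlib.Tactic.LinearCombination

set_option autoImplicit false
open Cfsg
open scoped commutatorElement

namespace Cfsg.Agent.S4586

/-- Let p be a prime, P a finite p-group and N a normal subgroup of P of index p. For x ∈ P write c(x) for the number of elements n of N whose commutator x n x⁻¹ n⁻¹ lies in the derived subgroup N' (so c(x)/#N' is the order of the centralizer of x acting on N/N'). Then [P : P'] = p² if and only if c(x) = p·#N' for every x ∈ P outside N, and also if and only if c(x) = p·#N' for some x ∈ P outside N. -/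
theorem result {P : Type*} [Group P] [Finite P] (p : ℕ) [Fact p.Prime] (hP : IsPGroup p P) (N : Subgroup P) [N.Normal] (hN : N.index = p) :
    ((commutator P).index = p ^ 2 ↔ ∀ x : P, x ∉ N →
        Nat.card {n : N // x * n * x⁻¹ * (n : P)⁻¹ ∈ (commutator N).map N.subtype} = p * Nat.card (commutator N)) ∧
    ((commutator P).index = p ^ 2 ↔ ∃ x : P, x ∉ N ∧
        Nat.card {n : N // x * n * x⁻¹ * (n : P)⁻¹ ∈ (commutator N).map N.subtype} = p * Nat.card (commutator N)) := by
  classical
  have hfinA : Finite (Abelianization N) := Quotient.finite _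
  have hp := (Fact.out : p.Prime)
  have key : ∀ x : P, x ∉ N →
      ((commutator P).index = p ^ 2 ↔
        Nat.card {n : N // x * n * x⁻¹ * (n : P)⁻¹ ∈ (commutator N).map N.subtype} =
          p * Nat.card (commutator N)) := by
    intro x hx
    have hcm : ∀ n : N, x * n * x⁻¹ * (n : P)⁻¹ ∈ N := fun n =>
      mul_mem (‹N.Normal›.conj_mem _ n.2 x) (inv_mem n.2)
    let d : N → N := fun n => ⟨x * n * x⁻¹ * (n : P)⁻¹, hcm n⟩
    let f : N →* Abelianization N :=
      MonoidHom.mk' (fun n => Abelianization.of (d n)) fun n m => by
        have : d (n * m) = d n * (n * d m * n⁻¹) := by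
          apply Subtype.ext; simp only [d, Subgroup.coe_mul, Subgroup.coe_inv]; group
        rw [this, map_mul, map_mul, map_mul, map_inv, mul_comm (Abelianization.of n) _,
          mul_inv_cancel_right]
    have hcard : Nat.card {n : N // x * n * x⁻¹ * (n : P)⁻¹ ∈ (commutator N).map N.subtype} =
        Nat.card f.ker := by
      refine Nat.card_congr (Equiv.subtypeEquivRight fun n => ?_)
      rw [show x * n * x⁻¹ * (n : P)⁻¹ = N.subtype (d n) from rfl,
        Subgroup.mem_map_iff_mem N.subtype_injective, MonoidHom.mem_ker]
      exact (QuotientGroup.eq_one_iff _).symm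
    set R : Subgroup N := f.range.comap Abelianization.of with hR
    set R' : Subgroup P := R.map N.subtype with hR'
    have hNR : commutator N ≤ R := fun c hc => by
      have : Abelianization.of c = 1 := (QuotientGroup.eq_one_iff _).mpr hc
      rw [hR, Subgroup.mem_comap, this]
      exact one_mem _
    have hmemR : ∀ n : N, x * n * x⁻¹ * (n : P)⁻¹ ∈ R' := fun n =>
      ⟨d n, ⟨n, rfl⟩, rfl⟩
    have hconjN : ∀ n ∈ N, ∀ r ∈ R', n * r * n⁻¹ ∈ R' := by
      rintro n hn _ ⟨r, hr, rfl⟩
      refine ⟨⟨n, hn⟩ * r * ⟨n, hn⟩⁻¹, ?_, rfl⟩
      rw [hR, SetLike.mem_coe, Subgroup.mem_comap, map_mul, map_mul, map_inv, mul_comm (Abelianization.of _),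
        mul_inv_cancel_right]
      exact hr
    have hconjx : ∀ r ∈ R', x * r * x⁻¹ ∈ R' := by
      rintro r ⟨r0, hr, rfl⟩
      have : x * (r0 : P) * x⁻¹ = (x * r0 * x⁻¹ * (r0 : P)⁻¹) * r0 := by group
      rw [Subgroup.coe_subtype, this]
      exact mul_mem (hmemR r0) ⟨r0, hr, rfl⟩
    have hgen : N ⊔ Subgroup.zpowers x = ⊤ := by
      apply Subgroup.index_eq_one.mp
      have h1 := Subgroup.relIndex_mul_index (le_sup_left : N ≤ N ⊔ Subgroup.zpowers x)
      rw [hN] at h1
      rcases hp.eq_one_or_self_of_dvd _ (Dvd.intro_left _ h1) with h | h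
      · exact h
      · exfalso
        rw [h] at h1
        have : N.relIndex (N ⊔ Subgroup.zpowers x) = 1 :=
          Nat.eq_of_mul_eq_mul_right hp.pos (by rw [h1, one_mul])
        exact hx (Subgroup.relIndex_eq_one.mp this
          (Subgroup.mem_sup_right (Subgroup.mem_zpowers x)))
    have hn : R'.Normal := by
      rw [← Subgroup.normalizer_eq_top_iff, eq_top_iff, ← hgen, sup_le_iff, Subgroup.zpowers_le]
      exact ⟨fun n hn => Subgroup.mem_normalizer_fintype fun r hr => hconjN n hn r hr,
        Subgroup.mem_normalizer_fintype hconjx⟩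
    have hcomm : commutator P = R' := by
      apply le_antisymm
      · let π := QuotientGroup.mk' R'
        have hxn : ∀ n ∈ N, Commute (π x) (π n) := fun n hn => by
          rw [← commutatorElement_eq_one_iff_commute, ← map_commutatorElement]
          exact (QuotientGroup.eq_one_iff _).mpr (hmemR ⟨n, hn⟩)
        have hnn : ∀ n ∈ N, ∀ m ∈ N, Commute (π n) (π m) := fun n hn m hm => by
          rw [← commutatorElement_eq_one_iff_commute, ← map_commutatorElement]
          exact (QuotientGroup.eq_one_iff _).mpr
            ⟨⁅⟨n, hn⟩, ⟨m, hm⟩⁆, hNR (Subgroup.commutator_mem_commutator (Subgroup.mem_top _)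
              (Subgroup.mem_top _)), by simp [map_commutatorElement]⟩
        have hmax : ∀ a : P, (∀ n ∈ N, Commute (π a) (π n)) → Commute (π a) (π x) →
            ∀ g : P, Commute (π a) (π g) := by
          intro a h1 h2 g
          have : (⊤ : Subgroup P) ≤ (Subgroup.centralizer {π a}).comap π := by
            rw [← hgen, sup_le_iff, Subgroup.zpowers_le]
            exact ⟨fun n hn => Subgroup.mem_centralizer_iff.mpr
                (by rintro y rfl; exact (h1 n hn).eq),
              Subgroup.mem_centralizer_iff.mpr (by rintro y rfl; exact h2.eq)⟩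
          exact Subgroup.mem_centralizer_iff.mp (this (Subgroup.mem_top g)) _ rfl
        refine Subgroup.commutator_le.mpr fun g _ h _ => ?_
        rw [← QuotientGroup.eq_one_iff]
        change π ⁅g, h⁆ = 1
        rw [map_commutatorElement, commutatorElement_eq_one_iff_commute]
        exact hmax g (fun n hn => (hmax n (hnn n hn) (hxn n hn).symm g).symm)
          (hmax x hxn (Commute.refl _) g).symm h
      · rintro _ ⟨r, hr, rfl⟩
        rw [hR, SetLike.mem_coe, Subgroup.mem_comap] at hr
        obtain ⟨n, hn⟩ := hr
        have h1 : (d n)⁻¹ * r ∈ commutator N := (QuotientGroup.eq_one_iff _).mp (by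
          change Abelianization.of ((d n)⁻¹ * r) = 1
          rw [map_mul, map_inv, ← hn, MonoidHom.mk'_apply, inv_mul_cancel])
        have h2 : N.subtype ((d n)⁻¹ * r) ∈ commutator P := by
          have h3 := Subgroup.mem_map_of_mem N.subtype h1
          rw [Subgroup.map_subtype_commutator] at h3
          exact Subgroup.commutator_mono le_top le_top h3
        have h4 : N.subtype (d n) ∈ commutator P := by
          have : N.subtype (d n) = ⁅x, (n : P)⁆ := rfl
          rw [this]
          exact Subgroup.commutator_mem_commutator (Subgroup.mem_top _) (Subgroup.mem_top _)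
        simpa using mul_mem h4 h2
    have hcardR : Nat.card (commutator P) = Nat.card (commutator N) * Nat.card f.range := by
      rw [hcomm, hR', Subgroup.card_map_of_injective N.subtype_injective]
      have h1 := (commutator N).card_mul_index
      have h2 := R.card_mul_index
      have h3 := f.range.card_mul_index
      have h4 : R.index = f.range.index :=
        Subgroup.index_comap_of_surjective _ (QuotientGroup.mk'_surjective _)
      have h5 : Nat.card (Abelianization N) = (commutator N).index := (Subgroup.index_eq_card _).symm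
      rw [h5] at h3
      refine Nat.eq_of_mul_eq_mul_right (Nat.pos_of_ne_zero Subgroup.index_ne_zero_of_finite) ?_
        (m := R.index)
      rw [h2, h4, mul_assoc, h3, h1]
    have h6 : (commutator P).index * Nat.card (commutator N) = p * Nat.card f.ker := by
      have h1 := (commutator P).card_mul_index
      have h2 := f.ker.card_mul_index
      rw [Subgroup.index_ker] at h2
      have h3 := N.card_mul_index
      rw [hN, ← h2] at h3
      rw [hcardR, ← h3] at h1
      refine Nat.eq_of_mul_eq_mul_left (Nat.card_pos (α := f.range)) ?_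
      linear_combination h1
    rw [hcard]
    constructor
    · intro h
      rw [h] at h6
      refine Nat.eq_of_mul_eq_mul_left hp.pos ?_
      linear_combination -h6
    · intro h
      refine Nat.eq_of_mul_eq_mul_right (Nat.card_pos (α := commutator N)) ?_
      rw [h6, h]; ring
  refine ⟨⟨fun h x hx => (key x hx).mp h, fun h => ?_⟩, ⟨fun h => ?_, fun ⟨x, hx, h⟩ => (key x hx).mpr h⟩⟩
  all_goals
    obtain ⟨x, -, hx⟩ := SetLike.exists_of_lt (lt_top_iff_ne_top.mpr fun ht : N = ⊤ => by
      rw [ht, Subgroup.index_top] at hN; exact hp.ne_one hN.symm)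
  · exact (key x hx).mpr (h x hx)
  · exact ⟨x, hx, (key x hx).mp h⟩

end Cfsg.Agent.S4586
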