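import Cfsg.Statements.S4591
import Cfsg.Agent.H82.PrimeDegree
import Cfsg.Agent.Fusion.Tate
import Cfsg.Agent.PGroups.Basic
import Cfsg.Agent.Cores.Residual
import Cfsg.Agent.H41.Basic
import Mathlib.GroupTheory.FiniteAbelian.Duality
import Mathlib.Analysis.Complex.Polynomial.Basic
import Mathlib.GroupTheory.NoncommCoprod

set_option autoImplicit false
open Cfsg
open scoped commutatorElement

namespace Cfsg.Agent.S4591

open Cfsg.Agent

/-- The normal `p'`-subgroup `C_L(P) = 1` lies in the kernel of every `p'`-degree character. -/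
theorem le_primeDegKer {G : Type*} [Group G] [Finite G] {p : ℕ} [Fact p.Prime] (P : Sylow p G)
    (L : Subgroup G) [L.Normal] (hL : L ⊓ Subgroup.centralizer ((P : Subgroup G) : Set G) = ⊥) :
    L ≤ H82.primeDegKer p G := by
  classical
  cases nonempty_fintype G
  intro l hl χ hχ
  obtain ⟨M, hM⟩ := BlockBasic.exists_isPModular (Fact.out : p.Prime)
  refine H82.eq_one_of_sum_ne_zero L χ.2 (fun hsum => hχ ?_) hl
  have h := H82.memLocalIdeal_sum_sub_sum_centralizer hM P.2
    (f := fun g => if g ∈ L then (χ : G → ℂ) g else 0)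
    (fun g => by
      split_ifs
      · exact BlockBasic.memLocalRing_of_isIntegral hM (H83.irr_isIntegral χ.2 g)
      · exact BlockBasic.MemLocalIdeal.memLocalRing (BlockBasic.memLocalIdeal_zero hM))
    (fun q _ x => by
      have : q * x * q⁻¹ ∈ L ↔ x ∈ L := ⟨fun h => by
        simpa [mul_assoc] using Subgroup.Normal.conj_mem inferInstance _ h q⁻¹,
        fun h => Subgroup.Normal.conj_mem inferInstance x h q⟩
      simp only [this, CharBasic.IsIrr.isClassFunction χ.2 x q])
  rw [← Finset.sum_filter, hsum, zero_sub, Finset.sum_eq_single_of_mem 1 (Finset.mem_univ _)] at h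
  · have h' := BlockBasic.memLocalIdeal_neg h
    rw [neg_neg, Subgroup.coe_one, if_pos L.one_mem, (H83.charDegree_eq χ.2).1,
      BlockBasic.memLocalIdeal_natCast_iff hM] at h'
    exact h'
  · intro c _ hc
    rw [if_neg]
    intro hcL
    apply hc
    have : (c : G) ∈ L ⊓ Subgroup.centralizer ((P : Subgroup G) : Set G) := ⟨hcL, c.2⟩
    rw [hL, Subgroup.mem_bot] at this
    exact Subtype.ext this

/-- `P ∩ primeDegKer ≤ P'`. -/
theorem inf_primeDegKer_le {G : Type*} [Group G] [Finite G] {p : ℕ} [Fact p.Prime] (P : Sylow p G) :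
    (P : Subgroup G) ⊓ H82.primeDegKer p G ≤ ⁅(P : Subgroup G), (P : Subgroup G)⁆ := by
  classical
  intro x ⟨hxP, hxK⟩
  cases nonempty_fintype (P : Subgroup G)
  by_contra hx
  have hne : (Abelianization.of (⟨x, hxP⟩ : (P : Subgroup G))) ≠ 1 := fun h => hx (by
    have := Subgroup.mem_map_of_mem (P : Subgroup G).subtype ((QuotientGroup.eq_one_iff _).mp h)
    rwa [Subgroup.map_subtype_commutator] at this)
  obtain ⟨φ, hφ⟩ := CommGroup.exists_apply_ne_one_of_hasEnoughRootsOfUnity
    (Abelianization (P : Subgroup G)) ℂ hne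
  let f : (P : Subgroup G) →* ℂ := (Units.coeHom ℂ).comp (φ.comp Abelianization.of)
  have h := H82.apply_eq_of_mem_primeDegKer (P : Subgroup G) P.not_dvd_index
    (H82.isIrrCharacter_hom f)
    (by simpa [Cfsg.charDegree] using (Fact.out : p.Prime).ne_one) (h := ⟨x, hxP⟩) hxK
  rw [map_one] at h
  exact hφ (Units.ext h)

/-- Let G be a finite group, p a prime and P a Sylow p-subgroup, and let N be the largest normal subgroup of G in which P has trivial centralizer (N is normal with C_N(P) = 1 and contains every normal subgroup with that property). Then the intersection of the kernels of the irreducible characters of G of degree prime to p is the normal core in G of the subgroup N·P' (P' the derived subgroup of P). In particular, when G has no nontrivial normal subgroup of order prime to p, that intersection is the normal core of P'. -/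
theorem result {G : Type*} [Group G] [Finite G] (p : ℕ) [Fact p.Prime] (P : Sylow p G) (N : Subgroup G) [N.Normal]
    (hN : N ⊓ Subgroup.centralizer ((P : Subgroup G) : Set G) = ⊥)
    (hmax : ∀ L : Subgroup G, L.Normal → L ⊓ Subgroup.centralizer ((P : Subgroup G) : Set G) = ⊥ → L ≤ N) :
    {g : G | ∀ χ : Cfsg.IrrCharacter G, ¬ p ∣ Cfsg.charDegree (χ : G → ℂ) → (χ : G → ℂ) g = (χ : G → ℂ) 1} =
      ((N ⊔ ⁅(P : Subgroup G), (P : Subgroup G)⁆).normalCore : Set G) := by
  classical
  cases nonempty_fintype G
  have hp := (Fact.out : p.Prime)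
  set K := H82.primeDegKer p G with hK
  change (K : Set G) = _
  congr 1
  set P' := ⁅(P : Subgroup G), (P : Subgroup G)⁆ with hP'
  -- `N` has order prime to `p`
  have hNp : ¬ p ∣ Nat.card N := by
    intro hd
    obtain ⟨x, hx⟩ := exists_prime_orderOf_dvd_card' (G := N) p hd
    rw [← Subgroup.orderOf_coe] at hx
    have hxp : IsPGroup p (Subgroup.zpowers (x : G)) :=
      IsPGroup.of_card (n := 1) (by rw [Nat.card_zpowers, hx, pow_one])
    obtain ⟨R, hR⟩ := hxp.exists_le_sylow
    obtain ⟨h, rfl⟩ := MulAction.exists_smul_eq G P R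
    obtain ⟨y, hy, hyx⟩ := hR (Subgroup.mem_zpowers (x : G))
    have hyN : y ∈ N := by
      have h' : h * y * h⁻¹ = (x : G) := hyx
      have := ‹N.Normal›.conj_mem _ x.2 h⁻¹
      rw [← h'] at this
      simpa [mul_assoc] using this
    have hne : (N.subgroupOf (P : Subgroup G)) ≠ ⊥ := by
      intro hb
      have h1 : (⟨y, hy⟩ : (P : Subgroup G)) ∈ N.subgroupOf (P : Subgroup G) := hyN
      rw [hb, Subgroup.mem_bot] at h1
      have h2 : y = 1 := congrArg Subtype.val h1
      have h' : h * y * h⁻¹ = (x : G) := hyx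
      apply hp.ne_one
      rw [← hx, ← h', h2]; simp
    obtain ⟨z, hz1, hz2, hz3⟩ := PGroups.exists_mem_center_orderOf_eq P.2 (N.subgroupOf (P : Subgroup G)) hne
    have hzc : (z : G) ∈ N ⊓ Subgroup.centralizer ((P : Subgroup G) : Set G) := ⟨hz1, by
      exact Subgroup.mem_centralizer_iff.mpr fun a ha =>
        congrArg Subtype.val (Subgroup.mem_center_iff.mp hz2 ⟨a, ha⟩)⟩
    rw [hN, Subgroup.mem_bot] at hzc
    apply hp.ne_one
    rw [← hz3, ← Subgroup.orderOf_coe, hzc, orderOf_one]
  apply le_antisymm
  · -- the kernel lies in `N P'`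
    apply Subgroup.normal_le_normalCore.mpr
    intro k hk
    set Y := (P : Subgroup G) ⊔ K
    have hPY : (P : Subgroup G) ≤ Y := le_sup_left
    have hY : Cfsg.HasNormalPComplement p Y := by
      refine (Fusion.hasNormalPComplement_iff_inf_eq_bot (P.subtype hPY)).mpr ?_
      have hres : Cfsg.pResidual p Y ≤ K.subgroupOf Y := by
        rw [Cfsg.pResidual, Subgroup.closure_le]
        intro y hy
        rw [SetLike.mem_coe, Subgroup.mem_subgroupOf]
        obtain ⟨a, ha, b, hb, hab⟩ := Subgroup.mem_sup_of_normal_right.mp y.2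
        let π := QuotientGroup.mk' K
        have h1 : π (y : G) = π a := by
          rw [← hab, map_mul, show π b = 1 from (QuotientGroup.eq_one_iff b).mpr hb, mul_one]
        obtain ⟨n, hn⟩ := IsPGroup.iff_orderOf.mp P.2 ⟨a, ha⟩
        rw [Subgroup.orderOf_mk] at hn
        rw [← QuotientGroup.eq_one_iff]
        change π (y : G) = 1
        refine orderOf_eq_one_iff.mp (Nat.eq_one_of_dvd_coprimes (Nat.Coprime.pow_left n (hy.symm)) ?_ ?_)
        · rw [h1, ← hn]; exact orderOf_map_dvd π a
        · rw [← Subgroup.orderOf_coe y]; exact orderOf_map_dvd π (y : G)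
      set S := (P : Subgroup G).subgroupOf Y
      have hS : ((P.subtype hPY : Sylow p Y) : Subgroup Y) = S := Sylow.coe_subtype P hPY
      have hind : ¬ p ∣ S.index := hS ▸ (P.subtype hPY).not_dvd_index
      have ht := Fusion.tate (p := p) (H := S) hind fun L hLn hLi => by
        have hcm : _root_.commutator S ≤ L := by
          rw [← Subgroup.Normal.quotient_commutative_iff_commutator_le]
          have : IsCyclic (S ⧸ L) := isCyclic_of_prime_card (p := p)
            (by rw [← Subgroup.index_eq_card, hLi])
          let := IsCyclic.commGroup (α := S ⧸ L)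
          exact ⟨⟨mul_comm⟩⟩
        intro s hs
        have h1 : ((s : Y) : G) ∈ P' := inf_primeDegKer_le P ⟨s.2, hres hs⟩
        apply hcm
        apply (Subgroup.mem_map_iff_mem (f := Y.subtype.comp S.subtype)
          (Y.subtype_injective.comp S.subtype_injective)).mp
        rw [_root_.commutator_def, Subgroup.map_commutator, ← MonoidHom.range_eq_map,
          MonoidHom.range_comp, Subgroup.range_subtype, Subgroup.map_subgroupOf_eq_of_le hPY]
        exact h1
      have hSp : IsPGroup p S := P.2.of_equiv (Subgroup.subgroupOfEquivOfLe hPY).symm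
      have hSres : Cfsg.pResidual p S = ⊥ := Cores.pResidual_eq_bot_iff.mpr hSp
      rw [hSres, Subgroup.subgroupOf_eq_bot, disjoint_iff, inf_comm] at ht
      rw [hS]
      exact ht
    have hKc : Cfsg.HasNormalPComplement p K :=
      (Fusion.hasNormalPComplement_congr (Subgroup.subgroupOfEquivOfLe (le_sup_right : K ≤ Y))).mp
        (Fusion.hasNormalPComplement_subgroup hY (K.subgroupOf Y))
    set L := (Cfsg.pResidual p K).map K.subtype
    have hLp : ¬ p ∣ Nat.card L := by
      rw [Subgroup.card_map_of_injective K.subtype_injective]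
      exact Fusion.hasNormalPComplement_iff_pResidual.mp hKc
    have hLn : L.Normal := inferInstance
    have hLN : L ≤ N := by
      refine hmax L hLn ?_
      rw [Subgroup.eq_bot_iff_forall]
      by_contra hcon
      simp only [not_forall] at hcon
      obtain ⟨c, ⟨hcL, hcC⟩, hc1⟩ := hcon
      set C := L ⊓ Subgroup.centralizer ((P : Subgroup G) : Set G)
      set X := C ⊔ (P : Subgroup G)
      have hcomm : ∀ (a : C) (b : (P : Subgroup G)), Commute (C.subtype a) ((P : Subgroup G).subtype b) :=
        fun a b => (Subgroup.mem_centralizer_iff.mp a.2.2 b b.2).symm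
      set F := MonoidHom.noncommCoprod C.subtype (P : Subgroup G).subtype hcomm
      have hdis : C ⊓ (P : Subgroup G) = ⊥ := by
        apply le_bot_iff.mp
        refine le_trans (inf_le_inf_right _ inf_le_left) (le_of_eq ?_)
        obtain ⟨n, hn⟩ := P.2.exists_card_eq
        exact Subgroup.inf_eq_bot_of_coprime
          (hn ▸ Nat.Coprime.pow_right n (hp.coprime_iff_not_dvd.mpr hLp).symm)
      have hFinj : Function.Injective F := by
        rw [← MonoidHom.ker_eq_bot_iff, Subgroup.eq_bot_iff_forall]
        rintro ⟨a, b⟩ hab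
        have hab' : (a : G) * b = 1 := hab
        have ha : (a : G) ∈ C ⊓ (P : Subgroup G) :=
          ⟨a.2, by rw [eq_inv_of_mul_eq_one_left hab']; exact Subgroup.inv_mem _ b.2⟩
        rw [hdis, Subgroup.mem_bot] at ha
        rw [ha, one_mul] at hab'
        ext
        · exact ha
        · exact hab'
      let e := MonoidHom.ofInjective hFinj
      -- a non-trivial irreducible character of `C`
      have hcmem : c ∈ C := ⟨hcL, hcC⟩
      obtain ⟨μ, hμ⟩ : ∃ μ : Cfsg.IrrCharacter C, (μ : C → ℂ) ⟨c, hcmem⟩ ≠ (μ : C → ℂ) 1 := by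
        by_contra hall
        simp only [not_exists, not_not] at hall
        exact hc1 (congrArg Subtype.val
          (isConj_one_left.mp ((CharBasic.isConj_iff_forall_irr _ _).mpr hall)))
      have hθ : Cfsg.IsIrrCharacter F.range (fun x => (μ : C → ℂ) (e.symm x).1) :=
        CharInduce.IsIrr.comp μ.2 ((MonoidHom.fst C (P : Subgroup G)).comp e.symm.toMonoidHom)
          (fun a => ⟨e (a, 1), by simp⟩)
      have hidx : ¬ p ∣ F.range.index := fun hd => by
        refine P.not_dvd_index (hd.trans (Subgroup.index_dvd_of_le ?_))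
        intro b hb
        exact ⟨(1, ⟨b, hb⟩), by simp [F]⟩
      have hdegμ : ¬ p ∣ Cfsg.charDegree (fun x : F.range => (μ : C → ℂ) (e.symm x).1) := by
        have h0 : Cfsg.charDegree (fun x : F.range => (μ : C → ℂ) (e.symm x).1) =
            Cfsg.charDegree (μ : C → ℂ) := by simp [Cfsg.charDegree]
        rw [h0]
        exact fun h => hLp (h.trans ((H83.charDegree_dvd_card μ.2).trans
          (Subgroup.card_dvd_of_le inf_le_left)))
      have hcK : (e (⟨c, hcmem⟩, 1) : G) ∈ K := by
        have h0 : (e (⟨c, hcmem⟩, 1) : G) = c := by simp [e, F, MonoidHom.ofInjective_apply]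
        rw [h0]
        exact Subgroup.map_subtype_le _ hcL
      have := H82.apply_eq_of_mem_primeDegKer F.range hidx hθ hdegμ hcK
      apply hμ
      simpa using this
    -- an element of `K` is a `p'`-part times a `p`-part
    obtain ⟨R⟩ : Nonempty (Sylow p K) := inferInstance
    have hsup := Fusion.isComplement'_pResidual hKc R
    obtain ⟨⟨a, b⟩, hab⟩ := hsup.2 ⟨k, hk⟩
    have hk' : (a : G) * ((b : K) : G) = k := congrArg Subtype.val hab
    have hRK : ((R : Subgroup K).map K.subtype) ≤ N ⊔ P' := by
      set T := (P : Subgroup G).subgroupOf K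
      have hTp : IsPGroup p T := P.2.comap_subtype
      have hind : ¬ p ∣ T.index := H41.not_dvd_relIndex_sylow P K
      let T' := hTp.toSylow hind
      have hTT : (T' : Subgroup K) = T := rfl
      obtain ⟨g, hg⟩ := MulAction.exists_smul_eq K T' R
      rw [← hg]
      rintro _ ⟨w, ⟨y, hy, rfl⟩, rfl⟩
      have hy2 : (y : G) ∈ P' := inf_primeDegKer_le P ⟨(hTT ▸ hy : y ∈ T), y.2⟩
      obtain ⟨⟨a', b'⟩, hg'⟩ := (Fusion.isComplement'_pResidual hKc T').2 g
      rw [← hg']
      change ((a' : K) : G) * ((b' : K) : G) * (y : G) * (((a' : K) : G) * ((b' : K) : G))⁻¹ ∈ _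
      have ha' : ((a' : K) : G) ∈ N ⊔ P' :=
        Subgroup.mem_sup_left (hLN (Subgroup.mem_map_of_mem K.subtype a'.2))
      have hb' : ((b' : K) : G) ∈ N ⊔ P' :=
        Subgroup.mem_sup_right (inf_primeDegKer_le P ⟨(hTT ▸ b'.2 : (b' : K) ∈ T), (b' : K).2⟩)
      exact Subgroup.mul_mem _ (Subgroup.mul_mem _ (Subgroup.mul_mem _ ha' hb')
        (Subgroup.mem_sup_right hy2)) (Subgroup.inv_mem _ (Subgroup.mul_mem _ ha' hb'))
    rw [← hk']
    exact Subgroup.mul_mem _ (Subgroup.mem_sup_left (hLN (Subgroup.mem_map_of_mem K.subtype a.2)))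
      (hRK (Subgroup.mem_map_of_mem K.subtype b.2))
  · -- the core of `N P'` lies in the kernel
    intro g hg χ hχ
    set C := (N ⊔ P').normalCore with hC
    have hCle : C ≤ N ⊔ P' := Subgroup.normalCore_le _
    have hNC : N ≤ C := Subgroup.normal_le_normalCore.mpr le_sup_left
    obtain ⟨n, ρ, hρ, hρχ⟩ := χ.2
    have hNker : ∀ a ∈ N, ρ a = LinearMap.id := fun a ha => by
      have h1 := le_primeDegKer P N hN ha χ hχ
      rw [← hρχ, Representation.char_one] at h1
      exact (CharBasic.character_eq_finrank_iff ρ a).mp h1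
    -- a non-zero vector fixed by `P'`
    have hsum : ∑ b : P', ρ.character (b : G) ≠ 0 := by
      cases nonempty_fintype (P : Subgroup G)
      obtain ⟨l, r, hr, hlr⟩ := H82.exists_linear_constituent P.2
        (CharInduce.IsChar.res (CharBasic.IsIrr.isCharacter χ.2) (P : Subgroup G))
        (d := Cfsg.charDegree (χ : G → ℂ))
        (by rw [Subgroup.coe_one]; exact (H83.charDegree_eq χ.2).1) hχ
      have hP'le : P' ≤ (P : Subgroup G) := Subgroup.commutator_le_self _
      let ι := Subgroup.inclusion hP'le
      have hl1 : ∀ b : P', (l (ι b) : ℂ) = 1 := by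
        intro b
        have h1 : P' ≤ (MonoidHom.ker l).map (P : Subgroup G).subtype := by
          refine Subgroup.commutator_le.mpr fun a ha c hc =>
            ⟨⁅(⟨a, ha⟩ : (P : Subgroup G)), (⟨c, hc⟩ : (P : Subgroup G))⁆, ?_, by simp [map_commutatorElement]⟩
          rw [SetLike.mem_coe, MonoidHom.mem_ker, map_commutatorElement,
            commutatorElement_eq_one_iff_commute]
          exact Commute.all _ _
        obtain ⟨z, hz, hzb⟩ := h1 b.2
        rw [show ι b = z from Subtype.ext hzb.symm, (MonoidHom.mem_ker.mp hz), Units.val_one]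
      obtain ⟨m, hm⟩ := H83.sum_subgroup_eq hr (P'.subgroupOf (P : Subgroup G))
      intro h0
      have h2 : ∑ b : P', ρ.character (b : G) = (Nat.card P' : ℂ) * ((1 + m : ℕ) : ℂ) := by
        have h3 : ∀ b : P', ρ.character (b : G) = 1 + r (ι b) := fun b => by
          rw [hρχ]
          have := congrFun hlr (ι b)
          rw [Pi.add_apply, hl1] at this
          exact this
        rw [Finset.sum_congr rfl fun b _ => h3 b, Finset.sum_add_distrib, Finset.sum_const,
          Finset.card_univ, nsmul_one, ← Nat.card_eq_fintype_card]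
        have h4 : ∑ b : P', r (ι b) = (Nat.card P' : ℂ) * m := by
          rw [← Nat.card_congr (Subgroup.subgroupOfEquivOfLe hP'le).toEquiv, ← hm]
          exact Fintype.sum_equiv (Subgroup.subgroupOfEquivOfLe hP'le).symm.toEquiv _ _ fun b => rfl
        rw [h4]; push_cast; ring
      rw [h2, mul_eq_zero, Nat.cast_eq_zero, Nat.cast_eq_zero] at h0
      exact h0.elim Nat.card_pos.ne' (by omega)
    let T : Module.End ℂ (Fin n → ℂ) := ∑ b : P', ρ (b : G)
    obtain ⟨v, hv⟩ : ∃ v, T v ≠ 0 := by
      by_contra hall
      simp only [not_exists, not_not] at hall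
      apply hsum
      have h1 : LinearMap.trace ℂ (Fin n → ℂ) T = ∑ b : P', ρ.character (b : G) := by
        simp only [T, map_sum]; rfl
      rw [← h1, show T = 0 from LinearMap.ext hall, map_zero]
    have hfixP : ∀ b ∈ P', ρ b (T v) = T v := by
      intro b hb
      simp only [T, LinearMap.coe_sum, Finset.sum_apply, map_sum]
      refine Fintype.sum_equiv (Equiv.mulLeft (⟨b, hb⟩ : P')) _ _ fun c => ?_
      simp [map_mul]
    have hfixC : ∀ c ∈ C, ρ c (T v) = T v := by
      intro c hc
      obtain ⟨a, ha, b, hb, rfl⟩ := Subgroup.mem_sup_of_normal_left.mp (hCle hc)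
      rw [map_mul, Module.End.mul_apply, hfixP b hb, hNker a ha, LinearMap.id_apply]
    let W : Subrepresentation ρ :=
      { toSubmodule :=
          { carrier := {w | ∀ c ∈ C, ρ c w = w}
            add_mem' := fun ha hb c hc => by rw [map_add, ha c hc, hb c hc]
            zero_mem' := fun c _ => map_zero _
            smul_mem' := fun z w hw c hc => by rw [map_smul, hw c hc] }
        apply_mem_toSubmodule := fun x w hw c hc => by
          change ρ c (ρ x w) = ρ x w
          have hC' : C.Normal := Subgroup.normalCore_normal _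
          have hc' : x⁻¹ * c * x ∈ C := by simpa using hC'.conj_mem c hc x⁻¹
          rw [← Module.End.mul_apply, ← map_mul, show c * x = x * (x⁻¹ * c * x) by group, map_mul,
            Module.End.mul_apply, hw _ hc'] }
    rcases IsSimpleOrder.eq_bot_or_eq_top W with hW | hW
    · have h1 : T v ∈ W.toSubmodule := hfixC
      rw [hW] at h1
      exact absurd ((Submodule.mem_bot ℂ).mp h1) hv
    · rw [← hρχ, Representation.char_one]
      refine (CharBasic.character_eq_finrank_iff ρ g).mpr (LinearMap.ext fun w => ?_)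
      have hw : w ∈ W.toSubmodule := by rw [hW]; trivial
      exact hw g hg

end Cfsg.Agent.S4591
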