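import Cfsg.Statements.S4601
import Cfsg.Agent.Coprime.Action
import Cfsg.Agent.Cores.PSolvable

set_option autoImplicit false
open Cfsg

namespace Cfsg.Agent.S4601

open Subgroup Cfsg.Agent

universe u

variable {G : Type u} [Group G] [Finite G]

/-- The class hypothesis passes to a quotient. -/
theorem quotient_hyp {p q : ℕ} [Fact q.Prime] (N : Subgroup G) [N.Normal]
    (h : ∀ y : G, (∃ k : ℕ, orderOf y = q ^ k) → ¬ p ∣ (centralizer ({y} : Set G)).index) :
    ∀ y : G ⧸ N, (∃ k : ℕ, orderOf y = q ^ k) → ¬ p ∣ (centralizer ({y} : Set (G ⧸ N))).index := by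
  intro y ⟨k, hk⟩ hdiv
  obtain ⟨g, rfl⟩ := QuotientGroup.mk_surjective y
  set π := QuotientGroup.mk' N
  set o := orderOf g with ho
  have ho0 : o ≠ 0 := (orderOf_pos g).ne'
  obtain ⟨a, m, hm, hom⟩ := Nat.exists_eq_pow_mul_and_not_dvd ho0 q (Fact.out : q.Prime).ne_one
  have hcop : Nat.Coprime m (q ^ k) :=
    Nat.Coprime.pow_right k (((Fact.out : q.Prime).coprime_iff_not_dvd.mpr hm).symm)
  -- pick a q-element of the same image
  obtain ⟨c, hc⟩ := Nat.exists_mul_mod_eq_one_of_coprime hcop (by
    rcases Nat.eq_zero_or_pos k with h0 | h0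
    · exfalso
      subst h0
      apply h 1 ⟨0, by simp⟩
      rw [pow_zero, orderOf_eq_one_iff] at hk
      rw [hk, show centralizer ({1} : Set (G ⧸ N)) = ⊤ by ext; simp [mem_centralizer_singleton_iff]]
        at hdiv
      rw [show centralizer ({1} : Set G) = ⊤ by ext; simp [mem_centralizer_singleton_iff]]
      simpa using hdiv
    · exact Nat.one_lt_pow h0.ne' (Fact.out : q.Prime).one_lt)
  have himg : π (g ^ (m * c)) = π g := by
    rw [map_pow, ← pow_mod_orderOf, show orderOf (π g) = q ^ k from hk, hc.2, pow_one]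
  have hq : ∃ j : ℕ, orderOf (g ^ (m * c)) = q ^ j := by
    have : orderOf (g ^ (m * c)) ∣ q ^ a := orderOf_dvd_of_pow_eq_one (by
      rw [← pow_mul, show m * c * q ^ a = o * c by rw [hom]; ring, pow_mul, pow_orderOf_eq_one,
        one_pow])
    obtain ⟨j, -, hj⟩ := (Nat.dvd_prime_pow (Fact.out : q.Prime)).mp this
    exact ⟨j, hj⟩
  apply h _ hq
  refine dvd_trans hdiv ?_
  rw [show (g : G ⧸ N) = π g from rfl, ← himg]
  have hle : (centralizer ({g ^ (m * c)} : Set G)).map π ≤
      centralizer ({π (g ^ (m * c))} : Set (G ⧸ N)) := by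
    rintro _ ⟨x, hx, rfl⟩
    rw [mem_centralizer_singleton_iff, ← map_mul, ← map_mul,
      mem_centralizer_singleton_iff.mp hx]
  exact dvd_trans (index_dvd_of_le hle) (index_map_dvd _ (QuotientGroup.mk'_surjective N))

/-- The decisive step: a normal subgroup `M` of order prime to `p` or to `q`. -/
theorem step {p q : ℕ} [Fact p.Prime] [Fact q.Prime] (hpq : p ≠ q)
    (h : ∀ y : G, (∃ k : ℕ, orderOf y = q ^ k) → ¬ p ∣ (centralizer ({y} : Set G)).index)
    (M : Subgroup G) [M.Normal] (hM : ¬ p ∣ Nat.card M ∨ ¬ q ∣ Nat.card M)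
    (P : Sylow p G) (Q : Sylow q G)
    (hPQ : ((P : Subgroup G)).map (QuotientGroup.mk' M) ≤
      normalizer (((Q : Subgroup G).map (QuotientGroup.mk' M) : Subgroup (G ⧸ M)) : Set (G ⧸ M))) :
    ∃ (P : Sylow p G) (Q : Sylow q G), (P : Subgroup G) ≤ normalizer ((Q : Subgroup G) : Set G) := by
  classical
  have hp := (Fact.out : p.Prime)
  -- the number of M-conjugates of Q is prime to p
  have hnum : ¬ p ∣ (M ⊓ normalizer ((Q : Subgroup G) : Set G)).relIndex M := by
    rcases hM with hM | hM
    · exact fun hd => hM (hd.trans ((M ⊓ normalizer ((Q : Subgroup G) : Set G)).relIndex_dvd_card M))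
    · -- a Q-invariant Sylow p-subgroup of M centralised by Q
      have hcop : Nat.Coprime (Nat.card (Q : Subgroup G)) (Nat.card M) := by
        obtain ⟨n, hn⟩ := Q.2.exists_card_eq
        rw [hn]
        exact Nat.Coprime.pow_left n ((Fact.out : q.Prime).coprime_iff_not_dvd.mpr hM)
      have hQM : (Q : Subgroup G) ≤ normalizer (M : Set G) := normalizer_eq_top (H := M) ▸ le_top
      obtain ⟨R, hR⟩ := Coprime.exists_invariant_sylow hQM hcop
        (Or.inl (by have := Q.2.isNilpotent; infer_instance)) p
      set R' := (R : Subgroup M).map M.subtype with hR'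
      have hRC : R' ≤ M ⊓ normalizer ((Q : Subgroup G) : Set G) := by
        refine le_inf (map_subtype_le _) ?_
        suffices R' ≤ centralizer ((Q : Subgroup G) : Set G) from
          this.trans (centralizer_le_normalizer _)
        intro r hr
        rw [mem_centralizer_iff]
        intro y hy
        -- `y` centralises some Sylow of `M`
        obtain ⟨j, hj⟩ := IsPGroup.iff_orderOf.mp Q.2 ⟨y, hy⟩
        have hy' : ∃ k : ℕ, orderOf y = q ^ k := ⟨j, by simpa [Subgroup.orderOf_mk] using hj⟩
        obtain ⟨S, hS⟩ := Sylow.exists_comap_subtype_eq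
          (default : Sylow p (centralizer ({y} : Set G)))
        obtain ⟨T⟩ : Nonempty (Sylow p G) := inferInstance
        set C := centralizer ({y} : Set G)
        set S0 : Sylow p C := default
        have hcardS : Nat.card (S0 : Subgroup C) = Nat.card (T : Subgroup G) := by
          rw [Sylow.card_eq_multiplicity, Sylow.card_eq_multiplicity]
          have h1 := C.card_mul_index
          rw [← h1, Nat.factorization_mul Nat.card_pos.ne' index_ne_zero_of_finite, Finsupp.add_apply,
            Nat.factorization_eq_zero_of_not_dvd (h y hy'), add_zero]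
        have hSle : (S : Subgroup G) ≤ C := by
          have he : (S : Subgroup G) = (S0 : Subgroup C).map C.subtype := by
            refine (eq_of_le_of_card_ge ?_ ?_).symm
            · rw [← hS]; exact map_comap_le _ _
            · rw [card_map_of_injective C.subtype_injective, hcardS, Sylow.card_eq_multiplicity,
                Sylow.card_eq_multiplicity]
          rw [he]; exact map_subtype_le _
        -- the intersection with `M` is Sylow in `M`
        have hSM : ¬ p ∣ ((S : Subgroup G).subgroupOf M).index := by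
          intro hd
          have h1 : (S : Subgroup G).relIndex M ∣ (S : Subgroup G).relIndex ((S : Subgroup G) ⊔ M) := by
            refine dvd_of_eq (Nat.eq_of_mul_eq_mul_left (Nat.mul_pos (Nat.card_pos (α := (S : Subgroup G)))
              (Nat.card_pos (α := ((S : Subgroup G) ⊓ M : Subgroup G)))) ?_)
            have e1 := ((S : Subgroup G).subgroupOf M).card_mul_index
            have e2 := ((S : Subgroup G).subgroupOf ((S : Subgroup G) ⊔ M)).card_mul_index
            rw [Nat.card_congr (subgroupOfEquivOfLe le_sup_left).toEquiv] at e2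
            rw [← Cores.card_map_eq _ M.subtype_injective, subgroupOf_map_subtype] at e1
            have e3 := Cores.card_sup_mul_card_inf (S : Subgroup G) M
            rw [← e2] at e3
            rw [relIndex, relIndex]
            linear_combination (Nat.card (S : Subgroup G)) * e1 - e3
          exact S.not_dvd_index ((hd.trans h1).trans (relIndex_dvd_index_of_le le_sup_left))
        let T0 : Sylow p M := (S.2.comap_subtype (K := M)).toSylow hSM
        set Y := zpowers y
        have hYQ : Y ≤ (Q : Subgroup G) := zpowers_le.mpr hy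
        have hYR : Y ≤ normalizer (R' : Set G) := hYQ.trans hR
        have hYT : Y ≤ normalizer (((T0 : Subgroup M).map M.subtype : Subgroup G) : Set G) := by
          refine zpowers_le.mpr ?_
          have : ((T0 : Subgroup M).map M.subtype : Subgroup G) ≤ C := by
            refine le_trans ?_ hSle
            exact map_comap_le _ _
          refine centralizer_le_normalizer _ ?_
          rw [mem_centralizer_iff]
          intro t ht
          exact mem_centralizer_singleton_iff.mp (this ht)
        obtain ⟨c, hc, hcRT⟩ := Coprime.exists_conj_invariant_sylow (hYQ.trans hQM)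
          (hcop.coprime_dvd_left (card_dvd_of_le hYQ)) (Or.inl inferInstance) p R T0 hYR hYT
        have hcy : y * (c : G) = c * y :=
          mem_centralizer_iff.mp hc y (mem_zpowers y)
        obtain ⟨r0, hr0, rfl⟩ := hr
        have hmem : (MulAut.conj (c : M)) r0 ∈ (T0 : Subgroup M) := by
          rw [← hcRT]
          exact smul_mem_pointwise_smul r0 (MulAut.conj c) _ hr0
        have hcr : ((c : G) * (r0 : G) * (c : G)⁻¹) * y = y * ((c : G) * (r0 : G) * (c : G)⁻¹) :=
          mem_centralizer_singleton_iff.mp (hSle hmem)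
        have hcy' : (c : G)⁻¹ * y * (c : G) = y := by rw [mul_assoc, hcy, inv_mul_cancel_left]
        calc y * M.subtype r0 = (c : G)⁻¹ * (y * ((c : G) * r0 * (c : G)⁻¹)) * c := by
              nth_rewrite 1 [← hcy']
              simp [mul_assoc]
          _ = (c : G)⁻¹ * (((c : G) * r0 * (c : G)⁻¹) * y) * c := by rw [hcr]
          _ = r0 * ((c : G)⁻¹ * y * c) := by group
          _ = M.subtype r0 * y := by rw [hcy']; rfl
      intro hd
      have h1 : (M ⊓ normalizer ((Q : Subgroup G) : Set G)).relIndex M ∣ R'.relIndex M :=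
        relIndex_dvd_of_le_left M hRC
      have h2 : R'.relIndex M = (R : Subgroup M).index := by
        rw [hR', relIndex, subgroupOf, comap_map_eq_self_of_injective M.subtype_injective]
      exact R.not_dvd_index (h2 ▸ hd.trans h1)
  set H := (P : Subgroup G) ⊔ M with hH
  set K := H ⊓ normalizer ((Q : Subgroup G) : Set G) with hK
  have hHMK : H ≤ K ⊔ M := by
    refine sup_le (fun x hx => ?_) le_sup_right
    set π := QuotientGroup.mk' M
    have h1 : (Q : Subgroup G).map (MulAut.conj x).toMonoidHom ≤ (Q : Subgroup G) ⊔ M := by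
      rintro _ ⟨t, ht, rfl⟩
      have h2 := (mem_normalizer_iff.mp (hPQ (mem_map_of_mem π hx)) (π t)).mp (mem_map_of_mem π ht)
      rw [← map_inv, ← map_mul, ← map_mul] at h2
      have h3 : x * t * x⁻¹ ∈ ((Q : Subgroup G).map π).comap π := h2
      rw [comap_map_eq, QuotientGroup.ker_mk'] at h3
      exact h3
    have hle : (Q : Subgroup G) ≤ (Q : Subgroup G) ⊔ M := le_sup_left
    set L := (Q : Subgroup G) ⊔ M
    let Q1 : Sylow q G := x • Q
    have hQ1 : (Q1 : Subgroup G) ≤ L := h1
    obtain ⟨l, hl⟩ := MulAction.exists_smul_eq L (Q.subtype hle) (Q1.subtype hQ1)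
    rw [Sylow.smul_subtype hle] at hl
    have hl' : l • Q = Q1 := Sylow.subtype_injective hl
    have hl2 : (l : G)⁻¹ * x ∈ normalizer ((Q : Subgroup G) : Set G) :=
      Sylow.smul_eq_iff_mem_normalizer.mp
        (by rw [mul_smul, show x • Q = (l : G) • Q from hl'.symm, inv_smul_smul])
    obtain ⟨a, ha, m, hm, ham⟩ := mem_sup_of_normal_right.mp l.2
    have hm' : a * m * a⁻¹ ∈ M := (inferInstance : M.Normal).conj_mem m hm a
    have hk : (a * m * a⁻¹)⁻¹ * x ∈ K := by
      refine ⟨Subgroup.mul_mem _ (Subgroup.inv_mem _ (mem_sup_right hm')) (mem_sup_left hx), ?_⟩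
      rw [← ham] at hl2
      have h4 := Subgroup.mul_mem _ (le_normalizer (H := (Q : Subgroup G)) ha) hl2
      simpa [mul_assoc] using h4
    have h5 := Subgroup.mul_mem _ (mem_sup_right (S := K) hm') (mem_sup_left (T := M) hk)
    rwa [mul_inv_cancel_left] at h5
  have hHeq : K ⊔ M = H := le_antisymm (sup_le inf_le_left le_sup_right) hHMK
  have hKM : K ⊓ M = M ⊓ normalizer ((Q : Subgroup G) : Set G) := by
    rw [hK, inf_right_comm, inf_eq_right.mpr (le_sup_right : M ≤ H)]
  have hcard := Cores.card_sup_mul_card_inf K M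
  rw [hHeq, hKM] at hcard
  have hM' := (M ⊓ normalizer ((Q : Subgroup G) : Set G)).subgroupOf M |>.card_mul_index
  rw [Nat.card_congr (subgroupOfEquivOfLe inf_le_left).toEquiv] at hM'
  have hHK : Nat.card H = Nat.card K * (M ⊓ normalizer ((Q : Subgroup G) : Set G)).relIndex M := by
    refine Nat.eq_of_mul_eq_mul_right
      (Nat.card_pos (α := (M ⊓ normalizer ((Q : Subgroup G) : Set G) : Subgroup G))) ?_
    rw [hcard, ← hM', relIndex]; ring
  obtain ⟨R⟩ : Nonempty (Sylow p K) := inferInstance
  let P' := (R : Subgroup K).map K.subtype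
  have hPcard : Nat.card P' = p ^ (Nat.card G).factorization p := by
    rw [card_map_of_injective K.subtype_injective, Sylow.card_eq_multiplicity]
    congr 1
    have h1 : (Nat.card H).factorization p = (Nat.card K).factorization p := by
      rw [hHK, relIndex]
      rw [relIndex] at hnum
      rw [Nat.factorization_mul Nat.card_pos.ne'
          (index_ne_zero_of_finite (H := (M ⊓ normalizer ((Q : Subgroup G) : Set G)).subgroupOf M)),
        Finsupp.add_apply, Nat.factorization_eq_zero_of_not_dvd hnum, add_zero]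
    rw [← h1]
    refine le_antisymm ?_ ?_
    · exact (Nat.factorization_le_iff_dvd Nat.card_pos.ne' Nat.card_pos.ne').mpr
        (card_subgroup_dvd_card H) p
    · have h2 : Nat.card (P : Subgroup G) ∣ Nat.card H := card_dvd_of_le le_sup_left
      rw [Sylow.card_eq_multiplicity, hp.pow_dvd_iff_le_factorization Nat.card_pos.ne'] at h2
      exact h2
  refine ⟨Sylow.ofCard P' hPcard, Q, ?_⟩
  rw [Sylow.coe_ofCard]
  exact (map_subtype_le _).trans inf_le_right

theorem aux (p q : ℕ) [Fact p.Prime] [Fact q.Prime] (hpq : p ≠ q) : ∀ n : ℕ, ∀ (G : Type u)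
    [Group G] [Finite G], Nat.card G = n → (IsPSolvable p G ∨ IsPSolvable q G) →
    (∀ y : G, (∃ k : ℕ, orderOf y = q ^ k) → ¬ p ∣ (centralizer ({y} : Set G)).index) →
    ∃ (P : Sylow p G) (Q : Sylow q G), (P : Subgroup G) ≤ normalizer ((Q : Subgroup G) : Set G) := by
  intro n
  induction n using Nat.strong_induction_on with
  | _ n ih =>
  intro G _ _ hn hs h
  by_cases htriv : (⊤ : Subgroup G) = ⊥
  · refine ⟨default, default, fun x _ => ?_⟩
    rw [show x = 1 from mem_bot.mp (htriv ▸ mem_top x)]
    exact one_mem _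
  obtain ⟨M, ⟨hMn, hM⟩, hmin⟩ := Set.Finite.exists_minimalFor id
    {M : Subgroup G | M.Normal ∧ M ≠ ⊥} (Set.toFinite _) ⟨⊤, inferInstance, htriv⟩
  have hmin' : ∀ K : Subgroup G, K.Normal → K ≤ M → K = ⊥ ∨ K = M := fun K hK hKM => by
    by_cases hb : K = ⊥
    · exact Or.inl hb
    · exact Or.inr (le_antisymm hKM (hmin ⟨hK, hb⟩ hKM))
  have hlt : Nat.card (G ⧸ M) < n := by
    rw [← hn, ← index_eq_card, ← M.card_mul_index]
    have : 1 < Nat.card M := by
      by_contra h1
      exact hM (card_eq_one.mp (le_antisymm (not_lt.mp h1) Nat.card_pos))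
    exact lt_mul_left (Nat.pos_of_ne_zero index_ne_zero_of_finite) this
  have hs' : IsPSolvable p (G ⧸ M) ∨ IsPSolvable q (G ⧸ M) :=
    hs.imp (fun h => Cores.isPSolvable_quotient h M) (fun h => Cores.isPSolvable_quotient h M)
  obtain ⟨P1, Q1, hPQ⟩ := ih _ hlt (G ⧸ M) rfl hs' (quotient_hyp M h)
  obtain ⟨P, hP⟩ := Sylow.mapSurjective_surjective (f := QuotientGroup.mk' M)
    (QuotientGroup.mk'_surjective M) p P1
  obtain ⟨Q, hQ⟩ := Sylow.mapSurjective_surjective (f := QuotientGroup.mk' M)
    (QuotientGroup.mk'_surjective M) q Q1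
  refine step hpq h M ?_ P Q (by rw [← hP, ← hQ] at hPQ; exact hPQ)
  have hcop : ∀ {r s : ℕ}, r.Prime → s.Prime → r ≠ s → IsPGroup r M → ¬ s ∣ Nat.card M := by
    intro r s hr hs hne hg hd
    have := Fact.mk hr
    obtain ⟨a, ha⟩ := hg.exists_card_eq
    rw [ha] at hd
    exact hne ((Nat.prime_dvd_prime_iff_eq hs hr).mp (hs.dvd_of_dvd_pow hd)).symm
  rcases hs with hs | hs
  · rcases Cores.isPGroup_or_coprime_of_minimal_normal hs M hM hmin' with h1 | h1
    · exact Or.inr (hcop Fact.out Fact.out hpq h1)
    · exact Or.inl ((Fact.out : p.Prime).coprime_iff_not_dvd.mp h1.symm)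
  · rcases Cores.isPGroup_or_coprime_of_minimal_normal hs M hM hmin' with h1 | h1
    · exact Or.inl (hcop Fact.out Fact.out hpq.symm h1)
    · exact Or.inr ((Fact.out : q.Prime).coprime_iff_not_dvd.mp h1.symm)

/-- Let p and q be primes and G a finite group that is p-solvable or q-solvable, in which no q-element has conjugacy class size divisible by p. Then some Sylow p-subgroup of G normalizes some Sylow q-subgroup of G. -/
theorem result {G : Type*} [Group G] [Finite G] (p q : ℕ) [Fact p.Prime] [Fact q.Prime] (hsolv : Cfsg.IsPSolvable p G ∨ Cfsg.IsPSolvable q G)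
    (h : ∀ y : G, (∃ k : ℕ, orderOf y = q ^ k) → ¬ p ∣ (Subgroup.centralizer ({y} : Set G)).index) :
    ∃ (P : Sylow p G) (Q : Sylow q G), (P : Subgroup G) ≤ Subgroup.normalizer ((Q : Subgroup G) : Set G) := by
  by_cases hpq : p = q
  · subst hpq
    exact ⟨default, default, le_normalizer⟩
  · exact aux p q hpq _ G rfl hsolv h

end Cfsg.Agent.S4601
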