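import Cfsg.Statements.S4604
import Cfsg.Agent.H82.PrincipalBlock
import Cfsg.Agent.BlockBasic.Orth
import Cfsg.Agent.CharInduce.Induce

set_option autoImplicit false
open Cfsg

namespace Cfsg.Agent.S4604

open Cfsg.Agent Cfsg.Agent.BlockBasic

theorem sum_pow_prime_pow {R : Type*} [CommRing R] {p : ℕ} (hp : p.Prime) (n : ℕ) {ι : Type*}
    (s : Finset ι) (f : ι → R) :
    ∃ r, (∑ i ∈ s, f i) ^ p ^ n = ∑ i ∈ s, f i ^ p ^ n + (p : R) * r := by
  classical
  induction s using Finset.induction with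
  | empty => exact ⟨0, by simp [zero_pow (pow_ne_zero n hp.ne_zero)]⟩
  | insert a s ha ih =>
    obtain ⟨r, hr⟩ := ih
    obtain ⟨r', hr'⟩ := exists_add_pow_prime_pow_eq hp (f a) (∑ i ∈ s, f i) n
    rw [Finset.sum_insert ha, Finset.sum_insert ha, hr', hr]
    exact ⟨r + f a * (∑ i ∈ s, f i) * r', by ring⟩

/-- `χ(x) ^ p^n ≡ χ(x ^ p^n)` modulo `p` in the algebraic integers. -/
theorem char_pow_congr {G : Type*} [Group G] [Finite G] {p : ℕ} (hp : p.Prime)
    (χ : Cfsg.IrrCharacter G) (g : G) (n : ℕ) :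
    ∃ γ : Cfsg.AlgInt, (χ : G → ℂ) g ^ p ^ n - (χ : G → ℂ) (g ^ p ^ n) = (p : ℂ) * (γ : ℂ) := by
  obtain ⟨d, ρ, hρ, hρχ⟩ := χ.2
  obtain ⟨b, μ, hb, hμ, hsum⟩ := CharBasic.exists_eigenbasis_rep ρ g
  have hpow : ∀ k i, ρ (g ^ k) (b i) = μ i ^ k • b i := by
    intro k i
    induction k with
    | zero => simp
    | succ k ih =>
      rw [pow_succ, map_mul, Module.End.mul_apply, hb, map_smul, ih, smul_smul, pow_succ']
  have h2 : ρ.character (g ^ p ^ n) = ∑ i, μ i ^ p ^ n :=
    CharBasic.trace_eq_sum_of_eigenbasis b _ _ (hpow (p ^ n))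
  let ν : _ → Cfsg.AlgInt := fun i =>
    ⟨μ i, IsIntegral.of_pow (orderOf_pos g) (by rw [hμ i]; exact isIntegral_one)⟩
  obtain ⟨r, hr⟩ := sum_pow_prime_pow hp n Finset.univ ν
  refine ⟨r, ?_⟩
  rw [← hρχ, hsum, h2]
  have := congrArg (fun z : Cfsg.AlgInt => (z : ℂ)) hr
  push_cast [ν] at this
  rw [this]
  ring

theorem pow_eq_pow_of_pPart {G : Type*} [Group G] [Finite G] {p : ℕ} [Fact p.Prime] {x x' : G}
    (hk : ∃ k : ℕ, orderOf (x * x'⁻¹) = p ^ k) (hc : Commute (x * x'⁻¹) x') :
    x ^ p ^ (Nat.card G).factorization p = x' ^ p ^ (Nat.card G).factorization p := by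
  obtain ⟨k, hk⟩ := hk
  have hp := (Fact.out : p.Prime)
  have hdvd : p ^ k ∣ Nat.card G := hk ▸ orderOf_dvd_natCard _
  have hle := (hp.pow_dvd_iff_le_factorization Nat.card_pos.ne').mp hdvd
  conv_lhs => rw [show x = (x * x'⁻¹) * x' by group]
  rw [hc.mul_pow, orderOf_dvd_iff_pow_eq_one.mp (hk ▸ pow_dvd_pow p hle), one_mul]

theorem pow_prime_pow_totient {G : Type*} [Group G] {p : ℕ} (hp : p.Prime) {z : G}
    (hz : ¬ p ∣ orderOf z) (t : ℕ) : z ^ p ^ (Nat.totient (orderOf z) * t) = z := by
  have hco : Nat.Coprime p (orderOf z) := hp.coprime_iff_not_dvd.mpr hz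
  conv_rhs => rw [← pow_one z]
  rw [pow_eq_pow_iff_modEq, pow_mul]
  simpa using (Nat.ModEq.pow_totient hco).pow t

/-- Non-conjugate `p`-regular elements are separated modulo `p`. -/
theorem exists_not_congr {G : Type*} [Group G] [Finite G] (p : ℕ) [Fact p.Prime] {u v : G}
    (hu : ¬ p ∣ orderOf u) (hv : ¬ p ∣ orderOf v) (huv : ¬ IsConj u v) :
    ∃ χ : Cfsg.IrrCharacter G, ∀ γ : Cfsg.AlgInt,
      (χ : G → ℂ) u - (χ : G → ℂ) v ≠ (p : ℂ) * (γ : ℂ) := by
  classical
  have hp := (Fact.out : p.Prime)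
  by_contra hcon
  simp only [not_exists, not_forall, not_not] at hcon
  choose γ hγ using hcon
  obtain ⟨M, hM⟩ := exists_isPModular hp
  cases nonempty_fintype G
  set C := Subgroup.centralizer ({u} : Set G)
  let S : Sylow p C := default
  set P := (S : Subgroup C).map C.subtype
  have hPc : ∀ π ∈ P, π * u = u * π := by
    rintro _ ⟨q, -, rfl⟩
    exact Subgroup.mem_centralizer_singleton_iff.mp q.2
  have hPp : IsPGroup p P := S.isPGroup'.map _
  set H := Subgroup.zpowers u ⊔ P
  have huH : u ∈ H := Subgroup.mem_sup_left (Subgroup.mem_zpowers u)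
  have hPH : P ≤ H := le_sup_right
  cases nonempty_fintype H
  cases nonempty_fintype P
  have hcentral : ∀ h : H, (h : G) * u = u * h := by
    have hle : H ≤ Subgroup.centralizer ({u} : Set G) := sup_le
      (Subgroup.zpowers_le.mpr (Subgroup.mem_centralizer_singleton_iff.mpr rfl))
      (fun π hπ => Subgroup.mem_centralizer_singleton_iff.mpr (hPc π hπ))
    exact fun h => Subgroup.mem_centralizer_singleton_iff.mp (hle h.2)
  set uH : H := ⟨u, huH⟩
  -- the coefficients
  have hcoef : ∀ ψ : Cfsg.IrrCharacter H, ∃ c : ℂ, IsIntegral ℤ c ∧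
      (∑ π : P, starRingEnd ℂ ((ψ : H → ℂ) (uH * Subgroup.inclusion hPH π))) =
        (Nat.card P : ℂ) * c := by
    intro ψ
    obtain ⟨m, hm⟩ := H83.sum_subgroup_eq (CharBasic.IsIrr.isCharacter ψ.2) (P.subgroupOf H)
    have hz : IsCentralElt (MonoidAlgebra.single uH (1 : ℂ)) := isCentralElt_of_comm fun g => by
      rw [MonoidAlgebra.single_mul_single, MonoidAlgebra.single_mul_single,
        show uH * g = g * uH from Subtype.ext (hcentral g).symm]
    set a := omega (ψ : H → ℂ) (MonoidAlgebra.single uH (1 : ℂ))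
    have hmul : ∀ h : H, (ψ : H → ℂ) (uH * h) = a * (ψ : H → ℂ) h := fun h => by
      have := chiLin_central_mul ψ.2 hz (MonoidAlgebra.single h (1 : ℂ))
      rwa [MonoidAlgebra.single_mul_single, chiLin_single, chiLin_single, one_mul, one_mul,
        one_mul] at this
    have ha : IsIntegral ℤ a := by
      have hidx : (Subgroup.centralizer ({uH} : Set H)).index = 1 := by
        rw [Subgroup.index_eq_one, eq_top_iff]
        exact fun h _ => Subgroup.mem_centralizer_singleton_iff.mpr (Subtype.ext (hcentral h))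
      have : a = centralChar (ψ : H → ℂ) uH := by
        simp [a, omega, chiLin_single, centralChar, hidx]
      rw [this]
      exact isIntegral_centralChar ψ.2 _
    refine ⟨starRingEnd ℂ (a * m), ?_, ?_⟩
    · exact (ha.mul ((isIntegral_algebraMap (x := (m : ℤ))).map (Algebra.ofId ℤ ℂ) |> fun h => by
        simpa using h)).map (starRingEnd ℂ).toIntAlgHom
    · simp only [hmul, ← map_sum]
      rw [← Finset.mul_sum, ← map_natCast (starRingEnd ℂ) (Nat.card P), ← map_mul]
      congr 1
      rw [mul_left_comm, ← Nat.card_congr (Subgroup.subgroupOfEquivOfLe hPH).toEquiv, ← hm]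
      exact congrArg (a * ·) (Fintype.sum_equiv (Subgroup.subgroupOfEquivOfLe hPH).symm.toEquiv _ _
        fun π => rfl)
  choose c hc hceq using hcoef
  set f0 : H → ℂ := fun h => ∑ ψ : Cfsg.IrrCharacter H, c ψ * (ψ : H → ℂ) h
  have hf0 : ∀ h : H, (Nat.card P : ℂ) * f0 h =
      (Nat.card H : ℂ) * ∑ π : P, (if IsConj (uH * Subgroup.inclusion hPH π) h then
        (Nat.card (Subgroup.centralizer ({h} : Set H)) : ℂ) / (Nat.card H : ℂ) else 0) := by
    intro h
    calc (Nat.card P : ℂ) * f0 h
        = ∑ ψ : Cfsg.IrrCharacter H, ∑ π : P,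
          (ψ : H → ℂ) h * starRingEnd ℂ ((ψ : H → ℂ) (uH * Subgroup.inclusion hPH π)) := by
          simp only [f0, Finset.mul_sum]
          refine Finset.sum_congr rfl fun ψ _ => ?_
          rw [← Finset.mul_sum, hceq]
          ring
      _ = _ := by
          rw [Finset.sum_comm, Finset.mul_sum]
          refine Finset.sum_congr rfl fun π _ => ?_
          split_ifs with hcj
          · rw [CharBasic.second_orthogonality_isConj hcj.symm,
              mul_div_cancel₀ _ (Nat.cast_ne_zero.mpr Nat.card_pos.ne')]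
          · rw [CharBasic.second_orthogonality_not_isConj (fun e => hcj e.symm), mul_zero]
  -- values of the induced function
  set F : G → ℂ := fun g => ∑ ψ : Cfsg.IrrCharacter H, c ψ * indFun H (ψ : H → ℂ) g
  have hF : ∀ g : G, (Nat.card H : ℂ) * F g = ∑ x : G, extendByZero H f0 (x⁻¹ * g * x) := by
    intro g
    simp only [F, Finset.mul_sum, mul_left_comm (Nat.card H : ℂ), CharInduce.card_mul_indFun]
    rw [Finset.sum_comm]
    refine Finset.sum_congr rfl fun x _ => ?_
    by_cases hx : x⁻¹ * g * x ∈ H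
    · simp only [CharInduce.extendByZero_of_mem _ hx, f0]
    · simp only [CharInduce.extendByZero_of_not_mem _ hx, mul_zero, Finset.sum_const_zero]
  -- regular elements in the coset
  have hreg : ∀ (π : P) (w : H), IsConj (uH * Subgroup.inclusion hPH π) w → ¬ p ∣ orderOf (w : G) →
      π = 1 ∧ (w : G) = u := by
    intro π w hcj hw
    have hord : orderOf (uH * Subgroup.inclusion hPH π) = orderOf w := by
      obtain ⟨d, rfl⟩ := isConj_iff.mp hcj
      exact (MulEquiv.orderOf_eq (MulAut.conj d) _).symm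
    rw [Subgroup.orderOf_coe, ← hord] at hw
    have hcomm : Commute (Subgroup.inclusion hPH π) uH := Subtype.ext (hPc π π.2)
    obtain ⟨k, hk⟩ := IsPGroup.iff_orderOf.mp hPp π
    have hπ : π = 1 := by
      rw [← orderOf_eq_one_iff, hk]
      rcases Nat.eq_zero_or_pos k with rfl | hkpos
      · rfl
      exfalso
      apply hw
      rw [hcomm.symm.orderOf_mul_eq_mul_orderOf_of_coprime]
      · rw [orderOf_injective _ (Subgroup.inclusion_injective hPH), hk]
        exact dvd_mul_of_dvd_right (dvd_pow_self p hkpos.ne') _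
      · rw [orderOf_injective _ (Subgroup.inclusion_injective hPH), hk, ← Subgroup.orderOf_coe]
        exact Nat.Coprime.pow_right k (hp.coprime_iff_not_dvd.mpr hu).symm
    refine ⟨hπ, ?_⟩
    obtain ⟨d, rfl⟩ := isConj_iff.mp hcj
    rw [hπ, map_one, mul_one]
    show (d : G) * u * (d : G)⁻¹ = u
    rw [hcentral d, mul_inv_cancel_right]
  have hval : ∀ w : H, ¬ p ∣ orderOf (w : G) →
      (Nat.card P : ℂ) * f0 w = if (w : G) = u then (Nat.card H : ℂ) else 0 := by
    intro w hw
    rw [hf0]
    split_ifs with hwu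
    · rw [Finset.sum_eq_single (1 : P)]
      · rw [map_one, mul_one, show w = uH from Subtype.ext hwu, if_pos (IsConj.refl _),
          show Subgroup.centralizer ({uH} : Set H) = ⊤ from eq_top_iff.mpr fun h _ =>
            Subgroup.mem_centralizer_singleton_iff.mpr (Subtype.ext (hcentral h)),
          Subgroup.card_top, div_self (Nat.cast_ne_zero.mpr Nat.card_pos.ne'), mul_one]
      · exact fun π _ hπ => if_neg fun h => hπ (hreg π w h hw).1
      · simp
    · rw [Finset.sum_eq_zero fun π _ => if_neg fun h => hwu (hreg π w h hw).2, mul_zero]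
  have hFval : ∀ g : G, ¬ p ∣ orderOf g →
      (Nat.card P : ℂ) * F g = ∑ x : G, (if x⁻¹ * g * x = u then 1 else 0) := by
    intro g hg
    apply mul_left_cancel₀ (Nat.cast_ne_zero.mpr (Nat.card_pos (α := H)).ne' : (Nat.card H : ℂ) ≠ 0)
    rw [mul_left_comm, hF, Finset.mul_sum, Finset.mul_sum]
    refine Finset.sum_congr rfl fun x _ => ?_
    by_cases hx : x⁻¹ * g * x ∈ H
    · rw [CharInduce.extendByZero_of_mem _ hx, hval]
      · simp
      · show ¬ p ∣ orderOf (x⁻¹ * g * x)
        have := MulEquiv.orderOf_eq (MulAut.conj x⁻¹) g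
        simp only [MulAut.conj_apply, inv_inv] at this
        rwa [this]
    · rw [CharInduce.extendByZero_of_not_mem _ hx, mul_zero, if_neg, mul_zero]
      exact fun h => hx (h ▸ huH)
  have hFv : F v = 0 := by
    have h1 := hFval v hv
    rw [Finset.sum_eq_zero fun x _ => if_neg fun h : x⁻¹ * v * x = u =>
      huv (isConj_iff.mpr ⟨x, by rw [← h]; group⟩), mul_eq_zero] at h1
    exact h1.resolve_left (Nat.cast_ne_zero.mpr Nat.card_pos.ne')
  have hFu : F u = ((S : Subgroup C).index : ℂ) := by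
    have h1 := hFval u hu
    rw [Finset.sum_boole, ← Fintype.card_subtype, ← Nat.card_eq_fintype_card,
      show Nat.card {x : G // x⁻¹ * u * x = u} = Nat.card C from
        Nat.card_congr (Equiv.subtypeEquivRight fun x => by
          rw [Subgroup.mem_centralizer_singleton_iff]
          constructor
          · intro h; conv_lhs => rw [← h]
            group
          · intro h; rw [mul_assoc, ← h, inv_mul_cancel_left]),
      ← Subgroup.card_mul_index (S : Subgroup C), Nat.cast_mul] at h1
    rw [show Nat.card P = Nat.card (S : Subgroup C) from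
      Subgroup.card_map_of_injective C.subtype_injective] at h1
    exact mul_left_cancel₀ (Nat.cast_ne_zero.mpr Nat.card_pos.ne') h1
  -- the congruence
  have hint : ∀ (χ : Cfsg.IrrCharacter G) (ψ : Cfsg.IrrCharacter H), MemLocalRing M
      (classInner (indFun H (ψ : H → ℂ)) (χ : G → ℂ)) := fun χ ψ => by
    obtain ⟨m, hm⟩ := CharInduce.classInner_indFun_nat H
      (CharBasic.IsIrr.isCharacter ψ.2) (CharBasic.IsIrr.isCharacter χ.2)
    rw [hm]
    exact memLocalRing_natCast hM m
  have hmem : MemLocalIdeal M (F u - F v) := by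
    simp only [F, ← Finset.sum_sub_distrib, ← mul_sub]
    refine memLocalIdeal_sum hM _ _ fun ψ _ => memLocalIdeal_mul hM
      (memLocalRing_of_isIntegral hM (hc ψ)) ?_
    have hexp := CharBasic.classFunction_expansion
      (CharInduce.isClassFunction_indFun H (ψ : H → ℂ))
    rw [congrFun hexp u, congrFun hexp v, Finset.sum_apply, Finset.sum_apply,
      ← Finset.sum_sub_distrib]
    refine memLocalIdeal_sum hM _ _ fun χ _ => ?_
    rw [Pi.smul_apply, Pi.smul_apply, smul_eq_mul, smul_eq_mul, ← mul_sub, hγ χ]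
    refine memLocalIdeal_mul hM (hint χ ψ) ?_
    rw [mul_comm]
    exact memLocalIdeal_mul hM (memLocalRing_coe hM (γ χ))
      ((memLocalIdeal_natCast_iff hM p).mpr dvd_rfl)
  rw [hFv, sub_zero, hFu, memLocalIdeal_natCast_iff hM] at hmem
  exact S.not_dvd_index hmem

/-- Let G be a finite group, p a prime and p^a the p-part of the order of G. Let x, y ∈ G and let x′, y′ be their p-regular parts: x′ has order prime to p, commutes with x·x′⁻¹, and x·x′⁻¹ has p-power order (likewise for y). Then x′ and y′ are conjugate in G if and only if for every irreducible character χ of G the algebraic integer χ(x)^(p^a) − χ(y)^(p^a) is p times an algebraic integer. -/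
theorem result {G : Type*} [Group G] [Finite G] (p : ℕ) [Fact p.Prime] (x y x' y' : G)
    (hx : (∃ k : ℕ, orderOf (x * x'⁻¹) = p ^ k) ∧ Commute (x * x'⁻¹) x' ∧ ¬ p ∣ orderOf x')
    (hy : (∃ k : ℕ, orderOf (y * y'⁻¹) = p ^ k) ∧ Commute (y * y'⁻¹) y' ∧ ¬ p ∣ orderOf y') :
    IsConj x' y' ↔ ∀ χ : Cfsg.IrrCharacter G, ∃ γ : Cfsg.AlgInt,
      (χ : G → ℂ) x ^ (p ^ (Nat.card G).factorization p) - (χ : G → ℂ) y ^ (p ^ (Nat.card G).factorization p) = (p : ℂ) * (γ : ℂ) := by
  have hp := (Fact.out : p.Prime)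
  set a := (Nat.card G).factorization p
  have hxa := pow_eq_pow_of_pPart hx.1 hx.2.1
  have hya := pow_eq_pow_of_pPart hy.1 hy.2.1
  constructor
  · intro hc χ
    obtain ⟨r, hr⟩ := char_pow_congr hp χ x a
    obtain ⟨s, hs⟩ := char_pow_congr hp χ y a
    refine ⟨r - s, ?_⟩
    have heq : (χ : G → ℂ) (x ^ p ^ a) = (χ : G → ℂ) (y ^ p ^ a) := by
      rw [hxa, hya]
      obtain ⟨d, rfl⟩ := isConj_iff.mp hc
      rw [conj_pow, CharBasic.IsIrr.isClassFunction χ.2]
    push_cast
    linear_combination hr - hs + heq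
  · intro h
    by_contra hcon
    have huv : ¬ IsConj (x' ^ p ^ a) (y' ^ p ^ a) := fun hc => hcon (by
      obtain ⟨d, hd⟩ := isConj_iff.mp hc
      set z := MulAut.conj d x'
      have hz : z ^ p ^ a = y' ^ p ^ a := by
        rw [← hd]; simp [z, conj_pow]
      have hzr : ¬ p ∣ orderOf z := by rw [MulEquiv.orderOf_eq]; exact hx.2.2
      set s1 := Nat.totient (orderOf z)
      set s2 := Nat.totient (orderOf y')
      have hs : 0 < s1 * s2 := Nat.mul_pos (Nat.totient_pos.mpr (orderOf_pos z))
        (Nat.totient_pos.mpr (orderOf_pos y'))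
      set N := s1 * s2 * (a + 1)
      have hle : a ≤ N := le_trans (Nat.le_succ a) (Nat.le_mul_of_pos_left _ hs)
      refine isConj_iff.mpr ⟨d, ?_⟩
      show z = y'
      have h1 : z ^ p ^ N = z := by
        rw [show N = s1 * (s2 * (a + 1)) by simp [N, mul_assoc]]
        exact pow_prime_pow_totient hp hzr _
      have h2 : y' ^ p ^ N = y' := by
        rw [show N = s2 * (s1 * (a + 1)) by simp [N, mul_assoc, mul_left_comm]]
        exact pow_prime_pow_totient hp hy.2.2 _
      rw [← h1, ← h2, show N = a + (N - a) by omega, pow_add, pow_mul, pow_mul, hz])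
    have hx' : ¬ p ∣ orderOf (x' ^ p ^ a) := fun hd => hx.2.2 (hd.trans (orderOf_pow_dvd _))
    have hy' : ¬ p ∣ orderOf (y' ^ p ^ a) := fun hd => hy.2.2 (hd.trans (orderOf_pow_dvd _))
    obtain ⟨χ, hχ⟩ := exists_not_congr p hx' hy' huv
    obtain ⟨γ, hγ⟩ := h χ
    obtain ⟨r, hr⟩ := char_pow_congr hp χ x a
    obtain ⟨s, hs⟩ := char_pow_congr hp χ y a
    apply hχ (γ - r + s)
    rw [← hxa, ← hya]
    push_cast
    linear_combination hγ - hr + hs

end Cfsg.Agent.S4604
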