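import Cfsg.Statements.S4606
import Cfsg.Agent.H80.OneMore
import Cfsg.Agent.H80.OneMoreGroup
import Cfsg.Agent.H80.OneMoreSolvable
import Cfsg.Agent.S4646
import Cfsg.Agent.S4691
import Cfsg.Agent.S4652
import Cfsg.Agent.Cores.ThirdMain

set_option autoImplicit false
open Cfsg
open Cfsg.Agent

namespace Cfsg.Agent.S4606

/-- Let G be a finite group, p a prime, M a maximal ideal of the algebraic integers containing p, and B a p-block of G with defect group D. Suppose the number of irreducible characters in B exceeds the p-regular rank of B (the number of irreducible Brauer characters in B) by exactly one. If B is the principal block, or if G is p-solvable, then D is elementary abelian. -/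
theorem result {G : Type*} [Group G] [Finite G] (p : ℕ) [Fact p.Prime] (M : Ideal Cfsg.AlgInt) (hM : Cfsg.IsPModular p M) (B : Set (Cfsg.IrrCharacter G)) (hB : Cfsg.IsPBlock M B) (D : Subgroup G) (hD : Cfsg.IsDefectGroup p M B D)
    (hk : Nat.card B = Cfsg.blockRank p B + 1) (hB0 : B = Cfsg.principalBlock M G ∨ Cfsg.IsPSolvable p G) :
    Cfsg.IsElementaryAbelian p D := by
  classical
  cases nonempty_fintype G
  have hp := (Fact.out : p.Prime)
  have hk' : Nat.card B ≤ Cfsg.blockRank p B + 1 := hk.le
  have hDp : IsPGroup p D := by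
    obtain ⟨g, -, P, rfl⟩ := hD
    exact H35.sylImage_isPGroup P
  -- exponent p
  have hexp : ∀ a ∈ D, a ^ p = 1 := by
    intro a ha
    by_contra hne
    have ha1 : a ≠ 1 := fun e => hne (by rw [e, one_pow])
    obtain ⟨c, hc⟩ := isConj_iff.1
      ((H80.defect_conj_of_card_le hM hB hk' hD ha ha1).1 (a ^ p) (D.pow_mem ha p) hne)
    have h1 : orderOf (a ^ p) = orderOf a := by rw [← hc, H82.orderOf_conj]
    have h2 : ¬ (orderOf a).Coprime p := by
      obtain ⟨k, hk2⟩ := IsPGroup.iff_orderOf.1 hDp ⟨a, ha⟩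
      rw [Subgroup.orderOf_mk] at hk2
      cases k with
      | zero => rw [pow_zero] at hk2; exact absurd (orderOf_eq_one_iff.1 hk2) ha1
      | succ k =>
        rw [hk2, Nat.coprime_pow_left_iff k.succ_pos, Nat.coprime_self]
        exact hp.ne_one
    rw [orderOf_pow' a hp.ne_zero] at h1
    have h3 : (orderOf a).gcd p = 1 := by
      rcases (Nat.div_eq_self.1 h1) with h | h
      · exact absurd h (orderOf_pos a).ne'
      · exact h
    exact h2 h3
  refine ⟨?_, hexp⟩
  rcases hB0 with rfl | hsol
  swap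
  · exact H80.isMulCommutative_defect_of_isPSolvable hM hsol hB hk' hD
  obtain ⟨S, rfl⟩ := (S4652.result p M hM D).1 hD
  rcases eq_or_ne p 2 with rfl | hp2
  · refine ⟨⟨fun a b => Subtype.ext ?_⟩⟩
    have hsq : ∀ x ∈ (S : Subgroup G), x * x = 1 := fun x hx => by rw [← pow_two]; exact hexp x hx
    show (a : G) * b = b * a
    have h := hsq ((a : G) * b) (S.mul_mem a.2 b.2)
    calc (a : G) * b = ((a : G) * b)⁻¹ := eq_inv_of_mul_eq_one_left h
      _ = b * a := by
        rw [mul_inv_rev, inv_eq_of_mul_eq_one_right (hsq _ a.2),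
          inv_eq_of_mul_eq_one_right (hsq _ b.2)]
  refine H80.isMulCommutative_sylow S hp2
    (fun x hx y hy hx1 hy1 => (H80.defect_conj_of_card_le hM hB hk' hD hx hx1).1 y hy hy1)
    fun x hx hx1 => ?_
  haveI : Fintype ↥(Subgroup.centralizer ({x} : Set G)) := Fintype.ofFinite _
  obtain ⟨k, hxo⟩ := IsPGroup.iff_orderOf.1 S.2 ⟨x, hx⟩
  rw [Subgroup.orderOf_mk] at hxo
  obtain ⟨g, hg, P, hSP⟩ := hD
  have hxg : Commute x g :=
    Subgroup.mem_centralizer_singleton_iff.1 (H35.sylImage_le P (show x ∈ H35.sylImage P by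
      rw [show H35.sylImage P = (S : Subgroup G) from hSP.symm]; exact hx))
  obtain ⟨b, hb⟩ := H80.exists_inducing_block hM hB hg hxo hxg
  have hle := (H80.defect_conj_of_card_le hM hB hk' ⟨g, hg, P, hSP⟩ hx hx1).2 b hb
  have hpos := H83.blockRank_pos hM hb.1
  obtain rfl := (Cores.third_main hM hb).1 rfl
  exact (S4691.result p M hM).2 ((S4646.result p M hM).2 (by omega))

end Cfsg.Agent.S4606
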