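import Cfsg.Statements.S4607
import Cfsg.Agent.H83.RegInner
import Cfsg.Agent.H83.BlockAlgebra
import Cfsg.Agent.H35.Defect

set_option autoImplicit false
open Cfsg

namespace Cfsg.Agent.S4607

open scoped ComplexConjugate

universe u

variable {G : Type u} [Group G] [Fintype G] {p : ℕ} [hp : Fact p.Prime] {M : Ideal Cfsg.AlgInt}

/-- The degree square sum of a block with two characters and `p` odd is twice a square. -/
theorem exists_two_mul_sq_degrees (hM : Cfsg.IsPModular p M) (hp2 : p ≠ 2)
    {B : Set (Cfsg.IrrCharacter G)} (hB : Cfsg.IsPBlock M B) (hk : Nat.card B = 2) :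
    ∃ n : ℕ, (∑ᶠ χ ∈ B, (χ : G → ℂ) 1 * conj ((χ : G → ℂ) 1)) = ((2 * n ^ 2 : ℕ) : ℂ) := by
  classical
  haveI : IsAlgClosed (BlockBasic.Residue hM) := H83.BlockAlgebra.isAlgClosed_residue hM
  have : Module.Finite (BlockBasic.Residue hM) (MonoidAlgebra (BlockBasic.Residue hM) G) :=
    Module.Finite.of_basis (MonoidAlgebra.basis G (BlockBasic.Residue hM))
  have hei := BlockBasic.isIntElt_blockElem hM hB
  set e := BlockBasic.red hM (BlockBasic.blockElem B) with he
  have hee : e * e = e := by rw [he, ← BlockBasic.red_mul hM hei hei, BlockBasic.blockElem_idem]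
  have hc : ∀ x, e * x = x * e := by
    intro x
    induction x using MonoidAlgebra.induction_linear with
    | zero => simp
    | add a b ha hb => rw [mul_add, add_mul, ha, hb]
    | single a r =>
      have hs := BlockBasic.isIntElt_single (M := M) hM a (BlockBasic.locRing hM).one_mem
      rw [show MonoidAlgebra.single a r =
          r • MonoidAlgebra.single a (1 : BlockBasic.Residue hM) by simp,
        mul_smul_comm, smul_mul_assoc, ← H83.BlockAlgebra.red_single hM, he,
        ← BlockBasic.red_mul hM hei hs, ← BlockBasic.red_mul hM hs hei,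
        BlockBasic.isCentralElt_comm (BlockBasic.isCentralElt_blockElem B)]
  have hk1 : ¬ Cfsg.MemLocalIdeal M ((Nat.card B : ℂ) - 1) := by
    rw [hk]
    norm_num
    exact BlockBasic.not_memLocalIdeal_one hM
  let τ : MonoidAlgebra (BlockBasic.Residue hM) G →ₗ[BlockBasic.Residue hM] BlockBasic.Residue hM :=
    { toFun := fun x => x.coeff 1
      map_add' := fun a b => by simp
      map_smul' := fun c a => by simp }
  have hτ : ∀ x y, τ (x * y) = τ (y * x) := by
    intro x y
    show (x * y).coeff 1 = (y * x).coeff 1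
    induction x using MonoidAlgebra.induction_linear with
    | zero => simp
    | add a b ha hb => simp [add_mul, mul_add, ha, hb]
    | single a r => simp [mul_comm r]
  have hnd : ∀ x, (∀ y, τ (x * y) = 0) → x = 0 := by
    intro x hx
    apply MonoidAlgebra.coeff_injective
    ext g
    have h : (x * MonoidAlgebra.single g⁻¹ 1).coeff 1 = 0 := hx _
    simpa using h
  obtain ⟨n, hn⟩ := H83.TwoDim.exists_two_mul_sq e hee hc
    (H83.BlockAlgebra.red_blockElem_ne_zero hM hB)
    (H83.BlockAlgebra.central_idem_eq hM hB)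
    (H83.BlockAlgebra.exists_central_not_scalar hM hB hk1) τ hτ hnd
    (fun φ h1 h2 => H83.BlockAlgebra.trace_forms_dependent hM hB (by omega) φ h1 h2)
  exact ⟨n, by rw [← H83.BlockAlgebra.finrank_block hM hB, ← he, hn]⟩

theorem main (hM : Cfsg.IsPModular p M) {B : Set (Cfsg.IrrCharacter G)} (hB : Cfsg.IsPBlock M B) :
    Nat.card B = 2 ↔ p ^ Cfsg.blockDefect p B = 2 := by
  classical
  obtain ⟨θ, hθ, h0⟩ := H83.exists_height_zero hM hB
  set d := Cfsg.blockDefect p B with hd
  set T := (Finset.univ.filter fun χ : Cfsg.IrrCharacter G => χ ∈ B).erase θ with hT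
  have hθT : θ ∉ T := Finset.notMem_erase _ _
  have hBT : Finset.univ.filter (fun χ : Cfsg.IrrCharacter G => χ ∈ B) = insert θ T := by
    rw [hT, Finset.insert_erase (by simp [hθ])]
  have hcard : Nat.card B = T.card + 1 := by
    rw [← Finset.card_insert_of_notMem hθT, ← hBT, Nat.card_eq_fintype_card, Fintype.card_subtype]
  have hone : ∀ χ ∈ B, (1 : ℤ) ≤ H83.entry p B θ χ ^ 2 := fun χ hχ => by
    have h := H83.not_dvd_entry_of_height_zero hM hB hθ h0 hχ
    have hne : H83.entry p B θ χ ≠ 0 := fun h' => h (h' ▸ dvd_zero _)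
    nlinarith [Int.one_le_abs hne, sq_abs (H83.entry p B θ χ)]
  have hbound : 4 * (T.card : ℤ) ≤ ((p : ℤ) ^ d) ^ 2 := by
    refine le_trans ?_ (H83.four_mul_sum_erase_le hM hB hθ T hθT)
    have h1 := Finset.sum_le_sum (s := T) fun χ hχ =>
      hone χ (by simp [hT] at hχ; exact hχ.2)
    rw [Finset.sum_const, nsmul_eq_mul, mul_one] at h1
    linarith
  constructor
  swap
  · intro hpd
    have hpd' : (p : ℤ) ^ d = 2 := by exact_mod_cast hpd
    have hp2 : p = 2 := by
      have hdvd : p ∣ 2 := hpd ▸ dvd_pow_self p (by rintro h0; simp [h0] at hpd)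
      exact (Nat.prime_dvd_prime_iff_eq hp.out Nat.prime_two).1 hdvd
    rw [hpd'] at hbound
    have hle : T.card ≤ 1 := by omega
    by_contra hne
    have hT0 : T = ∅ := Finset.card_eq_zero.1 (by omega)
    have hsq := H83.sum_entry_sq hM hB hθ
    rw [← Finset.sum_subset (Finset.subset_univ (Finset.univ.filter
        fun χ : Cfsg.IrrCharacter G => χ ∈ B)) (fun χ _ hχ => by
          rw [H83.entry_eq_zero hM hB hθ (by simpa using hχ)]; norm_num),
      hBT, hT0, Finset.sum_insert (Finset.notMem_empty _), Finset.sum_empty, add_zero, ← hd, hpd',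
      sq] at hsq
    have hnd := H83.not_dvd_entry_of_height_zero hM hB hθ h0 hθ
    rw [h0, zero_add, pow_one, hp2] at hnd
    exact hnd ⟨1, by
      have := mul_right_cancel₀ (H83.entry_self_pos hM hB hθ).ne' hsq
      simpa [hp2] using this⟩
  intro hk
  rw [hcard] at hk
  obtain ⟨ψ, hψT⟩ := Finset.card_eq_one.1 (by omega : T.card = 1)
  have hψ : ψ ∈ B := by
    have : ψ ∈ T := by simp [hψT]
    simp [hT] at this
    exact this.2
  have hne : θ ≠ ψ := fun h => hθT (by simp [hψT, h])
  have hd1 : d ≠ 0 := by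
    intro h
    rw [h, pow_zero, one_pow] at hbound
    omega
  have hsum : ∀ {α : Type} [AddCommMonoid α] (f : Cfsg.IrrCharacter G → α), (∀ χ, χ ∉ B → f χ = 0) →
      ∑ χ, f χ = f θ + f ψ := by
    intro α _ f hf
    rw [← Finset.sum_pair hne, show ({θ, ψ} : Finset (Cfsg.IrrCharacter G)) = insert θ T by rw [hψT],
      ← hBT]
    exact (Finset.sum_subset (Finset.subset_univ _) fun χ _ hχ => hf χ (by simpa using hχ)).symm
  set a := H83.entry p B θ θ
  set b := H83.entry p B θ ψ
  set c := H83.entry p B ψ ψ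
  have hba : H83.entry p B ψ θ = b := H83.entry_symm hM hB hψ hθ
  have h11 := H83.sum_entry_mul hM hB hθ hθ
  rw [hsum _ fun χ hχ => by rw [H83.entry_eq_zero hM hB hθ hχ, zero_mul], hba] at h11
  have h12 := H83.sum_entry_mul hM hB hθ hψ
  rw [hsum _ fun χ hχ => by rw [H83.entry_eq_zero hM hB hθ hχ, zero_mul]] at h12
  have hb0 : b ≠ 0 := fun h =>
    H83.not_dvd_entry_of_height_zero hM hB hθ h0 hψ (by show _ ∣ b; rw [h]; exact dvd_zero _)
  have hac : a + c = (p : ℤ) ^ d := mul_left_cancel₀ hb0 (by linarith)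
  have hbb : b * b = a * c := by linear_combination h11 - a * hac
  have ha : ¬ (p : ℤ) ∣ a := by
    have h := H83.not_dvd_entry_of_height_zero hM hB hθ h0 hθ
    rwa [h0, zero_add, pow_one] at h
  have hpd : (p : ℤ) ∣ (p : ℤ) ^ d := dvd_pow_self _ hd1
  rcases eq_or_ne p 2 with hp2 | hp2
  · -- squares of odd numbers
    have hca : ¬ (2 : ℤ) ∣ c := by
      intro h
      apply ha
      rw [show a = (p : ℤ) ^ d - c by linarith]
      exact dvd_sub hpd (by rw [hp2]; exact_mod_cast h)
    have ha2 : a % 2 = 1 := by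
      have : ¬ (2 : ℤ) ∣ a := by rw [hp2] at ha; exact_mod_cast ha
      omega
    have hc2 : c % 2 = 1 := by omega
    have hbo : b % 2 = 1 := by
      have h := congrArg (· % 2) hbb
      rw [Int.mul_emod, Int.mul_emod a, ha2, hc2] at h
      rcases Int.emod_two_eq_zero_or_one b with hb | hb
      · rw [hb] at h; norm_num at h
      · exact hb
    have h4 : (a * c) % 4 = 1 := by
      rw [← hbb, Int.mul_emod]
      have : b % 4 = 1 ∨ b % 4 = 3 := by omega
      rcases this with h | h <;> rw [h] <;> norm_num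
    have h4' : (a + c) % 4 = 2 := by
      have ha4 : a % 4 = 1 ∨ a % 4 = 3 := by omega
      have hc4 : c % 4 = 1 ∨ c % 4 = 3 := by omega
      rw [Int.mul_emod] at h4
      rcases ha4 with h | h <;> rcases hc4 with h' | h' <;> rw [h, h'] at h4 <;> omega
    rw [hac, hp2] at h4'
    rcases lt_or_ge d 2 with hlt | hge
    · rw [hp2, show d = 1 by omega, pow_one]
    · rw [← Nat.sub_add_cancel hge, pow_add] at h4'
      push_cast at h4'
      omega
  · exfalso
    obtain ⟨n, hn⟩ := exists_two_mul_sq_degrees hM hp2 hB (by omega : Nat.card B = 2)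
    set f := Cfsg.charDegree (θ : G → ℂ)
    set g := Cfsg.charDegree (ψ : G → ℂ)
    have hf : (θ : G → ℂ) 1 = (f : ℂ) := BlockBasic.apply_one_eq_charDegree θ
    have hg : (ψ : G → ℂ) 1 = (g : ℂ) := BlockBasic.apply_one_eq_charDegree ψ
    have hS : ((f : ℤ) ^ 2 + (g : ℤ) ^ 2 : ℤ) = 2 * (n : ℤ) ^ 2 := by
      rw [BlockBasic.finsum_mem_eq_sum_ite, hsum _ fun χ hχ => if_neg hχ, if_pos hθ, if_pos hψ, hf,
        hg, Complex.conj_natCast, Complex.conj_natCast] at hn
      have h : ((f * f + g * g : ℕ) : ℂ) = ((2 * n ^ 2 : ℕ) : ℂ) := by push_cast at hn ⊢; exact hn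
      have h' : f * f + g * g = 2 * n ^ 2 := by exact_mod_cast h
      rw [sq, sq]
      exact_mod_cast h'
    have hval := H83.sum_entry_mul_apply hM hB hθ 1
    rw [hsum _ fun χ hχ => by simp [H83.entry_eq_zero hM hB hθ hχ],
      H83.pRegularPart_eq_self _ (by simp [orderOf_one, hp.out.ne_one] : ¬ p ∣ orderOf (1 : G)),
      hf, hg] at hval
    have hfg : a * f + b * g = (p : ℤ) ^ d * f := by exact_mod_cast hval
    have hbg : b * (g : ℤ) = c * f := by linear_combination hfg - (f : ℤ) * hac
    have e1 : a * (2 * (n : ℤ) ^ 2) = (p : ℤ) ^ d * (f : ℤ) ^ 2 := by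
      have : a * (g : ℤ) ^ 2 = c * (f : ℤ) ^ 2 := by
        refine mul_left_cancel₀ (mul_ne_zero hb0 hb0) ?_
        linear_combination a * (b * (g : ℤ) + c * f) * hbg - c * (f : ℤ) ^ 2 * hbb
      rw [← hS, mul_add, this, ← hac]
      ring
    have e2 : c * (2 * (n : ℤ) ^ 2) = (p : ℤ) ^ d * (g : ℤ) ^ 2 := by
      have : c * (f : ℤ) ^ 2 = a * (g : ℤ) ^ 2 := by
        refine mul_left_cancel₀ (mul_ne_zero hb0 hb0) ?_
        linear_combination -a * (b * (g : ℤ) + c * f) * hbg + c * (f : ℤ) ^ 2 * hbb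
      rw [← hS, mul_add, this, ← hac]
      ring
    have hodd : ¬ (2 : ℤ) ∣ (p : ℤ) ^ d := fun h => hp2 <| by
      have h2 : (2 : ℤ) ∣ (p : ℤ) := Int.prime_two.dvd_of_dvd_pow h
      exact ((Nat.prime_dvd_prime_iff_eq Nat.prime_two hp.out).1 (by exact_mod_cast h2)).symm
    have hone' : ¬ (2 : ℤ) ∣ a ∨ ¬ (2 : ℤ) ∣ c := by
      by_contra hcon
      push Not at hcon
      exact hodd (hac ▸ dvd_add hcon.1 hcon.2)
    -- parity of the exponent of two
    have key : ∀ (y : ℤ) (F : ℕ), ¬ (2 : ℤ) ∣ y → 0 < F →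
        y * (2 * (n : ℤ) ^ 2) ≠ (p : ℤ) ^ d * (F : ℤ) ^ 2 := by
      intro y F hy hF h
      have hn0 : n ≠ 0 := by
        rintro rfl
        have : (p : ℤ) ^ d * (F : ℤ) ^ 2 ≠ 0 := mul_ne_zero
          (pow_ne_zero _ (by exact_mod_cast hp.out.ne_zero)) (pow_ne_zero _ (by exact_mod_cast hF.ne'))
        exact this (by rw [← h]; simp)
      have h' := congrArg Int.natAbs h
      simp only [Int.natAbs_mul, Int.natAbs_pow, Int.natAbs_natCast] at h'
      have hy' : ¬ 2 ∣ y.natAbs := fun h2 => hy (Int.natCast_dvd.2 h2)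
      have hy0 : y.natAbs ≠ 0 := fun h2 => hy' (h2 ▸ dvd_zero _)
      have hv := congrArg (fun m => m.factorization 2) h'
      rw [show Int.natAbs 2 = 2 from rfl, Nat.factorization_mul hy0 (by positivity),
        Nat.factorization_mul two_ne_zero (by positivity),
        Nat.factorization_mul (pow_ne_zero _ hp.out.ne_zero) (by positivity),
        Nat.factorization_pow, Nat.factorization_pow, Nat.factorization_pow] at hv
      simp only [Finsupp.add_apply, Finsupp.smul_apply, smul_eq_mul,
        Nat.factorization_eq_zero_of_not_dvd hy', Nat.Prime.factorization_self Nat.prime_two,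
        Nat.factorization_eq_zero_of_not_dvd (fun h2 => hp2
          ((Nat.prime_dvd_prime_iff_eq Nat.prime_two hp.out).1 h2).symm), mul_zero] at hv
      omega
    rcases hone' with h | h
    · exact key a f h (BlockBasic.charDegree_pos θ) e1
    · exact key c g h (BlockBasic.charDegree_pos ψ) e2

/-- Let G be a finite group, p a prime, M a maximal ideal of the algebraic integers containing p, and B a p-block of G with defect group D. Then B contains exactly two irreducible characters if and only if D has order 2. -/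
theorem result {G : Type*} [Group G] [Finite G] (p : ℕ) [Fact p.Prime] (M : Ideal Cfsg.AlgInt) (hM : Cfsg.IsPModular p M) (B : Set (Cfsg.IrrCharacter G)) (hB : Cfsg.IsPBlock M B) (D : Subgroup G) (hD : Cfsg.IsDefectGroup p M B D) : Nat.card B = 2 ↔ Nat.card D = 2 := by
  cases nonempty_fintype G
  rw [H35.card_defectGroup hM hB hD]
  exact main hM hB

end Cfsg.Agent.S4607
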