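import Cfsg.Statements.S4609
import Cfsg.Agent.H35.ThreeBlock.Reduce
import Cfsg.Agent.H35.ThreeBlock.PTwo
import Cfsg.Agent.H43.DefectOneTwo
import Cfsg.Agent.S4733

set_option autoImplicit false
open Cfsg

namespace Cfsg.Agent.S4609
open Cfsg.Agent in
theorem card_height_zero_le {G : Type*} [Group G] [Finite G] (p : ℕ) (B : Set (Cfsg.IrrCharacter G))
    (hB : B.Finite) :
    Nat.card {χ : Cfsg.IrrCharacter G // χ ∈ B ∧ Cfsg.blockHeight p B (χ : G → ℂ) = 0} ≤
      Nat.card B := by
  haveI := hB.to_subtype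
  exact Nat.card_le_card_of_injective (fun χ => (⟨χ.1, χ.2.1⟩ : B)) fun a b h =>
    Subtype.ext (congrArg (fun x : B => (x : Cfsg.IrrCharacter G)) h)

/-- Let G be a finite group, p a prime, M a maximal ideal of the algebraic integers containing p, and B a p-block of G with defect group D containing exactly three irreducible characters. Suppose the number of height-zero characters of B equals the number of height-zero characters of its Brauer correspondent b, the block of N_G(D) with defect group D inducing B (as the Alperin–McKay conjecture predicts). Then D has order 3. -/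
theorem result {G : Type*} [Group G] [Finite G] (p : ℕ) [Fact p.Prime] (M : Ideal Cfsg.AlgInt) (hM : Cfsg.IsPModular p M) (B : Set (Cfsg.IrrCharacter G)) (hB : Cfsg.IsPBlock M B) (D : Subgroup G) (hD : Cfsg.IsDefectGroup p M B D) (hk : Nat.card B = 3)
    (b : Set (Cfsg.IrrCharacter (Subgroup.normalizer (D : Set G)))) (hbB : Cfsg.IsInducedBlock M (Subgroup.normalizer (D : Set G)) b B)
    (hbD : Cfsg.IsDefectGroup p M b (D.subgroupOf (Subgroup.normalizer (D : Set G))))
    (hAM : Nat.card {χ : Cfsg.IrrCharacter G // χ ∈ B ∧ Cfsg.blockHeight p B (χ : G → ℂ) = 0} =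
           Nat.card {ψ : Cfsg.IrrCharacter (Subgroup.normalizer (D : Set G)) // ψ ∈ b ∧ Cfsg.blockHeight p b (ψ : Subgroup.normalizer (D : Set G) → ℂ) = 0}) :
    Nat.card D = 3 := by

  classical
  cases nonempty_fintype G
  have hcard := Cfsg.Agent.H35.card_defectGroup hM hB hD
  have hfin : B.Finite := Set.toFinite B
  have hle := card_height_zero_le p B hfin
  have hd0 : Cfsg.blockDefect p B ≠ 0 := by
    intro h
    have := ((Cfsg.Agent.S4733.result p M hM B hB).2.1.1 h).1
    omega
  rcases eq_or_ne p 2 with rfl | hp2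
  · exfalso
    rcases (show Cfsg.blockDefect 2 B = 1 ∨ 2 ≤ Cfsg.blockDefect 2 B by omega) with h1 | h2
    · obtain ⟨χ₁, χ₂, hne, hmem, -⟩ := Cfsg.Agent.H43.two_of_defect_one hM hB h1
      have hB2 : B = {χ₁, χ₂} := Set.ext fun θ => (hmem θ).trans (by simp)
      rw [hB2, Nat.card_coe_set_eq, Set.ncard_pair hne] at hk
      omega
    · obtain ⟨χ, hχ, h0⟩ := Cfsg.Agent.H83.exists_height_zero hM hB
      haveI : Nonempty {χ : Cfsg.IrrCharacter G //
          χ ∈ B ∧ Cfsg.blockHeight 2 B (χ : G → ℂ) = 0} := ⟨⟨χ, hχ, h0⟩⟩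
      have h4 := Nat.le_of_dvd Nat.card_pos
        (Cfsg.Agent.H35.ThreeBlock.four_dvd_card_height_zero hM hB h2)
      omega
  · haveI : (D.subgroupOf (Subgroup.normalizer (D : Set G))).Normal :=
      Subgroup.normal_in_normalizer
    haveI : Fintype (Subgroup.normalizer (D : Set G)) := Fintype.ofFinite _
    have hDc : Nat.card (D.subgroupOf (Subgroup.normalizer (D : Set G))) = Nat.card D :=
      Nat.card_congr (Subgroup.subgroupOfEquivOfLe Subgroup.le_normalizer).toEquiv
    rw [← hDc]
    refine Cfsg.Agent.H35.ThreeBlock.card_eq_three_of_height_zero hM hbB.1 hbD hp2 ?_ ?_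
    · rw [hDc, hcard]
      exact (Nat.one_lt_pow hd0 (Fact.out : p.Prime).one_lt).ne'
    · rw [← hAM]
      omega

end Cfsg.Agent.S4609
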