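import Cfsg.Statements.S4611
import Cfsg.Agent.H82.PrincipalBlock
import Cfsg.Agent.Cores.Constrained
import Mathlib.GroupTheory.FiniteAbelian.Duality
import Mathlib.Analysis.Complex.Polynomial.Basic

set_option autoImplicit false
open Cfsg

namespace Cfsg.Agent.S4611

/-- Let G be a finite solvable group and π a nonempty set of primes, each dividing the order of G; fix for each p in π a maximal ideal M p of the algebraic integers containing p. Then the only irreducible character lying in the principal p-block for every p in π is the principal character if and only if G is generated by the subgroups O_{p'}(G), p in π (the largest normal subgroups of order prime to p). -/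
theorem result {G : Type*} [Group G] [Finite G] [Group.IsSolvable G] (π : Set ℕ) (hπ : ∀ p ∈ π, p.Prime ∧ p ∣ Nat.card G) (hne : π.Nonempty) (M : ℕ → Ideal Cfsg.AlgInt) (hM : ∀ p ∈ π, Cfsg.IsPModular p (M p)) :
    (∀ χ : Cfsg.IrrCharacter G, (∀ p ∈ π, χ ∈ Cfsg.principalBlock (M p) G) → (χ : G → ℂ) = fun _ => 1) ↔
      ⨆ p ∈ π, Cfsg.pPrimeCore p G = ⊤ := by
  classical
  cases nonempty_fintype G
  set K := ⨆ p ∈ π, Cfsg.pPrimeCore p G with hK
  have hle : ∀ p ∈ π, Cfsg.pPrimeCore p G ≤ K := fun p hp => le_biSup (fun p => Cfsg.pPrimeCore p G) hp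
  constructor
  · intro hall
    by_contra hne
    have hKn : K.Normal := by
      rw [hK]
      exact Subgroup.biSup_normal π (fun p => Cfsg.pPrimeCore p G) (fun p _ => inferInstance)
    -- a nontrivial linear character trivial on `K`
    have hlt : commutator G ⊔ K ≠ ⊤ := by
      intro ht
      have hperf : commutator (G ⧸ K) = ⊤ := by
        rw [commutator_def, ← Subgroup.map_top_of_surjective (QuotientGroup.mk' K)
          (QuotientGroup.mk'_surjective K), ← Subgroup.map_commutator, ← commutator_def,
          Subgroup.map_top_of_surjective _ (QuotientGroup.mk'_surjective K)]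
        rw [← sup_bot_eq ((commutator G).map _), ← QuotientGroup.map_mk'_self K, ← Subgroup.map_sup, ht,
          Subgroup.map_top_of_surjective _ (QuotientGroup.mk'_surjective K)]
      have : Nontrivial (G ⧸ K) := QuotientGroup.nontrivial_iff.mpr hne
      have hsol : Group.IsSolvable (G ⧸ K) :=
        Group.isSolvable_of_surjective (QuotientGroup.mk'_surjective K)
      exact (Group.IsSolvable.commutator_lt_top_of_nontrivial (G := G ⧸ K)).ne hperf
    set S := commutator G ⊔ K
    have hSn : S.Normal := inferInstance
    have hSc : commutator G ≤ S := le_sup_left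
    obtain ⟨x, -, hx⟩ := SetLike.exists_of_lt (lt_top_iff_ne_top.mpr hlt)
    let := Subgroup.Normal.quotient_commutative_iff_commutator_le.mpr hSc
    let : CommGroup (G ⧸ S) := { (inferInstance : Group (G ⧸ S)) with mul_comm := this.is_comm.comm }
    obtain ⟨φ, hφ⟩ := CommGroup.exists_apply_ne_one_of_hasEnoughRootsOfUnity (G ⧸ S) ℂ
      (a := QuotientGroup.mk' S x) (by rwa [ne_eq, QuotientGroup.mk'_apply, QuotientGroup.eq_one_iff])
    let f : G →* ℂ := (Units.coeHom ℂ).comp (φ.comp (QuotientGroup.mk' S))
    let χ : Cfsg.IrrCharacter G := ⟨fun g => f g, H82.isIrrCharacter_hom f⟩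
    have h1 : (χ : G → ℂ) = fun _ => 1 := by
      refine hall χ fun p hp => ?_
      have hfact := Fact.mk (hπ p hp).1
      rw [H82.mem_principalBlock_iff]
      intro g
      set C := Subgroup.centralizer ({g} : Set G) with hC
      have hcc : Cfsg.centralChar (χ : G → ℂ) g = (C.index : ℂ) * f g := by
        simp [Cfsg.centralChar, χ, hC]
      rw [hcc, ← mul_one_sub]
      by_cases hd : p ∣ C.index
      · rw [mul_comm]
        exact BlockBasic.memLocalIdeal_mul (hM p hp)
          (BlockBasic.memLocalRing_of_isIntegral (hM p hp)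
            (isIntegral_one.sub (H83.irr_isIntegral χ.2 g)))
          ((BlockBasic.memLocalIdeal_natCast_iff (hM p hp) _).mpr hd)
      · refine BlockBasic.memLocalIdeal_mul (hM p hp)
          (BlockBasic.memLocalRing_natCast (hM p hp) _) ?_
        rw [← neg_sub]
        refine BlockBasic.memLocalIdeal_neg ?_
        obtain ⟨P, hP⟩ := H82.exists_sylow_le_centralizer (p := p) hd
        set L := Cfsg.pPrimeCore p G
        have hgen : Subgroup.centralizer ((Cfsg.pCore p (G ⧸ L) : Subgroup (G ⧸ L)) : Set (G ⧸ L)) ≤
            Cfsg.pCore p (G ⧸ L) :=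
          Cores.centralizer_pCore_le
            (Cores.isPSolvable_quotient Cores.isPSolvable_of_isSolvable L)
            Cores.pPrimeCore_quotient_pPrimeCore
        have hgU : QuotientGroup.mk' L g ∈ Cfsg.pCore p (G ⧸ L) := by
          refine hgen (Subgroup.mem_centralizer_iff.mpr fun u hu => ?_)
          have h2 := Cores.pCore_le_sylow (P.mapSurjective (QuotientGroup.mk'_surjective L)) hu
          obtain ⟨y, hy, rfl⟩ := h2
          rw [← map_mul, ← map_mul, Subgroup.mem_centralizer_singleton_iff.mp (hP hy)]
        obtain ⟨k, hk⟩ := (Cores.pCore_isPGroup (p := p) (G := G ⧸ L)) ⟨_, hgU⟩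
        have hk' : g ^ p ^ k ∈ S := by
          refine le_sup_right (a := commutator G) (hle p hp ?_)
          rw [← QuotientGroup.eq_one_iff]
          simpa using congrArg Subtype.val hk
        refine H82.memLocalIdeal_sub_one_of_pow_eq_one (hM p hp) (k := k) ?_
        rw [← map_pow]
        have h3 : QuotientGroup.mk' S (g ^ p ^ k) = 1 := (QuotientGroup.eq_one_iff _).mpr hk'
        simp only [f, MonoidHom.coe_comp, Function.comp_apply, h3, map_one]
    apply hφ
    have := congrFun h1 x
    exact Units.ext this
  · intro htop χ hχ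
    have hker : ∀ g : G, (χ : G → ℂ) g = (χ : G → ℂ) 1 := by
      obtain ⟨n, ρ, hρ, hρχ⟩ := χ.2
      intro g
      have hgK : g ∈ K := htop ▸ Subgroup.mem_top g
      suffices K ≤ MonoidHom.ker ρ by
        rw [← hρχ, Representation.char_one]
        exact (CharBasic.character_eq_finrank_iff ρ g).mpr
          (by rw [← Module.End.one_eq_id]; exact this hgK)
      refine iSup₂_le fun p hp l hl => ?_
      have := Fact.mk (hπ p hp).1
      have h1 := H82.apply_eq_of_mem_principalBlock (hM p hp) (hχ p hp) (Cfsg.pPrimeCore p G)
        Cores.not_dvd_card_pPrimeCore hl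
      rw [← hρχ, Representation.char_one] at h1
      rw [MonoidHom.mem_ker, Module.End.one_eq_id]
      exact (CharBasic.character_eq_finrank_iff ρ l).mp h1
    have h2 := CharBasic.classInner_irr_self χ.2
    obtain ⟨hdeg, hpos⟩ := H83.charDegree_eq χ.2
    rw [CharBasic.classInner_def, Finset.sum_congr rfl (g := fun _ => ((Cfsg.charDegree (χ : G → ℂ) : ℂ) ^ 2))
      (fun g _ => by rw [hker g, hdeg, Complex.conj_natCast, sq]), Finset.sum_const, nsmul_eq_mul,
      Finset.card_univ, ← Nat.card_eq_fintype_card, inv_mul_cancel_left₀ (by simp)] at h2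
    have h3 : Cfsg.charDegree (χ : G → ℂ) ^ 2 = 1 := by exact_mod_cast h2
    funext g
    rw [hker g, hdeg, (pow_eq_one_iff.mp h3).resolve_right two_ne_zero, Nat.cast_one]

end Cfsg.Agent.S4611
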