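import Cfsg.Statements.S4620
import Cfsg.Agent.Cores.PCore

set_option autoImplicit false
open scoped Pointwise
open Cfsg

namespace Cfsg.Agent.S4620

open Subgroup Cfsg.Agent

variable {H : Type*} [Group H] [Finite H] {p : ℕ} [Fact p.Prime]

theorem smul_mem_iff {g x : H} {K : Subgroup H} :
    x ∈ MulAut.conj g • K ↔ g⁻¹ * x * g ∈ K := by
  rw [mem_pointwise_smul_iff_inv_smul_mem]
  simp [mul_assoc]

/-- Elementwise trivial intersection property for every Sylow subgroup. -/
theorem ti_all (P : Sylow p H)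
    (hTI : ∀ g : H, g ∉ normalizer ((P : Subgroup H) : Set H) →
      (P : Subgroup H) ⊓ (MulAut.conj g • (P : Subgroup H)) = ⊥)
    (P' : Sylow p H) {g x : H} (hx : x ∈ (P' : Subgroup H)) (hx' : g⁻¹ * x * g ∈ (P' : Subgroup H))
    (hx1 : x ≠ 1) : g ∈ normalizer ((P' : Subgroup H) : Set H) := by
  obtain ⟨h, rfl⟩ := MulAction.exists_smul_eq H P P'
  refine Sylow.smul_eq_iff_mem_normalizer.mp ?_
  have h1 : h⁻¹ * g * h ∈ normalizer ((P : Subgroup H) : Set H) := by
    by_contra hn
    have hb := hTI _ hn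
    have hm : h⁻¹ * x * h ∈ (P : Subgroup H) ⊓ (MulAut.conj (h⁻¹ * g * h) • (P : Subgroup H)) := by
      refine ⟨?_, smul_mem_iff.mpr ?_⟩
      · exact smul_mem_iff.mp hx
      · have := smul_mem_iff.mp hx'
        simpa [mul_assoc] using this
    rw [hb, mem_bot] at hm
    exact hx1 (by
      calc x = h * (h⁻¹ * x * h) * h⁻¹ := by group
        _ = 1 := by rw [hm]; group)
  have := Sylow.smul_eq_iff_mem_normalizer.mpr h1
  calc g • h • P = h • (h⁻¹ * g * h) • P := by rw [smul_smul, smul_smul]; group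
    _ = h • P := by rw [this]

/-- No subnormal subgroup of order divisible by `p` centralises another subgroup of order
divisible by `p`. -/
theorem no_commuting (hOp : pCore p H = ⊥) (P : Sylow p H)
    (hTI : ∀ g : H, g ∉ normalizer ((P : Subgroup H) : Set H) →
      (P : Subgroup H) ⊓ (MulAut.conj g • (P : Subgroup H)) = ⊥)
    (A B : Subgroup H) (hA : p ∣ Nat.card A) (hB : p ∣ Nat.card B) (hsn : B.IsSubnormal)
    (hcomm : ∀ a ∈ A, ∀ b ∈ B, a * b = b * a) : False := by
  classical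
  have hp := (Fact.out : p.Prime)
  obtain ⟨x, hx⟩ := exists_prime_orderOf_dvd_card' (G := A) p hA
  rw [← Subgroup.orderOf_coe] at hx
  have hxp : IsPGroup p (zpowers (x : H)) :=
    IsPGroup.of_card (n := 1) (by rw [Nat.card_zpowers, hx, pow_one])
  obtain ⟨P', hP'⟩ := hxp.exists_le_sylow
  have hxP : (x : H) ∈ (P' : Subgroup H) := hP' (mem_zpowers _)
  have hx1 : (x : H) ≠ 1 := fun h => hp.ne_one (by rw [← hx, h, orderOf_one])
  have hBn : B ≤ normalizer ((P' : Subgroup H) : Set H) := fun b hb => by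
    refine ti_all P hTI P' hxP ?_ hx1
    rw [mul_assoc, hcomm _ x.2 b hb, inv_mul_cancel_left]
    exact hxP
  -- every p-element of B lies in P'
  obtain ⟨y, hy⟩ := exists_prime_orderOf_dvd_card' (G := B) p hB
  rw [← Subgroup.orderOf_coe] at hy
  have hyp : IsPGroup p (zpowers (y : H)) :=
    IsPGroup.of_card (n := 1) (by rw [Nat.card_zpowers, hy, pow_one])
  have hle : zpowers (y : H) ≤ (P' : Subgroup H) := by
    have h1 := hyp.inf_normalizer_sylow P'
    have h3 : zpowers (y : H) ⊓ normalizer ((P' : Subgroup H) : Set H) = zpowers (y : H) :=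
      inf_eq_left.mpr (zpowers_le.mpr (hBn y.2))
    replace h1 := h3.symm.trans h1
    exact inf_eq_left.mp h1.symm
  have hnorm : ((P' : Subgroup H).subgroupOf B).Normal :=
    ⟨fun z hz b => (mem_normalizer_iff.mp (hBn b.2) (z : H)).mp hz⟩
  have h1 : (P' : Subgroup H).subgroupOf B ≤ pCore p B := Cores.le_pCore P'.2.comap_subtype
  have h2 := Cores.map_pCore_le_of_isSubnormal (p := p) hsn
    (mem_map_of_mem B.subtype (h1 (show y ∈ (P' : Subgroup H).subgroupOf B from hle (mem_zpowers _))))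
  rw [hOp, mem_bot] at h2
  apply hp.ne_one
  rw [← hy, show (y : H) = 1 from h2, orderOf_one]

/-- Let H be a finite group with no nontrivial normal p-subgroup and no nontrivial normal subgroup of order prime to p, whose Sylow p-subgroup P is nontrivial and a trivial-intersection set (P meets its conjugates by elements outside N_H(P) trivially). Then H has a unique minimal normal subgroup N; N is non-abelian simple with trivial centralizer in H (so H embeds in Aut(N)), and a Sylow p-subgroup of N is again a nontrivial trivial-intersection set in N. -/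
theorem result {H : Type*} [Group H] [Finite H] (p : ℕ) [Fact p.Prime] (hOp : Cfsg.pCore p H = ⊥) (hOp' : Cfsg.pPrimeCore p H = ⊥) (P : Sylow p H) (hP1 : (P : Subgroup H) ≠ ⊥)
    (hTI : ∀ g : H, g ∉ Subgroup.normalizer ((P : Subgroup H) : Set H) → (P : Subgroup H) ⊓ (MulAut.conj g • (P : Subgroup H)) = ⊥) :
    ∃ N : Subgroup H, N.Normal ∧ N ≠ ⊥ ∧ (∀ K : Subgroup H, K.Normal → K ≠ ⊥ → N ≤ K) ∧
      IsSimpleGroup N ∧ ¬ IsMulCommutative N ∧ Subgroup.centralizer (N : Set H) = ⊥ ∧
      ∀ Q : Sylow p N, (Q : Subgroup N) ≠ ⊥ ∧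
        ∀ n : N, n ∉ Subgroup.normalizer ((Q : Subgroup N) : Set N) → (Q : Subgroup N) ⊓ (MulAut.conj n • (Q : Subgroup N)) = ⊥ := by
  classical
  have hp := (Fact.out : p.Prime)
  have hdiv : ∀ A : Subgroup H, A.IsSubnormal → A ≠ ⊥ → p ∣ Nat.card A := by
    intro A hA hne
    by_contra hd
    exact hne (le_bot_iff.mp (hOp' ▸ Cores.le_pPrimeCore_of_isSubnormal hA
      (hp.coprime_iff_not_dvd.mpr hd).symm))
  have htop : (⊤ : Subgroup H) ≠ ⊥ := fun h => hP1 (le_bot_iff.mp (h ▸ le_top))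
  obtain ⟨N, ⟨hN, hN1⟩, hmin⟩ := Set.Finite.exists_minimalFor id
    {N : Subgroup H | N.Normal ∧ N ≠ ⊥} (Set.toFinite _) ⟨⊤, inferInstance, htop⟩
  have hC : centralizer (N : Set H) = ⊥ := by
    by_contra hne
    exact no_commuting hOp P hTI N (centralizer (N : Set H)) (hdiv N hN.isSubnormal hN1)
      (hdiv _ (Normal.isSubnormal inferInstance) hne) (Normal.isSubnormal inferInstance)
      (fun a ha b hb => mem_centralizer_iff.mp hb a ha)
  have hcomm : ∀ A B : Subgroup H, A ⊓ B = ⊥ → (∀ a ∈ A, ∀ b ∈ B, b * a * b⁻¹ ∈ A) →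
      (∀ a ∈ A, ∀ b ∈ B, a * b * a⁻¹ ∈ B) → ∀ a ∈ A, ∀ b ∈ B, a * b = b * a := by
    intro A B hd h1 h2 a ha b hb
    have : a * b * a⁻¹ * b⁻¹ ∈ A ⊓ B :=
      ⟨by simpa [mul_assoc] using A.mul_mem ha (h1 _ (A.inv_mem ha) b hb),
        B.mul_mem (h2 a ha b hb) (B.inv_mem hb)⟩
    rw [hd, mem_bot, mul_inv_eq_one, mul_inv_eq_iff_eq_mul] at this
    exact this
  have huniq : ∀ K : Subgroup H, K.Normal → K ≠ ⊥ → N ≤ K := by
    intro K hK hK1
    by_contra hle
    have hd : N ⊓ K = ⊥ := by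
      by_contra hne
      exact hle ((hmin ⟨Subgroup.normal_inf_normal N K, hne⟩ inf_le_left).trans inf_le_right)
    refine hK1 (le_bot_iff.mp (hC ▸ fun k hk => mem_centralizer_iff.mpr fun n hn => ?_))
    exact hcomm N K hd (fun a ha b _ => hN.conj_mem a ha b) (fun a _ b hb => hK.conj_mem b hb a)
      n hn k hk
  have hnab : ¬ IsMulCommutative N := fun h => hN1 (le_bot_iff.mp (hC ▸ fun a ha =>
    mem_centralizer_iff.mpr fun b hb => by
      simpa [Subtype.ext_iff] using mul_comm' (⟨b, hb⟩ : N) ⟨a, ha⟩))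
  have hsimple : IsSimpleGroup N := by
    have : Nontrivial N := (nontrivial_iff_ne_bot N).mpr hN1
    refine ⟨fun L hL => ?_⟩
    by_contra hbt
    rw [not_or] at hbt
    obtain ⟨M, ⟨hMn, hM1⟩, hMmin⟩ := Set.Finite.exists_minimalFor id
      {M : Subgroup N | M.Normal ∧ M ≠ ⊥} (Set.toFinite _) ⟨L, hL, hbt.1⟩
    have hMtop : M ≠ ⊤ := fun h => hbt.2 (top_le_iff.mp (h ▸ hMmin ⟨hL, hbt.1⟩ (h ▸ le_top)))
    set A : H → Subgroup H := fun g => MulAut.conj g • M.map N.subtype with hAdef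
    have hAle : ∀ g, A g ≤ N := fun g x hx => by
      have h1 := map_subtype_le M (smul_mem_iff.mp hx)
      simpa [mul_assoc] using hN.conj_mem _ h1 g
    have hAnorm : ∀ g, ∀ n ∈ N, ∀ a ∈ A g, n * a * n⁻¹ ∈ A g := by
      intro g n hn a ha
      rw [smul_mem_iff] at ha ⊢
      obtain ⟨m, hm, hma⟩ := ha
      have hn' : g⁻¹ * n * g ∈ N := by simpa using hN.conj_mem n hn g⁻¹
      refine ⟨⟨_, hn'⟩ * m * ⟨_, hn'⟩⁻¹, hMn.conj_mem m hm _, ?_⟩
      simp only [coe_subtype] at hma ⊢
      simp [hma, mul_assoc]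
    have hAcard : ∀ g, Nat.card (A g) = Nat.card M := fun g => by
      rw [← Nat.card_congr (Subgroup.equivSMul (MulAut.conj g) (M.map N.subtype)).toEquiv,
        card_map_of_injective N.subtype_injective]
    have hA1 : A 1 = M.map N.subtype := by rw [hAdef]; simp
    have hAsn : ∀ g, (A g).IsSubnormal := fun g => by
      refine IsSubnormal.step _ N (hAle g) hN.isSubnormal ?_
      exact ⟨fun a ha n => hAnorm g n n.2 a ha⟩
    have hA0 : ∀ g, A g ≠ ⊥ := fun g h => hM1 (by
      have := hAcard g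
      rw [h, card_bot] at this
      exact card_eq_one.mp this.symm)
    have hmov : ∃ g, A g ≠ A 1 := by
      by_contra hall
      simp only [not_exists, not_not] at hall
      have hnA : (A 1).Normal := ⟨fun a ha g => by
        rw [← hall g, smul_mem_iff]
        rw [hA1] at ha
        simpa [mul_assoc] using ha⟩
      have h1 : N ≤ A 1 := huniq _ hnA (hA0 1)
      have h2 : Nat.card N ≤ Nat.card M := by rw [← hAcard 1]; exact card_le_of_le h1
      exact hMtop (eq_top_of_le_card _ h2)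
    obtain ⟨g, hg⟩ := hmov
    have hd : A g ⊓ A 1 = ⊥ := by
      by_contra hne
      have hKn : ((A g ⊓ A 1).subgroupOf N).Normal :=
        ⟨fun a ha n => ⟨hAnorm g n n.2 a ha.1, hAnorm 1 n n.2 a ha.2⟩⟩
      have hK0 : (A g ⊓ A 1).subgroupOf N ≠ ⊥ := fun h => hne (by
        rw [subgroupOf_eq_bot, disjoint_iff] at h
        rwa [inf_eq_left.mpr (inf_le_left.trans (hAle g))] at h)
      have hKM : (A g ⊓ A 1).subgroupOf N ≤ M := fun a ha => by
        have h1 := ha.2
        rw [hA1] at h1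
        exact (mem_map_iff_mem N.subtype_injective).mp h1
      have hMK := hMmin ⟨hKn, hK0⟩ hKM
      have h1 : A 1 ≤ A g := by
        rw [hA1]
        rintro _ ⟨m, hm, rfl⟩
        exact (hMK hm).1
      exact hg (eq_of_le_of_card_ge h1 (by rw [hAcard, hAcard])).symm
    exact no_commuting hOp P hTI (A g) (A 1) (hdiv _ (hAsn g) (hA0 g)) (hdiv _ (hAsn 1) (hA0 1))
      (hAsn 1) (hcomm _ _ hd (fun a ha b hb => hAnorm g b (hAle 1 hb) a ha)
        (fun a ha b hb => hAnorm 1 a (hAle g ha) b hb))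
  refine ⟨N, hN, hN1, huniq, hsimple, hnab, hC, fun Q => ⟨?_, fun n hn => ?_⟩⟩
  · exact Q.ne_bot_of_dvd_card (hdiv N hN.isSubnormal hN1)
  · obtain ⟨P', hP'⟩ := Sylow.exists_comap_subtype_eq Q
    by_contra hne
    obtain ⟨⟨x, hx, hx'⟩, hxne⟩ := ne_bot_iff_exists_ne_one.mp hne
    replace hx' := mem_pointwise_smul_iff_inv_smul_mem.mp hx'
    simp only [← map_inv, MulAut.smul_def, MulAut.conj_apply, inv_inv] at hx'
    have hx1 : x ≠ 1 := fun h => hxne (Subtype.ext h)
    have hmem : ∀ y : N, y ∈ (Q : Subgroup N) ↔ (y : H) ∈ (P' : Subgroup H) := fun y => by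
      rw [← hP']; rfl
    have hnP : (n : H) ∈ normalizer ((P' : Subgroup H) : Set H) :=
      ti_all P hTI P' ((hmem x).mp hx) (by simpa using (hmem _).mp hx')
        (fun h => hx1 (Subtype.ext h))
    apply hn
    rw [mem_normalizer_iff]
    intro y
    rw [hmem, hmem]
    exact mem_normalizer_iff.mp hnP y

end Cfsg.Agent.S4620
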