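import Cfsg.Statements.S4623
import Mathlib.GroupTheory.SpecificGroups.Alternating
import Mathlib.GroupTheory.Sylow
import Mathlib.GroupTheory.Abelianization.Defs
import Mathlib.NumberTheory.Padics.PadicVal.Basic

set_option autoImplicit false
open Cfsg

namespace Cfsg.Agent.S4623

open Equiv Equiv.Perm

/-- Generated by its elements `x` with `x ^ p = 1`. -/
def TorsionGen {Γ : Type*} [Group Γ] (p : ℕ) (H : Subgroup Γ) : Prop :=
  H ≤ Subgroup.closure {x | x ∈ H ∧ x ^ p = 1}

theorem TorsionGen.map {Γ Δ : Type*} [Group Γ] [Group Δ] {p : ℕ} {H : Subgroup Γ}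
    (h : TorsionGen p H) (f : Γ →* Δ) : TorsionGen p (H.map f) := by
  refine (Subgroup.map_mono h).trans ?_
  rw [MonoidHom.map_closure, Subgroup.closure_le]
  rintro _ ⟨x, ⟨hx, hxp⟩, rfl⟩
  exact Subgroup.subset_closure ⟨Subgroup.mem_map_of_mem f hx, by rw [← map_pow, hxp, map_one]⟩

theorem TorsionGen.pow_mem_commutator {Γ : Type*} [Group Γ] {p : ℕ} {H : Subgroup Γ}
    (h : TorsionGen p H) (x : H) : x ^ p ∈ commutator H := by
  rw [← Abelianization.ker_of, MonoidHom.mem_ker, map_pow]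
  have key : ∀ y ∈ Subgroup.closure {x | x ∈ H ∧ x ^ p = 1}, ∀ hy : y ∈ H,
      (Abelianization.of (⟨y, hy⟩ : H)) ^ p = 1 := by
    intro y hy'
    have hle : Subgroup.closure {x | x ∈ H ∧ x ^ p = 1} ≤ H :=
      (Subgroup.closure_le _).mpr fun z hz => hz.1
    induction hy' using Subgroup.closure_induction with
    | mem y hy =>
      intro hy1
      rw [← map_pow, show (⟨y, hy1⟩ : H) ^ p = 1 from Subtype.ext hy.2, map_one]
    | one => intro _; rw [show (⟨1, _⟩ : H) = 1 from rfl, map_one, one_pow]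
    | mul a b ha hb iha ihb =>
      intro hab
      rw [show (⟨a * b, hab⟩ : H) = ⟨a, hle ha⟩ * ⟨b, hle hb⟩ from rfl, map_mul, mul_pow,
        iha (hle ha), ihb (hle hb), one_mul]
    | inv a ha iha =>
      intro hai
      rw [show (⟨a⁻¹, hai⟩ : H) = (⟨a, hle ha⟩ : H)⁻¹ from rfl, map_inv, inv_pow, iha (hle ha),
        inv_one]
  exact key x (h x.2) x.2

variable (p : ℕ) [Fact p.Prime]

/-- The wreath perm on the blocks. -/
def wr {m : ℕ} (v : Fin m → ZMod p) (σ : Perm (Fin m)) : Perm (Fin m × ZMod p) :=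
  prodCongrLeft (fun _ => σ) * prodCongrRight (fun a => Equiv.addRight (v a))

theorem wr_apply {m : ℕ} (v : Fin m → ZMod p) (σ : Perm (Fin m)) (a : Fin m) (z : ZMod p) :
    wr p v σ (a, z) = (σ a, z + v a) := rfl

theorem wr_mul {m : ℕ} (v w : Fin m → ZMod p) (σ τ : Perm (Fin m)) :
    wr p v σ * wr p w τ = wr p (fun a => w a + v (τ a)) (σ * τ) :=
  Equiv.ext fun ⟨a, z⟩ => by simp [wr_apply, Perm.mul_apply, add_assoc]

theorem wr_injective {m : ℕ} :
    Function.Injective fun x : (Fin m → ZMod p) × Perm (Fin m) => wr p x.1 x.2 := by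
  rintro ⟨v, σ⟩ ⟨w, τ⟩ h
  have h' : ∀ a, (σ a, 0 + v a) = (τ a, 0 + w a) := fun a => congrArg (· (a, (0 : ZMod p))) h
  refine Prod.ext (funext fun a => ?_) (Equiv.ext fun a => ?_)
  · simpa using congrArg Prod.snd (h' a)
  · simpa using congrArg Prod.fst (h' a)

theorem wr_zero_one {m : ℕ} : wr p (0 : Fin m → ZMod p) 1 = 1 :=
  Equiv.ext fun ⟨a, z⟩ => by simp [wr_apply]

theorem sign_eq_one_of_pow {α : Type*} [Fintype α] [DecidableEq α] {p : ℕ} (hp : Odd p) {x : Perm α}
    (hx : x ^ p = 1) : sign x = 1 := by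
  have h : sign x ^ p = 1 := by rw [← map_pow, hx, map_one]
  rcases Int.units_eq_one_or (sign x) with h1 | h1
  · exact h1
  · rw [h1, hp.neg_one_pow] at h
    exact absurd h (by decide)

/-- A Sylow subgroup of the symmetric group generated by torsion, also in the alternating group. -/
theorem exists_sylow_gen (n : ℕ) : ∃ H : Subgroup (Perm (Fin n)),
    Nat.card H = p ^ (n.factorial.factorization p) ∧ TorsionGen p H ∧
      TorsionGen p (H ⊓ alternatingGroup (Fin n)) := by
  induction n using Nat.strong_induction_on with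
  | _ n ih =>
  have hp : p.Prime := Fact.out
  rcases Nat.eq_zero_or_pos n with rfl | hn
  · exact ⟨⊥, by simp, fun x hx => by rw [Subgroup.mem_bot.mp hx]; exact one_mem _,
      fun x hx => by rw [Subgroup.mem_bot.mp hx.1]; exact one_mem _⟩
  set m := n / p with hm
  obtain ⟨H, hcard, hgen, -⟩ := ih m (Nat.div_lt_self hn hp.one_lt)
  let S : Submonoid (Perm (Fin m × ZMod p)) :=
    { carrier := {g | ∃ v, ∃ σ ∈ H, wr p v σ = g}
      one_mem' := ⟨0, 1, H.one_mem, wr_zero_one p⟩
      mul_mem' := by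
        rintro _ _ ⟨v, σ, hσ, rfl⟩ ⟨w, τ, hτ, rfl⟩
        exact ⟨_, _, H.mul_mem hσ hτ, (wr_mul p v w σ τ).symm⟩ }
  let K : Subgroup (Perm (Fin m × ZMod p)) :=
    { S with
      inv_mem' := fun {g} hg => by
        show g⁻¹ ∈ S
        rw [inv_eq_of_mul_eq_one_right (show g * g ^ (orderOf g - 1) = 1 by
          rw [← pow_succ', Nat.sub_add_cancel (orderOf_pos g), pow_orderOf_eq_one])]
        exact pow_mem hg _ }
  have hKcard : Nat.card K = p ^ (m + m.factorial.factorization p) := by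
    let f : (Fin m → ZMod p) × H → K := fun x => ⟨wr p x.1 x.2, x.1, x.2, x.2.2, rfl⟩
    have hf : Function.Bijective f := by
      refine ⟨fun x y h => ?_, fun ⟨g, v, σ, hσ, hg⟩ => ⟨(v, ⟨σ, hσ⟩), Subtype.ext hg⟩⟩
      have := wr_injective p (a₁ := (x.1, (x.2 : Perm (Fin m)))) (a₂ := (y.1, (y.2 : Perm (Fin m)))) (congrArg Subtype.val h)
      simp only [Prod.mk.injEq] at this
      exact Prod.ext this.1 (Subtype.ext this.2)
    rw [← Nat.card_eq_of_bijective f hf, Nat.card_prod, hcard, Nat.card_fun, Nat.card_zmod,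
      Nat.card_fin, pow_add]
  -- the lifts
  have hlift : ∀ σ ∈ H, wr p 0 σ ∈ Subgroup.closure
      {g | g ∈ K ∧ g ^ p = 1 ∧ sign g = 1} := by
    intro σ hσ
    let L : Perm (Fin m) →* Perm (Fin m × ZMod p) :=
      { toFun := fun σ => wr p 0 σ
        map_one' := wr_zero_one p
        map_mul' := fun a b => by rw [wr_mul]; congr 1; funext x; simp }
    have h2 : L σ ∈ (Subgroup.closure {x | x ∈ H ∧ x ^ p = 1}).map L :=
      Subgroup.mem_map_of_mem L (hgen hσ)
    rw [MonoidHom.map_closure] at h2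
    refine Subgroup.closure_mono ?_ h2
    rintro _ ⟨x, ⟨hx, hxp⟩, rfl⟩
    refine ⟨⟨0, x, hx, rfl⟩, by rw [← map_pow, hxp, map_one], ?_⟩
    have hxs : sign x ^ p = 1 := by rw [← map_pow, hxp, map_one]
    show sign (wr p 0 x) = 1
    have h1 : prodCongrRight (fun _ : Fin m => Equiv.addRight (0 : ZMod p)) = 1 :=
      Equiv.ext fun ⟨a, z⟩ => by simp
    show sign (prodCongrLeft (fun _ => x) * prodCongrRight (fun a => Equiv.addRight ((0 : Fin m → ZMod p) a))) = 1
    rw [map_mul, sign_prodCongrLeft, Finset.prod_const, Finset.card_univ, ZMod.card, hxs]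
    simp only [Pi.zero_apply, h1, map_one, mul_one]
  have htr : ∀ v : Fin m → ZMod p, wr p v 1 ^ p = 1 := by
    intro v
    have : ∀ k : ℕ, wr p v 1 ^ k = wr p (fun a => (k : ZMod p) * v a) 1 := by
      intro k
      induction k with
      | zero => simp [← wr_zero_one p, Pi.zero_def]
      | succ k ihk => rw [pow_succ, ihk, wr_mul, mul_one]; congr 1; funext a; simp; ring
    rw [this, ← wr_zero_one p]
    congr 1
    funext a
    simp
  have hsplit : ∀ (v : Fin m → ZMod p) (σ : Perm (Fin m)), wr p v σ = wr p 0 σ * wr p v 1 := by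
    intro v σ
    rw [wr_mul, mul_one]
    congr 1
    funext a
    simp
  -- into `Fin n`
  have hmn : Fintype.card (Fin m × ZMod p) ≤ Fintype.card (Fin n) := by
    simp only [Fintype.card_prod, Fintype.card_fin, ZMod.card]
    exact Nat.div_mul_le_self n p
  obtain ⟨ι⟩ := Function.Embedding.nonempty_of_card_le hmn
  classical
  let E : Perm (Fin m × ZMod p) →* Perm (Fin n) := extendDomainHom (Equiv.ofInjective ι ι.injective)
  have hE : Function.Injective E := extendDomainHom_injective _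
  have hsign : ∀ g, sign (E g) = sign g := fun g => sign_extendDomain g _
  refine ⟨K.map E, ?_, ?_, ?_⟩
  · rw [Subgroup.card_map_of_injective hE, hKcard, Nat.factorization_def _ hp,
      Nat.factorization_def _ hp]
    congr 1
    conv_rhs => rw [← Nat.div_add_mod n p, ← hm, padicValNat_factorial_mul_add m (Nat.mod_lt n hp.pos),
      padicValNat_factorial_mul]
    omega
  · refine TorsionGen.map (fun g hg => ?_) E
    obtain ⟨v, σ, hσ, rfl⟩ := hg
    rw [hsplit]
    have hmono : Subgroup.closure {g : Perm (Fin m × ZMod p) | g ∈ K ∧ g ^ p = 1 ∧ sign g = 1} ≤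
        Subgroup.closure {g | g ∈ K ∧ g ^ p = 1} := Subgroup.closure_mono fun g hg => ⟨hg.1, hg.2.1⟩
    refine Subgroup.mul_mem _ (hmono (hlift σ hσ)) (Subgroup.subset_closure ?_)
    exact (⟨⟨v, 1, H.one_mem, rfl⟩, htr v⟩ : wr p v 1 ∈ {g | g ∈ K ∧ g ^ p = 1})
  · rintro _ ⟨⟨g, hg, rfl⟩, hA⟩
    have hgs : sign g = 1 := hsign g ▸ mem_alternatingGroup.mp hA
    have h2 : g ∈ Subgroup.closure {g | g ∈ K ∧ g ^ p = 1 ∧ sign g = 1} := by
      obtain ⟨v, σ, hσ, rfl⟩ := hg
      have hev : ∀ x ∈ Subgroup.closure {g : Perm (Fin m × ZMod p) | g ∈ K ∧ g ^ p = 1 ∧ sign g = 1},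
          sign x = 1 := fun x hx =>
        ((Subgroup.closure_le (sign.ker)).mpr (fun g hg => hg.2.2) hx : x ∈ sign.ker)
      rw [hsplit] at hgs ⊢
      rw [map_mul, hev _ (hlift σ hσ), one_mul] at hgs
      exact Subgroup.mul_mem _ (hlift σ hσ)
        (Subgroup.subset_closure ⟨⟨v, 1, H.one_mem, rfl⟩, htr v, hgs⟩)
    have h3 := Subgroup.mem_map_of_mem E h2
    rw [MonoidHom.map_closure] at h3
    refine Subgroup.closure_mono ?_ h3
    rintro _ ⟨x, ⟨hx, hxp, hxs⟩, rfl⟩
    exact ⟨⟨Subgroup.mem_map_of_mem E hx, mem_alternatingGroup.mpr ((hsign x).trans hxs)⟩,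
      by rw [← map_pow, hxp, map_one]⟩


/-- For every prime p and every n, a Sylow p-subgroup P of the symmetric group on n letters has P/P' elementary abelian (the p-th power of every element of P lies in the derived subgroup of P), and the same holds for a Sylow p-subgroup of the alternating group on n letters. -/
theorem result (p : ℕ) [Fact p.Prime] (n : ℕ) (P : Sylow p (Equiv.Perm (Fin n))) (Q : Sylow p (alternatingGroup (Fin n))) :
    (∀ x : (P : Subgroup (Equiv.Perm (Fin n))), x ^ p ∈ commutator (P : Subgroup (Equiv.Perm (Fin n)))) ∧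
    (∀ x : (Q : Subgroup (alternatingGroup (Fin n))), x ^ p ∈ commutator (Q : Subgroup (alternatingGroup (Fin n)))) := by
  classical
  obtain ⟨H, hcard, hgen, hgenA⟩ := exists_sylow_gen p n
  have hS : Nat.card H = p ^ (Nat.card (Equiv.Perm (Fin n))).factorization p := by
    rw [hcard, Nat.card_perm, Nat.card_fin]
  let S : Sylow p (Equiv.Perm (Fin n)) := Sylow.ofCard H hS
  refine ⟨fun x => ?_, fun x => ?_⟩
  · obtain ⟨g, hg⟩ := MulAction.exists_smul_eq (Equiv.Perm (Fin n)) S P
    have hP : (P : Subgroup (Equiv.Perm (Fin n))) = H.map (MulAut.conj g).toMonoidHom := by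
      rw [← hg]; rfl
    exact TorsionGen.pow_mem_commutator (by rw [hP]; exact hgen.map _) x
  · let A := alternatingGroup (Fin n)
    obtain ⟨S', hS'⟩ := IsPGroup.exists_le_sylow (Q.2.map A.subtype)
    obtain ⟨g, hg⟩ := MulAction.exists_smul_eq (Equiv.Perm (Fin n)) S S'
    have hQle : (Q : Subgroup A).map A.subtype ≤ (H ⊓ A).map (MulAut.conj g).toMonoidHom := by
      intro y hy
      obtain ⟨z, hz, hzy⟩ : y ∈ H.map (MulAut.conj g).toMonoidHom := by
        have := hS' hy; rwa [← hg] at this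
      obtain ⟨a, -, rfl⟩ := hy
      refine ⟨z, ⟨hz, ?_⟩, hzy⟩
      have ha : Equiv.Perm.sign (A.subtype a) = 1 := Equiv.Perm.mem_alternatingGroup.mp a.2
      rw [← hzy] at ha
      refine Equiv.Perm.mem_alternatingGroup.mpr ?_
      simpa [MulAut.conj_apply, mul_comm, mul_assoc, ← mul_assoc (Equiv.Perm.sign g), Int.units_mul_self] using ha
    have hleA : (H ⊓ A).map (MulAut.conj g).toMonoidHom ≤ A := by
      rintro _ ⟨z, ⟨-, hz⟩, rfl⟩
      refine Equiv.Perm.mem_alternatingGroup.mpr ?_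
      simp [MulAut.conj_apply, Equiv.Perm.mem_alternatingGroup.mp hz]
    have hp2 : IsPGroup p ((H ⊓ A).map (MulAut.conj g).toMonoidHom) :=
      IsPGroup.map (IsPGroup.to_le (IsPGroup.of_card hcard) inf_le_left) _
    have heq : ((H ⊓ A).map (MulAut.conj g).toMonoidHom).subgroupOf A = (Q : Subgroup A) :=
      Q.3 (IsPGroup.of_equiv hp2 (Subgroup.subgroupOfEquivOfLe hleA).symm) (fun a ha =>
        Subgroup.mem_subgroupOf.mpr (hQle (Subgroup.mem_map_of_mem _ ha)))
    refine TorsionGen.pow_mem_commutator ?_ x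
    intro a ha
    have h1 := (hgenA.map (MulAut.conj g).toMonoidHom) (hQle (Subgroup.mem_map_of_mem _ ha))
    have h2 : Subgroup.closure {y | y ∈ (H ⊓ A).map (MulAut.conj g).toMonoidHom ∧ y ^ p = 1} ≤
        (Subgroup.closure {y : A | y ∈ (Q : Subgroup A) ∧ y ^ p = 1}).map A.subtype := by
      rw [Subgroup.closure_le]
      rintro y ⟨hy, hyp⟩
      exact ⟨⟨y, hleA hy⟩, Subgroup.subset_closure ⟨heq ▸ Subgroup.mem_subgroupOf.mpr hy,
        Subtype.ext hyp⟩, rfl⟩
    obtain ⟨b, hb, hba⟩ := h2 h1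
    rwa [show b = a from Subtype.ext hba] at hb

end Cfsg.Agent.S4623
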