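import Cfsg.Statements.S4632
import Cfsg.Agent.H87.OctSylow
import Cfsg.Agent.H87.OrthSqGen
-- import your own Cfsg.Agent.* helpers here

set_option autoImplicit false
open Cfsg

namespace Cfsg.Agent.S4632

/-- Let F be a finite field of odd order and G₂(F) the automorphism group of the split octonion algebra over F (realized on F⁸ with the Zorn vector-matrix multiplication). A Sylow 2-subgroup P of G₂(F) has P/P' elementary abelian: the square of every element of P lies in the derived subgroup of P. -/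
theorem result {F : Type*} [Field F] [Fintype F] (hF : Odd (Fintype.card F)) (P : Sylow 2 (Cfsg.Lie.G2 F)) : ∀ x : (P : Subgroup (Cfsg.Lie.G2 F)), x ^ 2 ∈ commutator (P : Subgroup (Cfsg.Lie.G2 F)) := by
  obtain ⟨S, hS⟩ := Cfsg.Agent.H87.Oct.exists_sylow hF
  intro x
  obtain ⟨g, rfl⟩ := MulAction.exists_smul_eq (Cfsg.Lie.G2 F) S P
  have hx : (x : Cfsg.Lie.G2 F) ∈ (S : Subgroup (Cfsg.Lie.G2 F)).map (MulAut.conj g).toMonoidHom := x.2
  obtain ⟨y, hy, e⟩ := hx
  rw [Cfsg.Agent.H87.OrthSyl.mem_commutator_coe, SubmonoidClass.coe_pow, ← e]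
  have h := Subgroup.mem_map_of_mem (MulAut.conj g).toMonoidHom (hS y hy)
  rw [Subgroup.map_commutator, map_pow] at h
  exact h

end Cfsg.Agent.S4632
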