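import Cfsg.Statements.S4633
import Cfsg.Agent.BlockBasic.StabilizerDefect
import Mathlib.NumberTheory.Basic

set_option autoImplicit false
open Cfsg Cfsg.Agent Cfsg.Agent.BlockBasic Cfsg.Agent.CharBasic

namespace Cfsg.Agent.S4633

/-- Let B be a block of the finite group G relative to a maximal ideal M of the algebraic integers containing the prime p, with a nontrivial cyclic defect group P. Let c be a block of C_G(P) inducing B and T the stabilizer of c in N_G(P) (the elements of N_G(P) conjugating c to itself); T contains C_G(P). Then T/C_G(P) is cyclic of order dividing p − 1, and it acts freely on the non-identity elements of P: an element of T fixing some non-identity element of P under conjugation lies in C_G(P). -/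
theorem result {G : Type*} [Group G] [Finite G] (p : ℕ) [Fact p.Prime] (M : Ideal Cfsg.AlgInt) (hM : Cfsg.IsPModular p M) (B : Set (Cfsg.IrrCharacter G)) (hB : Cfsg.IsPBlock M B) (P : Subgroup G) (hPD : Cfsg.IsDefectGroup p M B P) (hP1 : P ≠ ⊥) (hcyc : IsCyclic P) (c : Set (Cfsg.IrrCharacter (Subgroup.centralizer (P : Set G)))) (hc : Cfsg.IsInducedBlock M (Subgroup.centralizer (P : Set G)) c B) (T : Subgroup G) (hT : ∀ g : G, g ∈ T ↔ (g ∈ Subgroup.normalizer (P : Set G) ∧ Cfsg.StabilizesBlock (Subgroup.centralizer (P : Set G)) c g)) [hn : ((Subgroup.centralizer (P : Set G)).subgroupOf T).Normal] : IsCyclic (T ⧸ (Subgroup.centralizer (P : Set G)).subgroupOf T) ∧ (Subgroup.centralizer (P : Set G)).relIndex T ∣ p - 1 ∧ ∀ g ∈ T, ∀ x ∈ P, x ≠ 1 → g * x * g⁻¹ = x → g ∈ Subgroup.centralizer (P : Set G) := by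
  classical
  cases nonempty_fintype G
  haveI : Fintype (Subgroup.centralizer (P : Set G)) := Fintype.ofFinite _
  have hPp : IsPGroup p P := IsPGroup.of_card (H35.card_defectGroup hM hB hPD)
  obtain ⟨z, hz⟩ := (Subgroup.isCyclic_iff_exists_zpowers_eq_top P).1 hcyc
  have hzP : z ∈ P := hz ▸ Subgroup.mem_zpowers z
  have hPC : P ≤ (Subgroup.centralizer (P : Set G)) := by
    intro x hx
    obtain ⟨i, rfl⟩ := Subgroup.mem_zpowers_iff.1 (hz.ge hx)
    rw [Subgroup.mem_centralizer_iff]
    intro y hy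
    obtain ⟨j, rfl⟩ := Subgroup.mem_zpowers_iff.1 (hz.ge hy)
    exact (Commute.zpow_zpow_self z j i).eq
  have hCN : (Subgroup.centralizer (P : Set G)) ≤ Subgroup.normalizer (P : Set G) := Subgroup.centralizer_le_normalizer _
  have hNH : Subgroup.normalizer (P : Set G) ≤ Subgroup.normalizer ((Subgroup.centralizer (P : Set G)) : Set G) := fun n hn =>
    Subgroup.mem_normalizer_iff.2 fun g => (conj_mem_centralizer_of_normalizer hn g).symm
  have hTN : T ≤ Subgroup.normalizer (P : Set G) := fun g hg => ((hT g).1 hg).1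
  -- conjugate characters are twists
  have hchar : ∀ (n : G) (hn : n ∈ Subgroup.normalizer (P : Set G)) (θ θ' : Cfsg.IrrCharacter (Subgroup.centralizer (P : Set G))),
      Cfsg.IsConjCharOf (Subgroup.centralizer (P : Set G)) n⁻¹ (θ : (Subgroup.centralizer (P : Set G)) → ℂ) (θ' : (Subgroup.centralizer (P : Set G)) → ℂ) ↔ θ' = normTwist θ ⟨n, hNH hn⟩ := by
    intro n hn θ θ'
    constructor
    · intro hrel
      apply Subtype.ext
      funext x
      have hx := (conj_mem_subgroup_of_normalizer (hNH hn) (x : G)).2 x.2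
      rw [normTwist_apply θ ⟨n, hNH hn⟩ x hx]
      exact hrel ⟨_, hx⟩ x (by simp [mul_assoc])
    · rintro rfl h h' he
      have hx := (conj_mem_subgroup_of_normalizer (hNH hn) (h' : G)).2 h'.2
      rw [normTwist_apply θ ⟨n, hNH hn⟩ h' hx]
      exact congrArg _ (Subtype.ext (by simp [he, mul_assoc]))
  have hI : IsInertia P (Subgroup.centralizer (P : Set G)) T c hNH :=
    { le := hTN
      le_sub := fun g hg => by
        rw [← T.inv_mem_iff]
        refine (hT g⁻¹).2 ⟨inv_mem (hCN hg), inv_mem (hNH (hCN hg)), fun θ hθ => ⟨θ, hθ, ?_⟩⟩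
        rw [hchar g (hCN hg), conjTwist_eq_self θ _ hg]
      twist := fun n hn θ hθ => by
        obtain ⟨θ', hθ', hrel⟩ := ((hT n⁻¹).1 (T.inv_mem hn)).2.2 θ hθ
        exact (hchar n (hTN hn) θ θ').1 hrel ▸ hθ'
      mem := fun n hn θ hθ hmem => by
        rw [← T.inv_mem_iff]
        refine (hT n⁻¹).2 ⟨inv_mem hn, inv_mem (hNH hn), fun θ₂ hθ₂ =>
          ⟨normTwist θ₂ ⟨n, hNH hn⟩, ?_, (hchar n hn θ₂ _).2 rfl⟩⟩
        rw [isPBlock_eq_blockOf hM hc.1 hmem]
        exact sameBlock_aut _ (isPBlock_sameBlock hM hc.1 hθ hθ₂) }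
  have hndvd : ¬ p ∣ (Subgroup.centralizer (P : Set G)).relIndex T :=
    not_dvd_relIndex_of_defect hM hPp hPC le_rfl hCN hNH hc.1 hI hc hPD
  -- the order of `P`
  obtain ⟨n, hn'⟩ := IsPGroup.iff_card.1 hPp
  have hzord : orderOf z = p ^ n := by rw [← hn', ← hz, Nat.card_zpowers]
  -- free action
  have hfree : ∀ g ∈ T, ∀ x ∈ P, x ≠ 1 → g * x * g⁻¹ = x → g ∈ (Subgroup.centralizer (P : Set G)) := by
    intro g hg x hx hx1 hgx
    obtain ⟨r, hr⟩ := Subgroup.mem_zpowers_iff.1
      (hz.ge ((Subgroup.mem_normalizer_iff.1 (hTN hg) z).1 hzP))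
    have hconj : ∀ j : ℤ, g * z ^ j * g⁻¹ = z ^ (r * j) := fun j => by
      rw [← conj_zpow, ← hr, ← zpow_mul]
    obtain ⟨i, rfl⟩ := Subgroup.mem_zpowers_iff.1 (hz.ge hx)
    rw [hconj, zpow_eq_zpow_iff_modEq, hzord] at hgx
    have hp' : Prime (p : ℤ) := Nat.prime_iff_prime_int.1 Fact.out
    have hr1 : (p : ℤ) ∣ r - 1 := by
      by_contra hne
      apply hx1
      rw [← orderOf_dvd_iff_zpow_eq_one, hzord]
      have h1 : ((p ^ n : ℕ) : ℤ) ∣ (r - 1) * i := by
        rw [sub_mul, one_mul]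
        exact (Int.modEq_iff_dvd.1 hgx.symm)
      push_cast at h1 ⊢
      exact (((hp'.coprime_iff_not_dvd).2 hne).pow_left).dvd_of_dvd_mul_left h1
    have hpow : ∀ k : ℕ, g ^ k * z * (g ^ k)⁻¹ = z ^ (r ^ k) := by
      intro k
      induction k with
      | zero => simp
      | succ k ih =>
        rw [pow_succ' g, show g * g ^ k * z * (g * g ^ k)⁻¹ = g * (g ^ k * z * (g ^ k)⁻¹) * g⁻¹ by
          group, ih, hconj, ← pow_succ']
    have hpn : g ^ (p ^ n) ∈ (Subgroup.centralizer (P : Set G)) := by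
      rw [Subgroup.mem_centralizer_iff]
      intro y hy
      obtain ⟨j, rfl⟩ := Subgroup.mem_zpowers_iff.1 (hz.ge hy)
      have h1 : g ^ (p ^ n) * z * (g ^ (p ^ n))⁻¹ = z := by
        rw [hpow]
        conv_rhs => rw [← zpow_one z]
        rw [zpow_eq_zpow_iff_modEq, hzord, Int.modEq_comm, Int.modEq_iff_dvd]
        have h2 := dvd_sub_pow_of_dvd_sub (R := ℤ) (a := r) (b := 1) hr1 n
        rw [one_pow] at h2
        push_cast
        exact (pow_dvd_pow _ n.le_succ).trans h2
      exact ((show Commute (g ^ (p ^ n)) z from mul_inv_eq_iff_eq_mul.1 h1).symm.zpow_left j).eq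
    have hidx : g ^ (Subgroup.centralizer (P : Set G)).relIndex T ∈ (Subgroup.centralizer (P : Set G)) := by
      have := Subgroup.pow_index_mem ((Subgroup.centralizer (P : Set G)).subgroupOf T) (⟨g, hg⟩ : T)
      exact Subgroup.mem_subgroupOf.1 this
    have hco : Nat.Coprime (p ^ n) ((Subgroup.centralizer (P : Set G)).relIndex T) :=
      Nat.Coprime.pow_left _ ((Fact.out : p.Prime).coprime_iff_not_dvd.2 hndvd)
    have hbez := Nat.gcd_eq_gcd_ab (p ^ n) ((Subgroup.centralizer (P : Set G)).relIndex T)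
    rw [hco.gcd_eq_one] at hbez
    have : g = (g ^ (p ^ n)) ^ Nat.gcdA (p ^ n) ((Subgroup.centralizer (P : Set G)).relIndex T) *
        (g ^ (Subgroup.centralizer (P : Set G)).relIndex T) ^ Nat.gcdB (p ^ n) ((Subgroup.centralizer (P : Set G)).relIndex T) := by
      rw [← zpow_natCast g, ← zpow_natCast g, ← zpow_mul, ← zpow_mul, ← zpow_add, ← hbez]
      simp
    rw [this]
    exact mul_mem (Subgroup.zpow_mem _ hpn _) (Subgroup.zpow_mem _ hidx _)
  -- the subgroup of order `p`
  have hn0 : n ≠ 0 := fun h => hP1 (Subgroup.card_eq_one.1 (by rw [hn', h, pow_zero]))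
  set u := z ^ (p ^ (n - 1)) with hu
  have huord : orderOf u = p := by
    rw [hu, orderOf_pow' _ (pow_ne_zero _ (Fact.out : p.Prime).ne_zero), hzord,
      Nat.gcd_eq_right (pow_dvd_pow p (n.sub_le 1)), Nat.pow_div (n.sub_le 1) (Fact.out : p.Prime).pos,
      show n - (n - 1) = 1 by omega, pow_one]
  set Z := Subgroup.zpowers u
  have huP : u ∈ P := P.pow_mem hzP _
  have hTZ : T ≤ Subgroup.normalizer (Z : Set G) := by
    intro g hg
    rw [Subgroup.mem_normalizer_iff_conj_image_eq]
    have hle : Z.map (MulAut.conj g).toMonoidHom ≤ Z := by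
      rw [MonoidHom.map_zpowers, Subgroup.zpowers_le]
      obtain ⟨r, hr⟩ := Subgroup.mem_zpowers_iff.1
        (hz.ge ((Subgroup.mem_normalizer_iff.1 (hTN hg) z).1 hzP))
      refine Subgroup.mem_zpowers_iff.2 ⟨r, ?_⟩
      simp only [MulEquiv.coe_toMonoidHom, MulAut.conj_apply, hu]
      rw [← conj_pow, ← hr, ← zpow_natCast z, ← zpow_natCast (z ^ r), ← zpow_mul, ← zpow_mul,
        mul_comm]
    exact congrArg SetLike.coe (Subgroup.eq_of_le_of_card_ge hle
      (by rw [Subgroup.card_map_of_injective (MulAut.conj g).injective]))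
  let φ : T →* MulAut Z := (Subgroup.normalizerMonoidHom Z).comp (Subgroup.inclusion hTZ)
  have hker : φ.ker = (Subgroup.centralizer (P : Set G)).subgroupOf T := by
    ext g
    rw [MonoidHom.mem_ker, Subgroup.mem_subgroupOf]
    constructor
    · intro h
      refine hfree g g.2 u huP (fun e => ?_) ?_
      · rw [e, orderOf_one] at huord
        exact (Fact.out : p.Prime).one_lt.ne huord
      · exact congrArg Subtype.val (DFunLike.congr_fun h (⟨u, Subgroup.mem_zpowers u⟩ : Z))
    · intro h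
      apply MulEquiv.ext
      intro y
      apply Subtype.ext
      show (g : G) * (y : G) * (g : G)⁻¹ = y
      have hyP : (y : G) ∈ P := (Subgroup.zpowers_le.2 huP) y.2
      rw [← Subgroup.mem_centralizer_iff.1 h _ hyP, mul_inv_cancel_right]
  have hcard : Nat.card Z = p := by rw [Nat.card_zpowers, huord]
  haveI : IsCyclic (MulAut Z) := by
    haveI : NeZero (Nat.card Z) := ⟨Nat.card_pos.ne'⟩
    haveI : IsCyclic (ZMod (Nat.card Z))ˣ := by
      rw [hcard]
      infer_instance
    exact isCyclic_of_surjective (IsCyclic.mulAutMulEquiv Z).symm (MulEquiv.surjective _)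
  let e : (T ⧸ (Subgroup.centralizer (P : Set G)).subgroupOf T) ≃* φ.range :=
    (QuotientGroup.quotientMulEquivOfEq hker.symm).trans (QuotientGroup.quotientKerEquivRange φ)
  refine ⟨isCyclic_of_surjective e.symm e.symm.surjective, ?_, hfree⟩
  rw [show (Subgroup.centralizer (P : Set G)).relIndex T = Nat.card φ.range from Nat.card_congr e.toEquiv]
  refine (Subgroup.card_subgroup_dvd_card φ.range).trans ?_
  rw [IsCyclic.card_mulAut, hcard, Nat.totient_prime Fact.out]

end Cfsg.Agent.S4633
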