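import Cfsg.Statements.S4634
import Cfsg.Agent.H82.CycFrobenius

set_option autoImplicit false
open Cfsg

namespace Cfsg.Agent.S4634

/-- Let B be a block of the finite group G relative to a maximal ideal M of the algebraic integers containing the prime p, with a nontrivial cyclic defect group P, let c be a block of C_G(P) inducing B, T the stabilizer of c in N_G(P) and e the index of C_G(P) in T. Let F be any finite group of order #P · e having a cyclic subgroup Q of order #P that is its own centralizer (F is then the semidirect product of Q by a cyclic group of order e acting faithfully). Then there is a perfect isometry from the set of all irreducible characters of F onto B whose signs agree on all the characters of F that do not contain Q in their kernel. -/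
theorem result {G : Type*} [Group G] [Finite G] (p : ℕ) [Fact p.Prime] (M : Ideal Cfsg.AlgInt) (hM : Cfsg.IsPModular p M) (B : Set (Cfsg.IrrCharacter G)) (hB : Cfsg.IsPBlock M B) (P : Subgroup G) (hPD : Cfsg.IsDefectGroup p M B P) (hP1 : P ≠ ⊥) (hcyc : IsCyclic P) (c : Set (Cfsg.IrrCharacter (Subgroup.centralizer (P : Set G)))) (hc : Cfsg.IsInducedBlock M (Subgroup.centralizer (P : Set G)) c B) (T : Subgroup G) (hT : ∀ g : G, g ∈ T ↔ (g ∈ Subgroup.normalizer (P : Set G) ∧ Cfsg.StabilizesBlock (Subgroup.centralizer (P : Set G)) c g)) (e : ℕ) (he : (Subgroup.centralizer (P : Set G)).relIndex T = e) (F : Type*) [Group F] [Finite F] (hF : Nat.card F = Nat.card P * e) (Q : Subgroup F) (hQ : IsCyclic Q) (hQcard : Nat.card Q = Nat.card P) (hQC : Subgroup.centralizer (Q : Set F) = Q) : ∃ (I : Cfsg.IrrCharacter F → Cfsg.IrrCharacter G) (ε : Cfsg.IrrCharacter F → ℤ), Cfsg.IsPerfectIsometry p M (Set.univ : Set (Cfsg.IrrCharacter F)) B I ε ∧ ∀ η η' : Cfsg.IrrCharacter F, (∃ x ∈ Q, (η : F → ℂ) x ≠ (η : F → ℂ) 1)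 → (∃ x ∈ Q, (η' : F → ℂ) x ≠ (η' : F → ℂ) 1) → ε η = ε η' := by
  classical
  cases nonempty_fintype G
  cases nonempty_fintype F
  have hp : p.Prime := Fact.out
  have hPp : IsPGroup p P := by
    obtain ⟨g, -, R, hR⟩ := hPD
    exact hR ▸ R.2.map _
  obtain ⟨a, ha⟩ := IsPGroup.iff_card.1 hPp
  have ha1 : 1 ≤ a := Nat.one_le_iff_ne_zero.2 fun h =>
    hP1 (Subgroup.card_eq_one.1 (by rw [ha, h, pow_zero]))
  obtain ⟨S, hSD, hSb⟩ := H82.Cyc.exists_setup hM hcyc ha1 ha hB hPD hc
  cases nonempty_fintype S.C1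
  have hST : S.T = T := by
    ext g
    rw [S.hT, hT, H82.stabilizesBlock_iff_conjPair hM S.hmax.1.1.2,
      H82.stabilizesBlock_iff_conjPair hM hc.1,
      (Sigma.ext hSD hSb : (⟨S.D, S.b⟩ : BrauerPairIdx G) = ⟨P, c⟩)]
  have hSe : S.e = e := by rw [← S.e_eq, hST, hSD, he]
  have hSa : S.a = a := Nat.pow_right_injective hp.two_le
    (show p ^ S.a = p ^ a by rw [← S.card_D, hSD, ha])
  have hQa : Nat.card Q = p ^ S.a := by rw [hQcard, ha, hSa]
  have hF' : Nat.card F = Nat.card Q * S.e := by rw [hF, hQcard, hSe]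
  -- `Q` is the only Sylow subgroup
  have hidx : Q.index = S.e := by
    have h := Subgroup.card_mul_index Q
    rw [hF'] at h
    exact Nat.eq_of_mul_eq_mul_left Nat.card_pos h
  have hndvd : ¬ p ∣ Q.index := hidx ▸ S.not_dvd_e
  let R : Sylow p F := (IsPGroup.of_card hQa).toSylow hndvd
  have hsub : Subsingleton (Sylow p F) := by
    rw [← Finite.card_le_one_iff_subsingleton]
    have h1 : Nat.card (Sylow p F) ∣ S.e := by
      rw [← hidx]
      exact R.card_dvd_index
    have h2 := card_sylow_modEq_one p F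
    have h3 : Nat.card (Sylow p F) < p := calc
      Nat.card (Sylow p F) ≤ S.e := Nat.le_of_dvd S.e_pos h1
      _ ≤ p - 1 := Nat.le_of_dvd (Nat.sub_pos_of_lt hp.one_lt) S.e_dvd
      _ < p := Nat.sub_lt hp.pos one_pos
    rw [Nat.ModEq, Nat.mod_eq_of_lt h3, Nat.mod_eq_of_lt hp.one_lt] at h2
    exact h2.le
  haveI : Q.Normal := R.normal_of_subsingleton
  exact H82.Cyc.exists_isometry_frobenius hM S hQ hQa hF' hQC

end Cfsg.Agent.S4634
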