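import Cfsg.Statements.S4635
import Cfsg.Agent.H82.CycIsometry
import Cfsg.Agent.H24.PiPairs
import Cfsg.Agent.H82.PairSaturated
import Cfsg.Agent.S4642

set_option autoImplicit false
open Cfsg

namespace Cfsg.Agent.S4635

/-- Let B be a block of the finite group G relative to a maximal ideal M of the algebraic integers containing the prime p, with a nontrivial cyclic defect group P; let Z be the subgroup of order p of P and H = N_G(Z), which contains N_G(P). Let c be the block of H with defect group P that induces B. Then B and c contain the same number of irreducible characters, have the same p-regular rank, and there is a perfect isometry from c onto B. -/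
theorem result {G : Type*} [Group G] [Finite G] (p : ℕ) [Fact p.Prime] (M : Ideal Cfsg.AlgInt) (hM : Cfsg.IsPModular p M) (B : Set (Cfsg.IrrCharacter G)) (hB : Cfsg.IsPBlock M B) (P : Subgroup G) (hPD : Cfsg.IsDefectGroup p M B P) (hP1 : P ≠ ⊥) (hcyc : IsCyclic P) (Z : Subgroup G) (hZ : Z ≤ P) (hZcard : Nat.card Z = p) (H : Subgroup G) (hH : H = Subgroup.normalizer (Z : Set G)) (c : Set (Cfsg.IrrCharacter H)) (hcD : Cfsg.IsDefectGroup p M c (P.subgroupOf H)) (hc : Cfsg.IsInducedBlock M H c B) : Nat.card c = Nat.card B ∧ Cfsg.blockRank p c = Cfsg.blockRank p B ∧ ∃ (I : Cfsg.IrrCharacter H → Cfsg.IrrCharacter G) (ε : Cfsg.IrrCharacter H → ℤ), Cfsg.IsPerfectIsometry p M c B I ε := by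
  classical
  cases nonempty_fintype G
  cases nonempty_fintype H
  -- the subgroups involved
  have hPab : ∀ x ∈ P, ∀ y ∈ P, x * y = y * x := fun x hx y hy =>
    congrArg Subtype.val (IsCyclic.commGroup.mul_comm (⟨x, hx⟩ : P) ⟨y, hy⟩)
  have hPH : P ≤ H := hH ▸ fun x hx => Subgroup.centralizer_le_normalizer _
    (Subgroup.mem_centralizer_iff.mpr fun z hz => hPab z (hZ hz) x hx)
  have hCH : Subgroup.centralizer (P : Set G) ≤ H :=
    hH ▸ (Subgroup.centralizer_le hZ).trans (Subgroup.centralizer_le_normalizer _)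
  have hPp : IsPGroup p P := by
    obtain ⟨g, -, Q, hQ⟩ := hPD
    exact hQ ▸ Q.2.map _
  obtain ⟨a, ha⟩ := IsPGroup.iff_card.1 hPp
  have ha1 : 1 ≤ a := Nat.one_le_iff_ne_zero.2 fun h =>
    hP1 (Subgroup.card_eq_one.1 (by rw [ha, h, pow_zero]))
  -- a common root
  obtain ⟨y, hy, Q, hQ⟩ := id hcD
  have hyC : (y : G) ∈ Subgroup.centralizer (P : Set G) := Subgroup.mem_centralizer_iff.mpr
    fun x hx => by
      have h : (⟨x, hPH hx⟩ : H) ∈ P.subgroupOf H := hx
      rw [hQ] at h
      obtain ⟨q, -, hq⟩ := h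
      have h2 := Subgroup.mem_centralizer_singleton_iff.mp q.2
      rw [show (q : H) = ⟨x, hPH hx⟩ from hq] at h2
      exact congrArg Subtype.val h2
  obtain ⟨b, hPb, hone⟩ := H24.PiKernel.exists_root hM hc hPp hPH hCH hyC hy.2.1
  have hC : Subgroup.centralizer (P : Set G) =
      (Subgroup.centralizer ((P.subgroupOf H : Subgroup H) : Set H)).map H.subtype := by
    have h := H82.centralizer_sup_eq_map (Q := P) hCH hPH (Or.inr le_rfl)
    rwa [sup_idem] at h
  set k := H83.irrComp (H82.localCent hC) '' b with hk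
  have hP'p : IsPGroup p (P.subgroupOf H) := hPp.of_equiv (Subgroup.subgroupOfEquivOfLe hPH).symm
  obtain ⟨ξ, hξ⟩ := BlockBasic.isPBlock_nonempty hM hPb.1.2
  have hkp : IsBrauerPairOf p M c (P.subgroupOf H) k :=
    H82.isBrauerPairOf_of_mem hM hc.1 ⟨hP'p, H82.isPBlock_image_irrComp _ hPb.1.2⟩
      (Set.mem_image_of_mem _ hξ) (by
        rw [H82.brOmega_localCent hC ξ (w := H82.blockUp H c) fun h => by
          rw [H82.coeff_blockUp_of_mem, BlockBasic.coeff_blockElem]]
        exact hone ξ hξ)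
  obtain ⟨χ₀, hχ₀⟩ := BlockBasic.isPBlock_nonempty hM hB
  obtain ⟨θ₀, hθ₀⟩ := BlockBasic.isPBlock_nonempty hM hc.1
  have hindG : IsInducedBlock M (Subgroup.centralizer (P : Set G)) b B :=
    (S4642.isInducedBlock_centralizer_iff hM hPp hB hχ₀).2
      ⟨hPb.1.2, fun ξ hξ => H82.brOmega_blockElem_of_isBrauerPairOf hPb hξ⟩
  have hindH : IsInducedBlock M (Subgroup.centralizer ((P.subgroupOf H : Subgroup H) : Set H)) k c :=
    (S4642.isInducedBlock_centralizer_iff hM hP'p hc.1 hθ₀).2
      ⟨hkp.1.2, fun ξ hξ => H82.brOmega_blockElem_of_isBrauerPairOf hkp hξ⟩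
  have hcyc' : IsCyclic (P.subgroupOf H) :=
    isCyclic_of_surjective (Subgroup.subgroupOfEquivOfLe hPH).symm (MulEquiv.surjective _)
  have ha' : Nat.card (P.subgroupOf H) = p ^ a :=
    (Nat.card_congr (Subgroup.subgroupOfEquivOfLe hPH).toEquiv).trans ha
  -- the local data
  obtain ⟨S, hSD, hSb⟩ := H82.Cyc.exists_setup hM hcyc ha1 ha hB hPD hindG
  obtain ⟨S', hSD', hSb'⟩ := H82.Cyc.exists_setup hM hcyc' ha1 ha' hc.1 hcD hindH
  have hpair : (⟨S.D, S.b⟩ : BrauerPairIdx G) = ⟨P, b⟩ := Sigma.ext hSD hSb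
  have hpair' : (⟨S'.D, S'.b⟩ : BrauerPairIdx H) = ⟨P.subgroupOf H, k⟩ := Sigma.ext hSD' hSb'
  have hT : S.T = H82.pairStab ⟨P, b⟩ := by
    ext g
    rw [S.hT, H82.stabilizesBlock_iff_conjPair hM S.hmax.1.1.2, hpair]
    rfl
  have hT' : S'.T = H82.pairStab ⟨P.subgroupOf H, k⟩ := by
    ext g
    rw [S'.hT, H82.stabilizesBlock_iff_conjPair hM S'.hmax.1.1.2, hpair']
    rfl
  have hrel : H82.PairRel H ⟨P.subgroupOf H, k⟩ ⟨P, b⟩ :=
    H82.pairRel_localCent (Subgroup.map_subgroupOf_eq_of_le hPH).symm hC b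
  have hTT : S'.T = S.T.subgroupOf H := by
    rw [hT, hT']
    ext g
    rw [Subgroup.mem_subgroupOf]
    exact H24.AbelianPair.conjPair_iff hrel g
  have hZ1 : Z = S.D1 := by
    refine (Subgroup.eq_of_le_of_card_ge (S.below Z (hSD ▸ hZ) fun h => ?_) ?_).symm
    · rw [h, Subgroup.card_bot] at hZcard
      exact (Fact.out : p.Prime).ne_one hZcard.symm
    · rw [hZcard, S.card_D1]
  have hTH : S.T ≤ H := by
    intro g hg
    have hgn := ((S.hT g).1 hg).1
    rw [hH, Subgroup.mem_normalizer_iff_map_conj_eq]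
    have hcard : Nat.card (Z.map (MulAut.conj g).toMonoidHom) = p := by
      rw [Subgroup.card_map_of_injective (MulAut.conj g).injective, hZcard]
    refine (Subgroup.eq_of_le_of_card_ge ?_ (hcard.trans hZcard.symm).le).symm
    rw [hZ1]
    refine S.below _ ?_ fun h => ?_
    · rintro _ ⟨x, hx, rfl⟩
      exact (Subgroup.mem_normalizer_iff.1 hgn x).1 (S.D1_le hx)
    · rw [← hZ1] at h
      rw [h, Subgroup.card_bot] at hcard
      exact (Fact.out : p.Prime).ne_one hcard.symm
  have hee : S.e = S'.e := by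
    rw [← S.e_eq, ← S'.e_eq, hTT, show Subgroup.centralizer (S'.D : Set H) =
      (Subgroup.centralizer (S.D : Set G)).subgroupOf H from ?_, Subgroup.relIndex_subgroupOf hTH]
    rw [hSD, hSD', hC]
    exact (Subgroup.comap_map_eq_self_of_injective H.subtype_injective _).symm
  have haa : S.a = S'.a := Nat.pow_right_injective (Fact.out : p.Prime).two_le
    (show p ^ S.a = p ^ S'.a by rw [← S.card_D, ← S'.card_D, hSD, hSD', ha, ha'])
  cases nonempty_fintype S.C1
  cases nonempty_fintype S'.C1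
  obtain ⟨-, I, ε, -, -, -, hiso, -, -, -, -, hk1, hk2⟩ :=
    H82.Cyc.exists_isometry S S' hM haa hee
  exact ⟨hk1, hk2, I, ε, hiso⟩

end Cfsg.Agent.S4635
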