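import Cfsg.Statements.S4636

set_option autoImplicit false
open scoped Pointwise
open Cfsg

namespace Cfsg.Agent.S4636

/-- Let P be a nontrivial cyclic p-subgroup of the finite group G and Z its subgroup of order p. For every x outside N_G(Z), P meets its conjugate xPx⁻¹ trivially; consequently N_G(Q) ≤ N_G(Z) for every nontrivial subgroup Q of P. -/
theorem result {G : Type*} [Group G] [Finite G] (p : ℕ) [Fact p.Prime] (P : Subgroup G) (hP : IsPGroup p P) (hP1 : P ≠ ⊥) (hcyc : IsCyclic P) (Z : Subgroup G) (hZ : Z ≤ P) (hZcard : Nat.card Z = p) : (∀ x : G, x ∉ Subgroup.normalizer (Z : Set G) → P ⊓ MulAut.conj x • P = ⊥) ∧ ∀ Q : Subgroup G, Q ≤ P → Q ≠ ⊥ → Subgroup.normalizer (Q : Set G) ≤ Subgroup.normalizer (Z : Set G) := by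
  have hfinZ : ∀ Q : Subgroup G, Q ≤ P → Q ≠ ⊥ → Z ≤ Q := by
    intro Q hQ hQ1
    have hQp : IsPGroup p Q := hP.to_le hQ
    obtain ⟨n, hn⟩ := hQp.exists_card_eq
    have hn0 : n ≠ 0 := by
      rintro rfl
      exact hQ1 (Subgroup.card_eq_one.mp (by simpa using hn))
    obtain ⟨y, hy⟩ := exists_prime_orderOf_dvd_card' p
      (show p ∣ Nat.card Q from hn ▸ dvd_pow_self p hn0)
    have hY : Nat.card (Subgroup.zpowers (y : G)) = p := by
      rw [Nat.card_zpowers, Subgroup.orderOf_coe, hy]
    have hYP : Subgroup.zpowers (y : G) ≤ P := Subgroup.zpowers_le.mpr (hQ y.2)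
    have := hcyc
    have hinj : Z.subgroupOf P = (Subgroup.zpowers (y : G)).subgroupOf P := by
      classical
      have : Fintype P := Fintype.ofFinite P
      have key : ∀ S : Subgroup P, Nat.card S = p →
          (S : Set P) = {a : P | a ^ p = 1} := by
        intro S hS
        refine Set.eq_of_subset_of_ncard_le (fun a ha => ?_) ?_ (Set.toFinite _)
        · have h := orderOf_dvd_natCard (⟨a, ha⟩ : S)
          rw [hS] at h
          simpa [Subgroup.orderOf_mk] using orderOf_dvd_iff_pow_eq_one.mp h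
        · rw [← Nat.card_coe_set_eq (S : Set P)]
          simp only [SetLike.coe_sort_coe, hS]
          rw [Set.ncard_eq_toFinset_card']
          simpa [Set.toFinset_setOf] using
            IsCyclic.card_pow_eq_one_le (α := P) (Fact.out : p.Prime).pos
      refine SetLike.coe_injective ?_
      rw [key _ ?_, key _ ?_]
      · rw [Nat.card_congr (Subgroup.subgroupOfEquivOfLe hYP).toEquiv, hY]
      · rw [Nat.card_congr (Subgroup.subgroupOfEquivOfLe hZ).toEquiv, hZcard]
    rw [Subgroup.subgroupOf_inj, inf_of_le_left hZ, inf_of_le_left hYP] at hinj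
    exact hinj ▸ Subgroup.zpowers_le.mpr y.2
  have norm_of : ∀ (x : G), (∀ z ∈ Z, x * z * x⁻¹ ∈ Z) →
      x ∈ Subgroup.normalizer (Z : Set G) := by
    intro x hx
    exact Subgroup.mem_normalizer_fintype hx
  constructor
  · intro x hx
    by_contra h
    have h1 : Z ≤ P ⊓ MulAut.conj x • P := hfinZ _ inf_le_left h
    apply hx
    have h2 : MulAut.conj x⁻¹ • Z ≤ P := by
      intro y hy
      obtain ⟨z, hz, rfl⟩ := hy
      obtain ⟨w, hw, hwz⟩ := (h1 hz).2
      have hwz' : x * w * x⁻¹ = z := hwz
      simpa [← hwz', mul_assoc] using hw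
    have h3 : Z ≤ MulAut.conj x⁻¹ • Z := by
      apply hfinZ _ h2
      intro h4
      have : Nat.card (MulAut.conj x⁻¹ • Z : Subgroup G) = p := by
        rw [← hZcard]; exact Nat.card_congr (Subgroup.equivSMul (MulAut.conj x⁻¹) Z).toEquiv.symm
      rw [h4] at this
      exact (Fact.out : p.Prime).ne_one (by simpa using this.symm)
    refine norm_of x (fun z hz => ?_)
    obtain ⟨w, hw, hwz⟩ := h3 hz
    have hwz' : x⁻¹ * w * x = z := by simpa using hwz
    simpa [← hwz', mul_assoc] using hw
  · intro Q hQ hQ1 x hx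
    have h1 := hfinZ Q hQ hQ1
    have h2 : MulAut.conj x • Z ≤ P := by
      intro y hy
      obtain ⟨z, hz, rfl⟩ := hy
      exact hQ ((Subgroup.mem_normalizer_iff.mp hx z).mp (h1 hz))
    have h3 : Z ≤ MulAut.conj x • Z := by
      apply hfinZ _ h2
      intro h4
      have : Nat.card (MulAut.conj x • Z : Subgroup G) = p := by
        rw [← hZcard]; exact Nat.card_congr (Subgroup.equivSMul (MulAut.conj x) Z).toEquiv.symm
      rw [h4] at this
      exact (Fact.out : p.Prime).ne_one (by simpa using this.symm)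
    have h5 : x⁻¹ ∈ Subgroup.normalizer (Z : Set G) := by
      refine norm_of x⁻¹ (fun z hz => ?_)
      obtain ⟨w, hw, hwz⟩ := h3 hz
      have hwz' : x * w * x⁻¹ = z := by simpa using hwz
      simpa [← hwz', mul_assoc] using hw
    simpa using inv_mem h5

end Cfsg.Agent.S4636
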