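import Cfsg.Statements.S4637
import Cfsg.Agent.H25.KleinDefect
import Cfsg.Agent.S4642
import Cfsg.Agent.S4677

set_option autoImplicit false
open Cfsg

namespace Cfsg.Agent.S4637

/-- Let B be a block of the finite group G relative to a maximal ideal M of the algebraic integers containing 2, with a Klein four defect group P. Let c be a block of C_G(P) inducing B, T the stabilizer of c in N_G(P) and e the index of C_G(P) in T (the inertial index). Then e is 1 or 3, B contains exactly four irreducible characters, and the 2-regular rank of B (its number of irreducible Brauer characters) equals e. -/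
theorem result {G : Type*} [Group G] [Finite G] (M : Ideal Cfsg.AlgInt) (hM : Cfsg.IsPModular 2 M) (B : Set (Cfsg.IrrCharacter G)) (hB : Cfsg.IsPBlock M B) (P : Subgroup G) (hPD : Cfsg.IsDefectGroup 2 M B P) (hV : IsKleinFour P) (c : Set (Cfsg.IrrCharacter (Subgroup.centralizer (P : Set G)))) (hc : Cfsg.IsInducedBlock M (Subgroup.centralizer (P : Set G)) c B) (T : Subgroup G) (hT : ∀ g : G, g ∈ T ↔ (g ∈ Subgroup.normalizer (P : Set G) ∧ Cfsg.StabilizesBlock (Subgroup.centralizer (P : Set G)) c g)) (e : ℕ) (he : (Subgroup.centralizer (P : Set G)).relIndex T = e) : (e = 1 ∨ e = 3) ∧ Nat.card B = 4 ∧ Cfsg.blockRank 2 B = e := by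
  classical
  cases nonempty_fintype G
  haveI : Fact (Nat.Prime 2) := ⟨Nat.prime_two⟩
  subst he
  have he := H25.KleinDefect.index_eq hM hPD hV hc hT
  have hP4 : Nat.card P = 4 := hV.card_four
  have hd : Cfsg.blockDefect 2 B = 2 := by
    have h1 := H35.card_defectGroup hM hB hPD
    rw [hP4, show (4 : ℕ) = 2 ^ 2 from rfl] at h1
    exact (Nat.pow_right_injective le_rfl h1).symm
  have hk := H25.KleinDefect.card_eq_four hM hB hd
  refine ⟨he, hk, ?_⟩
  have hsq : ∀ u ∈ P, u * u = 1 := fun u hu => by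
    have h1 : (⟨u, hu⟩ : P) ^ 2 = 1 := by
      rw [← hV.exponent_two]; exact Monoid.pow_exponent_eq_one _
    rw [← pow_two]; exact congrArg Subtype.val h1
  have hab : ∀ x ∈ P, ∀ y ∈ P, x * y = y * x := fun x hx y hy => by
    have h1 := hsq (x * y) (P.mul_mem hx hy)
    calc x * y = (x * y)⁻¹ := eq_inv_of_mul_eq_one_left h1
      _ = y * x := by
        rw [mul_inv_rev, inv_eq_of_mul_eq_one_right (hsq x hx),
          inv_eq_of_mul_eq_one_right (hsq y hy)]
  have hmax := H24.AbelianPair.isMaximal_of_induced hM hPD hab hc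
  have hPe := hmax.1.1
  have hCT : Subgroup.centralizer (P : Set G) ≤ T := fun g hg =>
    (H82.mem_stab_iff hM hPe.2 hT g).2 (H82.conjPair_of_centralizes c hg)
  -- representatives of the classes of two-elements
  haveI : Finite (ConjClasses G) := Finite.of_surjective _ ConjClasses.mk_surjective
  let _ : Fintype (ConjClasses G) := Fintype.ofFinite _
  let X : Finset G := (Finset.univ.image fun C : ConjClasses G => C.out).filter
    fun x => ∃ k : ℕ, orderOf x = 2 ^ k
  have hXrep : ∀ g : G, (∃ k : ℕ, orderOf g = 2 ^ k) → ∃! x, x ∈ X ∧ IsConj g x := by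
    intro g hg
    have hout : IsConj g (ConjClasses.mk g).out :=
      ConjClasses.mk_eq_mk_iff_isConj.1 (Quotient.out_eq (ConjClasses.mk g)).symm
    refine ⟨(ConjClasses.mk g).out, ⟨Finset.mem_filter.2
      ⟨Finset.mem_image.2 ⟨_, Finset.mem_univ _, rfl⟩, ?_⟩, hout⟩, ?_⟩
    · obtain ⟨k, hk⟩ := hg
      obtain ⟨a, ha⟩ := isConj_iff.1 hout
      exact ⟨k, by rw [← ha, H82.orderOf_conj, hk]⟩
    · rintro x ⟨hx, hgx⟩
      obtain ⟨D, -, rfl⟩ := Finset.mem_image.1 (Finset.mem_filter.1 hx).1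
      rw [ConjClasses.mk_eq_mk_iff_isConj.2 hgx]
      exact (congrArg Quotient.out (Quotient.out_eq D)).symm
  have hXp : ∀ x ∈ X, ∃ k : ℕ, orderOf x = 2 ^ k := fun x hx => (Finset.mem_filter.1 hx).2
  have h1ord : ∃ k : ℕ, orderOf (1 : G) = 2 ^ k := ⟨0, by simp⟩
  have h1X : (1 : G) ∈ X := by
    obtain ⟨x, ⟨hx, h1x⟩, -⟩ := hXrep 1 h1ord
    obtain ⟨a, ha⟩ := isConj_iff.1 h1x
    rw [mul_one, mul_inv_cancel] at ha
    exact ha ▸ hx
  let J : (x : G) →
      Finset (Set (Cfsg.IrrCharacter (Subgroup.centralizer (Subgroup.zpowers x : Set G)))) := fun x =>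
    (Set.toFinite {f | Cfsg.IsBrauerPairOf 2 M B (Subgroup.zpowers x) f}).toFinset
  let S := (X.erase 1).sigma J
  have hmemJ : ∀ {x f}, f ∈ J x ↔ Cfsg.IsBrauerPairOf 2 M B (Subgroup.zpowers x) f :=
    fun {x f} => Set.Finite.mem_toFinset _
  -- every pair is conjugate to one below the maximal pair
  have hbelow : ∀ {x : G} {f}, Cfsg.IsBrauerPairOf 2 M B (Subgroup.zpowers x) f →
      ∃ (u g : G) (f₀ : Set (Cfsg.IrrCharacter (Subgroup.centralizer (Subgroup.zpowers u : Set G)))),
        u ∈ P ∧ g * u * g⁻¹ = x ∧ Cfsg.SubpairLE 2 M (Subgroup.zpowers u) f₀ P c ∧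
          H82.conjPair g ⟨Subgroup.zpowers u, f₀⟩ = ⟨Subgroup.zpowers x, f⟩ := by
    intro x f hf
    obtain ⟨g, hg⟩ := H82.exists_conj_le hM hmax hf
    have hz : (Subgroup.zpowers x).map (MulAut.conj g).toMonoidHom =
        Subgroup.zpowers (g * x * g⁻¹) := MonoidHom.map_zpowers _ _
    obtain ⟨f₀, hf₀⟩ : ∃ f₀, H82.conjPair g ⟨Subgroup.zpowers x, f⟩ =
        (⟨Subgroup.zpowers (g * x * g⁻¹), f₀⟩ : Cfsg.BrauerPairIdx G) := by
      have : (H82.conjPair g ⟨Subgroup.zpowers x, f⟩).1 = Subgroup.zpowers (g * x * g⁻¹) := hz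
      generalize H82.conjPair g ⟨Subgroup.zpowers x, f⟩ = a at this ⊢
      obtain ⟨A, k⟩ := a
      obtain rfl : A = Subgroup.zpowers (g * x * g⁻¹) := this
      exact ⟨k, rfl⟩
    have hle : Relation.ReflTransGen (Cfsg.NormalSubpairRel 2 M)
        (H82.conjPair g ⟨Subgroup.zpowers x, f⟩) ⟨P, c⟩ := hg
    rw [hf₀] at hle
    refine ⟨g * x * g⁻¹, g⁻¹, f₀, H82.le_of_subpairLE hle (Subgroup.mem_zpowers _), by group, hle, ?_⟩
    rw [← hf₀, H82.conjPair_inv]
  -- nontrivial subsections have rank one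
  have hone : ∀ x ∈ X.erase 1, ∀ f ∈ J x, Cfsg.blockRank 2 f = 1 := by
    intro x hx f hf
    have hf' := hmemJ.1 hf
    obtain ⟨u, g, f₀, hu, hgu, -, -⟩ := hbelow hf'
    have hxx : x ^ 2 = 1 := by
      rw [← hgu, conj_pow, pow_two, hsq u hu]
      group
    let _ : Fintype ↥(Subgroup.centralizer (Subgroup.zpowers x : Set G)) := Fintype.ofFinite _
    have hxC : x ∈ Subgroup.centralizer (Subgroup.zpowers x : Set G) :=
      Subgroup.mem_centralizer_iff.2 fun q hq => by
        obtain ⟨i, rfl⟩ := Subgroup.mem_zpowers_iff.1 hq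
        exact (Commute.refl x).zpow_left i
    refine H25.KleinDefect.blockRank_eq_one hM (z := ⟨x, hxC⟩) (Subgroup.mem_center_iff.2 fun q =>
      Subtype.ext (Subgroup.mem_centralizer_iff.1 q.2 x (Subgroup.mem_zpowers x)).symm)
      ?_ hf'.1.2 ?_
    · rw [Subgroup.orderOf_mk]
      exact orderOf_eq_prime hxx (Finset.ne_of_mem_erase hx)
    · obtain ⟨y, -, hy⟩ := (H82.isLocalBlock_centralizer hM hf'.1).exists_conj_card hM hmax hf'
      have h4 := hy.trans ((Subgroup.card_le_of_le inf_le_left).trans hP4.le)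
      exact (Nat.pow_le_pow_iff_right one_lt_two).1 (h4.trans_eq (by norm_num : (4 : ℕ) = 2 ^ 2))
  obtain ⟨χ₀, hχ₀⟩ := BlockBasic.isPBlock_nonempty hM hB
  have hterm : ∀ x ∈ X.erase 1, ∀ D : Subgroup G,
      D = Subgroup.centralizer (Subgroup.zpowers x : Set G) →
      ∑ᶠ b ∈ {b : Set (Cfsg.IrrCharacter D) | Cfsg.IsInducedBlock M D b B}, Cfsg.blockRank 2 b =
        (J x).card := by
    rintro x hx D rfl
    have hxp : IsPGroup 2 (Subgroup.zpowers x) := by
      obtain ⟨k, hk⟩ := hXp x (Finset.mem_of_mem_erase hx)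
      exact IsPGroup.of_card (n := k) (by rw [Nat.card_zpowers, hk])
    have hset : {b | Cfsg.IsInducedBlock M (Subgroup.centralizer (Subgroup.zpowers x : Set G)) b B} =
        (J x : Set _) := Set.ext fun f => by
      rw [Finset.mem_coe, hmemJ, Set.mem_setOf_eq, S4642.isInducedBlock_centralizer_iff hM hxp hB hχ₀]
      constructor
      · rintro ⟨hf, h⟩
        obtain ⟨ξ, hξ⟩ := BlockBasic.isPBlock_nonempty hM hf
        exact H82.isBrauerPairOf_of_mem hM hB ⟨hxp, hf⟩ hξ (h ξ hξ)
      · exact fun h => ⟨h.1.2, fun ξ hξ => H82.brOmega_blockElem_of_isBrauerPairOf h hξ⟩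
    rw [hset, finsum_mem_coe_finset, Finset.sum_congr rfl (hone x hx), Finset.sum_const, smul_eq_mul,
      mul_one]
  have htop : Subgroup.centralizer ({1} : Set G) = ⊤ := by
    ext g; simp [Subgroup.mem_centralizer_singleton_iff]
  have hfst : ∑ᶠ b ∈ {b : Set (Cfsg.IrrCharacter (Subgroup.centralizer ({1} : Set G))) |
      Cfsg.IsInducedBlock M (Subgroup.centralizer ({1} : Set G)) b B}, Cfsg.blockRank 2 b =
        Cfsg.blockRank 2 B := by
    rw [H25.KleinDefect.induced_of_eq_top hM htop hB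
      ((MulEquiv.subgroupCongr htop).trans Subgroup.topEquiv) (fun h => rfl), finsum_mem_singleton,
      H25.KleinDefect.blockRank_irrComp]
  have hcount := H83.card_block_eq_sum_subsections hM hB X hXp hXrep
  rw [hk, ← Finset.add_sum_erase X _ h1X, hfst, Finset.sum_congr rfl fun x hx => hterm x hx _ (by
    rw [Subgroup.zpowers_eq_closure, Subgroup.centralizer_closure]),
    ← Finset.card_sigma] at hcount
  -- the map from the involutions of the defect group to the subsections
  let U := {u : P // u ≠ 1}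
  cases nonempty_fintype U
  let R : U → (Σ x : G, Set (Cfsg.IrrCharacter (Subgroup.centralizer (Subgroup.zpowers x : Set G)))) →
      Prop := fun u a => a ∈ S ∧ ∃ (g : G) (f₀ : _),
        g * ((u.1 : P) : G) * g⁻¹ = a.1 ∧
          Cfsg.SubpairLE 2 M (Subgroup.zpowers ((u.1 : P) : G)) f₀ P c ∧
          H82.conjPair g ⟨Subgroup.zpowers ((u.1 : P) : G), f₀⟩ = ⟨Subgroup.zpowers a.1, a.2⟩
  have hRtot : ∀ u, ∃ a, R u a := by
    intro u
    obtain ⟨f₀, hf₀, hle⟩ := H82.exists_subpair hM hPe (Subgroup.zpowers_le.2 u.1.2)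
    have hup : ∃ k : ℕ, orderOf ((u.1 : P) : G) = 2 ^ k :=
      ⟨1, (orderOf_eq_prime (p := 2) (by rw [pow_two]; exact hsq _ u.1.2)
        (fun e => u.2 (Subtype.ext e))).trans (pow_one 2).symm⟩
    obtain ⟨x, ⟨hx, hxu⟩, -⟩ := hXrep _ hup
    obtain ⟨g, hg⟩ := isConj_iff.1 hxu
    obtain ⟨f, hf⟩ : ∃ f, H82.conjPair g ⟨Subgroup.zpowers ((u.1 : P) : G), f₀⟩ =
        (⟨Subgroup.zpowers x, f⟩ : Cfsg.BrauerPairIdx G) := by
      have : (H82.conjPair g ⟨Subgroup.zpowers ((u.1 : P) : G), f₀⟩).1 = Subgroup.zpowers x := by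
        rw [← hg]; exact MonoidHom.map_zpowers _ _
      generalize H82.conjPair g ⟨Subgroup.zpowers ((u.1 : P) : G), f₀⟩ = a at this ⊢
      obtain ⟨A, k⟩ := a
      obtain rfl : A = Subgroup.zpowers x := this
      exact ⟨k, rfl⟩
    refine ⟨⟨x, f⟩, Finset.mem_sigma.2 ⟨Finset.mem_erase.2 ⟨fun e => ?_, hx⟩, hmemJ.2 ?_⟩,
      g, f₀, hg, hle, hf⟩
    · subst e
      refine u.2 (Subtype.ext ?_)
      simpa using conj_eq_one_iff.1 hg
    · have h1 := H82.isBrauerPairOf_conjPair hM g (a := ⟨Subgroup.zpowers ((u.1 : P) : G), f₀⟩)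
        (H82.isBrauerPairOf_of_le hM hmax.1 hle)
      rw [hf] at h1
      exact h1
  have hRfun : ∀ u a b, R u a → R u b → a = b := by
    rintro u ⟨x, f⟩ ⟨x', f'⟩ ⟨ha, g, f₀, hg, hle, hgf⟩ ⟨hb, g', f₁, hg', hle', hgf'⟩
    dsimp only at hg hg' hgf hgf'
    have hxX := Finset.mem_of_mem_erase (Finset.mem_sigma.1 ha).1
    obtain rfl : x = x' := (hXrep x (hXp x hxX)).unique ⟨hxX, IsConj.refl x⟩
      ⟨Finset.mem_of_mem_erase (Finset.mem_sigma.1 hb).1,
        isConj_iff.2 ⟨g' * g⁻¹, by rw [← hg, ← hg']; group⟩⟩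
    obtain rfl := H82.subpair_unique hM hPe hle hle'
    have hcz : g' * g⁻¹ ∈ Subgroup.centralizer (Subgroup.zpowers x : Set G) := by
      rw [Subgroup.zpowers_eq_closure, Subgroup.centralizer_closure]
      exact Subgroup.mem_centralizer_singleton_iff.2 (mul_inv_eq_iff_eq_mul.1
        (by conv_lhs => rw [← hg]
            conv_rhs => rw [← hg']
            group))
    have h1 := H82.conjPair_of_centralizes f hcz
    rw [← hgf, ← H82.conjPair_mul, inv_mul_cancel_right, hgf', hgf] at h1
    exact Sigma.ext rfl (Sigma.mk.inj_iff.1 h1).2.symm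
  choose F hF using hRtot
  have himage : Finset.univ.image F = S := by
    refine Finset.Subset.antisymm (fun a ha => ?_) fun a ha => ?_
    · obtain ⟨u, -, rfl⟩ := Finset.mem_image.1 ha
      exact (hF u).1
    · obtain ⟨u, g, f₀, hu, hgu, hle, hgf⟩ := hbelow (hmemJ.1 (Finset.mem_sigma.1 ha).2)
      have hu1 : (⟨u, hu⟩ : P) ≠ 1 := fun e => by
        have e' : u = 1 := congrArg Subtype.val e
        rw [e', mul_one, mul_inv_cancel] at hgu
        exact Finset.ne_of_mem_erase (Finset.mem_sigma.1 ha).1 hgu.symm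
      exact Finset.mem_image.2 ⟨⟨⟨u, hu⟩, hu1⟩, Finset.mem_univ _,
        hRfun _ _ _ (hF _) ⟨ha, g, f₀, hgu, hle, hgf⟩⟩
  have hU : Fintype.card U = 3 := by
    rw [← Nat.card_eq_fintype_card]
    let _ : Fintype P := Fintype.ofFinite _
    rw [Nat.card_eq_fintype_card, Fintype.card_subtype_compl, Fintype.card_subtype_eq,
      ← Nat.card_eq_fintype_card, hP4]
  have hstab := H82.mem_stab_iff hM hPe.2 hT
  suffices hS : S.card * (Subgroup.centralizer (P : Set G)).relIndex T = 3 by
    rcases he with h1 | h3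
    · rw [h1] at hS ⊢
      change ((X.erase 1).sigma J).card * 1 = 3 at hS
      omega
    · rw [h3] at hS ⊢
      change ((X.erase 1).sigma J).card * 3 = 3 at hS
      omega
  rcases he with h1 | h3
  · -- trivial inertial quotient: the subsections are separated
    rw [h1, mul_one, ← himage, Finset.card_image_of_injective _ ?_, Finset.card_univ, hU]
    have hnil := (S4687.result 2 M hM B P c hmax hab).2 fun g hgN hgs =>
      Subgroup.relIndex_eq_one.1 h1 ((hT g).2 ⟨hgN, hgs⟩)
    obtain ⟨Φ, hΦ, -⟩ := S4677.result 2 M hM B P c hmax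
    intro u v huv
    obtain ⟨-, g, f₀, hg, hle, hgf⟩ := hF u
    obtain ⟨-, g', f₁, hg', hle', hgf'⟩ := hF v
    rw [huv] at hg hgf
    set w := g'⁻¹ * g
    have hw : w * ((u.1 : P) : G) * w⁻¹ = ((v.1 : P) : G) := by
      calc w * ((u.1 : P) : G) * w⁻¹ = g'⁻¹ * (g * ((u.1 : P) : G) * g⁻¹) * g' := by
            simp only [w]; group
        _ = _ := by rw [hg, ← hg']; group
    have hwp : H82.conjPair w ⟨Subgroup.zpowers ((u.1 : P) : G), f₀⟩ =
        ⟨Subgroup.zpowers ((v.1 : P) : G), f₁⟩ := by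
      rw [H82.conjPair_mul, hgf, ← hgf', H82.conjPair_inv]
    have hle2 : Relation.ReflTransGen (Cfsg.NormalSubpairRel 2 M)
        (H82.conjPair w ⟨Subgroup.zpowers ((u.1 : P) : G), f₀⟩) ⟨P, c⟩ := by
      rw [hwp]; exact hle'
    have hmem : Cfsg.conjHom (Subgroup.zpowers ((u.1 : P) : G)) w ∈
        Φ.Hom (Subgroup.zpowers ((u.1 : P) : G)) :=
      (hΦ.2 _ _).2 ⟨Subgroup.zpowers_le.2 u.1.2, w, fun _ => rfl, H82.le_of_subpairLE hle2, f₀,
        hle, hle2⟩
    rw [H82.hom_eq_inner_of_nilpotent hM hΦ hnil] at hmem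
    obtain ⟨-, a, ha, hau⟩ := hmem
    have h2 := hau ⟨((u.1 : P) : G), Subgroup.mem_zpowers _⟩
    change w * ((u.1 : P) : G) * w⁻¹ = a * ((u.1 : P) : G) * a⁻¹ at h2
    rw [hw, hab a ha _ u.1.2, mul_inv_cancel_right] at h2
    exact Subtype.ext (Subtype.ext h2.symm)
  · -- inertial quotient of order three: one subsection
    rw [h3]
    haveI : Nonempty U := Fintype.card_pos_iff.1 (by omega)
    obtain ⟨u₀⟩ := ‹Nonempty U›
    obtain ⟨t, htT, htC⟩ : ∃ t ∈ T, t ∉ Subgroup.centralizer (P : Set G) := by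
      by_contra hc'
      push Not at hc'
      rw [Subgroup.relIndex_eq_one.2 hc'] at h3
      omega
    haveI : ((Subgroup.centralizer (P : Set G)).subgroupOf T).Normal := Subgroup.normal_subgroupOf_of_le_normalizer fun g hg =>
      H82.normalizer_le_normalizer_centralizer P ((hT g).1 hg).1
    have ht3 : t ^ 3 ∈ Subgroup.centralizer (P : Set G) := by
      have h4 := Subgroup.pow_index_mem ((Subgroup.centralizer (P : Set G)).subgroupOf T) (⟨t, htT⟩ : T)
      rw [show ((Subgroup.centralizer (P : Set G)).subgroupOf T).index = 3 from h3] at h4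
      exact Subgroup.mem_subgroupOf.1 h4
    have hmaps : ∀ (g : G) (u v : U), g ∈ T → g * ((u.1 : P) : G) * g⁻¹ = ((v.1 : P) : G) →
        F u = F v := by
      intro g u v hgT hguv
      obtain ⟨ha, g₁, f₁, hg₁, hle₁, hgf₁⟩ := hF v
      obtain ⟨f₀, -, hle₀⟩ := H82.exists_subpair hM hPe (Subgroup.zpowers_le.2 u.1.2)
      refine hRfun u _ _ (hF u) ⟨ha, g₁ * g, f₀, ?_, hle₀, ?_⟩
      · rw [← hg₁, ← hguv]; group
      · have h5 := H82.subpairLE_conjPair hM g hle₀
        rw [(hstab g).1 hgT] at h5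
        obtain ⟨f₂, hf₂⟩ : ∃ f, H82.conjPair g ⟨Subgroup.zpowers ((u.1 : P) : G), f₀⟩ =
            (⟨Subgroup.zpowers ((v.1 : P) : G), f⟩ : Cfsg.BrauerPairIdx G) := by
          have : (H82.conjPair g ⟨Subgroup.zpowers ((u.1 : P) : G), f₀⟩).1 =
              Subgroup.zpowers ((v.1 : P) : G) := by
            rw [← hguv]; exact MonoidHom.map_zpowers _ _
          generalize H82.conjPair g ⟨Subgroup.zpowers ((u.1 : P) : G), f₀⟩ = a at this ⊢
          obtain ⟨A, k⟩ := a
          obtain rfl : A = Subgroup.zpowers ((v.1 : P) : G) := this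
          exact ⟨k, rfl⟩
        rw [hf₂] at h5
        rw [H82.conjPair_mul, hf₂, H82.subpair_unique hM hPe h5 hle₁, hgf₁]
    -- conjugation by `t` moves every involution
    have hne : ∀ u : U, t * ((u.1 : P) : G) * t⁻¹ ≠ ((u.1 : P) : G) := by
      intro u hfix
      refine htC ?_
      have hP' : ∀ z ∈ P, t * z * t⁻¹ ∈ P := fun z hz =>
        (Subgroup.mem_normalizer_iff.1 ((hT t).1 htT).1 z).1 hz
      have h2C : t ^ 2 ∈ Subgroup.centralizer (P : Set G) := by
        refine Subgroup.mem_centralizer_iff.2 fun z hz => ?_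
        suffices h2 : t ^ 2 * z * (t ^ 2)⁻¹ = z by exact (mul_inv_eq_iff_eq_mul.1 h2).symm
        by_cases hz1 : z = 1
        · subst hz1; group
        by_cases hzu : z = ((u.1 : P) : G)
        · subst hzu
          rw [pow_two]
          calc _ = t * (t * ((u.1 : P) : G) * t⁻¹) * t⁻¹ := by group
            _ = _ := by rw [hfix, hfix]
        -- the two other involutions are exchanged or fixed
        have hu1 : ((u.1 : P) : G) ≠ 1 := fun e => u.2 (Subtype.ext e)
        have hmem : ∀ y ∈ P, y ≠ 1 → y ≠ ((u.1 : P) : G) → y = z ∨ y = ((u.1 : P) : G) * z := by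
          intro y hy hy1 hyu
          by_contra hc'
          push Not at hc'
          let _ : Fintype P := Fintype.ofFinite _
          have h5 : ({1, u.1, ⟨z, hz⟩, u.1 * ⟨z, hz⟩, ⟨y, hy⟩} : Finset P).card ≤ 4 := by
            rw [← hP4, Nat.card_eq_fintype_card]; exact Finset.card_le_univ _
          have hus : ((u.1 : P) : G) * z ≠ 1 := fun e => hzu (by
            rw [← inv_eq_of_mul_eq_one_right e, inv_eq_of_mul_eq_one_right (hsq _ u.1.2)])
          rw [Finset.card_insert_of_notMem, Finset.card_insert_of_notMem,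
            Finset.card_insert_of_notMem, Finset.card_insert_of_notMem, Finset.card_singleton] at h5
          · omega
          all_goals simp only [Finset.mem_insert, Finset.mem_singleton, not_or]; and_intros
          all_goals intro e; replace e := congrArg (fun w : P => (w : G)) e
          all_goals simp at e
          all_goals first
            | exact u.2 e | exact hu1 e | exact hu1 e.symm | exact hz1 e | exact hz1 e.symm | exact hus e | exact hus e.symm
            | exact hy1 e | exact hy1 e.symm | exact hzu e | exact hzu e.symm | exact hyu e | exact hyu e.symm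
            | exact hc'.1 e.symm | exact hc'.2 e.symm
        have himg : t * z * t⁻¹ = z ∨ t * z * t⁻¹ = ((u.1 : P) : G) * z := by
          refine hmem _ (hP' z hz) (fun e => hz1 (conj_eq_one_iff.1 e)) fun e => hzu ?_
          exact mul_left_cancel (mul_right_cancel (e.trans hfix.symm))
        rw [pow_two]
        calc t * t * z * (t * t)⁻¹ = t * (t * z * t⁻¹) * t⁻¹ := by group
          _ = z := by
            rcases himg with e | e
            · rw [e, e]
            · calc _ = t * (((u.1 : P) : G) * z) * t⁻¹ := by rw [e]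
                _ = (t * ((u.1 : P) : G) * t⁻¹) * (t * z * t⁻¹) := by group
                _ = z := by rw [hfix, e, ← mul_assoc, hsq _ u.1.2, one_mul]
      have := mul_mem (inv_mem h2C) ht3
      simpa [pow_succ, mul_assoc] using this
    have hconst : ∀ u, F u = F u₀ := by
      intro u
      by_cases huu : u = u₀
      · rw [huu]
      have hP' : ∀ z : U, t * ((z.1 : P) : G) * t⁻¹ ∈ P := fun z =>
        (Subgroup.mem_normalizer_iff.1 ((hT t).1 htT).1 _).1 z.1.2
      let step : U → U := fun z => ⟨⟨_, hP' z⟩, fun e => z.2 (Subtype.ext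
        (conj_eq_one_iff.1 (congrArg Subtype.val e : t * ((z.1 : P) : G) * t⁻¹ = 1)))⟩
      have hstep : ∀ z, F (step z) = F z := fun z => (hmaps t z (step z) htT rfl).symm
      have hmove : ∀ z, step z ≠ z := fun z e => hne z (congrArg (fun w : U => ((w.1 : P) : G)) e)
      by_contra hFne
      have h1 : step u₀ ≠ u := fun e => hFne (e ▸ hstep u₀)
      have h2 : step u ≠ u₀ := fun e => hFne (by rw [← hstep u, e])
      have h3' : step u₀ ≠ step u := fun e => huu (Subtype.ext (Subtype.ext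
        (mul_left_cancel (mul_right_cancel (congrArg (fun w : U => ((w.1 : P) : G)) e)))).symm)
      have h4 : ({u₀, u, step u₀, step u} : Finset U).card ≤ 3 := hU ▸ Finset.card_le_univ _
      rw [Finset.card_insert_of_notMem, Finset.card_insert_of_notMem,
        Finset.card_insert_of_notMem, Finset.card_singleton] at h4
      · omega
      all_goals simp [huu, Ne.symm huu, h1.symm, h2.symm, (hmove u₀).symm, (hmove u).symm, h3']
    rw [show S.card = 1 by
      rw [← himage, Finset.card_eq_one]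
      exact ⟨F u₀, Finset.eq_singleton_iff_unique_mem.2
        ⟨Finset.mem_image_of_mem _ (Finset.mem_univ _), fun a ha => by
          obtain ⟨u, -, rfl⟩ := Finset.mem_image.1 ha; exact hconst u⟩⟩]

end Cfsg.Agent.S4637
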