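import Cfsg.Statements.S4638
import Cfsg.Agent.H25.KleinIsometry.Main

set_option autoImplicit false
open Cfsg

namespace Cfsg.Agent.S4638

/-- Let B be a block of the finite group G relative to a maximal ideal M of the algebraic integers containing 2, with a Klein four defect group P, and let c be its Brauer correspondent: the block of N_G(P) with defect group P that induces B. Then there is a perfect isometry from c onto B. -/
theorem result {G : Type*} [Group G] [Finite G] (M : Ideal Cfsg.AlgInt) (hM : Cfsg.IsPModular 2 M) (B : Set (Cfsg.IrrCharacter G)) (hB : Cfsg.IsPBlock M B) (P : Subgroup G) (hPD : Cfsg.IsDefectGroup 2 M B P) (hV : IsKleinFour P) (c : Set (Cfsg.IrrCharacter (Subgroup.normalizer (P : Set G)))) (hcD : Cfsg.IsDefectGroup 2 M c (P.subgroupOf (Subgroup.normalizer (P : Set G)))) (hc : Cfsg.IsInducedBlock M (Subgroup.normalizer (P : Set G)) c B) : ∃ (I : Cfsg.IrrCharacter (Subgroup.normalizer (P : Set G)) → Cfsg.IrrCharacter G) (ε : Cfsg.IrrCharacter (Subgroup.normalizer (P : Set G)) → ℤ), Cfsg.IsPerfectIsometry 2 M c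 B I ε := by
  classical
  cases nonempty_fintype G
  haveI : Fact (Nat.Prime 2) := ⟨Nat.prime_two⟩
  cases nonempty_fintype ↥(Subgroup.normalizer (P : Set G))
  have hV' := H25.KleinIsometry.isKleinFour_subgroupOf
    (Subgroup.le_normalizer : P ≤ Subgroup.normalizer (P : Set G)) hV
  obtain ⟨e, k, hmax, hmax', hl, hlc⟩ :=
    H25.KleinIsometry.exists_pairs hM hB hPD hV rfl hcD hc
  exact H25.KleinIsometry.exists_isometry hM hB
    (H25.KleinIsometry.blockDefect_of_klein hM hB hPD hV) hmax
    (fun _ => H25.KleinIsometry.mul_self_of_klein hV) hc.1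
    (H25.KleinIsometry.blockDefect_of_klein hM hc.1 hcD hV') hmax'
    (fun _ => H25.KleinIsometry.mul_self_of_klein hV') hl hlc

end Cfsg.Agent.S4638
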