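import Cfsg.Statements.S4645
import Cfsg.Agent.S4682
import Cfsg.Agent.S4687
import Cfsg.Agent.S4655
import Cfsg.Agent.S4659
import Cfsg.Agent.S4539
import Cfsg.Agent.H24.AbelianPair
import Cfsg.Agent.H24.BlockRankOne
import Cfsg.Agent.H24.InductionDefect
import Cfsg.Agent.H83.SectionSum
import Cfsg.Agent.H83.CentralOrderP
import Cfsg.Agent.H82.PairNilpotent
import Cfsg.Agent.H82.PairIndex
import Cfsg.Agent.H82.ChainRank

set_option autoImplicit false
set_option linter.style.haveILetI false
open Cfsg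

namespace Cfsg.Agent.S4645

open BlockBasic CharBasic MonoidAlgebra H82

universe u

variable {G : Type u} [Group G] [Finite G] {p : ℕ} [Fact p.Prime] {M : Ideal AlgInt}

omit [Finite G] [Fact p.Prime] in
theorem rank_sum_congr {H H' : Subgroup G} (h : H = H') (B : Set (IrrCharacter G)) :
    (∑ᶠ b ∈ {b | IsInducedBlock M H b B}, blockRank p b) =
      ∑ᶠ b ∈ {b | IsInducedBlock M H' b B}, blockRank p b := by
  subst h
  rfl

/-- A pair of `B` on an abelian group is a block inducing `B`. -/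
theorem induced_centralizer (hM : IsPModular p M) {B : Set (IrrCharacter G)} {Q : Subgroup G}
    {e : Set (IrrCharacter (Subgroup.centralizer (Q : Set G)))}
    (hQe : IsBrauerPairOf p M B Q e) (hab : ∀ x ∈ Q, ∀ y ∈ Q, x * y = y * x) :
    IsInducedBlock M (Subgroup.centralizer (Q : Set G)) e B := by
  classical
  cases nonempty_fintype G
  cases nonempty_fintype (Subgroup.centralizer (Q : Set G))
  have hQC : Q ≤ Subgroup.centralizer (Q : Set G) := fun x hx =>
    Subgroup.mem_centralizer_iff.mpr fun y hy => hab y hy x hx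
  refine H24.InductionDefect.induced_of_pair hM hQe.1.2 hQC le_rfl hQe fun ξ hξ => ?_
  rw [brOmega_eq, show br Q (blockUp (Subgroup.centralizer (Q : Set G)) e) = blockElem e from
    coeff_injective (Finsupp.ext fun x => by
      rw [coeff_br, coeff_blockUp_of_mem, coeff_blockElem]), omega_blockElem, if_pos hξ, sub_self]
  exact memLocalIdeal_zero hM

/-- The block itself occurs among the blocks of the whole group inducing it. -/
theorem exists_top_block (hM : IsPModular p M) {B : Set (IrrCharacter G)} (hB : IsPBlock M B) :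
    ∃ β : Set (IrrCharacter (⊤ : Subgroup G)), IsInducedBlock M ⊤ β B ∧
      blockRank p β = blockRank p B := by
  classical
  cases nonempty_fintype G
  cases nonempty_fintype (⊤ : Subgroup G)
  let e : (⊤ : Subgroup G) ≃* G := Subgroup.topEquiv
  refine ⟨H83.irrComp e '' B, ⟨H82.isPBlock_image_irrComp e hB, hB, ?_⟩, ?_⟩
  · rintro _ ⟨ξ, hξ, rfl⟩ χ hχ g
    show MemLocalIdeal M (Chains.indChar (Subgroup.subtype ⊤) _ g - _)
    rw [show (⊤ : Subgroup G).subtype = (MonoidHom.id G).comp e.toMonoidHom from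
      MonoidHom.ext fun x => rfl, Chains.indChar_comp_equiv, ← Chains.omega_pull_classSum,
      show Chains.pull (MonoidHom.id G) (classSum g) = classSum g from
        coeff_injective (Finsupp.ext fun x => by simp [Chains.pull]),
      omega_classSum (IsIrr.isClassFunction ξ.2)]
    have : χ ∈ blockOf M (ξ : G → ℂ) := isPBlock_eq_blockOf hM hB hξ ▸ hχ
    exact this g
  · have hsat : ∀ {A : Type u} [Group A] [Finite A] (S : Set (IrrCharacter A)), IsPBlock M S →
        ∀ χ ∈ S, ∀ ψ : IrrCharacter A, SameBlock M (χ : A → ℂ) (ψ : A → ℂ) → ψ ∈ S :=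
      fun S hS χ hχ ψ h => by rw [isPBlock_eq_blockOf hM hS hχ]; exact h
    have h1 := Chains.card_mul_rank hM (hsat _ (H82.isPBlock_image_irrComp e hB))
    rw [Chains.regSum_image_irrComp, ← Chains.card_mul_rank hM (hsat _ hB), Subgroup.card_top,
      mul_right_inj' (Nat.cast_ne_zero.mpr Nat.card_pos.ne')] at h1
    exact_mod_cast h1

/-- A block with cyclic maximal pair and trivial inertial action has rank one. -/
theorem rank_eq_one (hM : IsPModular p M) {B : Set (IrrCharacter G)} {u : G} {D : Subgroup G}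
    (hDdef : D = Subgroup.zpowers u) {e : Set (IrrCharacter (Subgroup.centralizer (D : Set G)))}
    (hmax : IsMaximalBrauerPair p M B D e)
    (hnil : IsNilpotentBlock p M B) : blockRank p B = 1 := by
  classical
  cases nonempty_fintype G
  have huD : u ∈ D := hDdef ▸ Subgroup.mem_zpowers u
  have hab : ∀ x ∈ D, ∀ y ∈ D, x * y = y * x := fun x hx y hy =>
    by
      obtain ⟨i, rfl⟩ := Subgroup.mem_zpowers_iff.mp (hDdef ▸ hx)
      obtain ⟨j, rfl⟩ := Subgroup.mem_zpowers_iff.mp (hDdef ▸ hy)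
      rw [← zpow_add, ← zpow_add, add_comm]
  have hPe := hmax.1.1
  have hB := hmax.1.2.1
  have hD := S4659.result p M hM B D e hmax
  -- upper bound
  have hCeq : Subgroup.centralizer ({u} : Set G) = Subgroup.centralizer (D : Set G) := by
    rw [hDdef, Subgroup.zpowers_eq_closure, Subgroup.centralizer_closure]
  have hDC : D ≤ Subgroup.centralizer (D : Set G) := fun x hx =>
    Subgroup.mem_centralizer_iff.mpr fun y hy => hab y hy x hx
  have hbD : IsDefectGroup p M e (D.subgroupOf (Subgroup.centralizer (D : Set G))) := by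
    cases nonempty_fintype (Subgroup.centralizer (D : Set G))
    have h := isLocalBlock_centralizer hM hPe
    obtain ⟨s, -, hs⟩ := h.exists_conj_card hM hmax hmax.1
    have := h.isDefectGroup_inf hM hPe Relation.ReflTransGen.refl
      (hs.trans ((Subgroup.card_le_of_le inf_le_left).trans (by rw [inf_eq_left.mpr hDC])))
    rwa [inf_eq_left.mpr hDC] at this
  have hrank : blockRank p e = 1 := by
    cases nonempty_fintype (Subgroup.centralizer (D : Set G))
    refine H24.BlockRankOne.rank_eq_one_of_central hM hPe.2 hbD fun x hx => Subgroup.mem_center_iff.mpr fun c => ?_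
    exact Subtype.ext (Subgroup.mem_centralizer_iff.mp c.2 x hx).symm
  have key : ∀ H : Subgroup G, H = Subgroup.centralizer (D : Set G) →
      ∃ b : Set (IrrCharacter H), IsInducedBlock M H b B ∧
        IsDefectGroup p M b (D.subgroupOf H) ∧ blockRank p b ≤ 2 := by
    rintro H rfl
    exact ⟨e, induced_centralizer hM hmax.1 hab, hbD, by omega⟩
  obtain ⟨b, hb, hbD', hbl⟩ := key _ hCeq
  have hup := S4539.result p M hM B hB D hD u huD
    (fun d hd => hab d hd u huD) b hb hbD' hbl
  rw [← H35.card_defectGroup hM hB hD] at hup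
  -- fusion is trivial
  have hF := isBlockFusionSystemOn_blockFusionSystem hM hmax
  have hinn := hom_eq_inner_of_nilpotent hM hF hnil
  have hfix : ∀ (g : G) (v : G), v ∈ D →
      ∀ f : Set (IrrCharacter (Subgroup.centralizer (Subgroup.zpowers v : Set G))),
        SubpairLE p M (Subgroup.zpowers v) f D e →
        SubpairLE p M ((Subgroup.zpowers v).map (MulAut.conj g).toMonoidHom)
          (conjBlock (Subgroup.zpowers v) g f) D e → g * v * g⁻¹ = v := by
    intro g v hv f hle hle'
    obtain ⟨φ, hφ, hu⟩ := (isMap_block_iff hM hF hle (u := fun x => g * x * g⁻¹)).mpr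
      ⟨g, fun _ _ => rfl, hle'⟩
    rw [hinn] at hφ
    obtain ⟨-, d, hd, hd'⟩ := hφ
    have h2 : φ ⟨v, Subgroup.mem_zpowers v⟩ = g * v * g⁻¹ := hu ⟨v, Subgroup.mem_zpowers v⟩
    rw [← h2, hd', hab d hd v hv, mul_inv_cancel_right]
  -- the subsections
  let ρ : G → G := fun g => (ConjClasses.mk g).out
  have hρ : ∀ g : G, IsConj g (ρ g) := fun g =>
    (ConjClasses.mk_eq_mk_iff_isConj.mp (Quotient.out_eq (ConjClasses.mk g))).symm
  have hρc : ∀ g h : G, IsConj g h → ρ g = ρ h := fun g h hgh => by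
    simp only [ρ, ConjClasses.mk_eq_mk_iff_isConj.mpr hgh]
  let X : Finset G := (Finset.univ.filter fun g : G => ∃ k : ℕ, orderOf g = p ^ k).image ρ
  have hordc : ∀ g h : G, IsConj g h → orderOf g = orderOf h := fun g h hgh => by
    obtain ⟨c, rfl⟩ := isConj_iff.mp hgh
    exact (orderOf_conj c g).symm
  have hX : ∀ x ∈ X, ∃ k : ℕ, orderOf x = p ^ k := by
    intro x hx
    obtain ⟨g, hg, rfl⟩ := Finset.mem_image.mp hx
    rw [← hordc _ _ (hρ g)]
    exact (Finset.mem_filter.mp hg).2
  have hXrep : ∀ g : G, (∃ k : ℕ, orderOf g = p ^ k) → ∃! x, x ∈ X ∧ IsConj g x := by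
    intro g hg
    refine ⟨ρ g, ⟨Finset.mem_image.mpr ⟨g, by simpa using hg, rfl⟩, hρ g⟩, ?_⟩
    rintro x ⟨hx, hgx⟩
    obtain ⟨h, -, rfl⟩ := Finset.mem_image.mp hx
    exact (hρc _ _ (hgx.trans (hρ h).symm)).symm
  have hcount := H83.card_block_eq_sum_subsections hM hB X hX hXrep
  let W : G → Finset (BrauerPairIdx G) := fun x =>
    Finset.univ.filter fun a => a.1 = Subgroup.zpowers x ∧
      IsInducedBlock M (Subgroup.centralizer (a.1 : Set G)) a.2 B
  haveI : Fintype (Set (IrrCharacter G)) := Fintype.ofFinite _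
  have hterm : ∀ x, (∑ᶠ b ∈ {b : Set (IrrCharacter ↥(Subgroup.centralizer ({x} : Set G))) |
      IsInducedBlock M (Subgroup.centralizer ({x} : Set G)) b B}, blockRank p b) =
      ∑ a ∈ W x, blockRank p a.2 := by
    intro x
    rw [rank_sum_congr (show Subgroup.centralizer ({x} : Set G) =
      Subgroup.centralizer (Subgroup.zpowers x : Set G) by
        rw [Subgroup.zpowers_eq_closure, Subgroup.centralizer_closure]),
      finsum_mem_eq_toFinset_sum]
    refine Finset.sum_bij (fun b _ => ⟨Subgroup.zpowers x, b⟩) (fun b hb => ?_)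
      (fun b _ b' _ h => eq_of_heq (Sigma.mk.inj h).2) (fun a ha => ?_) (fun b _ => rfl)
    · simpa [W] using hb
    · obtain ⟨Q, f⟩ := a
      obtain ⟨rfl, hf⟩ := (Finset.mem_filter.mp ha).2
      exact ⟨f, by simpa using hf, rfl⟩
  rw [Finset.sum_congr rfl fun x _ => hterm x, Finset.sum_sigma'] at hcount
  -- the pair below `(D, e)` on each element, moved to its representative
  have hsub : ∀ v : D, ∃ f, SubpairLE p M (Subgroup.zpowers (v : G)) f D e := fun v =>
    (exists_subpair hM hPe (Subgroup.zpowers_le.mpr v.2)).imp fun _ h => h.2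
  choose f hf using hsub
  have hconj : ∀ v : D, ∃ g : G, g * (v : G) * g⁻¹ = ρ (v : G) := fun v => isConj_iff.mp (hρ v)
  choose g hg using hconj
  let Φ : D → Σ _ : G, BrauerPairIdx G := fun v =>
    ⟨ρ (v : G), conjPair (g v) ⟨Subgroup.zpowers (v : G), f v⟩⟩
  have hΦ : Function.Injective Φ := by
    intro v w h
    simp only [Φ, Sigma.mk.injEq, heq_eq_eq] at h
    obtain ⟨h1, h2⟩ := h
    have h3 : conjPair ((g w)⁻¹ * g v) (⟨Subgroup.zpowers (v : G), f v⟩ : BrauerPairIdx G) =
        ⟨Subgroup.zpowers (w : G), f w⟩ := by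
      rw [conjPair_mul, h2, conjPair_inv]
    have h4 : SubpairLE p M _ (conjPair ((g w)⁻¹ * g v)
        (⟨Subgroup.zpowers (v : G), f v⟩ : BrauerPairIdx G)).2 D e := by
      rw [h3]
      exact hf w
    have h5 := hfix _ _ v.2 (f v) (hf v) h4
    refine Subtype.ext (h5.symm.trans ?_)
    have e1 : ((g w)⁻¹ * g v) * (v : G) * ((g w)⁻¹ * g v)⁻¹ =
        (g w)⁻¹ * (g v * (v : G) * (g v)⁻¹) * g w := by group
    rw [e1, hg v, h1, ← hg w]
    group
  have hmem : ∀ v : D, Φ v ∈ X.sigma W := by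
    intro v
    have hp : ∃ k : ℕ, orderOf (v : G) = p ^ k :=
      IsPGroup.iff_orderOf.mp hPe.1 v |>.imp fun k hk => by rwa [Subgroup.orderOf_coe]
    refine Finset.mem_sigma.mpr ⟨Finset.mem_image.mpr ⟨(v : G), by simpa using hp, rfl⟩,
      Finset.mem_filter.mpr ⟨Finset.mem_univ _, ?_, ?_⟩⟩
    · show (Subgroup.zpowers (v : G)).map (MulAut.conj (g v)).toMonoidHom = _
      rw [MonoidHom.map_zpowers]
      exact congrArg Subgroup.zpowers (hg v)
    · refine induced_centralizer hM (isBrauerPairOf_conjPair hM (g v)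
        (a := ⟨Subgroup.zpowers (v : G), f v⟩) (isBrauerPairOf_of_le hM hmax.1 (hf v))) ?_
      rintro _ ⟨x, hx, rfl⟩ _ ⟨y, hy, rfl⟩
      rw [← map_mul, ← map_mul, hab x (Subgroup.zpowers_le.mpr v.2 hx) y
        (Subgroup.zpowers_le.mpr v.2 hy)]
  -- positivity, and the part of the identity
  have hpos : ∀ a ∈ X.sigma W, 1 ≤ blockRank p a.2.2 := by
    intro a ha
    obtain ⟨-, -, hind⟩ := (Finset.mem_sigma.mp ha).imp id fun h => Finset.mem_filter.mp h
    haveI := Fintype.ofFinite (Subgroup.centralizer (a.2.1 : Set G))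
    exact H83.blockRank_pos hM hind.2.1
  have h1ρ : ρ 1 = 1 := isConj_one_right.mp (hρ 1)
  have hone : blockRank p B ≤ ∑ a ∈ W 1, blockRank p a.2 := by
    rw [← hterm 1]
    obtain ⟨β, hβ, hl⟩ := exists_top_block hM hB
    rw [rank_sum_congr (show Subgroup.centralizer ({(1 : G)} : Set G) = ⊤ from
      eq_top_iff.mpr fun a _ => Subgroup.mem_centralizer_singleton_iff.mpr (by simp)),
      finsum_mem_eq_toFinset_sum, ← hl]
    exact Finset.single_le_sum (f := blockRank p) (fun _ _ => Nat.zero_le _) (by simpa using hβ)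
  have hlow : blockRank p B + (Nat.card D - 1) ≤ Nat.card B := by
    rw [hcount, ← Finset.sum_filter_add_sum_filter_not (X.sigma W) (fun a => a.1 = 1)]
    refine Nat.add_le_add (hone.trans (le_of_eq ?_)) ?_
    · rw [show (X.sigma W).filter (fun a => a.1 = 1) = ({1} : Finset G).sigma W from by
        ext ⟨x, a⟩
        simp only [Finset.mem_filter, Finset.mem_sigma, Finset.mem_singleton]
        exact ⟨fun h => ⟨h.2, h.1.2⟩, fun h => ⟨⟨Finset.mem_image.mpr ⟨1, by
          simpa using ⟨0, (pow_zero p).symm⟩, h.1 ▸ h1ρ⟩, h.2⟩, h.1⟩⟩,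
        Finset.sum_sigma, Finset.sum_singleton]
    · have hsub : ((Finset.univ : Finset D).erase 1).image Φ ⊆
          (X.sigma W).filter (fun a => ¬ a.1 = 1) := by
        intro a ha
        obtain ⟨v, hv, rfl⟩ := Finset.mem_image.mp ha
        refine Finset.mem_filter.mpr ⟨hmem v, fun h => (Finset.mem_erase.mp hv).1 ?_⟩
        exact Subtype.ext (isConj_one_left.mp ((hρ (v : G)).trans (by rw [show ρ (v : G) = 1 from h])))
      calc Nat.card D - 1 = (((Finset.univ : Finset D).erase 1).image Φ).card := by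
            rw [Finset.card_image_of_injective _ hΦ, Finset.card_erase_of_mem (Finset.mem_univ _),
              Finset.card_univ, Nat.card_eq_fintype_card]
        _ ≤ _ := (Finset.card_le_card hsub).trans (by
            rw [Finset.card_eq_sum_ones]
            exact Finset.sum_le_sum fun a ha => hpos a (Finset.mem_filter.mp ha).1)
  have h0 : 1 ≤ blockRank p B := H83.blockRank_pos hM hB
  have h2 : 1 ≤ Nat.card D := Nat.card_pos
  omega

/-- Let B be a block of the finite group G relative to a maximal ideal M of the algebraic integers containing the prime p, with a nontrivial cyclic defect group P; let c be a block of C_G(P) inducing B and T the stabilizer of c in N_G(P). Let Q be a nontrivial subgroup of P (so C_G(P) ≤ C_G(Q)), f the block of C_G(Q) induced by c inside C_G(Q), and T' the stabilizer of f in N_G(Q). Then T' = T·C_G(Q), the index of C_G(Q) in T' equals the index of C_G(P) in T, f has p-regular rank 1, and f is a nilpotent block of C_G(Q). -/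
theorem result {G : Type*} [Group G] [Finite G] (p : ℕ) [Fact p.Prime] (M : Ideal Cfsg.AlgInt) (hM : Cfsg.IsPModular p M) (B : Set (Cfsg.IrrCharacter G)) (hB : Cfsg.IsPBlock M B) (P : Subgroup G) (hPD : Cfsg.IsDefectGroup p M B P) (hP1 : P ≠ ⊥) (hcyc : IsCyclic P) (c : Set (Cfsg.IrrCharacter (Subgroup.centralizer (P : Set G)))) (hc : Cfsg.IsInducedBlock M (Subgroup.centralizer (P : Set G)) c B) (T : Subgroup G) (hT : ∀ g : G, g ∈ T ↔ (g ∈ Subgroup.normalizer (P : Set G) ∧ Cfsg.StabilizesBlock (Subgroup.centralizer (P : Set G)) c g)) (Q : Subgroup G) (hQP : Q ≤ P) (hQ1 : Q ≠ ⊥) (f : Set (Cfsg.IrrCharacter (Subgroup.centralizer (Q : Set G)))) (hf : Cfsg.IsInducedBlockIn M (Subgroup.centralizer (Q : Set G)) (Subgroup.centralizer (P : Set G)) c f) (T' : Subgroup G) (hT' : ∀ g : G, g ∈ T' ↔ (g ∈ Subgroup.normalizer (Q : Set G) ∧ Cfsg.StabilizesBlock (Subgroup.centralizer (Q : Set G)) f g)) : T' = T ⊔ Subgroup.centralizer (Q : Set G) ∧ (Subgroup.centralizer (Q : Set G)).relIndex T' =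 (Subgroup.centralizer (P : Set G)).relIndex T ∧ Cfsg.blockRank p f = 1 ∧ Cfsg.IsNilpotentBlock p M f := by
  classical
  cases nonempty_fintype G
  have hp : p.Prime := Fact.out
  obtain ⟨w', hw'⟩ := (isCyclic_iff_exists_zpowers_eq_top (α := P)).mp hcyc
  obtain ⟨w, hw⟩ : ∃ w : G, Subgroup.zpowers w = P := ⟨(w' : G), by
    have := congrArg (Subgroup.map P.subtype) hw'
    rwa [MonoidHom.map_zpowers, ← MonoidHom.range_eq_map, Subgroup.range_subtype] at this⟩
  have hab : ∀ x ∈ P, ∀ y ∈ P, x * y = y * x := fun x hx y hy =>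
    congrArg Subtype.val (IsCyclic.commGroup.mul_comm (⟨x, hx⟩ : P) ⟨y, hy⟩)
  have hmax := H24.AbelianPair.isMaximal_of_induced hM hPD hab hc
  have hPe := hmax.1.1
  obtain ⟨f₀, ⟨hf₀, hle⟩, -⟩ := S4655.result p M hM P Q c hPe hQP
  obtain rfl := (H24.AbelianPair.inducedIn_iff hM hmax hab hf₀ hle f).mp hf
  -- elements of `T` act by powers
  have hwP : w ∈ P := hw ▸ Subgroup.mem_zpowers w
  have hpow : ∀ g ∈ T, ∃ r : ℤ, ∀ x ∈ P, g * x * g⁻¹ = x ^ r := by
    intro g hg
    obtain ⟨r, hr⟩ : g * w * g⁻¹ ∈ Subgroup.zpowers w :=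
      hw.symm ▸ (Subgroup.mem_normalizer_iff.mp ((hT g).mp hg).1 w).mp hwP
    refine ⟨r, fun x hx => ?_⟩
    obtain ⟨j, rfl⟩ : x ∈ Subgroup.zpowers w := hw.symm ▸ hx
    rw [← conj_zpow, ← hr, ← zpow_mul, ← zpow_mul, mul_comm]
  -- freeness
  have hfree : ∀ g ∈ T, ∀ x ∈ P, x ≠ 1 → g * x * g⁻¹ = x →
      g ∈ Subgroup.centralizer (P : Set G) := by
    intro g hg x hx hx1 hgx
    obtain ⟨r, hr⟩ := hpow g hg
    obtain ⟨n, hn⟩ : ∃ n : ℕ, orderOf w = p ^ n := by
      obtain ⟨n, hn⟩ := IsPGroup.iff_orderOf.mp hPe.1 (⟨w, hwP⟩ : P)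
      exact ⟨n, by simpa using hn⟩
    have h1 : (p : ℤ) ∣ r - 1 := by
      have h : ((orderOf x : ℕ) : ℤ) ∣ r - 1 := by
        rw [orderOf_dvd_iff_zpow_eq_one, zpow_sub, zpow_one, ← hr x hx, hgx, mul_inv_cancel]
      obtain ⟨k, hk⟩ := IsPGroup.iff_orderOf.mp hPe.1 (⟨x, hx⟩ : P)
      rw [Subgroup.orderOf_mk] at hk
      have hk0 : k ≠ 0 := fun h0 => hx1 (orderOf_eq_one_iff.mp (by simpa [h0] using hk))
      refine dvd_trans ?_ h
      rw [hk]
      exact_mod_cast dvd_pow_self p hk0
    have h2 : ∀ k : ℕ, g ^ k * w * (g ^ k)⁻¹ = w ^ (r ^ k) := by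
      intro k
      induction k with
      | zero => simp
      | succ k ih =>
        rw [pow_succ', show g * g ^ k * w * (g * g ^ k)⁻¹ = g * (g ^ k * w * (g ^ k)⁻¹) * g⁻¹ by
          group, ih, hr _ (P.zpow_mem hwP _), ← zpow_mul, pow_succ]
    have h3 : g ^ p ^ n ∈ Subgroup.centralizer (P : Set G) := by
      rw [← hw, Subgroup.zpowers_eq_closure, Subgroup.centralizer_closure,
        Subgroup.mem_centralizer_singleton_iff]
      refine mul_inv_eq_iff_eq_mul.mp ((h2 _).trans ?_)
      have h4 : ((orderOf w : ℕ) : ℤ) ∣ r ^ p ^ n - 1 := by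
        have := dvd_sub_pow_of_dvd_sub h1 n
        rw [one_pow] at this
        rw [hn]
        push_cast
        exact dvd_trans ⟨(p : ℤ), pow_succ _ _⟩ this
      have h5 := orderOf_dvd_iff_zpow_eq_one.mp h4
      rw [zpow_sub, zpow_one, mul_inv_eq_one] at h5
      exact h5
    have hTc := centralizer_le_stab hM hPe.2 hT
    obtain ⟨FT, h⟩ := exists_localBlock_stab hM hPe hT
    have hPT : P ≤ T := le_stab hM hPe.2 hT
    have hinf : P ⊓ T = P := inf_eq_left.mpr hPT
    obtain ⟨s, -, hs⟩ := h.exists_conj_card hM hmax hmax.1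
    have hnd := h.not_dvd_index hM hPT (h.isDefectGroup_inf hM hPe Relation.ReflTransGen.refl
      (hs.trans ((Subgroup.card_le_of_le inf_le_left).trans (by rw [hinf]))))
    have hle' : (P ⊓ T).subgroupOf T ≤ (Subgroup.centralizer (P : Set G)).subgroupOf T :=
      Subgroup.comap_mono (inf_le_left.trans fun a ha =>
        Subgroup.mem_centralizer_iff.mpr fun b hb => hab b hb a ha)
    rw [sup_eq_right.mpr hle'] at hnd
    haveI : ((Subgroup.centralizer (P : Set G)).subgroupOf T).Normal :=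
      Subgroup.normal_subgroupOf_of_le_normalizer fun y hy =>
        normalizer_le_normalizer_centralizer P ((hT y).mp hy).1
    set C := (Subgroup.centralizer (P : Set G)).subgroupOf T
    set y : T ⧸ C := QuotientGroup.mk ⟨g, hg⟩
    have hy1 : y ^ p ^ n = 1 := by
      rw [← QuotientGroup.mk_pow, QuotientGroup.eq_one_iff]
      exact h3
    have hy2 : y ^ C.index = 1 := pow_card_eq_one'
    have hy : y = 1 := by
      rw [← pow_one y, ← Nat.Coprime.pow_left n ((hp.coprime_iff_not_dvd).mpr hnd)]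
      exact pow_gcd_eq_one.mpr ⟨hy1, hy2⟩
    exact Subgroup.mem_subgroupOf.mp ((QuotientGroup.eq_one_iff (N := C) ⟨g, hg⟩).mp hy)
  have hTN : T ≤ Subgroup.normalizer (Q : Set G) := by
    have h : ∀ g ∈ T, ∀ q ∈ Q, g * q * g⁻¹ ∈ Q := fun g hg q hq => by
      obtain ⟨r, hr⟩ := hpow g hg
      rw [hr q (hQP hq)]
      exact Q.zpow_mem hq r
    intro g hg
    refine Subgroup.mem_normalizer_iff.mpr fun q => ⟨h g hg q, fun hq => ?_⟩
    have := h g⁻¹ (T.inv_mem hg) _ hq
    rwa [show g⁻¹ * (g * q * g⁻¹) * g⁻¹⁻¹ = q by group] at this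
  have hTC : T ⊓ Subgroup.centralizer (Q : Set G) = Subgroup.centralizer (P : Set G) := by
    refine le_antisymm ?_ (le_inf (centralizer_le_stab hM hPe.2 hT) (Subgroup.centralizer_le hQP))
    rintro g ⟨hg, hgQ⟩
    obtain ⟨q, hqQ, hq1⟩ := Q.bot_or_exists_ne_one.resolve_left hQ1
    refine hfree g hg q (hQP hqQ) hq1 ?_
    rw [← Subgroup.mem_centralizer_iff.mp hgQ q hqQ, mul_inv_cancel_right]
  obtain ⟨hfac, hidx⟩ := S4682.result p M hM B P c hmax hab Q f hQP hf₀ hle T' hT' T hT
  rw [inf_eq_left.mpr hTN, hTC] at hidx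
  have hnil := (H24.AbelianPair.free_iff hM hmax hab hT).mp hfree Q hQP hQ1 f hf
  refine ⟨le_antisymm (fun x hx => ?_) (sup_le (fun y hy => ?_) (centralizer_le_stab hM hf₀ hT')),
    hidx, ?_, hnil⟩
  · obtain ⟨y, hy, d, hd, rfl⟩ := hfac x hx
    exact Subgroup.mul_mem _ (Subgroup.mem_sup_left hy) (Subgroup.mem_sup_right hd)
  · have hyN := hTN hy
    refine (mem_stab_iff hM hf₀ hT' y).mpr ?_
    have h3 := subpairLE_conjPair hM y
      (show Relation.ReflTransGen (NormalSubpairRel p M) ⟨Q, f⟩ ⟨P, c⟩ from hle)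
    rw [(mem_stab_iff hM hPe.2 hT y).mp hy, conjPair_of_normalizes f hyN] at h3
    rw [conjPair_of_normalizes f hyN, subpair_unique hM hPe h3 hle]
  · -- the maximal pair inside `C(Q)`
    cases nonempty_fintype (Subgroup.centralizer (Q : Set G))
    have hQf := isBrauerPairOf_of_le hM hmax.1 hle
    have hPC : P ≤ Subgroup.centralizer (Q : Set G) := fun x hx =>
      Subgroup.mem_centralizer_iff.mpr fun q hq => hab q (hQP hq) x hx
    have h := isLocalBlock_centralizer hM hQf.1
    obtain ⟨x, -, hx⟩ := h.exists_conj_card hM hmax hQf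
    obtain ⟨⟨A, k⟩, hr, hp'⟩ := h.exists_pairRel hM (a := ⟨P, c⟩) hPC
      (isNormalSubpair_of_le hM hPe (hPC.trans (Subgroup.centralizer_le_normalizer _)) hle)
    have hA : A = Subgroup.zpowers (⟨w, hPC hwP⟩ : Subgroup.centralizer (Q : Set G)) :=
      Subgroup.map_injective (Subgroup.centralizer (Q : Set G)).subtype_injective (by
        rw [MonoidHom.map_zpowers]
        exact hr.1.symm.trans hw.symm)
    subst hA
    refine rank_eq_one hM rfl (isMaximal_of_card hM hp' ?_) hnil
    rw [← Subgroup.card_map_of_injective (K := Subgroup.zpowers _)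
      (Subgroup.centralizer (Q : Set G)).subtype_injective, ← hr.1]
    exact hx.trans (Subgroup.card_le_of_le inf_le_left)

end Cfsg.Agent.S4645
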