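import Cfsg.Statements.S4647
import Cfsg.Agent.H80.MinimalDimension
import Cfsg.Agent.H36.DoubleCoset
import Cfsg.Agent.H35.Consequences
import Cfsg.Agent.H82.BrauerMap

set_option autoImplicit false
open Cfsg
open Cfsg.Agent Cfsg.Agent.BlockBasic

namespace Cfsg.Agent.S4647

/-- The coefficients of a block idempotent on `C(Q)` are not all in the local ideal for a Brauer pair. -/
theorem exists_unit_centralizer {G : Type*} [Group G] [Finite G] {p : ℕ} [Fact p.Prime]
    {M : Ideal Cfsg.AlgInt} (hM : Cfsg.IsPModular p M) {B : Set (Cfsg.IrrCharacter G)}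
    {Q : Subgroup G} {e : Set (Cfsg.IrrCharacter (Subgroup.centralizer (Q : Set G)))}
    (h : Cfsg.IsBrauerPairOf p M B Q e) :
    ∃ c ∈ Subgroup.centralizer (Q : Set G), ¬ Cfsg.MemLocalIdeal M (Cfsg.blockCoeff B c) := by
  classical
  cases nonempty_fintype G
  by_contra hall
  push Not at hall
  obtain ⟨ξ, hξ⟩ := isPBlock_nonempty hM h.1.2
  haveI : Finite (ConjClasses (Subgroup.centralizer (Q : Set G))) :=
    Finite.of_surjective _ ConjClasses.mk_surjective
  haveI : Fintype (ConjClasses (Subgroup.centralizer (Q : Set G))) := Fintype.ofFinite _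
  have h1 := h.2.2 ξ hξ
  rw [H82.brauerOmega_eq_omega, omega_eq_sum_classes (CharBasic.IsIrr.isClassFunction ξ.2)
    (H82.isCentralElt_restrict Q fun c _ x => isClassFunction_blockCoeff B x c)] at h1
  refine not_memLocalIdeal_one hM ?_
  have h2 : Cfsg.MemLocalIdeal M (∑ C : ConjClasses (Subgroup.centralizer (Q : Set G)),
      (ofFun fun c : Subgroup.centralizer (Q : Set G) => Cfsg.blockCoeff B c).coeff C.out *
        Cfsg.centralChar (ξ : _ → ℂ) C.out) :=
    memLocalIdeal_sum hM _ _ fun C _ => by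
      rw [coeff_ofFun, mul_comm]
      exact memLocalIdeal_mul hM (memLocalRing_centralChar hM ξ.2 _) (hall _ C.out.2)
  simpa using memLocalIdeal_sub hM h2 h1

/-- A Brauer-visible element normalising `Q` acts on `Q` as an element of a `p`-subgroup. -/
theorem fusion {G : Type*} [Group G] [Finite G] {p : ℕ} [Fact p.Prime]
    {M : Ideal Cfsg.AlgInt} (hM : Cfsg.IsPModular p M) {B : Set (Cfsg.IrrCharacter G)}
    (hB : Cfsg.IsPBlock M B) {D : Subgroup G} (hD : Cfsg.IsDefectGroup p M B D) {a d : ℕ}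
    (ha : (Nat.card G).factorization p = a) (hd : Nat.card D = p ^ d)
    (hmin : ∑ᶠ χ ∈ B, Cfsg.charDegree (χ : G → ℂ) ^ 2 = p ^ (2 * a - d))
    {Q : Subgroup G} {e : Set (Cfsg.IrrCharacter (Subgroup.centralizer (Q : Set G)))}
    (hQe : Cfsg.IsBrauerPairOf p M B Q e) {x : G} (hx : x ∈ Subgroup.normalizer (Q : Set G)) :
    ∃ w : G, (∃ k : ℕ, orderOf w = p ^ k) ∧ ∀ q ∈ Q, x * q * x⁻¹ = w * q * w⁻¹ := by
  classical
  cases nonempty_fintype G
  haveI := locMax_isMaximal hM
  letI := Ideal.Quotient.field (locMax hM)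
  haveI := H36.DoubleCoset.charP_residue hM
  have hp : p.Prime := Fact.out
  obtain ⟨c, hcQ, hc⟩ := exists_unit_centralizer hM hQe
  have hQp := hQe.1.1
  obtain ⟨D₀, hD₀, hQD⟩ := H35.exists_defectGroup_ge hM hB hc Q hQp fun q hq =>
    Subgroup.mem_centralizer_singleton_iff.2 (Subgroup.mem_centralizer_iff.1 hcQ q hq)
  have hdef : Cfsg.blockDefect p B = d :=
    Nat.pow_right_injective hp.two_le ((H35.card_defectGroup hM hB hD).symm.trans hd)
  have hD₀d : Nat.card D₀ = p ^ d := by rw [H35.card_defectGroup hM hB hD₀, hdef]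
  obtain ⟨S, hS⟩ := (IsPGroup.of_card hD₀d).exists_le_sylow
  obtain ⟨g, hg, T, hT⟩ := hD₀
  have hgD : g ∈ Subgroup.centralizer (D₀ : Set G) := Subgroup.mem_centralizer_iff.2 fun q hq => by
    have : q ∈ Subgroup.centralizer ({g} : Set G) :=
      Subgroup.map_subtype_le _ (by rw [← hT]; exact hq)
    exact Subgroup.mem_centralizer_singleton_iff.1 this
  let ev : G → locRing hM := fun h => ⟨Cfsg.blockCoeff B h, memLocalRing_blockCoeff hM hB h⟩
  let ε : G → locRing hM ⧸ locMax hM := fun h => Ideal.Quotient.mk (locMax hM) (ev h)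
  have hε : ∀ h, ε h ≠ 0 ↔ ¬ Cfsg.MemLocalIdeal M (Cfsg.blockCoeff B h) := fun h =>
    not_congr (Ideal.Quotient.eq_zero_iff_mem.trans mem_locMax)
  have hidemR : ∀ h, ∑ u, ev u * ev (u⁻¹ * h) = ev h := fun h => Subtype.ext (by
    have h1 := congrArg (fun z : MonoidAlgebra ℂ G => z.coeff h) (blockElem_idem B)
    simp only [H35.coeff_mul_sum, coeff_blockElem] at h1
    push_cast [ev]
    exact h1)
  let A : Matrix G G (locRing hM) := Matrix.of fun h y => ev (y⁻¹ * h)
  have hA : A * A = A := by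
    ext h y
    rw [Matrix.mul_apply]
    show (((∑ z, ev (z⁻¹ * h) * ev (y⁻¹ * z) : locRing hM)) : ℂ) = ev (y⁻¹ * h)
    congr 1
    rw [← hidemR (y⁻¹ * h)]
    refine Fintype.sum_equiv (Equiv.mulLeft y⁻¹) _ _ fun z => ?_
    rw [mul_comm]
    simp [mul_assoc]
  have htr : (locRing hM).subtype A.trace = ((p ^ (2 * a - d) : ℕ) : ℂ) := by
    rw [← hmin, Matrix.trace, map_sum]
    simp only [A, ev, Matrix.diag_apply, Matrix.of_apply, inv_mul_cancel]
    show ∑ _h : G, Cfsg.blockCoeff B 1 = _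
    rw [Finset.sum_const, Finset.card_univ, nsmul_eq_mul, Cfsg.blockCoeff,
      ← Nat.card_eq_fintype_card, ← mul_assoc,
      mul_inv_cancel₀ (Nat.cast_ne_zero.2 Nat.card_pos.ne'), one_mul,
      finsum_mem_eq_sum_ite, finsum_mem_eq_finite_toFinset_sum _ (Set.toFinite B), Nat.cast_sum,
      ← Finset.sum_filter]
    refine Finset.sum_congr (by ext; simp) fun χ _ => ?_
    rw [apply_one_eq_charDegree χ, Complex.conj_natCast]
    push_cast
    ring
  have hrank := H80.MinimalDimension.finrank_range_le_of_trace (locRing hM).subtype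
    (fun r hr => (isUnit_iff_not_mem_locMax hM r).2 hr) A hA htr
  obtain ⟨w, hw, hwq⟩ := H80.MinimalDimension.exists_conj_of_minimal (p := p) (ε := ε) (a := a) (d := d)
    (P := (S : Subgroup G)) (D := D₀) (g := g) (Q := Q) (x := x) (c := c)
    (fun u h => congrArg (Ideal.Quotient.mk (locMax hM))
      (Subtype.ext (isClassFunction_blockCoeff B h u)))
    (fun h => by
      simp only [ε, ← map_mul, ← map_sum, hidemR])
    (by rw [S.card_eq_multiplicity, ha])
    (fun R h hR hRh hne => by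
      obtain ⟨D', hD', hle⟩ := H35.exists_defectGroup_ge hM hB ((hε h).1 hne) R hR hRh
      exact (Nat.le_of_dvd Nat.card_pos (Subgroup.card_dvd_of_le hle)).trans
        (by rw [H35.card_defectGroup hM hB hD', hdef]))
    hrank hS hD₀d hgD ((hε g).2 hg.2.1) (hQD.trans hS)
    (fun q hq => hS (hQD ((Subgroup.mem_normalizer_iff.1 hx q).1 hq))) hcQ ((hε c).2 hc)
  obtain ⟨k, hk⟩ := S.isPGroup' ⟨w, hw⟩
  obtain ⟨j, -, hj⟩ := (Nat.dvd_prime_pow hp).1
    (orderOf_dvd_of_pow_eq_one (congrArg Subtype.val hk : w ^ p ^ k = 1))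
  exact ⟨w, ⟨j, hj⟩, hwq⟩

/-- Let B be a block of the finite group G relative to a maximal ideal M of the algebraic integers containing the prime p, p^a the p-part of the order of G and p^d the order of a defect group D of B. If Σ_{χ ∈ B} χ(1)² = p^(2a−d) (the least possible value), then B is nilpotent. -/
theorem result {G : Type*} [Group G] [Finite G] (p : ℕ) [Fact p.Prime] (M : Ideal Cfsg.AlgInt) (hM : Cfsg.IsPModular p M) (B : Set (Cfsg.IrrCharacter G)) (hB : Cfsg.IsPBlock M B) (D : Subgroup G) (hD : Cfsg.IsDefectGroup p M B D) (a d : ℕ) (ha : (Nat.card G).factorization p = a) (hd : Nat.card D = p ^ d) (hmin : ∑ᶠ χ ∈ B, Cfsg.charDegree (χ : G → ℂ) ^ 2 = p ^ (2 * a - d)) : Cfsg.IsNilpotentBlock p M B := by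
  refine ⟨hB, fun Q e hQe x hx _ hxreg => ?_⟩
  obtain ⟨w, ⟨k, hk⟩, hwq⟩ := fusion hM hB hD ha hd hmin hQe hx
  have hw : w ∈ Subgroup.normalizer (Q : Set G) := by
    have : Fintype G := Fintype.ofFinite G
    refine Subgroup.mem_normalizer_iff.2 fun q => ⟨fun hq => ?_, fun hq => ?_⟩
    · rw [← hwq q hq]
      exact (Subgroup.mem_normalizer_iff.1 hx q).1 hq
    · have hxi : x⁻¹ * (w * q * w⁻¹) * x ∈ Q := by
        have := (Subgroup.mem_normalizer_iff.1 (inv_mem hx) _).1 hq
        rwa [inv_inv] at this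
      have h1 := hwq _ hxi
      have h2 : w * q * w⁻¹ = w * (x⁻¹ * (w * q * w⁻¹) * x) * w⁻¹ := by rw [← h1]; group
      rw [mul_left_cancel (mul_right_cancel h2)]
      exact hxi
  let ψ : Subgroup.normalizer (Q : Set G) →* MulAut Q :=
    Q.normalizerMonoidHom
  have hψ : ψ ⟨x, hx⟩ = ψ ⟨w, hw⟩ := by
    ext q
    simpa [ψ] using hwq q q.2
  have h1 : ψ ⟨x, hx⟩ = 1 := by
    have hx' : orderOf (ψ ⟨x, hx⟩) ∣ orderOf x :=
      Subgroup.orderOf_mk x hx ▸ orderOf_map_dvd ψ ⟨x, hx⟩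
    have hw' : orderOf (ψ ⟨x, hx⟩) ∣ p ^ k := by
      rw [hψ, ← hk, ← Subgroup.orderOf_mk w hw]
      exact orderOf_map_dvd ψ _
    obtain ⟨i, -, hi⟩ := (Nat.dvd_prime_pow (Fact.out : p.Prime)).1 hw'
    refine orderOf_eq_one_iff.1 ?_
    rcases Nat.eq_zero_or_pos i with rfl | hpos
    · rw [hi, pow_zero]
    · exact absurd ((dvd_pow_self p hpos.ne').trans (hi ▸ hx')) hxreg
  refine Subgroup.mem_centralizer_iff.2 fun q hq => ?_
  have h2 := congrArg (fun f : MulAut Q => ((f ⟨q, hq⟩ : Q) : G)) h1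
  simp [ψ] at h2
  conv_lhs => rw [← h2]
  group

end Cfsg.Agent.S4647
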