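import Cfsg.Statements.S4648
import Cfsg.Agent.H80.RankOne.Main
import Cfsg.Agent.H80.PuigUsami.SmallDefect
import Cfsg.Agent.S4687

set_option autoImplicit false
open Cfsg
open Cfsg.Agent

namespace Cfsg.Agent.S4648

/-- Let B be a block of the finite group G relative to a maximal ideal M of the algebraic integers containing the prime p, with a nontrivial defect group D. If B has p-regular rank 1 and at most four irreducible characters, then B is nilpotent, D has exactly as many elements as B has irreducible characters, and p is 2 or 3. -/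
theorem result {G : Type*} [Group G] [Finite G] (p : ℕ) [Fact p.Prime] (M : Ideal Cfsg.AlgInt) (hM : Cfsg.IsPModular p M) (B : Set (Cfsg.IrrCharacter G)) (hB : Cfsg.IsPBlock M B) (D : Subgroup G) (hD : Cfsg.IsDefectGroup p M B D) (hD1 : D ≠ ⊥) (hl : Cfsg.blockRank p B = 1) (hk : Nat.card B ≤ 4) : Cfsg.IsNilpotentBlock p M B ∧ Nat.card D = Nat.card B ∧ (p = 2 ∨ p = 3) := by
  classical
  cases nonempty_fintype G
  obtain ⟨P, c, hmax⟩ := H82.exists_maximal hM hB
  have hPD := S4659.result p M hM B P c hmax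
  have hkd := H80.RankOne.card_eq_pow hM hB hl hk
  have hD' := H35.card_defectGroup hM hB hD
  have hP := H35.card_defectGroup hM hB hPD
  have hcard : 1 < Nat.card P := by
    rw [hP, ← hD']; exact (Subgroup.one_lt_card_iff_ne_bot D).2 hD1
  have hP1 : P ≠ ⊥ := (Subgroup.one_lt_card_iff_ne_bot P).1 hcard
  have hpp : p.Prime := Fact.out
  have hp2 := hpp.two_le
  have hd0 : Cfsg.blockDefect p B ≠ 0 := fun h0 => by rw [hP, h0, pow_zero] at hcard; omega
  have hple : p ∣ p ^ Cfsg.blockDefect p B := dvd_pow_self p hd0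
  have hp4 : p ≤ 4 := (Nat.le_of_dvd (pow_pos hpp.pos _) hple).trans (hkd ▸ hk)
  have hp23 : p = 2 ∨ p = 3 := by
    have h := hpp
    interval_cases p
    · exact Or.inl rfl
    · exact Or.inr rfl
    · exact absurd h (by norm_num)
  refine ⟨?_, hD'.trans hkd.symm, hp23⟩
  have hP4 : Nat.card P ≤ 4 := by rw [hP, ← hkd]; exact hk
  obtain ⟨d, hd⟩ : ∃ d, d = Cfsg.blockDefect p B := ⟨_, rfl⟩
  have hd2 : d = 1 ∨ d = 2 ∧ p = 2 := by
    rw [← hd] at hd0
    rw [hP, ← hd] at hP4
    rcases hp23 with rfl | rfl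
    · have : d < 3 := by
        by_contra h
        exact absurd ((Nat.pow_le_pow_right (by norm_num) (not_lt.1 h)).trans hP4) (by norm_num)
      omega
    · have : d < 2 := by
        by_contra h
        exact absurd ((Nat.pow_le_pow_right (by norm_num) (not_lt.1 h)).trans hP4) (by norm_num)
      omega
  have hab : ∀ x ∈ P, ∀ y ∈ P, x * y = y * x := by
    have hc : ∀ x y : P, x * y = y * x := by
      rcases hd2 with h | ⟨h, rfl⟩
      · haveI : IsCyclic P := isCyclic_of_prime_card (p := p) (by rw [hP, ← hd, h, pow_one])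
        exact fun x y => IsCyclic.commGroup.mul_comm x y
      · exact fun x y => (IsPGroup.commutative_of_card_eq_prime_sq
          (show Nat.card P = 2 ^ 2 by rw [hP, ← hd, h])) x y
    exact fun x hx y hy => congrArg Subtype.val (hc ⟨x, hx⟩ ⟨y, hy⟩)
  rcases hp23 with rfl | rfl
  · have h4 : (Finset.univ.filter fun x : P => x ^ 2 = 1).card ≤ 4 :=
      (Finset.card_le_univ _).trans (by rw [← Nat.card_eq_fintype_card]; exact hP4)
    obtain ⟨hfree, he⟩ := H80.PuigUsami.free_of_four hM hmax hab hP1 h4
    obtain ⟨n, -, -, -, -, -, heq⟩ := H80.PuigUsami.main hM hmax hPD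
      (H80.PuigUsami.induced_self hM hmax hab) hab hfree hP1 rfl
    refine H80.PuigUsami.nilpotent_of_index hM hmax hab ?_
    rw [← heq (by omega), hl]
  · have hd1 : d = 1 := by omega
    have hP3 : Nat.card P = 3 := by rw [hP, ← hd, hd1, pow_one]
    obtain ⟨hfree, he⟩ := H80.PuigUsami.free_of_three hM hmax hab hP3
    obtain ⟨n, -, -, -, -, -, heq⟩ := H80.PuigUsami.main hM hmax hPD
      (H80.PuigUsami.induced_self hM hmax hab) hab hfree hP1 rfl
    refine H80.PuigUsami.nilpotent_of_index hM hmax hab ?_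
    rw [← heq (by omega), hl]

end Cfsg.Agent.S4648
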