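import Cfsg.Statements.S4649
import Cfsg.Agent.H82.CycShape
import Cfsg.Agent.S4687
import Cfsg.Agent.S4689

set_option autoImplicit false
open Cfsg

namespace Cfsg.Agent.S4649

/-- A block with cyclic defect group, of a finite group relative to a maximal ideal M of the algebraic integers containing the prime p, is nilpotent if and only if its p-regular rank is 1 (it has a unique irreducible Brauer character). -/
theorem result {G : Type*} [Group G] [Finite G] (p : ℕ) [Fact p.Prime] (M : Ideal Cfsg.AlgInt) (hM : Cfsg.IsPModular p M) (B : Set (Cfsg.IrrCharacter G)) (hB : Cfsg.IsPBlock M B) (P : Subgroup G) (hPD : Cfsg.IsDefectGroup p M B P) (hcyc : IsCyclic P) : Cfsg.IsNilpotentBlock p M B ↔ Cfsg.blockRank p B = 1 := by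
  classical
  cases nonempty_fintype G
  refine ⟨fun h => (Agent.S4689.result p M hM B h).1, fun hr => ?_⟩
  obtain ⟨D, b, hmax⟩ := Agent.H82.exists_maximal hM hB
  have hDd := Agent.S4659.result p M hM B D b hmax
  obtain ⟨c, hc⟩ := Agent.H35.defectGroup_le_conj hM hB hDd hPD
  have heq : P = D.map (MulAut.conj c).toMonoidHom := Subgroup.eq_of_le_of_card_ge hc (by
    rw [Subgroup.card_map_of_injective (MulAut.conj c).injective,
      Agent.H35.card_defectGroup hM hB hDd, Agent.H35.card_defectGroup hM hB hPD])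
  subst heq
  have hD : IsCyclic D := isCyclic_of_surjective
    (Subgroup.equivMapOfInjective D (MulAut.conj c).toMonoidHom (MulAut.conj c).injective).symm (MulEquiv.surjective _)
  have hab : ∀ x ∈ D, ∀ y ∈ D, x * y = y * x := fun x hx y hy =>
    congrArg Subtype.val (IsCyclic.commGroup.mul_comm (⟨x, hx⟩ : D) ⟨y, hy⟩)
  refine (Agent.S4687.result p M hM B D b hmax hab).mpr fun x hxN hxs => ?_
  by_cases hbot : D = ⊥
  · subst hbot
    exact Subgroup.mem_centralizer_iff.mpr fun q hq => by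
      rw [Subgroup.mem_bot.mp hq, one_mul, mul_one]
  obtain ⟨a, hDa⟩ := IsPGroup.iff_card.1 hmax.1.1.1
  have ha : 1 ≤ a := Nat.one_le_iff_ne_zero.2 fun h =>
    hbot (Subgroup.card_eq_one.1 (by rw [hDa, h, pow_zero]))
  obtain ⟨χ, hχ⟩ := Agent.BlockBasic.isPBlock_nonempty hM hB
  have hind : IsInducedBlock M (Subgroup.centralizer (D : Set G)) b B :=
    (Agent.S4642.isInducedBlock_centralizer_iff hM hmax.1.1.1 hB hχ).mpr
      ⟨hmax.1.1.2, fun ξ hξ => Agent.H82.brOmega_blockElem_of_isBrauerPairOf hmax.1 hξ⟩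
  obtain ⟨S, rfl, hb⟩ := Agent.H82.Cyc.exists_setup hM hD ha hDa hB hDd hind
  obtain rfl := eq_of_heq hb
  haveI : Fintype S.C1 := Fintype.ofFinite _
  obtain ⟨θ₀, Y, ζ, δ, sg, -, -, -, -, -, hrk, -⟩ := S.block_structure hM
  rw [hrk, ← S.e_eq, Subgroup.relIndex_eq_one] at hr
  exact hr ((S.hT x).2 ⟨hxN, hxs⟩)

end Cfsg.Agent.S4649
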