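import Cfsg.Statements.S4651
import Cfsg.Agent.H82.ChainRank
import Cfsg.Agent.H82.ChainMatch

set_option autoImplicit false
open Cfsg

namespace Cfsg.Agent.S4651

/-- An alternating-sum identity over chains of p-subgroups (the character-count form behind the chain reformulation of Alperin's weight conjecture, which holds unconditionally for the difference k − l). Let b be a block of the finite group G relative to a maximal ideal M of the algebraic integers containing the prime p. Consider the nonempty chains s = {Q_0 < Q_1 < ⋯ < Q_m} of nontrivial p-subgroups of G in which every member is normal in the largest member; let N_G(s) be the intersection of the normalizers of the members (the stabilizer of the chain), and let b_s be the set of irreducible characters of N_G(s) lying in blocks of N_G(s) that induce b. Then #G · (k(b) − l(b)) equals the sum over all such chains s of (−1)^m · #N_G(s) · (k(b_s) − l(b_s)), where k counts irreducible characters and l is the p-regular rank; equivalently, k(b) − l(b) is the alternating sum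 of k(b_s) − l(b_s) over representatives of the conjugacy classes of such chains. -/
theorem result {G : Type*} [Group G] [Finite G] (p : ℕ) [Fact p.Prime] (M : Ideal Cfsg.AlgInt) (hM : Cfsg.IsPModular p M) (b : Set (Cfsg.IrrCharacter G)) (hb : Cfsg.IsPBlock M b) : (Nat.card G : ℤ) * ((Nat.card b : ℤ) - (Cfsg.blockRank p b : ℤ)) = ∑ᶠ s ∈ {s : Finset (Subgroup G) | s.Nonempty ∧ (∀ Q ∈ s, ∀ R ∈ s, Q ≤ R ∨ R ≤ Q) ∧ (∀ Q ∈ s, Q ≠ ⊥ ∧ IsPGroup p Q) ∧ ∃ T ∈ s, ∀ Q ∈ s, Q ≤ T ∧ T ≤ Subgroup.normalizer ((Q : Subgroup G) : Set G)}, (-1 : ℤ) ^ (s.card - 1) * (Nat.card (((⨅ Q ∈ s, Subgroup.normalizer ((Q : Subgroup G) : Set G) : Subgroup G))) : ℤ) * ((Nat.card {ψ : Cfsg.IrrCharacter (((⨅ Q ∈ s, Subgroup.normalizer ((Q : Subgroup G) : Set G) : Subgroup G))) | ∃ β : Set (Cfsg.IrrCharacter (((⨅ Q ∈ s, Subgroup.normalizer ((Q : Subgroup G) : Set G) : Subgroup G)))), ψ ∈ β ∧ Cfsg.IsInducedBlock M (((⨅ Q ∈ s, Subgroup.normalizer ((Q : Subgroup G) : Set G) : Subgroup G))) β b} : ℤ) - (Cfsg.blockRank p {ψ : Cfsg.IrrCharacter (((⨅ Q ∈ s, Subgroup.normalizer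 ((Q : Subgroup G) : Set G) : Subgroup G))) | ∃ β : Set (Cfsg.IrrCharacter (((⨅ Q ∈ s, Subgroup.normalizer ((Q : Subgroup G) : Set G) : Subgroup G)))), ψ ∈ β ∧ Cfsg.IsInducedBlock M (((⨅ Q ∈ s, Subgroup.normalizer ((Q : Subgroup G) : Set G) : Subgroup G))) β b} : ℤ)) := by
  classical
  cases nonempty_fintype G
  cases nonempty_fintype (Finset (Subgroup G))
  let R := Agent.H82.Chains.rankSum p M b
  let X : G → Prop := fun x => x ≠ 1 ∧ ∃ k : ℕ, orderOf x = p ^ k
  have hLHS : (Nat.card G : ℂ) * ((Nat.card b : ℂ) - (Cfsg.blockRank p b : ℂ)) =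
      ∑ x : G, if X x then R (Subgroup.centralizer ({x} : Set G)) else 0 := by
    have hid : ∀ γ : Set (Cfsg.IrrCharacter G), Cfsg.IsPBlock M γ →
        Agent.H82.Chains.Induces M (MonoidHom.id G) γ γ := by
      intro γ hγ
      refine ⟨hγ, hγ, fun ξ hξ χ hχ g => ?_⟩
      have e : Agent.H82.Chains.indChar (MonoidHom.id G) (ξ : G → ℂ) g =
          Cfsg.centralChar (ξ : G → ℂ) g := by
        rw [← Agent.H82.Chains.omega_pull_classSum,
          ← Agent.BlockBasic.omega_classSum (Agent.CharBasic.IsIrr.isClassFunction ξ.2)]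
        congr 1
      rw [e]
      exact Agent.BlockBasic.isPBlock_sameBlock hM hγ hξ hχ g
    have hover : Agent.H82.Chains.overB M (MonoidHom.id G) b = b := by
      ext ψ
      refine ⟨fun ⟨β, hψ, hβ⟩ => ?_, fun h => ⟨b, h, hid b hb⟩⟩
      rwa [(hid β hβ.1).unique hM hβ] at hψ
    have h := Agent.H82.Chains.card_sub_rank_eq hM (MonoidHom.id G) Function.injective_id
      (fun γ hγ => ⟨γ, hid γ hγ⟩) b
    rw [hover] at h
    rw [h]
    refine Finset.sum_congr rfl fun x _ => ?_
    rw [Subgroup.map_id]
  have hRHS : ∀ s : Finset (Subgroup G), Agent.H82.Chains.IsNChain p s →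
      (Nat.card (Agent.H82.Chains.chainNorm s) : ℂ) *
        ((Nat.card (Agent.H82.Chains.overB M (Agent.H82.Chains.chainNorm s).subtype b) : ℂ) -
          (Cfsg.blockRank p (Agent.H82.Chains.overB M (Agent.H82.Chains.chainNorm s).subtype b) : ℂ)) =
        ∑ x : G, if X x ∧ x ∈ Agent.H82.Chains.chainNorm s then
          R (Subgroup.centralizer ({x} : Set G) ⊓ Agent.H82.Chains.chainNorm s) else 0 := by
    intro s hs
    obtain ⟨-, -, hp, T, hT, hTtop⟩ := id hs
    set N := Agent.H82.Chains.chainNorm s with hN
    cases nonempty_fintype N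
    have hdef : ∀ γ : Set (Cfsg.IrrCharacter N), Cfsg.IsPBlock M γ →
        ∃ b', Agent.H82.Chains.Induces M N.subtype γ b' := fun γ hγ => by
      refine Agent.H35.inducedBlockDefined_of_normal hM (P := T) (hp T hT).2 ?_ ?_ ?_ hγ
      · exact fun t ht => Agent.H82.Chains.mem_chainNorm.mpr fun Q hQ => (hTtop Q hQ).2 ht
      · exact fun c hc => Agent.H82.Chains.mem_chainNorm.mpr fun Q hQ =>
          Subgroup.centralizer_le_normalizer _ (Subgroup.centralizer_le (hTtop Q hQ).1 hc)
      · exact fun c hc => Agent.H82.Chains.mem_chainNorm.mp hc T hT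
    rw [Agent.H82.Chains.card_sub_rank_eq hM N.subtype N.subtype_injective hdef b,
      ← Finset.sum_subset (Finset.subset_univ (Finset.univ.filter fun x : G => x ∈ N))
        (fun x _ hx => if_neg fun h => hx (Finset.mem_filter.mpr ⟨Finset.mem_univ _, h.2⟩)),
      Finset.sum_subtype (Finset.univ.filter fun x : G => x ∈ N) (p := fun x => x ∈ N)
        (fun x => by simp)]
    refine Finset.sum_congr rfl fun x _ => ?_
    have hC : (Subgroup.centralizer ({x} : Set N)).map N.subtype =
        Subgroup.centralizer ({(x : G)} : Set G) ⊓ N := by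
      ext g
      constructor
      · rintro ⟨c, hc, rfl⟩
        exact ⟨Subgroup.mem_centralizer_singleton_iff.mpr
          (congrArg Subtype.val (Subgroup.mem_centralizer_singleton_iff.mp hc)), c.2⟩
      · rintro ⟨hc, hg⟩
        exact ⟨⟨g, hg⟩, Subgroup.mem_centralizer_singleton_iff.mpr
          (Subtype.ext (Subgroup.mem_centralizer_singleton_iff.mp hc)), rfl⟩
    simp only [X, R, hC, Subgroup.orderOf_coe, ne_eq, OneMemClass.coe_eq_one, x.2, and_true]
  apply Int.cast_injective (α := ℂ)
  rw [finsum_mem_eq_toFinset_sum, Int.cast_sum]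
  push_cast
  rw [hLHS]
  calc (∑ x : G, if X x then R (Subgroup.centralizer ({x} : Set G)) else 0)
      = ∑ x : G, ∑ s : Finset (Subgroup G),
          if Agent.H82.Chains.IsNChain p s then (-1 : ℂ) ^ (s.card - 1) *
            (if X x ∧ x ∈ Agent.H82.Chains.chainNorm s then
              R (Subgroup.centralizer ({x} : Set G) ⊓ Agent.H82.Chains.chainNorm s) else 0)
          else 0 := by
        refine Finset.sum_congr rfl fun x _ => ?_
        split_ifs with hx
        · obtain ⟨hx1, k, hk⟩ := id hx
          rw [← Agent.H82.Chains.sum_fixed (p := p)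
            (IsPGroup.of_card ((Nat.card_zpowers x).trans hk)) hx1 R]
          refine Finset.sum_congr rfl fun s _ => ?_
          by_cases h1 : Agent.H82.Chains.IsNChain p s <;>
            by_cases h2 : x ∈ Agent.H82.Chains.chainNorm s <;> simp [h1, h2, hx]
        · exact (Finset.sum_eq_zero fun s _ => by simp [hx]).symm
    _ = _ := by
        rw [Finset.sum_comm, ← Finset.sum_filter_add_sum_filter_not Finset.univ
          (fun s : Finset (Subgroup G) => Agent.H82.Chains.IsNChain p s)]
        rw [Finset.sum_eq_zero (s := Finset.univ.filter fun s => ¬ Agent.H82.Chains.IsNChain p s)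
          (fun s hs => Finset.sum_eq_zero fun x _ => if_neg (Finset.mem_filter.mp hs).2), add_zero]
        refine Finset.sum_congr ?_ fun s hs => ?_
        · ext s
          simp only [Finset.mem_filter, Finset.mem_univ, true_and, Set.mem_toFinset]
          rfl
        · have hs' : Agent.H82.Chains.IsNChain p s := by
            simpa [Agent.H82.Chains.IsNChain] using hs
          simp only [hs', if_true]
          rw [← Finset.mul_sum, ← hRHS s hs', ← mul_assoc]
          rfl

end Cfsg.Agent.S4651
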