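import Cfsg.Statements.S4654
import Cfsg.Agent.H82.NormalP

set_option autoImplicit false
open Cfsg

namespace Cfsg.Agent.S4654

open Cfsg.Agent Cfsg.Agent.BlockBasic


/-- Fix a prime p and a maximal ideal M of the algebraic integers containing p. Let P be a normal p-subgroup of the finite group G, B a p-block of G and e a p-block of C_G(P) such that (P, e) is a Brauer pair of B (as P is normal, this says that e occurs in the idempotent of B, which is supported on C_G(P)). Let T be the stabilizer of e in G under conjugation. Then the idempotent of e is a block idempotent of T: some block E of T has, at every element of T, the same idempotent coefficient as e (zero off C_G(P)); and the idempotent of B is the sum of the distinct G-conjugates of the idempotent of e: its coefficient at g is the sum over all x in G of the coefficient of e at x⁻¹ g x, divided by the order of T. -/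
theorem result {G : Type*} [Group G] [Fintype G] (p : ℕ) [Fact p.Prime] (M : Ideal Cfsg.AlgInt) (hM : Cfsg.IsPModular p M) (P : Subgroup G) [P.Normal] (hP : IsPGroup p P) (B : Set (Cfsg.IrrCharacter G)) (e : Set (Cfsg.IrrCharacter (Subgroup.centralizer (P : Set G)))) (hBe : Cfsg.IsBrauerPairOf p M B P e) (T : Subgroup G) (hT : ∀ x : G, x ∈ T ↔ Cfsg.StabilizesBlock (Subgroup.centralizer (P : Set G)) e x) : (∃ E : Set (Cfsg.IrrCharacter T), Cfsg.IsPBlock M E ∧ ∀ t : T, Cfsg.blockCoeff E t = Cfsg.subgroupBlockCoeff (Subgroup.centralizer (P : Set G)) e (t : G)) ∧ ∀ g : G, Cfsg.blockCoeff B g = (Nat.card T : ℂ)⁻¹ * ∑ x : G, Cfsg.subgroupBlockCoeff (Subgroup.centralizer (P : Set G)) e (x⁻¹ * g * x) := by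
  classical
  cases nonempty_fintype {f : Set (Cfsg.IrrCharacter (Subgroup.centralizer (P : Set G))) //
    Cfsg.IsPBlock M f}
  let C := Subgroup.centralizer (P : Set G)
  cases nonempty_fintype C
  have hn : ∀ x : G, x ∈ Subgroup.normalizer (C : Set G) := H82.mem_normalizer_centralizer P
  have hTconj : ∀ x : G, x ∈ T ↔ H82.conjSet C x e = e := fun x => by
    rw [hT x, H82.stabilizesBlock_iff hM hBe.1.2]
    exact and_iff_right (hn x)
  have hCT : C ≤ T := by
    intro c hc
    rw [hT c]
    refine ⟨hn c, fun χ hχ => ⟨χ, hχ, fun k k' hk => ?_⟩⟩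
    rw [show k' = (⟨c, hc⟩ : C) * k * (⟨c, hc⟩ : C)⁻¹ from Subtype.ext hk,
      CharBasic.IsIrr.isClassFunction χ.2 k ⟨c, hc⟩]
  have hPT : P ≤ T := by
    intro x hx
    rw [hT x]
    refine ⟨hn x, fun χ hχ => ⟨χ, hχ, fun k k' hk => ?_⟩⟩
    rw [show k' = k from Subtype.ext (by
      rw [hk, Subgroup.mem_centralizer_iff.mp k.2 x hx, mul_inv_cancel_right])]
  have hec : ∀ x : G, x ∈ T → ∀ g, (H82.blockUp C e).coeff (x * g * x⁻¹) = (H82.blockUp C e).coeff g :=
    fun x hx g => by
      conv_lhs => rw [← (hTconj x).mp hx]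
      exact H82.coeff_blockUp_conjSet (hn x) e g
  refine ⟨?_, ?_⟩
  · -- the block of `T`
    cases nonempty_fintype T
    let ι : C →* T := Subgroup.inclusion hCT
    have hι : Function.Injective ι := Subgroup.inclusion_injective hCT
    set w := H82.up ι (blockElem e)
    have hw : ∀ t : T, w.coeff t = Cfsg.subgroupBlockCoeff C e (t : G) := by
      intro t
      by_cases ht : (t : G) ∈ C
      · rw [show t = ι ⟨t, ht⟩ from rfl]
        simp only [w, H82.coeff_up hι, coeff_blockElem, Cfsg.subgroupBlockCoeff]
        rw [dif_pos (show ((ι ⟨(t : G), ht⟩ : T) : G) ∈ C from ht)]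
        rfl
      · simp only [w, Cfsg.subgroupBlockCoeff]
        rw [dif_neg ht, H82.coeff_up_of_notMem]
        rintro ⟨c, rfl⟩
        exact ht c.2
    have hwc : IsCentralElt w := fun g x => by
      simp only [hw, Subgroup.coe_mul, Subgroup.coe_inv, ← H82.coeff_blockUp]
      exact hec x x.2 g
    have hw2 : w * w = w := by rw [← map_mul, blockElem_idem]
    have hwi : IsIntElt M w := H82.isIntElt_up hM hι (isIntElt_blockElem hM hBe.1.2)
    obtain ⟨χ, hχ⟩ : ∃ χ : Cfsg.IrrCharacter T, omega (χ : T → ℂ) w = 1 := by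
      by_contra h
      have h0 : w = 0 := eq_of_omega_eq (w := 0) hwc (fun g h => by simp) fun χ => by
        rw [(H82.omega_eq_zero_or_one hwc hw2 χ).resolve_right fun h' => h ⟨χ, h'⟩]
        simp [omega, chiLin]
      obtain ⟨η, hη⟩ := isPBlock_nonempty hM hBe.1.2
      have h1 : blockElem e = 0 := MonoidAlgebra.coeff_injective (Finsupp.ext fun c => by
        have := congrArg (fun z => z.coeff (ι c)) h0
        simpa [w, H82.coeff_up hι] using this)
      have h2 := omega_blockElem e η
      rw [if_pos hη, h1] at h2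
      simp [omega, chiLin] at h2
    set E := Cfsg.blockOf M (χ : T → ℂ)
    have hE : Cfsg.IsPBlock M E := isPBlock_blockOf M χ
    refine ⟨E, hE, fun t => ?_⟩
    rw [← hw, ← coeff_blockElem]
    suffices hEw : blockElem E = w by rw [hEw]
    have hEE : blockElem E * w = blockElem E :=
      eq_of_omega_eq ((isCentralElt_blockElem E).mul hwc) (isCentralElt_blockElem E) fun ψ => by
        rw [omega_mul ψ.2 (isCentralElt_blockElem E), omega_blockElem]
        split_ifs with hψ
        · rw [one_mul, ← hχ]
          exact H82.eq_of_congr_zero_one hM (H82.omega_eq_zero_or_one hwc hw2 ψ)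
            (H82.omega_eq_zero_or_one hwc hw2 χ) (omega_congr hM
              (CharBasic.IsIrr.isClassFunction ψ.2) (CharBasic.IsIrr.isClassFunction χ.2)
              (sameBlock_symm hψ) hwc hwi)
        · rw [zero_mul]
    -- support inside the centralizer, from the theorem in `T`
    set P' := P.subgroupOf T
    have hP'C : ∀ t : T, t ∈ Subgroup.centralizer (P' : Set T) → (t : G) ∈ C := fun t ht =>
      Subgroup.mem_centralizer_iff.mpr fun q hq =>
        congrArg Subtype.val (Subgroup.mem_centralizer_iff.mp ht ⟨q, hPT hq⟩ hq)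
    have hsupp : ∀ t : T, (t : G) ∉ C → (blockElem E).coeff t = 0 := by
      intro t ht
      cases nonempty_fintype {f : Set (Cfsg.IrrCharacter (Subgroup.centralizer (P' : Set T))) //
        Cfsg.IsPBlock M f}
      rw [H82.blockElem_eq_sum_blockUp hM P' (hP.comap_subtype) hE,
        MonoidAlgebra.coeff_sum, Finsupp.finsetSum_apply]
      refine Finset.sum_eq_zero fun f _ => ?_
      simp only [H82.coeff_blockUp, Cfsg.subgroupBlockCoeff]
      rw [dif_neg fun h => ht (hP'C t h)]
    set v := ofFun fun c : C => (blockElem E).coeff (ι c)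
    have hv : blockElem E = H82.up ι v := by
      apply MonoidAlgebra.coeff_injective
      ext t
      by_cases ht : (t : G) ∈ C
      · rw [show t = ι ⟨t, ht⟩ from rfl, H82.coeff_up hι, coeff_ofFun]
      · rw [hsupp t ht, H82.coeff_up_of_notMem]
        rintro ⟨c, rfl⟩
        exact ht c.2
    have hup : Function.Injective (H82.up ι) := fun a b hab =>
      MonoidAlgebra.coeff_injective (Finsupp.ext fun c => by
        rw [← H82.coeff_up hι, hab, H82.coeff_up hι])
    have hvc : IsCentralElt v := isCentralElt_ofFun fun g h => by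
      show (blockElem E).coeff (ι (h * g * h⁻¹)) = (blockElem E).coeff (ι g)
      rw [show ι (h * g * h⁻¹) = ι h * ι g * (ι h)⁻¹ by simp]
      exact isCentralElt_blockElem E (ι g) (ι h)
    have hv2 : v * v = v := hup (by rw [map_mul, ← hv, blockElem_idem])
    have hve : v * blockElem e = v := hup (by rw [map_mul, ← hv]; exact hEE)
    have hv0 : v ≠ 0 := fun h0 => by
      rw [h0, map_zero] at hv
      have h2 := omega_blockElem E χ
      rw [if_pos (self_mem_blockOf hM χ), hv] at h2
      simp [omega, chiLin] at h2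
    rw [hv, H82.eq_blockElem_of_idem hM hBe.1.2 hvc hv2
      (fun c => by rw [coeff_ofFun]; exact isIntElt_blockElem hM hE _) hve hv0]
  · -- the orbit sum
    intro g
    let mk : G → {f : Set (Cfsg.IrrCharacter C) // Cfsg.IsPBlock M f} := fun x =>
      ⟨H82.conjSet C x e, H82.isPBlock_conjSet (hn x) hBe.1.2⟩
    set Ω := Finset.univ.image mk
    set s := Finset.univ.filter fun f : {f : Set (Cfsg.IrrCharacter C) // Cfsg.IsPBlock M f} =>
      Cfsg.IsBrauerPairOf p M B P f.1
    have hΩs : Ω ⊆ s := fun f hf => by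
      obtain ⟨x, -, rfl⟩ := Finset.mem_image.mp hf
      simp only [s, Finset.mem_filter, Finset.mem_univ, true_and, mk]
      exact H82.isBrauerPairOf_conjSet hM hBe (hn x)
    set O := ∑ f ∈ Ω, H82.blockUp C f.1
    have hOc : IsCentralElt O := H82.isCentralElt_sum_blockUp Ω fun x f hf f' hf' => by
      obtain ⟨y, -, rfl⟩ := Finset.mem_image.mp hf
      refine Finset.mem_image.mpr ⟨x * y, Finset.mem_univ _, Subtype.ext ?_⟩
      rw [hf']
      exact H82.conjSet_mul (hn x) (hn y) e
    obtain ⟨hΩc, hΩv⟩ := H82.omega_sum_blockElem hM Ω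
    obtain ⟨hsc, hsv⟩ := H82.omega_sum_blockElem hM s
    have hOup : O = H82.up C.subtype (∑ f ∈ Ω, blockElem f.1) := by
      simp only [O, map_sum, H82.blockUp_eq_up]
    have hO2 : O * O = O := by
      rw [hOup, ← map_mul]
      congr 1
      exact eq_of_omega_eq (hΩc.mul hΩc) hΩc fun χ => by
        rw [omega_mul χ.2 hΩc, hΩv]; split_ifs <;> simp
    have hOB : O * blockElem B = O := by
      have hB' : blockElem B = H82.up C.subtype (∑ f ∈ s, blockElem f.1) := by
        rw [H82.blockElem_eq_sum_blockUp hM P hP hBe.2.1, map_sum]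
        simp only [H82.blockUp_eq_up]
        rfl
      rw [hOup, hB', ← map_mul]
      congr 1
      exact eq_of_omega_eq (hΩc.mul hsc) hΩc fun χ => by
        rw [omega_mul χ.2 hΩc, hΩv, hsv]
        by_cases h : (⟨_, isPBlock_blockOf M χ⟩ :
            {f : Set (Cfsg.IrrCharacter C) // Cfsg.IsPBlock M f}) ∈ Ω
        · rw [if_pos h, if_pos (hΩs h), mul_one]
        · rw [if_neg h, zero_mul]
    have hOi : IsIntElt M O := fun x => by
      simp only [O, MonoidAlgebra.coeff_sum, Finsupp.finsetSum_apply]
      exact (locRing hM).sum_mem fun f _ => H82.isIntElt_blockUp hM f.2 x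
    have hO0 : O ≠ 0 := fun h0 => by
      obtain ⟨η, hη⟩ := isPBlock_nonempty hM hBe.1.2
      have h1 : (∑ f ∈ Ω, blockElem f.1) = 0 := MonoidAlgebra.coeff_injective (Finsupp.ext fun c => by
        rw [← H82.coeff_up C.subtype_injective, ← hOup, h0]; simp)
      have h2 := hΩv η
      rw [h1, if_pos (Finset.mem_image.mpr ⟨1, Finset.mem_univ _, Subtype.ext (by
        simp only [mk, H82.conjSet_one]
        exact isPBlock_eq_blockOf hM hBe.1.2 hη)⟩)] at h2
      simp [omega, chiLin] at h2
    rw [← coeff_blockElem, ← H82.eq_blockElem_of_idem hM hBe.2.1 hOc hO2 hOi hOB hO0]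
    have hterm : ∀ x : G, Cfsg.subgroupBlockCoeff C e (x⁻¹ * g * x) =
        (H82.blockUp C (mk x).1).coeff g := fun x => by
      rw [← H82.coeff_blockUp, ← H82.coeff_blockUp_conjSet (hn x) e]
      congr 1
      group
    refine (congrArg ((Nat.card T : ℂ)⁻¹ * ·) (Finset.sum_congr rfl fun x _ => hterm x)).trans ?_ |>.symm
    rw [← Finset.sum_fiberwise_of_maps_to (g := mk) (t := Ω)
      (fun x _ => Finset.mem_image_of_mem mk (Finset.mem_univ x))]
    have hfib : ∀ f ∈ Ω, ∑ x ∈ Finset.univ with mk x = f, (H82.blockUp C (mk x).1).coeff g =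
        (Nat.card T : ℂ) * (H82.blockUp C f.1).coeff g := by
      intro f hf
      obtain ⟨x₀, -, rfl⟩ := Finset.mem_image.mp hf
      rw [Finset.sum_congr rfl (g := fun _ => (H82.blockUp C (mk x₀).1).coeff g)
        (fun x hx => by rw [(Finset.mem_filter.mp hx).2]), Finset.sum_const, nsmul_eq_mul]
      congr 2
      rw [← Nat.card_eq_finsetCard]
      refine Nat.card_congr ((Equiv.mulLeft x₀⁻¹).subtypeEquiv fun x => ?_)
      simp only [Finset.mem_filter, Finset.mem_univ, true_and, Equiv.coe_mulLeft, hTconj, mk,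
        Subtype.mk.injEq]
      constructor
      · intro h
        rw [H82.conjSet_mul (hn _) (hn _), h, ← H82.conjSet_mul (hn _) (hn _), inv_mul_cancel,
          H82.conjSet_one]
      · intro h
        rw [show x = x₀ * (x₀⁻¹ * x) by group, H82.conjSet_mul (hn _) (hn _), h]
    rw [Finset.sum_congr rfl hfib, ← Finset.mul_sum, ← mul_assoc,
      inv_mul_cancel₀ (Nat.cast_ne_zero.mpr Nat.card_pos.ne'), one_mul]
    show _ = (∑ f ∈ Ω, H82.blockUp C f.1).coeff g
    rw [MonoidAlgebra.coeff_sum, Finsupp.finsetSum_apply]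

end Cfsg.Agent.S4654
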