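import Cfsg.Statements.S4658
import Cfsg.Agent.H82.BrauerPairs

set_option autoImplicit false
open Cfsg

namespace Cfsg.Agent.S4658

open Cfsg.Agent Cfsg.Agent.BlockBasic


/-- Fix a prime p and a maximal ideal M of the algebraic integers containing p. Let (Q, f) ≤ (P, e) be Brauer pairs of the finite group G and B a p-block of G. Then (P, e) is a Brauer pair of B if and only if (Q, f) is. -/
theorem result {G : Type*} [Group G] [Fintype G] (p : ℕ) [Fact p.Prime] (M : Ideal Cfsg.AlgInt) (hM : Cfsg.IsPModular p M) (P Q : Subgroup G) (e : Set (Cfsg.IrrCharacter (Subgroup.centralizer (P : Set G)))) (f : Set (Cfsg.IrrCharacter (Subgroup.centralizer (Q : Set G)))) (hPe : Cfsg.IsBrauerPair p M P e) (hQf : Cfsg.IsBrauerPair p M Q f) (hle : Cfsg.SubpairLE p M Q f P e) (B : Set (Cfsg.IrrCharacter G)) (hB : Cfsg.IsPBlock M B) : Cfsg.IsBrauerPairOf p M B P e ↔ Cfsg.IsBrauerPairOf p M B Q f := by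
  obtain ⟨ξ, hξ⟩ := isPBlock_nonempty hM hPe.2
  obtain ⟨η, hη⟩ := isPBlock_nonempty hM hQf.2
  have hc := isCentralElt_blockElem B
  have h := H82.brOmega_congr_of_subpairLE hM hle hPe hξ hη (H82.isInvElt_of_isCentralElt hc _)
    (H82.isInvElt_of_isCentralElt hc _) (isIntElt_blockElem hM hB)
  constructor
  · intro hP
    refine H82.isBrauerPairOf_of_mem hM hB hQf hη ?_
    have := memLocalIdeal_sub hM (H82.brOmega_blockElem_of_isBrauerPairOf hP hξ) h
    rwa [sub_sub_sub_cancel_left] at this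
  · intro hQ
    refine H82.isBrauerPairOf_of_mem hM hB hPe hξ ?_
    have := memLocalIdeal_add hM h (H82.brOmega_blockElem_of_isBrauerPairOf hQ hη)
    rwa [sub_add_sub_cancel] at this

end Cfsg.Agent.S4658
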