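import Cfsg.Statements.S4664
import Cfsg.Agent.BlockBasic.Orth
import Cfsg.Agent.BlockBasic.Basic

set_option autoImplicit false
open Cfsg

namespace Cfsg.Agent.S4664

/-- Fix a prime p and a maximal ideal M of the algebraic integers containing p, and let B be a p-block of the finite group G. Let m be the p'-part of the order of G and η = exp(2πi/m). Then every coefficient of the idempotent of B lies in the cyclotomic field ℚ(η). -/
theorem result {G : Type*} [Group G] [Fintype G] (p : ℕ) [Fact p.Prime] (M : Ideal Cfsg.AlgInt) (hM : Cfsg.IsPModular p M) (B : Set (Cfsg.IrrCharacter G)) (hB : Cfsg.IsPBlock M B) (g : G) : Cfsg.blockCoeff B g ∈ IntermediateField.adjoin ℚ ({Complex.exp (2 * Real.pi * Complex.I / ((Nat.card G / p ^ (Nat.card G).factorization p : ℕ) : ℂ))} : Set ℂ) := by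
  classical
  cases nonempty_fintype G
  by_cases hg : p ∣ orderOf g
  · rw [BlockBasic.blockCoeff_eq_zero_of_singular hM hB hg]
    exact zero_mem _
  have hp : p.Prime := Fact.out
  set m := Nat.card G / p ^ (Nat.card G).factorization p with hm
  set η : ℂ := Complex.exp (2 * Real.pi * Complex.I / (m : ℂ)) with hη
  set K := IntermediateField.adjoin ℚ ({η} : Set ℂ)
  have hm0 : m ≠ 0 := (Nat.ordCompl_pos p Nat.card_pos.ne').ne'
  have hdvd : orderOf g ∣ m :=
    Nat.Coprime.dvd_of_dvd_mul_left (Nat.Coprime.pow_right _ (hp.coprime_iff_not_dvd.2 hg).symm)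
      (by rw [Nat.ordProj_mul_ordCompl_eq_self]; exact orderOf_dvd_natCard g)
  have hval : ∀ (χ : Cfsg.IrrCharacter G) (x : G), orderOf x ∣ m → (χ : G → ℂ) x ∈ K := by
    intro χ x hx
    obtain ⟨n, ρ, -, he⟩ := χ.2
    obtain ⟨b, μ, -, hμ, hsum⟩ := CharBasic.exists_eigenbasis_rep ρ x
    rw [← he, hsum]
    refine sum_mem fun i _ => ?_
    haveI : NeZero m := ⟨hm0⟩
    obtain ⟨c, hc⟩ := hx
    have h1 : μ i ^ m = 1 := by rw [hc, pow_mul, hμ i, one_pow]
    obtain ⟨j, -, hj⟩ := (Complex.isPrimitiveRoot_exp m hm0).eq_pow_of_pow_eq_one h1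
    rw [← hj]
    exact pow_mem (IntermediateField.subset_adjoin ℚ _ (Set.mem_singleton η)) j
  unfold Cfsg.blockCoeff
  rw [BlockBasic.finsum_mem_eq_sum_ite]
  refine mul_mem (inv_mem (natCast_mem K _)) (sum_mem fun χ _ => ?_)
  split_ifs
  · refine mul_mem (hval χ 1 (by rw [orderOf_one]; exact one_dvd _)) ?_
    rw [BlockBasic.conj_apply_eq_inv]
    exact hval χ _ (by rwa [orderOf_inv])
  · exact zero_mem _

end Cfsg.Agent.S4664
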