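import Cfsg.Statements.S4666
import Cfsg.Agent.H83.RegInner

set_option autoImplicit false
open Cfsg

namespace Cfsg.Agent.S4666

/-- Fix a prime p and a maximal ideal M of the algebraic integers containing p, and a p-block B of the finite group G of defect d. For every integer combination χ of the irreducible characters in B, p^d times the function that agrees with χ on p-regular elements and vanishes elsewhere is again an integer combination of the irreducible characters in B. -/
theorem result {G : Type*} [Group G] [Fintype G] (p : ℕ) [Fact p.Prime] (M : Ideal Cfsg.AlgInt) (hM : Cfsg.IsPModular p M) (B : Set (Cfsg.IrrCharacter G)) (hB : Cfsg.IsPBlock M B) (χ : G → ℂ) (hχ : (∃ n : Cfsg.IrrCharacter G → ℤ, ∀ g : G, χ g = ∑ᶠ ψ ∈ B, (n ψ : ℂ) * (ψ : G → ℂ) g)) : (∃ n : Cfsg.IrrCharacter G → ℤ, ∀ g : G, (p ^ Cfsg.blockDefect p B : ℂ) * Cfsg.pRegularPart p χ g = ∑ᶠ ψ ∈ B, (n ψ : ℂ) * (ψ : G → ℂ) g) := by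
  classical
  obtain ⟨c, hc⟩ := hχ
  refine ⟨fun φ => ∑ ψ : Cfsg.IrrCharacter G, if ψ ∈ B then c ψ * H83.entry p B ψ φ else 0,
    fun g => ?_⟩
  have hpr : Cfsg.pRegularPart p χ g = ∑ ψ : Cfsg.IrrCharacter G,
      if ψ ∈ B then (c ψ : ℂ) * Cfsg.pRegularPart p (ψ : G → ℂ) g else 0 := by
    by_cases hg : p ∣ orderOf g
    · simp [H83.pRegularPart_eq_zero _ hg]
    · simp only [H83.pRegularPart_eq_self _ hg]
      rw [hc g, BlockBasic.finsum_mem_eq_sum_ite]
  rw [hpr, BlockBasic.finsum_mem_eq_sum_ite, Finset.mul_sum]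
  calc ∑ ψ : Cfsg.IrrCharacter G, (p : ℂ) ^ Cfsg.blockDefect p B *
        (if ψ ∈ B then (c ψ : ℂ) * Cfsg.pRegularPart p (ψ : G → ℂ) g else 0)
      = ∑ ψ : Cfsg.IrrCharacter G, ∑ φ : Cfsg.IrrCharacter G,
          if ψ ∈ B then (c ψ : ℂ) * (H83.entry p B ψ φ : ℂ) * (φ : G → ℂ) g else 0 := by
        refine Finset.sum_congr rfl fun ψ _ => ?_
        split_ifs with hψ
        · rw [mul_left_comm, ← H83.sum_entry_mul_apply hM hB hψ g, Finset.mul_sum]
          exact Finset.sum_congr rfl fun φ _ => by ring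
        · simp
    _ = _ := by
        rw [Finset.sum_comm]
        refine Finset.sum_congr rfl fun φ _ => ?_
        by_cases hφ : φ ∈ B
        · rw [if_pos hφ, Int.cast_sum, Finset.sum_mul]
          refine Finset.sum_congr rfl fun ψ _ => ?_
          split_ifs <;> simp
        · rw [if_neg hφ]
          refine Finset.sum_eq_zero fun ψ _ => ?_
          split_ifs with hψ
          · simp [H83.entry_eq_zero hM hB hψ hφ]
          · rfl

end Cfsg.Agent.S4666
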