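import Cfsg.Statements.S4668
import Cfsg.Agent.H24.NormalPSupport
import Cfsg.Agent.Coprime.Centralize
import Cfsg.Agent.BlockBasic.Orth

set_option autoImplicit false
open Cfsg

namespace Cfsg.Agent.S4668

/-- Fix a prime p and a maximal ideal M of the algebraic integers containing p. Let Q₀ < Q₁ < ⋯ < Q_m be a strictly increasing chain of p-subgroups of the finite group G and N the intersection of their normalizers. Then every block idempotent of N is supported on C_G(Q_m): for every p-block E of N, the idempotent coefficient of E vanishes at every element of N outside C_G(Q_m). -/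
theorem result {G : Type*} [Group G] [Fintype G] (p : ℕ) [Fact p.Prime] (M : Ideal Cfsg.AlgInt) (hM : Cfsg.IsPModular p M) (m : ℕ) (Q : Fin (m + 1) → Subgroup G) (hQ : StrictMono Q) (hQp : ∀ i, IsPGroup p (Q i)) (N : Subgroup G) (hN : ∀ g : G, g ∈ N ↔ ∀ i, g ∈ Subgroup.normalizer (Q i : Set G)) (E : Set (Cfsg.IrrCharacter N)) (hE : Cfsg.IsPBlock M E) (n : N) (hn : (n : G) ∉ Subgroup.centralizer (Q (Fin.last m) : Set G)) : Cfsg.blockCoeff E n = 0 := by
  classical
  have hp : p.Prime := Fact.out
  haveI := Fintype.ofFinite N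
  by_cases hreg : p ∣ orderOf (n : G)
  · exact BlockBasic.blockCoeff_eq_zero_of_singular hM hE (by rwa [Subgroup.orderOf_coe] at hreg)
  by_contra hne
  apply hn
  -- it centralises the subgroups of `N` inside `Q m` that are normal in `N`
  have hin : (n : G) ∈ Subgroup.centralizer ((Q (Fin.last m) ⊓ N : Subgroup G) : Set G) := by
    set R := (Q (Fin.last m) ⊓ N).subgroupOf N
    haveI : R.Normal := ⟨fun r hr x => by
      rw [Subgroup.mem_subgroupOf] at hr ⊢
      refine ⟨?_, (x * r * x⁻¹).2⟩
      simpa using (Subgroup.mem_normalizer_iff.1 ((hN _).1 x.2 (Fin.last m)) _).1 hr.1⟩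
    have hR : IsPGroup p R :=
      ((hQp (Fin.last m)).to_le inf_le_left).of_equiv (Subgroup.subgroupOfEquivOfLe inf_le_right).symm
    by_contra hc
    refine hne (H24.NormalPSupport.blockCoeff_eq_zero hM R hR hE fun h => hc ?_)
    rw [Subgroup.mem_centralizer_iff] at h ⊢
    intro r hr
    exact congrArg Subtype.val (h ⟨r, hr.2⟩ (Subgroup.mem_subgroupOf.2 hr))
  suffices ∀ i, (n : G) ∈ Subgroup.centralizer (Q i : Set G) from this _
  intro i
  induction i using Fin.induction with
  | zero =>
    refine Subgroup.centralizer_le (fun x hx => ?_) hin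
    refine ⟨hQ.monotone (Fin.zero_le _) hx, (hN x).2 fun j => ?_⟩
    exact Subgroup.le_normalizer (hQ.monotone (Fin.zero_le j) hx)
  | succ i ih =>
    have hlt : Q i.castSucc ≤ Q i.succ := (hQ (Fin.castSucc_lt_succ)).le
    have hz : Subgroup.zpowers (n : G) ≤ Subgroup.centralizer (Q i.succ : Set G) := by
      refine Coprime.thompson_AxB (hQp i.castSucc) ?_ ?_ (Q i.succ) (hQp _)
        (hlt.trans Subgroup.le_normalizer) (Subgroup.zpowers_le.2 ((hN _).1 n.2 _)) ?_
      · rw [Nat.card_zpowers]
        exact (hp.coprime_iff_not_dvd.2 hreg).symm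
      · rw [Subgroup.le_centralizer_iff]
        exact Subgroup.zpowers_le.2 ih
      · rw [Subgroup.le_centralizer_iff, Subgroup.zpowers_le]
        refine Subgroup.centralizer_le (fun x hx => ?_) hin
        refine ⟨hQ.monotone (Fin.le_last _) hx.1, (hN x).2 fun j => ?_⟩
        rcases le_or_gt j i.castSucc with hj | hj
        · exact Subgroup.centralizer_le_normalizer _
            (Subgroup.centralizer_le (fun y hy => hQ.monotone hj hy) hx.2)
        · exact Subgroup.le_normalizer (hQ.monotone (Fin.castSucc_lt_iff_succ_le.1 hj) hx.1)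
    exact hz (Subgroup.mem_zpowers _)

end Cfsg.Agent.S4668
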