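import Cfsg.Statements.S4670
import Cfsg.Agent.BlockBasic.BrauerCorr
open Cfsg.Agent.BlockBasic

set_option autoImplicit false
open Cfsg

namespace Cfsg.Agent.S4670

/-- Fix a prime p and a maximal ideal M of the algebraic integers containing p. Let P be a p-subgroup of the finite group G and H a subgroup containing N_G(P). For every p-block B of G with defect group P there is exactly one p-block c of H with defect group P whose idempotent agrees with that of B, modulo the local ideal at M, at every element of C_G(P) (their Brauer-map images at P coincide); and every p-block c of H with defect group P arises in this way from exactly one such B. This is the Brauer correspondence over H. -/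
theorem result {G : Type*} [Group G] [Fintype G] (p : ℕ) [Fact p.Prime] (M : Ideal Cfsg.AlgInt) (hM : Cfsg.IsPModular p M) (P H : Subgroup G) (hP : IsPGroup p P) (hH : Subgroup.normalizer (P : Set G) ≤ H) : (∀ B : Set (Cfsg.IrrCharacter G), Cfsg.IsPBlock M B → Cfsg.IsDefectGroup p M B P → ∃! c : Set (Cfsg.IrrCharacter H), Cfsg.IsPBlock M c ∧ Cfsg.IsDefectGroup p M c (P.subgroupOf H) ∧ ∀ x : G, x ∈ Subgroup.centralizer (P : Set G) → Cfsg.MemLocalIdeal M (Cfsg.blockCoeff B x - Cfsg.subgroupBlockCoeff H c x)) ∧ (∀ c : Set (Cfsg.IrrCharacter H), Cfsg.IsPBlock M c → Cfsg.IsDefectGroup p M c (P.subgroupOf H) → ∃! B : Set (Cfsg.IrrCharacter G), Cfsg.IsPBlock M B ∧ Cfsg.IsDefectGroup p M B P ∧ ∀ x : G, x ∈ Subgroup.centralizer (P : Set G) → Cfsg.MemLocalIdeal M (Cfsg.blockCoeff B x - Cfsg.subgroupBlockCoeff H c x)) := by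
  classical
  haveI := Fintype.ofFinite H
  haveI := Fintype.ofFinite ↥(P ⊔ Subgroup.centralizer (P : Set G))
  haveI := Fintype.ofFinite ↥((P ⊔ Subgroup.centralizer (P : Set G)).subgroupOf H)
  have S : LocalPair p P (P ⊔ Subgroup.centralizer (P : Set G)) H :=
    ⟨hP, le_sup_left, le_sup_right, sup_centralizer_le_normalizer P, normalizer_le_normalizer_sup P, hH⟩
  have S' := S.sub
  have hPH : P ≤ H := S.le.trans S.le_sub
  constructor
  · intro B hB hBP
    obtain ⟨g, hloc, hg⟩ := exists_localClass hBP
    obtain ⟨ξ, hξ⟩ := exists_root hM hP S.le S.centralizer_le S.le_normalizer hB hloc.1 hg.2.1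
    obtain ⟨c, hc⟩ := inducedBlockDefined hM S'.isPGroup S'.le S'.centralizer_le S'.le_normalizer
      (isPBlock_blockOf M (pullChar S.le_sub ξ))
    have hcong := fun x hx => coeff_congr_of_pair hM S hξ hc hBP (x := x) hx
    refine ⟨c, ⟨hc.2.1, isDefectGroup_down hM S hξ hc hBP, hcong⟩, ?_⟩
    rintro c' ⟨hc', -, hcong'⟩
    refine isInducedBlock_unique hM ((induced_iff_brauer_unit hM S'.isPGroup S'.le S'.centralizer_le
      S'.le_normalizer hc' (pullChar S.le_sub ξ)).2 fun hm => ?_) hc
    apply (induced_iff_brauer_unit hM S'.isPGroup S'.le S'.centralizer_le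
      S'.le_normalizer hc.2.1 (pullChar S.le_sub ξ)).1 hc
    have hd : MemLocalIdeal M (omega (pullChar S.le_sub ξ : (P ⊔ Subgroup.centralizer (P : Set G)).subgroupOf H → ℂ)
        (brauerMap (P.subgroupOf H) _ (blockElem c) - brauerMap (P.subgroupOf H) _ (blockElem c'))) := by
      refine memLocalIdeal_omega hM (pullChar S.le_sub ξ).2
        ((isCentralElt_brauerMap S'.le_normalizer (isCentralElt_blockElem c)).sub
          (isCentralElt_brauerMap S'.le_normalizer (isCentralElt_blockElem c'))) fun u => ?_
      rw [mul_comm]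
      refine memLocalIdeal_mul hM (memLocalRing_centralChar hM (pullChar S.le_sub ξ).2 u) ?_
      rw [MonoidAlgebra.coeff_sub, Finsupp.sub_apply, coeff_brauerMap, coeff_brauerMap]
      split_ifs with hu
      · have hu' := (coe_mem_centralizer_iff hPH (u : H)).1 hu
        have h1 := memLocalIdeal_sub hM (hcong' _ hu') (hcong _ hu')
        rw [coeff_blockElem, coeff_blockElem]
        simp only [subgroupBlockCoeff, dif_pos ((u : H).2), sub_sub_sub_cancel_left] at h1
        exact h1
      · simpa using memLocalIdeal_zero hM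
    rw [omega_sub] at hd
    simpa using memLocalIdeal_add hM hd hm
  · intro c hc hcP
    obtain ⟨h, hloc, hh⟩ := exists_localClass hcP
    obtain ⟨η, hη⟩ := exists_root hM S'.isPGroup S'.le S'.centralizer_le S'.le_normalizer hc hloc.1
      hh.2.1
    obtain ⟨ξ, rfl⟩ := pullChar_surjective S.le_sub η
    obtain ⟨B, hB⟩ := inducedBlockDefined hM hP S.le S.centralizer_le S.le_normalizer
      (isPBlock_blockOf M ξ)
    have hBP := isDefectGroup_up hM S hB hη hcP
    have hcong := fun x hx => coeff_congr_of_pair hM S hB hη hBP (x := x) hx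
    refine ⟨B, ⟨hB.2.1, hBP, hcong⟩, ?_⟩
    rintro B' ⟨hB', -, hcong'⟩
    refine isInducedBlock_unique hM ((induced_iff_brauer_unit hM hP S.le S.centralizer_le
      S.le_normalizer hB' ξ).2 fun hm => ?_) hB
    apply (induced_iff_brauer_unit hM hP S.le S.centralizer_le S.le_normalizer hB.2.1 ξ).1 hB
    have hd : MemLocalIdeal M (omega (ξ : ↥(P ⊔ Subgroup.centralizer (P : Set G)) → ℂ)
        (brauerMap P (P ⊔ Subgroup.centralizer (P : Set G)) (blockElem B) -
          brauerMap P _ (blockElem B'))) := by
      refine memLocalIdeal_omega hM ξ.2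
        ((isCentralElt_brauerMap S.le_normalizer (isCentralElt_blockElem B)).sub
          (isCentralElt_brauerMap S.le_normalizer (isCentralElt_blockElem B'))) fun u => ?_
      rw [mul_comm]
      refine memLocalIdeal_mul hM (memLocalRing_centralChar hM ξ.2 u) ?_
      rw [MonoidAlgebra.coeff_sub, Finsupp.sub_apply, coeff_brauerMap, coeff_brauerMap]
      split_ifs with hu
      · rw [coeff_blockElem, coeff_blockElem]
        simpa using memLocalIdeal_sub hM (hcong _ hu) (hcong' _ hu)
      · simpa using memLocalIdeal_zero hM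
    rw [omega_sub] at hd
    simpa using memLocalIdeal_add hM hd hm

end Cfsg.Agent.S4670
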