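import Cfsg.Statements.S4672
import Cfsg.Agent.BlockBasic.InvariantBlock
import Cfsg.Agent.BlockBasic.Covering

set_option autoImplicit false
open Cfsg

namespace Cfsg.Agent.S4672

/-- Fix a prime p and a maximal ideal M of the algebraic integers containing p. Let N be a normal subgroup of the finite group G of p-power index and c a p-block of N stable under conjugation by G. Then the idempotent of c is a block idempotent of G: there is a p-block B of G whose idempotent coefficients agree with those of c on N and vanish off N; and for every defect group P of such a block B, G = NP and P ∩ N is a defect group of c. -/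
theorem result {G : Type*} [Group G] [Fintype G] (p : ℕ) [Fact p.Prime] (M : Ideal Cfsg.AlgInt) (hM : Cfsg.IsPModular p M) (N : Subgroup G) [N.Normal] (hN : ∃ k : ℕ, N.index = p ^ k) (c : Set (Cfsg.IrrCharacter N)) (hc : Cfsg.IsPBlock M c) (hst : ∀ x : G, Cfsg.StabilizesBlock N c x) : (∃ B : Set (Cfsg.IrrCharacter G), Cfsg.IsPBlock M B ∧ ∀ g : G, Cfsg.blockCoeff B g = Cfsg.subgroupBlockCoeff N c g) ∧ ∀ B : Set (Cfsg.IrrCharacter G), Cfsg.IsPBlock M B → (∀ g : G, Cfsg.blockCoeff B g = Cfsg.subgroupBlockCoeff N c g) → ∀ P : Subgroup G, Cfsg.IsDefectGroup p M B P → N ⊔ P = ⊤ ∧ Cfsg.IsDefectGroup p M c ((P ⊓ N).subgroupOf N) := by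
  classical
  haveI := Fintype.ofFinite N
  obtain ⟨θ, hθc⟩ := BlockBasic.isPBlock_nonempty hM hc
  have hinv : ∀ g : G, ∀ η ∈ c, H80.conjTwist N η g ∈ c := by
    intro g η hη
    obtain ⟨η', hη', hconj⟩ := (hst g⁻¹).2 η hη
    have : η' = H80.conjTwist N η g := by
      apply Subtype.ext
      funext k
      rw [H80.conjTwist_apply]
      exact hconj ⟨g * k * g⁻¹, (inferInstance : N.Normal).conj_mem k k.2 g⟩ k
        (by simp [mul_assoc])
    exact this ▸ hη'
  have hO : BlockBasic.twistOrbit N M θ = c := by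
    ext ψ
    constructor
    · rintro ⟨d, hd⟩
      rw [BlockBasic.isPBlock_eq_blockOf hM hc (hinv d θ hθc)]
      exact hd
    · intro h
      exact ⟨1, by rw [BlockBasic.conjTwist_one]; exact BlockBasic.isPBlock_sameBlock hM hc hθc h⟩
  have hcoef : ∀ g, (BlockBasic.orbitElem N M θ).coeff g = Cfsg.subgroupBlockCoeff N c g := by
    intro g
    simp only [BlockBasic.orbitElem, BlockBasic.coeff_ofFun, Cfsg.subgroupBlockCoeff, hO]
  obtain ⟨B, hB, hcov⟩ := BlockBasic.exists_covering_block hM N hc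
  have hmem : ∀ χ : Cfsg.IrrCharacter G, χ ∈ B ↔ ∃ φ ∈ c,
      Cfsg.classInner (fun n : N => (χ : G → ℂ) n) (φ : N → ℂ) ≠ 0 := by
    intro χ
    constructor
    · intro hχ
      obtain ⟨χ₁, hχ₁, θ₁, hθ₁, hne⟩ := hcov
      obtain ⟨φ, hφ⟩ := BlockBasic.exists_constituent χ N
      refine ⟨φ, ?_, hφ⟩
      obtain ⟨d, hd⟩ := BlockBasic.mem_twistOrbit hM hB hχ₁ hχ hne hφ
      rw [BlockBasic.isPBlock_eq_blockOf hM hc (hinv d θ₁ hθ₁)]
      exact hd
    · rintro ⟨φ, hφ, hne⟩
      rw [BlockBasic.covering_block_unique hM hN hc hB (BlockBasic.isPBlock_blockOf M χ) hcov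
        ⟨χ, BlockBasic.self_mem_blockOf hM χ, φ, hφ, hne⟩]
      exact BlockBasic.self_mem_blockOf hM χ
  have hBE : BlockBasic.blockElem B = BlockBasic.orbitElem N M θ :=
    BlockBasic.eq_of_omega_eq (BlockBasic.isCentralElt_blockElem B)
      (BlockBasic.orbitElem_spec N hM θ).1 fun χ => by
        rw [BlockBasic.omega_blockElem, BlockBasic.omega_orbitElem_eq hM, hO]
        simp only [hmem]
  refine ⟨⟨B, hB, fun g => by rw [← BlockBasic.coeff_blockElem, hBE, hcoef]⟩, ?_⟩
  intro B' hB' hcoef' P hP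
  have hBB : B' = B := by
    ext χ
    have h1 : BlockBasic.blockElem B' = BlockBasic.blockElem B := by
      apply MonoidAlgebra.coeff_injective
      ext g
      rw [BlockBasic.coeff_blockElem, hcoef', hBE, hcoef]
    have h2 := congrArg (BlockBasic.omega (χ : G → ℂ)) h1
    rw [BlockBasic.omega_blockElem, BlockBasic.omega_blockElem] at h2
    by_cases h : χ ∈ B' <;> by_cases h' : χ ∈ B <;> simp_all
  subst hBB
  obtain ⟨hidx, hdef, -⟩ := BlockBasic.covering_max_defect hM hc hinv hB hcov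
    (fun B'' hB'' h => by rw [BlockBasic.covering_block_unique hM hN hc hB'' hB h hcov]) hP
  refine ⟨?_, hdef⟩
  obtain ⟨k, hk⟩ := hN
  obtain ⟨j, -, hj⟩ := (Nat.dvd_prime_pow (Fact.out : p.Prime)).1
    (hk ▸ Subgroup.index_dvd_of_le (le_sup_right : N ≤ P ⊔ N))
  rw [sup_comm, ← Subgroup.index_eq_one]
  rcases j with _ | j
  · simpa using hj
  · exact absurd (hj ▸ dvd_pow_self p (Nat.succ_ne_zero j)) hidx

end Cfsg.Agent.S4672
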