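import Cfsg.Statements.S4673
import Cfsg.Agent.BlockBasic.DefectInNormal
-- import your own Cfsg.Agent.* helpers here

set_option autoImplicit false
open Cfsg Cfsg.Agent Cfsg.Agent.BlockBasic Cfsg.Agent.CharBasic

namespace Cfsg.Agent.S4673

/-- Fix a prime p and a maximal ideal M of the algebraic integers containing p. Let N ≤ L be normal subgroups of the finite group G with L/N a p-group, let B be a p-block of G covering the p-block c of N (some member of B has a constituent in c on restriction to N), and suppose that N contains a defect group of B. Then the stabilizer T of c in G satisfies T ∩ L = N. -/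
theorem result {G : Type*} [Group G] [Fintype G] (p : ℕ) [Fact p.Prime] (M : Ideal Cfsg.AlgInt) (hM : Cfsg.IsPModular p M) (N L : Subgroup G) [N.Normal] [L.Normal] [Fintype N] (hNL : N ≤ L) (hLN : ∃ k : ℕ, (N.subgroupOf L).index = p ^ k) (B : Set (Cfsg.IrrCharacter G)) (hB : Cfsg.IsPBlock M B) (c : Set (Cfsg.IrrCharacter N)) (hc : Cfsg.IsPBlock M c) (hcov : (∃ χ ∈ B, ∃ θ ∈ c, Cfsg.classInner (fun n : N => (χ : G → ℂ) n) (θ : N → ℂ) ≠ 0)) (hD : ∃ D : Subgroup G, Cfsg.IsDefectGroup p M B D ∧ D ≤ N) (T : Subgroup G) (hT : ∀ x : G, x ∈ T ↔ Cfsg.StabilizesBlock N c x) : T ⊓ L = N := by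
  classical
  haveI : Fintype L := Fintype.ofFinite _
  have hnorm : ∀ x : G, x ∈ Subgroup.normalizer (N : Set G) := fun x => by
    rw [Subgroup.normalizer_eq_top_iff.2 ‹N.Normal›]; exact Subgroup.mem_top x
  -- the stabilizer in terms of conjugate characters
  have hstab : ∀ x : G, x ∈ T ↔ ∀ θ ∈ c, H80.conjTwist N θ x⁻¹ ∈ c := by
    intro x
    rw [hT]
    constructor
    · rintro ⟨-, h⟩ θ hθ
      obtain ⟨θ', hθ', hrel⟩ := h θ hθ
      have : θ' = H80.conjTwist N θ x⁻¹ := by
        apply Subtype.ext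
        funext k
        rw [H80.conjTwist_apply]
        exact hrel _ k (by simp [mul_assoc])
      exact this ▸ hθ'
    · intro h
      refine ⟨hnorm x, fun θ hθ => ⟨_, h θ hθ, fun k k' hk => ?_⟩⟩
      rw [H80.conjTwist_apply]
      exact congrArg _ (Subtype.ext (by simp [hk, mul_assoc]))
  obtain ⟨χ, hχ, θ, hθc, hθ⟩ := hcov
  have hself : ∀ n ∈ N, ∀ φ : Cfsg.IrrCharacter N, H80.conjTwist N φ n = φ := by
    intro n hn φ
    apply Subtype.ext
    funext k
    rw [H80.conjTwist_apply]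
    exact IsIrr.isClassFunction φ.2 k ⟨n, hn⟩
  refine le_antisymm ?_ (le_inf (fun n hn => (hstab n).2 fun φ hφ => by
    rw [hself _ (N.inv_mem hn)]; exact hφ) hNL)
  rintro x ⟨hxT, hxL⟩
  -- reduce to the `p`-part
  set N' := N.subgroupOf L
  haveI : N'.Normal := Subgroup.Normal.subgroupOf ‹N.Normal› L
  haveI : Fintype N' := Fintype.ofFinite _
  set xL : L := ⟨x, hxL⟩
  have hregN : ((pReg (p := p) xL : L) : G) ∈ N :=
    Subgroup.mem_subgroupOf.1 (mem_of_regular (N := N') hLN (not_dvd_orderOf_pReg xL))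
  suffices hpp : ((pPart (p := p) xL : L) : G) ∈ N by
    have h1 := N.mul_mem hpp hregN
    rw [← Subgroup.coe_mul, pPart_mul_pReg] at h1
    exact h1
  -- the block of `L` below `B` over `θ`
  obtain ⟨ψ, hψχ, hψθ⟩ : ∃ ψ : Cfsg.IrrCharacter L,
      Cfsg.classInner (fun l : L => (χ : G → ℂ) l) (ψ : L → ℂ) ≠ 0 ∧
        Cfsg.classInner (fun n : N => (ψ : L → ℂ) (Subgroup.inclusion hNL n)) (θ : N → ℂ) ≠ 0 := by
    by_contra hcon
    push Not at hcon
    apply hθ
    have hcl : Cfsg.IsClassFunction L (fun l : L => (χ : G → ℂ) l) :=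
      fun a b => IsIrr.isClassFunction χ.2 (a : G) (b : G)
    have hexp := classFunction_expansion hcl
    have : (fun n : N => (χ : G → ℂ) n) = ∑ ψ : Cfsg.IrrCharacter L,
        Cfsg.classInner (fun l : L => (χ : G → ℂ) l) (ψ : L → ℂ) •
          fun n : N => (ψ : L → ℂ) (Subgroup.inclusion hNL n) := by
      funext n
      have h1 := congrFun hexp (Subgroup.inclusion hNL n)
      simpa [Finset.sum_apply] using h1
    rw [this, classInner_sum_left]
    refine Finset.sum_eq_zero fun ψ _ => ?_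
    rw [classInner_smul_left]
    by_cases h0 : Cfsg.classInner (fun l : L => (χ : G → ℂ) l) (ψ : L → ℂ) = 0
    · rw [h0, zero_mul]
    · rw [hcon ψ h0, mul_zero]
  set β := Cfsg.blockOf M (ψ : L → ℂ)
  have hβ : Cfsg.IsPBlock M β := isPBlock_blockOf M ψ
  -- a defect group of that block inside `N`
  obtain ⟨D, hD, hDN⟩ := hD
  obtain ⟨g, hg⟩ := exists_isDefectClass (p := p) hM hβ
  set E := H35.sylImage (default : Sylow p (Subgroup.centralizer ({g} : Set L)))
  have hE : Cfsg.IsDefectGroup p M β E := ⟨g, hg, default, rfl⟩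
  have hEL : (E.map L.subtype).subgroupOf L = E :=
    Subgroup.comap_map_eq_self_of_injective L.subtype_injective E
  obtain ⟨Q, hQ, hQE⟩ := exists_defectGroup_inf_eq hM hβ (Subgroup.map_subtype_le E)
    (hEL.symm ▸ hE) hB ⟨χ, hχ, ψ, self_mem_blockOf hM ψ, hψχ⟩
  obtain ⟨d, hd⟩ := H35.defectGroup_le_conj hM hB hD hQ
  have hEN : E ≤ N' := fun e he => by
    have h1 : (e : G) ∈ Q := ((hQE.ge) (Subgroup.mem_map_of_mem _ he)).1
    obtain ⟨y, hy, hye⟩ := Subgroup.mem_map.1 (hd h1)
    rw [Subgroup.mem_subgroupOf, ← hye]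
    exact Subgroup.Normal.conj_mem ‹N.Normal› y (hDN hy) d
  -- transport the covered character
  let e : N' ≃* N := Subgroup.subgroupOfEquivOfLe hNL
  let θ' : Cfsg.IrrCharacter N' :=
    ⟨fun n => (θ : N → ℂ) (e n), CharInduce.IsIrr.comp θ.2 e.toMonoidHom e.surjective⟩
  have hθ' : Cfsg.classInner (fun n : N' => (ψ : L → ℂ) n) (θ' : N' → ℂ) ≠ 0 := by
    convert hψθ using 1
    simp only [classInner_def, Nat.card_congr e.toEquiv]
    congr 1
    exact Fintype.sum_equiv e.toEquiv _ _ fun n => rfl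
  set a := pPart (p := p) xL
  have ha : (a : G) ∈ T := by
    have h1 : ((pReg (p := p) xL : L) : G) ∈ T := (hstab _).2 fun φ hφ => by
      rw [hself _ (N.inv_mem hregN)]; exact hφ
    have h2 : (a : G) = x * ((pReg (p := p) xL : L) : G)⁻¹ := by
      rw [eq_mul_inv_iff_mul_eq, ← Subgroup.coe_mul, pPart_mul_pReg]
    rw [h2]
    exact T.mul_mem hxT (T.inv_mem h1)
  refine Subgroup.mem_subgroupOf.1 (mem_of_fixed_block hM hLN hβ hE hEN (self_mem_blockOf hM ψ)
    hθ' (exists_orderOf_pPart xL) ?_)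
  have h3 : H80.conjTwist N θ (a : G) ∈ c := by
    have := (hstab (a : G)⁻¹).1 (T.inv_mem ha) θ hθc
    rwa [inv_inv] at this
  have h4 := isPBlock_sameBlock hM hc h3 hθc
  intro n
  have e1 : (H80.conjTwist N' θ' a : N' → ℂ) =
      fun n => (H80.conjTwist N θ (a : G) : N → ℂ) (e n) := by
    funext m
    rw [H80.conjTwist_apply, H80.conjTwist_apply]
    rfl
  rw [e1, centralChar_comp_equiv e, show (θ' : N' → ℂ) = fun n => (θ : N → ℂ) (e n) from rfl,
    centralChar_comp_equiv e]
  exact h4 (e n)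

end Cfsg.Agent.S4673
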