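import Cfsg.Statements.S4674
import Cfsg.Agent.BlockBasic.InducedIn

set_option autoImplicit false
open Cfsg Cfsg.Agent Cfsg.Agent.BlockBasic Cfsg.Agent.CharBasic

namespace Cfsg.Agent.S4674

theorem main {G : Type*} [Group G] [Fintype G] (p : ℕ) [Fact p.Prime] (M : Ideal Cfsg.AlgInt) (hM : Cfsg.IsPModular p M) (N : Subgroup G) [N.Normal] [Fintype N] (Q : Subgroup G) (hQ : IsPGroup p Q) (hQN : Q ≤ N) (A : Subgroup G) (hA : Subgroup.normalizer (Q : Set G) ⊓ N = A) (hAH : A ≤ Subgroup.normalizer (Q : Set G)) [Fintype A] (d : Set (Cfsg.IrrCharacter N)) (hd : Cfsg.IsPBlock M d) (hdQ : Cfsg.IsDefectGroup p M d (Q.subgroupOf N)) (e : Set (Cfsg.IrrCharacter ↥A)) (he : Cfsg.IsPBlock M e) (heQ : Cfsg.IsDefectGroup p M e (Q.subgroupOf A)) (hed : Cfsg.IsInducedBlockIn M N A e d) : (∀ c : Set (Cfsg.IrrCharacter ↥(Subgroup.normalizer (Q : Set G))), Cfsg.IsPBlock M c → (∃ ψ ∈ c, ∃ ξ ∈ e, Cfsg.classInner (fun l : ↥A => (ψ : ↥(Subgroup.normalizer (Q :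 Set G)) → ℂ) (Subgroup.inclusion hAH l)) (ξ : ↥A → ℂ) ≠ 0) → ∃! B : Set (Cfsg.IrrCharacter G), Cfsg.IsInducedBlock M (Subgroup.normalizer (Q : Set G)) c B ∧ (∃ χ ∈ B, ∃ θ ∈ d, Cfsg.classInner (fun n : N => (χ : G → ℂ) n) (θ : N → ℂ) ≠ 0)) ∧ (∀ B : Set (Cfsg.IrrCharacter G), Cfsg.IsPBlock M B → (∃ χ ∈ B, ∃ θ ∈ d, Cfsg.classInner (fun n : N => (χ : G → ℂ) n) (θ : N → ℂ) ≠ 0) → ∃! c : Set (Cfsg.IrrCharacter ↥(Subgroup.normalizer (Q : Set G))), (Cfsg.IsPBlock M c ∧ ∃ ψ ∈ c, ∃ ξ ∈ e, Cfsg.classInner (fun l : ↥A => (ψ : ↥(Subgroup.normalizer (Q : Set G)) → ℂ) (Subgroup.inclusion hAH l)) (ξ : ↥A → ℂ) ≠ 0) ∧ Cfsg.IsInducedBlock M (Subgroup.normalizer (Q : Set G)) c B) := by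
  classical
  haveI : Fintype ↥(Subgroup.normalizer (Q : Set G)) := Fintype.ofFinite _
  have hAN : A ≤ N := hA ▸ inf_le_right
  have hQH : Q ≤ Subgroup.normalizer (Q : Set G) := Subgroup.le_normalizer
  have hQA : Q ≤ A := hA ▸ le_inf hQH hQN
  have hCH : Subgroup.centralizer (Q : Set G) ≤ Subgroup.normalizer (Q : Set G) :=
    Subgroup.centralizer_le_normalizer _
  haveI : Fintype ↥(A.subgroupOf N) := Fintype.ofFinite _
  haveI : Fintype ↥(A.subgroupOf (Subgroup.normalizer (Q : Set G))) := Fintype.ofFinite _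
  -- facts inside `N`
  have hQ' : IsPGroup p (Q.subgroupOf N) :=
    hQ.comap_of_injective N.subtype (Subgroup.subtype_injective N)
  have hnormN : Subgroup.normalizer (Q.subgroupOf N : Set N) = A.subgroupOf N := by
    ext x
    rw [Subgroup.mem_subgroupOf, ← hA, Subgroup.mem_inf, Subgroup.mem_normalizer_iff,
      Subgroup.mem_normalizer_iff]
    refine ⟨fun h => ⟨fun y => ?_, x.2⟩, fun h y => h.1 (y : G)⟩
    by_cases hy : y ∈ N
    · exact h ⟨y, hy⟩
    · have h1 : y ∉ Q := fun h' => hy (hQN h')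
      have h2 : (x : G) * y * (x : G)⁻¹ ∉ Q := fun h' => hy (by
        simpa [mul_assoc] using N.mul_mem (N.mul_mem (N.inv_mem x.2) (hQN h')) x.2)
      simp [h1, h2]
  have hQAN : Q.subgroupOf N ≤ A.subgroupOf N := fun x hx => hQA hx
  have hCAN : Subgroup.centralizer (Q.subgroupOf N : Set N) ≤ A.subgroupOf N :=
    hnormN ▸ Subgroup.centralizer_le_normalizer _
  have hANN : A.subgroupOf N ≤ Subgroup.normalizer (Q.subgroupOf N : Set N) := hnormN.ge
  obtain ⟨ξ₀, hξ₀⟩ := isPBlock_nonempty hM he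
  obtain ⟨θ₀, hθ₀⟩ := isPBlock_nonempty hM hd
  have hed' : Cfsg.IsInducedBlock M (A.subgroupOf N)
      (Cfsg.blockOf M (pullChar hAN ξ₀ : A.subgroupOf N → ℂ)) d := by
    rw [← isInducedBlockIn_iff hM hAN, ← isPBlock_eq_blockOf hM he hξ₀]
    exact hed
  -- the central character of an induced block on `N`
  have hω : ∀ {η : Cfsg.IrrCharacter ↥(Subgroup.normalizer (Q : Set G))}
      {B : Set (Cfsg.IrrCharacter G)},
      Cfsg.IsInducedBlock M (Subgroup.normalizer (Q : Set G)) (Cfsg.blockOf M (η : _ → ℂ)) B →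
      ∀ {ξ : Cfsg.IrrCharacter A}, Cfsg.classInner
        (fun a : A => (η : ↥(Subgroup.normalizer (Q : Set G)) → ℂ) (Subgroup.inclusion hAH a))
        (ξ : A → ℂ) ≠ 0 →
      ∀ {f : Set (Cfsg.IrrCharacter N)},
      Cfsg.IsInducedBlock M (A.subgroupOf N)
        (Cfsg.blockOf M (pullChar hAN ξ : A.subgroupOf N → ℂ)) f →
      ∀ {θ : Cfsg.IrrCharacter N}, θ ∈ f → ∀ {χ : Cfsg.IrrCharacter G}, χ ∈ B → ∀ n : N,
        Cfsg.MemLocalIdeal M (Cfsg.centralChar (χ : G → ℂ) (n : G) -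
          Cfsg.inducedCentralChar N (θ : N → ℂ) (n : G)) := by
    intro η B hB ξ hξ f hf θ hθ χ hχ n
    have h1 := hB.2.2 η (self_mem_blockOf hM η) χ hχ (n : G)
    rw [inducedCentralChar_eq_of_constituent hAH η ξ hξ fun x hx => by
      obtain ⟨c, hc⟩ := isConj_iff.1 hx
      exact hA ▸ ⟨x.2, hc ▸ Subgroup.Normal.conj_mem ‹N.Normal› _ n.2 c⟩] at h1
    have h2 := inducedCentralChar_trans hM hAN hf hθ (n : G)
    convert memLocalIdeal_sub hM h2 h1 using 1
    ring
  constructor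
  · -- induction from `N(Q)` covers `d`
    rintro c hc ⟨ψ, hψ, ξ, hξ, hψξ⟩
    obtain ⟨B, hB⟩ := inducedBlockDefined hM hQ hQH hCH le_rfl hc
    refine ⟨B, ⟨hB, ?_⟩, fun B' hB' => isInducedBlock_unique hM hB'.1 hB⟩
    obtain ⟨χ, hχ⟩ := isPBlock_nonempty hM hB.2.1
    have hBψ : Cfsg.IsInducedBlock M (Subgroup.normalizer (Q : Set G))
        (Cfsg.blockOf M (ψ : _ → ℂ)) B := isPBlock_eq_blockOf hM hc hψ ▸ hB
    have hedξ : Cfsg.IsInducedBlock M (A.subgroupOf N)
        (Cfsg.blockOf M (pullChar hAN ξ : A.subgroupOf N → ℂ)) d := by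
      rw [← isInducedBlockIn_iff hM hAN, ← isPBlock_eq_blockOf hM he hξ]
      exact hed
    obtain ⟨φ, hφ⟩ := exists_constituent χ N
    obtain ⟨t, ht⟩ := exists_twist_sameBlock hM (θ := θ₀) (φ := φ) fun n => by
      rw [← (classInner_ne_zero_iff_centralChar χ φ).1 hφ n]
      simpa using memLocalIdeal_neg (hω hBψ hψξ hedξ hθ₀ hχ n)
    refine ⟨χ, hχ, H80.conjTwist N φ t, ?_, ?_⟩
    · rw [isPBlock_eq_blockOf hM hd hθ₀]
      exact sameBlock_symm ht
    · rw [H80.classInner_res_conjTwist N (IsIrr.isClassFunction χ.2) φ t]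
      exact hφ
  · rintro B hB ⟨χ, hχ, θ, hθd, hθ⟩
    -- an element witnessing the defect group of `d`
    obtain ⟨g₀, hloc₀, hg₀⟩ := exists_localClass hdQ
    have hQg₀ : ∀ q ∈ Q, q * (g₀ : G) = (g₀ : G) * q := fun q hq =>
      congrArg Subtype.val (Subgroup.mem_centralizer_iff.1 hloc₀.1 (⟨q, hQN hq⟩ : N)
        (Subgroup.mem_subgroupOf.2 hq))
    have hdθ := isPBlock_eq_blockOf hM hd hθd
    obtain ⟨h, hh, hQh⟩ := exists_blockCoeff_ne_of_covers hM hB hχ hθ hQN hQ (g₀ := g₀)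
      (hdθ ▸ hg₀.2.1) hQg₀
    obtain ⟨η, hη⟩ := exists_root hM hQ hQH hCH le_rfl hB (h := h)
      (Subgroup.mem_centralizer_iff.2 fun q hq =>
        Subgroup.mem_centralizer_singleton_iff.1 (hQh hq)) hh
    -- a constituent below it and its induced block of `N`
    obtain ⟨ξ', hξ'⟩ : ∃ ξ : Cfsg.IrrCharacter A, Cfsg.classInner
        (fun a : A => (η : ↥(Subgroup.normalizer (Q : Set G)) → ℂ) (Subgroup.inclusion hAH a))
        (ξ : A → ℂ) ≠ 0 := by
      obtain ⟨ζ, hζ⟩ := exists_constituent η (A.subgroupOf (Subgroup.normalizer (Q : Set G)))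
      obtain ⟨ξ, rfl⟩ := pullChar_surjective hAH ζ
      refine ⟨ξ, ?_⟩
      convert hζ using 1
      simp only [classInner_def, Nat.card_congr (Subgroup.subgroupOfEquivOfLe hAH).toEquiv]
      congr 1
      exact (Fintype.sum_equiv (Subgroup.subgroupOfEquivOfLe hAH).toEquiv _ _ fun n => rfl).symm
    obtain ⟨d₂, hd₂⟩ := inducedBlockDefined hM hQ' hQAN hCAN hANN
      (isPBlock_blockOf M (pullChar hAN ξ'))
    obtain ⟨θ₂, hθ₂⟩ := isPBlock_nonempty hM hd₂.2.1
    -- it is a conjugate of `d`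
    obtain ⟨t, ht⟩ := exists_twist_sameBlock hM (θ := θ₂) (φ := θ) fun n => by
      rw [← (classInner_ne_zero_iff_centralChar χ θ).1 hθ n]
      simpa using memLocalIdeal_neg (hω hη hξ' hd₂ hθ₂ hχ n)
    have hd₂t : d₂ = Cfsg.blockOf M (H80.conjTwist N θ t : N → ℂ) :=
      (isPBlock_eq_blockOf hM hd₂.2.1 hθ₂).trans (blockOf_eq_of_sameBlock hM ht).symm
    obtain ⟨y, hyC, hy⟩ := exists_coeff_of_root hM hQ' hQAN hCAN hANN hd₂.2.1 hd₂
    rw [hd₂t, blockCoeff_conjNormal (A := Cfsg.blockOf M (θ : N → ℂ)) N t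
      (fun φ => mem_blockOf_twist_iff N θ φ t) y, ← hdθ] at hy
    have hcardQ : Nat.card (Q.subgroupOf N) = Nat.card Q :=
      Nat.card_congr (Subgroup.subgroupOfEquivOfLe hQN).toEquiv
    have hQtN : Q.map (MulAut.conj t).toMonoidHom ≤ N := by
      rintro _ ⟨q, hq, rfl⟩
      exact Subgroup.Normal.conj_mem ‹N.Normal› q (hQN hq) t
    obtain ⟨D₁, hD₁, hQD₁⟩ := H35.exists_defectGroup_ge hM hd hy
      ((Q.map (MulAut.conj t).toMonoidHom).subgroupOf N)
      ((hQ.map _).comap_of_injective N.subtype (Subgroup.subtype_injective N)) (by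
        intro x hx
        obtain ⟨q, hq, hqx⟩ := Subgroup.mem_map.1 (Subgroup.mem_subgroupOf.1 hx)
        have h1 := congrArg Subtype.val (Subgroup.mem_centralizer_iff.1 hyC (⟨q, hQN hq⟩ : N)
          (Subgroup.mem_subgroupOf.2 hq))
        rw [Subgroup.mem_centralizer_singleton_iff]
        apply Subtype.ext
        simp only [Subgroup.coe_mul] at h1
        simp only [Subgroup.coe_mul, MulAut.conjNormal_apply, ← hqx, MulEquiv.coe_toMonoidHom,
          MulAut.conj_apply]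
        calc t * q * t⁻¹ * (t * (y : G) * t⁻¹) = t * (q * (y : G)) * t⁻¹ := by group
          _ = t * ((y : G) * q) * t⁻¹ := by rw [h1]
          _ = _ := by group)
    obtain ⟨m, hm⟩ := H35.defectGroup_le_conj hM hd hdQ hD₁
    -- a conjugating element in `N(Q)`
    have huH : (m : G)⁻¹ * t ∈ Subgroup.normalizer (Q : Set G) := by
      have hle : Q.map (MulAut.conj ((m : G)⁻¹ * t)).toMonoidHom ≤ Q := by
        rintro _ ⟨q, hq, rfl⟩
        have h1 : (⟨t * q * t⁻¹, hQtN ⟨q, hq, rfl⟩⟩ : N) ∈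
            (Q.map (MulAut.conj t).toMonoidHom).subgroupOf N :=
          Subgroup.mem_subgroupOf.2 ⟨q, hq, rfl⟩
        obtain ⟨z, hz, hzq⟩ := hm (hQD₁ h1)
        have h2 : (m : G) * z * (m : G)⁻¹ = t * q * t⁻¹ := congrArg Subtype.val hzq
        simp only [MulEquiv.coe_toMonoidHom, MulAut.conj_apply]
        have h3 : (m : G)⁻¹ * t * q * ((m : G)⁻¹ * t)⁻¹ = z := by
          calc (m : G)⁻¹ * t * q * ((m : G)⁻¹ * t)⁻¹ = (m : G)⁻¹ * (t * q * t⁻¹) * m := by group
            _ = (m : G)⁻¹ * ((m : G) * z * (m : G)⁻¹) * m := by rw [h2]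
            _ = z := by group
        rw [h3]
        exact Subgroup.mem_subgroupOf.1 hz
      have heq := Subgroup.eq_of_le_of_card_ge hle
        (by rw [Subgroup.card_map_of_injective (MulAut.conj _).injective])
      rw [Subgroup.mem_normalizer_iff_conj_image_eq]
      exact (congrArg SetLike.coe heq : _)
    set u := (m : G)⁻¹ * t with hu
    have htw : H80.conjTwist N θ t = H80.conjTwist N θ u := by
      have h1 : H80.conjTwist N θ (m : G) = θ := by
        apply Subtype.ext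
        funext k
        rw [H80.conjTwist_apply]
        exact IsIrr.isClassFunction θ.2 k m
      conv_lhs => rw [show t = (m : G) * u by rw [hu, mul_inv_cancel_left]]
      rw [← conjTwist_conjTwist, h1]
    -- conjugate the constituent
    have hu' : ∀ g, g ∈ A ↔ u⁻¹ * g * u⁻¹⁻¹ ∈ A := by
      intro g
      have hN1 : ∀ w x : G, x ∈ N → w * x * w⁻¹ ∈ N := fun w x hx =>
        Subgroup.Normal.conj_mem ‹N.Normal› x hx w
      simp only [← hA, Subgroup.mem_inf]
      refine ⟨fun hg => ⟨mul_mem (mul_mem (inv_mem huH) hg.1) (inv_mem (inv_mem huH)),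
        hN1 _ _ hg.2⟩, fun hg => ⟨?_, ?_⟩⟩
      · simpa [mul_assoc] using mul_mem (mul_mem huH hg.1) (inv_mem huH)
      · simpa [mul_assoc] using hN1 u _ hg.2
    let σ := H83.conjSubEquiv u⁻¹ A A hu'
    have hσ : ∀ a : A, ((σ a : A) : G) = u⁻¹ * a * u := fun a => by
      rw [H83.conjSubEquiv_apply, inv_inv]
    let ξ'' : Cfsg.IrrCharacter A := H83.irrComp σ ξ'
    have hξ'' : Cfsg.classInner
        (fun a : A => (η : ↥(Subgroup.normalizer (Q : Set G)) → ℂ) (Subgroup.inclusion hAH a))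
        (ξ'' : A → ℂ) ≠ 0 := by
      convert hξ' using 1
      simp only [classInner_def]
      congr 1
      refine Fintype.sum_equiv σ.toEquiv _ _ fun a => ?_
      simp only [ξ'', H83.irrComp_apply, MulEquiv.toEquiv_eq_coe, EquivLike.coe_coe]
      congr 1
      have h1 : Subgroup.inclusion hAH (σ a) =
          ⟨u⁻¹, inv_mem huH⟩ * Subgroup.inclusion hAH a * (⟨u⁻¹, inv_mem huH⟩)⁻¹ :=
        Subtype.ext (by simp [hσ])
      rw [h1, IsIrr.isClassFunction η.2]
    have hind'' : Cfsg.IsInducedBlock M (A.subgroupOf N)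
        (Cfsg.blockOf M (pullChar hAN ξ'' : A.subgroupOf N → ℂ)) d := by
      refine ⟨isPBlock_blockOf M _, hd, fun ζ hζ φ hφ g => ?_⟩
      obtain ⟨ξ₁, rfl⟩ := pullChar_surjective hAN ζ
      rw [← inducedCentralCharIn_eq hAN]
      -- transport back along the conjugation
      let ξ₂ : Cfsg.IrrCharacter A := H83.irrComp σ.symm ξ₁
      have hξ₂ : pullChar hAN ξ₂ ∈ Cfsg.blockOf M (pullChar hAN ξ' : A.subgroupOf N → ℂ) := by
        refine (sameBlock_pullChar_iff hAN _ _).2 fun a => ?_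
        have h1 := (sameBlock_pullChar_iff hAN _ _).1 hζ (σ.symm a)
        have h2 : Cfsg.centralChar (ξ'' : A → ℂ) (σ.symm a) = Cfsg.centralChar (ξ' : A → ℂ) a := by
          rw [show (ξ'' : A → ℂ) = fun x => (ξ' : A → ℂ) (σ x) from rfl,
            H83.centralChar_comp_equiv, σ.apply_symm_apply]
        rw [h2] at h1
        rwa [show (ξ₂ : A → ℂ) = fun x => (ξ₁ : A → ℂ) (σ.symm x) from rfl,
          H83.centralChar_comp_equiv]
      have h1 := hd₂.2.2 _ hξ₂ θ₂ hθ₂ (MulAut.conjNormal u⁻¹ g)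
      rw [← inducedCentralCharIn_eq hAN] at h1
      have h2 : Cfsg.inducedCentralCharIn N A (ξ₂ : A → ℂ) ((MulAut.conjNormal u⁻¹ g : N) : G) =
          Cfsg.inducedCentralCharIn N A (ξ₁ : A → ℂ) (g : G) := by
        unfold Cfsg.inducedCentralCharIn
        have hval : ∀ a, (ξ₂ : A → ℂ) (σ a) = (ξ₁ : A → ℂ) a := fun a => by
          show (ξ₁ : A → ℂ) (σ.symm (σ a)) = _
          rw [σ.symm_apply_apply]
        refine (finsum_mem_eq_of_bijOn σ ⟨fun a ha => ?_, σ.injective.injOn, fun b hb => ?_⟩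
          fun a _ => ?_).symm
        · obtain ⟨x, hx⟩ := ha
          refine ⟨MulAut.conjNormal u⁻¹ x, ?_⟩
          simp only [MulAut.conjNormal_apply, hσ, inv_inv]
          rw [← hx]
          group
        · obtain ⟨x, hx⟩ := hb
          refine ⟨σ.symm b, ⟨MulAut.conjNormal u x, ?_⟩, σ.apply_symm_apply b⟩
          have hb' : ((σ.symm b : A) : G) = u * b * u⁻¹ := by
            have := hσ (σ.symm b)
            rw [σ.apply_symm_apply] at this
            rw [this]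
            group
          simp only [MulAut.conjNormal_apply, inv_inv] at hx ⊢
          rw [hb']
          calc u * (x : G) * u⁻¹ * (u * b * u⁻¹) * (u * (x : G) * u⁻¹)⁻¹
              = u * ((x : G) * b * (x : G)⁻¹) * u⁻¹ := by group
            _ = (g : G) := by rw [hx]; group
        · have h1 : (ξ₂ : A → ℂ) 1 = (ξ₁ : A → ℂ) 1 := by
            have h2 := hval 1
            rwa [map_one] at h2
          rw [hval, h1]
      rw [h2] at h1
      have h3 : Cfsg.MemLocalIdeal M (Cfsg.centralChar (θ₂ : N → ℂ) (MulAut.conjNormal u⁻¹ g) -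
          Cfsg.centralChar (φ : N → ℂ) g) := by
        have h4 := sameBlock_twist (N := N) u⁻¹ (htw ▸ ht)
        rw [conjTwist_conjTwist, mul_inv_cancel, conjTwist_one] at h4
        have h5 := sameBlock_trans hM (sameBlock_symm h4) (isPBlock_sameBlock hM hd hθd hφ) g
        rwa [centralChar_twist] at h5
      simpa using memLocalIdeal_add hM h1 h3
    have hξ''e : ξ'' ∈ e := by
      have hroot := fun {b : Set (Cfsg.IrrCharacter (A.subgroupOf N))}
        (hb : Cfsg.IsInducedBlock M (A.subgroupOf N) b d) =>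
          isDefectGroup_root hM hQ' hQAN hANN hdQ hb
      have heq := eq_of_induced hM hQ' hnormN.le (hroot hind'') (hroot hed') hind'' hed'
      rw [isPBlock_eq_blockOf hM he hξ₀]
      have h1 : pullChar hAN ξ'' ∈ Cfsg.blockOf M (pullChar hAN ξ₀ : A.subgroupOf N → ℂ) :=
        heq ▸ self_mem_blockOf hM _
      exact (sameBlock_pullChar_iff hAN _ _).1 h1
    refine ⟨Cfsg.blockOf M (η : _ → ℂ), ⟨⟨isPBlock_blockOf M η, η, self_mem_blockOf hM η, ξ'',
      hξ''e, hξ''⟩, hη⟩, ?_⟩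
    -- uniqueness
    haveI : (A.subgroupOf (Subgroup.normalizer (Q : Set G))).Normal := ⟨fun a ha x => by
      simp only [Subgroup.mem_subgroupOf, ← hA, Subgroup.mem_inf] at ha ⊢
      exact ⟨(x * a * x⁻¹).2, by
        simpa using Subgroup.Normal.conj_mem ‹N.Normal› _ ha.2 (x : G)⟩⟩
    haveI : (Q.subgroupOf (Subgroup.normalizer (Q : Set G))).Normal :=
      (Subgroup.normal_subgroupOf_iff_le_normalizer hQH).mpr le_rfl
    let κ := Subgroup.subgroupOfEquivOfLe hAH
    have he' : Cfsg.IsPBlock M (H83.irrComp κ '' e) := H82.isPBlock_image_irrComp κ he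
    have hcovD : ∀ c : Set (Cfsg.IrrCharacter ↥(Subgroup.normalizer (Q : Set G))),
        Cfsg.IsPBlock M c → (∃ ψ ∈ c, ∃ ξ ∈ e, Cfsg.classInner
          (fun a : A => (ψ : ↥(Subgroup.normalizer (Q : Set G)) → ℂ) (Subgroup.inclusion hAH a))
          (ξ : A → ℂ) ≠ 0) →
        ∃ D : Subgroup G, D ≤ Subgroup.normalizer (Q : Set G) ∧
          Cfsg.IsDefectGroup p M c (D.subgroupOf (Subgroup.normalizer (Q : Set G))) ∧
          (∀ x, x ∈ Q ↔ x ∈ D ∧ x ∈ N) := by
      rintro c hc ⟨ψ, hψ, ξ, hξ, hψξ⟩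
      have hQA₁ : (Q.subgroupOf (Subgroup.normalizer (Q : Set G))) ≤ (A.subgroupOf (Subgroup.normalizer (Q : Set G))) := fun x hx => hQA hx
      have hQ₁ : IsPGroup p (Q.subgroupOf (Subgroup.normalizer (Q : Set G))) := hQ.comap_of_injective _ (Subgroup.subtype_injective _)
      haveI : ((Q.subgroupOf (Subgroup.normalizer (Q : Set G))).subgroupOf (A.subgroupOf (Subgroup.normalizer (Q : Set G)))).Normal := Subgroup.Normal.subgroupOf ‹_› _
      have hdef : Cfsg.IsDefectGroup p M (H83.irrComp κ '' e) ((Q.subgroupOf (Subgroup.normalizer (Q : Set G))).subgroupOf (A.subgroupOf (Subgroup.normalizer (Q : Set G)))) := by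
        refine isDefectGroup_of_normal_card hM he' _
          (hQ₁.comap_of_injective _ (Subgroup.subtype_injective _)) ?_
        rw [H82.blockDefect_image_irrComp, ← H35.card_defectGroup hM he heQ,
          Nat.card_congr (Subgroup.subgroupOfEquivOfLe hQA₁).toEquiv,
          Nat.card_congr (Subgroup.subgroupOfEquivOfLe hQH).toEquiv,
          Nat.card_congr (Subgroup.subgroupOfEquivOfLe hQA).toEquiv]
      have hψξ' : Cfsg.classInner
          (fun a : (A.subgroupOf (Subgroup.normalizer (Q : Set G))) => (ψ : ↥(Subgroup.normalizer (Q : Set G)) → ℂ) a)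
          (H83.irrComp κ ξ : (A.subgroupOf (Subgroup.normalizer (Q : Set G))) → ℂ) ≠ 0 := by
        convert hψξ using 1
        simp only [classInner_def, Nat.card_congr κ.toEquiv]
        congr 1
        exact Fintype.sum_equiv κ.toEquiv _ _ fun n => rfl
      obtain ⟨P, hP, hPA⟩ := exists_defectGroup_inf_eq hM he' hQA₁ hdef hc
        ⟨ψ, hψ, _, ⟨ξ, hξ, rfl⟩, hψξ'⟩
      refine ⟨P.map (Subgroup.normalizer (Q : Set G)).subtype, Subgroup.map_subtype_le P, ?_,
        fun x => ⟨fun hx => ⟨?_, hQN hx⟩, ?_⟩⟩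
      · rwa [Subgroup.subgroupOf, Subgroup.comap_map_eq_self_of_injective
          (Subgroup.subtype_injective _)]
      · exact ⟨⟨x, hQH hx⟩, (hPA.ge (Subgroup.mem_subgroupOf.2 hx : _ ∈ (Q.subgroupOf (Subgroup.normalizer (Q : Set G))))).1, rfl⟩
      · rintro ⟨⟨z, hz, rfl⟩, hzN⟩
        exact Subgroup.mem_subgroupOf.1 (hPA.le ⟨hz, Subgroup.mem_subgroupOf.2 (hA ▸ ⟨z.2, hzN⟩)⟩)
    -- the normalizer of such a defect group normalizes `Q`
    have hnQ : ∀ {D E : Subgroup G} {x : G}, (∀ y, y ∈ Q ↔ y ∈ D ∧ y ∈ N) →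
        (∀ y, y ∈ Q ↔ y ∈ E ∧ y ∈ N) → (∀ y, y ∈ D ↔ x * y * x⁻¹ ∈ E) →
        x ∈ Subgroup.normalizer (Q : Set G) := by
      intro D E x hD hE hx
      rw [Subgroup.mem_normalizer_iff]
      intro y
      rw [hD y, hE (x * y * x⁻¹), ← hx y]
      exact and_congr_right fun _ => ⟨fun h => Subgroup.Normal.conj_mem ‹N.Normal› y h x,
        fun h => by simpa [mul_assoc] using Subgroup.Normal.conj_mem ‹N.Normal› _ h x⁻¹⟩
    rintro c' ⟨⟨hc', hcov'⟩, hind'⟩
    obtain ⟨D, hDH, hcD, hDN⟩ := hcovD _ (isPBlock_blockOf M η)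
      ⟨η, self_mem_blockOf hM η, ξ'', hξ''e, hξ''⟩
    obtain ⟨D', hD'H, hcD', hD'N⟩ := hcovD c' hc' hcov'
    have hnD : ∀ {E : Subgroup G}, (∀ y, y ∈ Q ↔ y ∈ E ∧ y ∈ N) →
        Subgroup.normalizer (E : Set G) ≤ Subgroup.normalizer (Q : Set G) := fun hE x hx =>
      hnQ hE hE (Subgroup.mem_normalizer_iff.1 hx)
    have hpD : ∀ {E : Subgroup G} {b : Set (Cfsg.IrrCharacter ↥(Subgroup.normalizer (Q : Set G)))},
        E ≤ Subgroup.normalizer (Q : Set G) → Cfsg.IsPBlock M b →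
        Cfsg.IsDefectGroup p M b (E.subgroupOf (Subgroup.normalizer (Q : Set G))) →
        IsPGroup p E := by
      intro E b hE hb h
      refine IsPGroup.of_card (n := Cfsg.blockDefect p b) ?_
      rw [← Nat.card_congr (Subgroup.subgroupOfEquivOfLe hE).toEquiv,
        H35.card_defectGroup hM hb h]
    have hBD := (defect_data_of_induced hM (hpD hDH (isPBlock_blockOf M η) hcD) (hnD hDN) hcD hη).1
    have hBD' := (defect_data_of_induced hM (hpD hD'H hc' hcD') (hnD hD'N) hcD' hind').1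
    obtain ⟨x, hx⟩ := H35.defectGroup_le_conj hM hB hBD hBD'
    have heq := Subgroup.eq_of_le_of_card_ge hx
      (by rw [Subgroup.card_map_of_injective (MulAut.conj _).injective,
        H35.card_defectGroup hM hB hBD, H35.card_defectGroup hM hB hBD'])
    have hxD : ∀ y, y ∈ D ↔ x * y * x⁻¹ ∈ D' := fun y => by
      rw [heq]
      exact ⟨fun h => ⟨y, h, rfl⟩, fun ⟨z, hz, hzy⟩ => (MulAut.conj x).injective hzy ▸ hz⟩
    have hxH := hnQ hDN hD'N hxD
    refine eq_of_induced hM (hpD hDH (isPBlock_blockOf M η) hcD) (hnD hDN) ?_ hcD hind' hη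
    convert H35.isDefectGroup_conj hcD' (⟨x, hxH⟩ : ↥(Subgroup.normalizer (Q : Set G)))⁻¹ using 1
    ext y
    rw [Subgroup.mem_subgroupOf, hxD, Subgroup.mem_map_equiv, Subgroup.mem_subgroupOf]
    simp [mul_assoc]


/-- Fix a prime p and a maximal ideal M of the algebraic integers containing p. Let N be a normal subgroup of the finite group G, Q a p-subgroup of N, H = N_G(Q) and L = H ∩ N = N_N(Q). Let d be a p-block of N with defect group Q and e the p-block of L with defect group Q that induces d inside N (its Brauer correspondent). Then block induction from H to G is a bijection from the p-blocks of H covering e onto the p-blocks of G covering d: every block of H covering e induces exactly one block of G, and that block covers d; and every block of G covering d is induced by exactly one block of H covering e. -/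
theorem result {G : Type*} [Group G] [Fintype G] (p : ℕ) [Fact p.Prime] (M : Ideal Cfsg.AlgInt) (hM : Cfsg.IsPModular p M) (N : Subgroup G) [N.Normal] [Fintype N] (Q : Subgroup G) (hQ : IsPGroup p Q) (hQN : Q ≤ N) [Fintype ↥(Subgroup.normalizer (Q : Set G) ⊓ N)] (d : Set (Cfsg.IrrCharacter N)) (hd : Cfsg.IsPBlock M d) (hdQ : Cfsg.IsDefectGroup p M d (Q.subgroupOf N)) (e : Set (Cfsg.IrrCharacter ↥(Subgroup.normalizer (Q : Set G) ⊓ N))) (he : Cfsg.IsPBlock M e) (heQ : Cfsg.IsDefectGroup p M e (Q.subgroupOf (Subgroup.normalizer (Q : Set G) ⊓ N))) (hed : Cfsg.IsInducedBlockIn M N (Subgroup.normalizer (Q : Set G) ⊓ N) e d) : (∀ c : Set (Cfsg.IrrCharacter ↥(Subgroup.normalizer (Q : Set G))), Cfsg.IsPBlock M c → (∃ ψ ∈ c, ∃ ξ ∈ e, Cfsg.classInner (fun l : ↥(Subgroup.normalizer (Q : Set G) ⊓ N) => (ψ : ↥(Subgroup.normalizer (Q : Set G)) → ℂ) (Subgroup.inclusion inf_le_left l)) (ξ : ↥(Subgroup.normalizer (Q : Set G) ⊓ N) → ℂ) ≠ 0) → ∃! B : Set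 (Cfsg.IrrCharacter G), Cfsg.IsInducedBlock M (Subgroup.normalizer (Q : Set G)) c B ∧ (∃ χ ∈ B, ∃ θ ∈ d, Cfsg.classInner (fun n : N => (χ : G → ℂ) n) (θ : N → ℂ) ≠ 0)) ∧ (∀ B : Set (Cfsg.IrrCharacter G), Cfsg.IsPBlock M B → (∃ χ ∈ B, ∃ θ ∈ d, Cfsg.classInner (fun n : N => (χ : G → ℂ) n) (θ : N → ℂ) ≠ 0) → ∃! c : Set (Cfsg.IrrCharacter ↥(Subgroup.normalizer (Q : Set G))), (Cfsg.IsPBlock M c ∧ ∃ ψ ∈ c, ∃ ξ ∈ e, Cfsg.classInner (fun l : ↥(Subgroup.normalizer (Q : Set G) ⊓ N) => (ψ : ↥(Subgroup.normalizer (Q : Set G)) → ℂ) (Subgroup.inclusion inf_le_left l)) (ξ : ↥(Subgroup.normalizer (Q : Set G) ⊓ N) → ℂ) ≠ 0) ∧ Cfsg.IsInducedBlock M (Subgroup.normalizer (Q : Set G)) c B) :=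
  main p M hM N Q hQ hQN _ rfl inf_le_left d hd hdQ e he heQ hed

end Cfsg.Agent.S4674
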