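import Cfsg.Statements.S4676
import Cfsg.Agent.H83.RegInner

set_option autoImplicit false
open Cfsg

namespace Cfsg.Agent.S4676

/-- Fix a prime p and a maximal ideal M of the algebraic integers containing p. Let B be a p-block of the finite group G with defect group P. For χ in B, let the height of χ be the exponent of p in the degree of χ minus the least such exponent over the members of B. Then the sum over χ in B of p raised to twice the height of χ is at most the integer part of (order of P)²/4, plus 1; in particular B has at most that many irreducible characters. -/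
theorem result {G : Type*} [Group G] [Fintype G] (p : ℕ) [Fact p.Prime] (M : Ideal Cfsg.AlgInt) (hM : Cfsg.IsPModular p M) (B : Set (Cfsg.IrrCharacter G)) (hB : Cfsg.IsPBlock M B) (P : Subgroup G) (hP : Cfsg.IsDefectGroup p M B P) : ∑ᶠ χ ∈ B, p ^ (2 * Cfsg.blockHeight p B (χ : G → ℂ)) ≤ Nat.card P ^ 2 / 4 + 1 := by
  classical
  set d := Cfsg.blockDefect p B
  obtain ⟨θ, hθ, h0⟩ := H83.exists_height_zero hM hB
  rw [finsum_eq_sum_of_fintype]
  simp only [finsum_eq_if]
  rw [← Finset.sum_filter,
    ← Finset.add_sum_erase _ _ (Finset.mem_filter.2 ⟨Finset.mem_univ θ, hθ⟩), h0, mul_zero,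
    pow_zero, add_comm]
  refine Nat.add_le_add_right ?_ 1
  set s := (Finset.univ.filter (· ∈ B)).erase θ
  rw [Nat.le_div_iff_mul_le four_pos]
  have h1 := H83.four_mul_sum_erase_le hM hB hθ s (Finset.notMem_erase θ _)
  have h2 : ((∑ φ ∈ s, p ^ (2 * Cfsg.blockHeight p B (φ : G → ℂ)) : ℕ) : ℤ) ≤
      ∑ φ ∈ s, H83.entry p B θ φ ^ 2 := by
    push_cast
    refine Finset.sum_le_sum fun φ hφ => ?_
    rw [mul_comm 2, pow_mul, ← sq_abs (H83.entry p B θ φ)]
    exact pow_le_pow_left₀ (by positivity) (H83.entry_ne_zero_of_height_zero hM hB hθ h0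
      (Finset.mem_filter.1 (Finset.mem_of_mem_erase hφ)).2) 2
  have h3 : ((p : ℤ) ^ d) ^ 2 ≤ (Nat.card P : ℤ) ^ 2 :=
    pow_le_pow_left₀ (by positivity) (by exact_mod_cast H83.pow_blockDefect_le_card hM hB hP) 2
  have h4 : (((∑ φ ∈ s, p ^ (2 * Cfsg.blockHeight p B (φ : G → ℂ))) * 4 : ℕ) : ℤ) ≤
      ((Nat.card P ^ 2 : ℕ) : ℤ) := by
    rw [Nat.cast_mul, Nat.cast_pow]
    push_cast at h2 ⊢
    linarith
  exact_mod_cast h4

end Cfsg.Agent.S4676
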