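import Cfsg.Statements.S4680
import Cfsg.Agent.H82.PairFusion

set_option autoImplicit false
open Cfsg

namespace Cfsg.Agent.S4680

/-- Fix a prime p and a maximal ideal M of the algebraic integers containing p, a p-block B of the finite group G with maximal Brauer pair (P, e), its fusion system F on P, and a Brauer pair (Q, f) ≤ (P, e). Then Q is centric in F if and only if Z(Q) is a defect group of f as a block of C_G(Q). -/
theorem result {G : Type*} [Group G] [Fintype G] (p : ℕ) [Fact p.Prime] (M : Ideal Cfsg.AlgInt) (hM : Cfsg.IsPModular p M) (B : Set (Cfsg.IrrCharacter G)) (P : Subgroup G) (e : Set (Cfsg.IrrCharacter (Subgroup.centralizer (P : Set G)))) (hmax : Cfsg.IsMaximalBrauerPair p M B P e) (F : Cfsg.FusionSystem P) (hF : Cfsg.IsBlockFusionSystemOn p M B P e F) (Q : Subgroup G) (f : Set (Cfsg.IrrCharacter (Subgroup.centralizer (Q : Set G)))) (hQP : Q ≤ P) (hf : Cfsg.IsPBlock M f) (hle : Cfsg.SubpairLE p M Q f P e) : F.IsCentric Q ↔ Cfsg.IsDefectGroup p M f ((Q ⊓ Subgroup.centralizer (Q : Set G)).subgroupOf (Subgroup.centralizer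 (Q : Set G))) := by
  classical
  rw [H82.isCentric_block_iff hM hF hle]
  have hPe := hmax.1.1
  have h := H82.isLocalBlock_centralizer hM (H82.isBrauerPair_of_subpairLE hle hPe)
  have hle' : Q ⊓ Subgroup.centralizer (Q : Set G) ≤ P ⊓ Subgroup.centralizer (Q : Set G) :=
    inf_le_inf_right _ hQP
  constructor
  · intro hc
    have h1 := h.card_inf_le hM hPe hle
    rw [Subgroup.eq_of_le_of_card_ge hle' (h1.trans hc)]
    exact h.isDefectGroup_inf hM hPe hle (hc.trans (Subgroup.card_le_of_le hle'))
  · intro hd
    rw [← H35.card_defectGroup hM hf hd,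
      Nat.card_congr (Subgroup.subgroupOfEquivOfLe
        (inf_le_right (a := Q) (b := Subgroup.centralizer (Q : Set G)))).toEquiv]

end Cfsg.Agent.S4680
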