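import Cfsg.Statements.S4690
import Cfsg.Agent.H82.StarNilpotent
import Cfsg.Agent.H35.Consequences

set_option autoImplicit false
open Cfsg

namespace Cfsg.Agent.S4690

/-- Fix a prime p and a maximal ideal M of the algebraic integers containing p, and a nilpotent p-block B of the finite group G with defect group P. Then there is a bijection from B onto the irreducible characters of P carrying the height of each χ ∈ B to the exponent of p in the degree of its image. -/
theorem result {G : Type*} [Group G] [Fintype G] (p : ℕ) [Fact p.Prime] (M : Ideal Cfsg.AlgInt) (hM : Cfsg.IsPModular p M) (B : Set (Cfsg.IrrCharacter G)) (hnil : Cfsg.IsNilpotentBlock p M B) (P : Subgroup G) (hP : Cfsg.IsDefectGroup p M B P) : ∃ Φ : B ≃ Cfsg.IrrCharacter P, ∀ χ : B, Cfsg.blockHeight p B ((χ : Cfsg.IrrCharacter G) : G → ℂ) = (Cfsg.charDegree ((Φ χ : Cfsg.IrrCharacter P) : P → ℂ)).factorization p := by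
  classical
  obtain ⟨P₀, e₀, hmax₀⟩ := Agent.H82.exists_maximal hM hnil.1
  have hD₀ := Agent.S4659.result p M hM B P₀ e₀ hmax₀
  obtain ⟨c, hc⟩ := Agent.H35.defectGroup_le_conj hM hnil.1 hD₀ hP
  have hcard : Nat.card P = p ^ blockDefect p B := Agent.H35.card_defectGroup hM hnil.1 hP
  have hPeq : P = P₀.map (MulAut.conj c).toMonoidHom := Subgroup.eq_of_le_of_card_ge hc (by
    rw [Subgroup.card_map_of_injective (MulAut.conj c).injective, hcard,
      Agent.H35.card_defectGroup hM hnil.1 hD₀])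
  obtain ⟨e, he⟩ : ∃ e, IsBrauerPairOf p M B P e := by
    subst hPeq
    exact ⟨_, Agent.H82.isBrauerPairOf_conjPair hM c (a := ⟨P₀, e₀⟩) hmax₀.1⟩
  have hmax := Agent.H82.isMaximal_of_card hM he hcard.ge
  obtain ⟨χ₀, hχ₀, h0⟩ := Agent.H83.exists_height_zero hM hnil.1
  obtain ⟨Ψ, hinj, hrange, hreg⟩ := Agent.H82.Star.exists_parametrization hM hmax hnil hχ₀ h0
  refine ⟨((Equiv.ofInjective Ψ hinj).trans (Equiv.setCongr hrange)).symm, fun χ => ?_⟩
  obtain ⟨ρ, hρ⟩ := ((Equiv.ofInjective Ψ hinj).trans (Equiv.setCongr hrange)).surjective χ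
  subst hρ
  rw [Equiv.symm_apply_apply]
  have hmem : Ψ ρ ∈ B := hrange ▸ Set.mem_range_self ρ
  show blockHeight p B ((Ψ ρ : IrrCharacter G) : G → ℂ) = _
  have h1 : ¬ p ∣ orderOf (1 : G) := by
    rw [orderOf_one, Nat.dvd_one]; exact (Fact.out : p.Prime).ne_one
  have hdeg := congrFun (hreg ρ) 1
  rw [Pi.smul_apply, smul_eq_mul, Agent.H83.pRegularPart_eq_self _ h1,
    Agent.H83.pRegularPart_eq_self _ h1, (Agent.H83.charDegree_eq (Ψ ρ).2).1,
    (Agent.H83.charDegree_eq χ₀.2).1, ← Nat.cast_mul, Nat.cast_inj] at hdeg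
  have e1 := Agent.H83.factorization_eq hM (p := p) hmem
  have e2 := Agent.H83.factorization_eq hM (p := p) hχ₀
  rw [hdeg, Nat.factorization_mul (Agent.H83.charDegree_eq ρ.2).2.ne'
    (Agent.H83.charDegree_eq χ₀.2).2.ne', Finsupp.add_apply, e2, h0] at e1
  omega

end Cfsg.Agent.S4690
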