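import Cfsg.Statements.S4694
import Cfsg.Agent.BlockBasic.Weight
-- import your own Cfsg.Agent.* helpers here

set_option autoImplicit false
open Cfsg Cfsg.Agent Cfsg.Agent.BlockBasic Cfsg.Agent.CharBasic

namespace Cfsg.Agent.S4694

/-- Fix a prime p and a maximal ideal M of the algebraic integers containing p, a p-block B of the finite group G and a Brauer pair (Q, e) of B. Let T be the stabilizer of e in N_G(Q) and suppose that (Q, e) carries a weight: the block of T whose idempotent is that of e contains an irreducible character χ that is constant on the cosets of Q and whose degree has p-part equal to the p-part of the index of Q in T. Then Z(Q) is a defect group of e as a block of C_G(Q), and Q is the largest normal p-subgroup of T: every p-subgroup of T normalized by T lies in Q. -/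
theorem result {G : Type*} [Group G] [Fintype G] (p : ℕ) [Fact p.Prime] (M : Ideal Cfsg.AlgInt) (hM : Cfsg.IsPModular p M) (B : Set (Cfsg.IrrCharacter G)) (Q : Subgroup G) (e : Set (Cfsg.IrrCharacter (Subgroup.centralizer (Q : Set G)))) (hQe : Cfsg.IsBrauerPairOf p M B Q e) (T : Subgroup G) (hT : ∀ y : G, y ∈ T ↔ y ∈ Subgroup.normalizer (Q : Set G) ∧ Cfsg.StabilizesBlock (Subgroup.centralizer (Q : Set G)) e y) (F' : Set (Cfsg.IrrCharacter T)) (hF' : Cfsg.IsPBlock M F') (hF'e : ∀ t : T, Cfsg.blockCoeff F' t = Cfsg.subgroupBlockCoeff (Subgroup.centralizer (Q : Set G)) e (t : G)) (χ : Cfsg.IrrCharacter T) (hχ : χ ∈ F') (hχQ : ∀ q : G, q ∈ Q → ∀ t : T, ∀ t' : T, (t' : G) = q * (t : G) → (χ : T → ℂ) t' = (χ : T → ℂ) t) (hdeg : (Cfsg.charDegree (χ : T → ℂ)).factorization p + (Nat.card Q).factorization p = (Nat.card T).factorization p) : Cfsg.IsDefectGroup p M e ((Q ⊓ Subgroup.centralizer (Q : Set G)).subgroupOf (Subgroup.centralizer (Q : Set G))) ∧ ∀ R : Subgroup G, R ≤ T → IsPGroup p R → (∀ t ∈ T, t ∈ Subgroup.normalizer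 (R : Set G)) → R ≤ Q := by
  classical
  obtain ⟨hQp, he⟩ := hQe.1
  have hCT : Subgroup.centralizer (Q : Set G) ≤ T := H82.centralizer_le_stab hM he hT
  have hQT : Q ≤ T := H82.le_stab hM he hT
  haveI : Fintype T := Fintype.ofFinite _
  cases nonempty_fintype (Subgroup.centralizer (Q : Set G))
  set Q' := Q.subgroupOf T
  set C' := (Subgroup.centralizer (Q : Set G)).subgroupOf T
  haveI : Fintype C' := Fintype.ofFinite _
  haveI : Q'.Normal := Subgroup.normal_subgroupOf_of_le_normalizer fun y hy => ((hT y).1 hy).1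
  haveI : C'.Normal := Subgroup.normal_subgroupOf_of_le_normalizer fun y hy =>
    H82.normalizer_le_normalizer_centralizer Q ((hT y).1 hy).1
  have htriv : ∀ q ∈ Q', (χ : T → ℂ) q = (χ : T → ℂ) 1 := fun q hq =>
    hχQ q (Subgroup.mem_subgroupOf.1 hq) 1 q (by simp)
  have hcQ : Nat.card Q' = Nat.card Q := Nat.card_congr (Subgroup.subgroupOfEquivOfLe hQT).toEquiv
  rw [← hcQ] at hdeg
  refine ⟨?_, fun R hRT hR hRn => ?_⟩
  · obtain ⟨θ', hθ', hd'⟩ := Weight.exists_constituent_degree Q' C' χ htriv hdeg
    let ε : C' ≃* Subgroup.centralizer (Q : Set G) := Subgroup.subgroupOfEquivOfLe hCT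
    let θ : Cfsg.IrrCharacter (Subgroup.centralizer (Q : Set G)) :=
      ⟨fun c => (θ' : C' → ℂ) (ε.symm c),
        CharInduce.IsIrr.comp θ'.2 ε.symm.toMonoidHom ε.symm.surjective⟩
    have hsupp : ∀ t : T, t ∉ C' → (blockElem F').coeff t = 0 := fun t ht => by
      rw [coeff_blockElem, hF'e, Cfsg.subgroupBlockCoeff,
        dif_neg (fun h => ht (Subgroup.mem_subgroupOf.2 h))]
    have hθe : θ ∈ e := by
      by_contra hn
      have h1 := omega_eq_omega_resMap χ θ' hθ' (isCentralElt_blockElem F') hsupp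
      have h2 : omega (θ' : C' → ℂ) (resMap C' (blockElem F')) =
          omega (θ : Subgroup.centralizer (Q : Set G) → ℂ) (blockElem e) := by
        simp only [omega, chiLin]
        rw [show (θ : Subgroup.centralizer (Q : Set G) → ℂ) 1 = (θ' : C' → ℂ) 1 from
          congrArg _ ε.symm.map_one]
        congr 1
        refine Fintype.sum_equiv ε.toEquiv _ _ fun c => ?_
        rw [coeff_resMap, coeff_blockElem, coeff_blockElem, hF'e, Cfsg.subgroupBlockCoeff,
          dif_pos (Subgroup.mem_subgroupOf.1 c.2)]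
        show _ = _ * (θ' : C' → ℂ) (ε.symm (ε c))
        rw [ε.symm_apply_apply]
        rfl
      rw [h2, omega_blockElem, if_pos hχ, omega_blockElem, if_neg hn] at h1
      exact one_ne_zero h1
    have hdθ : Cfsg.charDegree (θ : Subgroup.centralizer (Q : Set G) → ℂ) =
        Cfsg.charDegree (θ' : C' → ℂ) := by
      unfold Cfsg.charDegree
      show ⌊((θ' : C' → ℂ) (ε.symm 1)).re⌋₊ = _
      rw [map_one]
    set Z := Q ⊓ Subgroup.centralizer (Q : Set G)
    have hZc : Nat.card ↥(Q' ⊓ C') = Nat.card Z := by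
      rw [show Q' ⊓ C' = Z.subgroupOf T from (Subgroup.comap_inf _ _ _).symm]
      exact Nat.card_congr (Subgroup.subgroupOfEquivOfLe (inf_le_left.trans hQT)).toEquiv
    rw [hZc, Nat.card_congr ε.toEquiv, ← hdθ] at hd'
    have h := (S0969.result p M hM (Z.subgroupOf (Subgroup.centralizer (Q : Set G)))
      ((hQp.to_le inf_le_left).comap_of_injective _ (Subgroup.subtype_injective _))
      (MaximalPair.sup_centralizer_inf Q) θ ((MaximalPair.factorization_iff inf_le_right _).1 hd')).1
    rwa [← isPBlock_eq_blockOf hM he hθe] at h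
  · haveI : (R.subgroupOf T).Normal := Subgroup.normal_subgroupOf_of_le_normalizer hRn
    set K := Q' ⊔ R.subgroupOf T
    haveI : Fintype K := Fintype.ofFinite _
    have hQ'p : IsPGroup p Q' := hQp.comap_of_injective _ T.subtype_injective
    have hR'p : IsPGroup p (R.subgroupOf T) := hR.comap_of_injective _ T.subtype_injective
    have hK : IsPGroup p K := hQ'p.to_sup_of_normal_left hR'p
    have heq := Weight.eq_of_normal_pGroup Q' K le_sup_left hK χ htriv hdeg
    intro r hr
    exact Subgroup.mem_subgroupOf.1 (heq ▸ Subgroup.mem_sup_right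
      (Subgroup.mem_subgroupOf.2 hr : (⟨r, hRT hr⟩ : T) ∈ R.subgroupOf T) :
        (⟨r, hRT hr⟩ : T) ∈ Q')

end Cfsg.Agent.S4694
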