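import Cfsg.Statements.S4701
import Cfsg.Agent.H60.PerfectSmall
import Cfsg.Agent.Linear.Order
import Cfsg.Agent.S0999

set_option autoImplicit false
open Cfsg

namespace Cfsg.Agent.S4701

/-- In characteristic two `SL(2, F)` is `PSL(2, F)`. -/
theorem sl_equiv_psl {F : Type} [Field F] [Fintype F] (hF : Even (Fintype.card F)) :
    Nonempty (Matrix.ProjectiveSpecialLinearGroup (Fin 2) F ≃*
      Matrix.SpecialLinearGroup (Fin 2) F) := by
  classical
  have hg : Nat.gcd 2 (Fintype.card F - 1) = 1 := by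
    obtain ⟨j, hj⟩ := hF
    have := Fintype.card_pos (α := F)
    rw [← Nat.coprime_iff_gcd_eq_one, Nat.Prime.coprime_iff_not_dvd Nat.prime_two]
    omega
  have hZ : Subgroup.center (Matrix.SpecialLinearGroup (Fin 2) F) = ⊥ := by
    rw [← Subgroup.card_eq_one, Linear.card_center_SL, Fintype.card_fin, hg]
  exact ⟨(QuotientGroup.quotientMulEquivOfEq hZ).trans QuotientGroup.quotientBot⟩

/-- Let G be a finite perfect group and p a prime dividing the order of G with p^3 larger than the order of G. Suppose a Sylow p-subgroup of G is not normal and G has no normal subgroup of order 2. Then p > 3 and G is isomorphic to PSL(2, p), or to SL(2, 2^m) with p = 2^m + 1. -/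
theorem result {G : Type*} [Group G] [Finite G] (hperf : commutator G = ⊤) (p : ℕ) [Fact p.Prime] (hdvd : p ∣ Nat.card G) (hbig : Nat.card G < p ^ 3) (P : Sylow p G) (hP : ¬ (P : Subgroup G).Normal) (h2 : ∀ N : Subgroup G, N.Normal → Nat.card N ≠ 2) : (∃ (F : Type) (_ : Field F) (_ : Fintype F), Fintype.card F = p ∧ 3 < p ∧ Nonempty (G ≃* Matrix.ProjectiveSpecialLinearGroup (Fin 2) F)) ∨ (∃ (m : ℕ) (F : Type) (_ : Field F) (_ : Fintype F), Fintype.card F = 2 ^ m ∧ p = 2 ^ m + 1 ∧ 3 < p ∧ Nonempty (G ≃* Matrix.SpecialLinearGroup (Fin 2) F)) := by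
  classical
  have hp : p.Prime := Fact.out
  have hnt : Nontrivial G := by
    by_contra h
    rw [not_nontrivial_iff_subsingleton] at h
    exact hP ((Subsingleton.elim (P : Subgroup G) ⊥).symm ▸
      (inferInstance : (⊥ : Subgroup G).Normal))
  have hna : ¬ IsMulCommutative G := fun h => by
    have h1 : commutator G = ⊥ := by
      rw [_root_.commutator_def, Subgroup.commutator_eq_bot_iff_le_centralizer]
      intro a _
      rw [Subgroup.mem_centralizer_iff]
      exact fun b _ => mul_comm' b a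
    rw [hperf] at h1
    exact top_ne_bot h1
  obtain ⟨a, ha⟩ := IsPGroup.iff_card.1 P.isPGroup'
  have hn0 : 1 ≤ Nat.card (Sylow p G) := Nat.card_pos
  have hsyl : p + 1 ≤ Nat.card (Sylow p G) := by
    have hne : Nat.card (Sylow p G) ≠ 1 := by
      intro h1
      haveI : Subsingleton (Sylow p G) := (Nat.card_eq_one_iff_unique.1 h1).1
      exact hP P.normal_of_subsingleton
    by_contra hlt'
    have := Nat.le_of_dvd (by omega)
      ((Nat.modEq_iff_dvd' hn0).1 (card_sylow_modEq_one p G).symm)
    omega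
  have hbigP : Nat.card P * (p + 1) ≤ Nat.card G := by
    calc Nat.card P * (p + 1) ≤ Nat.card P * Nat.card (Sylow p G) := Nat.mul_le_mul_left _ hsyl
      _ ≤ Nat.card (Subgroup.normalizer ((P : Subgroup G) : Set G)) * Nat.card (Sylow p G) :=
        Nat.mul_le_mul_right _ (Subgroup.card_le_of_le Subgroup.le_normalizer)
      _ = Nat.card G := by
        rw [P.card_eq_index_normalizer]
        exact Subgroup.card_mul_index _
  have hPp : Nat.card P = p := by
    rcases a with _ | _ | a
    · exfalso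
      rw [pow_zero] at ha
      exact hP ((Subgroup.card_eq_one.1 ha).symm ▸ (inferInstance : (⊥ : Subgroup G).Normal))
    · rw [ha, zero_add, pow_one]
    · exfalso
      have h1 : p ^ 2 * (p + 1) ≤ Nat.card G :=
        le_trans (Nat.mul_le_mul_right _ (ha ▸ Nat.pow_le_pow_right hp.pos (by omega))) hbigP
      have h3 : p ^ 2 * (p + 1) = p ^ 3 + p ^ 2 := by ring
      omega
  have hp2 : p ≠ 2 := by
    intro h
    subst h
    have hn2 : 3 ≤ Nat.card (Sylow 2 G) := hsyl
    rw [hPp] at hbigP
    refine hna ?_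
    have h6 : Nat.card G ∣ 18 := by
      have hd : 2 ∣ Nat.card G := hPp ▸ Subgroup.card_subgroup_dvd_card (P : Subgroup G)
      have h7 : Nat.card G = 6 := by
        have : (2 : ℕ) ^ 3 = 8 := by norm_num
        omega
      rw [h7]; norm_num
    haveI := Unitary.isSolvable_of_card_dvd_18 rfl h6
    exact absurd hperf (ne_of_lt (Group.IsSolvable.commutator_lt_top_of_nontrivial G))
  have hs : IsSimpleGroup G :=
    H60.SmallOrder.isSimpleGroup_of_perfect hperf hbig P hPp hp2 h2
  have hcyc : ¬ IsCyclic G := fun h => hna (IsCyclic.isMulCommutative)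
  rcases S0999.result hcyc p hp hdvd hbig with ⟨F, iF, jF, h1, h3, h4⟩ |
    ⟨m, F, iF, jF, h1, h3, h4, h5⟩
  · exact Or.inl ⟨F, iF, jF, h1, h3, h4⟩
  · refine Or.inr ⟨m, F, iF, jF, h1, h3, h4, ?_⟩
    have hm : 0 < m := Nat.pos_of_ne_zero fun h => by
      rw [h, pow_zero] at h3
      omega
    obtain ⟨e⟩ := h5
    obtain ⟨e'⟩ := sl_equiv_psl (F := F) (h1 ▸ (Nat.even_pow.2 ⟨even_two, hm.ne'⟩))
    exact ⟨e.trans e'⟩

end Cfsg.Agent.S4701
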