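import Cfsg.Statements.S4708
import Cfsg.Agent.Cores.PrincipalCover

set_option autoImplicit false
open Cfsg

namespace Cfsg.Agent.S4708

/-- Let p be a prime, M a maximal ideal of the algebraic integers containing p, G a finite group and H a normal subgroup. Write λ(X) for the sum of the squares of the degrees of the irreducible characters in the principal p-block of a group X. Then λ(H) ≤ λ(G) ≤ [G : H]·λ(H). -/
theorem result {G : Type*} [Group G] [Finite G] (p : ℕ) [Fact p.Prime] (M : Ideal Cfsg.AlgInt) (hM : Cfsg.IsPModular p M) (H : Subgroup G) [H.Normal] : (∑ᶠ θ ∈ Cfsg.principalBlock M H, Cfsg.charDegree (θ : H → ℂ) ^ 2) ≤ (∑ᶠ χ ∈ Cfsg.principalBlock M G, Cfsg.charDegree (χ : G → ℂ) ^ 2) ∧ (∑ᶠ χ ∈ Cfsg.principalBlock M G, Cfsg.charDegree (χ : G → ℂ) ^ 2) ≤ H.index * ∑ᶠ θ ∈ Cfsg.principalBlock M H, Cfsg.charDegree (θ : H → ℂ) ^ 2 := by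
  classical
  cases nonempty_fintype G
  haveI : Fintype H := Fintype.ofFinite _
  have hd : ∀ (θ : Cfsg.IrrCharacter H),
      ((θ : H → ℂ) 1) = (Cfsg.charDegree (θ : H → ℂ) : ℂ) := BlockBasic.apply_one_eq_charDegree
  have hdG : ∀ (χ : Cfsg.IrrCharacter G),
      ((χ : G → ℂ) 1) = (Cfsg.charDegree (χ : G → ℂ) : ℂ) := BlockBasic.apply_one_eq_charDegree
  choose m hm using fun (χ : Cfsg.IrrCharacter G) (θ : Cfsg.IrrCharacter H) =>
    CharBasic.classInner_isChar_nat
      (CharInduce.IsChar.res (CharBasic.IsIrr.isCharacter χ.2) H) (CharBasic.IsIrr.isCharacter θ.2)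
  have hres : ∀ χ : Cfsg.IrrCharacter G,
      Cfsg.charDegree (χ : G → ℂ) = ∑ θ, m χ θ * Cfsg.charDegree (θ : H → ℂ) := by
    intro χ
    have h := congrFun (CharBasic.classFunction_expansion (CharBasic.IsChar.isClassFunction
      (CharInduce.IsChar.res (CharBasic.IsIrr.isCharacter χ.2) H))) 1
    simp only [Finset.sum_apply, Pi.smul_apply, smul_eq_mul, hm, hd, Subgroup.coe_one, hdG] at h
    exact_mod_cast h
  have hind : ∀ θ : Cfsg.IrrCharacter H,
      ∑ χ : Cfsg.IrrCharacter G, Cfsg.charDegree (χ : G → ℂ) * m χ θ =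
        H.index * Cfsg.charDegree (θ : H → ℂ) := by
    intro θ
    have h : ∑ χ : Cfsg.IrrCharacter G, (χ : G → ℂ) 1 *
        Cfsg.classInner (fun n : H => (χ : G → ℂ) n) (θ : H → ℂ) =
        (H.index : ℂ) * (θ : H → ℂ) 1 := by
      simp only [CharBasic.classInner_def, Finset.mul_sum]
      rw [Finset.sum_comm, Finset.sum_eq_single (1 : H)]
      · calc _ = (Nat.card H : ℂ)⁻¹ * (starRingEnd ℂ) ((θ : H → ℂ) 1) *
              ∑ χ : Cfsg.IrrCharacter G, (χ : G → ℂ) 1 * (χ : G → ℂ) 1 := by
              rw [Finset.mul_sum]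
              exact Finset.sum_congr rfl fun χ _ => by rw [Subgroup.coe_one]; ring
          _ = _ := by
              rw [CharBasic.sum_degree_mul_apply, if_pos rfl, hd, Complex.conj_natCast,
                ← H.card_mul_index, Nat.cast_mul]
              field_simp
      · intro n _ hn
        rw [Finset.sum_congr rfl (g := fun χ : Cfsg.IrrCharacter G =>
          ((Nat.card H : ℂ)⁻¹ * (starRingEnd ℂ) ((θ : H → ℂ) n)) *
            ((χ : G → ℂ) 1 * (χ : G → ℂ) n)) (fun χ _ => by ring), ← Finset.mul_sum,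
          CharBasic.sum_degree_mul_apply, if_neg (fun h' => hn (Subtype.ext (h'.trans (Subgroup.coe_one H).symm))), mul_zero]
      · simp
    simp only [hm, hd, hdG] at h
    exact_mod_cast h
  set BG := (Set.toFinite (Cfsg.principalBlock M G)).toFinset
  set BH := (Set.toFinite (Cfsg.principalBlock M H)).toFinset
  rw [finsum_mem_eq_finite_toFinset_sum _ (Set.toFinite _),
    finsum_mem_eq_finite_toFinset_sum _ (Set.toFinite _)]
  show ∑ θ ∈ BH, _ ≤ ∑ χ ∈ BG, _ ∧ _ ≤ H.index * ∑ θ ∈ BH, _
  constructor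
  · calc ∑ θ ∈ BH, Cfsg.charDegree (θ : H → ℂ) ^ 2
        ≤ ∑ θ ∈ BH, ∑ χ ∈ BG, m χ θ * Cfsg.charDegree (θ : H → ℂ) ^ 2 := by
          refine Finset.sum_le_sum fun θ hθ => ?_
          obtain ⟨χ, hχ, hne⟩ := Cores.exists_over_principalBlock hM H
            ((Set.Finite.mem_toFinset _).1 hθ)
          rw [hm, Nat.cast_ne_zero] at hne
          exact le_trans (Nat.le_mul_of_pos_left _ (Nat.pos_of_ne_zero hne))
            (Finset.single_le_sum (f := fun χ => m χ θ * Cfsg.charDegree (θ : H → ℂ) ^ 2)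
              (fun _ _ => Nat.zero_le _) ((Set.Finite.mem_toFinset _).2 hχ))
      _ ≤ ∑ χ ∈ BG, Cfsg.charDegree (χ : G → ℂ) ^ 2 := by
          rw [Finset.sum_comm]
          refine Finset.sum_le_sum fun χ _ => ?_
          rw [sq (Cfsg.charDegree (χ : G → ℂ))]
          nth_rw 1 [hres χ]
          rw [Finset.sum_mul]
          refine (Finset.sum_le_sum fun θ _ => ?_).trans
            (Finset.sum_le_sum_of_subset (Finset.subset_univ BH))
          rcases Nat.eq_zero_or_pos (m χ θ) with h0 | h0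
          · simp [h0]
          · rw [sq, ← mul_assoc]
            refine Nat.mul_le_mul_left _ (le_trans (Nat.le_mul_of_pos_left _ h0) ?_)
            rw [hres χ]
            exact Finset.single_le_sum (f := fun θ => m χ θ * Cfsg.charDegree (θ : H → ℂ))
              (fun _ _ => Nat.zero_le _) (Finset.mem_univ θ)
  · calc ∑ χ ∈ BG, Cfsg.charDegree (χ : G → ℂ) ^ 2
        = ∑ θ ∈ BH, ∑ χ ∈ BG,
            Cfsg.charDegree (θ : H → ℂ) * (Cfsg.charDegree (χ : G → ℂ) * m χ θ) := by
          rw [Finset.sum_comm]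
          refine Finset.sum_congr rfl fun χ hχ => ?_
          rw [sq]
          nth_rw 2 [hres χ]
          rw [Finset.mul_sum, ← Finset.sum_subset (Finset.subset_univ BH) fun θ _ hθ => ?_]
          · exact Finset.sum_congr rfl fun θ _ => by ring
          · rcases Nat.eq_zero_or_pos (m χ θ) with h0 | h0
            · simp [h0]
            · refine absurd ((Set.Finite.mem_toFinset _).2 (H81.mem_principalBlock_of_over H hM
                ((Set.Finite.mem_toFinset _).1 hχ) (θ := θ) ?_)) hθ
              rw [hm, Nat.cast_ne_zero]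
              exact h0.ne'
      _ ≤ ∑ θ ∈ BH, Cfsg.charDegree (θ : H → ℂ) * (H.index * Cfsg.charDegree (θ : H → ℂ)) := by
          refine Finset.sum_le_sum fun θ _ => ?_
          rw [← Finset.mul_sum, ← hind θ]
          exact Nat.mul_le_mul_left _ (Finset.sum_le_sum_of_subset (Finset.subset_univ BG))
      _ = _ := by
          rw [Finset.mul_sum]
          exact Finset.sum_congr rfl fun θ _ => by ring

end Cfsg.Agent.S4708
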