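import Cfsg.Statements.S4709
import Cfsg.Agent.H86.AbelianHomForm

set_option autoImplicit false
open Cfsg

namespace Cfsg.Agent.S4709

/-- Let p be a prime, M a maximal ideal of the algebraic integers containing p, and G a finite group with a nontrivial abelian Sylow p-subgroup P; put N = N_G(P), C = C_G(P). Suppose N/C is cyclic of order m with 1 < m < #P − 1 (C has index m in N and N is generated by C and one element), and C_G(y) ∩ N = C for every non-identity y ∈ P. Put r = (#P − 1)/m. Then there is s ≤ m such that the principal p-block is the disjoint union of a set X of s characters containing the principal character and a set Y of r characters, with integers a_χ ≠ 0 (χ ∈ X), d and a sign δ = ±1, such that: every χ ∈ X takes the value a_χ at every element whose p-part is a non-identity element of P; there is a map ζ from the non-principal linear characters ψ of P onto Y, constant on N-conjugacy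 classes, with ζ_ψ(z) = d + δ·Σ ψ'(y) for every z whose p-part y is a non-identity element of P, the sum running over the N-conjugates ψ' of ψ; (d − δ)^2 + (r − 1) d^2 + Σ_{χ ∈ X} a_χ^2 = m + 1; all members of Y agree on p-regular elements; and (r d − δ) η(g) + Σ_{χ ∈ X} a_χ χ(g) = 0 for every η ∈ Y and every p-regular g. -/
theorem result {G : Type*} [Group G] [Finite G] (p : ℕ) [Fact p.Prime] (M : Ideal Cfsg.AlgInt) (hM : Cfsg.IsPModular p M) (P : Sylow p G) (hab : IsMulCommutative P) (hP1 : Nat.card P ≠ 1) (m : ℕ) (hm1 : 1 < m) (hm2 : m + 1 < Nat.card P) (hCN : (Subgroup.centralizer ((P : Subgroup G) : Set G)).relIndex (Subgroup.normalizer ((P : Subgroup G) : Set G)) = m) (hcyc : ∃ g : G, g ∈ Subgroup.normalizer ((P : Subgroup G) : Set G) ∧ Subgroup.centralizer ((P : Subgroup G) : Set G) ⊔ Subgroup.zpowers g = Subgroup.normalizer ((P : Subgroup G) : Set G)) (hfrob : ∀ y : G, y ∈ (P : Subgroup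 G) → y ≠ 1 → Subgroup.centralizer ({y} : Set G) ⊓ Subgroup.normalizer ((P : Subgroup G) : Set G) = Subgroup.centralizer ((P : Subgroup G) : Set G)) : ∃ (s : ℕ) (X Y : Set (Cfsg.IrrCharacter G)), s ≤ m ∧ Cfsg.principalBlock M G = X ∪ Y ∧ Disjoint X Y ∧ Nat.card X = s ∧ Nat.card Y = (Nat.card P - 1) / m ∧ (∃ χ₁ ∈ X, (χ₁ : G → ℂ) = fun _ => 1) ∧ ∃ (a : Cfsg.IrrCharacter G → ℤ) (d δ : ℤ) (ζ : (↥(P : Subgroup G) →* ℂˣ) → Cfsg.IrrCharacter G), (δ = 1 ∨ δ = -1) ∧ (∀ χ ∈ X, a χ ≠ 0 ∧ ∀ z y : G, Cfsg.IsPPart p z y → y ∈ (P : Subgroup G) → y ≠ 1 → (χ : G → ℂ) z = (a χ : ℂ)) ∧ (∀ ψ : ↥(P : Subgroup G) →* ℂˣ, ψ ≠ 1 → ζ ψ ∈ Y) ∧ (∀ η ∈ Y, ∃ ψ : ↥(P : Subgroup G) →* ℂˣ, ψ ≠ 1 ∧ ζ ψ = η) ∧ (∀ ψ ψ' : ↥(P : Subgroup G) →* ℂˣ, ψ ≠ 1 → (∃ n : G, n ∈ Subgroup.normalizer ((P : Subgroup G) : Set G) ∧ ∀ w w' : ↥(P : Subgroup G), (w' : G) = n * w * n⁻¹ → ψ' w' = ψ w) → ζ ψ' = ζ ψ) ∧ (∀ ψ : ↥(P : Subgroup G) →* ℂˣ, ψ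 ≠ 1 → ∀ (z : G) (y : ↥(P : Subgroup G)), Cfsg.IsPPart p z (y : G) → (y : G) ≠ 1 → (ζ ψ : G → ℂ) z = (d : ℂ) + (δ : ℂ) * ∑ᶠ ψ' ∈ {ψ' : ↥(P : Subgroup G) →* ℂˣ | ∃ n : G, n ∈ Subgroup.normalizer ((P : Subgroup G) : Set G) ∧ ∀ w w' : ↥(P : Subgroup G), (w' : G) = n * w * n⁻¹ → ψ' w' = ψ w}, ((ψ' y : ℂˣ) : ℂ)) ∧ ((d - δ) ^ 2 + ((Nat.card P - 1) / m - 1 : ℤ) * d ^ 2 + ∑ᶠ χ ∈ X, a χ ^ 2 = (m : ℤ) + 1) ∧ (∀ η ∈ Y, ∀ η' ∈ Y, ∀ g : G, ¬ p ∣ orderOf g → (η : G → ℂ) g = (η' : G → ℂ) g) ∧ (∀ η ∈ Y, ∀ g : G, ¬ p ∣ orderOf g → ((((Nat.card P - 1) / m : ℕ) : ℂ) * d - δ) * (η : G → ℂ) g + ∑ᶠ χ ∈ X, (a χ : ℂ) * (χ : G → ℂ) g = 0) := by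
  classical
  cases nonempty_fintype G
  haveI : Fintype (P : Subgroup G) := Fintype.ofFinite _
  haveI : Fintype (Subgroup.normalizer (P : Set G)) := Fintype.ofFinite _
  haveI : IsMulCommutative (P : Subgroup G) := hab
  have hfix : H86.Abelian.FreeFusion P := fun n hn x hx hx1 hnx => by
    rw [← hfrob x hx hx1]
    exact ⟨Subgroup.mem_centralizer_singleton_iff.2 (mul_inv_eq_iff_eq_mul.1 hnx), hn⟩
  have hCN' : (Subgroup.centralizer ((P : Subgroup G) : Set G)).relIndex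
      (Subgroup.normalizer (P : Set G)) = m := hCN
  obtain ⟨Y, ζ, δ, d, a, hδ, hYB, hY1, ha1, hζY, hζsurj, hζorb, hcard, hζval, hout, hnorm, hYreg,
    hrel⟩ := H86.Abelian.exists_exceptional P hM hfix (by rw [hCN']; exact hm2)
  rw [hCN'] at hcard hnorm
  set X : Finset (IrrCharacter G) :=
    Finset.univ.filter fun χ => χ ∈ principalBlock M G ∧ χ ∉ Y with hX
  have hmemX : ∀ χ, χ ∈ X ↔ χ ∈ principalBlock M G ∧ χ ∉ Y := fun χ => by simp [hX]
  have hYq : (Nat.card P - 1) / m = Y.card := by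
    rw [← hcard, Nat.add_sub_cancel, Nat.mul_div_cancel _ (by omega)]
  have hnormX : (d - δ) ^ 2 + ((Y.card : ℤ) - 1) * d ^ 2 + ∑ χ ∈ X, a χ ^ 2 = (m : ℤ) + 1 := by
    rw [← hnorm, hX, Finset.sum_filter]
  have hsX : X.card ≤ m := by
    have h1 : (X.card : ℤ) ≤ ∑ χ ∈ X, a χ ^ 2 := by
      rw [Finset.cast_card]
      refine Finset.sum_le_sum fun χ hχ => ?_
      have h0 := (hout χ ((hmemX χ).1 hχ).1 ((hmemX χ).1 hχ).2).1
      nlinarith [Int.one_le_abs h0, sq_abs (a χ)]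
    have hY2 : (2 : ℤ) ≤ (Y.card : ℤ) := by
      by_contra hlt
      have h3 : Y.card * m ≤ 1 * m := Nat.mul_le_mul_right m (by omega)
      omega
    rcases eq_or_ne d 0 with h0 | h0
    · subst h0
      rcases hδ with e | e <;> subst e <;> norm_num at hnormX <;> omega
    · have h5 : 1 ≤ ((Y.card : ℤ) - 1) * d ^ 2 := by
        have : 0 < d ^ 2 := by positivity
        nlinarith
      nlinarith [sq_nonneg (d - δ)]
  refine ⟨X.card, X, Y, hsX, ?_, ?_, ?_, ?_, ⟨BlockBasic.trivialIrr, ?_, rfl⟩, a, d, δ,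
    fun ψ => ζ (H86.Abelian.toIrr P ψ), hδ, ?_, ?_, ?_, ?_, ?_, ?_, ?_, ?_⟩
  · ext χ
    simp only [Set.mem_union, Finset.mem_coe, hmemX]
    constructor
    · intro h
      by_cases hY' : χ ∈ Y
      exacts [Or.inr hY', Or.inl ⟨h, hY'⟩]
    · rintro (h | h)
      exacts [h.1, hYB χ h]
  · rw [Finset.disjoint_coe, Finset.disjoint_left]
    exact fun χ h => ((hmemX χ).1 h).2
  · simp
  · rw [hYq]; simp
  · exact (hmemX _).2 ⟨BlockBasic.sameBlock_refl hM _, hY1⟩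
  · intro χ hχ
    obtain ⟨hB, hnY⟩ := (hmemX χ).1 hχ
    refine ⟨(hout χ hB hnY).1, fun z y hzy hy hy1 => ?_⟩
    rw [H86.Abelian.apply_eq_of_isPPart P hM hfix hB hzy hy hy1]
    exact (hout χ hB hnY).2 ⟨y, hy⟩ fun e => hy1 (congrArg Subtype.val e)
  · exact fun ψ hψ => hζY _ ((H86.Abelian.toIrr_ne_triv P).2 hψ)
  · intro η hη
    obtain ⟨b, hb, rfl⟩ := hζsurj η hη
    obtain ⟨ψ, rfl⟩ := H86.Abelian.toIrr_surjective P b
    exact ⟨ψ, (H86.Abelian.toIrr_ne_triv P).1 hb, rfl⟩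
  · intro ψ ψ' hψ hconj
    have hmem := (H86.Abelian.mem_homOrbit P).1 (show ψ' ∈ H86.Abelian.homOrbit P ψ from hconj)
    have hb := (H86.Abelian.toIrr_ne_triv P).2 hψ
    obtain ⟨n, hn⟩ := (H86.Abelian.mem_orb P).1 hmem
    exact (hζorb _ _ hb (hn ▸ H86.Abelian.actIrr_ne_triv P hb n)).2 hmem
  · intro ψ hψ z y hzy hy1
    have hb := (H86.Abelian.toIrr_ne_triv P).2 hψ
    rw [H86.Abelian.apply_eq_of_isPPart P hM hfix (hYB _ (hζY _ hb)) hzy y.2 hy1,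
      hζval _ hb y fun e => hy1 (congrArg Subtype.val e),
      ← H86.Abelian.finsum_homOrbit P ψ fun b => (b : ↥(P : Subgroup G) → ℂ) y]
    rfl
  · rw [finsum_mem_coe_finset]
    rw [show ((Nat.card P : ℤ) - 1) / (m : ℤ) = (Y.card : ℤ) from ?_]
    · exact hnormX
    · rw [← hcard]; push_cast
      rw [add_sub_cancel_right, Int.mul_ediv_cancel _ (by omega)]
  · exact fun η hη η' hη' => hYreg η hη η' hη'
  · intro η hη g hg
    rw [finsum_mem_coe_finset, hX, Finset.sum_filter, hYq]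
    have h := hrel η hη g hg
    push_cast at h ⊢
    exact h

end Cfsg.Agent.S4709
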