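import Cfsg.Statements.S4712
import Cfsg.Agent.H83.SectionPerm
import Mathlib.RingTheory.ZMod.UnitsCyclic

set_option autoImplicit false
open Cfsg

namespace Cfsg.Agent.S4712

/-- Let p be an odd prime, M a maximal ideal of the algebraic integers containing p, G a finite group of order n with p-part p^a, and B a p-block of G. Call an irreducible character χ p-rational when χ(g^k) = χ(g) for every g and every k coprime to n with k ≡ 1 modulo n/p^a (χ is fixed by the Galois automorphisms fixing the roots of unity of order prime to p). Then the number of p-rational irreducible characters in B is at least the p-regular rank of B (the number of irreducible Brauer characters in B). -/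
theorem result {G : Type*} [Group G] [Finite G] (p : ℕ) [Fact p.Prime] (hodd : p ≠ 2) (M : Ideal Cfsg.AlgInt) (hM : Cfsg.IsPModular p M) (B : Set (Cfsg.IrrCharacter G)) (hB : Cfsg.IsPBlock M B) : Cfsg.blockRank p B ≤ Nat.card {χ : Cfsg.IrrCharacter G // χ ∈ B ∧ ∀ k : ℕ, Nat.Coprime k (Nat.card G) → k ≡ 1 [MOD Nat.card G / p ^ (Nat.card G).factorization p] → ∀ g : G, (χ : G → ℂ) (g ^ k) = (χ : G → ℂ) g} := by
  classical
  cases nonempty_fintype G
  have hp : p.Prime := Fact.out
  set a := (Nat.card G).factorization p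
  set q := p ^ a with hq
  set m := Nat.card G / q with hm
  have hqm : q * m = Nat.card G := Nat.ordProj_mul_ordCompl_eq_self _ p
  have hco : Nat.Coprime q m :=
    (hp.coprime_iff_not_dvd.2 (Nat.not_dvd_ordCompl hp Nat.card_pos.ne')).pow_left _
  haveI : NeZero q := ⟨pow_ne_zero _ hp.ne_zero⟩
  haveI : IsCyclic (ZMod q)ˣ := ZMod.isCyclic_units_of_prime_pow p hp hodd a
  obtain ⟨u, hu⟩ := IsCyclic.exists_monoid_generator (α := (ZMod q)ˣ)
  obtain ⟨k, hk1, hk2⟩ := Nat.chineseRemainder hco (u : ZMod q).val 1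
  have hkco : Nat.Coprime k (Nat.card G) := by
    rw [← hqm]
    refine Nat.Coprime.mul_right ?_ ?_
    · rw [Nat.Coprime, hk1.gcd_eq]
      exact ZMod.val_coe_unit_coprime u
    · rw [Nat.Coprime, hk2.gcd_eq]
      exact Nat.gcd_one_left _
  have hreg : ∀ g : G, ¬ p ∣ orderOf g → g ^ k = g := by
    intro g hg
    have hd : orderOf g ∣ m := by
      have h1 : orderOf g ∣ q * m := hqm ▸ orderOf_dvd_natCard g
      exact ((hp.coprime_iff_not_dvd.2 hg).symm.pow_right _).dvd_of_dvd_mul_left h1
    conv_rhs => rw [← pow_one g]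
    exact pow_eq_pow_iff_modEq.2 (hk2.of_dvd hd)
  refine le_trans (H83.SectionPerm.blockRank_le_card_fixed hM hB hkco hreg) ?_
  rw [Nat.card_eq_fintype_card, Fintype.card_subtype]
  refine Finset.card_le_card fun χ hχ => ?_
  obtain ⟨hχB, hfix⟩ := (Finset.mem_filter.1 hχ).2
  refine Finset.mem_filter.2 ⟨Finset.mem_univ _, hχB, fun k' hk' hk'1 g => ?_⟩
  have hk'q : Nat.Coprime k' q := Nat.Coprime.coprime_dvd_right (Dvd.intro m hqm) hk'
  obtain ⟨j, hj⟩ := hu (ZMod.unitOfCoprime k' hk'q)
  have hcast : ((k' : ℕ) : ZMod q) = ((k ^ j : ℕ) : ZMod q) := by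
    have h1 := congrArg Units.val hj
    simp only [Units.val_pow_eq_pow_val, ZMod.coe_unitOfCoprime] at h1
    rw [Nat.cast_pow, (ZMod.natCast_eq_natCast_iff _ _ _).2 hk1, ZMod.natCast_zmod_val]
    exact h1.symm
  have hmod : k' ≡ k ^ j [MOD Nat.card G] := by
    rw [← hqm]
    refine (Nat.modEq_and_modEq_iff_modEq_mul hco).1 ⟨(ZMod.natCast_eq_natCast_iff _ _ _).1 hcast, ?_⟩
    refine hk'1.trans ?_
    simpa using (hk2.pow j).symm
  rw [pow_eq_pow_iff_modEq.2 (hmod.of_dvd (orderOf_dvd_natCard g))]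
  clear hcast hj hmod
  induction j with
  | zero => simp
  | succ j ih => rw [pow_succ, pow_mul, hfix, ih]

end Cfsg.Agent.S4712
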