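import Cfsg.Statements.S4714
import Cfsg.Agent.BlockBasic.NormalDefect
-- import your own Cfsg.Agent.* helpers here

set_option autoImplicit false
open Cfsg Cfsg.Agent Cfsg.Agent.BlockBasic Cfsg.Agent.CharBasic

namespace Cfsg.Agent.S4714

/-- Let p be a prime, M a maximal ideal of the algebraic integers containing p, D a p-subgroup of the finite group G with G = D·C_G(D), and B a p-block with defect group D. Let χ be a member of B having D in its kernel (there is exactly one, the canonical character of B). Then the irreducible characters in B are exactly the functions θ on G for which there is an irreducible character ζ of D such that θ(yx) = ζ(y)χ(x) whenever y ∈ D, x has order prime to p and x commutes with y, and θ(z) = 0 whenever the p-part of z does not lie in D. -/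
theorem result {G : Type*} [Group G] [Finite G] (p : ℕ) [Fact p.Prime] (M : Ideal Cfsg.AlgInt) (hM : Cfsg.IsPModular p M) (D : Subgroup G) (hD : IsPGroup p D) (hG : D ⊔ Subgroup.centralizer (D : Set G) = ⊤) (B : Set (Cfsg.IrrCharacter G)) (hB : Cfsg.IsPBlock M B) (hBD : Cfsg.IsDefectGroup p M B D) (χ : Cfsg.IrrCharacter G) (hχ : χ ∈ B) (hχD : ∀ y ∈ D, (χ : G → ℂ) y = (χ : G → ℂ) 1) : (∀ θ : Cfsg.IrrCharacter G, θ ∈ B ↔ ∃ ζ : Cfsg.IrrCharacter D, (∀ (y : D) (x : G), ¬ p ∣ orderOf x → Commute (y : G) x → (θ : G → ℂ) ((y : G) * x) = (ζ : D → ℂ) y * (χ : G → ℂ) x) ∧ (∀ z : G, (∀ y : G, Cfsg.IsPPart p z y → y ∉ D) → (θ : G → ℂ) z = 0)) ∧ ∀ ζ : Cfsg.IrrCharacter D, ∃ θ ∈ B, (∀ (y : D) (x : G), ¬ p ∣ orderOf x → Commute (y : G) x → (θ : G → ℂ) ((y : G) * x) = (ζ : D → ℂ) y * (χ : G → ℂ) x) ∧ (∀ z : G, (∀ y : G, Cfsg.IsPPart p z y → y ∉ D) → (θ : G → ℂ) z = 0) := by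
  classical
  cases nonempty_fintype G
  haveI := Fintype.ofFinite D
  have h1D := hχD
  have hform : ∀ θ ∈ B, ∃ ζ : Cfsg.IrrCharacter D,
      (∀ (y : D) (x : G), ¬ p ∣ orderOf x → Commute (y : G) x →
        (θ : G → ℂ) ((y : G) * x) = (ζ : D → ℂ) y * (χ : G → ℂ) x) ∧
      (∀ z : G, (∀ y : G, Cfsg.IsPPart p z y → y ∉ D) → (θ : G → ℂ) z = 0) := by
    intro θ hθ
    obtain ⟨ζ, hζ⟩ := NormalDefect.defect_constituent hM hB hG hBD hχ h1D hθ
    refine ⟨ζ, fun y x hx _ => ?_, fun z hz => CentralDefect.apply_eq_zero hM hB hG hBD hθ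
      (hz _ (isPPart_pPart z))⟩
    refine mul_right_cancel₀ (irr_one_ne_zero χ.2) ?_
    rw [CentralDefect.apply_mul hM hB hG hBD hχ h1D hθ y.2 hx, hζ]
    ring
  have hone : ¬ p ∣ orderOf (1 : G) := by
    rw [orderOf_one, Nat.dvd_one]; exact (Fact.out : p.Prime).ne_one
  haveI : Nonempty (Cfsg.IrrCharacter D) := ⟨trivialIrr⟩
  choose! F hF1 hF2 using hform
  have hinj : Function.Injective (fun θ : B => F θ.1) := by
    intro θ θ' he
    apply Subtype.ext
    apply Subtype.ext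
    funext g
    by_cases hg : pPart (p := p) g ∈ D
    · rw [← pPart_mul_pReg (p := p) g,
        hF1 θ.1 θ.2 ⟨_, hg⟩ _ (not_dvd_orderOf_pReg g) (commute_pPart_pReg g),
        hF1 θ'.1 θ'.2 ⟨_, hg⟩ _ (not_dvd_orderOf_pReg g) (commute_pPart_pReg g),
        show F θ.1 = F θ'.1 from he]
    · rw [CentralDefect.apply_eq_zero hM hB hG hBD θ.2 hg,
        CentralDefect.apply_eq_zero hM hB hG hBD θ'.2 hg]
  haveI : Fintype B := Fintype.ofFinite _
  have hbij : Function.Bijective (fun θ : B => F θ.1) :=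
    (Fintype.bijective_iff_injective_and_card _).2 ⟨hinj, by
      rw [← Nat.card_eq_fintype_card, ← Nat.card_eq_fintype_card,
        CentralDefect.card_eq hM hB hG hBD hχ h1D, card_irrCharacter]⟩
  refine ⟨fun θ => ⟨fun hθ => ⟨F θ, hF1 θ hθ, hF2 θ hθ⟩, ?_⟩, fun ζ => ?_⟩
  · rintro ⟨ζ, hζ, -⟩
    have hreg : ∀ x : G, ¬ p ∣ orderOf x → (θ : G → ℂ) x = (ζ : D → ℂ) 1 * (χ : G → ℂ) x := by
      intro x hx
      simpa using hζ 1 x hx (Commute.one_left x)
    rw [isPBlock_eq_blockOf hM hB hχ]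
    refine mem_blockOf.2 (H86.sameBlock_of_regular hM χ θ fun x hx => ?_)
    have hz : (ζ : D → ℂ) 1 ≠ 0 := irr_one_ne_zero ζ.2
    rw [Cfsg.centralChar, Cfsg.centralChar, hreg x hx, hreg 1 hone,
      ← mul_assoc, mul_comm _ ((ζ : D → ℂ) 1), mul_assoc, mul_div_mul_left _ _ hz, sub_self]
    exact memLocalIdeal_zero hM
  · obtain ⟨θ, rfl⟩ := hbij.2 ζ
    exact ⟨θ.1, θ.2, hF1 θ.1 θ.2, hF2 θ.1 θ.2⟩

end Cfsg.Agent.S4714
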