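import Cfsg.Statements.S4715
import Cfsg.Agent.H83.HeightPairs

set_option autoImplicit false
open Cfsg

namespace Cfsg.Agent.S4715

/-- Let p be a prime, M a maximal ideal of the algebraic integers containing p, B a p-block of the finite group G with defect group D of order p^d, H = D·C_G(D), b a block of H inducing B, T the stabilizer of b in N_G(D) and e = [T : H] the inertial index of B; let n be the integer with p^n ≤ e < p^(n+1) and p^c the order of the centre of D. Then every irreducible character in B has height h with h + c ≤ n + d. -/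
theorem result {G : Type*} [Group G] [Finite G] (p : ℕ) [Fact p.Prime] (M : Ideal Cfsg.AlgInt) (hM : Cfsg.IsPModular p M) (B : Set (Cfsg.IrrCharacter G)) (hB : Cfsg.IsPBlock M B) (D : Subgroup G) (hBD : Cfsg.IsDefectGroup p M B D) (d : ℕ) (hDd : Nat.card D = p ^ d) (H : Subgroup G) (hH : H = D ⊔ Subgroup.centralizer (D : Set G)) (b : Set (Cfsg.IrrCharacter H)) (hind : Cfsg.IsInducedBlock M H b B) (T : Subgroup G) (hT : ∀ g : G, g ∈ T ↔ (g ∈ Subgroup.normalizer (D : Set G) ∧ ∀ θ ∈ b, ∀ θ' : Cfsg.IrrCharacter H, (∀ h h' : H, (h' : G) = g * h * g⁻¹ → (θ' : H → ℂ) h' = (θ : H → ℂ) h) → θ' ∈ b)) (e : ℕ) (he : H.relIndex T = e) (n : ℕ) (hn : p ^ n ≤ e ∧ e < p ^ (n + 1)) (c : ℕ) (hc : Nat.card (Subgroup.center D) = p ^ c) : ∀ χ ∈ B, Cfsg.blockHeight p B (χ : G → ℂ) + c ≤ n + d := by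
  classical
  cases nonempty_fintype G
  intro χ hχ
  obtain ⟨e', hmax, hstab⟩ := H83.exists_pair_of_root hM hB hBD hH hind
  have hdB : Cfsg.blockDefect p B = d := by
    have h1 := H35.card_defectGroup hM hB hBD
    rw [hDd] at h1
    exact (Nat.pow_right_injective (Fact.out : p.Prime).two_le h1).symm
  -- the pairs below `(D, e')`
  have hsub : ∀ Q : Subgroup G, ∃ f : Set (Cfsg.IrrCharacter (Subgroup.centralizer (Q : Set G))),
      Q ≤ D → Cfsg.SubpairLE p M Q f D e' := fun Q => by
    by_cases h : Q ≤ D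
    · obtain ⟨f, -, hf⟩ := H82.exists_subpair hM hmax.1.1 h
      exact ⟨f, fun _ => hf⟩
    · exact ⟨∅, fun h' => absurd h' h⟩
  choose f hf using hsub
  set z : Subgroup G → G → ℂ := fun Q =>
    Cfsg.subgroupBlockCoeff (Subgroup.centralizer (Q : Set G)) (f Q) with hz
  set Z : Finset G := Finset.univ.filter (fun u => u ∈ D ∧ ∀ x ∈ D, x * u = u * x) with hZ
  have hZm : ∀ {u}, u ∈ Z → u ∈ D ∧ ∀ x ∈ D, x * u = u * x := fun h => (Finset.mem_filter.1 h).2
  have hZcard : Z.card = Nat.card (Subgroup.center D) := by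
    rw [Nat.card_eq_fintype_card, ← Finset.card_univ]
    symm
    refine Finset.card_bij (fun x _ => ((x : D) : G)) (fun x _ => ?_)
      (fun a _ b _ h => Subtype.ext (Subtype.ext h)) fun u hu => ?_
    · exact Finset.mem_filter.2 ⟨Finset.mem_univ _, (x : D).2, fun y hy =>
        congrArg Subtype.val (Subgroup.mem_center_iff.1 x.2 ⟨y, hy⟩)⟩
    · exact ⟨⟨⟨u, (hZm hu).1⟩, Subgroup.mem_center_iff.2 fun y => Subtype.ext ((hZm hu).2 y y.2)⟩,
        Finset.mem_univ _, rfl⟩
  have hDp : IsPGroup p D := hmax.1.1.1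
  -- the weights add up to at most the inertial index
  set F : G × G → G × (G → ℂ) := fun a =>
    (a.2 * a.1 * a.2⁻¹, fun c => z (Subgroup.zpowers a.1) (a.2⁻¹ * c * a.2)) with hF
  set w : G × (G → ℂ) → ℝ := fun y => H83.secWeight p (χ : G → ℂ) y.1 y.2 with hw
  set A := Z ×ˢ (Finset.univ : Finset G) with hA
  have hfib : ∀ y ∈ A.image F, (A.filter fun a => F a = y).card ≤
      e * Nat.card (Subgroup.centralizer ({y.1} : Set G)) := by
    intro y hy
    obtain ⟨⟨u₀, g₀⟩, hmem, rfl⟩ := Finset.mem_image.1 hy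
    have hu₀ : u₀ ∈ Z := (Finset.mem_product.1 hmem).1
    set S := A.filter fun a => F a = F (u₀, g₀) with hS
    haveI : Fintype (T ⧸ H.subgroupOf T) := Fintype.ofFinite _
    set U : Finset G := Finset.univ.image (fun q : T ⧸ H.subgroupOf T =>
      (q.out : G) * u₀ * (q.out : G)⁻¹) with hU
    have hUcard : U.card ≤ e := by
      refine Finset.card_image_le.trans (le_of_eq ?_)
      rw [Finset.card_univ, ← Nat.card_eq_fintype_card, ← he]
      rfl
    have himg : S.image Prod.fst ⊆ U := by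
      intro v hv
      obtain ⟨⟨v', g⟩, hvg, rfl⟩ := Finset.mem_image.1 hv
      obtain ⟨hvA, hFeq⟩ := Finset.mem_filter.1 hvg
      have hvZ : v' ∈ Z := (Finset.mem_product.1 hvA).1
      simp only [hF, Prod.mk.injEq] at hFeq
      obtain ⟨h1, h2⟩ := hFeq
      obtain ⟨n, hn, hnv⟩ := H83.exists_stab_conj hM hmax (hZm hu₀).1 (hZm hvZ).1 (hZm hu₀).2
        (hZm hvZ).2 (hf _ (Subgroup.zpowers_le.2 (hZm hu₀).1))
        (hf _ (Subgroup.zpowers_le.2 (hZm hvZ).1)) (g := g⁻¹ * g₀)
        (by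
          calc g⁻¹ * g₀ * u₀ * (g⁻¹ * g₀)⁻¹ = g⁻¹ * (g₀ * u₀ * g₀⁻¹) * g := by group
            _ = g⁻¹ * (g * v' * g⁻¹) * g := by rw [h1]
            _ = v' := by group)
        (fun c => by
          have h3 := congrFun h2 (g * c * g⁻¹)
          rw [H82.coeff_blockUp, H82.coeff_blockUp]
          simp only [hz] at h3
          rw [show g⁻¹ * (g * c * g⁻¹) * g = c by group] at h3
          rw [h3]
          congr 1
          group)
      have hnT : n ∈ T := (hT n).2 (hstab n hn)
      refine Finset.mem_image.2 ⟨(⟨n, hnT⟩ : T), Finset.mem_univ _, ?_⟩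
      obtain ⟨k, hk⟩ := QuotientGroup.mk_out_eq_mul (H.subgroupOf T) ⟨n, hnT⟩
      rw [hk]
      have hkH : ((k : T) : G) ∈ D ⊔ Subgroup.centralizer (D : Set G) := hH.le k.2
      have hku : ((k : T) : G) * u₀ = u₀ * ((k : T) : G) := by
        refine Subgroup.mem_centralizer_singleton_iff.1 ((sup_le (fun x hx => ?_) (fun x hx => ?_) :
          D ⊔ Subgroup.centralizer (D : Set G) ≤ Subgroup.centralizer ({u₀} : Set G)) hkH)
        · exact Subgroup.mem_centralizer_singleton_iff.2 ((hZm hu₀).2 x hx)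
        · exact Subgroup.mem_centralizer_singleton_iff.2
            (Subgroup.mem_centralizer_iff.1 hx u₀ (hZm hu₀).1).symm
      show n * ((k : T) : G) * u₀ * (n * ((k : T) : G))⁻¹ = v'
      calc n * ((k : T) : G) * u₀ * (n * ((k : T) : G))⁻¹
          = n * (((k : T) : G) * u₀) * ((k : T) : G)⁻¹ * n⁻¹ := by group
        _ = v' := by rw [hku]; group; simpa [mul_assoc] using hnv
    refine (Finset.card_le_mul_card_image (f := Prod.fst) S
      (Nat.card (Subgroup.centralizer ({(F (u₀, g₀)).1} : Set G))) fun v hv => ?_).trans ?_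
    · obtain ⟨⟨v', g₁⟩, hvg, rfl⟩ := Finset.mem_image.1 hv
      have h1 : g₁ * v' * g₁⁻¹ = (F (u₀, g₀)).1 := congrArg Prod.fst (Finset.mem_filter.1 hvg).2
      rw [Nat.card_eq_fintype_card, ← Finset.card_univ]
      refine Finset.card_le_card_of_injOn (fun a => if h : a.2 * g₁⁻¹ ∈
          Subgroup.centralizer ({(F (u₀, g₀)).1} : Set G) then ⟨_, h⟩ else 1)
        (fun _ _ => Finset.mem_coe.2 (Finset.mem_univ _)) ?_
      have hmemC : ∀ a ∈ S.filter (fun a => a.1 = v'),
          a.2 * g₁⁻¹ ∈ Subgroup.centralizer ({(F (u₀, g₀)).1} : Set G) := by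
        intro a ha
        obtain ⟨ha1, ha2⟩ := Finset.mem_filter.1 ha
        have h2 : a.2 * a.1 * a.2⁻¹ = (F (u₀, g₀)).1 := congrArg Prod.fst (Finset.mem_filter.1 ha1).2
        rw [ha2] at h2
        rw [Subgroup.mem_centralizer_singleton_iff]
        calc a.2 * g₁⁻¹ * (F (u₀, g₀)).1 = a.2 * g₁⁻¹ * (g₁ * v' * g₁⁻¹) := by rw [h1]
          _ = a.2 * v' * a.2⁻¹ * (a.2 * g₁⁻¹) := by group
          _ = (F (u₀, g₀)).1 * (a.2 * g₁⁻¹) := by rw [h2]
      intro a ha b hb hab
      simp only [dif_pos (hmemC a ha), dif_pos (hmemC b hb), Subtype.mk.injEq, mul_left_inj] at hab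
      exact Prod.ext ((Finset.mem_filter.1 ha).2.trans (Finset.mem_filter.1 hb).2.symm) hab
    · rw [mul_comm]
      exact Nat.mul_le_mul_right _ ((Finset.card_le_card himg).trans hUcard)
  have hblocks : ∀ y ∈ A.image F, (∃ k, orderOf y.1 = p ^ k) ∧
      ∃ k : Set (Cfsg.IrrCharacter (Subgroup.centralizer ((Subgroup.zpowers y.1 : Subgroup G) : Set G))),
        Cfsg.IsPBlock M k ∧ Cfsg.subgroupBlockCoeff _ k = y.2 := by
    intro y hy
    obtain ⟨⟨u, g⟩, hmem, rfl⟩ := Finset.mem_image.1 hy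
    have hu : u ∈ D := (hZm (Finset.mem_product.1 hmem).1).1
    refine ⟨?_, ?_⟩
    · obtain ⟨k, hk⟩ := IsPGroup.iff_orderOf.1 hDp ⟨u, hu⟩
      refine ⟨k, ?_⟩
      show orderOf (g * u * g⁻¹) = _
      rw [← MulAut.conj_apply g u, MulEquiv.orderOf_eq, ← hk, ← Subgroup.orderOf_coe]
    · show ∃ k : Set (Cfsg.IrrCharacter (Subgroup.centralizer
          ((Subgroup.zpowers (g * u * g⁻¹) : Subgroup G) : Set G))), Cfsg.IsPBlock M k ∧
          Cfsg.subgroupBlockCoeff _ k = fun c => z (Subgroup.zpowers u) (g⁻¹ * c * g)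
      rw [show Subgroup.zpowers (g * u * g⁻¹) =
        (Subgroup.zpowers u).map (MulAut.conj g).toMonoidHom from
        (MonoidHom.map_zpowers (MulAut.conj g).toMonoidHom u).symm]
      refine ⟨Cfsg.conjBlock _ g (f _), H82.isPBlock_conjBlock _ g
        (H82.isBrauerPair_of_subpairLE (hf _ (Subgroup.zpowers_le.2 hu)) hmax.1.1).2, funext fun c => ?_⟩
      rw [← H82.coeff_blockUp, H82.blockUp_conjBlock, H82.coeff_conjElt', H82.coeff_blockUp]
  have hwnn : ∀ y, 0 ≤ w y := fun y => H83.secWeight_nonneg _ _ _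
  have hupper : (Nat.card G : ℝ) * ∑ u ∈ Z, H83.secWeight p (χ : G → ℂ) u (z (Subgroup.zpowers u)) ≤
      (e : ℝ) * (Nat.card G : ℝ) := by
    calc (Nat.card G : ℝ) * ∑ u ∈ Z, H83.secWeight p (χ : G → ℂ) u (z (Subgroup.zpowers u))
        = ∑ a ∈ A, w (F a) := by
          rw [hA, Finset.sum_product, Finset.mul_sum]
          refine Finset.sum_congr rfl fun u _ => ?_
          simp only [hw, hF, H83.secWeight_conj, Finset.sum_const, Finset.card_univ, nsmul_eq_mul,
            Nat.card_eq_fintype_card]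
      _ = ∑ y ∈ A.image F, ((A.filter fun a => F a = y).card : ℝ) * w y := by
          rw [Finset.sum_comp w F]
          exact Finset.sum_congr rfl fun y _ => nsmul_eq_mul _ _
      _ ≤ ∑ y ∈ A.image F, (e : ℝ) * ((Nat.card (Subgroup.centralizer ({y.1} : Set G)) : ℝ) * w y) := by
          refine Finset.sum_le_sum fun y hy => ?_
          rw [← mul_assoc]
          exact mul_le_mul_of_nonneg_right (by exact_mod_cast hfib y hy) (hwnn y)
      _ ≤ (e : ℝ) * (Nat.card G : ℝ) := by
          rw [← Finset.mul_sum, ← H83.sum_all_secWeight hM χ]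
          refine mul_le_mul_of_nonneg_left ?_ (Nat.cast_nonneg _)
          simp only [Finset.mul_sum]
          rw [Finset.sum_sigma']
          set K := (Finset.univ.filter (fun x : G => ∃ k, orderOf x = p ^ k)).sigma fun x =>
            Finset.univ.filter (fun k : Set (Cfsg.IrrCharacter
              (Subgroup.centralizer ((Subgroup.zpowers x : Subgroup G) : Set G))) => Cfsg.IsPBlock M k)
          have hle : A.image F ⊆ K.image fun a => (a.1, Cfsg.subgroupBlockCoeff _ a.2) := by
            intro y hy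
            obtain ⟨hp', k, hk, hky⟩ := hblocks y hy
            exact Finset.mem_image.2 ⟨⟨y.1, k⟩, Finset.mem_sigma.2 ⟨Finset.mem_filter.2
              ⟨Finset.mem_univ _, hp'⟩, Finset.mem_filter.2 ⟨Finset.mem_univ _, hk⟩⟩,
              Prod.ext rfl hky⟩
          refine (Finset.sum_le_sum_of_subset_of_nonneg hle fun y _ _ =>
            mul_nonneg (Nat.cast_nonneg _) (hwnn y)).trans ?_
          exact Finset.sum_image_le_of_nonneg fun y _ => mul_nonneg (Nat.cast_nonneg _) (hwnn y)
  have hupper' : ∑ u ∈ Z, H83.secWeight p (χ : G → ℂ) u (z (Subgroup.zpowers u)) ≤ (e : ℝ) := by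
    rw [mul_comm (e : ℝ)] at hupper
    exact le_of_mul_le_mul_left hupper (Nat.cast_pos.2 Nat.card_pos)
  -- the major subsections bound them from below
  set h := Cfsg.blockHeight p B (χ : G → ℂ) with hh
  have hlower : (Z.card : ℝ) * (p : ℝ) ^ h ≤
      (p : ℝ) ^ d * ∑ u ∈ Z, H83.secWeight p (χ : G → ℂ) u (z (Subgroup.zpowers u)) := by
    rw [Finset.card_eq_sum_card_image (fun u => Subgroup.zpowers u) Z, Nat.cast_sum, Finset.sum_mul,
      ← Finset.sum_fiberwise_of_maps_to (g := fun u => Subgroup.zpowers u)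
        (t := Z.image fun u => Subgroup.zpowers u) (fun u hu => Finset.mem_image_of_mem _ hu),
      Finset.mul_sum]
    refine Finset.sum_le_sum fun Q hQ => ?_
    obtain ⟨u, hu, rfl⟩ := Finset.mem_image.1 hQ
    obtain ⟨huD, huC⟩ := hZm hu
    have hfilter : (Z.filter fun v => Subgroup.zpowers v = Subgroup.zpowers u) =
        Finset.univ.filter (fun v : G => Subgroup.zpowers v = Subgroup.zpowers u) := by
      ext v
      simp only [Finset.mem_filter, Finset.mem_univ, true_and, and_iff_right_iff_imp]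
      intro hv
      have hvu : v ∈ Subgroup.zpowers u := hv ▸ Subgroup.mem_zpowers v
      refine Finset.mem_filter.2 ⟨Finset.mem_univ _, Subgroup.zpowers_le.2 huD hvu, fun x hx => ?_⟩
      obtain ⟨k, rfl⟩ := Subgroup.mem_zpowers_iff.1 hvu
      exact (Commute.zpow_right (huC x hx) k).eq
    rw [hfilter, Finset.sum_congr rfl fun v hv => by
      rw [(Finset.mem_filter.1 hv).2]]
    obtain ⟨k, hk⟩ := IsPGroup.iff_orderOf.1 hDp ⟨u, huD⟩
    have hC : Subgroup.centralizer ((Subgroup.zpowers u : Subgroup G) : Set G) =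
        Subgroup.centralizer ({u} : Set G) := H83.centralizer_zpowers_singleton u
    have hQC : Subgroup.zpowers u ≤
        Subgroup.centralizer ((Subgroup.zpowers u : Subgroup G) : Set G) := by
      rw [hC, Subgroup.zpowers_le, Subgroup.mem_centralizer_singleton_iff]
    have hDC : D ≤ Subgroup.centralizer ((Subgroup.zpowers u : Subgroup G) : Set G) := fun x hx => by
      rw [hC, Subgroup.mem_centralizer_singleton_iff]
      exact huC x hx
    obtain ⟨hi, hbd⟩ := H83.major_of_le hM hmax (hDp.to_le (Subgroup.zpowers_le.2 huD)) hQC hDC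
      (hf _ (Subgroup.zpowers_le.2 huD))
    have hu' : orderOf u = p ^ k := by rw [← hk, ← Subgroup.orderOf_coe]
    haveI : Fintype (Subgroup.centralizer ((Subgroup.zpowers u : Subgroup G) : Set G)) :=
      Fintype.ofFinite _
    rw [← hdB]
    exact H83.card_mul_le_sum_secWeight hM hu' _ hC hi hbd hχ
  have hp1 := (Fact.out : p.Prime).one_lt
  have hp0 : (0 : ℝ) ≤ (p : ℝ) ^ d := pow_nonneg (Nat.cast_nonneg p) d
  have hfin : ((p ^ (c + h) : ℕ) : ℝ) ≤ ((p ^ d * e : ℕ) : ℝ) := by
    push_cast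
    rw [pow_add]
    refine le_trans (le_of_eq ?_) (hlower.trans (mul_le_mul_of_nonneg_left hupper' hp0))
    rw [hZcard, hc]
    push_cast
    rfl
  have hfin' : p ^ (c + h) ≤ p ^ d * e := by exact_mod_cast hfin
  have hlt : p ^ (c + h) < p ^ (d + (n + 1)) := by
    rw [pow_add p d]
    exact hfin'.trans_lt (Nat.mul_lt_mul_of_pos_left hn.2 (pow_pos (Nat.zero_lt_of_lt hp1) d))
  have := (Nat.pow_lt_pow_iff_right hp1).1 hlt
  omega

end Cfsg.Agent.S4715
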