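import Cfsg.Statements.S4717
import Cfsg.Agent.Cores.Deficiency
import Cfsg.Agent.BlockBasic.Brauer

set_option autoImplicit false
open Cfsg

namespace Cfsg.Agent.S4717

/-- Let p be a prime, M a maximal ideal of the algebraic integers containing p, and r a natural number; say that a finite group X has deficiency class r when X has no non-principal p-block of defect ≥ r. If G has deficiency class r then so does the centralizer of every p-element of G; conversely, if r > 0 and the centralizer of every element of order p has deficiency class r, then G has deficiency class r. -/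
theorem result {G : Type*} [Group G] [Finite G] (p : ℕ) [Fact p.Prime] (M : Ideal Cfsg.AlgInt) (hM : Cfsg.IsPModular p M) (r : ℕ) : ((∀ B' : Set (Cfsg.IrrCharacter G), Cfsg.IsPBlock M B' → B' ≠ Cfsg.principalBlock M G → Cfsg.blockDefect p B' < r) → ∀ y : G, (∃ k : ℕ, orderOf y = p ^ k) → (∀ B' : Set (Cfsg.IrrCharacter ↥(Subgroup.centralizer ({y} : Set G))), Cfsg.IsPBlock M B' → B' ≠ Cfsg.principalBlock M ↥(Subgroup.centralizer ({y} : Set G)) → Cfsg.blockDefect p B' < r)) ∧ (0 < r → (∀ y : G, orderOf y = p → (∀ B' : Set (Cfsg.IrrCharacter ↥(Subgroup.centralizer ({y} : Set G))), Cfsg.IsPBlock M B' → B' ≠ Cfsg.principalBlock M ↥(Subgroup.centralizer ({y} : Set G)) → Cfsg.blockDefect p B' < r)) → (∀ B' : Set (Cfsg.IrrCharacter G), Cfsg.IsPBlock M B' → B' ≠ Cfsg.principalBlock M G → Cfsg.blockDefect p B' < r)) := by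
  have hp := (Fact.out : p.Prime)
  refine ⟨fun hG y hy B' hB' hne => ?_, fun hr hC B' hB' hne => ?_⟩
  · obtain ⟨k, hk⟩ := hy
    have hP : IsPGroup p (Subgroup.zpowers y) :=
      IsPGroup.of_card (n := k) (by rw [Nat.card_zpowers, hk])
    have hmem : ∀ c ∈ Subgroup.centralizer ({y} : Set G), ∀ q ∈ Subgroup.zpowers y, c * q = q * c := by
      rintro c hc _ ⟨i, rfl⟩
      exact (Commute.zpow_right (Subgroup.mem_centralizer_singleton_iff.1 hc) i).eq
    obtain ⟨B, hB⟩ := BlockBasic.inducedBlockDefined hM hP
      (H := Subgroup.centralizer ({y} : Set G))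
      (Subgroup.zpowers_le.2 (Subgroup.mem_centralizer_singleton_iff.2 rfl))
      (Subgroup.centralizer_le (Set.singleton_subset_iff.2 (Subgroup.mem_zpowers y)))
      (le_trans (fun c hc => Subgroup.mem_centralizer_iff.2 fun q hq => (hmem c hc q hq).symm)
        (Subgroup.centralizer_le_normalizer _)) hB'
    have hBne : B ≠ Cfsg.principalBlock M G := fun h => hne ((Cores.third_main hM hB).1 h)
    exact lt_of_le_of_lt (Cores.blockDefect_le_of_induced hM hB) (hG B hB.2.1 hBne)
  · by_contra hlt
    push Not at hlt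
    obtain ⟨g, hg⟩ := BlockBasic.exists_isDefectClass hM hB'
    obtain ⟨P⟩ : Nonempty (Sylow p (Subgroup.centralizer ({g} : Set G))) := inferInstance
    have hD : Cfsg.IsDefectGroup p M B' (H35.sylImage P) := ⟨g, hg, P, rfl⟩
    set D := H35.sylImage P with hDdef
    have hDp : IsPGroup p D := H35.sylImage_isPGroup P
    haveI : Nontrivial D := by
      rw [← Finite.one_lt_card_iff_nontrivial, H35.card_defectGroup hM hB' hD]
      exact Nat.one_lt_pow (by omega) hp.one_lt
    haveI := hDp.center_nontrivial
    obtain ⟨n, hn, hcard⟩ := (hDp.to_subgroup (Subgroup.center D)).nontrivial_iff_card.1 inferInstance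
    obtain ⟨z, hz⟩ := exists_prime_orderOf_dvd_card' (G := Subgroup.center D) p
      (hcard ▸ dvd_pow_self p (by omega))
    have hxo : orderOf ((z : D) : G) = p := by rw [Subgroup.orderOf_coe, Subgroup.orderOf_coe, hz]
    obtain ⟨b, hind, hdef⟩ := Cores.exists_block_of_centralizer hM hB' hD (x := ((z : D) : G))
      (z : D).2 (fun d hd => (congrArg Subtype.val (Subgroup.mem_center_iff.1 z.2 ⟨d, hd⟩)).symm)
    have hbne : b ≠ Cfsg.principalBlock M _ := fun h => hne ((Cores.third_main hM hind).2 h)
    have := hC _ hxo b hind.1 hbne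
    omega

end Cfsg.Agent.S4717
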