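import Cfsg.Statements.S4720
import Cfsg.Agent.Cores.PrincipalSection

set_option autoImplicit false
open Cfsg

namespace Cfsg.Agent.S4720

/-- Let p be a prime, M a maximal ideal of the algebraic integers containing p, P a p-subgroup of the finite group G, N a subgroup with P ≤ N ≤ N_G(P), and U a nonempty subset of P normalized by N such that an element of U and an element of P that are conjugate in G are already conjugate in N, and such that λ(C_G(y)) = w·#C_N(y) for every y ∈ U with one rational number w, where λ(X) denotes the sum of the squares of the degrees of the irreducible characters in the principal p-block of X. For a complex function θ on P and χ in the principal block of G put a_χ(θ) = #P⁻¹ Σ_{y ∈ P} χ(y) θ(y⁻¹). Then for generalized characters θ, η of P with θ vanishing outside U, Σ_χ a_χ(θ)·conj(a_χ(η)) = (w/#P²)·Σ_{y ∈ P} θ(y)·conj(Σ_{x ∈ N} η(x y x⁻¹)) (η extended by zero off P; the conjugates lie in P), the first sum over the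 principal p-block of G. -/
theorem result {G : Type*} [Group G] [Finite G] (p : ℕ) [Fact p.Prime] (M : Ideal Cfsg.AlgInt) (hM : Cfsg.IsPModular p M) (P : Subgroup G) (hP : IsPGroup p P) (N : Subgroup G) (hPN : P ≤ N) (hNN : N ≤ Subgroup.normalizer (P : Set G)) (U : Set G) (hUne : U.Nonempty) (hUP : U ⊆ (P : Set G)) (hUN : ∀ n ∈ N, ∀ u ∈ U, n * u * n⁻¹ ∈ U) (hfus : ∀ u ∈ U, ∀ g : G, g * u * g⁻¹ ∈ (P : Set G) → ∃ n ∈ N, n * u * n⁻¹ = g * u * g⁻¹) (w : ℚ) (hw : ∀ y ∈ U, ((∑ᶠ ψ ∈ Cfsg.principalBlock M ↥(Subgroup.centralizer ({y} : Set G)), Cfsg.charDegree (ψ : ↥(Subgroup.centralizer ({y} : Set G)) → ℂ) ^ 2) : ℚ) = w * Nat.card ↥(N ⊓ Subgroup.centralizer ({y} : Set G))) (θ η : ↥P → ℂ) (hθ : Cfsg.IsGeneralizedCharacter ↥P θ) (hη : Cfsg.IsGeneralizedCharacter ↥P η) (hθU : ∀ y : ↥P, (y : G) ∉ U → θ y = 0) : ∑ᶠ χ ∈ Cfsg.principalBlock M G, ((Nat.card ↥P : ℂ)⁻¹ * ∑ᶠ y : ↥P, (χ : G → ℂ) (y : G) * θ y⁻¹) * (starRingEnd ℂ) ((Nat.card ↥P : ℂ)⁻¹ * ∑ᶠ y : ↥P,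 (χ : G → ℂ) (y : G) * η y⁻¹) = ((w : ℂ) / ((Nat.card ↥P : ℂ) ^ 2)) * ∑ᶠ y : ↥P, θ y * (starRingEnd ℂ) (∑ᶠ x : ↥N, Cfsg.extendByZero P η ((x : G) * (y : G) * (x : G)⁻¹)) := by
  classical
  cases nonempty_fintype G
  haveI : Fintype P := Fintype.ofFinite _
  haveI : Fintype N := Fintype.ofFinite _
  have hp := (Fact.out : p.Prime)
  have hord : ∀ y : ↥P, ∃ k, orderOf (y : G) = p ^ k := fun y => by
    obtain ⟨k, hk⟩ := IsPGroup.iff_orderOf.1 hP y
    exact ⟨k, by rw [Subgroup.orderOf_coe, hk]⟩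
  have hconjinv : ∀ (χ : IrrCharacter G) (g : G),
      (χ : G → ℂ) g⁻¹ = (starRingEnd ℂ) ((χ : G → ℂ) g) := fun χ g =>
    (BlockBasic.conj_apply_eq_inv χ g).symm
  set nn : ↥N → ↥P → ↥P := fun n y => ⟨(n : G) * (y : G) * (n : G)⁻¹,
    (Subgroup.mem_normalizer_iff.1 (hNN n.2) (y : G)).1 y.2⟩ with hnn
  have hext : ∀ (n : ↥N) (y : ↥P),
      Cfsg.extendByZero P η ((n : G) * (y : G) * (n : G)⁻¹) = η (nn n y) := fun n y => by
    rw [Cfsg.extendByZero]
    exact Subtype.val_injective.extend_apply η 0 (nn n y)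
  -- the inner sum over the fusion class of `u` is the orbit sum under `N`
  have hinner : ∀ u : ↥P, (u : G) ∈ U →
      ∑ v : ↥P, (starRingEnd ℂ) (η v) * BlockBasic.blockKernel (Cfsg.principalBlock M G) (v : G) (u : G) =
        (w : ℂ) * (starRingEnd ℂ) (∑ n : ↥N, η (nn n u)) := by
    intro u hu
    have hker : ∀ v : ↥P, BlockBasic.blockKernel (Cfsg.principalBlock M G) (v : G) (u : G) =
        if IsConj (u : G) (v : G) then
          ((∑ᶠ ψ ∈ Cfsg.principalBlock M ↥(Subgroup.centralizer ({(u : G)} : Set G)),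
            Cfsg.charDegree (ψ : ↥(Subgroup.centralizer ({(u : G)} : Set G)) → ℂ) ^ 2 : ℕ) : ℂ)
        else 0 := by
      intro v
      rw [← BlockBasic.conj_blockKernel, Cores.blockKernel_principal_pElement hM (hord u) (hord v)]
      split_ifs with h
      · rw [Complex.conj_natCast]
      · simp
    simp only [hker, mul_ite, mul_zero, ← Finset.sum_filter]
    rw [map_sum, ← Finset.sum_mul, Finset.mul_sum]
    have hw' : ((∑ᶠ ψ ∈ Cfsg.principalBlock M ↥(Subgroup.centralizer ({(u : G)} : Set G)),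
        Cfsg.charDegree (ψ : ↥(Subgroup.centralizer ({(u : G)} : Set G)) → ℂ) ^ 2 : ℕ) : ℂ) =
        (w : ℂ) * (Nat.card ↥(N ⊓ Subgroup.centralizer ({(u : G)} : Set G)) : ℂ) := by
      have h1 : ((∑ᶠ ψ ∈ Cfsg.principalBlock M ↥(Subgroup.centralizer ({(u : G)} : Set G)),
          Cfsg.charDegree (ψ : ↥(Subgroup.centralizer ({(u : G)} : Set G)) → ℂ) ^ 2 : ℕ) : ℚ) =
          w * Nat.card ↥(N ⊓ Subgroup.centralizer ({(u : G)} : Set G)) := by
        refine (Eq.trans ?_ (hw (u : G) hu))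
        simp only [finsum_mem_eq_finite_toFinset_sum _ (Set.toFinite _), Nat.cast_sum, Nat.cast_pow]
      have h2 := congrArg (fun q : ℚ => (q : ℂ)) h1
      simp only [Rat.cast_natCast, Rat.cast_mul] at h2
      exact h2
    rw [hw', Finset.sum_mul]
    rw [← Finset.sum_fiberwise_of_maps_to (g := fun n : ↥N => nn n u)
      (t := Finset.univ.filter fun v : ↥P => IsConj (u : G) (v : G))
      (fun n _ => Finset.mem_filter.2 ⟨Finset.mem_univ _, isConj_iff.2 ⟨(n : G), rfl⟩⟩)]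
    refine Finset.sum_congr rfl fun v hv => ?_
    obtain ⟨g, hg⟩ := isConj_iff.1 (Finset.mem_filter.1 hv).2
    obtain ⟨n₀, hn₀, hn₀v⟩ := hfus (u : G) hu g (by rw [hg]; exact v.2)
    rw [hg] at hn₀v
    have hcard : (Finset.univ.filter fun n : ↥N => nn n u = v).card =
        Nat.card ↥(N ⊓ Subgroup.centralizer ({(u : G)} : Set G)) := by
      rw [← Fintype.card_subtype, ← Nat.card_eq_fintype_card]
      refine Nat.card_congr
        { toFun := fun n => ⟨n₀⁻¹ * (n.1 : G), ⟨N.mul_mem (N.inv_mem hn₀) n.1.2, ?_⟩⟩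
          invFun := fun c => ⟨⟨n₀ * (c : G), N.mul_mem hn₀ c.2.1⟩, ?_⟩
          left_inv := fun n => Subtype.ext (Subtype.ext (by simp))
          right_inv := fun c => Subtype.ext (by simp) }
      · refine Subgroup.mem_centralizer_singleton_iff.2 (mul_inv_eq_iff_eq_mul.1 ?_)
        have h := congrArg Subtype.val n.2
        simp only [hnn] at h
        calc n₀⁻¹ * (n.1 : G) * (u : G) * (n₀⁻¹ * (n.1 : G))⁻¹ =
            n₀⁻¹ * ((n.1 : G) * (u : G) * (n.1 : G)⁻¹) * n₀ := by group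
          _ = (u : G) := by rw [h, ← hn₀v]; group
      · have hc := Subgroup.mem_centralizer_singleton_iff.1 c.2.2
        refine Subtype.ext ?_
        show n₀ * (c : G) * (u : G) * (n₀ * (c : G))⁻¹ = (v : G)
        calc n₀ * (c : G) * (u : G) * (n₀ * (c : G))⁻¹ = n₀ * ((c : G) * (u : G) * (c : G)⁻¹) * n₀⁻¹ := by group
          _ = _ := by rw [hc, mul_inv_cancel_right, hn₀v]
    rw [Finset.sum_congr rfl (g := fun _ => (w : ℂ) * (starRingEnd ℂ) (η v))
      (fun n hn => by rw [(Finset.mem_filter.1 hn).2]), Finset.sum_const, hcard, nsmul_eq_mul]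
    ring
  simp only [finsum_eq_sum_of_fintype, finsum_eq_if, hext]
  refine Eq.trans (b := (∑ u : ↥P, θ u * ∑ v : ↥P, (starRingEnd ℂ) (η v) *
      BlockBasic.blockKernel (Cfsg.principalBlock M G) (v : G) (u : G)) / (Nat.card ↥P : ℂ) ^ 2)
    (Eq.symm ?_) ?_
  swap
  · have hsum : ∀ u : ↥P, θ u * ∑ v : ↥P, (starRingEnd ℂ) (η v) *
        BlockBasic.blockKernel (Cfsg.principalBlock M G) (v : G) (u : G) =
        (w : ℂ) * (θ u * (starRingEnd ℂ) (∑ n : ↥N, η (nn n u))) := by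
      intro u
      by_cases hu : (u : G) ∈ U
      · rw [hinner u hu]; ring
      · simp [hθU u hu]
    rw [Finset.sum_congr rfl fun u _ => hsum u, ← Finset.mul_sum]
    ring
  · have hflip : ∀ (χ : IrrCharacter G) (f : ↥P → ℂ), ∑ y : ↥P, (χ : G → ℂ) (y : G) * f y⁻¹ =
        ∑ y : ↥P, (starRingEnd ℂ) ((χ : G → ℂ) (y : G)) * f y := fun χ f =>
      Fintype.sum_equiv (Equiv.inv ↥P) _ _ fun y => by
        simp [hconjinv, Complex.conj_conj]
    simp only [hflip, BlockBasic.blockKernel, BlockBasic.finsum_mem_eq_sum_ite]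
    simp only [Finset.mul_sum, Finset.sum_div, mul_ite, mul_zero, ite_div, zero_div]
    rw [Finset.sum_congr rfl fun u _ => Finset.sum_comm, Finset.sum_comm]
    refine Finset.sum_congr rfl fun χ _ => ?_
    split_ifs
    · rw [← Finset.mul_sum, ← Finset.mul_sum]
      simp only [map_mul, map_sum, map_inv₀, Complex.conj_natCast, Complex.conj_conj, Finset.sum_mul,
        Finset.mul_sum]
      rw [Finset.sum_comm]
      exact Finset.sum_congr rfl fun u _ => Finset.sum_congr rfl fun v _ => by ring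
    · simp

end Cfsg.Agent.S4720
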