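import Cfsg.Statements.S4721
import Cfsg.Agent.H25.ExcThree

set_option autoImplicit false
open Cfsg

namespace Cfsg.Agent.S4721

set_option maxHeartbeats 1000000 in
/-- Let p be a prime, M a maximal ideal of the algebraic integers containing p, and G a finite group with a nontrivial abelian Sylow p-subgroup P, N = N_G(P), C = C_G(P), such that N/C is cyclic of order 3, #P > 4, and C_G(y) ∩ N = C for every non-identity y ∈ P. Then the principal p-block is the disjoint union of a set X of exactly 3 characters containing the principal character and a set Y of (#P − 1)/3 characters, with signs a_χ = ±1 (χ ∈ X, a = 1 at the principal character) and δ = ±1 such that every χ ∈ X takes the value a_χ at every element whose p-part is a non-identity element of P, and there is a map ζ from the non-principal linear characters of P onto Y, constant on N-conjugacy classes, with ζ_ψ(z) = δ·Σ ψ'(y) over the N-orbit of ψ, for z with p-part y ≠ 1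 in P. If moreover G has an involution lying in no proper normal subgroup of G, then exactly two of the three numbers −δ and a_χ (χ ∈ X non-principal) equal −1, and the product of the degrees of the two non-principal members of X and of any member of Y is a perfect square. -/
theorem result {G : Type*} [Group G] [Finite G] (p : ℕ) [Fact p.Prime] (M : Ideal Cfsg.AlgInt) (hM : Cfsg.IsPModular p M) (P : Sylow p G) (hab : IsMulCommutative P) (hP1 : Nat.card P ≠ 1) (hCN : (Subgroup.centralizer ((P : Subgroup G) : Set G)).relIndex (Subgroup.normalizer ((P : Subgroup G) : Set G)) = 3) (hcyc : ∃ g : G, g ∈ Subgroup.normalizer ((P : Subgroup G) : Set G) ∧ Subgroup.centralizer ((P : Subgroup G) : Set G) ⊔ Subgroup.zpowers g = Subgroup.normalizer ((P : Subgroup G) : Set G)) (hm2 : 3 + 1 < Nat.card P) (hfrob : ∀ y : G, y ∈ (P : Subgroup G) → y ≠ 1 → Subgroup.centralizer ({y} : Set G) ⊓ Subgroup.normalizer ((P : Subgroup G) : Set G) = Subgroup.centralizer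 ((P : Subgroup G) : Set G)) : ∃ (X Y : Set (Cfsg.IrrCharacter G)), Cfsg.principalBlock M G = X ∪ Y ∧ Disjoint X Y ∧ Nat.card X = 3 ∧ Nat.card Y = (Nat.card P - 1) / 3 ∧ (∃ χ₁ ∈ X, (χ₁ : G → ℂ) = fun _ => 1) ∧ ∃ (a : Cfsg.IrrCharacter G → ℤ) (δ : ℤ) (ζ : (↥(P : Subgroup G) →* ℂˣ) → Cfsg.IrrCharacter G), (δ = 1 ∨ δ = -1) ∧ (∀ χ ∈ X, (a χ = 1 ∨ a χ = -1) ∧ ∀ z y : G, Cfsg.IsPPart p z y → y ∈ (P : Subgroup G) → y ≠ 1 → (χ : G → ℂ) z = (a χ : ℂ)) ∧ (∀ ψ : ↥(P : Subgroup G) →* ℂˣ, ψ ≠ 1 → ζ ψ ∈ Y) ∧ (∀ η ∈ Y, ∃ ψ : ↥(P : Subgroup G) →* ℂˣ, ψ ≠ 1 ∧ ζ ψ = η) ∧ (∀ ψ ψ' : ↥(P : Subgroup G) →* ℂˣ, ψ ≠ 1 → (∃ n : G, n ∈ Subgroup.normalizer ((P : Subgroup G) : Set G) ∧ ∀ w w' : ↥(P : Subgroup G), (w' : G) = n * w * n⁻¹ → ψ' w' = ψ w) → ζ ψ' = ζ ψ) ∧ (∀ ψ : ↥(P : Subgroup G) →* ℂˣ, ψ ≠ 1 → ∀ (z : G) (y : ↥(P : Subgroup G)), Cfsg.IsPPart p z (y : G) → (y : G) ≠ 1 → (ζ ψ : G → ℂ) z = (δ : ℂ) * ∑ᶠ ψ' ∈ {ψ' : ↥(P : Subgroup G) →* ℂˣ | ∃ n : G, n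 ∈ Subgroup.normalizer ((P : Subgroup G) : Set G) ∧ ∀ w w' : ↥(P : Subgroup G), (w' : G) = n * w * n⁻¹ → ψ' w' = ψ w}, ((ψ' y : ℂˣ) : ℂ)) ∧ ((∃ t : G, orderOf t = 2 ∧ ∀ K : Subgroup G, K.Normal → t ∈ K → K = ⊤) → Nat.card {χ : Cfsg.IrrCharacter G // χ ∈ X ∧ (χ : G → ℂ) ≠ (fun _ => 1) ∧ a χ = -1} + (if δ = 1 then 1 else 0) = 2 ∧ ∀ η ∈ Y, IsSquare (Cfsg.charDegree (η : G → ℂ) * ∏ᶠ χ ∈ {χ : Cfsg.IrrCharacter G | χ ∈ X ∧ (χ : G → ℂ) ≠ fun _ => 1}, Cfsg.charDegree (χ : G → ℂ))) := by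
  classical
  have h : H25.Exc.Hyp P := ⟨hab, hfrob⟩
  cases nonempty_fintype G
  cases nonempty_fintype (↥(P : Subgroup G) →* ℂˣ)
  obtain ⟨t, r, μ, δ, a, ht2, ht, hδ, hr1, hr, hμ, hμB, hX3, hpm, hval, hreg, hlin⟩ :=
    h.exists_family_three hM hP1 hCN hm2
  have hdiv : (Nat.card P - 1) / 3 = t := by omega
  let i₀ : Fin t := ⟨0, by omega⟩
  let Y : Set (Cfsg.IrrCharacter G) := Set.range μ
  let X : Set (Cfsg.IrrCharacter G) := Cfsg.principalBlock M G \ Y
  have hY : Nat.card Y = t := by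
    rw [Nat.card_range_of_injective hμ, Nat.card_fin]
  let T : Cfsg.IrrCharacter G := ⟨fun _ => 1, CharBasic.isIrrCharacter_one⟩
  have htriv : T ∈ X := ⟨fun g => by simpa [T] using BlockBasic.memLocalIdeal_zero hM,
    fun ⟨i, hi⟩ => (hμB i).2 (congrArg Subtype.val hi)⟩
  let ζ : (↥(P : Subgroup G) →* ℂˣ) → Cfsg.IrrCharacter G := fun ψ =>
    if h : ψ ≠ 1 then μ (hr ψ h).choose else μ i₀
  have hζ : ∀ ψ (h : ψ ≠ 1) i, H25.Exc.Rel (r i) ψ → ζ ψ = μ i := fun ψ h i hi => by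
    simp only [ζ, dif_pos h]
    rw [(hr ψ h).choose_spec.2 i hi]
  have hXY : Cfsg.principalBlock M G = X ∪ Y := by
    refine (Set.sdiff_union_of_subset ?_).symm
    rintro _ ⟨i, rfl⟩
    exact (hμB i).1
  refine ⟨X, Y, hXY, Set.disjoint_sdiff_left, hX3, by rw [hY, hdiv], ⟨T, htriv, rfl⟩,
    a, δ, ζ, hδ, ?_, ?_, ?_, ?_, ?_, ?_⟩
  · exact fun χ hχ => ⟨hpm χ hχ.1 hχ.2, fun z y hz hy hy1 => (hval χ hχ.1 z y hz hy hy1).1 hχ.2⟩
  · intro ψ hψ
    obtain ⟨i, hi, -⟩ := hr ψ hψ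
    exact ⟨i, (hζ ψ hψ i hi).symm⟩
  · rintro η ⟨i, rfl⟩
    exact ⟨r i, hr1 i, hζ (r i) (hr1 i) i (H25.Exc.rel_refl _)⟩
  · intro ψ ψ' hψ hrel
    obtain ⟨i, hi, -⟩ := hr ψ hψ
    rw [hζ ψ hψ i hi, hζ ψ' (H25.Exc.rel_ne_one hrel hψ) i (H25.Exc.rel_trans hi hrel)]
  · intro ψ hψ z y hz hy1
    obtain ⟨i, hi, -⟩ := hr ψ hψ
    rw [hζ ψ hψ i hi, ((hval (μ i) (hμB i).1 z y hz y.2 hy1).2 i rfl), ← H25.Exc.psi_congr hi]
    rfl
  rintro ⟨t0, ht0, hgen0⟩
  have hp1 : ¬ p ∣ orderOf (1 : G) := by simpa using (Fact.out : p.Prime).ne_one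
  obtain ⟨y₀, hy₀⟩ : ∃ y : (P : Subgroup G), (y : G) ≠ 1 := by
    by_contra h1
    push Not at h1
    exact hP1 (Nat.card_eq_one_iff_unique.2
      ⟨⟨fun a b => Subtype.ext ((h1 a).trans (h1 b).symm)⟩, ⟨1⟩⟩)
  -- the two further characters
  have h2 : (X \ {T}).ncard = 2 := by
    rw [Set.ncard_sdiff_singleton_of_mem htriv, ← Nat.card_coe_set_eq, hX3]
  obtain ⟨χ2, χ3, h23, hpair⟩ := Set.ncard_eq_two.1 h2
  have hm2' : χ2 ∈ X \ {T} := by rw [hpair]; exact Set.mem_insert _ _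
  have hm3' : χ3 ∈ X \ {T} := by rw [hpair]; exact Set.mem_insert_of_mem _ rfl
  have hne2 : (χ2 : G → ℂ) ≠ fun _ => 1 := fun e => hm2'.2 (Subtype.ext e)
  have hne3 : (χ3 : G → ℂ) ≠ fun _ => 1 := fun e => hm3'.2 (Subtype.ext e)
  have hXeq : X = insert T {χ2, χ3} := by
    rw [← hpair, Set.insert_sdiff_singleton, Set.insert_eq_of_mem htriv]
  have hXsum : ∀ F : Cfsg.IrrCharacter G → ℂ, ∑ᶠ χ ∈ X, F χ = F T + (F χ2 + F χ3) := fun F => by
    rw [hXeq, finsum_mem_insert _ (fun e => ?_) (Set.toFinite _), finsum_mem_pair h23]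
    rcases e with e | e
    · exact hm2'.2 e.symm
    · exact hm3'.2 (Set.mem_singleton_iff.1 e).symm
  have hBsum : ∀ F : Cfsg.IrrCharacter G → ℂ,
      ∑ᶠ χ ∈ Cfsg.principalBlock M G, F χ = F T + (F χ2 + F χ3) + ∑ i, F (μ i) := fun F => by
    rw [hXY, finsum_mem_union Set.disjoint_sdiff_left (Set.toFinite _) (Set.toFinite _), hXsum,
      finsum_mem_range hμ, finsum_eq_sum_of_fintype]
  have haT : (a T : ℂ) = 1 := by
    obtain ⟨k, hk⟩ := H25.Exc.orderOf_mem (P := P) y₀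
    exact ((hval T htriv.1 y₀ y₀ ⟨1, mul_one _, Commute.one_right _, ⟨k, hk⟩, hp1⟩ y₀.2 hy₀).1
      htriv.2).symm
  have hR : ∀ g : G, ¬ p ∣ orderOf g → 1 + (a χ2 : ℂ) * (χ2 : G → ℂ) g +
      (a χ3 : ℂ) * (χ3 : G → ℂ) g + -(δ : ℂ) * (μ i₀ : G → ℂ) g = 0 := fun g hg => by
    have h1 := hlin i₀ g hg
    rw [show Cfsg.principalBlock M G \ Set.range μ = X from rfl, hXsum, haT,
      show (T : G → ℂ) g = 1 from rfl] at h1
    linear_combination h1
  obtain ⟨x2, hx2⟩ : ∃ n : ℕ, n = Cfsg.charDegree (χ2 : G → ℂ) := ⟨_, rfl⟩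
  obtain ⟨x3, hx3⟩ : ∃ n : ℕ, n = Cfsg.charDegree (χ3 : G → ℂ) := ⟨_, rfl⟩
  obtain ⟨e, he⟩ : ∃ n : ℕ, n = Cfsg.charDegree (μ i₀ : G → ℂ) := ⟨_, rfl⟩
  have hx2p : 0 < x2 := hx2 ▸ BlockBasic.charDegree_pos χ2
  have hx3p : 0 < x3 := hx3 ▸ BlockBasic.charDegree_pos χ3
  have hep : 0 < e := he ▸ BlockBasic.charDegree_pos (μ i₀)
  have hd2 : (χ2 : G → ℂ) 1 = x2 := by rw [hx2, BlockBasic.apply_one_eq_charDegree]
  have hd3 : (χ3 : G → ℂ) 1 = x3 := by rw [hx3, BlockBasic.apply_one_eq_charDegree]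
  have hde : ∀ i, (μ i : G → ℂ) 1 = e := fun i => by
    rw [hreg i i₀ 1 hp1, he, BlockBasic.apply_one_eq_charDegree]
  have ha2 := hpm χ2 hm2'.1.1 hm2'.1.2
  have ha3 := hpm χ3 hm3'.1.1 hm3'.1.2
  have hA : (1 : ℤ) + a χ2 * x2 + a χ3 * x3 + -δ * e = 0 := by
    have h1 := hR 1 hp1
    rw [hd2, hd3, hde i₀] at h1
    exact_mod_cast h1
  have hpsum : ∀ y : (P : Subgroup G), y ≠ 1 → ∑ i, H25.Exc.psi (r i) y = -1 := fun y hy => by
    have h1 := h.sum_reps r hr1 hr (fun b => (b y : ℂ))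
    rw [h.sum_dual_apply hy] at h1
    simp only [MonoidHom.one_apply, Units.val_one, ← H25.Exc.psi_eq_sum] at h1
    linear_combination -h1
  -- products of two conjugates of an involution avoid the section of suitable elements
  have hsect : ∀ s : G, s * s = 1 → s ≠ 1 → ∀ y : G, (∃ k, orderOf y = p ^ k) →
      (∀ z b : G, IsConj s b → IsConj s (b⁻¹ * z) → Cfsg.IsPPart p z y → False) →
      ∑ᶠ χ ∈ Cfsg.principalBlock M G,
        (χ : G → ℂ) s ^ 2 / (χ : G → ℂ) 1 * (χ : G → ℂ) y = 0 := by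
    intro s hs hs1 y hy hno
    refine H25.Exc.principal_sum_eq_zero hM hy (fun χ => (χ : G → ℂ) s ^ 2 / (χ : G → ℂ) 1)
      fun z hz => ?_
    rw [← H25.sum_sq_apply_eq_zero s z fun b hb hb' => hno z b hb hb' hz]
    refine Finset.sum_congr rfl fun χ _ => ?_
    obtain ⟨f, hf, -⟩ := H36.SelfCentral.exists_int_involution χ hs hs1 (BlockBasic.apply_one_eq_charDegree χ)
    rw [hf, map_intCast]
    ring
  have hinv : ∀ s b : G, s * s = 1 → IsConj s b → b * b = 1 := fun s b hs hb => by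
    obtain ⟨c, rfl⟩ := isConj_iff.1 hb
    rw [show c * s * c⁻¹ * (c * s * c⁻¹) = c * (s * s) * c⁻¹ by group, hs]
    group
  have ht00 : t0 * t0 = 1 := by rw [← pow_two, ← ht0, pow_orderOf_eq_one]
  have ht01 : t0 ≠ 1 := fun e1 => by rw [e1, orderOf_one] at ht0; omega
  obtain ⟨B2, B3, B4, hB, hB3, hS⟩ : ∃ B2 B3 B4 : ℤ, 1 + B2 + B3 + B4 = 0 ∧ B3 ≠ a χ3 * x3 ∧
      1 + (B2 : ℂ) ^ 2 / ((a χ2 * x2 : ℤ) : ℂ) + (B3 : ℂ) ^ 2 / ((a χ3 * x3 : ℤ) : ℂ) +
        (B4 : ℂ) ^ 2 / ((-δ * e : ℤ) : ℂ) = 0 := by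
    have hz1 : ∀ z : G, (∃ k, orderOf z = p ^ k) → Cfsg.IsPPart p z z := fun z hz =>
      ⟨1, mul_one _, Commute.one_right _, hz, hp1⟩
    have hsqy : ∀ y ∈ (P : Subgroup G), y ≠ 1 → ∀ s b z : G, s * s = 1 → IsConj s b →
        IsConj s (b⁻¹ * z) → Cfsg.IsPPart p z y → b * y * b⁻¹ = y⁻¹ ∧ y * y = 1 := by
      intro y hy hy1 s b z hs hb hb' hz
      have h1 := H25.Exc.conj_eq_inv_of_section (hinv s b hs hb) (hinv s _ hs hb') hz
      exact ⟨h1, h.sq_eq_one hCN hy hy1 h1⟩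
    rcases eq_or_ne p 2 with rfl | hp2
    · -- the involution is a two-element
      have hzp : IsPGroup 2 (Subgroup.zpowers t0) :=
        IsPGroup.of_card (n := 1) (by rw [Nat.card_zpowers, ht0, pow_one])
      obtain ⟨Q, hQ⟩ := hzp.exists_le_sylow
      obtain ⟨g, hg⟩ := MulAction.exists_smul_eq G Q P
      set u := g * t0 * g⁻¹ with hu
      have huP : u ∈ (P : Subgroup G) := by
        rw [← hg]
        exact Subgroup.smul_mem_pointwise_smul t0 (MulAut.conj g) (Q : Subgroup G)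
          (hQ (Subgroup.mem_zpowers t0))
      have huu : u * u = 1 := hinv t0 u ht00 (isConj_iff.2 ⟨g, rfl⟩)
      have hu1 : u ≠ 1 := fun e1 => ht01 (by
        rw [hu, conj_eq_one_iff] at e1; exact e1)
      have hgenu : ∀ K : Subgroup G, K.Normal → u ∈ K → K = ⊤ := fun K hK hu' => hgen0 K hK (by
        have := hK.conj_mem u hu' g⁻¹
        simpa [hu, mul_assoc] using this)
      set N := Subgroup.normalizer ((P : Subgroup G) : Set G)
      let uP : (P : Subgroup G) := ⟨u, huP⟩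
      -- an element outside the products of two conjugates
      obtain ⟨y, hy1, hy⟩ : ∃ y : (P : Subgroup G), y ≠ 1 ∧ ∀ n k : N,
          (H25.Exc.nc n).symm uP * (H25.Exc.nc k).symm uP * y ≠ 1 := by
        cases nonempty_fintype (P : Subgroup G)
        set C := (Subgroup.centralizer ((P : Subgroup G) : Set G)).subgroupOf N
        have : Fintype (N ⧸ C) := Fintype.ofFinite _
        set S : Finset (P : Subgroup G) :=
          Finset.univ.image fun q : N ⧸ C => H25.Exc.nc q.out uP with hS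
        have hS3 : S.card ≤ 3 := Finset.card_image_le.trans (le_of_eq (by
          rw [Finset.card_univ, ← Nat.card_eq_fintype_card]; exact hCN))
        have hmemS : ∀ n : N, (H25.Exc.nc n).symm uP ∈ S := fun n => by
          refine Finset.mem_image.2 ⟨(n⁻¹ : N), Finset.mem_univ _, ?_⟩
          obtain ⟨c, hc⟩ := QuotientGroup.mk_out_eq_mul C n⁻¹
          have hcC := Subgroup.mem_subgroupOf.1 c.2
          rw [hc]
          refine (H25.Exc.nc n).injective ?_
          rw [MulEquiv.apply_symm_apply]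
          refine Subtype.ext ?_
          simp only [H25.Exc.coe_nc, Subgroup.coe_mul, Subgroup.coe_inv]
          show (n : G) * ((n : G)⁻¹ * (c : G) * u * ((n : G)⁻¹ * (c : G))⁻¹) * (n : G)⁻¹ = u
          calc _ = (c : G) * u * (c : G)⁻¹ := by group
            _ = u := by rw [← Subgroup.mem_centralizer_iff.1 hcC u huP, mul_inv_cancel_right]
        set bad := insert (1 : (P : Subgroup G)) ((S ×ˢ S).image fun w => (w.1 * w.2)⁻¹) with hbad
        have h16 : 16 ≤ Nat.card (P : Subgroup G) := by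
          obtain ⟨k, hk⟩ := IsPGroup.iff_card.1 P.isPGroup'
          rw [hk] at hm2 ht ⊢
          by_contra hlt
          have hk4 : k < 4 := by
            by_contra hk4
            exact hlt ((Nat.pow_le_pow_right (by norm_num) (not_lt.1 hk4) : 2 ^ 4 ≤ 2 ^ k))
          interval_cases k <;> omega
        have hb10 : bad.card ≤ 10 := by
          refine (Finset.card_insert_le _ _).trans ?_
          refine Nat.succ_le_succ (Finset.card_image_le.trans ?_)
          rw [Finset.card_product]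
          exact Nat.mul_le_mul hS3 hS3
        obtain ⟨y, hy⟩ : ∃ y, y ∉ bad := by
          by_contra hc
          push Not at hc
          have := Finset.eq_univ_iff_forall.2 hc
          rw [this, Finset.card_univ, ← Nat.card_eq_fintype_card] at hb10
          omega
        simp only [hbad, Finset.mem_insert, Finset.mem_image, Finset.mem_product, not_or] at hy
        refine ⟨y, hy.1, fun n k e1 => hy.2 ⟨(_, _), ⟨hmemS n, hmemS k⟩, ?_⟩⟩
        exact inv_eq_of_mul_eq_one_right e1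
      have hy1' : (y : G) ≠ 1 := fun e1 => hy1 (Subtype.ext e1)
      have hsum := hsect u huu hu1 y (H25.Exc.orderOf_mem y) (by
        intro z b hb hb' hz
        obtain ⟨hby, hyy⟩ := hsqy y y.2 hy1' u b z huu hb hb' hz
        -- both involutions centralize `y`
        obtain ⟨w, hw, hcomm, -, hwreg⟩ := hz
        set C := Subgroup.centralizer ({(y : G)} : Set G)
        have hyinv : (y : G)⁻¹ = y := inv_eq_of_mul_eq_one_right hyy
        have hbC : b ∈ C := Subgroup.mem_centralizer_singleton_iff.2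
          (mul_inv_eq_iff_eq_mul.1 (hby.trans hyinv))
        have hwC : w ∈ C := Subgroup.mem_centralizer_singleton_iff.2 hcomm.symm.eq
        have hzC : z ∈ C := hw ▸ C.mul_mem (Subgroup.mem_centralizer_singleton_iff.2 rfl) hwC
        have hPC : (P : Subgroup G) ≤ C := fun x hx => Subgroup.mem_centralizer_singleton_iff.2
          (Subgroup.mem_centralizer_iff.1 (h.le_centralizer y.2) x hx)
        obtain ⟨K, hKn, hKp, hKi, -, hKmem⟩ := h.exists_complement y.2 hy1'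
        let φ : (P : Subgroup G) →* C ⧸ K := (QuotientGroup.mk' K).comp (Subgroup.inclusion hPC)
        have hφinj : Function.Injective φ := by
          rw [injective_iff_map_eq_one]
          intro x hx
          have hxK : Subgroup.inclusion hPC x ∈ K := (QuotientGroup.eq_one_iff _).1 hx
          obtain ⟨k, hk⟩ := H25.Exc.orderOf_mem (P := P) x
          by_contra hne
          refine hKp ((H25.Exc.dvd_orderOf x.2 fun e1 => hne (Subtype.ext e1)).trans ?_)
          rw [show orderOf (x : G) = orderOf (⟨_, hxK⟩ : K) by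
            rw [Subgroup.orderOf_mk, ← Subgroup.orderOf_coe (Subgroup.inclusion hPC x)]; rfl]
          exact orderOf_dvd_natCard _
        have hφsur : Function.Surjective φ :=
          (hφinj.bijective_of_nat_card_le (le_of_eq hKi)).2
        have hcomQ : ∀ q q' : C ⧸ K, q * q' = q' * q := fun q q' => by
          obtain ⟨x, rfl⟩ := hφsur q
          obtain ⟨x', rfl⟩ := hφsur q'
          rw [← map_mul, ← map_mul, h.comm.is_comm.comm x x']
        have hlift : ∀ s : C, IsConj u (s : G) →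
            ∃ n : N, φ ((H25.Exc.nc n).symm uP) = QuotientGroup.mk' K s := by
          intro s hs
          have hs2 : IsPGroup 2 (Subgroup.zpowers s) := by
            have : s ^ 2 = 1 := by rw [pow_two]; exact Subtype.ext (hinv u s huu hs)
            obtain ⟨k, -, hk⟩ := (Nat.dvd_prime_pow Nat.prime_two).1
              ((orderOf_dvd_of_pow_eq_one this).trans (dvd_of_eq (pow_one 2).symm))
            exact IsPGroup.of_card (n := k) (by rw [Nat.card_zpowers, hk])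
          obtain ⟨R, hR⟩ := hs2.exists_le_sylow
          obtain ⟨c, hc⟩ := MulAction.exists_smul_eq C R (P.subtype hPC)
          have hcs : ((c * s * c⁻¹ : C) : G) ∈ (P : Subgroup G) := by
            have h1 : c * s * c⁻¹ ∈ (P.subtype hPC : Subgroup C) := by
              rw [← hc]
              exact Subgroup.smul_mem_pointwise_smul s (MulAut.conj c) (R : Subgroup C)
                (hR (Subgroup.mem_zpowers s))
            exact h1
          obtain ⟨n, hn, hnu⟩ := h.fusion huP hcs (hs.trans (isConj_iff.2 ⟨(c : G), by simp⟩))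
          refine ⟨(⟨n, hn⟩ : N)⁻¹, ?_⟩
          have h2 : (H25.Exc.nc (⟨n, hn⟩ : N)⁻¹).symm uP = ⟨_, hcs⟩ := by
            refine (H25.Exc.nc (⟨n, hn⟩ : N)⁻¹).injective ?_
            rw [MulEquiv.apply_symm_apply]
            refine Subtype.ext ?_
            simp only [H25.Exc.coe_nc, Subgroup.coe_inv, inv_inv]
            rw [← hnu]
            group
            rfl
          rw [h2]
          show QuotientGroup.mk' K (c * s * c⁻¹) = _
          rw [map_mul, map_mul, map_inv, hcomQ (QuotientGroup.mk' K c), mul_inv_cancel_right]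
        obtain ⟨n, hn⟩ := hlift ⟨b, hbC⟩ hb
        obtain ⟨k, hk⟩ := hlift ⟨b⁻¹ * z, C.mul_mem (C.inv_mem hbC) hzC⟩ hb'
        refine hy n k (hφinj ?_)
        have hwK : (⟨w, hwC⟩ : C) ∈ K := hKmem _ (by rwa [Subgroup.orderOf_mk])
        have h3 : φ y = QuotientGroup.mk' K (⟨z, hzC⟩ : C) := by
          rw [show (⟨z, hzC⟩ : C) = Subgroup.inclusion hPC y * ⟨w, hwC⟩ from Subtype.ext hw.symm,
            map_mul, show QuotientGroup.mk' K (⟨w, hwC⟩ : C) = 1 from
              (QuotientGroup.eq_one_iff _).2 hwK, mul_one]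
          rfl
        have hyy' : y * y = 1 := Subtype.ext hyy
        rw [map_mul, map_mul, hn, hk, ← map_mul (QuotientGroup.mk' K),
          show (⟨b, hbC⟩ : C) * ⟨b⁻¹ * z, C.mul_mem (C.inv_mem hbC) hzC⟩ = ⟨z, hzC⟩ from
            Subtype.ext (mul_inv_cancel_left b z), ← h3, ← map_mul, hyy'])
      rw [hBsum] at hsum
      have hv : ∀ χ ∈ X, (χ : G → ℂ) u = a χ ∧ (χ : G → ℂ) y = a χ := fun χ hχ =>
        ⟨(hval χ hχ.1 u u (hz1 u (H25.Exc.orderOf_mem (P := P) uP)) huP hu1).1 hχ.2,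
          (hval χ hχ.1 y y (hz1 y (H25.Exc.orderOf_mem y)) y.2 hy1').1 hχ.2⟩
      rw [(hv χ2 hm2'.1).1, (hv χ2 hm2'.1).2,
        (hv χ3 hm3'.1).1, (hv χ3 hm3'.1).2, hd2, hd3, show (T : G → ℂ) u = 1 from rfl,
        Finset.sum_congr rfl (g := fun i => (δ : ℂ) ^ 3 / e *
          (H25.Exc.psi (r i) uP ^ 2 * H25.Exc.psi (r i) y)) (fun i _ => by
            rw [(hval _ (hμB i).1 u u (hz1 u (H25.Exc.orderOf_mem (P := P) uP)) huP hu1).2 i rfl,
              (hval _ (hμB i).1 y y (hz1 y (H25.Exc.orderOf_mem y)) y.2 hy1').2 i rfl, hde i]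
            ring), ← Finset.mul_sum, h.sum_psi_sq r hr1 hr uP y hy1 hy, hCN] at hsum
      refine ⟨1, 1, -3, by norm_num, fun e1 => ?_, ?_⟩
      · refine H25.Exc.apply_ne_one hgenu hne3 ?_
        rw [(hv χ3 hm3'.1).1, hd3]
        rcases ha3 with e2 | e2 <;> rw [e2] at e1 ⊢
        · push_cast
          exact_mod_cast (by omega : (1 : ℤ) = x3)
        · omega
      · rw [← hsum]
        rcases ha2 with e2 | e2 <;> rcases ha3 with e3 | e3 <;> rcases hδ with e4 | e4 <;>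
          rw [e2, e3, e4] <;> push_cast <;> field_simp <;> ring
    · -- the involution is regular
      have ht0p : ¬ p ∣ orderOf t0 := by
        rw [ht0, Nat.prime_dvd_prime_iff_eq Fact.out Nat.prime_two]; exact hp2
      have hsum := hsect t0 ht00 ht01 y₀ (H25.Exc.orderOf_mem y₀) (by
        intro z b hb hb' hz
        have h1 := (hsqy y₀ y₀.2 hy₀ t0 b z ht00 hb hb' hz).2
        refine hp2 ((Nat.prime_dvd_prime_iff_eq Fact.out Nat.prime_two).1
          ((H25.Exc.dvd_orderOf y₀.2 hy₀).trans (orderOf_dvd_of_pow_eq_one ?_)))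
        rw [pow_two, h1])
      obtain ⟨f2, hf2, -⟩ := H36.SelfCentral.exists_int_involution χ2 ht00 ht01 hd2
      obtain ⟨f3, hf3, -⟩ := H36.SelfCentral.exists_int_involution χ3 ht00 ht01 hd3
      obtain ⟨f, hf, -⟩ := H36.SelfCentral.exists_int_involution (μ i₀) ht00 ht01 (hde i₀)
      have hv : ∀ χ ∈ X, (χ : G → ℂ) y₀ = a χ := fun χ hχ =>
        (hval χ hχ.1 y₀ y₀ (hz1 y₀ (H25.Exc.orderOf_mem y₀)) y₀.2 hy₀).1 hχ.2
      rw [hBsum, hv χ2 hm2'.1, hv χ3 hm3'.1, hf2, hf3, hd2, hd3,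
        show (T : G → ℂ) t0 = 1 from rfl,
        Finset.sum_congr rfl (g := fun i => (f : ℂ) ^ 2 / e * δ * H25.Exc.psi (r i) y₀) (fun i _ => by
            rw [(hval _ (hμB i).1 y₀ y₀ (hz1 y₀ (H25.Exc.orderOf_mem y₀)) y₀.2 hy₀).2 i rfl,
              hreg i i₀ t0 ht0p, hf, hde i]
            ring), ← Finset.mul_sum, hpsum y₀ fun e1 => hy₀ (congrArg Subtype.val e1)] at hsum
      refine ⟨a χ2 * f2, a χ3 * f3, -δ * f, ?_, fun e1 => ?_, ?_⟩
      · have h1 := hR t0 ht0p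
        rw [hf2, hf3, hf] at h1
        exact_mod_cast h1
      · refine H25.Exc.apply_ne_one hgen0 hne3 ?_
        have h4 : f3 = (x3 : ℤ) := mul_left_cancel₀ (by omega : a χ3 ≠ 0) e1
        rw [hf3, hd3, h4, Int.cast_natCast]
      · rw [← hsum]
        rcases ha2 with e2 | e2 <;> rcases ha3 with e3 | e3 <;> rcases hδ with e4 | e4 <;>
          rw [e2, e3, e4] <;> push_cast <;> field_simp <;> ring
  have hne : ∀ (c : ℤ) (n : ℕ), (c = 1 ∨ c = -1) → 0 < n → c * n ≠ 0 := fun c n hc hn =>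
    mul_ne_zero (by omega) (by omega)
  have hsq := H25.Exc.square_of_relations (hne _ x2 ha2 hx2p) (hne _ x3 ha3 hx3p)
    (hne (-δ) e (by omega) hep) (by linarith) hB hB3 hS
  have hprod : a χ2 * x2 * (a χ3 * x3) * (-δ * e) = a χ2 * a χ3 * -δ * ((e * (x2 * x3) : ℕ) : ℤ) := by
    push_cast; ring
  rw [hprod] at hsq
  have hsign : a χ2 * a χ3 * -δ = 1 := by
    have h0 := hsq.nonneg
    have hpos : (0 : ℤ) < ((e * (x2 * x3) : ℕ) : ℤ) := by positivity
    have h1 : 0 ≤ a χ2 * a χ3 * -δ := nonneg_of_mul_nonneg_left h0 hpos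
    rcases ha2 with e2 | e2 <;> rcases ha3 with e3 | e3 <;> rcases hδ with e4 | e4 <;>
      rw [e2, e3, e4] at h1 ⊢ <;> omega
  have hset : ∀ Q : Cfsg.IrrCharacter G → Prop,
      ∀ χ, (χ ∈ X ∧ (χ : G → ℂ) ≠ (fun _ => 1) ∧ Q χ) ↔ χ ∈ ({χ2, χ3} : Finset _).filter Q := by
    intro Q χ
    simp only [Finset.mem_filter, Finset.mem_insert, Finset.mem_singleton]
    constructor
    · rintro ⟨hx, hne1, hq⟩
      have : χ ∈ X \ {T} := ⟨hx, fun e1 => hne1 (congrArg Subtype.val (Set.mem_singleton_iff.1 e1))⟩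
      rw [hpair] at this
      exact ⟨this, hq⟩
    · rintro ⟨rfl | rfl, hq⟩
      · exact ⟨hm2'.1, hne2, hq⟩
      · exact ⟨hm3'.1, hne3, hq⟩
  refine ⟨?_, fun η hη => ?_⟩
  · rw [Nat.card_congr (Equiv.subtypeEquivRight (hset fun χ => a χ = -1)),
      Nat.card_eq_fintype_card, Fintype.card_coe, Finset.filter_insert, Finset.filter_singleton]
    rcases ha2 with e2 | e2 <;> rcases ha3 with e3 | e3 <;> rcases hδ with e4 | e4 <;>
      rw [e2, e3, e4] at hsign hA ⊢ <;> simp_all <;> omega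
  · obtain ⟨i, rfl⟩ := hη
    rw [show {χ : Cfsg.IrrCharacter G | χ ∈ X ∧ (χ : G → ℂ) ≠ fun _ => 1} = {χ2, χ3} from
      Set.ext fun χ => by simpa using hset (fun _ => True) χ, finprod_mem_pair h23, ← hx2, ← hx3,
      show Cfsg.charDegree (μ i : G → ℂ) = e from by
        have h1 := hde i
        rw [BlockBasic.apply_one_eq_charDegree] at h1
        exact_mod_cast h1]
    rw [hsign, one_mul] at hsq
    exact Int.isSquare_natCast_iff.1 hsq

end Cfsg.Agent.S4721
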