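import Cfsg.Statements.S4722
import Cfsg.Agent.BlockBasic.Orth
import Cfsg.Agent.BlockBasic.Basic
import Cfsg.Agent.H83.ClassConst
import Cfsg.Agent.H82.PrincipalBlock
import Cfsg.Agent.H86.Extension
import Cfsg.Agent.Cores.PCore

set_option autoImplicit false
open Cfsg
open scoped ComplexConjugate

namespace Cfsg.Agent.S4722

/-- Equality case of Cauchy-Schwarz with at most one positive weight. -/
theorem prop_of_one_pos {ι : Type*} [Fintype ι] (a T d : ι → ℝ) (hd : ∀ i, a i ≠ 0 → 0 < d i)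
    (h1 : ∑ i, a i * d i = 0) (h2 : ∑ i, a i * T i = 0) (h3 : ∑ i, a i * (T i ^ 2 / d i) = 0)
    (hpos : ∀ i j, 0 < a i → 0 < a j → i = j) :
    ∀ i j, a i ≠ 0 → a j ≠ 0 → T i * d j = T j * d i := by
  by_cases hex : ∃ k, 0 < a k
  · obtain ⟨k, hk⟩ := hex
    set r := T k / d k with hr
    have hf : ∀ i, a i * ((T i ^ 2 / d i) - 2 * r * T i + r ^ 2 * d i) ≤ 0 ∧
        (a i ≠ 0 → (T i ^ 2 / d i) - 2 * r * T i + r ^ 2 * d i = (T i - r * d i) ^ 2 / d i) := by
      intro i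
      by_cases hi : a i = 0
      · simp [hi]
      have hdi := hd i hi
      have he : (T i ^ 2 / d i) - 2 * r * T i + r ^ 2 * d i = (T i - r * d i) ^ 2 / d i := by
        field_simp
        ring
      refine ⟨?_, fun _ => he⟩
      rw [he]
      rcases lt_or_gt_of_ne hi with hneg | hp
      · exact mul_nonpos_of_nonpos_of_nonneg hneg.le (div_nonneg (sq_nonneg _) hdi.le)
      · obtain rfl := hpos i k hp hk
        rw [hr, div_mul_cancel₀ _ hdi.ne', sub_self]
        simp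
    have hsum : ∑ i, a i * ((T i ^ 2 / d i) - 2 * r * T i + r ^ 2 * d i) = 0 := by
      simp only [mul_add, mul_sub, Finset.sum_add_distrib, Finset.sum_sub_distrib]
      have e2 : ∑ i, a i * (2 * r * T i) = 0 := by
        rw [← mul_zero (2 * r), ← h2, Finset.mul_sum]
        exact Finset.sum_congr rfl fun i _ => by ring
      have e3 : ∑ i, a i * (r ^ 2 * d i) = 0 := by
        rw [← mul_zero (r ^ 2), ← h1, Finset.mul_sum]
        exact Finset.sum_congr rfl fun i _ => by ring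
      rw [h3, e2, e3]
      ring
    have hz : ∀ i, a i ≠ 0 → T i = r * d i := by
      intro i hi
      have h0 := (Finset.sum_eq_zero_iff_of_nonpos (fun j _ => (hf j).1)).1 hsum i (Finset.mem_univ i)
      rw [(hf i).2 hi] at h0
      have := (mul_eq_zero.1 h0).resolve_left hi
      rcases div_eq_zero_iff.1 this with h | h
      · exact sub_eq_zero.1 (pow_eq_zero_iff (by norm_num) |>.1 h)
      · exact absurd h (hd i hi).ne'
    intro i j hi hj
    rw [hz i hi, hz j hj]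
    ring
  · push Not at hex
    intro i j hi hj
    exfalso
    have h0 := (Finset.sum_eq_zero_iff_of_nonpos (fun j _ => by
      by_cases hj : a j = 0
      · simp [hj]
      · exact mul_nonpos_of_nonpos_of_nonneg (hex j) (hd j hj).le)).1 h1 i (Finset.mem_univ i)
    rcases mul_eq_zero.1 h0 with h | h
    · exact hi h
    · exact (hd i hi).ne' h

/-- Let M be a maximal ideal of the algebraic integers containing 2, P a 2-subgroup of the finite group G, U a subset of P, and t an involution of G such that no element of U is inverted by any conjugate of t. Let θ be a generalized character of P vanishing outside U, and for χ in the principal 2-block B₀ put a_χ = #P⁻¹ Σ_{y ∈ P} χ(y) θ(y⁻¹). Then Σ_{χ ∈ B₀} a_χ χ(t)^2/χ(1) = 0, Σ_{χ ∈ B₀} a_χ χ(1) = 0 and Σ_{χ ∈ B₀} a_χ χ(t) = 0. If moreover #P⁻¹ Σ_{y ∈ P} θ(y) ≠ 0, then either at least two of the a_χ have positive real part and at least two have negative real part, or G has a proper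 normal subgroup containing O_2'(G) and t. -/
theorem result {G : Type*} [Group G] [Finite G] (M : Ideal Cfsg.AlgInt) (hM : Cfsg.IsPModular 2 M) (P : Subgroup G) (hP : IsPGroup 2 P) (U : Set G) (hUP : U ⊆ (P : Set G)) (t : G) (ht : orderOf t = 2) (hinv : ∀ u ∈ U, ∀ g : G, (g * t * g⁻¹) * u * (g * t * g⁻¹)⁻¹ ≠ u⁻¹) (θ : ↥P → ℂ) (hθ : Cfsg.IsGeneralizedCharacter ↥P θ) (hθU : ∀ y : ↥P, (y : G) ∉ U → θ y = 0) : (∑ᶠ χ ∈ Cfsg.principalBlock M G, ((Nat.card ↥P : ℂ)⁻¹ * ∑ᶠ y : ↥P, (χ : G → ℂ) (y : G) * θ y⁻¹) * (χ : G → ℂ) t ^ 2 / (χ : G → ℂ) 1 = 0) ∧ (∑ᶠ χ ∈ Cfsg.principalBlock M G, ((Nat.card ↥P : ℂ)⁻¹ * ∑ᶠ y : ↥P, (χ : G → ℂ) (y : G) * θ y⁻¹) * (χ : G → ℂ) 1 = 0) ∧ (∑ᶠ χ ∈ Cfsg.principalBlock M G, ((Nat.card ↥P : ℂ)⁻¹ * ∑ᶠ y : ↥P, (χ : G → ℂ) (y : G) * θ y⁻¹) * (χ : G → ℂ) t = 0) ∧ ((Nat.card ↥P : ℂ)⁻¹ * ∑ᶠ y : ↥P, θ y ≠ 0 → (2 ≤ Nat.card {χ : Cfsg.IrrCharacter G // χ ∈ Cfsg.principalBlock M G ∧ 0 < (((Nat.card ↥P : ℂ)⁻¹ * ∑ᶠ y : ↥P,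 (χ : G → ℂ) (y : G) * θ y⁻¹)).re} ∧ 2 ≤ Nat.card {χ : Cfsg.IrrCharacter G // χ ∈ Cfsg.principalBlock M G ∧ (((Nat.card ↥P : ℂ)⁻¹ * ∑ᶠ y : ↥P, (χ : G → ℂ) (y : G) * θ y⁻¹)).re < 0}) ∨ ∃ K : Subgroup G, K.Normal ∧ K ≠ ⊤ ∧ Cfsg.pPrimeCore 2 G ≤ K ∧ t ∈ K) := by
  classical
  cases nonempty_fintype G
  haveI : Fact (Nat.Prime 2) := ⟨Nat.prime_two⟩
  set B := Cfsg.principalBlock M G with hBdef
  have hB : Cfsg.IsPBlock M B := BlockBasic.isPBlock_principalBlock M
  set a : Cfsg.IrrCharacter G → ℂ :=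
    fun χ => (Nat.card ↥P : ℂ)⁻¹ * ∑ᶠ y : ↥P, (χ : G → ℂ) (y : G) * θ y⁻¹ with ha
  have htinv : t⁻¹ = t := inv_eq_of_mul_eq_one_right (by rw [← pow_two, ← ht, pow_orderOf_eq_one])
  have hreal : ∀ χ : Cfsg.IrrCharacter G, conj ((χ : G → ℂ) t) = (χ : G → ℂ) t := fun χ => by
    rw [BlockBasic.conj_apply_eq_inv, htinv]
  have h1U : ∀ u ∈ U, u ≠ 1 := fun u hu h => hinv u hu 1 (by simp [h])
  have htU : ∀ u ∈ U, ¬ IsConj t u := fun u hu h => by
    obtain ⟨g, rfl⟩ := isConj_iff.1 h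
    refine hinv _ hu g ?_
    rw [mul_inv_cancel_right, conj_inv, htinv]
  have hpU : ∀ u ∈ U, BlockBasic.pPart (p := 2) u = u := fun u hu => by
    rw [BlockBasic.pPart_eq_self_iff]
    obtain ⟨k, hk⟩ := IsPGroup.iff_orderOf.1 hP ⟨u, hUP hu⟩
    exact ⟨k, by rwa [Subgroup.orderOf_mk] at hk⟩
  have hker : ∀ y h : G, BlockBasic.blockKernel B y h =
      ∑ χ : Cfsg.IrrCharacter G, if χ ∈ B then (χ : G → ℂ) y * conj ((χ : G → ℂ) h) else 0 :=
    fun y h => BlockBasic.finsum_mem_eq_sum_ite B _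
  -- the three vanishing sums at elements of `U`
  have k1 : ∀ u ∈ U, (∑ χ : Cfsg.IrrCharacter G, if χ ∈ B then (χ : G → ℂ) 1 * (χ : G → ℂ) u else 0) = 0 := by
    intro u hu
    have h0 := BlockBasic.blockKernel_eq_zero hM hB (g := u) (h := 1) (fun hc => by
      rw [hpU u hu, (BlockBasic.pPart_eq_one_iff 1).2 (by simp), isConj_one_left] at hc
      exact h1U u hu hc)
    rw [hker] at h0
    refine Eq.trans (Finset.sum_congr rfl fun χ _ => ?_) h0
    split_ifs
    · rw [BlockBasic.conj_apply_eq_inv, inv_one, mul_comm]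
    · rfl
  have k2 : ∀ u ∈ U, (∑ χ : Cfsg.IrrCharacter G, if χ ∈ B then (χ : G → ℂ) t * (χ : G → ℂ) u else 0) = 0 := by
    intro u hu
    have h0 := BlockBasic.blockKernel_eq_zero hM hB (g := u) (h := t) (fun hc => by
      rw [hpU u hu, (BlockBasic.pPart_eq_self_iff t).2 ⟨1, by rw [ht, pow_one]⟩] at hc
      exact htU u hu hc.symm)
    rw [hker] at h0
    refine Eq.trans (Finset.sum_congr rfl fun χ _ => ?_) h0
    split_ifs
    · rw [hreal, mul_comm]
    · rfl
  have k3 : ∀ u ∈ U, (∑ χ : Cfsg.IrrCharacter G,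
      if χ ∈ B then (χ : G → ℂ) t ^ 2 / (χ : G → ℂ) 1 * (χ : G → ℂ) u else 0) = 0 := by
    intro u hu
    set n : G → ℂ := fun h => ∑ χ : Cfsg.IrrCharacter G, (χ : G → ℂ) t ^ 2 / (χ : G → ℂ) 1 * (χ : G → ℂ) h
    have hn : ∀ h : G, IsConj (BlockBasic.pPart (p := 2) u) (BlockBasic.pPart (p := 2) h) → n h = 0 := by
      intro h hc
      have h0 := H83.card_pairs_mul_card t t h
      have hemp : IsEmpty {a : G // IsConj t a ∧ IsConj t (a⁻¹ * h)} := ⟨fun ⟨b, hb1, hb2⟩ => by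
        obtain ⟨g, rfl⟩ := isConj_iff.1 hb1
        obtain ⟨g', hg'⟩ := isConj_iff.1 hb2
        set b := g * t * g⁻¹ with hb
        have hbi : b⁻¹ = b := by rw [hb, conj_inv, htinv]
        have hbi' : (b⁻¹ * h)⁻¹ = b⁻¹ * h := by rw [← hg', conj_inv, htinv]
        have hbh : b * h * b⁻¹ = h⁻¹ := by
          rw [mul_inv_rev, inv_inv, hbi] at hbi'
          rw [hbi, ← hbi', mul_assoc, ← pow_two, show b ^ 2 = 1 by
            rw [pow_two]; conv_lhs => arg 1; rw [← hbi]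
            exact inv_mul_cancel b, mul_one]
        obtain ⟨c, hcu⟩ := isConj_iff.1 hc
        rw [hpU u hu] at hcu
        have hx := BlockBasic.pPart_conj (p := 2) h b
        rw [hbh, BlockBasic.pPart_inv, ← hcu] at hx
        refine hinv u hu (c⁻¹ * g) ?_
        calc c⁻¹ * g * t * (c⁻¹ * g)⁻¹ * u * (c⁻¹ * g * t * (c⁻¹ * g)⁻¹)⁻¹
            = c⁻¹ * (b * (c * u * c⁻¹) * b⁻¹) * c := by rw [hb]; group
          _ = c⁻¹ * (c * u * c⁻¹)⁻¹ * c := by rw [hx]
          _ = u⁻¹ := by group⟩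
      rw [Nat.card_eq_zero.2 (Or.inl hemp), Nat.cast_zero, mul_zero, eq_comm] at h0
      have hi : ((Subgroup.centralizer ({t} : Set G)).index : ℂ) ≠ 0 :=
        Nat.cast_ne_zero.2 Subgroup.index_ne_zero_of_finite
      rw [← (mul_eq_zero.1 h0).resolve_left (mul_ne_zero hi hi)]
      exact Finset.sum_congr rfl fun χ _ => by rw [hreal]; ring
    have hsum : ∑ h : G, n h * BlockBasic.blockKernel B u h = 0 :=
      Finset.sum_eq_zero fun h _ => by
        by_cases hc : IsConj (BlockBasic.pPart (p := 2) u) (BlockBasic.pPart (p := 2) h)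
        · rw [hn h hc, zero_mul]
        · rw [BlockBasic.blockKernel_eq_zero hM hB hc, mul_zero]
    have horth : ∀ χ ψ : Cfsg.IrrCharacter G, ∑ h : G, (χ : G → ℂ) h * conj ((ψ : G → ℂ) h) =
        if χ = ψ then (Nat.card G : ℂ) else 0 := fun χ ψ => by
      have h1 := CharBasic.classInner_irrCharacter χ ψ
      rw [CharBasic.classInner_def, inv_mul_eq_iff_eq_mul₀ (Nat.cast_ne_zero.2 Nat.card_pos.ne')] at h1
      rw [h1]
      split_ifs <;> simp
    have hG : (Nat.card G : ℂ) ≠ 0 := Nat.cast_ne_zero.2 Nat.card_pos.ne'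
    apply mul_left_cancel₀ hG
    have hexp : ∑ h : G, n h * BlockBasic.blockKernel B u h =
        ∑ χ : Cfsg.IrrCharacter G, ∑ ψ : Cfsg.IrrCharacter G, if ψ ∈ B then
          ((χ : G → ℂ) t ^ 2 / (χ : G → ℂ) 1 * (ψ : G → ℂ) u) *
            ∑ h : G, (χ : G → ℂ) h * conj ((ψ : G → ℂ) h) else 0 := by
      simp only [n, hker, Finset.sum_mul_sum]
      rw [Finset.sum_comm]
      refine Finset.sum_congr rfl fun χ _ => ?_
      rw [Finset.sum_comm]
      refine Finset.sum_congr rfl fun ψ _ => ?_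
      split_ifs
      · rw [Finset.mul_sum]
        exact Finset.sum_congr rfl fun h _ => by ring
      · simp
    rw [mul_zero, Finset.mul_sum]
    refine Eq.trans (Finset.sum_congr rfl fun χ _ => ?_) (hexp.symm.trans hsum)
    rw [Finset.sum_eq_single χ (fun ψ _ hψ => ?_) (fun hx => absurd (Finset.mem_univ χ) hx)]
    · split_ifs
      · rw [horth, if_pos rfl]; ring
      · simp
    · rw [horth, if_neg (Ne.symm hψ)]
      simp
  -- the three identities
  have key : ∀ F : Cfsg.IrrCharacter G → ℂ, (∀ χ, conj (F χ) = F χ) →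
      (∀ u ∈ U, (∑ χ : Cfsg.IrrCharacter G, if χ ∈ B then F χ * (χ : G → ℂ) u else 0) = 0) →
      (∑ χ : Cfsg.IrrCharacter G, if χ ∈ B then a χ * F χ else 0) = 0 := by
    intro F hFr hF
    calc (∑ χ : Cfsg.IrrCharacter G, if χ ∈ B then a χ * F χ else 0)
        = (Nat.card ↥P : ℂ)⁻¹ * ∑ y : ↥P, θ y⁻¹ *
            ∑ χ : Cfsg.IrrCharacter G, if χ ∈ B then F χ * (χ : G → ℂ) (y : G) else 0 := by
          simp only [ha, finsum_eq_sum_of_fintype, Finset.mul_sum]
          rw [Finset.sum_comm (γ := ↥P)]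
          refine Finset.sum_congr rfl fun χ _ => ?_
          split_ifs
          · rw [Finset.sum_mul]
            exact Finset.sum_congr rfl fun y _ => by ring
          · simp
      _ = 0 := by
          rw [Finset.sum_eq_zero, mul_zero]
          intro y _
          by_cases hy' : θ y⁻¹ = 0
          · rw [hy', zero_mul]
          have hyU : ((y⁻¹ : ↥P) : G) ∈ U := by_contra fun h => hy' (hθU _ h)
          have h0 := congrArg conj (hF _ hyU)
          rw [map_sum, map_zero] at h0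
          rw [mul_eq_zero]; right
          refine Eq.trans (Finset.sum_congr rfl fun χ _ => ?_) h0
          split_ifs
          · rw [map_mul, hFr, BlockBasic.conj_apply_eq_inv, Subgroup.coe_inv, inv_inv]
          · simp
  have hreal1 : ∀ χ : Cfsg.IrrCharacter G, conj ((χ : G → ℂ) 1) = (χ : G → ℂ) 1 := fun χ => by
    rw [BlockBasic.conj_apply_eq_inv, inv_one]
  have e1 := key (fun χ => (χ : G → ℂ) t ^ 2 / (χ : G → ℂ) 1)
    (fun χ => by rw [map_div₀, map_pow, hreal, hreal1]) k3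
  have e2 := key (fun χ => (χ : G → ℂ) 1) hreal1 k1
  have e3 := key (fun χ => (χ : G → ℂ) t) hreal k2
  refine ⟨?_, ?_, ?_, fun hθ0 => or_iff_not_imp_left.2 fun hnot => ?_⟩
  · rw [BlockBasic.finsum_mem_eq_sum_ite]
    refine Eq.trans ?_ e1
    exact Finset.sum_congr rfl fun χ _ => by simp only [ha, mul_div_assoc]
  · rw [BlockBasic.finsum_mem_eq_sum_ite]
    exact Eq.trans (Finset.sum_congr rfl fun χ _ => by simp only [ha]) e2
  · rw [BlockBasic.finsum_mem_eq_sum_ite]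
    exact Eq.trans (Finset.sum_congr rfl fun χ _ => by simp only [ha]) e3
  have hareal : ∀ χ : Cfsg.IrrCharacter G, conj (a χ) = a χ := fun χ => by
    obtain ⟨φ₁, φ₂, hφ₁, hφ₂, rfl⟩ := hθ
    simp only [ha, finsum_eq_sum_of_fintype, map_mul, map_inv₀, Complex.conj_natCast, map_sum]
    congr 1
    refine Fintype.sum_equiv (Equiv.inv ↥P) _ _ fun y => ?_
    simp only [Pi.sub_apply, map_sub, BlockBasic.conj_apply_eq_inv, Equiv.inv_apply,
      Subgroup.coe_inv, ← CharBasic.IsChar.inv_apply hφ₁, ← CharBasic.IsChar.inv_apply hφ₂, inv_inv]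
  set d : Cfsg.IrrCharacter G → ℝ := fun χ => (Cfsg.charDegree (χ : G → ℂ) : ℝ) with hd
  set T : Cfsg.IrrCharacter G → ℝ := fun χ => ((χ : G → ℂ) t).re with hT
  set A : Cfsg.IrrCharacter G → ℝ := fun χ => if χ ∈ B then (a χ).re else 0 with hA
  have hdC : ∀ χ : Cfsg.IrrCharacter G, (χ : G → ℂ) 1 = (d χ : ℂ) := fun χ => by
    rw [BlockBasic.apply_one_eq_charDegree, hd, Complex.ofReal_natCast]
  have hTC : ∀ χ : Cfsg.IrrCharacter G, (χ : G → ℂ) t = (T χ : ℂ) := fun χ =>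
    (Complex.conj_eq_iff_re.1 (hreal χ)).symm
  have hAC : ∀ χ : Cfsg.IrrCharacter G, χ ∈ B → a χ = (A χ : ℂ) := fun χ hχ => by
    simp only [hA, if_pos hχ]
    exact (Complex.conj_eq_iff_re.1 (hareal χ)).symm
  have hdpos : ∀ χ, 0 < d χ := fun χ => Nat.cast_pos.2 (BlockBasic.charDegree_pos χ)
  have conv0 : ∀ (F : Cfsg.IrrCharacter G → ℂ) (f : Cfsg.IrrCharacter G → ℝ), (∀ χ, F χ = (f χ : ℂ)) →
      (∑ χ : Cfsg.IrrCharacter G, if χ ∈ B then a χ * F χ else 0) = 0 → ∑ χ, A χ * f χ = 0 := by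
    intro F f hf h0
    refine Complex.ofReal_injective ?_
    rw [Complex.ofReal_sum, Complex.ofReal_zero, ← h0]
    refine Finset.sum_congr rfl fun χ _ => ?_
    by_cases hχ : χ ∈ B
    · rw [if_pos hχ, hf, hAC χ hχ, Complex.ofReal_mul]
    · simp [hA, if_neg hχ]
  have r1 := conv0 _ d hdC e2
  have r2 := conv0 _ T hTC e3
  have r3 := conv0 _ (fun χ => T χ ^ 2 / d χ) (fun χ => by rw [hdC, hTC]; push_cast; rfl) e1
  have hAne : ∀ χ, A χ ≠ 0 → χ ∈ B := fun χ h => by_contra fun h' => h (by simp [hA, h'])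
  have hprop : ∀ i j, A i ≠ 0 → A j ≠ 0 → T i * d j = T j * d i := by
    have hor : (∀ i j, 0 < A i → 0 < A j → i = j) ∨ (∀ i j, A i < 0 → A j < 0 → i = j) := by
      by_contra hc
      rw [not_or] at hc
      push Not at hc
      obtain ⟨⟨i, j, hi, hj, hij⟩, ⟨k, l, hk, hl, hkl⟩⟩ := hc
      apply hnot
      have hcard : ∀ (Q : Cfsg.IrrCharacter G → Prop) (i j : Cfsg.IrrCharacter G),
          Q i → Q j → i ≠ j → 2 ≤ Nat.card {χ // Q χ} := fun Q i j hi hj hij => by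
        haveI : Nontrivial {χ // Q χ} := ⟨⟨i, hi⟩, ⟨j, hj⟩, fun h => hij (congrArg Subtype.val h)⟩
        exact Finite.one_lt_card
      have hre : ∀ χ, A χ ≠ 0 → A χ = (a χ).re := fun χ h => by simp [hA, hAne χ h]
      exact ⟨hcard _ i j ⟨hAne i hi.ne', (hre i hi.ne') ▸ hi⟩ ⟨hAne j hj.ne', (hre j hj.ne') ▸ hj⟩ hij,
        hcard _ k l ⟨hAne k hk.ne, (hre k hk.ne) ▸ hk⟩ ⟨hAne l hl.ne, (hre l hl.ne) ▸ hl⟩ hkl⟩
    rcases hor with h | h
    · exact prop_of_one_pos A T d (fun i _ => hdpos i) r1 r2 r3 h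
    · intro i j hi hj
      exact prop_of_one_pos (fun i => - A i) T d (fun i _ => hdpos i)
        (by simp [neg_mul, r1]) (by simp [neg_mul, r2]) (by simp [neg_mul, r3])
        (fun i j hi hj => h i j (neg_pos.1 hi) (neg_pos.1 hj)) i j (neg_ne_zero.2 hi) (neg_ne_zero.2 hj)
  set one : Cfsg.IrrCharacter G := BlockBasic.trivialIrr (G := G) with hone
  have hone_mem : one ∈ B := BlockBasic.sameBlock_refl hM _
  have hA1 : A one ≠ 0 := by
    intro h
    have h' := hAC one hone_mem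
    rw [h, Complex.ofReal_zero] at h'
    apply hθ0
    rw [← h']
    simp only [ha, hone, BlockBasic.trivialIrr, finsum_eq_sum_of_fintype, one_mul]
    congr 1
    exact Fintype.sum_equiv (Equiv.inv ↥P) _ _ fun y => by simp
  obtain ⟨ψ, hψA, hψ1⟩ : ∃ ψ, A ψ ≠ 0 ∧ ψ ≠ one := by
    by_contra hc
    push Not at hc
    rw [Finset.sum_eq_single one (fun b _ hb => by
      rw [show A b = 0 from by_contra fun h => hb (hc b h), zero_mul])
      (fun h => absurd (Finset.mem_univ one) h)] at r1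
    exact mul_ne_zero hA1 (hdpos one).ne' r1
  have hψt : (ψ : G → ℂ) t = (ψ : G → ℂ) 1 := by
    have h := hprop ψ one hψA hA1
    rw [hTC, hdC]
    have hT1 : T one = 1 := by simp [hT, hone, BlockBasic.trivialIrr]
    have hd1 : d one = 1 := by
      have := hdC one
      simp only [hone, BlockBasic.trivialIrr] at this
      exact_mod_cast this.symm
    rw [hT1, hd1, mul_one, one_mul] at h
    rw [h]
  obtain ⟨K, hKn, hK⟩ := H86.exists_charKer (CharBasic.IsIrr.isCharacter ψ.2)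
  refine ⟨K, hKn, fun htop => ?_, ?_, (hK t).2 hψt⟩
  · apply CharBasic.IsIrr.one_ne_zero ψ.2
    have h := CharBasic.classInner_irrCharacter ψ one
    rw [if_neg hψ1, CharBasic.classInner_def] at h
    have hc : ∀ g, (ψ : G → ℂ) g = (ψ : G → ℂ) 1 := fun g => (hK g).1 (htop ▸ Subgroup.mem_top g)
    simpa [hc, hone, BlockBasic.trivialIrr, Nat.card_eq_fintype_card] using h
  · intro g hg
    rw [hK]
    exact H82.apply_eq_of_mem_principalBlock hM (hAne ψ hψA) (Cfsg.pPrimeCore 2 G)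
      Cores.not_dvd_card_pPrimeCore hg

end Cfsg.Agent.S4722
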