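import Cfsg.Statements.S4723
import Cfsg.Agent.H24.HeightZeroStable

set_option autoImplicit false
open Cfsg

namespace Cfsg.Agent.S4723

/-- Let p be a prime, M a maximal ideal of the algebraic integers containing p, H a normal subgroup of the finite group G and b a p-block of H. Let T be the stabilizer of b in G. Then b contains a character θ of height zero whose own stabilizer in G (the elements g with θ(g h g⁻¹) = θ(h) for all h ∈ H) has index prime to p in T, i.e. contains a Sylow p-subgroup of T. -/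
theorem result {G : Type*} [Group G] [Finite G] (p : ℕ) [Fact p.Prime] (M : Ideal Cfsg.AlgInt) (hM : Cfsg.IsPModular p M) (H : Subgroup G) [H.Normal] (b : Set (Cfsg.IrrCharacter ↥H)) (hb : Cfsg.IsPBlock M b) (T : Subgroup G) (hT : (∀ g : G, g ∈ T ↔ ∀ θ ∈ b, ∀ θ' : Cfsg.IrrCharacter ↥H, (∀ h h' : ↥H, (h' : G) = g * h * g⁻¹ → (θ' : ↥H → ℂ) h' = (θ : ↥H → ℂ) h) → θ' ∈ b)) : ∃ θ ∈ b, Cfsg.blockHeight p b (θ : ↥H → ℂ) = 0 ∧ ∃ S : Subgroup G, S ≤ T ∧ (∀ g : G, g ∈ S ↔ (g ∈ T ∧ ∀ h h' : ↥H, (h' : G) = g * h * g⁻¹ → (θ : ↥H → ℂ) h' = (θ : ↥H → ℂ) h)) ∧ ¬ p ∣ S.relIndex T := by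
  classical
  cases nonempty_fintype G
  haveI := Fintype.ofFinite H
  have hmem : ∀ g : G, g ∈ T ↔ ∀ θ ∈ b, H80.conjTwist H θ g⁻¹ ∈ b := by
    intro g
    rw [hT g]
    constructor
    · intro h θ hθ
      refine h θ hθ _ fun x y hy => ?_
      rw [H80.conjTwist_apply]
      exact congrArg _ (Subtype.ext (by simp [hy, mul_assoc]))
    · intro h θ hθ θ' hθ'
      convert h θ hθ using 1
      apply Subtype.ext
      funext y
      rw [H80.conjTwist_apply]
      exact hθ' _ y (by simp [mul_assoc])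
  let P : Sylow p T := default
  set S₀ := (P : Subgroup T).map T.subtype
  have hS₀ : S₀ ≤ T := Subgroup.map_subtype_le _
  obtain ⟨θ, hθ, h0, hfix⟩ := H24.HeightZeroStable.exists_fixed_height_zero hM hb (S := S₀)
    (P.isPGroup'.map _) (fun s hs θ hθ => by simpa using (hmem s⁻¹).1 (inv_mem (hS₀ hs)) θ hθ)
  refine ⟨θ, hθ, h0,
    { carrier := {g | g ∈ T ∧ H80.conjTwist H θ g = θ}
      mul_mem' := fun {x y} hx hy => ⟨mul_mem hx.1 hy.1,
        by rw [← BlockBasic.conjTwist_conjTwist, hx.2, hy.2]⟩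
      one_mem' := ⟨one_mem T, BlockBasic.conjTwist_one θ⟩
      inv_mem' := fun {x} hx => ⟨inv_mem hx.1, by
        conv_lhs => rw [← hx.2]
        rw [BlockBasic.conjTwist_conjTwist, mul_inv_cancel, BlockBasic.conjTwist_one]⟩ },
    fun g hg => hg.1, fun g => ?_, ?_⟩
  · show (g ∈ T ∧ H80.conjTwist H θ g = θ) ↔ _
    refine and_congr_right fun _ => ⟨fun h x y hy => ?_, fun h => Subtype.ext (funext fun x => ?_)⟩
    · conv_rhs => rw [← h, H80.conjTwist_apply]
      exact congrArg _ (Subtype.ext hy)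
    · rw [H80.conjTwist_apply]
      exact h x _ rfl
  · intro hd
    refine P.not_dvd_index (hd.trans ?_)
    refine dvd_trans (Subgroup.relIndex_dvd_of_le_left T ?_) (dvd_of_eq ?_) (b := S₀.relIndex T)
    · exact fun s hs => ⟨hS₀ hs, hfix s hs⟩
    · show (((P : Subgroup T).map T.subtype).comap T.subtype).index = _
      rw [Subgroup.comap_map_eq_self_of_injective T.subtype_injective]

end Cfsg.Agent.S4723
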