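import Cfsg.Statements.S4725
import Cfsg.Agent.H83.RegInner
import Cfsg.Agent.CharInduce.Function
import Cfsg.Agent.H86.IrrOps

set_option autoImplicit false
open Cfsg

namespace Cfsg.Agent.S4725
open scoped ComplexConjugate

/-- Let p be a prime, M a maximal ideal of the algebraic integers containing p, H a subgroup of the finite group G, and b a p-block of H inducing the p-block B of G, with b and B of the same defect. Then for every height-zero ζ ∈ b there is a height-zero χ ∈ B whose multiplicity in the character induced from ζ is not divisible by p. -/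
theorem result {G : Type*} [Group G] [Fintype G] (p : ℕ) [Fact p.Prime] (M : Ideal Cfsg.AlgInt) (hM : Cfsg.IsPModular p M) (H : Subgroup G) (b : Set (Cfsg.IrrCharacter ↥H)) (B : Set (Cfsg.IrrCharacter G)) (hind : Cfsg.IsInducedBlock M H b B) (hdef : Cfsg.blockDefect p b = Cfsg.blockDefect p B) (ζ : Cfsg.IrrCharacter ↥H) (hζ : ζ ∈ b) (hζ0 : Cfsg.blockHeight p b (ζ : ↥H → ℂ) = 0) : ∃ χ ∈ B, Cfsg.blockHeight p B (χ : G → ℂ) = 0 ∧ ∃ a : ℕ, Cfsg.classInner (Cfsg.indFun H (ζ : ↥H → ℂ)) (χ : G → ℂ) = (a : ℂ) ∧ ¬ p ∣ a := by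
  classical
  haveI : Fintype H := Fintype.ofFinite _
  obtain ⟨hb, hB, hcongr⟩ := hind
  have hp : p.Prime := Fact.out
  have hmult : ∀ χ : Cfsg.IrrCharacter G, ∃ a : ℕ,
      Cfsg.classInner (Cfsg.indFun H (ζ : ↥H → ℂ)) (χ : G → ℂ) = (a : ℂ) := by
    intro χ
    rw [CharInduce.classInner_indFun_left H _ _ (CharBasic.IsIrr.isClassFunction χ.2)]
    exact CharBasic.classInner_isChar_nat (CharBasic.IsIrr.isCharacter ζ.2)
      (H86.isCharacter_comp (CharBasic.IsIrr.isCharacter χ.2) H.subtype)
  choose m hm using hmult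
  by_contra hcon
  push Not at hcon
  have hdvd : ∀ χ ∈ B, p ^ (H83.minExp p B + 1) ∣ m χ * Cfsg.charDegree (χ : G → ℂ) := by
    intro χ hχ
    have hf := H83.factorization_eq hM hχ
    by_cases h0 : Cfsg.blockHeight p B (χ : G → ℂ) = 0
    · have h1 := hcon χ hχ h0 (m χ) (hm χ)
      rw [pow_succ']
      refine mul_dvd_mul h1 ?_
      have := Nat.ordProj_dvd (Cfsg.charDegree (χ : G → ℂ)) p
      rwa [hf, h0, add_zero] at this
    · refine ((Nat.pow_dvd_pow p ?_).trans (Nat.ordProj_dvd _ p)).mul_left _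
      omega
  obtain ⟨χ₀, hχ₀⟩ := BlockBasic.isPBlock_nonempty hM hB
  set w : ℂ := ∑ h : H, Cfsg.blockCoeff B (h : G) * ((ζ : ↥H → ℂ) h / (ζ : ↥H → ℂ) 1) with hw
  -- w is congruent to one
  have hw1 : Cfsg.MemLocalIdeal M (w - 1) := by
    haveI : Finite (ConjClasses G) := Finite.of_surjective _ ConjClasses.mk_surjective
    haveI : Fintype (ConjClasses G) := Fintype.ofFinite _
    have h1 := BlockBasic.omega_blockElem B χ₀
    rw [if_pos hχ₀, BlockBasic.omega_eq_sum_classes (CharBasic.IsIrr.isClassFunction χ₀.2)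
      (BlockBasic.isCentralElt_blockElem B)] at h1
    have h2 : w = ∑ C : ConjClasses G, (BlockBasic.blockElem B).coeff C.out *
        Cfsg.inducedCentralChar H (ζ : ↥H → ℂ) C.out := by
      rw [hw, ← Finset.sum_fiberwise Finset.univ (fun h : H => ConjClasses.mk (h : G))]
      refine Finset.sum_congr rfl fun C _ => ?_
      have hC : ∀ g : G, ConjClasses.mk g = C ↔ IsConj C.out g := by
        intro g
        conv_lhs => rw [← Quotient.out_eq C]
        exact ConjClasses.mk_eq_mk_iff_isConj.trans isConj_comm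
      rw [Cfsg.inducedCentralChar, finsum_eq_sum_of_fintype]
      simp only [finsum_eq_if, Set.mem_setOf_eq]
      rw [← Finset.sum_filter, Finset.mul_sum]
      refine Finset.sum_congr (Finset.filter_congr fun h _ => hC _) fun h hh => ?_
      congr 1
      rw [BlockBasic.coeff_blockElem]
      obtain ⟨x, hx⟩ := isConj_iff.1 (Finset.mem_filter.1 hh).2
      rw [← hx]
      exact BlockBasic.isClassFunction_blockCoeff B _ _
    rw [← h1, h2, ← Finset.sum_sub_distrib]
    refine BlockBasic.memLocalIdeal_sum hM _ _ fun C _ => ?_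
    rw [← mul_sub]
    exact BlockBasic.memLocalIdeal_mul hM
      (BlockBasic.isIntElt_blockElem hM hB C.out) (hcongr ζ hζ χ₀ hχ₀ C.out)
  -- the degree of the B-part of the induced character
  have hT : ((∑ χ : Cfsg.IrrCharacter G,
      if χ ∈ B then m χ * Cfsg.charDegree (χ : G → ℂ) else 0 : ℕ) : ℂ) =
      (H.index : ℂ) * (ζ : ↥H → ℂ) 1 * w := by
    have hH : (Nat.card H : ℂ) ≠ 0 := by simp
    have hidx : (H.index : ℂ) * (Nat.card H : ℂ) = (Nat.card G : ℂ) := by
      exact_mod_cast H.index_mul_card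
    have hne := CharBasic.IsIrr.one_ne_zero ζ.2
    apply mul_left_cancel₀ hH
    calc (Nat.card H : ℂ) * _ = ∑ χ : Cfsg.IrrCharacter G, ∑ h : H,
          (if χ ∈ B then (χ : G → ℂ) 1 * conj ((χ : G → ℂ) (h : G)) * (ζ : ↥H → ℂ) h else 0) := by
          push_cast
          rw [Finset.mul_sum]
          refine Finset.sum_congr rfl fun χ _ => ?_
          split_ifs with hχ
          · rw [← hm, CharInduce.classInner_indFun_left H _ _
              (CharBasic.IsIrr.isClassFunction χ.2), CharBasic.classInner_def,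
              ← BlockBasic.apply_one_eq_charDegree, ← mul_assoc, ← mul_assoc,
              mul_inv_cancel₀ hH, one_mul, Finset.sum_mul]
            exact Finset.sum_congr rfl fun h _ => by ring
          · simp
      _ = ∑ h : H, (Nat.card G : ℂ) * Cfsg.blockCoeff B (h : G) * (ζ : ↥H → ℂ) h := by
          rw [Finset.sum_comm]
          refine Finset.sum_congr rfl fun h _ => ?_
          rw [Cfsg.blockCoeff, ← mul_assoc, mul_inv_cancel₀ (Nat.cast_ne_zero.2 Nat.card_pos.ne'),
            one_mul, BlockBasic.finsum_mem_eq_sum_ite, Finset.sum_mul]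
          exact Finset.sum_congr rfl fun χ _ => by split_ifs <;> simp
      _ = _ := by
          rw [hw, Finset.mul_sum, Finset.mul_sum]
          refine Finset.sum_congr rfl fun h _ => ?_
          rw [← hidx]
          field_simp
  set c := H83.minExp p B
  have hdvdT : p ^ (c + 1) ∣ ∑ χ : Cfsg.IrrCharacter G,
      if χ ∈ B then m χ * Cfsg.charDegree (χ : G → ℂ) else 0 :=
    Finset.dvd_sum fun χ _ => by
      split_ifs with hχ
      · exact hdvd χ hχ
      · exact dvd_zero _
  obtain ⟨j, hj⟩ := hdvdT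
  -- exact power of p in index times degree
  set N := H.index * Cfsg.charDegree (ζ : ↥H → ℂ) with hN
  have hi : H.index ≠ 0 := Subgroup.index_ne_zero_of_finite
  have hζd := (BlockBasic.charDegree_pos ζ).ne'
  have hNf : N.factorization p = c := by
    rw [hN, Nat.factorization_mul hi hζd, Finsupp.add_apply, H83.factorization_eq hM hζ, hζ0,
      add_zero]
    have h1 : (Nat.card G).factorization p =
        H.index.factorization p + (Nat.card H).factorization p := by
      rw [← H.index_mul_card, Nat.factorization_mul hi Nat.card_pos.ne', Finsupp.add_apply]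
    have h2 := H83.defect_add_minExp (p := p) hM hb
    have h3 := H83.defect_add_minExp (p := p) hM hB
    omega
  set u := N / p ^ c with hu
  have hup : ¬ p ∣ u := by
    rw [hu, ← hNf]; exact Nat.not_dvd_ordCompl hp (mul_ne_zero hi hζd)
  have hu0 : (u : ℂ) ≠ 0 := Nat.cast_ne_zero.2 fun h => hup (h ▸ dvd_zero p)
  have hNu : p ^ c * u = N := by rw [hu, ← hNf]; exact Nat.ordProj_mul_ordCompl_eq_self N p
  rw [hj, BlockBasic.apply_one_eq_charDegree] at hT
  have hw' : w = (p : ℂ) * ((j : ℂ) * (u : ℂ)⁻¹) := by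
    have hp0 : (p : ℂ) ≠ 0 := Nat.cast_ne_zero.2 hp.ne_zero
    have h' : (H.index : ℂ) * (Cfsg.charDegree (ζ : ↥H → ℂ) : ℂ) = (p : ℂ) ^ c * u := by
      exact_mod_cast hNu.symm
    rw [h'] at hT
    apply mul_left_cancel₀ (mul_ne_zero (pow_ne_zero c hp0) hu0)
    rw [← hT]
    push_cast
    rw [pow_succ]
    field_simp
  apply BlockBasic.not_memLocalIdeal_one hM
  have : Cfsg.MemLocalIdeal M w := by
    rw [hw', mul_comm]
    exact BlockBasic.memLocalIdeal_mul hM (BlockBasic.memLocalRing_mul hM
      (BlockBasic.memLocalRing_natCast hM j) (BlockBasic.memLocalRing_natCast_inv hM hup))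
      ((BlockBasic.memLocalIdeal_natCast_iff hM p).2 dvd_rfl)
  simpa using BlockBasic.memLocalIdeal_sub hM this hw1

end Cfsg.Agent.S4725
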