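import Cfsg.Statements.S4726
import Cfsg.Agent.H24.InductionDefect

set_option autoImplicit false
open Cfsg

namespace Cfsg.Agent.S4726

/-- Let p be a prime, M a maximal ideal of the algebraic integers containing p, H a subgroup of the finite group G and b a p-block of H with defect group D₀ such that C_G(D₀) ≤ H. Then b induces a block of G, and for every block B of G induced by b there is a defect group D of B with Z(D) ≤ Z(D₀) ≤ D₀ ≤ D (as subgroups of G). In particular, if the defect groups of B are abelian then D₀ is a defect group of B. -/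
theorem result {G : Type*} [Group G] [Finite G] (p : ℕ) [Fact p.Prime] (M : Ideal Cfsg.AlgInt) (hM : Cfsg.IsPModular p M) (H : Subgroup G) (b : Set (Cfsg.IrrCharacter ↥H)) (hb : Cfsg.IsPBlock M b) (D₀ : Subgroup ↥H) (hD₀ : Cfsg.IsDefectGroup p M b D₀) (hC : Subgroup.centralizer ((D₀.map H.subtype : Subgroup G) : Set G) ≤ H) : Cfsg.InducedBlockDefined M H b ∧ ∀ B : Set (Cfsg.IrrCharacter G), Cfsg.IsInducedBlock M H b B → (∃ D : Subgroup G, Cfsg.IsDefectGroup p M B D ∧ (Subgroup.center ↥D).map D.subtype ≤ ((Subgroup.center ↥D₀).map D₀.subtype).map H.subtype ∧ ((Subgroup.center ↥D₀).map D₀.subtype).map H.subtype ≤ D₀.map H.subtype ∧ D₀.map H.subtype ≤ D) ∧ (∀ D : Subgroup G, Cfsg.IsDefectGroup p M B D → IsMulCommutative ↥D → Cfsg.IsDefectGroup p M B (D₀.map H.subtype)) := by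
  cases nonempty_fintype G
  refine ⟨H24.InductionDefect.inducedBlockDefined hM hb hD₀ hC, fun B hind => ?_⟩
  obtain ⟨E, hE, hle, hcen⟩ := H24.InductionDefect.exists_defectGroup hM hD₀ hC hind
  refine ⟨⟨E, hE, ?_, Subgroup.map_mono (Subgroup.map_subtype_le _), hle⟩, fun D hD hab => ?_⟩
  · rintro _ ⟨z, hz, rfl⟩
    have hzc : ∀ w ∈ E, (z : G) * w = w * z := fun w hw =>
      congrArg Subtype.val (Subgroup.mem_center_iff.1 hz ⟨w, hw⟩).symm
    obtain ⟨y, hy, hyz⟩ := hcen z z.2 hzc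
    refine ⟨y, ⟨⟨y, hy⟩, Subgroup.mem_center_iff.2 fun w => Subtype.ext (Subtype.ext ?_), rfl⟩, hyz⟩
    show ((w : H) : G) * (y : G) = (y : G) * ((w : H) : G)
    rw [show ((y : H) : G) = (z : G) from hyz]
    exact (hzc _ (hle ⟨w, w.2, rfl⟩)).symm
  · obtain ⟨c, hc⟩ := H35.defectGroup_le_conj hM hind.2.1 hD hE
    have hEab : ∀ u ∈ E, ∀ w ∈ E, u * w = w * u := by
      intro u hu w hw
      obtain ⟨u', hu', rfl⟩ := hc hu
      obtain ⟨w', hw', rfl⟩ := hc hw
      rw [← map_mul, ← map_mul]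
      exact congrArg _ (congrArg Subtype.val (hab.is_comm.comm ⟨u', hu'⟩ ⟨w', hw'⟩))
    rw [le_antisymm hle fun x hx => hcen x hx (hEab x hx)]
    exact hE

end Cfsg.Agent.S4726
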