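import Cfsg.Statements.S4729
import Cfsg.Agent.H82.PrincipalBlock
import Cfsg.Agent.CharInduce.Det
import Cfsg.Agent.BlockBasic.Basic

set_option autoImplicit false
open Cfsg

namespace Cfsg.Agent.S4729

open CharBasic BlockBasic in
theorem eq_one_of_regular {G : Type*} [Group G] [Finite G] {p : ℕ} [hp : Fact p.Prime]
    {M : Ideal Cfsg.AlgInt} (hM : Cfsg.IsPModular p M) (hperf : commutator G = ⊤) (P : Sylow p G)
    (χ : Cfsg.IrrCharacter G) (hχ : χ ∈ Cfsg.principalBlock M G)
    (hfaith : ∀ g : G, (χ : G → ℂ) g = (χ : G → ℂ) 1 → g = 1)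
    (hdeg : Cfsg.charDegree (χ : G → ℂ) < 2 * p) {x : G}
    (hx : x ∈ Subgroup.centralizer ((P : Subgroup G) : Set G)) (hreg : ¬ p ∣ orderOf x) :
    x = 1 := by
  classical
  cases nonempty_fintype G
  obtain ⟨n, ρ, hρ, hρc⟩ := χ.2
  have hm : 0 < orderOf x := orderOf_pos x
  set m := orderOf x with hmdef
  obtain ⟨b, μ, hb, hμ⟩ := exists_eigenbasis (f := ρ x) hm
    (by rw [← map_pow, hmdef, pow_orderOf_eq_one, map_one])
  have htr : ∀ k, (χ : G → ℂ) (x ^ k) = ∑ i, μ i ^ k := by
    intro k
    rw [← hρc, Representation.character, map_pow]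
    refine trace_eq_sum_of_eigenbasis b _ _ fun i => ?_
    induction k with
    | zero => simp
    | succ k ih => rw [pow_succ, Module.End.mul_apply, hb, map_smul, ih, smul_smul, pow_succ']
  set d := Cfsg.charDegree (χ : G → ℂ) with hd
  have hd1 : (χ : G → ℂ) 1 = (d : ℂ) := apply_one_eq_charDegree χ
  have hdn : (d : ℂ) = (Finset.univ : Finset (Fin (Module.finrank ℂ (Fin n → ℂ)))).card := by
    rw [← hd1, ← pow_zero x, htr 0]
    simp
  -- congruence with the trivial character
  have hcong : ∀ k, Cfsg.MemLocalIdeal M ((χ : G → ℂ) (x ^ k) - (d : ℂ)) := by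
    intro k
    have hidx : ¬ p ∣ (Subgroup.centralizer ({x ^ k} : Set G)).index := fun h =>
      P.not_dvd_index (h.trans (Subgroup.index_dvd_of_le fun y hy => by
        rw [Subgroup.mem_centralizer_singleton_iff]
        exact ((show Commute y x from Subgroup.mem_centralizer_iff.mp hx y hy).pow_right k).eq))
    have h := H82.mem_principalBlock_iff χ |>.mp hχ (x ^ k)
    set N := (Subgroup.centralizer ({x ^ k} : Set G)).index with hN
    have h2 := memLocalIdeal_mul hM
      (memLocalRing_mul hM (memLocalRing_natCast hM d) (memLocalRing_natCast_inv hM hidx)) h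
    have hd0 : (d : ℂ) ≠ 0 := Nat.cast_ne_zero.mpr (charDegree_pos χ).ne'
    have hN0 : (N : ℂ) ≠ 0 := Nat.cast_ne_zero.mpr fun h0 => hidx (h0 ▸ dvd_zero p)
    have h3 := memLocalIdeal_neg h2
    rw [Cfsg.centralChar, ← hN, hd1] at h3
    convert h3 using 1
    field_simp
    ring
  -- multiplicities of nontrivial eigenvalues
  have hmul : ∀ z : ℂ, z ≠ 1 → p ∣ (Finset.univ.filter fun i => μ i = z).card := by
    intro z hz
    rcases (Finset.univ.filter fun i => μ i = z).eq_empty_or_nonempty with he | ⟨i₀, hi₀⟩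
    · rw [he]; simp
    have hzm : z ^ m = 1 := by rw [← (Finset.mem_filter.mp hi₀).2]; exact hμ i₀
    have hz0 : z ≠ 0 := fun h => by
      rw [h, zero_pow hm.ne'] at hzm
      exact zero_ne_one hzm
    have hgeom : ∀ w : ℂ, w ^ m = 1 →
        ∑ k ∈ Finset.range m, w ^ k = if w = 1 then (m : ℂ) else 0 := by
      intro w hw
      by_cases h1 : w = 1
      · simp [h1]
      · rw [if_neg h1, geom_sum_eq h1, hw, sub_self, zero_div]
    have key : Cfsg.MemLocalIdeal M
        (((Finset.univ.filter fun i => μ i = z).card * m : ℕ) : ℂ) := by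
      have e1 : ∑ k ∈ Finset.range m, ((χ : G → ℂ) (x ^ k) - (d : ℂ)) * z⁻¹ ^ k =
          (((Finset.univ.filter fun i => μ i = z).card * m : ℕ) : ℂ) := by
        simp only [sub_mul, Finset.sum_sub_distrib, ← Finset.mul_sum,
          hgeom z⁻¹ (by rw [inv_pow, hzm, inv_one]), inv_eq_one, if_neg hz, mul_zero, sub_zero,
          htr, Finset.sum_mul, ← mul_pow]
        rw [Finset.sum_comm]
        calc ∑ i, ∑ k ∈ Finset.range m, (μ i * z⁻¹) ^ k
            = ∑ i, if μ i = z then (m : ℂ) else 0 := Finset.sum_congr rfl fun i _ => by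
              rw [hgeom _ (by rw [mul_pow, hμ, inv_pow, hzm, inv_one, mul_one])]
              simp only [mul_inv_eq_one₀ hz0]
          _ = _ := by rw [← Finset.sum_filter, Finset.sum_const, nsmul_eq_mul, Nat.cast_mul]
      rw [← e1]
      refine memLocalIdeal_sum hM _ _ fun k _ => ?_
      rw [mul_comm]
      refine memLocalIdeal_mul hM (memLocalRing_of_isIntegral hM ?_) (hcong k)
      exact IsIntegral.pow (IsIntegral.of_pow hm (by rw [inv_pow, hzm, inv_one]; exact isIntegral_one)) k
    exact ((hp.out.dvd_mul).mp ((memLocalIdeal_natCast_iff hM _).mp key)).resolve_right hreg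
  -- at most one nontrivial eigenvalue, killed by the determinant
  have hone : ∀ i, μ i = 1 := by
    by_contra hc
    push Not at hc
    obtain ⟨i₀, hi₀⟩ := hc
    set z := μ i₀ with hz
    have hcard : ∀ w : ℂ, w ≠ 1 → ∀ i, μ i = w → p ≤ (Finset.univ.filter fun i => μ i = w).card :=
      fun w hw i hi => Nat.le_of_dvd
        (Finset.card_pos.mpr ⟨i, Finset.mem_filter.mpr ⟨Finset.mem_univ _, hi⟩⟩) (hmul w hw)
    have hn2 : (Finset.univ : Finset (Fin (Module.finrank ℂ (Fin n → ℂ)))).card < 2 * p := by
      have : d = (Finset.univ : Finset (Fin (Module.finrank ℂ (Fin n → ℂ)))).card := by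
        exact_mod_cast hdn
      omega
    have hall : ∀ i, μ i = 1 ∨ μ i = z := by
      intro i
      by_contra hi
      push Not at hi
      have h1 := hcard z hi₀ i₀ rfl
      have h2 := hcard (μ i) hi.1 i rfl
      have h3 : Disjoint (Finset.univ.filter fun j => μ j = z)
          (Finset.univ.filter fun j => μ j = μ i) :=
        Finset.disjoint_filter.mpr fun j _ hj hj' => hi.2 (hj'.symm.trans hj)
      have h4 := Finset.card_le_card (Finset.subset_univ ((Finset.univ.filter fun j => μ j = z) ∪
        (Finset.univ.filter fun j => μ j = μ i)))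
      rw [Finset.card_union_of_disjoint h3] at h4
      omega
    have hcp : (Finset.univ.filter fun i => μ i = z).card = p := by
      have h1 := hcard z hi₀ i₀ rfl
      obtain ⟨t, ht⟩ := hmul z hi₀
      have h2 := Finset.card_le_card (Finset.subset_univ (Finset.univ.filter fun i => μ i = z))
      rcases Nat.lt_or_ge t 2 with h | h
      · interval_cases t
        · simp only [mul_zero] at ht; omega
        · simpa using ht
      · have := Nat.mul_le_mul_left p h
        rw [mul_comm p 2] at this
        omega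
    have hdet : LinearMap.det (ρ x) = 1 := by
      have hle : commutator G ≤ (CharInduce.detHom ρ).ker :=
        Abelianization.commutator_subset_ker _
      have := MonoidHom.mem_ker.mp (hle (hperf ▸ Subgroup.mem_top x))
      rw [← CharInduce.coe_detHom, this, Units.val_one]
    have hmat : LinearMap.toMatrix b b (ρ x) = Matrix.diagonal μ := by
      ext i j
      rw [LinearMap.toMatrix_apply, hb, map_smul, Module.Basis.repr_self, Matrix.diagonal_apply]
      by_cases h : i = j <;> simp [h, Ne.symm]
    rw [← LinearMap.det_toMatrix b, hmat, Matrix.det_diagonal, ← Finset.prod_filter_mul_prod_filter_not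
      Finset.univ (fun i => μ i = z), Finset.prod_congr rfl (fun i hi => (Finset.mem_filter.mp hi).2),
      Finset.prod_const, hcp, Finset.prod_eq_one (fun i hi =>
        (hall i).resolve_right (Finset.mem_filter.mp hi).2), mul_one] at hdet
    have h1 : orderOf z ∣ Nat.gcd m p :=
      Nat.dvd_gcd (orderOf_dvd_of_pow_eq_one (hμ i₀)) (orderOf_dvd_of_pow_eq_one hdet)
    rw [Nat.Coprime.gcd_eq_one (Nat.Coprime.symm (hp.out.coprime_iff_not_dvd.mpr hreg)),
      Nat.dvd_one, orderOf_eq_one_iff] at h1
    exact hi₀ h1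
  refine hfaith x ?_
  rw [← pow_one x, htr 1, hd1, hdn]
  simp [hone]

/-- Let p be a prime, M a maximal ideal of the algebraic integers containing p, G a finite perfect group and P a Sylow p-subgroup. If the principal p-block of G contains a faithful irreducible character of degree less than 2p, then the centralizer of P is a p-group. -/
theorem result {G : Type*} [Group G] [Finite G] (p : ℕ) [Fact p.Prime] (M : Ideal Cfsg.AlgInt) (hM : Cfsg.IsPModular p M) (hperf : commutator G = ⊤) (P : Sylow p G) (χ : Cfsg.IrrCharacter G) (hχ : χ ∈ Cfsg.principalBlock M G) (hfaith : ∀ g : G, (χ : G → ℂ) g = (χ : G → ℂ) 1 → g = 1) (hdeg : Cfsg.charDegree (χ : G → ℂ) < 2 * p) : IsPGroup p ↥(Subgroup.centralizer ((P : Subgroup G) : Set G)) := by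
  rintro ⟨g, hg⟩
  obtain ⟨k, m, hm, hgm⟩ := Nat.exists_eq_pow_mul_and_not_dvd (orderOf_pos g).ne' p
    (Fact.out : p.Prime).ne_one
  refine ⟨k, Subtype.ext (eq_one_of_regular hM hperf P χ hχ hfaith hdeg (Subgroup.pow_mem _ hg _) ?_)⟩
  show ¬ p ∣ orderOf (g ^ p ^ k)
  rw [orderOf_pow_of_dvd (pow_ne_zero _ (Fact.out : p.Prime).ne_zero)
    (hgm ▸ dvd_mul_right _ _), hgm, Nat.mul_div_cancel_left _ (pow_pos (Fact.out : p.Prime).pos k)]
  exact hm

end Cfsg.Agent.S4729
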