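import Cfsg.Statements.S4730
import Cfsg.Agent.H83.RegInner
import Cfsg.Agent.CharBasic.Integral

set_option autoImplicit false
open Cfsg

namespace Cfsg.Agent.S4730

/-- Let p be a prime, M a maximal ideal of the algebraic integers containing p, and G a finite group with trivial centre, Sylow p-subgroup P of order p^a and centre Z(P) of order p^b. If χ is a faithful irreducible character of G whose degree is a power of p, then the p-block of χ has defect at most a − b; in particular, if P is abelian then χ lies in a block of defect zero. -/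
theorem result {G : Type*} [Group G] [Finite G] (p : ℕ) [Fact p.Prime] (M : Ideal Cfsg.AlgInt) (hM : Cfsg.IsPModular p M) (hZ : Subgroup.center G = ⊥) (P : Sylow p G) (a b : ℕ) (ha : Nat.card P = p ^ a) (hb : Nat.card (Subgroup.center ↥(P : Subgroup G)) = p ^ b) (χ : Cfsg.IrrCharacter G) (hfaith : ∀ g : G, (χ : G → ℂ) g = (χ : G → ℂ) 1 → g = 1) (n : ℕ) (hdeg : Cfsg.charDegree (χ : G → ℂ) = p ^ n) : Cfsg.blockDefect p (Cfsg.blockOf M (χ : G → ℂ)) ≤ a - b ∧ (IsMulCommutative ↥(P : Subgroup G) → Cfsg.blockDefect p (Cfsg.blockOf M (χ : G → ℂ)) = 0) := by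
  classical
  cases nonempty_fintype G
  have hp : p.Prime := Fact.out
  set B := Cfsg.blockOf M (χ : G → ℂ) with hBdef
  have hB : Cfsg.IsPBlock M B := BlockBasic.isPBlock_blockOf M χ
  have ha' : (Nat.card G).factorization p = a := by
    rw [P.card_eq_multiplicity] at ha
    exact Nat.pow_right_injective hp.two_le ha
  -- central elements of P
  set Z : Subgroup G := (Subgroup.center ↥(P : Subgroup G)).map (P : Subgroup G).subtype with hZdef
  have hZcard : Nat.card Z = p ^ b := by
    rw [hZdef, Subgroup.card_map_of_injective (P : Subgroup G).subtype_injective, hb]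
  have hidx : ∀ z ∈ Z, ¬ p ∣ (Subgroup.centralizer ({z} : Set G)).index := by
    rintro _ ⟨w, hw, rfl⟩ hdvd
    apply P.not_dvd_index
    refine hdvd.trans (Subgroup.index_dvd_of_le fun x hx => ?_)
    rw [Subgroup.mem_centralizer_singleton_iff]
    exact congrArg Subtype.val (Subgroup.mem_center_iff.1 hw ⟨x, hx⟩)
  have hvan : ∀ z ∈ Z, z ≠ 1 → (χ : G → ℂ) z = 0 := by
    intro z hz hz1
    obtain ⟨m, ρ, hρ, he⟩ := χ.2
    have hm : Cfsg.charDegree (χ : G → ℂ) = m := by
      rw [← he, Cfsg.charDegree, Representation.char_one]; simp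
    rcases CharBasic.burnside_zero_or_scalar ρ z (by
      rw [Module.finrank_fin_fun, ← hm, hdeg]
      exact Nat.Coprime.pow_left n ((Nat.Prime.coprime_iff_not_dvd hp).2 (hidx z hz))) with h | h
    · rw [← he]; exact h
    · exfalso
      apply hz1
      obtain ⟨c, hc⟩ := (CharBasic.norm_character_eq_iff ρ z).1 h
      have : z ∈ Subgroup.center G := by
        rw [Subgroup.mem_center_iff]
        intro g
        have hcomm : ρ (g * z) = ρ (z * g) := by
          rw [map_mul, map_mul, hc]
          ext v
          simp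
        have h1 : ρ ((z * g)⁻¹ * (g * z)) = 1 := by
          rw [map_mul, hcomm, ← map_mul, inv_mul_cancel, map_one]
        have h2 := hfaith ((z * g)⁻¹ * (g * z)) (by
          rw [← he]; simp only [Representation.character, h1, map_one])
        exact (inv_mul_eq_one.1 h2).symm
      rw [hZ] at this
      exact this
  -- every member of B has degree divisible by the order of Z
  have hdiv : ∀ ψ ∈ B, b ≤ (Cfsg.charDegree (ψ : G → ℂ)).factorization p := by
    intro ψ hψ
    have hne := CharBasic.IsIrr.one_ne_zero ψ.2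
    have hne' := CharBasic.IsIrr.one_ne_zero χ.2
    have hmem : ∀ z ∈ Z, z ≠ 1 →
        Cfsg.MemLocalIdeal M ((ψ : G → ℂ) z / (ψ : G → ℂ) 1) := by
      intro z hz hz1
      have h := BlockBasic.isPBlock_sameBlock hM hB hψ (BlockBasic.self_mem_blockOf hM χ) z
      rw [Cfsg.centralChar, Cfsg.centralChar, hvan z hz hz1, mul_zero, zero_div, sub_zero] at h
      have h2 := BlockBasic.memLocalIdeal_mul hM
        (BlockBasic.memLocalRing_natCast_inv hM (hidx z hz)) h
      have hi : ((Subgroup.centralizer ({z} : Set G)).index : ℂ) ≠ 0 :=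
        Nat.cast_ne_zero.2 Subgroup.index_ne_zero_of_finite
      convert h2 using 1
      field_simp
    haveI : Fintype Z := Fintype.ofFinite _
    obtain ⟨m, hm⟩ := H83.sum_subgroup_eq (CharBasic.IsIrr.isCharacter ψ.2) Z
    set S : ℂ := ∑ z ∈ Finset.univ.erase (1 : Z), (ψ : G → ℂ) (z : G) / (ψ : G → ℂ) 1 with hS
    have hSI : Cfsg.MemLocalIdeal M S :=
      BlockBasic.memLocalIdeal_sum hM _ _ fun z hz =>
        hmem z z.2 fun h => (Finset.mem_erase.1 hz).1 (Subtype.ext h)
    have hu : Cfsg.MemLocalRing M (1 + S) :=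
      (BlockBasic.locRing hM).add_mem (BlockBasic.locRing hM).one_mem
        (BlockBasic.MemLocalIdeal.memLocalRing hSI)
    have hu' : ¬ Cfsg.MemLocalIdeal M (1 + S) := fun h =>
      BlockBasic.not_memLocalIdeal_one hM (by
        simpa using BlockBasic.memLocalIdeal_sub hM h hSI)
    have hu0 : (1 + S) ≠ 0 := fun h => hu' (h ▸ BlockBasic.memLocalIdeal_zero hM)
    have heq : (ψ : G → ℂ) 1 * (1 + S) = (p : ℂ) ^ b * (m : ℂ) := by
      rw [← Nat.cast_pow, ← hZcard, ← hm, ← Finset.add_sum_erase _ _ (Finset.mem_univ (1 : Z)),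
        hS, mul_add, mul_one, Finset.mul_sum]
      congr 1
      exact Finset.sum_congr rfl fun z _ => by field_simp
    have hd : (p : ℤ) ^ b ∣ (Cfsg.charDegree (ψ : G → ℂ) : ℤ) := by
      refine H83.int_dvd_of_memLocalRing hM (z := (m : ℂ) * (1 + S)⁻¹)
        (BlockBasic.memLocalRing_mul hM (BlockBasic.memLocalRing_natCast hM m)
          (BlockBasic.memLocalRing_inv hM hu hu')) ?_
      rw [← mul_assoc, ← heq, mul_assoc, mul_inv_cancel₀ hu0, mul_one,
        BlockBasic.apply_one_eq_charDegree]
      simp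
    exact (hp.pow_dvd_iff_le_factorization (BlockBasic.charDegree_pos ψ).ne').1
      (by exact_mod_cast hd)
  have hmain : Cfsg.blockDefect p B ≤ a - b := by
    rw [H83.blockDefect_eq, ha']
    refine Nat.sub_le_sub_left ?_ a
    obtain ⟨ψ, hψ, h0⟩ := H83.exists_height_zero hM hB
    have h1 := hdiv ψ hψ
    rw [H83.factorization_eq hM hψ, h0, add_zero] at h1
    exact h1
  refine ⟨hmain, fun hab => ?_⟩
  have htop : Subgroup.center ↥(P : Subgroup G) = ⊤ := by
    rw [eq_top_iff]
    intro x _
    rw [Subgroup.mem_center_iff]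
    exact fun y => hab.is_comm.comm y x
  rw [htop, Subgroup.card_top, ha] at hb
  have := Nat.pow_right_injective hp.two_le hb
  omega

end Cfsg.Agent.S4730
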