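import Cfsg.Statements.S4731
import Cfsg.Agent.BlockBasic.Basic

set_option autoImplicit false
open Cfsg
open scoped ComplexConjugate

namespace Cfsg.Agent.S4731

/-- Let p ≠ q be primes, M_p and M_q maximal ideals of the algebraic integers containing p and q respectively, and G a finite group with no element of order pq; let q^b be the q-part of the order of G. For a p-block B_p (relative to M_p), a q-block B_q (relative to M_q) and a p-singular element y, the sum of χ(1)χ(y) over the irreducible characters χ lying in both B_p and B_q is q^b times an algebraic integer. -/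
theorem result {G : Type*} [Group G] [Finite G] (p q : ℕ) [Fact p.Prime] [Fact q.Prime] (hpq : p ≠ q) (Mp Mq : Ideal Cfsg.AlgInt) (hMp : Cfsg.IsPModular p Mp) (hMq : Cfsg.IsPModular q Mq) (hno : ∀ g : G, orderOf g ≠ p * q) (b : ℕ) (hb : (Nat.card G).factorization q = b) (Bp : Set (Cfsg.IrrCharacter G)) (hBp : Cfsg.IsPBlock Mp Bp) (Bq : Set (Cfsg.IrrCharacter G)) (hBq : Cfsg.IsPBlock Mq Bq) (y : G) (hy : p ∣ orderOf y) : ∃ ω : Cfsg.AlgInt, ∑ᶠ χ ∈ Bp ∩ Bq, (Cfsg.charDegree (χ : G → ℂ) : ℂ) * (χ : G → ℂ) y = (q : ℂ) ^ b * (ω : ℂ) := by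
  classical
  cases nonempty_fintype G
  subst hb
  have hp : p.Prime := Fact.out
  have hq : q.Prime := Fact.out
  set c : Cfsg.IrrCharacter G → ℂ := fun χ => if χ ∈ Bp ∩ Bq then (χ : G → ℂ) y else 0 with hc
  set η : G → ℂ := fun g => BlockBasic.blockKernel Bp g y⁻¹ with hη
  have hηsum : ∀ g, η g = ∑ χ : Cfsg.IrrCharacter G,
      if χ ∈ Bp then (χ : G → ℂ) g * (χ : G → ℂ) y else 0 := by
    intro g
    simp only [hη, BlockBasic.blockKernel, BlockBasic.conj_apply_eq_inv, inv_inv,
      BlockBasic.finsum_mem_eq_sum_ite]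
  have hvanish : ∀ g : G, q ∣ orderOf g → η g = 0 := by
    intro g hg
    by_contra hne
    have hconj : IsConj (BlockBasic.pPart (p := p) g) (BlockBasic.pPart (p := p) y⁻¹) := by
      by_contra h
      exact hne (BlockBasic.blockKernel_eq_zero hMp hBp h)
    have hgp : p ∣ orderOf g := by
      by_contra h
      rw [(BlockBasic.pPart_eq_one_iff g).2 h, isConj_one_right, BlockBasic.pPart_eq_one_iff,
        orderOf_inv] at hconj
      exact hconj hy
    have hpq' : p * q ∣ orderOf g :=
      Nat.Coprime.mul_dvd_of_dvd_of_dvd ((Nat.coprime_primes hp hq).2 hpq) hgp hg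
    exact hno _ (orderOf_pow_orderOf_div (orderOf_pos g).ne' hpq')
  have horth : ∀ φ : Cfsg.IrrCharacter G, ∑ g : G, η g * conj ((φ : G → ℂ) g) =
      (Nat.card G : ℂ) * if φ ∈ Bp then (φ : G → ℂ) y else 0 := by
    intro φ
    have h : η = ∑ χ : Cfsg.IrrCharacter G,
        (if χ ∈ Bp then (χ : G → ℂ) y else 0) • (χ : G → ℂ) := by
      funext g
      rw [hηsum, Finset.sum_apply]
      exact Finset.sum_congr rfl fun χ _ => by split_ifs <;> simp [mul_comm]
    have h1 := CharBasic.classInner_sum_irr
      (fun χ : Cfsg.IrrCharacter G => if χ ∈ Bp then (χ : G → ℂ) y else 0) φ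
    rw [← h, CharBasic.classInner_def,
      inv_mul_eq_iff_eq_mul₀ (Nat.cast_ne_zero.2 Nat.card_pos.ne')] at h1
    exact h1
  obtain ⟨r, hr, hrs⟩ := BlockBasic.exists_mul_of_vanish (p := q) c {z : ℂ | IsIntegral ℤ z}
    isIntegral_zero (fun a ha b hb => IsIntegral.add ha hb)
    (fun n a ha => IsIntegral.mul ha (map_natCast (algebraMap ℤ ℂ) n ▸ isIntegral_algebraMap))
    (fun χ => by
      simp only [hc, Set.mem_setOf_eq]
      split_ifs
      · exact BlockBasic.isIntegral_apply χ y
      · exact isIntegral_zero)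
    (fun x hx ⟨k, hk⟩ => by
      have hqx : q ∣ orderOf x := by
        rcases k with _ | k
        · exact absurd (orderOf_eq_one_iff.1 (by simpa using hk)) hx
        · exact hk ▸ dvd_pow_self q k.succ_ne_zero
      have h0 : ∑ g : G, η g * BlockBasic.blockKernel Bq x g = 0 := by
        refine Finset.sum_eq_zero fun g _ => ?_
        by_cases hg : q ∣ orderOf g
        · rw [hvanish g hg, zero_mul]
        · rw [← BlockBasic.conj_blockKernel,
            BlockBasic.blockKernel_eq_zero_of_regular_of_singular hMq hBq hg hqx, map_zero,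
            mul_zero]
      have h1 : ∑ g : G, η g * BlockBasic.blockKernel Bq x g =
          (Nat.card G : ℂ) * ∑ χ : Cfsg.IrrCharacter G, c χ * (χ : G → ℂ) x := by
        simp only [BlockBasic.blockKernel, BlockBasic.finsum_mem_eq_sum_ite, Finset.mul_sum]
        rw [Finset.sum_comm]
        refine Finset.sum_congr rfl fun φ _ => ?_
        by_cases hφ : φ ∈ Bq
        · simp only [if_pos hφ]
          rw [show ∑ g : G, η g * ((φ : G → ℂ) x * conj ((φ : G → ℂ) g)) =
            (φ : G → ℂ) x * ∑ g : G, η g * conj ((φ : G → ℂ) g) by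
              rw [Finset.mul_sum]; exact Finset.sum_congr rfl fun g _ => by ring, horth]
          simp only [hc, Set.mem_inter_iff, hφ, and_true]
          ring
        · simp [hc, hφ]
      rw [h0] at h1
      exact (mul_eq_zero.1 h1.symm).resolve_left (Nat.cast_ne_zero.2 Nat.card_pos.ne'))
  refine ⟨⟨r, hr⟩, ?_⟩
  push_cast at hrs
  rw [← hrs, BlockBasic.finsum_mem_eq_sum_ite]
  refine Finset.sum_congr rfl fun χ _ => ?_
  simp only [hc]
  split_ifs
  · rw [BlockBasic.apply_one_eq_charDegree]; ring
  · simp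

end Cfsg.Agent.S4731
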