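import Cfsg.Statements.S4732
import Cfsg.Agent.H75.BrauerFeit.Main

set_option autoImplicit false
universe u v
open Cfsg

namespace Cfsg.Agent.S4732

/-- Let p be a prime. There is a function f of two natural-number arguments such that every finite group G admitting a faithful representation of degree n over a field of characteristic p, with Sylow p-subgroups of order p^m, has a normal abelian subgroup A with [G : A] < f(m, n). -/
theorem result (p : ℕ) [Fact p.Prime] : ∃ f : ℕ → ℕ → ℕ, ∀ (G : Type u) [Group G] [Finite G] (F : Type v) [Field F] [CharP F p] (n : ℕ) (ρ : Representation F G (Fin n → F)), Function.Injective ρ → ∀ m : ℕ, (Nat.card G).factorization p = m → ∃ A : Subgroup G, A.Normal ∧ IsMulCommutative A ∧ A.index < f m n := by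
  refine ⟨fun m n => (Classical.choose (H75.BrauerFeit.exists_holds.{u, v} p m n)).factorial + 1,
    fun G _ _ F _ _ n ρ hρ m hm => ?_⟩
  haveI : CharP (AlgebraicClosure F) p :=
    charP_of_injective_algebraMap (algebraMap F (AlgebraicClosure F)).injective p
  let ρ' : Representation (AlgebraicClosure F) G (Fin n → AlgebraicClosure F) :=
    ((Matrix.toLinAlgEquiv' (R := AlgebraicClosure F) (n := Fin n)).toMonoidHom.comp
      (algebraMap F (AlgebraicClosure F)).mapMatrix.toMonoidHom).comp
        ((LinearMap.toMatrixAlgEquiv' (R := F) (n := Fin n)).toMonoidHom.comp ρ)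
  have hρ' : Function.Injective ρ' := by
    intro a b h
    refine hρ ((LinearMap.toMatrixAlgEquiv' (R := F) (n := Fin n)).injective ?_)
    have h1 := (Matrix.toLinAlgEquiv' (R := AlgebraicClosure F) (n := Fin n)).injective h
    exact Matrix.map_injective (algebraMap F (AlgebraicClosure F)).injective h1
  have hG : ¬ p ^ (m + 1) ∣ Nat.card G := fun h => by
    have := ((Fact.out : p.Prime).pow_dvd_iff_le_factorization Nat.card_pos.ne').1 h
    omega
  obtain ⟨A, hA, -, hAB⟩ := Classical.choose_spec (H75.BrauerFeit.exists_holds.{u, v} p m n) G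
    (AlgebraicClosure F) (Fin n → AlgebraicClosure F) ρ' (Module.finrank_fin_fun _) hρ' hG
  refine ⟨A.normalCore, A.normalCore_normal, ⟨⟨fun a b => Subtype.ext
    (hA a (A.normalCore_le a.2) b (A.normalCore_le b.2)).eq⟩⟩, Nat.lt_succ_of_le ?_⟩
  rw [Subgroup.normalCore_eq_ker, Subgroup.index_ker]
  calc Nat.card (MulAction.toPermHom G (G ⧸ A)).range
      ≤ Nat.card (Equiv.Perm (G ⧸ A)) := Nat.card_le_card_of_injective _ Subtype.val_injective
    _ = (Nat.card (G ⧸ A)).factorial := Nat.card_perm
    _ ≤ _ := Nat.factorial_le hAB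

end Cfsg.Agent.S4732
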