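import Cfsg.Statements.S4735
import Cfsg.Agent.Cores.PrincipalLambda
import Cfsg.Agent.Cores.PCore

set_option autoImplicit false
open Cfsg

namespace Cfsg.Agent.S4735

/-- Let p be a prime, M a maximal ideal of the algebraic integers containing p, G a finite group, H = O_p'(G) and Ḡ = G/H. For x ∈ G write λ(G, x) for the sum of |χ(x)|^2 over the irreducible characters χ in the principal p-block of G. Then λ(G, x) is a positive integer, λ(G, x) = λ(Ḡ, x̄) where x̄ is the image of x, and λ(G, x) ≤ #C_Ḡ(x̄). Moreover λ(G, 1) = [G : H] if and only if the principal block is the only p-block of Ḡ. -/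
theorem result {G : Type*} [Group G] [Finite G] (p : ℕ) [Fact p.Prime] (M : Ideal Cfsg.AlgInt) (hM : Cfsg.IsPModular p M) (x : G) : (∃ n : ℕ, 0 < n ∧ ∑ᶠ χ ∈ Cfsg.principalBlock M G, Complex.normSq ((χ : G → ℂ) x) = n) ∧ ∑ᶠ χ ∈ Cfsg.principalBlock M G, Complex.normSq ((χ : G → ℂ) x) = ∑ᶠ ψ ∈ Cfsg.principalBlock M (G ⧸ Cfsg.pPrimeCore p G), Complex.normSq ((ψ : G ⧸ Cfsg.pPrimeCore p G → ℂ) (QuotientGroup.mk x)) ∧ ∑ᶠ χ ∈ Cfsg.principalBlock M G, Complex.normSq ((χ : G → ℂ) x) ≤ (Nat.card ↥(Subgroup.centralizer ({(QuotientGroup.mk x : G ⧸ Cfsg.pPrimeCore p G)} : Set (G ⧸ Cfsg.pPrimeCore p G))) : ℝ) ∧ ((∑ᶠ χ ∈ Cfsg.principalBlock M G, Cfsg.charDegree (χ : G → ℂ) ^ 2) = (Cfsg.pPrimeCore p G).index ↔ ∀ B : Set (Cfsg.IrrCharacter (G ⧸ Cfsg.pPrimeCore p G)), Cfsg.IsPBlock M B → B = Cfsg.principalBlock M (G ⧸ Cfsg.pPrimeCore p G)) := by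
  classical
  cases nonempty_fintype G
  set H := Cfsg.pPrimeCore p G with hH
  haveI : Fintype (G ⧸ H) := Fintype.ofFinite _
  have hHn : ¬ p ∣ Nat.card H := Cores.not_dvd_card_pPrimeCore
  have hker : ((∑ᶠ χ ∈ Cfsg.principalBlock M G, Complex.normSq ((χ : G → ℂ) x) : ℝ) : ℂ) =
      BlockBasic.blockKernel (Cfsg.principalBlock M G) x x := by
    rw [BlockBasic.blockKernel, finsum_mem_eq_finite_toFinset_sum _ (Set.toFinite _),
      finsum_mem_eq_finite_toFinset_sum _ (Set.toFinite _), Complex.ofReal_sum]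
    exact Finset.sum_congr rfl fun χ _ => (Complex.mul_conj _).symm
  have hinfl := Cores.sum_principalBlock_quotient hM H hHn (fun f => Complex.normSq (f x))
  refine ⟨?_, hinfl, ?_, ?_⟩
  · obtain ⟨n, hn, hk⟩ := Cores.exists_nat_blockKernel_principal hM x
    refine ⟨n, hn, Complex.ofReal_injective ?_⟩
    rw [hker, hk, Complex.ofReal_natCast]
  · rw [hinfl, finsum_mem_eq_finite_toFinset_sum _ (Set.toFinite _)]
    have h := CharBasic.second_orthogonality_self (QuotientGroup.mk x : G ⧸ H)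
    simp only [Complex.mul_conj, ← Complex.ofReal_sum] at h
    rw [← Complex.ofReal_natCast] at h
    rw [← Complex.ofReal_injective h]
    exact Finset.sum_le_sum_of_subset_of_nonneg (Finset.subset_univ _)
      fun χ _ _ => Complex.normSq_nonneg _
  · have hdeg : ∀ f : G ⧸ H → ℂ, Cfsg.charDegree (fun g : G => f g) = Cfsg.charDegree f := fun f => by
      simp [Cfsg.charDegree]
    rw [Cores.sum_principalBlock_quotient hM H hHn (fun f => Cfsg.charDegree f ^ 2)]
    simp only [hdeg]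
    have hsq : ∑ ψ : Cfsg.IrrCharacter (G ⧸ H), Cfsg.charDegree (ψ : G ⧸ H → ℂ) ^ 2 = H.index := by
      have h := CharBasic.sum_degree_mul_apply (1 : G ⧸ H)
      simp only [if_true, BlockBasic.apply_one_eq_charDegree] at h
      rw [Subgroup.index_eq_card]
      exact_mod_cast (by simpa only [sq] using h :
        ∑ ψ : Cfsg.IrrCharacter (G ⧸ H), ((Cfsg.charDegree (ψ : G ⧸ H → ℂ) : ℂ)) ^ 2 = (Nat.card (G ⧸ H) : ℂ))
    rw [finsum_mem_eq_finite_toFinset_sum _ (Set.toFinite _), ← hsq]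
    constructor
    · intro heq B hB
      obtain ⟨ψ, hψ⟩ := BlockBasic.isPBlock_nonempty hM hB
      refine BlockBasic.isPBlock_eq_of_mem hM hB (BlockBasic.isPBlock_principalBlock M) hψ
        (by_contra fun hn => ?_)
      have hlt : ∑ χ ∈ (Set.toFinite (Cfsg.principalBlock M (G ⧸ H))).toFinset,
          Cfsg.charDegree (χ : G ⧸ H → ℂ) ^ 2 <
          ∑ χ : Cfsg.IrrCharacter (G ⧸ H), Cfsg.charDegree (χ : G ⧸ H → ℂ) ^ 2 :=
        Finset.sum_lt_sum_of_subset (Finset.subset_univ _) (Finset.mem_univ ψ)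
          (by simpa using hn) (pow_pos (BlockBasic.charDegree_pos ψ) 2) fun _ _ _ => Nat.zero_le _
      exact absurd heq hlt.ne
    · intro hall
      refine Finset.sum_congr ?_ fun _ _ => rfl
      ext ψ
      simp only [Set.Finite.mem_toFinset, Finset.mem_univ, iff_true]
      exact hall _ (BlockBasic.isPBlock_blockOf M ψ) ▸ BlockBasic.self_mem_blockOf hM ψ

end Cfsg.Agent.S4735
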