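import Cfsg.Statements.S4737
import Cfsg.Agent.H83.ClassConst
import Mathlib.GroupTheory.Perm.Cycle.Type
import Mathlib.LinearAlgebra.Matrix.Rank
import Mathlib.RingTheory.Ideal.Quotient.Operations

set_option autoImplicit false
open Cfsg
open scoped ComplexConjugate

namespace Cfsg.Agent.S4737

universe u

variable {G : Type u} [Group G] [Finite G]

/-- An element normalising no nontrivial 2-subgroup. -/
def Good (g : G) : Prop :=
  orderOf g = 3 ∧ ∀ Q : Subgroup G, IsPGroup 2 ↥Q → g ∈ Subgroup.normalizer (Q : Set G) → Q = ⊥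

omit [Finite G] in
/-- The four-group generated by two commuting involutions. -/
theorem no_klein {g x y : G} (hg : Good g) (hx : x * x = 1) (hy : y * y = 1)
    (hxy : y * x = x * y) (h1 : g * x * g⁻¹ = y) (h2 : g * y * g⁻¹ = x * y) : x = 1 := by
  have hxi : x⁻¹ = x := inv_eq_of_mul_eq_one_right hx
  have hyi : y⁻¹ = y := inv_eq_of_mul_eq_one_right hy
  have hx' : ∀ z, x * (x * z) = z := fun z => by rw [← mul_assoc, hx, one_mul]
  have hy' : ∀ z, y * (y * z) = z := fun z => by rw [← mul_assoc, hy, one_mul]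
  have hxy' : ∀ z, y * (x * z) = x * (y * z) := fun z => by rw [← mul_assoc, hxy, mul_assoc]
  let Q : Subgroup G :=
    { carrier := {z | z = 1 ∨ z = x ∨ z = y ∨ z = x * y}
      one_mem' := Or.inl rfl
      mul_mem' := by
        rintro a b (rfl | rfl | rfl | rfl) (rfl | rfl | rfl | rfl) <;>
          simp [mul_assoc, hx, hy, hxy, hx', hy', hxy']
      inv_mem' := by
        rintro a (rfl | rfl | rfl | rfl) <;> simp [hxi, hyi, hxy] }
  have hQ : ∀ z, z ∈ Q ↔ z = 1 ∨ z = x ∨ z = y ∨ z = x * y := fun z => Iff.rfl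
  have hQp : IsPGroup 2 ↥Q := by
    intro z
    refine ⟨1, Subtype.ext ?_⟩
    obtain ⟨z, rfl | rfl | rfl | rfl⟩ := z <;>
      simp [sq, mul_assoc, hx, hy, hxy', hy']
  have hmaps : ∀ z ∈ Q, g * z * g⁻¹ ∈ Q := by
    rintro z (rfl | rfl | rfl | rfl) <;> rw [hQ]
    · left; group
    · right; right; left; exact h1
    · right; right; right; exact h2
    · right; left
      rw [show g * (x * y) * g⁻¹ = (g * x * g⁻¹) * (g * y * g⁻¹) by group, h1, h2, hxy', hy,
        mul_one]
  have hpow : g ^ 3 = 1 := by rw [← hg.1]; exact pow_orderOf_eq_one g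
  have hn : g ∈ Subgroup.normalizer (Q : Set G) := by
    refine Subgroup.mem_normalizer_iff.2 fun z => ⟨hmaps z, fun hz => ?_⟩
    have := hmaps _ (hmaps _ hz)
    have hpow' : g * g * g = 1 := by rw [← hpow, pow_succ, pow_two]
    rwa [show g * (g * (g * z * g⁻¹) * g⁻¹) * g⁻¹ = g * g * g * z * (g * g * g)⁻¹ by group, hpow',
      inv_one, mul_one, one_mul] at this
  have hmem : x ∈ Q := Or.inr (Or.inl rfl)
  rw [hg.2 Q hQp hn] at hmem
  exact hmem

theorem odd_centralizer {g : G} (hg : Good g) :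
    ¬ 2 ∣ Nat.card (Subgroup.centralizer ({g} : Set G)) := by
  intro h
  obtain ⟨w, hw⟩ := exists_prime_orderOf_dvd_card' 2 h
  have hw' : orderOf (w : G) = 2 := by rw [Subgroup.orderOf_coe, hw]
  have hbot := hg.2 (Subgroup.zpowers (w : G))
    (IsPGroup.of_card (n := 1) (by rw [Nat.card_zpowers, hw', pow_one])) (by
      refine Subgroup.centralizer_le_normalizer _ ?_
      intro z hz
      obtain ⟨i, rfl⟩ := Subgroup.mem_zpowers_iff.1 hz
      exact (Commute.zpow_left (Subgroup.mem_centralizer_singleton_iff.1 w.2 :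
        (w : G) * g = g * (w : G)) i).eq)
  rw [Subgroup.zpowers_eq_bot] at hbot
  rw [hbot, orderOf_one] at hw'
  omega

open scoped Classical in
/-- Parity of the number of ways of writing `h⁻¹` as a product of two conjugates of `g`. -/
theorem parity [Fintype G] {g h : G} (hg : orderOf g = 3) (hh : Good h) :
    ((Finset.univ.filter fun a => IsConj g a ∧ IsConj g (a⁻¹ * h⁻¹)).card : ZMod 2) =
      if IsConj g h then 1 else 0 := by
  have hcube : ∀ a, IsConj g a → a ^ 3 = 1 := by
    intro a ha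
    obtain ⟨c, rfl⟩ := isConj_iff.1 ha
    rw [conj_pow, show g ^ 3 = 1 by rw [← hg]; exact pow_orderOf_eq_one g]
    simp
  have hh3 : h ^ 3 = 1 := by rw [← hh.1]; exact pow_orderOf_eq_one h
  have hhinv : h⁻¹ * h⁻¹ = h := by
    calc h⁻¹ * h⁻¹ = h⁻¹ * h⁻¹ * h ^ 3 := by rw [hh3, mul_one]
      _ = h := by group
  set S := Finset.univ.filter fun a => IsConj g a ∧ IsConj g (a⁻¹ * h⁻¹) with hS
  have hmem : ∀ a, a ∈ S ↔ IsConj g a ∧ IsConj g (a⁻¹ * h⁻¹) := fun a => by simp [hS]
  have hclosed : ∀ a ∈ S, h * a⁻¹ * h ∈ S := by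
    intro a ha
    rw [hmem] at ha ⊢
    refine ⟨ha.2.trans (isConj_iff.2 ⟨h, ?_⟩), ha.1.trans (isConj_iff.2 ⟨h⁻¹, ?_⟩)⟩
    · calc h * (a⁻¹ * h⁻¹) * h⁻¹ = h * a⁻¹ * (h⁻¹ * h⁻¹) := by group
        _ = h * a⁻¹ * h := by rw [hhinv]
    · calc h⁻¹ * a * h⁻¹⁻¹ = h⁻¹ * a * (h⁻¹ * h⁻¹) := by rw [hhinv, inv_inv]
        _ = (h * a⁻¹ * h)⁻¹ * h⁻¹ := by group
  have hfix : ∀ a ∈ S, h * a⁻¹ * h = a → a = h := by
    intro a ha he
    rw [hmem] at ha
    set x := h⁻¹ * a with hx
    have hxx : x * x = 1 := by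
      calc h⁻¹ * a * (h⁻¹ * a) = h⁻¹ * a * (h⁻¹ * (h * a⁻¹ * h)) := by rw [he]
        _ = 1 := by group
    have hxi : x⁻¹ = x := inv_eq_of_mul_eq_one_right hxx
    set y := h * x * h⁻¹ with hy
    set z := h * y * h⁻¹ with hz
    have hconj : ∀ w : G, w * w = 1 → h * w * h⁻¹ * (h * w * h⁻¹) = 1 := fun w hw => by
      calc h * w * h⁻¹ * (h * w * h⁻¹) = h * (w * w) * h⁻¹ := by group
        _ = 1 := by rw [hw, mul_one, mul_inv_cancel]
    have hyy : y * y = 1 := hconj x hxx
    have hzz : z * z = 1 := hconj y hyy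
    have hzh : h * z * h⁻¹ = x := by
      have hh3' : h * h * h = 1 := by rw [← hh3, pow_succ, pow_two]
      calc h * z * h⁻¹ = h * h * h * x * (h * h * h)⁻¹ := by rw [hz, hy]; group
        _ = x := by rw [hh3', inv_one, mul_one, one_mul]
    have ha3 : (h * x) ^ 3 = 1 := by
      rw [hx, mul_inv_cancel_left]; exact hcube a ha.1
    have hprod : y * z * x = 1 := by
      calc y * z * x = (h * x) ^ 3 := by
            rw [hz, hy, pow_succ, pow_two]
            calc h * x * h⁻¹ * (h * (h * x * h⁻¹) * h⁻¹) * x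
                = h * x * h * x * (h⁻¹ * h⁻¹) * x := by group
              _ = _ := by rw [hhinv]; group
        _ = 1 := ha3
    have hzxy : z = y * x := by
      calc z = y⁻¹ * (y * z * x) * x⁻¹ := by group
        _ = y * x := by rw [hprod, hxi, inv_eq_of_mul_eq_one_right hyy, mul_one]
    have hcomm : y * x = x * y := by
      calc y * x = z := hzxy.symm
        _ = z⁻¹ := (inv_eq_of_mul_eq_one_right hzz).symm
        _ = x * y := by rw [hzxy, mul_inv_rev, hxi, inv_eq_of_mul_eq_one_right hyy]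
    have := no_klein hh hxx hyy hcomm hy.symm (by rw [← hz, hzxy, hcomm])
    rwa [hx, inv_mul_eq_one, eq_comm] at this
  let f : G → ZMod 2 := fun a => if a = h then 0 else 1
  have hf : ∑ a ∈ S, f a = 0 := by
    refine Finset.sum_involution (fun a _ => h * a⁻¹ * h) ?_ ?_ hclosed ?_
    · intro a ha
      by_cases hah : a = h
      · subst hah
        simp [f]
      · have : h * a⁻¹ * h ≠ h := fun h' => hah (by
          calc a = h * (h * a⁻¹ * h)⁻¹ * h := by group
            _ = h := by rw [h']; group)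
        simp [f, hah, this]
        rfl
    · intro a ha hne he
      exact hne (by simp [f, hfix a ha he])
    · intro a ha
      group
  have hcard : (S.card : ZMod 2) = ∑ a ∈ S, (if a = h then (1 : ZMod 2) else 0) := by
    have hsum : (∑ a ∈ S, ((if a = h then (1 : ZMod 2) else 0) + f a)) =
        ∑ _a ∈ S, (1 : ZMod 2) := Finset.sum_congr rfl fun a _ => by
      simp only [f]; split_ifs <;> simp
    rw [Finset.sum_add_distrib, hf, add_zero, Finset.sum_const, nsmul_one] at hsum
    exact hsum.symm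
  rw [hcard, Finset.sum_ite_eq']
  refine if_congr ⟨fun h' => ((hmem h).1 h').1, fun h' => (hmem h).2 ⟨h', ?_⟩⟩ rfl rfl
  rwa [hhinv]

/-- Let G be a finite group of order divisible by 6. Then the number of irreducible characters of G whose degree has the same 2-part as the order of G (the characters of 2-defect zero, each forming a 2-block of defect zero on its own) is at least the number of conjugacy classes of elements of order 3 that normalize no nontrivial 2-subgroup of G. In particular G has a 2-block of defect zero as soon as some element of order 3 normalizes no nontrivial 2-subgroup. -/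
theorem result {G : Type*} [Group G] [Finite G] (h6 : 6 ∣ Nat.card G) : Nat.card {C : ConjClasses G // ∃ g ∈ C.carrier, orderOf g = 3 ∧ ∀ Q : Subgroup G, IsPGroup 2 ↥Q → g ∈ Subgroup.normalizer (Q : Set G) → Q = ⊥} ≤ Nat.card {χ : Cfsg.IrrCharacter G // (Cfsg.charDegree (χ : G → ℂ)).factorization 2 = (Nat.card G).factorization 2} := by
  classical
  cases nonempty_fintype G
  haveI : Finite (ConjClasses G) := Finite.of_surjective _ ConjClasses.mk_surjective
  haveI : Fintype (ConjClasses G) := Fintype.ofFinite _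
  set ι := {C : ConjClasses G // ∃ g ∈ C.carrier, orderOf g = 3 ∧
    ∀ Q : Subgroup G, IsPGroup 2 ↥Q → g ∈ Subgroup.normalizer (Q : Set G) → Q = ⊥}
  set κ := {χ : Cfsg.IrrCharacter G //
    (Cfsg.charDegree (χ : G → ℂ)).factorization 2 = (Nat.card G).factorization 2}
  choose r hr hr' using fun C : ι => C.2
  -- residue field of characteristic two
  have h2 : ¬ IsUnit (2 : Cfsg.AlgInt) := by
    rintro ⟨u, hu⟩
    have h' : (2 : ℂ) * ((u⁻¹ : Cfsg.AlgIntˣ) : Cfsg.AlgInt) = 1 := by
      have := congrArg Subtype.val u.mul_inv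
      rw [hu] at this
      exact this
    have := H83.int_dvd_of_isIntegral (n := 2) (m := 1) (u⁻¹ : Cfsg.AlgIntˣ).1.2 (by norm_num)
      (by exact_mod_cast h')
    norm_num at this
  obtain ⟨M, hM, hle⟩ := Ideal.exists_le_maximal (Ideal.span {(2 : Cfsg.AlgInt)})
    (by rwa [Ne, Ideal.span_singleton_eq_top])
  letI : Field (Cfsg.AlgInt ⧸ M) := Ideal.Quotient.field M
  let π := Ideal.Quotient.mk M
  have h2M : π 2 = 0 := Ideal.Quotient.eq_zero_iff_mem.2 (hle (Ideal.subset_span rfl))
  let val : Cfsg.IrrCharacter G → G → Cfsg.AlgInt :=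
    fun χ g => ⟨(χ : G → ℂ) g, H83.irr_isIntegral χ.2 g⟩
  choose e he using fun χ : Cfsg.IrrCharacter G => H83.charDegree_dvd_card χ.2
  let F : Cfsg.IrrCharacter G → ι → ι → Cfsg.AlgInt := fun χ i j =>
    (e χ : Cfsg.AlgInt) * val χ (r i)⁻¹ * val χ (r i)⁻¹ * val χ (r j)⁻¹
  let N : ι → ι → ℕ := fun i j => (Finset.univ.filter fun a =>
    IsConj (r i) a ∧ IsConj (r i) (a⁻¹ * (r j)⁻¹)).card
  let c : ι → ℕ := fun i => Nat.card (Subgroup.centralizer ({r i} : Set G))
  have hkey : ∀ i j, ((c i * c i * N i j : ℕ) : Cfsg.AlgInt) = ∑ χ, F χ i j := by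
    intro i j
    apply Subtype.ext
    have h := H83.card_pairs_mul_card (r i) (r i) (r j)⁻¹
    rw [Nat.card_eq_fintype_card (α := {a : G // _}), Fintype.card_subtype] at h
    have hidx : ((Subgroup.centralizer ({r i} : Set G)).index : ℂ) * (c i : ℂ) =
        (Nat.card G : ℂ) := by
      exact_mod_cast (H83.classSize_mul_centralizer (r i))
    have hG : (Nat.card G : ℂ) ≠ 0 := by simp
    have hc : (c i : ℂ) ≠ 0 := by simp [c]
    push_cast
    apply mul_left_cancel₀ hG
    calc (Nat.card G : ℂ) * ((c i : ℂ) * c i * N i j)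
        = (c i : ℂ) * c i * ((Nat.card G : ℂ) * N i j) := by ring
      _ = _ := by
        rw [show ((Nat.card G : ℂ) * N i j) = _ from h, Finset.mul_sum, Finset.mul_sum,
          Finset.mul_sum]
        refine Finset.sum_congr rfl fun χ _ => ?_
        rw [H83.irr_conj_apply χ.2]
        have hd := (H83.charDegree_eq χ.2).1
        have hne : (χ : G → ℂ) 1 ≠ 0 := CharBasic.IsIrr.one_ne_zero χ.2
        have he' : (Nat.card G : ℂ) = (χ : G → ℂ) 1 * (e χ : ℂ) := by
          rw [hd]; exact_mod_cast he χ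
        have hsub : ((Subgroup.centralizer ({r i} : Set G)).index : ℂ) * (c i : ℂ) *
            (((Subgroup.centralizer ({r i} : Set G)).index : ℂ) * (c i : ℂ)) =
            (Nat.card G : ℂ) * ((χ : G → ℂ) 1 * (e χ : ℂ)) := by rw [hidx, he']
        simp only [F, val]
        push_cast
        field_simp
        linear_combination ((χ : G → ℂ) (r j)⁻¹ * (χ : G → ℂ) (r i)⁻¹ ^ 2) * hsub
  -- reduce modulo two
  have hpar : ∀ k : ℕ, π (k : Cfsg.AlgInt) = if Odd k then 1 else 0 := by
    intro k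
    rcases Nat.even_or_odd k with ⟨l, rfl⟩ | ⟨l, rfl⟩
    · rw [if_neg (by simp), Nat.cast_add, ← two_mul, map_mul, h2M, zero_mul]
    · rw [if_pos (by simp), Nat.cast_add, Nat.cast_mul, map_add, map_mul, Nat.cast_ofNat, h2M,
        zero_mul, zero_add, Nat.cast_one, map_one]
  have hinj : ∀ i j : ι, IsConj (r i) (r j) ↔ i = j := by
    intro i j
    refine ⟨fun h => Subtype.ext ?_, fun h => h ▸ IsConj.refl _⟩
    rw [← ConjClasses.mem_carrier_iff_mk_eq.1 (hr i), ← ConjClasses.mem_carrier_iff_mk_eq.1 (hr j)]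
    exact ConjClasses.mk_eq_mk_iff_isConj.2 h
  have hLHS : ∀ i j, π ((c i * c i * N i j : ℕ) : Cfsg.AlgInt) = if i = j then 1 else 0 := by
    intro i j
    rw [hpar]
    refine if_congr ?_ rfl rfl
    have hco : Odd (c i) := by
      rw [Nat.odd_iff]
      have := odd_centralizer (hr' i)
      show Nat.card (Subgroup.centralizer ({r i} : Set G)) % 2 = 1
      omega
    simp only [Nat.odd_mul, hco, true_and]
    rw [← ZMod.natCast_eq_one_iff_odd, parity (hr' i).1 (hr' j), ← hinj]
    split_ifs with h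
    · exact ⟨fun _ => h, fun _ => rfl⟩
    · exact ⟨fun h' => absurd h' zero_ne_one, fun h' => absurd h' h⟩
  let U : Matrix ι κ (Cfsg.AlgInt ⧸ M) := fun i χ =>
    π ((e χ.1 : Cfsg.AlgInt) * val χ.1 (r i)⁻¹ * val χ.1 (r i)⁻¹)
  let V : Matrix κ ι (Cfsg.AlgInt ⧸ M) := fun χ j => π (val χ.1 (r j)⁻¹)
  have hUV : U * V = 1 := by
    ext i j
    rw [Matrix.mul_apply, Matrix.one_apply, ← hLHS, hkey, map_sum]
    rw [← Finset.sum_subtype (Finset.univ.filter fun χ : Cfsg.IrrCharacter G =>
      (Cfsg.charDegree (χ : G → ℂ)).factorization 2 = (Nat.card G).factorization 2)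
      (fun χ => by simp) (fun χ => π ((e χ : Cfsg.AlgInt) * val χ (r i)⁻¹ * val χ (r i)⁻¹) *
        π (val χ (r j)⁻¹))]
    rw [Finset.sum_filter]
    refine Finset.sum_congr rfl fun χ _ => ?_
    split_ifs with hχ
    · simp only [F, map_mul]
    · have hpos := (H83.charDegree_eq χ.2).2
      have hG0 : Nat.card G ≠ 0 := Nat.card_pos.ne'
      have he0 : e χ ≠ 0 := fun h0 => hG0 (by rw [he χ, h0, mul_zero])
      have : π (e χ : Cfsg.AlgInt) = 0 := by
        rw [hpar, if_neg]
        intro hodd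
        apply hχ
        rw [he χ, Nat.factorization_mul hpos.ne' he0, Finsupp.add_apply,
          Nat.factorization_eq_zero_of_not_dvd (n := e χ) (by
            rw [Nat.dvd_iff_mod_eq_zero, Nat.odd_iff.1 hodd]; omega), add_zero]
      simp only [F, map_mul, this, zero_mul]
  rw [Nat.card_eq_fintype_card, Nat.card_eq_fintype_card]
  have h1 : (1 : Matrix ι ι (Cfsg.AlgInt ⧸ M)).rank = Fintype.card ι := Matrix.rank_one
  calc Fintype.card ι = (U * V).rank := by rw [hUV, h1]
    _ ≤ U.rank := Matrix.rank_mul_le_left U V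
    _ ≤ Fintype.card κ := Matrix.rank_le_card_width U

end Cfsg.Agent.S4737
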