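import Cfsg.Statements.S4738
import Cfsg.Agent.H83.ClassConst
import Mathlib.GroupTheory.FixedPointFree
import Mathlib.GroupTheory.Perm.Cycle.Type
import Mathlib.GroupTheory.Sylow
import Mathlib.GroupTheory.Nilpotent

set_option autoImplicit false
open Cfsg
open scoped ComplexConjugate

namespace Cfsg.Agent.S4738

universe u

variable {G : Type u} [Group G] [Finite G] {p : ℕ} [Fact p.Prime]

theorem no_p_in_centralizer (hp2 : p ≠ 2) (h2p : ∀ g : G, orderOf g ≠ 2 * p) {s g : G}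
    (hs : orderOf s = 2) (hg : p ∣ orderOf g) (hc : Commute s g) : False := by
  have hg' : orderOf (g ^ (orderOf g / p)) = p := orderOf_pow_orderOf_div (orderOf_pos g).ne' hg
  have hco : Nat.Coprime (orderOf s) (orderOf (g ^ (orderOf g / p))) := by
    rw [hs, hg']
    exact (Nat.coprime_primes Nat.prime_two Fact.out).2 hp2.symm
  refine h2p (s * g ^ (orderOf g / p)) ?_
  rw [(hc.pow_right _).orderOf_mul_eq_mul_orderOf_of_coprime hco, hs, hg']

/-- If no character has defect zero, every involution inverts a nontrivial p-element. -/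
theorem exists_inverted (hp2 : p ≠ 2) (h2p : ∀ g : G, orderOf g ≠ 2 * p)
    (hno : ¬ ∃ χ : Cfsg.IrrCharacter G,
      (Cfsg.charDegree (χ : G → ℂ)).factorization p = (Nat.card G).factorization p)
    {s : G} (hs : orderOf s = 2) :
    ∃ y : G, y ≠ 1 ∧ (∃ k : ℕ, orderOf y = p ^ k) ∧ s * y * s⁻¹ = y⁻¹ := by
  classical
  by_contra hcon
  push Not at hcon
  have hp : p.Prime := Fact.out
  cases nonempty_fintype G
  have hG0 : Nat.card G ≠ 0 := Nat.card_pos.ne'
  -- the p-part is nontrivial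
  set a := (Nat.card G).factorization p with ha
  have ha0 : a ≠ 0 := by
    intro h0
    refine hno ⟨⟨fun _ => 1, CharBasic.isIrrCharacter_one⟩, ?_⟩
    rw [h0]
    simp [Cfsg.charDegree]
  obtain ⟨P⟩ := (inferInstance : Nonempty (Sylow p G))
  have hP : Nat.card P = p ^ a := P.card_eq_multiplicity
  set idx := (Subgroup.centralizer ({s} : Set G)).index with hidx
  set cs := Nat.card (Subgroup.centralizer ({s} : Set G)) with hcs
  have hidxcs : idx * cs = Nat.card G := Subgroup.index_mul_card _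
  have hs2 : s * s = 1 := by
    simpa [hs, sq] using pow_orderOf_eq_one s
  have hsq : ∀ u : G, IsConj s u → u * u = 1 := by
    intro u hu
    obtain ⟨x, rfl⟩ := isConj_iff.1 hu
    rw [show x * s * x⁻¹ * (x * s * x⁻¹) = x * (s * s) * x⁻¹ by group, hs2]
    group
  -- counting pairs with product in P
  have hN : ∀ y : (P : Subgroup G), Nat.card {b : G // IsConj s b ∧ IsConj s (b⁻¹ * y)} =
      if y = 1 then idx else 0 := by
    intro y
    split_ifs with hy
    · subst hy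
      rw [hidx, ← H83.classSize_eq_index, Nat.card_eq_fintype_card, Fintype.card_subtype]
      congr 1
      ext b
      simp only [OneMemClass.coe_one, mul_one, Finset.mem_filter, Finset.mem_univ, true_and]
      refine ⟨fun h => h.1, fun h => ⟨h, ?_⟩⟩
      rwa [inv_eq_of_mul_eq_one_right (hsq b h)]
    · haveI : IsEmpty {b : G // IsConj s b ∧ IsConj s (b⁻¹ * y)} := by
        refine ⟨fun b => ?_⟩
        obtain ⟨b, hb, hb'⟩ := b
        obtain ⟨x, hx⟩ := isConj_iff.1 hb
        have hbb := hsq b hb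
        have h2 := hsq _ hb'
        have hbi : b⁻¹ = b := inv_eq_of_mul_eq_one_right hbb
        rw [hbi] at h2
        have hinv : b * (y : G) * b⁻¹ = (y : G)⁻¹ := by
          rw [hbi]
          refine eq_inv_of_mul_eq_one_left ?_
          calc b * (y : G) * b * (y : G) = b * (y : G) * (b * (y : G)) := by group
            _ = 1 := h2
        obtain ⟨k, hk⟩ := IsPGroup.iff_orderOf.1 P.isPGroup' y
        refine hcon (x⁻¹ * y * x) ?_ ⟨k, ?_⟩ ?_
        · intro h1
          apply hy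
          ext
          calc (y : G) = x * (x⁻¹ * y * x) * x⁻¹ := by group
            _ = 1 := by rw [h1]; group
        · rw [← hk, ← Subgroup.orderOf_coe]
          exact MulEquiv.orderOf_eq (MulAut.conj x⁻¹) (y : G) ▸ by simp
        · rw [← hx] at hinv
          calc s * (x⁻¹ * y * x) * s⁻¹ = x⁻¹ * (x * s * x⁻¹ * y * (x * s * x⁻¹)⁻¹) * x := by group
            _ = (x⁻¹ * y * x)⁻¹ := by rw [hinv]; group
      exact Nat.card_of_isEmpty
  -- sum the class-constant formula over P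
  have hsum : (Nat.card G : ℂ) * (idx : ℂ) = (idx : ℂ) * (idx : ℂ) *
      ∑ χ : Cfsg.IrrCharacter G, conj ((χ : G → ℂ) s) * conj ((χ : G → ℂ) s) *
        (∑ y : (P : Subgroup G), (χ : G → ℂ) (y : G)) / (χ : G → ℂ) 1 := by
    have h := fun y : (P : Subgroup G) => H83.card_pairs_mul_card s s (y : G)
    have h' := Finset.sum_congr (s₁ := Finset.univ) rfl fun y _ => h y
    simp only [hN, ← Finset.mul_sum] at h'
    rw [Finset.sum_comm] at h'
    simp only [← hidx, ← Finset.sum_div, ← Finset.mul_sum, Nat.cast_ite, Nat.cast_zero] at h'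
    rw [Finset.sum_ite_eq' Finset.univ (1 : (P : Subgroup G)) fun _ => (idx : ℂ)] at h'
    simpa using h'
  -- clear denominators
  set U := Nat.card G / p ^ a with hU
  have hGU : p ^ a * U = Nat.card G := Nat.mul_div_cancel' (Nat.ordProj_dvd _ _)
  have hUp : ¬ p ∣ U := Nat.not_dvd_ordCompl hp hG0
  have hdvd : ∀ χ : Cfsg.IrrCharacter G,
      Cfsg.charDegree (χ : G → ℂ) ∣ p ^ (a - 1) * U := by
    intro χ
    have hd := H83.charDegree_dvd_card χ.2
    have hpos := (H83.charDegree_eq χ.2).2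
    have hU0 : U ≠ 0 := fun h => hUp (h ▸ dvd_zero p)
    have hlt : (Cfsg.charDegree (χ : G → ℂ)).factorization p < a :=
      lt_of_le_of_ne ((Nat.factorization_le_iff_dvd hpos.ne' hG0).2 hd p) fun h => hno ⟨χ, h⟩
    rw [← Nat.factorization_le_iff_dvd hpos.ne' (mul_ne_zero (pow_ne_zero _ hp.ne_zero) hU0)]
    intro q
    have hq := (Nat.factorization_le_iff_dvd hpos.ne' hG0).2 hd q
    rw [← hGU] at hq
    rw [Nat.factorization_mul (pow_ne_zero _ hp.ne_zero) hU0, Nat.Prime.factorization_pow hp,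
      Finsupp.add_apply] at hq ⊢
    by_cases hqp : q = p
    · subst hqp
      simp only [Finsupp.single_eq_same] at hq ⊢
      omega
    · simpa [Finsupp.single_apply, Ne.symm hqp] using hq
  choose e he using hdvd
  choose m hm using fun χ : Cfsg.IrrCharacter G =>
    H83.sum_subgroup_eq (CharBasic.IsIrr.isCharacter χ.2) (P : Subgroup G)
  set z : ℂ := ∑ χ : Cfsg.IrrCharacter G,
    conj ((χ : G → ℂ) s) * conj ((χ : G → ℂ) s) * (m χ : ℂ) * (e χ : ℂ) with hz
  have hzi : IsIntegral ℤ z := by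
    refine IsIntegral.sum _ fun χ _ => ?_
    rw [H83.irr_conj_apply χ.2]
    exact (((H83.irr_isIntegral χ.2 _).mul (H83.irr_isIntegral χ.2 _)).mul
      (map_natCast (algebraMap ℤ ℂ) (m χ) ▸ isIntegral_algebraMap)).mul
      (map_natCast (algebraMap ℤ ℂ) (e χ) ▸ isIntegral_algebraMap)
  have hkey : ((p ^ a : ℕ) : ℂ) * z = ((cs * (p ^ (a - 1) * U) : ℕ) : ℂ) := by
    have hidx0 : (idx : ℂ) ≠ 0 := by
      simp [hidx, Subgroup.index_ne_zero_of_finite]
    have h1 : ∀ χ : Cfsg.IrrCharacter G, conj ((χ : G → ℂ) s) * conj ((χ : G → ℂ) s) *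
        (∑ y : (P : Subgroup G), (χ : G → ℂ) (y : G)) / (χ : G → ℂ) 1 *
          ((p ^ (a - 1) * U : ℕ) : ℂ) =
        ((p ^ a : ℕ) : ℂ) * (conj ((χ : G → ℂ) s) * conj ((χ : G → ℂ) s) * m χ * e χ) := by
      intro χ
      have hne : (χ : G → ℂ) 1 ≠ 0 := CharBasic.IsIrr.one_ne_zero χ.2
      rw [hm χ, he χ, Nat.cast_mul, ← (H83.charDegree_eq χ.2).1,
        show Nat.card (P : Subgroup G) = p ^ a from hP]
      field_simp
    rw [hz, Finset.mul_sum, ← Finset.sum_congr rfl (fun χ _ => h1 χ), ← Finset.sum_mul,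
      Nat.cast_mul cs]
    congr 1
    apply mul_left_cancel₀ (mul_ne_zero hidx0 hidx0)
    rw [← hsum, ← hidxcs, Nat.cast_mul]
    ring
  have hd : (p ^ a : ℤ) ∣ ((cs * (p ^ (a - 1) * U) : ℕ) : ℤ) :=
    H83.int_dvd_of_isIntegral hzi (pow_ne_zero _ (by exact_mod_cast hp.ne_zero))
      (by exact_mod_cast hkey)
  have hd' : p ^ a ∣ cs * (p ^ (a - 1) * U) := by exact_mod_cast hd
  rw [show cs * (p ^ (a - 1) * U) = p ^ (a - 1) * (cs * U) by ring,
    show p ^ a = p ^ (a - 1) * p by rw [← pow_succ, Nat.sub_add_cancel (Nat.pos_of_ne_zero ha0)]]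
    at hd'
  have hpd : p ∣ cs := by
    rcases (Nat.Prime.dvd_mul hp).1 (Nat.dvd_of_mul_dvd_mul_left (pow_pos hp.pos _) hd') with h | h
    · exact h
    · exact absurd h hUp
  obtain ⟨w, hw⟩ := exists_prime_orderOf_dvd_card' p hpd
  exact no_p_in_centralizer hp2 h2p hs (g := (w : G)) (by rw [Subgroup.orderOf_coe, hw])
    ((Subgroup.mem_centralizer_singleton_iff.1 w.2).symm)

omit [Finite G] [Fact p.Prime] in
theorem conj_of_inv {s t : G} (hs : s * s = 1) (ht : t * t = 1)
    (hodd : Odd (orderOf (s * t))) : ∃ x ∈ Subgroup.zpowers (s * t), x * s * x⁻¹ = t := by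
  obtain ⟨k, hk⟩ := hodd
  refine ⟨(s * t) ^ k, Subgroup.pow_mem _ (Subgroup.mem_zpowers _) _, ?_⟩
  have hsi : s⁻¹ = s := inv_eq_of_mul_eq_one_right hs
  have hti : t⁻¹ = t := inv_eq_of_mul_eq_one_right ht
  have hinv : MulAut.conj s (s * t) = (s * t)⁻¹ := by
    simp [MulAut.conj_apply, hsi, hti, ← mul_assoc, hs]
  have hconj : s * (s * t) ^ k * s⁻¹ = ((s * t) ^ k)⁻¹ := by
    rw [← MulAut.conj_apply, map_pow, hinv, inv_pow]
  have h2 : s * ((s * t) ^ k)⁻¹ = (s * t) ^ k * s := by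
    calc s * ((s * t) ^ k)⁻¹ = s * (s * (s * t) ^ k * s⁻¹) := by rw [hconj]
      _ = (s * s) * ((s * t) ^ k * s⁻¹) := by group
      _ = (s * t) ^ k * s := by rw [hs, hsi, one_mul]
  have h3 : (s * t) ^ (k + k + 1) = 1 := by
    rw [show k + k + 1 = 2 * k + 1 by ring, ← hk]
    exact pow_orderOf_eq_one _
  rw [mul_assoc, h2, ← mul_assoc, ← pow_add]
  calc (s * t) ^ (k + k) * s = (s * t)⁻¹ * s := by
        rw [eq_inv_of_mul_eq_one_left ((pow_succ _ _).symm.trans h3)]
    _ = t := by rw [mul_inv_rev, hsi, hti, mul_assoc, hs, mul_one]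

omit [Finite G] in
/-- A group inverted elementwise by conjugation is centralised by products of two inverters. -/
theorem mul_mem_centralizer {s t : G} {R : Subgroup G} (hs : ∀ y ∈ R, s * y * s⁻¹ = y⁻¹)
    (ht : ∀ y ∈ R, t * y * t⁻¹ = y⁻¹) : s * t ∈ Subgroup.centralizer (R : Set G) := by
  intro y hy
  have h1 : s * t * y * (s * t)⁻¹ = y := by
    rw [show s * t * y * (s * t)⁻¹ = s * (t * y * t⁻¹) * s⁻¹ by group, ht y hy,
      hs _ (R.inv_mem hy), inv_inv]
  exact (mul_inv_eq_iff_eq_mul.1 h1).symm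

theorem odd_centralizer (hp2 : p ≠ 2) (h2p : ∀ g : G, orderOf g ≠ 2 * p) {y : G} (hy : y ≠ 1)
    (hyp : ∃ k : ℕ, orderOf y = p ^ k) {H : Subgroup G}
    (hH : ∀ x ∈ H, Commute x y) : Odd (Nat.card H) := by
  by_contra h
  rw [Nat.not_odd_iff_even, even_iff_two_dvd] at h
  obtain ⟨w, hw⟩ := exists_prime_orderOf_dvd_card' 2 h
  refine no_p_in_centralizer hp2 h2p (s := (w : G)) (g := y)
    (by rw [Subgroup.orderOf_coe, hw]) ?_ (hH _ w.2)
  obtain ⟨k, hk⟩ := hyp
  rcases Nat.eq_zero_or_pos k with hk0 | hk0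
  · exact absurd (orderOf_eq_one_iff.1 (by rw [hk, hk0, pow_zero])) hy
  · exact hk ▸ dvd_pow_self p hk0.ne'

/-- An involution inverting some nontrivial p-element inverts a Sylow p-subgroup. -/
theorem inverts_sylow (hp2 : p ≠ 2) (h2p : ∀ g : G, orderOf g ≠ 2 * p) {s : G}
    (hs : orderOf s = 2) (hex : ∃ y : G, y ≠ 1 ∧ (∃ k : ℕ, orderOf y = p ^ k) ∧
      s * y * s⁻¹ = y⁻¹) :
    ∃ P : Sylow p G, (P : Subgroup G) ≠ ⊥ ∧ ∀ y ∈ (P : Subgroup G), s * y * s⁻¹ = y⁻¹ := by
  classical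
  have hs2 : s * s = 1 := by simpa [hs, sq] using pow_orderOf_eq_one s
  let S : Set (Subgroup G) := {R | R ≠ ⊥ ∧ IsPGroup p R ∧ ∀ y ∈ R, s * y * s⁻¹ = y⁻¹}
  have hne : S.Nonempty := by
    obtain ⟨y, hy, ⟨k, hk⟩, hinv⟩ := hex
    refine ⟨Subgroup.zpowers y, by simpa using hy, IsPGroup.of_card (n := k)
      (by rw [Nat.card_zpowers, hk]), ?_⟩
    intro x hx
    obtain ⟨i, rfl⟩ := Subgroup.mem_zpowers_iff.1 hx
    rw [← MulAut.conj_apply, map_zpow, MulAut.conj_apply, hinv, inv_zpow]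
  obtain ⟨R, ⟨hRb, hRp, hRinv⟩, hmax⟩ := (Set.toFinite S).exists_maximal hne
  obtain ⟨⟨y₀, hy₀R⟩, hy₀'⟩ := (Subgroup.ne_bot_iff_exists_ne_one).1 hRb
  have hy₀ : y₀ ≠ 1 := fun h => hy₀' (Subtype.ext h)
  have hy₀p : ∃ k : ℕ, orderOf y₀ = p ^ k := by
    obtain ⟨k, hk⟩ := IsPGroup.iff_orderOf.1 hRp ⟨y₀, hy₀R⟩
    exact ⟨k, by rwa [← Subgroup.orderOf_coe] at hk⟩
  set C := Subgroup.centralizer (R : Set G) with hC
  have hCodd : Odd (Nat.card C) :=
    odd_centralizer hp2 h2p hy₀ hy₀p fun x hx => ((hx y₀ hy₀R)).symm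
  -- s normalises R and C
  have hsR : ∀ y ∈ R, s * y * s⁻¹ ∈ R := fun y hy => hRinv y hy ▸ R.inv_mem hy
  have hsi : s⁻¹ = s := inv_eq_of_mul_eq_one_right hs2
  have hsC : ∀ x ∈ C, s * x * s⁻¹ ∈ C := by
    intro x hx y hy
    have h := hx _ (hsR y hy)
    rw [hsi] at h ⊢
    calc y * (s * x * s) = (s * s) * y * (s * x * s) := by rw [hs2, one_mul]
      _ = s * ((s * y * s) * x) * s := by group
      _ = s * (x * (s * y * s)) * s := by rw [h]
      _ = s * x * s * y * (s * s) := by group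
      _ = s * x * s * y := by rw [hs2, mul_one]
  -- a fixed Sylow p-subgroup of C
  let φ : MulAut C :=
    { toFun := fun x => ⟨s * x * s⁻¹, hsC _ x.2⟩
      invFun := fun x => ⟨s * x * s⁻¹, hsC _ x.2⟩
      left_inv := fun x => Subtype.ext (by
        show s * (s * (x : G) * s⁻¹) * s⁻¹ = x
        rw [hsi, show s * (s * (x : G) * s) * s = (s * s) * x * (s * s) by group, hs2]; simp)
      right_inv := fun x => Subtype.ext (by
        show s * (s * (x : G) * s⁻¹) * s⁻¹ = x
        rw [hsi, show s * (s * (x : G) * s) * s = (s * s) * x * (s * s) by group, hs2]; simp)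
      map_mul' := fun x y => Subtype.ext (by
        show s * ((x : G) * y) * s⁻¹ = _
        simp [mul_assoc]) }
  have hφ2 : φ * φ = 1 := MulEquiv.ext fun x => φ.left_inv x
  obtain ⟨S₀, hS₀⟩ : ∃ S₀ : Sylow p C, φ • S₀ = S₀ := by
    haveI : Fintype (Sylow p C) := Fintype.ofFinite _
    let σ : Equiv.Perm (Sylow p C) := MulAction.toPerm φ
    have hσ : σ ^ 2 ^ 1 = 1 := by
      ext1 Q
      simp [σ, pow_two, ← mul_smul, hφ2]
    have hodd : ¬ 2 ∣ Fintype.card (Sylow p C) := by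
      obtain ⟨Q⟩ := (inferInstance : Nonempty (Sylow p C))
      intro h
      rw [← Nat.card_eq_fintype_card] at h
      exact Nat.not_even_iff_odd.2 hCodd (even_iff_two_dvd.2
        ((h.trans Q.card_dvd_index).trans (Subgroup.index_dvd_card _)))
    exact Equiv.Perm.exists_fixed_point_of_prime (p := 2) (n := 1) hodd hσ
  let S₁ : Subgroup G := (S₀ : Subgroup C).map C.subtype
  have hS₁p : IsPGroup p S₁ := S₀.isPGroup'.map _
  have hS₁s : ∀ x ∈ S₁, s * x * s⁻¹ ∈ S₁ := by
    rintro _ ⟨x, hx, rfl⟩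
    have hmem : φ x ∈ (S₀ : Subgroup C) := by
      rw [← hS₀]
      exact Subgroup.smul_mem_pointwise_smul x φ _ hx
    exact ⟨φ x, hmem, rfl⟩
  have hS₁inv : ∀ x ∈ S₁, s * x * s⁻¹ = x⁻¹ := by
    let ψ : S₁ →* S₁ :=
      { toFun := fun x => ⟨s * x * s⁻¹, hS₁s _ x.2⟩
        map_one' := Subtype.ext (by simp)
        map_mul' := fun x y => Subtype.ext (by
          show s * ((x : G) * y) * s⁻¹ = _
          simp [mul_assoc]) }
    have hfpf : MonoidHom.FixedPointFree ψ := by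
      intro x hx
      have hx' : s * (x : G) * s⁻¹ = x := congrArg Subtype.val hx
      by_contra h1
      obtain ⟨k, hk⟩ := IsPGroup.iff_orderOf.1 hS₁p x
      rcases Nat.eq_zero_or_pos k with hk0 | hk0
      · exact h1 (orderOf_eq_one_iff.1 (by rw [hk, hk0, pow_zero]))
      · exact no_p_in_centralizer hp2 h2p hs (g := (x : G))
          (by rw [Subgroup.orderOf_coe, hk]; exact dvd_pow_self p hk0.ne')
          (mul_inv_eq_iff_eq_mul.1 hx')
    have hinvol : Function.Involutive ψ := fun x => Subtype.ext (by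
        show s * (s * (x : G) * s⁻¹) * s⁻¹ = x
        rw [hsi, show s * (s * (x : G) * s) * s = (s * s) * x * (s * s) by group, hs2]; simp)
    intro x hx
    exact congrArg Subtype.val
      (congrFun (hfpf.coe_eq_inv_of_involutive hinvol) ⟨x, hx⟩)
  have hRabel : ∀ x ∈ R, ∀ y ∈ R, x * y = y * x := by
    intro x hx y hy
    have h := hRinv _ (R.mul_mem hx hy)
    rw [show s * (x * y) * s⁻¹ = (s * x * s⁻¹) * (s * y * s⁻¹) by group, hRinv x hx, hRinv y hy,
      ← mul_inv_rev] at h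
    exact (inv_injective h).symm
  have hRC : R ≤ C := fun x hx y hy => hRabel y hy x hx
  have hRS : R ≤ S₁ := by
    have hRc : R.subgroupOf C ≤ Subgroup.center C := by
      intro r hr
      rw [Subgroup.mem_center_iff]
      intro x
      exact Subtype.ext ((x.2 (r : G) hr).symm)
    haveI : (R.subgroupOf C).Normal :=
      ⟨fun r hr x => by
        rw [Subgroup.mem_center_iff.1 (hRc hr) x, mul_assoc, mul_inv_cancel, mul_one]; exact hr⟩
    have hle : R.subgroupOf C ≤ (S₀ : Subgroup C) := by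
      obtain ⟨Q, hQ⟩ := IsPGroup.exists_le_sylow
        (hRp.comap_of_injective C.subtype C.subtype_injective)
      obtain ⟨g, rfl⟩ := MulAction.exists_smul_eq C Q S₀
      intro r hr
      have := Subgroup.smul_mem_pointwise_smul r (MulAut.conj g) (Q : Subgroup C) (hQ hr)
      rwa [MulAut.smul_def, MulAut.conj_apply, Subgroup.mem_center_iff.1 (hRc hr) g, mul_assoc,
        mul_inv_cancel, mul_one] at this
    intro r hr
    exact ⟨⟨r, hRC hr⟩, hle hr, rfl⟩
  have hReq : R = S₁ := le_antisymm hRS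
    (hmax ⟨fun h => hRb (le_bot_iff.1 (h ▸ hRS)), hS₁p, hS₁inv⟩ hRS)
  -- R is a Sylow p-subgroup of G
  obtain ⟨P, hRP⟩ := hRp.exists_le_sylow
  refine ⟨P, ?_⟩
  suffices hPR : (P : Subgroup G) = R by rw [hPR]; exact ⟨hRb, hRinv⟩
  by_contra hne'
  have hlt : R < (P : Subgroup G) := lt_of_le_of_ne hRP (Ne.symm hne')
  haveI : Group.IsNilpotent (P : Subgroup G) := P.isPGroup'.isNilpotent
  have hlt' : R.subgroupOf P < ⊤ := by
    rw [lt_top_iff_ne_top, Ne, Subgroup.subgroupOf_eq_top]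
    exact fun h => hlt.not_ge h
  obtain ⟨z, hzN, hzR⟩ := SetLike.exists_of_lt
    (Group.normalizerCondition_of_isNilpotent (R.subgroupOf P) hlt')
  have hzconj : ∀ y ∈ R, (z : G)⁻¹ * y * z ∈ R ∧ (z : G) * y * (z : G)⁻¹ ∈ R := by
    intro y hy
    have h1 := (Subgroup.mem_normalizer_iff.1 (inv_mem hzN) ⟨y, hRP hy⟩).1 hy
    have h2 := (Subgroup.mem_normalizer_iff.1 hzN ⟨y, hRP hy⟩).1 hy
    exact ⟨by simpa [Subgroup.mem_subgroupOf] using h1, by simpa [Subgroup.mem_subgroupOf] using h2⟩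
  obtain ⟨kz, hkz⟩ := IsPGroup.iff_orderOf.1 P.isPGroup' z
  rw [← Subgroup.orderOf_coe] at hkz
  have hzC : (z : G) ∉ C := by
    intro h
    have hle : R ⊔ Subgroup.zpowers (z : G) ≤ C := sup_le hRC (by simpa using h)
    have hp' : IsPGroup p (R ⊔ Subgroup.zpowers (z : G) : Subgroup G) :=
      P.isPGroup'.to_le (sup_le hRP (by simpa using z.2))
    obtain ⟨Q, hQ⟩ := (hp'.comap_of_injective C.subtype C.subtype_injective).exists_le_sylow
    have hcard : Nat.card (Q : Subgroup C) = Nat.card R := by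
      rw [hReq, Q.card_eq_multiplicity, ← S₀.card_eq_multiplicity]
      exact (Subgroup.card_map_of_injective C.subtype_injective).symm
    have hle2 : (R ⊔ Subgroup.zpowers (z : G)) ≤ (Q : Subgroup C).map C.subtype := fun x hx =>
      ⟨⟨x, hle hx⟩, hQ hx, rfl⟩
    have := Subgroup.eq_of_le_of_card_ge (le_sup_left.trans hle2)
      (by rw [Subgroup.card_map_of_injective C.subtype_injective, hcard])
    exact hzR (show (z : G) ∈ R from this ▸ hle2 (Subgroup.mem_sup_right (Subgroup.mem_zpowers _)))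
  set t := (z : G) * s * (z : G)⁻¹ with ht
  have ht2 : t * t = 1 := by
    rw [ht, show (z : G) * s * (z : G)⁻¹ * ((z : G) * s * (z : G)⁻¹) =
      (z : G) * (s * s) * (z : G)⁻¹ by group, hs2]; group
  have htinv : ∀ y ∈ R, t * y * t⁻¹ = y⁻¹ := by
    intro y hy
    rw [ht, show (z : G) * s * (z : G)⁻¹ * y * ((z : G) * s * (z : G)⁻¹)⁻¹ =
      (z : G) * (s * ((z : G)⁻¹ * y * z) * s⁻¹) * (z : G)⁻¹ by group, hRinv _ (hzconj y hy).1]
    group
  have hst : s * t ∈ C := mul_mem_centralizer hRinv htinv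
  have hodd : Odd (orderOf (s * t)) := by
    rw [← Subgroup.orderOf_mk (s * t) hst]
    exact hCodd.of_dvd_nat (orderOf_dvd_natCard _)
  obtain ⟨x, hx, hxs⟩ := conj_of_inv hs2 ht2 hodd
  have hxC : x ∈ C := (Subgroup.zpowers_le.2 hst) hx
  set u := x⁻¹ * (z : G) with hu
  have hus : Commute s u := by
    have h : x * s * x⁻¹ = (z : G) * s * (z : G)⁻¹ := hxs
    show s * (x⁻¹ * z) = x⁻¹ * z * s
    calc s * (x⁻¹ * z) = x⁻¹ * (x * s * x⁻¹) * z := by group
      _ = x⁻¹ * z * s := by rw [h]; group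
  -- p divides the order of u
  let N := Subgroup.normalizer (R : Set G)
  have hzN' : (z : G) ∈ N := by
    refine Subgroup.mem_normalizer_iff.2 fun y => ⟨fun hy => (hzconj y hy).2, fun hy => ?_⟩
    have := (hzconj _ hy).1
    rwa [show (z : G)⁻¹ * ((z : G) * y * (z : G)⁻¹) * z = y by group] at this
  have hCN : C ≤ N := Subgroup.centralizer_le_normalizer _
  have hpu : p ∣ orderOf u := by
    by_contra hndvd
    apply hzC
    haveI : (C.subgroupOf N).Normal := by
      refine ⟨fun c hc n => ?_⟩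
      intro y hy
      have hy' : (n : G)⁻¹ * y * n ∈ R := by
        have := (Subgroup.mem_normalizer_iff.1 (N.inv_mem n.2) y).1 hy
        rwa [inv_inv] at this
      have h : (n : G)⁻¹ * y * n * (c : G) = (c : G) * ((n : G)⁻¹ * y * n) := hc _ hy'
      show y * ((n : G) * c * (n : G)⁻¹) = (n : G) * c * (n : G)⁻¹ * y
      calc y * ((n : G) * c * (n : G)⁻¹) = n * ((n : G)⁻¹ * y * n * c) * (n : G)⁻¹ := by group
        _ = _ := by rw [h]; group
    let q := QuotientGroup.mk' (C.subgroupOf N)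
    have hqx : q ⟨x⁻¹, N.inv_mem (hCN hxC)⟩ = 1 :=
      (QuotientGroup.eq_one_iff _).2 (C.inv_mem hxC)
    have huN : u ∈ N := N.mul_mem (N.inv_mem (hCN hxC)) hzN'
    have hequ : q ⟨u, huN⟩ = q ⟨z, hzN'⟩ := by
      rw [show (⟨u, huN⟩ : N) = ⟨x⁻¹, N.inv_mem (hCN hxC)⟩ * ⟨z, hzN'⟩ from rfl, map_mul, hqx,
        one_mul]
    have h1 : orderOf (q ⟨z, hzN'⟩) ∣ orderOf u := by
      rw [← hequ]
      exact (orderOf_map_dvd q _).trans (by rw [← Subgroup.orderOf_coe])
    have h2 : orderOf (q ⟨z, hzN'⟩) ∣ p ^ kz :=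
      (orderOf_map_dvd q _).trans (by rw [← Subgroup.orderOf_coe, hkz])
    have h3 : orderOf (q ⟨z, hzN'⟩) = 1 :=
      Nat.eq_one_of_dvd_coprimes
        (((Nat.Prime.coprime_iff_not_dvd Fact.out).2 hndvd).pow_left kz) h2 h1
    exact Subgroup.mem_subgroupOf.1
      ((QuotientGroup.eq_one_iff (N := C.subgroupOf N) (⟨z, hzN'⟩ : N)).1
        (orderOf_eq_one_iff.1 h3))
  exact no_p_in_centralizer hp2 h2p hs hpu hus

/-- Let p be an odd prime and G a finite group of even order containing no element of order 2p. Then either G has an irreducible character of p-defect zero (its degree has the same p-part as the order of G), or every Sylow p-subgroup of G is abelian and all involutions of G are conjugate. -/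
theorem result {G : Type*} [Group G] [Finite G] (p : ℕ) [Fact p.Prime] (hp2 : p ≠ 2) (hG : Even (Nat.card G)) (h2p : ∀ g : G, orderOf g ≠ 2 * p) : (∃ χ : Cfsg.IrrCharacter G, (Cfsg.charDegree (χ : G → ℂ)).factorization p = (Nat.card G).factorization p) ∨ ((∀ P : Sylow p G, IsMulCommutative ↥(P : Subgroup G)) ∧ ∀ s t : G, orderOf s = 2 → orderOf t = 2 → IsConj s t) := by
  refine or_iff_not_imp_left.2 fun hno => ?_
  have hinv : ∀ s : G, orderOf s = 2 → ∃ P : Sylow p G, (P : Subgroup G) ≠ ⊥ ∧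
      ∀ y ∈ (P : Subgroup G), s * y * s⁻¹ = y⁻¹ :=
    fun s hs => inverts_sylow hp2 h2p hs (exists_inverted hp2 h2p hno hs)
  refine ⟨fun Q => ?_, fun s t hs ht => ?_⟩
  · obtain ⟨s, hs⟩ := exists_prime_orderOf_dvd_card' (G := G) 2 (even_iff_two_dvd.1 hG)
    obtain ⟨P, -, hP⟩ := hinv s hs
    refine ⟨⟨fun a b => ?_⟩⟩
    obtain ⟨g, hg⟩ := MulAction.exists_smul_eq G P Q
    have key : ∀ a b : (P : Subgroup G), a * b = b * a := by
      rintro ⟨a, ha⟩ ⟨b, hb⟩
      have h := hP _ (mul_mem ha hb)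
      rw [show s * (a * b) * s⁻¹ = (s * a * s⁻¹) * (s * b * s⁻¹) by group, hP a ha, hP b hb,
        ← mul_inv_rev] at h
      exact Subtype.ext (inv_injective h).symm
    obtain ⟨e⟩ : Nonempty ((P : Subgroup G) ≃* (Q : Subgroup G)) :=
      ⟨(P : Subgroup G).equivSMul (MulAut.conj g) |>.trans
        (MulEquiv.subgroupCongr (by rw [← hg]; rfl))⟩
    exact e.symm.injective (by simp only [map_mul]; exact key _ _)
  · obtain ⟨P, hPb, hP⟩ := hinv s hs
    obtain ⟨Q, -, hQ⟩ := hinv t ht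
    obtain ⟨g, hg⟩ := MulAction.exists_smul_eq G P Q
    have hmem : ∀ y ∈ (P : Subgroup G), g * y * g⁻¹ ∈ (Q : Subgroup G) := by
      intro y hy
      rw [← hg]
      exact Subgroup.smul_mem_pointwise_smul y (MulAut.conj g) _ hy
    set t' := g⁻¹ * t * g with ht'
    have htinv : ∀ y ∈ (P : Subgroup G), t' * y * t'⁻¹ = y⁻¹ := by
      intro y hy
      rw [ht', show g⁻¹ * t * g * y * (g⁻¹ * t * g)⁻¹ = g⁻¹ * (t * (g * y * g⁻¹) * t⁻¹) * g by
        group, hQ _ (hmem y hy)]
      group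
    have hconj : IsConj t' t := isConj_iff.2 ⟨g, by rw [ht']; group⟩
    obtain ⟨⟨y, hy⟩, hy1⟩ := (Subgroup.ne_bot_iff_exists_ne_one).1 hPb
    obtain ⟨k, hk⟩ := IsPGroup.iff_orderOf.1 P.isPGroup' ⟨y, hy⟩
    rw [← Subgroup.orderOf_coe] at hk
    have hCodd : Odd (Nat.card (Subgroup.centralizer ((P : Subgroup G) : Set G))) :=
      odd_centralizer hp2 h2p (fun h => hy1 (Subtype.ext h)) ⟨k, hk⟩ fun x hx => (hx y hy).symm
    have hst := mul_mem_centralizer hP htinv
    have hs2 : s * s = 1 := by simpa [hs, sq] using pow_orderOf_eq_one s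
    have ht2 : t' * t' = 1 := by
      rw [ht', show g⁻¹ * t * g * (g⁻¹ * t * g) = g⁻¹ * (t * t) * g by group,
        show t * t = 1 by simpa [ht, sq] using pow_orderOf_eq_one t]
      group
    have hodd : Odd (orderOf (s * t')) := by
      rw [← Subgroup.orderOf_mk (s * t') hst]
      exact hCodd.of_dvd_nat (orderOf_dvd_natCard _)
    obtain ⟨x, -, hx⟩ := conj_of_inv hs2 ht2 hodd
    exact (isConj_iff.2 ⟨x, hx⟩).trans hconj

end Cfsg.Agent.S4738
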