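import Cfsg.Statements.S4745
import Cfsg.Agent.H65.OddPCent.Geom
import Cfsg.Agent.H65.OddPCent.TwoDefect
import Cfsg.Agent.Cores.PSolvable

set_option autoImplicit false
open Cfsg

namespace Cfsg.Agent.S4745

/-- Let p be an odd prime and G a finite group of even order divisible by p in which the centralizer of every non-identity p-element has odd order, and suppose G acts faithfully and transitively on a set with p ^ r elements, r ≥ 1. Then either G has an irreducible character of p-defect zero, or G is p-solvable and has an irreducible character of 2-defect zero. -/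
theorem result {G Ω : Type*} [Group G] [Finite G] [MulAction G Ω] [FaithfulSMul G Ω] [Fintype Ω] (htr : MulAction.IsPretransitive G Ω) (p : ℕ) [Fact p.Prime] (hp2 : p ≠ 2) (hpG : p ∣ Nat.card G) (h2G : 2 ∣ Nat.card G) (hC : ∀ g : G, g ≠ 1 → (∃ k : ℕ, orderOf g = p ^ k) → Odd (Nat.card ↥(Subgroup.centralizer ({g} : Set G)))) (r : ℕ) (hr : 1 ≤ r) (hΩ : Fintype.card Ω = p ^ r) : (∃ χ : Cfsg.IrrCharacter G, (Cfsg.charDegree (χ : G → ℂ)).factorization p = (Nat.card G).factorization p) ∨ (Cfsg.IsPSolvable p G ∧ ∃ χ : Cfsg.IrrCharacter G, (Cfsg.charDegree (χ : G → ℂ)).factorization 2 = (Nat.card G).factorization 2) := by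
  classical
  haveI := Fintype.ofFinite G
  haveI := htr
  have hp : p.Prime := Fact.out
  refine or_iff_not_imp_left.2 fun hneg => ?_
  push Not at hneg
  set a := (Nat.card G).factorization p with ha
  obtain ⟨M, hM, hG⟩ : ∃ M, ¬ p ∣ M ∧ Nat.card G = p ^ a * M :=
    ⟨Nat.card G / p ^ a, Nat.not_dvd_ordCompl hp Nat.card_pos.ne',
      (Nat.ordProj_mul_ordCompl_eq_self _ _).symm⟩
  have hno : ∀ χ : Cfsg.IrrCharacter G, ¬ p ^ a ∣ Cfsg.charDegree (χ : G → ℂ) := by
    intro χ hd
    obtain ⟨-, hpos⟩ := Cfsg.Agent.H83.charDegree_eq χ.2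
    exact hneg χ (le_antisymm ((Nat.factorization_le_iff_dvd hpos.ne' Nat.card_pos.ne').2
      (Cfsg.Agent.H83.charDegree_dvd_card χ.2) p)
      ((hp.pow_dvd_iff_le_factorization hpos.ne').1 hd))
  have hk : ∀ t : G, orderOf t = 2 →
      p ^ a ∣ (Subgroup.centralizer ({t} : Set G)).index := by
    intro t ht
    have h1 : p ^ a ∣ (Subgroup.centralizer ({t} : Set G)).index *
        Nat.card (Subgroup.centralizer ({t} : Set G)) := by
      rw [Subgroup.index_mul_card, hG]; exact dvd_mul_right _ _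
    exact ((hp.coprime_iff_not_dvd.2
      (Cfsg.Agent.H65.OddPCent.not_dvd_card_centralizer hC ht)).pow_left a).dvd_of_dvd_mul_right h1
  obtain ⟨P₀⟩ : Nonempty (Sylow p G) := inferInstance
  have D : Cfsg.Agent.H65.OddPCent.Data p G Ω :=
    { hC := hC
      two := hp2
      dvd := hpG
      invert := by
        intro t ht
        obtain ⟨c, hc, hc1, x, hx, hxc⟩ := Cfsg.Agent.H65.OddPCent.exists_pair_mem hp hG hM hno
          (Cfsg.Agent.H65.inv_eq_self ht) (hk t ht) P₀ P₀.card_eq_multiplicity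
        obtain ⟨g, rfl⟩ := isConj_iff.1 hx
        have h2 : orderOf ((g * t * g⁻¹)⁻¹ * c) = 2 :=
          (Cfsg.Agent.H65.orderOf_of_isConj hxc).symm.trans ht
        have h2' := Cfsg.Agent.H65.mul_self_eq_one h2
        obtain ⟨k, hk'⟩ := IsPGroup.iff_orderOf.1 P₀.isPGroup' ⟨c, hc⟩
        rw [Subgroup.orderOf_mk] at hk'
        have hti := Cfsg.Agent.H65.inv_eq_self ht
        refine Cfsg.Agent.H65.OddPCent.exists_inverted_sylow hC ht (x := g⁻¹ * c * g)
          (fun h => hc1 ?_) ⟨k, ?_⟩ ?_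
        · calc c = g * (g⁻¹ * c * g) * g⁻¹ := by group
            _ = 1 := by rw [h]; group
        · rw [← hk']
          simpa using Cfsg.Agent.H65.orderOf_conj' g⁻¹ c
        · rw [show (g * t * g⁻¹)⁻¹ = g * t * g⁻¹ by
            rw [show (g * t * g⁻¹)⁻¹ = g * t⁻¹ * g⁻¹ by group, hti]] at h2'
          rw [eq_inv_iff_mul_eq_one, hti]
          calc t * (g⁻¹ * c * g) * t * (g⁻¹ * c * g)
              = g⁻¹ * (g * t * g⁻¹ * c * (g * t * g⁻¹ * c)) * g := by group
            _ = 1 := by rw [h2', mul_one, inv_mul_cancel]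
      exists_invol := exists_prime_orderOf_dvd_card' 2 h2G
      degree := ⟨r, by rw [Nat.card_eq_fintype_card, hΩ]⟩
      pairs := fun t y ht =>
        Cfsg.Agent.H65.OddPCent.prime_dvd_pairs hp hG hM hno (hk t ht) y }
  obtain ⟨P, hPn, hPinv⟩ := D.exists_normal_inverted
  haveI := hPn
  have hcard : Nat.card P = p ^ a := P.card_eq_multiplicity
  refine ⟨Cfsg.Agent.Cores.isPSolvable_of_normal_of_quotient (P : Subgroup G)
    (Cfsg.Agent.Cores.isPSolvable_of_isPGroup P.isPGroup')
    (Cfsg.Agent.Cores.isPSolvable_of_coprime ?_), ?_⟩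
  · rw [← Subgroup.index_eq_card]
    exact (hp.coprime_iff_not_dvd.2 P.not_dvd_index).symm
  · refine Cfsg.Agent.H65.OddPCent.exists_two_defect_zero (P : Subgroup G) ?_ ?_
      (fun u v => Subtype.ext (D.sylow_comm P u.2 v.2).eq) hPinv
    · exact P.ne_bot_of_dvd_card hpG
    · rw [hcard]
      exact (hp.odd_of_ne_two hp2).pow

end Cfsg.Agent.S4745
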