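import Cfsg.Statements.S4756
import Cfsg.Agent.Cores.ProductRule

set_option autoImplicit false
open Cfsg

namespace Cfsg.Agent.S4756

/-- For a finite group G the following are equivalent. (1) χ(x y) = χ(x) χ(y) for every irreducible character χ and all non-identity elements x, y of prime power orders for two different primes. (2) G is a p-group for some prime p, or G is abelian, or for some prime p: G = A P with P a normal Sylow p-subgroup and A a nontrivial cyclic subgroup of order prime to p such that, with C = C_P(A) and D = [A, P], one has P = C D, C abelian, D normal in G, C ∩ D = 1, and A acts fixed-point-freely on D (no non-identity element of A centralizes a non-identity element of D). -/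
theorem result {G : Type*} [Group G] [Finite G] : (∀ (x y : G) (χ : Cfsg.IrrCharacter G), x ≠ 1 → y ≠ 1 → (∃ p q a b : ℕ, p.Prime ∧ q.Prime ∧ p ≠ q ∧ orderOf x = p ^ a ∧ orderOf y = q ^ b) → (χ : G → ℂ) (x * y) = (χ : G → ℂ) x * (χ : G → ℂ) y) ↔ ((∃ p : ℕ, p.Prime ∧ IsPGroup p G) ∨ IsMulCommutative G ∨ ∃ (p : ℕ) (_ : Fact p.Prime) (P : Sylow p G) (A : Subgroup G), (P : Subgroup G).Normal ∧ IsCyclic ↥A ∧ A ≠ ⊥ ∧ (Nat.card ↥A).Coprime p ∧ A ⊔ (P : Subgroup G) = ⊤ ∧ IsMulCommutative ↥((P : Subgroup G) ⊓ Subgroup.centralizer (A : Set G)) ∧ (⁅A, (P : Subgroup G)⁆).Normal ∧ ((P : Subgroup G) ⊓ Subgroup.centralizer (A : Set G)) ⊔ ⁅A, (P : Subgroup G)⁆ = (P : Subgroup G) ∧ ((P : Subgroup G) ⊓ Subgroup.centralizer (A : Set G)) ⊓ ⁅A, (P : Subgroup G)⁆ = ⊥ ∧ ∀ a ∈ A, a ≠ 1 → ∀ d ∈ ⁅A, (P : Subgroup G)⁆, a * d = d * a → d = 1) := by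
  classical
  haveI := Fintype.ofFinite G
  constructor
  · intro h
    by_cases hc : IsMulCommutative G
    · exact Or.inr (Or.inl hc)
    by_cases hp : ∃ p : ℕ, p.Prime ∧ IsPGroup p G
    · exact Or.inl hp
    · exact Or.inr (Or.inr (Cores.ProductRule.structure_of_rule h hc
        fun p hpp hg => hp ⟨p, hpp, hg⟩))
  · rintro (⟨p, hp, hG⟩ | hc | ⟨p, hfact, P, A, hPn, hA, -, hcop, hsup, hC, hDn, hCD, -, hfpf⟩)
    · rintro x y χ hx hy ⟨r, s, a, b, hr, hs, hrs, ha, hb⟩
      haveI := Fact.mk hp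
      have key : ∀ (z : G) (t c : ℕ), z ≠ 1 → t.Prime → orderOf z = t ^ c → t = p := by
        intro z t c hz ht hzt
        obtain ⟨k, hk⟩ := IsPGroup.iff_orderOf.1 hG z
        by_contra hne
        refine hz (orderOf_eq_one_iff.1 (Nat.eq_one_of_dvd_coprimes
          (Nat.Coprime.pow c k ((Nat.coprime_primes ht hp).2 hne)) (dvd_of_eq hzt) (dvd_of_eq hk)))
      exact absurd ((key x r a hx hr ha).trans (key y s b hy hs hb).symm) hrs
    · exact fun x y χ _ _ _ => Cores.ProductRule.linear_mul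
        (CharBasic.commutative_iff_forall_linear.1 (fun a b => hc.is_comm.comm a b) χ) x y
    · haveI := hfact
      exact Cores.ProductRule.rule_of_structure P A hPn hA hcop hsup hC hDn hCD hfpf

end Cfsg.Agent.S4756
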