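import Cfsg.Statements.S4758
import Cfsg.Agent.H2.ChiFour.Core

set_option autoImplicit false
open Cfsg

namespace Cfsg.Agent.S4758

/-- Let u ≠ 1 be an element of the finite group G such that every non-principal irreducible character χ satisfies χ(1) − χ(u) = 4 or χ(u) = 0. Then O(G), the largest normal subgroup of odd order, is abelian, and either G ⧸ O(G) ≅ PSL₂(5) and u is an involution, or G ⧸ O(G) ≅ SL₂(5) and u has order 4. -/
theorem result {G : Type*} [Group G] [Finite G] (u : G) (hu : u ≠ 1) (hyp : ∀ χ : Cfsg.IrrCharacter G, (χ : G → ℂ) ≠ (fun _ => (1 : ℂ)) → ((χ : G → ℂ) 1 - (χ : G → ℂ) u = 4 ∨ (χ : G → ℂ) u = 0)) : IsMulCommutative ↥(Cfsg.oddCore G) ∧ ((Nonempty (G ⧸ Cfsg.oddCore G ≃* Matrix.ProjectiveSpecialLinearGroup (Fin 2) (ZMod 5)) ∧ orderOf u = 2) ∨ (Nonempty (G ⧸ Cfsg.oddCore G ≃* Matrix.SpecialLinearGroup (Fin 2) (ZMod 5)) ∧ orderOf u = 4)) := by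
  have := Fintype.ofFinite G
  have h : H2.ChiFour.Hyp G u := ⟨hu, hyp⟩
  by_cases huu : u * u = 1
  · obtain ⟨hO, ⟨e⟩, h2⟩ := H2.ChiFour.core_involution h huu
    obtain ⟨j⟩ := H2.ChiFour.psl_equiv_alt
    refine ⟨⟨⟨fun a b => ?_⟩⟩, Or.inl ⟨⟨((QuotientGroup.quotientMulEquivOfEq hO).trans
      QuotientGroup.quotientBot).trans (e.trans j.symm)⟩, h2⟩⟩
    have ha : (a : G) = 1 := Subgroup.mem_bot.1 (hO ▸ a.2)
    have hb : (b : G) = 1 := Subgroup.mem_bot.1 (hO ▸ b.2)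
    exact Subtype.ext (by simp [ha, hb])
  · obtain ⟨hab, hiso, h4⟩ := H2.ChiFour.core_four h huu
    exact ⟨⟨⟨fun a b => Subtype.ext (hab a a.2 b b.2)⟩⟩, Or.inr ⟨hiso, h4⟩⟩

end Cfsg.Agent.S4758
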