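import Cfsg.Statements.S4759
import Cfsg.Agent.H79.DadeExt.Main
import Cfsg.Agent.H35.Extend
import Cfsg.Agent.PGroups.Extraspecial

set_option autoImplicit false
open Cfsg

namespace Cfsg.Agent.S4759

open scoped commutatorElement
open Subgroup Cfsg.Agent Cfsg.Agent.H79.DadeExt Cfsg.Agent.H35.Extend

/-- An extraspecial 2-group has the needed properties. -/
theorem exists_heis {P : Type*} [Group P] [Finite P] (h : Cfsg.IsExtraspecial 2 P) :
    ∃ z : P, Heis P z ∧ center P = zpowers z := by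
  haveI := Fact.mk Nat.prime_two
  obtain ⟨z, hz1⟩ := (Nat.card_eq_two_iff' (1 : center P)).1 h.2 |>.exists
  have hz1' : (z : P) ≠ 1 := fun h1 => hz1 (Subtype.ext h1)
  have hgen : center P = zpowers (z : P) := (PGroups.zpowers_eq_of_card_eq h.2 z.2 hz1').symm
  have ho : orderOf (z : P) = 2 := by rw [← Nat.card_zpowers, ← hgen, h.2]
  have hz2 : (z : P) * z = 1 := by rw [← sq, ← ho, pow_orderOf_eq_one]
  have hcases : ∀ x ∈ center P, x = 1 ∨ x = (z : P) := by
    intro x hx
    by_cases hx1 : x = 1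
    · exact Or.inl hx1
    · have := (Nat.card_eq_two_iff' (1 : center P)).1 h.2
      exact Or.inr (congrArg Subtype.val (this.unique (y₁ := ⟨x, hx⟩)
        (fun he => hx1 (congrArg Subtype.val he)) hz1))
  refine ⟨z, ⟨hz1', hz2, fun e => (mem_center_iff.1 z.2 e).symm,
    fun x hx => hcases x (mem_center_iff.2 fun y => (hx y).symm), fun e => ?_⟩, hgen⟩
  refine hcases _ ?_
  rw [← sq]
  exact PGroups.isSpecial_pow_mem_center h.1 e

end Cfsg.Agent.S4759

namespace Cfsg.Agent.S4759

open scoped commutatorElement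
open Subgroup Cfsg.Agent Cfsg.Agent.H79.DadeExt Cfsg.Agent.H35.Extend

/-- Let G be a finite group that is the semidirect product of a normal extraspecial 2-subgroup E and a complement H acting faithfully on E (no non-identity element of H centralizes E), and suppose H has a normal subgroup K of odd order with [E, K] = E. Then every faithful irreducible character θ of E (there is exactly one) extends to G: some irreducible character of G restricts to θ on E. -/
theorem result {G : Type*} [Group G] [Finite G] (E H : Subgroup G) [E.Normal] (hE : Cfsg.IsExtraspecial 2 ↥E) (hEH : E ⊓ H = ⊥) (hEHtop : E ⊔ H = ⊤) (hfaith : ∀ h ∈ H, (∀ e ∈ E, h * e = e * h) → h = 1) (K : Subgroup G) (hKH : K ≤ H) (hKn : ∀ h ∈ H, ∀ k ∈ K, h * k * h⁻¹ ∈ K) (hKodd : Odd (Nat.card ↥K)) (hEK : ⁅E, K⁆ = E) (θ : Cfsg.IrrCharacter ↥E) (hθ : ∀ e : ↥E, (θ : ↥E → ℂ) e = (θ : ↥E → ℂ) 1 → e = 1) : ∃ χ : Cfsg.IrrCharacter G, ∀ e : ↥E, (χ : G → ℂ) e = (θ : ↥E → ℂ) e := by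
  classical
  haveI := Fact.mk Nat.prime_two
  obtain ⟨z, hH, hcen⟩ := exists_heis hE
  -- the character
  obtain ⟨d, ρ, hρ, hθρ⟩ := θ.2
  let rm : ↥E →* Matrix (Fin d) (Fin d) ℂ :=
    (MonoidHomClass.toMonoidHom (LinearMap.toMatrixAlgEquiv' : Module.End ℂ (Fin d → ℂ) ≃ₐ[ℂ]
      Matrix (Fin d) (Fin d) ℂ)).comp ρ
  have htr : ∀ e, ρ.character e = (rm e).trace := fun e =>
    CharBasic.character_eq_trace_repMat ρ e
  have hne : ρ.character z ≠ ρ.character 1 := by
    intro h
    rw [hθρ] at h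
    exact hH.ne_one (hθ z h)
  have hd0 : 0 < d := by
    simpa using CharBasic.finrank_pos_of_isIrreducible ρ
  have hrz : rm z = -1 := by
    obtain ⟨c, hc⟩ := CharBasic.schur_scalar ρ (ρ z) fun e => by rw [← map_mul, hH.comm_z, map_mul]
    have hrc : rm z = c • (1 : Matrix (Fin d) (Fin d) ℂ) := by
      show LinearMap.toMatrixAlgEquiv' (ρ z) = _
      rw [hc, map_smul]
      exact congrArg (c • ·) (map_one LinearMap.toMatrixAlgEquiv')
    have h2 : (c * c) • (1 : Matrix (Fin d) (Fin d) ℂ) = rm (z * z) := by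
      rw [map_mul, hrc, Matrix.smul_mul, Matrix.mul_smul, smul_smul, mul_one]
    rw [hH.z_sq, map_one] at h2
    have h3 : c * c = 1 := by
      have := congrArg (fun A => A ⟨0, hd0⟩ ⟨0, hd0⟩) h2
      simpa using this
    rcases mul_self_eq_one_iff.1 h3 with h | h
    · exfalso
      apply hne
      rw [htr, htr, hrc, h, one_smul, map_one]
    · rw [hrc, h, neg_one_smul]
  have hoff : ∀ e, e ≠ 1 → e ≠ z → ρ.character e = 0 := fun e h1 h2 => by
    rw [htr]; exact trace_off hH rm hrz h1 h2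
  have hc1 : ρ.character 1 = d := by rw [htr, map_one, Matrix.trace_one, Fintype.card_fin]
  have hcz : ρ.character z = -(d : ℂ) := by
    rw [htr, hrz, Matrix.trace_neg, Matrix.trace_one, Fintype.card_fin]
  have hcard : 2 * d * d = Nat.card ↥E := by
    haveI := hρ
    cases nonempty_fintype ↥E
    have h := CharBasic.classInner_irr_self (CharBasic.isIrrCharacter_character ρ)
    rw [CharBasic.classInner_def, sum_eq_pair hH _ (fun e h1 h2 => by rw [hoff e h1 h2, zero_mul]),
      hc1, hcz, map_neg, Complex.conj_natCast,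
      inv_mul_eq_one₀ (Nat.cast_ne_zero.2 Nat.card_pos.ne')] at h
    have h' : ((2 * d * d : ℕ) : ℂ) = (Nat.card ↥E : ℂ) := by rw [h]; push_cast; ring
    exact_mod_cast h'
  -- the action
  let cE : G →* MulAut ↥E := MulAut.conjNormal
  let S : Sylow 2 ↥H := Classical.arbitrary _
  let T : Subgroup G := (S : Subgroup ↥H).map H.subtype
  have hT : IsPGroup 2 T := S.isPGroup'.map _
  have hTH : T ≤ H := map_subtype_le _
  have hKfix : ∀ e : ↥E, (∀ k ∈ (cE.comp K.subtype).range, k e = e) → e = 1 ∨ e = z := by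
    intro e he
    haveI hcn : (center ↥E).Normal := inferInstance
    letI : CommGroup (↥E ⧸ center ↥E) := { (inferInstance : Group (↥E ⧸ center ↥E)) with
      mul_comm := ((Subgroup.Normal.quotient_commutative_iff_commutator_le).mpr
        hE.1.2.2.le).is_comm.comm }
    cases nonempty_fintype ↥K
    let N : ↥E →* ↥E ⧸ center ↥E :=
      { toFun := fun x => ∏ k : ↥K, QuotientGroup.mk' _ (cE (k : G) x)
        map_one' := by simp
        map_mul' := fun x y => by simp only [map_mul, Finset.prod_mul_distrib] }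
    have hker : ⁅E, K⁆ ≤ N.ker.map E.subtype := by
      rw [Subgroup.commutator_le]
      intro x hx k hk
      refine ⟨⟨x, hx⟩ * cE k ⟨x, hx⟩⁻¹, ?_, ?_⟩
      · show N _ = 1
        have hN : ∀ y, N (cE k y) = N y := fun y => by
          refine Fintype.prod_equiv (Equiv.mulRight ⟨k, hk⟩) _ _ fun l => ?_
          simp only [Equiv.coe_mulRight, Subgroup.coe_mul, map_mul, MulAut.mul_apply]
        rw [map_mul N, hN, map_inv, mul_inv_cancel]
      · show x * (k * x⁻¹ * k⁻¹) = ⁅x, k⁆
        rw [commutatorElement_def]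
        group
    have hone : N e = 1 := by
      obtain ⟨y, hy, hye⟩ := hker (hEK.symm ▸ e.2 : (e : G) ∈ ⁅E, K⁆)
      rwa [Subtype.ext hye] at hy
    have hpow : N e = QuotientGroup.mk' (center ↥E) e ^ Nat.card ↥K := by
      rw [Nat.card_eq_fintype_card, ← Finset.card_univ, ← Finset.prod_const]
      exact Finset.prod_congr rfl fun k _ => congrArg _ (he _ ⟨k, rfl⟩)
    obtain ⟨j, hj⟩ := hKodd
    rw [hone, hj, pow_succ, pow_mul, ← map_pow, show QuotientGroup.mk' (center ↥E) (e ^ 2) = 1 from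
      (QuotientGroup.eq_one_iff _).2 (PGroups.isSpecial_pow_mem_center hE.1 e), one_pow, one_mul]
      at hpow
    have hec : e ∈ center ↥E := (QuotientGroup.eq_one_iff _).1 hpow.symm
    rw [hcen] at hec
    exact hH.mem_zpowers_iff.1 hec
  obtain ⟨n, rn, U, hrn, hn, hU⟩ := good_aux (Nat.card ↥E) ↥E z le_rfl hH T hT (cE.comp T.subtype)
    (cE.comp K.subtype).range (hKodd.of_dvd_nat (Subgroup.card_range_dvd _))
    (by
      rintro t _ ⟨k, rfl⟩
      refine ⟨⟨(t : G) * k * (t : G)⁻¹, hKn _ (hTH t.2) k k.2⟩, ?_⟩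
      simp only [MonoidHom.comp_apply, Subgroup.coe_subtype, map_mul, map_inv])
    hKfix
  -- the extension to a subgroup of odd index
  let j : ↥E ⋊[cE.comp T.subtype] ↥T →* G := SemidirectProduct.lift E.subtype T.subtype fun t => by
    ext x
    simp [cE]
  have hjapp : ∀ x, j x = (x.left : G) * (x.right : G) := fun x => rfl
  have hjinj : Function.Injective j := by
    rw [injective_iff_map_eq_one]
    intro x hx
    rw [hjapp] at hx
    have hxH : (x.left : G) ∈ H := by
      rw [eq_inv_of_mul_eq_one_left hx]; exact inv_mem (hTH x.right.2)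
    have h1 : (x.left : G) ∈ E ⊓ H := ⟨x.left.2, hxH⟩
    rw [hEH, Subgroup.mem_bot] at h1
    rw [h1, one_mul] at hx
    exact SemidirectProduct.ext (Subtype.ext h1) (Subtype.ext hx)
  let P : Subgroup G := j.range
  have hEP : E ≤ P := fun x hx => ⟨SemidirectProduct.inl ⟨x, hx⟩, SemidirectProduct.lift_inl ..⟩
  let ψ : ↥E ⋊[cE.comp T.subtype] ↥T →* (Matrix (Fin n) (Fin n) ℂ)ˣ :=
    SemidirectProduct.lift rn.toHomUnits U.toHomUnits fun t => by
      ext x : 2
      show rn (cE t x) = ((U.toHomUnits t * rn.toHomUnits x * (U.toHomUnits t)⁻¹ :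
        (Matrix (Fin n) (Fin n) ℂ)ˣ) : Matrix (Fin n) (Fin n) ℂ)
      rw [Units.val_mul, Units.val_mul, MonoidHom.coe_toHomUnits, MonoidHom.coe_toHomUnits, hU,
        mul_assoc]
      rw [← MonoidHom.coe_toHomUnits U t, Units.mul_inv, mul_one]
      rfl
  let σ : Representation ℂ ↥P (Fin n → ℂ) :=
    (MonoidHomClass.toMonoidHom (Matrix.toLinAlgEquiv' : Matrix (Fin n) (Fin n) ℂ ≃ₐ[ℂ]
      Module.End ℂ (Fin n → ℂ))).comp
      ((Units.coeHom _).comp (ψ.comp (MonoidHom.ofInjective hjinj).symm.toMonoidHom))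
  have hσ : ∀ a : ↥E, σ.character ⟨(a : G), hEP a.2⟩ = (rn a).trace := by
    intro a
    have he : (MonoidHom.ofInjective hjinj).symm ⟨(a : G), hEP a.2⟩ = SemidirectProduct.inl a := by
      rw [MulEquiv.symm_apply_eq]
      exact Subtype.ext (show (a : G) = j (SemidirectProduct.inl a) by simp [j])
    show LinearMap.trace ℂ _ (Matrix.toLinAlgEquiv'
      ((ψ ((MonoidHom.ofInjective hjinj).symm ⟨(a : G), hEP a.2⟩) :
        (Matrix (Fin n) (Fin n) ℂ)ˣ) : Matrix (Fin n) (Fin n) ℂ)) = _
    rw [he, SemidirectProduct.lift_inl]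
    exact Matrix.trace_toLin'_eq _
  have hdn : d = n := by nlinarith [hcard, hn]
  have hchar : ∀ a : ↥E, σ.character ⟨(a : G), hEP a.2⟩ = ρ.character a := by
    intro a
    rw [hσ]
    by_cases h1 : a = 1
    · rw [h1, map_one, hc1, Matrix.trace_one, Fintype.card_fin, hdn]
    by_cases h2 : a = z
    · rw [h2, hcz, hrn, Matrix.trace_neg, Matrix.trace_one, Fintype.card_fin, hdn]
    · rw [hoff a h1 h2, trace_off hH rn hrn h1 h2]
  haveI := hρ
  obtain ⟨σ', hσ'⟩ := exists_conj_restrict (Subgroup.inclusion hEP) ρ σ hchar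
  have hinv : ∀ (g : G) (a : ↥E), ρ.character (nconj E g a) = ρ.character a := by
    intro g a
    have he : nconj E g a = cE g a := Subtype.ext (by simp [cE])
    rw [he]
    by_cases h1 : a = 1
    · rw [h1, map_one]
    by_cases h2 : a = z
    · rw [h2, hH.map_z]
    · rw [hoff a h1 h2, hoff _ (fun h => h1 ((cE g).injective (h.trans (map_one (cE g)).symm)))
        (fun h => h2 ((cE g).injective (h.trans (hH.map_z _).symm)))]
  obtain ⟨ψ₁, hψ₁, hψ₁'⟩ := exists_power_retraction ρ hinv P σ' hEP hσ'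
  -- the determinant
  obtain ⟨nE, hnE⟩ := IsPGroup.iff_card.1 hE.1.1
  obtain ⟨i, -, hdi⟩ := (Nat.dvd_prime_pow Nat.prime_two).1
    (show d ∣ 2 ^ nE from hnE ▸ hcard ▸ dvd_mul_left d (2 * d))
  have hi : i ≠ 0 := by
    rintro rfl
    have htop : zpowers z = ⊤ := by
      apply Subgroup.eq_top_of_card_eq
      rw [hH.card_zpowers, ← hcard, hdi]; norm_num
    have h0 : center ↥E = ⊥ := by
      rw [← hE.1.2.2, _root_.commutator_def, Subgroup.commutator_eq_bot_iff_le_centralizer]
      intro x _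
      rw [mem_centralizer_iff]
      intro y _
      rcases hH.mem_zpowers_iff.1 (htop ▸ mem_top x) with rfl | rfl
      · simp
      · exact (hH.comm_z y).symm
    exact hH.ne_one ((Subgroup.eq_bot_iff_forall _).1 h0 z (hcen ▸ mem_zpowers z))
  let ψ₂ : twinGroup E ρ →* ℂˣ :=
    (powMonoidHom 2).comp ((LinearMap.det.comp (op E ρ)).toHomUnits)
  have hψ₂ : ∀ a, ψ₂ (baseHom E ρ a) = 1 := by
    intro a
    apply Units.ext
    show (LinearMap.det (op E ρ (baseHom E ρ a))) ^ 2 = 1
    rw [op_baseHom, ← map_pow, ← map_pow, sq a]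
    rcases hH.sq_cases a with h | h
    · rw [h, map_one, map_one]
    · rw [h, ← LinearMap.det_toMatrix']
      show Matrix.det (rm z) = 1
      rw [hrz, Matrix.det_neg, Matrix.det_one, Fintype.card_fin, mul_one, hdi]
      exact Even.neg_one_pow (Nat.even_pow.2 ⟨even_two, hi⟩)
  have hψ₂' : ∀ c, ψ₂ (scalarHom E ρ c) = c ^ (d * 2) := by
    intro c
    apply Units.ext
    show (LinearMap.det (op E ρ (scalarHom E ρ c))) ^ 2 = _
    rw [op_scalarHom, Units.val_pow_eq_pow_val, pow_mul, Algebra.algebraMap_eq_smul_one,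
      LinearMap.det_smul, map_one, mul_one, Module.finrank_fin_fun]
  have hindex : ¬ 2 ∣ P.index := by
    have hcomp : IsComplement' E H := isComplement'_of_disjoint_and_mul_eq_univ
      (disjoint_iff.2 hEH) (by rw [← Subgroup.normal_mul, hEHtop, Subgroup.coe_top])
    have h1 : Nat.card ↥P = Nat.card ↥E * Nat.card ↥T := by
      rw [← SemidirectProduct.card]
      exact Nat.card_congr (MonoidHom.ofInjective hjinj).toEquiv.symm
    have h2 : Nat.card ↥T = Nat.card ↥(S : Subgroup ↥H) :=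
      Subgroup.card_map_of_injective H.subtype_injective
    have h3 := P.card_mul_index
    rw [← hcomp.card_mul_card, ← (S : Subgroup ↥H).card_mul_index, h1, h2, mul_assoc] at h3
    have h4 := Nat.eq_of_mul_eq_mul_left Nat.card_pos (Nat.eq_of_mul_eq_mul_left Nat.card_pos h3)
    rw [h4]
    exact S.not_dvd_index
  have hcop : P.index.Coprime (d * 2) := by
    rw [hdi, ← pow_succ]
    exact (Nat.Coprime.pow_left _ ((Nat.prime_two.coprime_iff_not_dvd).2 hindex)).symm
  let Φ : twinGroup E ρ →* ℂˣ := (zpowGroupHom (Nat.gcdA P.index (d * 2))).comp ψ₁ *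
    (zpowGroupHom (Nat.gcdB P.index (d * 2))).comp ψ₂
  obtain ⟨χ, hχ, hχθ⟩ := exists_extension_of_retraction ρ hinv Φ
    (fun a => by simp [Φ, hψ₁, hψ₂])
    (fun c => by
      show zpowGroupHom _ (ψ₁ _) * zpowGroupHom _ (ψ₂ _) = c
      rw [hψ₁', hψ₂', zpowGroupHom_apply, zpowGroupHom_apply, ← zpow_natCast, ← zpow_natCast,
        ← zpow_mul, ← zpow_mul, ← zpow_add, ← Nat.gcd_eq_gcd_ab, hcop.gcd_eq_one, Nat.cast_one,
        zpow_one])
  exact ⟨⟨χ, hχ⟩, fun e => by rw [← hθρ]; exact hχθ e⟩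

end Cfsg.Agent.S4759
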