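import Cfsg.Statements.S4765
import Cfsg.Agent.Linear.SLDegrees
import Cfsg.Agent.CharBasic.Orth
-- import your own Cfsg.Agent.* helpers here

set_option autoImplicit false
open Cfsg Cfsg.Agent Cfsg.Agent.Linear

namespace Cfsg.Agent.S4765

/-- Let F be a finite field of characteristic p with at least 4 elements. Then PSL(2,F) has exactly one irreducible complex character of degree divisible by p, and its degree is the order of F. -/
theorem result (p : ℕ) [Fact p.Prime] (F : Type*) [Field F] [Fintype F] [CharP F p] (hF : 4 ≤ Fintype.card F) : Nat.card {χ : Cfsg.IrrCharacter (Matrix.ProjectiveSpecialLinearGroup (Fin 2) F) // p ∣ Cfsg.charDegree (χ : Matrix.ProjectiveSpecialLinearGroup (Fin 2) F → ℂ)} = 1 ∧ ∀ χ : Cfsg.IrrCharacter (Matrix.ProjectiveSpecialLinearGroup (Fin 2) F), p ∣ Cfsg.charDegree (χ : Matrix.ProjectiveSpecialLinearGroup (Fin 2) F → ℂ) → Cfsg.charDegree (χ : Matrix.ProjectiveSpecialLinearGroup (Fin 2) F → ℂ) = Fintype.card F := by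
  classical
  let G := Matrix.SpecialLinearGroup (Fin 2) F
  have hdvd : p ∣ Fintype.card F := by
    obtain ⟨n, -, hn⟩ := FiniteField.card F p
    exact hn ▸ dvd_pow_self p n.ne_zero
  have hp := (Fact.out : p.Prime)
  have key : ∀ χ : Cfsg.IrrCharacter (Matrix.ProjectiveSpecialLinearGroup (Fin 2) F),
      p ∣ Cfsg.charDegree (χ : Matrix.ProjectiveSpecialLinearGroup (Fin 2) F → ℂ) →
        Cfsg.charDegree (χ : Matrix.ProjectiveSpecialLinearGroup (Fin 2) F → ℂ) = Fintype.card F := by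
    intro χ hχ
    rcases SLDegrees.degree_cases (SLDegrees.charDegrees_PSL_subset ⟨χ, rfl⟩) with e | e | e | e | ⟨-, e | e⟩
    · exact absurd (e ▸ hχ) hp.not_dvd_one
    · exact e
    all_goals
      exfalso
      apply hp.not_dvd_one
    · exact (Nat.dvd_add_right hdvd).mp (e ▸ hχ)
    · exact (Nat.dvd_add_right hχ).mp (e.symm ▸ hdvd)
    · exact (Nat.dvd_add_right hdvd).mp (e ▸ hχ.mul_left 2)
    · exact (Nat.dvd_add_right (hχ.mul_left 2)).mp (e.symm ▸ hdvd)
  refine ⟨?_, key⟩
  rw [Nat.card_eq_one_iff_unique]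
  refine ⟨⟨fun a b => ?_⟩, ?_⟩
  · have hst : ∀ χ : {χ : Cfsg.IrrCharacter (Matrix.ProjectiveSpecialLinearGroup (Fin 2) F) //
        p ∣ Cfsg.charDegree (χ : Matrix.ProjectiveSpecialLinearGroup (Fin 2) F → ℂ)},
        (χ.1 : Matrix.ProjectiveSpecialLinearGroup (Fin 2) F → ℂ) ∘
          QuotientGroup.mk' (Subgroup.center G) = H53.stS := fun χ =>
      H53.eq_stS_of_degree (CharInduce.IsIrr.comp χ.1.2 _ (QuotientGroup.mk'_surjective _)) (by
        rw [Function.comp_apply, map_one]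
        exact (SLDegrees.one_eq_charDegree χ.1).trans (by rw [key χ.1 χ.2]))
    refine Subtype.ext (Subtype.ext (funext fun y => ?_))
    obtain ⟨z, rfl⟩ := QuotientGroup.mk'_surjective (Subgroup.center G) y
    exact congrFun ((hst a).trans (hst b).symm) z
  · obtain ⟨χ, hχ⟩ := SLDegrees.q_mem_PSL (F := F)
    exact ⟨⟨χ, hχ ▸ hdvd⟩⟩

end Cfsg.Agent.S4765
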