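import Cfsg.Statements.S4768
import Cfsg.Agent.H48.PrimeDegree


set_option autoImplicit false
open Cfsg

namespace Cfsg.Agent.S4768

open Cfsg.Agent.CharBasic Cfsg.Agent.CharInduce Cfsg.Agent.H48

universe u

theorem nat_of_charDegree {G : Type u} [Group G] [Finite G] {χ : G → ℂ} (hχ : IsIrrCharacter G χ)
    {d : ℕ} (h : χ 1 = d) : Cfsg.charDegree χ = d := by
  simp [Cfsg.charDegree, h]

/-- The number of characters of degree divisible by `p`. -/
noncomputable def num (p : ℕ) (G : Type u) [Group G] : ℕ :=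
  Nat.card {χ : IrrCharacter G // p ∣ Cfsg.charDegree (χ : G → ℂ)}

theorem prime'_of_num {p : ℕ} {G : Type u} [Group G] [Finite G] (h : num p G = 0) :
    PrimeDegree.Prime' p G := fun χ hχ d hd hp => by
  have : Nonempty {χ : IrrCharacter G // p ∣ Cfsg.charDegree (χ : G → ℂ)} :=
    ⟨⟨⟨χ, hχ⟩, by rw [show ((⟨χ, hχ⟩ : IrrCharacter G) : G → ℂ) = χ from rfl, nat_of_charDegree hχ hd]; exact hp⟩⟩
  exact (Nat.card_pos (α := {χ : IrrCharacter G // p ∣ Cfsg.charDegree (χ : G → ℂ)})).ne' h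

/-- Inflation. -/
noncomputable def infl {p : ℕ} {G : Type u} [Group G] (N : Subgroup G) [N.Normal]
    (χ : {χ : IrrCharacter (G ⧸ N) // p ∣ Cfsg.charDegree (χ : G ⧸ N → ℂ)}) :
    {χ : IrrCharacter G // p ∣ Cfsg.charDegree (χ : G → ℂ)} :=
  ⟨⟨fun g => (χ.1 : G ⧸ N → ℂ) (QuotientGroup.mk' N g),
    CharInduce.IsIrr.comp χ.1.2 _ (QuotientGroup.mk'_surjective N)⟩,
    by simpa [Cfsg.charDegree] using χ.2⟩

theorem infl_injective {p : ℕ} {G : Type u} [Group G] (N : Subgroup G) [N.Normal] :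
    Function.Injective (infl (p := p) N) := by
  intro a b h
  refine Subtype.ext (Subtype.ext (funext fun x => ?_))
  obtain ⟨g, rfl⟩ := QuotientGroup.mk'_surjective N x
  exact congrFun (congrArg (fun t : {χ : IrrCharacter G // p ∣ Cfsg.charDegree (χ : G → ℂ)} =>
    ((t.1 : IrrCharacter G) : G → ℂ)) h) g

/-- `P'' = 1` when every character above a nontrivial character of `N` has degree prime to `p`. -/
theorem derived_le {G : Type u} [Group G] [Finite G] {p : ℕ} [Fact p.Prime] (hsolv : IsPSolvable p G)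
    (N : Subgroup G) [N.Normal] (hN : IsPGroup p N) (hab : ∀ a ∈ N, ∀ b ∈ N, a * b = b * a)
    (hN1 : N ≠ ⊥)
    (hdeg : ∀ χ : G → ℂ, IsIrrCharacter G χ → (∃ n ∈ N, χ n ≠ χ 1) → ∀ d : ℕ, χ 1 = d → ¬ p ∣ d)
    (P : Sylow p G) : ∀ a ∈ (P : Subgroup G), ∀ b ∈ (P : Subgroup G), a * b * a⁻¹ * b⁻¹ ∈ N := by
  classical
  haveI := Fintype.ofFinite G
  haveI : Fintype N := Fintype.ofFinite N
  have hp : p.Prime := Fact.out
  -- a nontrivial linear character of `N`
  obtain ⟨x, hx⟩ : ∃ x : N, x ≠ 1 := by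
    haveI := (Subgroup.nontrivial_iff_ne_bot N).2 hN1
    exact exists_ne 1
  obtain ⟨θ, hθx⟩ := exists_irr_ne_of_ne_one hx
  have hNab : ∀ a b : N, a * b = b * a := fun a b => Subtype.ext (hab _ a.2 _ b.2)
  have hθ1 : (θ : N → ℂ) 1 = 1 := commutative_iff_forall_linear.1 hNab θ
  obtain ⟨lam, hlam⟩ := CharInduce.IsChar.exists_hom_of_degree_one (CharBasic.IsIrr.isCharacter θ.2) hθ1
  have hover : ∀ χ : G → ℂ, IsIrrCharacter G χ → classInner (fun n : N => χ n) (θ : N → ℂ) ≠ 0 →
      ∀ d : ℕ, χ 1 = d → ¬ p ∣ d := fun χ hχ hne => hdeg χ hχ (by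
    by_contra hcon
    push Not at hcon
    apply hne
    have hone : (fun n : N => χ n) = χ 1 • (fun _ : N => (1 : ℂ)) := by
      funext n; simp [hcon n n.2]
    rw [hone, classInner_smul_left, classInner_irr_of_ne CharBasic.isIrrCharacter_one θ.2
      (fun h => hθx (by rw [← h])), mul_zero])
  obtain ⟨χ, hχ, hne⟩ := PrimeDegree.exists_above N θ.2
  obtain ⟨d, -, hd⟩ := CharBasic.IsIrr.exists_degree hχ
  set T := inertia N (θ : N → ℂ) with hT
  obtain ⟨φ, hφ, hind, f, hf0, hres⟩ := exists_clifford_correspondent N hχ θ.2 hne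

  have hle : N ≤ T := le_inertia N (CharBasic.IsIrr.isClassFunction θ.2)
  haveI : Fintype T := Fintype.ofFinite T
  have hφ1 : φ 1 = (f : ℂ) := by
    have h := hres 1
    rw [hθ1, mul_one] at h
    exact h
  have hdeq : d = T.index * f := by
    have h := congrFun hind 1
    rw [indFun_one, hφ1, hd] at h
    exact_mod_cast h.symm
  have hpd := hover χ hχ hne d hd
  have hTidx : ¬ p ∣ T.index := fun h => hpd (hdeq ▸ h.mul_right f)
  have hpf : ¬ p ∣ f := fun h => hpd (hdeq ▸ h.mul_left _)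
  -- extend `θ` to `T`
  obtain ⟨D, hD⟩ := exists_detChar_eq_hom (CharBasic.IsIrr.isCharacter hφ)
  let ι : N →* T := Subgroup.inclusion hle
  have hDn : ∀ n : N, (D (ι n) : ℂ) = (lam n : ℂ) ^ f := fun n => by
    haveI : Finite (N.subgroupOf T) := inferInstance
    let e := Subgroup.subgroupOfEquivOfLe hle
    have h1 : detChar φ (ι n) = detChar (fun k : N.subgroupOf T =>
        ((lam.comp e.toMonoidHom) k : ℂ) * (f : ℂ)) (e.symm n) :=
      detChar_res (N.subgroupOf T) (CharBasic.IsIrr.isCharacter hφ) (fun k => by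
        have h := hres (e k)
        rw [hlam, mul_comm] at h
        exact h) (e.symm n)
    let triv : Representation ℂ (N.subgroupOf T) (Fin f → ℂ) := Representation.trivial ℂ _ _
    have htr : triv.character = fun _ => (f : ℂ) := by
      funext k; simp [triv, Representation.character]
    have htc : IsCharacter (N.subgroupOf T) (fun _ => (f : ℂ)) := ⟨f, triv, htr⟩
    rw [← congrFun hD, h1, detChar_mul_hom htc (lam.comp e.toMonoidHom) rfl, detChar_eq triv htr]
    simp [triv, detHom]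
  obtain ⟨k, hk⟩ := IsPGroup.iff_card.1 hN
  have hco : Nat.Coprime f (p ^ k) := ((hp.coprime_iff_not_dvd.2 hpf).symm).pow_right k
  obtain ⟨u, v, huv⟩ := exists_int_inverse hco
  let l : T →* ℂˣ := D ^ u
  have hl : ∀ n : N, l (ι n) = lam n := fun n => by
    have h1 : D (ι n) = lam n ^ f := Units.ext (by rw [hDn]; simp)
    have h2 : lam n ^ (p ^ k : ℕ) = 1 := by rw [← map_pow, ← hk, pow_card_eq_one', map_one]
    show (D ^ u) (ι n) = lam n
    rw [MonoidHom.zpow_apply, h1]
    calc (lam n ^ f) ^ u = lam n ^ (u * (f : ℤ) + v * ((p ^ k : ℕ) : ℤ)) := by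
          rw [zpow_add, mul_comm v, zpow_mul (lam n) _ v, zpow_natCast, h2, one_zpow, mul_one,
            mul_comm u, zpow_mul, zpow_natCast]
      _ = lam n := by rw [huv, zpow_one]
  -- all degrees of `T/N` are prime to `p`
  have hTN : PrimeDegree.Prime' p (T ⧸ N.subgroupOf T) := by
    intro ν hν m hm hpm
    set ψ : T → ℂ := fun t => (l t : ℂ) * ν (QuotientGroup.mk' (N.subgroupOf T) t) with hψ
    have hψi : IsIrrCharacter T ψ :=
      CharInduce.isIrr_hom_mul (CharInduce.IsIrr.comp hν _ (QuotientGroup.mk'_surjective _)) l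
    have hψres : resTo N hle ψ = (m : ℂ) • (θ : N → ℂ) := by
      funext n
      show (l (ι n) : ℂ) * ν (QuotientGroup.mk' (N.subgroupOf T) (ι n)) = (m : ℂ) * (θ : N → ℂ) n
      rw [hl, show QuotientGroup.mk' (N.subgroupOf T) (ι n) = 1 from
        (QuotientGroup.eq_one_iff _).2 n.2, hm, hlam, mul_comm]
    have hm0 : (m : ℂ) ≠ 0 := hm ▸ CharBasic.IsIrr.one_ne_zero hν
    have hψne : classInner (resTo N hle ψ) (θ : N → ℂ) ≠ 0 := by
      rw [hψres, classInner_smul_left, classInner_irr_self θ.2, mul_one]; exact hm0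
    obtain ⟨hi, hc, -⟩ := clifford_correspondence N θ.2 hle hψi hψne
    refine hover _ hi (by rw [hc]; exact hψne) (T.index * m) ?_ (hpm.mul_left _)
    rw [indFun_one, show ψ 1 = (m : ℂ) by rw [hψ]; simp [hm]]
    push_cast; rfl
  -- a conjugate of `P` lies in `T`
  obtain ⟨Q0⟩ := (inferInstance : Nonempty (Sylow p T))
  have hQ0 : IsPGroup p ↥((Q0 : Subgroup T).map T.subtype) := Q0.isPGroup'.map _
  have hidx0 : ¬ p ∣ ((Q0 : Subgroup T).map T.subtype).index := by
    rw [Subgroup.index_map_subtype]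
    exact fun h => (hp.dvd_mul.1 h).elim Q0.not_dvd_index hTidx
  obtain ⟨g, hg⟩ := MulAction.exists_smul_eq G P (hQ0.toSylow hidx0)
  have hcomm := (PrimeDegree.sylow_normal_comm _ _ p rfl
    (Cores.isPSolvable_quotient (Cores.isPSolvable_subgroup hsolv T) _) hTN
    (Q0.mapSurjective (QuotientGroup.mk'_surjective (N.subgroupOf T)))).2
  intro a ha b hb
  have hmem : ∀ y ∈ (P : Subgroup G), ∃ t ∈ (Q0 : Subgroup T), (t : G) = g * y * g⁻¹ := fun y hy => by
    have h1 : g * y * g⁻¹ ∈ ((g • P : Sylow p G) : Subgroup G) := by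
      rw [Sylow.coe_subgroup_smul]
      exact Subgroup.smul_mem_pointwise_smul y (MulAut.conj g) _ hy
    rw [hg] at h1
    obtain ⟨t, ht, h2⟩ := Subgroup.mem_map.1 h1
    exact ⟨t, ht, h2⟩
  obtain ⟨s, hs, hs'⟩ := hmem a ha
  obtain ⟨t, ht, ht'⟩ := hmem b hb
  have h3 := hcomm (QuotientGroup.mk' (N.subgroupOf T) s) ⟨s, hs, rfl⟩
    (QuotientGroup.mk' (N.subgroupOf T) t) ⟨t, ht, rfl⟩
  have h4 : s * t * s⁻¹ * t⁻¹ ∈ N.subgroupOf T := by
    refine (QuotientGroup.eq_one_iff _).1 ?_
    show QuotientGroup.mk' (N.subgroupOf T) (s * t * s⁻¹ * t⁻¹) = 1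
    rw [map_mul, map_mul, map_mul, map_inv, map_inv, h3]; group
  rw [Subgroup.mem_subgroupOf] at h4
  push_cast at h4
  rw [hs', ht'] at h4
  have h5 := ‹N.Normal›.conj_mem _ h4 g⁻¹
  simpa [mul_assoc] using h5

theorem derived_one {G : Type u} [Group G] (P : Subgroup G)
    (h : ∀ a ∈ P, ∀ b ∈ P, a * b = b * a) : derivedSeries P 1 = ⊥ := by
  rw [derivedSeries_one, commutator_def, eq_bot_iff, Subgroup.commutator_le]
  intro a _ b _
  rw [Subgroup.mem_bot, commutatorElement_eq_one_iff_mul_comm]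
  exact Subtype.ext (h _ a.2 _ b.2)

/-- One more step of the derived series. -/
theorem derived_succ_of_le {A : Type u} [Group A] (N : Subgroup A)
    (hab : ∀ a ∈ N, ∀ b ∈ N, a * b = b * a) {k : ℕ} (h : derivedSeries A k ≤ N) :
    derivedSeries A (k + 1) = ⊥ := by
  rw [derivedSeries_succ, eq_bot_iff, Subgroup.commutator_le]
  intro a ha b hb
  rw [Subgroup.mem_bot, commutatorElement_eq_one_iff_mul_comm]
  exact hab a (h ha) b (h hb)

theorem main : ∀ (c : ℕ) (G : Type u) [Group G] [Finite G] (p : ℕ) [Fact p.Prime],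
    Nat.card G = c → IsPSolvable p G → ∀ P : Sylow p G,
      derivedSeries ↥(P : Subgroup G) (num p G + 1) = ⊥ := by
  intro c
  induction c using Nat.strong_induction_on with
  | _ c ih =>
  intro G _ _ p _ hc hsolv P
  classical
  rcases Nat.eq_zero_or_pos (num p G) with h0 | hpos
  · rw [h0]
    exact derived_one _ (PrimeDegree.sylow_normal_comm _ G p rfl hsolv (prime'_of_num h0) P).2
  haveI : Nontrivial G := by
    by_contra h
    rw [not_nontrivial_iff_subsingleton] at h
    obtain ⟨⟨χ, hχ⟩⟩ := (Nat.card_pos_iff.1 hpos).1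
    obtain ⟨d, hd0, hd, hdvd, -⟩ := CharBasic.IsIrr.degree_dvd χ.2
    rw [nat_of_charDegree χ.2 hd] at hχ
    rw [Nat.card_unique, Nat.dvd_one] at hdvd
    exact (Fact.out : p.Prime).not_dvd_one (hdvd ▸ hχ)
  have hquot : ∀ (N : Subgroup G) [N.Normal], N ≠ ⊥ →
      derivedSeries ↥(P : Subgroup G) (num p (G ⧸ N) + 1) ≤ N.subgroupOf (P : Subgroup G) := fun N _ hN1 => by
    have hlt : Nat.card (G ⧸ N) < c := by
      rw [← hc, ← Subgroup.index_eq_card, ← N.card_mul_index]
      exact lt_mul_left (Nat.pos_of_ne_zero N.index_ne_zero_of_finite)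
        (N.one_lt_card_iff_ne_bot.2 hN1)
    set Q := P.mapSurjective (QuotientGroup.mk'_surjective N) with hQ
    have h1 := ih _ hlt (G ⧸ N) p rfl (Cores.isPSolvable_quotient hsolv N) Q
    let f : ↥(P : Subgroup G) →* ↥(Q : Subgroup (G ⧸ N)) :=
      ((QuotientGroup.mk' N).comp (P : Subgroup G).subtype).codRestrict _ fun y => by
        rw [hQ, Sylow.coe_mapSurjective]; exact ⟨y, y.2, rfl⟩
    have h2 := map_derivedSeries_le_derivedSeries f (num p (G ⧸ N) + 1)
    rw [h1] at h2
    intro y hy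
    have h3 : f y = 1 := Subgroup.mem_bot.1 (h2 ⟨y, hy, rfl⟩)
    exact Subgroup.mem_subgroupOf.2 ((QuotientGroup.eq_one_iff _).1 (congrArg Subtype.val h3))
  have hle : ∀ (N : Subgroup G) [N.Normal], num p (G ⧸ N) ≤ num p G := fun N _ =>
    Nat.card_le_card_of_injective _ (infl_injective N)
  by_cases hK : pPrimeCore p G = ⊥
  · set O := pCore p G with hO
    have hO1 : O ≠ ⊥ := fun h => by
      have h1 := Cores.centralizer_pCore_le hsolv hK
      rw [← hO, h, Subgroup.coe_bot] at h1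
      have h2 : (⊤ : Subgroup G) ≤ ⊥ := fun g _ => h1 (Subgroup.mem_centralizer_iff.2 (by simp))
      exact top_ne_bot (le_bot_iff.1 h2)
    haveI hOn : O.Normal := inferInstance
    haveI : Nontrivial O := (Subgroup.nontrivial_iff_ne_bot O).2 hO1
    have hOp : IsPGroup p O := Cores.pCore_isPGroup
    set N := (Subgroup.center O).map O.subtype with hN
    haveI hNn : N.Normal := ConjAct.normal_of_characteristic_of_normal
    have hN1 : N ≠ ⊥ := by
      rw [hN, Ne, Subgroup.map_eq_bot_iff_of_injective _ O.subtype_injective]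
      exact (Subgroup.nontrivial_iff_ne_bot _).1 hOp.center_nontrivial
    have hNp : IsPGroup p N := (hOp.to_subgroup _).map _
    have hNab : ∀ a ∈ N, ∀ b ∈ N, a * b = b * a := by
      rintro _ ⟨a, ha, rfl⟩ _ ⟨b, -, rfl⟩
      exact (congrArg Subtype.val (Subgroup.mem_center_iff.1 ha b)).symm
    have hNP : ∀ a ∈ N.subgroupOf (P : Subgroup G), ∀ b ∈ N.subgroupOf (P : Subgroup G), a * b = b * a :=
      fun a ha b hb => Subtype.ext (hNab _ ha _ hb)
    by_cases hbig : ∃ χ : {χ : IrrCharacter G // p ∣ Cfsg.charDegree (χ : G → ℂ)},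
        ∀ ψ, infl N ψ ≠ χ
    · obtain ⟨χ, hχ⟩ := hbig
      have hlt : num p (G ⧸ N) < num p G := by
        haveI : Fintype {χ : IrrCharacter G // p ∣ Cfsg.charDegree (χ : G → ℂ)} := Fintype.ofFinite _
        haveI : Fintype {χ : IrrCharacter (G ⧸ N) // p ∣ Cfsg.charDegree (χ : G ⧸ N → ℂ)} :=
          Fintype.ofFinite _
        rw [num, num, Nat.card_eq_fintype_card, Nat.card_eq_fintype_card]
        exact Fintype.card_lt_of_injective_of_notMem _ (infl_injective N) (b := χ) (by
          rintro ⟨ψ, h⟩; exact hχ ψ h)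
      exact le_bot_iff.1 ((derivedSeries_antitone _ (by omega : num p (G ⧸ N) + 1 + 1 ≤ num p G + 1)).trans
        (derived_succ_of_le _ hNP (hquot N hN1)).le)
    · push Not at hbig
      have hdeg : ∀ χ : G → ℂ, IsIrrCharacter G χ → (∃ n ∈ N, χ n ≠ χ 1) → ∀ d : ℕ, χ 1 = d → ¬ p ∣ d := by
        rintro χ hχ ⟨n, hn, hne⟩ d hd hp'
        obtain ⟨ψ, hψ⟩ := hbig ⟨⟨χ, hχ⟩, by
          rw [show ((⟨χ, hχ⟩ : IrrCharacter G) : G → ℂ) = χ from rfl, nat_of_charDegree hχ hd]; exact hp'⟩
        apply hne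
        have hval : ∀ g, χ g = (ψ.1 : G ⧸ N → ℂ) (QuotientGroup.mk' N g) := fun g =>
          (congrFun (congrArg (fun t : {χ : IrrCharacter G // p ∣ Cfsg.charDegree (χ : G → ℂ)} =>
            ((t.1 : IrrCharacter G) : G → ℂ)) hψ) g).symm
        rw [hval, hval, map_one, show QuotientGroup.mk' N n = 1 from (QuotientGroup.eq_one_iff _).2 hn]
      have h1 : derivedSeries ↥(P : Subgroup G) 1 ≤ N.subgroupOf (P : Subgroup G) := by
        rw [derivedSeries_one, commutator_def, Subgroup.commutator_le]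
        intro a _ b _
        rw [Subgroup.mem_subgroupOf, commutatorElement_def]
        push_cast
        exact derived_le hsolv N hNp hNab hN1 hdeg P a a.2 b b.2
      exact le_bot_iff.1 ((derivedSeries_antitone _ (by omega : 2 ≤ num p G + 1)).trans
        (derived_succ_of_le _ hNP h1).le)
  · have h1 := hquot (pPrimeCore p G) hK
    have hdis : (pPrimeCore p G).subgroupOf (P : Subgroup G) = ⊥ := by
      rw [Subgroup.subgroupOf_eq_bot]
      exact (disjoint_iff.2 (Cores.disjoint_of_isPGroup_of_coprime P.isPGroup' Cores.coprime_card_pPrimeCore)).symm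
    rw [hdis] at h1
    exact le_bot_iff.1 ((derivedSeries_antitone _ (Nat.add_le_add_right (hle _) 1)).trans h1)

/-- Let p be a prime, G a finite p-solvable group and P a Sylow p-subgroup of G. If n is the number of irreducible complex characters of G whose degree is divisible by p, then the (n+1)-st term of the derived series of P is trivial. (The p-solvable case has a direct inductive proof.) -/
theorem result {G : Type*} [Group G] [Finite G] (p : ℕ) [Fact p.Prime] (hG : Cfsg.IsPSolvable p G) (P : Sylow p G) : derivedSeries ↥(P : Subgroup G) (Nat.card {χ : Cfsg.IrrCharacter G // p ∣ Cfsg.charDegree (χ : G → ℂ)} + 1) = ⊥ := by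
  exact main _ G p rfl hG P

end Cfsg.Agent.S4768
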