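import Cfsg.Statements.S4776
import Cfsg.Agent.H2.RelGraph.Components

set_option autoImplicit false
open Cfsg

namespace Cfsg.Agent.S4776

/-- Let N be a normal subgroup of the finite group G that is not perfect and is contained in the derived subgroup of G. Consider the common-divisor graph on the relative degree set cd(G|N) (the degrees of the irreducible complex characters of G whose kernel does not contain N; two distinct degrees adjacent when they have a common divisor greater than one). Then this graph has at most two connected components; and if a, b ∈ cd(G|N) lie in different components, then one of a, b is coprime to the index m of the derived subgroup of N in N while the other is divisible by every prime divisor of m. -/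
theorem result {G : Type*} [Group G] [Finite G] (N : Subgroup G) [N.Normal] (hN : ⁅N, N⁆ < N) (hNG : N ≤ commutator G) : Nat.card (Cfsg.commonDivisorGraph.induce (Cfsg.relCharDegrees N)).ConnectedComponent ≤ 2 ∧ ∀ (a b : ℕ) (ha : a ∈ Cfsg.relCharDegrees N) (hb : b ∈ Cfsg.relCharDegrees N), ¬ (Cfsg.commonDivisorGraph.induce (Cfsg.relCharDegrees N)).Reachable ⟨a, ha⟩ ⟨b, hb⟩ → (Nat.Coprime a (⁅N, N⁆.relIndex N) ∧ ∀ r : ℕ, r.Prime → r ∣ ⁅N, N⁆.relIndex N → r ∣ b) ∨ (Nat.Coprime b (⁅N, N⁆.relIndex N) ∧ ∀ r : ℕ, r.Prime → r ∣ ⁅N, N⁆.relIndex N → r ∣ a) := by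
  classical
  cases nonempty_fintype G
  have : Fintype N := Fintype.ofFinite N
  set m := ⁅N, N⁆.relIndex N with hm
  have hm1 : m ≠ 1 := fun e => hN.not_ge (Subgroup.relIndex_eq_one.1 e)
  have hconn : ∀ (a b : ℕ) (ha : a ∈ Cfsg.relCharDegrees N) (hb : b ∈ Cfsg.relCharDegrees N),
      H2.RelGraph.Conn N a b →
        (Cfsg.commonDivisorGraph.induce (Cfsg.relCharDegrees N)).Reachable ⟨a, ha⟩ ⟨b, hb⟩ :=
    fun a b ha hb h => h.2.2
  constructor
  · obtain ⟨s, hs, hsm⟩ := Nat.exists_prime_and_dvd hm1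
    have := Fact.mk hs
    have hkey : ∀ x y : Cfsg.relCharDegrees N, (s ∣ (x : ℕ) ↔ s ∣ (y : ℕ)) →
        (Cfsg.commonDivisorGraph.induce (Cfsg.relCharDegrees N)).connectedComponentMk x =
          (Cfsg.commonDivisorGraph.induce (Cfsg.relCharDegrees N)).connectedComponentMk y :=
      fun x y h => SimpleGraph.ConnectedComponent.eq.2 (hconn _ _ x.2 y.2
        ((H2.RelGraph.conn_prime N hNG hsm x.2 y.2).1 h))
    let f : (Cfsg.commonDivisorGraph.induce (Cfsg.relCharDegrees N)).ConnectedComponent → Prop :=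
      fun C => s ∣ ((Quot.out C : Cfsg.relCharDegrees N) : ℕ)
    have hf : Function.Injective f := fun C D h => by
      rw [← Quot.out_eq C, ← Quot.out_eq D]
      exact hkey _ _ (iff_of_eq h)
    calc Nat.card _ ≤ Nat.card Prop := Nat.card_le_card_of_injective f hf
      _ = 2 := by simp
  · intro a b ha hb hnot
    have hsplit : ∀ r : ℕ, r.Prime → r ∣ m →
        ((r ∣ a → ¬ r ∣ b) ∧ (¬ r ∣ a → r ∣ b)) ∧ H2.RelGraph.NoInv N r := fun r hr hrm => by
      have := Fact.mk hr
      obtain ⟨h1, h2⟩ := H2.RelGraph.conn_prime N hNG hrm ha hb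
      refine ⟨⟨fun hra hrb => ?_, fun hra => by_contra fun hrb => ?_⟩,
        by_contra fun h => hnot (hconn a b ha hb (h2 h))⟩
      · exact hnot (hconn a b ha hb (h1 ⟨fun _ => hrb, fun _ => hra⟩))
      · exact hnot (hconn a b ha hb (h1 ⟨fun h' => absurd h' hra, fun h' => absurd h' hrb⟩))
    by_cases hex : ∃ r, r.Prime ∧ r ∣ m ∧ r ∣ a
    · obtain ⟨s, hs, hsm, hsa⟩ := hex
      have hall : ∀ r, r.Prime → r ∣ m → r ∣ a := fun t ht htm => by
        by_contra hta
        have hsb : ¬ s ∣ b := (hsplit s hs hsm).1.1 hsa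
        have := Fact.mk hs
        have := Fact.mk ht
        exact hnot (hconn a b ha hb (H2.RelGraph.conn_two_primes N hNG hsm htm
          (hsplit s hs hsm).2 (hsplit t ht htm).2 (fun e => hta (e ▸ hsa)) ha hb hta hsb))
      exact Or.inr ⟨Nat.coprime_of_dvd fun r hr hrb hrm =>
        (hsplit r hr hrm).1.1 (hall r hr hrm) hrb, hall⟩
    · push Not at hex
      exact Or.inl ⟨Nat.coprime_of_dvd fun r hr hra hrm => hex r hr hrm hra,
        fun r hr hrm => (hsplit r hr hrm).1.2 (hex r hr hrm)⟩

end Cfsg.Agent.S4776
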