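import Cfsg.Statements.S4779
import Cfsg.Agent.H61.RelGraphTwo

set_option autoImplicit false
open Cfsg

namespace Cfsg.Agent.S4779

/-- Let N be a solvable normal subgroup of the finite group G contained in the derived subgroup of G, and consider the common-divisor graph on the relative degree set cd(G|N) (degrees of irreducible complex characters of G whose kernel does not contain N, two distinct degrees adjacent when not coprime). If this graph has two vertices that are not joined by any path, then there is a vertex a₀ such that any two distinct vertices in the component of a₀ are adjacent, and any two distinct vertices outside that component are adjacent or have a common neighbour (one component is complete, the other has diameter at most 2). -/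
theorem result {G : Type*} [Group G] [Finite G] (N : Subgroup G) [N.Normal] [Group.IsSolvable N] (hNG : N ≤ commutator G) (hdisc : ¬ (Cfsg.commonDivisorGraph.induce (Cfsg.relCharDegrees N)).Preconnected) : ∃ a₀ : ↥(Cfsg.relCharDegrees N), (∀ b c : ↥(Cfsg.relCharDegrees N), (Cfsg.commonDivisorGraph.induce (Cfsg.relCharDegrees N)).Reachable a₀ b → (Cfsg.commonDivisorGraph.induce (Cfsg.relCharDegrees N)).Reachable a₀ c → b ≠ c → (Cfsg.commonDivisorGraph.induce (Cfsg.relCharDegrees N)).Adj b c) ∧ (∀ b c : ↥(Cfsg.relCharDegrees N), ¬ (Cfsg.commonDivisorGraph.induce (Cfsg.relCharDegrees N)).Reachable a₀ b → ¬ (Cfsg.commonDivisorGraph.induce (Cfsg.relCharDegrees N)).Reachable a₀ c → b ≠ c → (Cfsg.commonDivisorGraph.induce (Cfsg.relCharDegrees N)).Adj b c ∨ ∃ d : ↥(Cfsg.relCharDegrees N), (Cfsg.commonDivisorGraph.induce (Cfsg.relCharDegrees N)).Adj b d ∧ (Cfsg.commonDivisorGraph.induce (Cfsg.relCharDegrees N)).Adj d c) := by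
  classical
  cases nonempty_fintype G
  have : Fintype N := Fintype.ofFinite N
  have hN : ⁅N, N⁆ < N := by
    refine lt_of_le_of_ne (Subgroup.commutator_le_left N N) fun e => hdisc ?_
    have hmap : ∀ n, (derivedSeries N n).map N.subtype = N := by
      intro n
      induction n with
      | zero => simp [← MonoidHom.range_eq_map]
      | succ n ih => rw [derivedSeries_succ, Subgroup.map_commutator, ih, e]
    obtain ⟨n, hn⟩ := (Group.isSolvable_def N).1 inferInstance
    have hbot : N = ⊥ := by rw [← hmap n, hn, Subgroup.map_bot]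
    rintro ⟨a, χ, ⟨x, hx, hne⟩, -⟩
    rw [hbot, Subgroup.mem_bot] at hx
    exact absurd (by rw [hx]) hne
  obtain ⟨s, hs, hsm⟩ := Nat.exists_prime_and_dvd (n := ⁅N, N⁆.relIndex N)
    (fun e => hN.not_ge (Subgroup.relIndex_eq_one.1 e))
  have := Fact.mk hs
  have hsame : ∀ x y : ↥(Cfsg.relCharDegrees N), (s ∣ (x : ℕ) ↔ s ∣ (y : ℕ)) →
      (Cfsg.commonDivisorGraph.induce (Cfsg.relCharDegrees N)).Reachable x y :=
    fun x y h => ((H2.RelGraph.conn_prime N hNG hsm x.2 y.2).1 h).2.2
  obtain ⟨a, b, hab⟩ : ∃ a b : ↥(Cfsg.relCharDegrees N),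
      ¬ (Cfsg.commonDivisorGraph.induce (Cfsg.relCharDegrees N)).Reachable a b := by
    simpa [SimpleGraph.Preconnected] using hdisc
  obtain ⟨a₀, b₀, ha₀, hnr⟩ : ∃ a₀ b₀ : ↥(Cfsg.relCharDegrees N), s ∣ (a₀ : ℕ) ∧
      ¬ (Cfsg.commonDivisorGraph.induce (Cfsg.relCharDegrees N)).Reachable b₀ a₀ := by
    by_cases h : s ∣ (a : ℕ)
    · exact ⟨a, b, h, fun h' => hab h'.symm⟩
    · exact ⟨b, a, by_contra fun h' => hab (hsame a b
        ⟨fun x => absurd x h, fun x => absurd x h'⟩), hab⟩
  have hout : ∀ b, (Cfsg.commonDivisorGraph.induce (Cfsg.relCharDegrees N)).Reachable a₀ b →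
      s ∣ (b : ℕ) := by
    intro b hb
    by_contra h
    by_cases hb0 : s ∣ (b₀ : ℕ)
    · exact hnr (hsame b₀ a₀ ⟨fun _ => ha₀, fun _ => hb0⟩)
    · exact hnr ((hsame b₀ b ⟨fun x => absurd x hb0, fun x => absurd x h⟩).trans hb.symm)
  have hadj : ∀ x y : ↥(Cfsg.relCharDegrees N), x ≠ y → H61.RelGraphTwo.Share (x : ℕ) y →
      (Cfsg.commonDivisorGraph.induce (Cfsg.relCharDegrees N)).Adj x y := by
    rintro x y hxy ⟨k, hk1, hkx, hky⟩
    show (x : ℕ) ≠ y ∧ 1 < Nat.gcd x y
    refine ⟨fun e => hxy (Subtype.ext e), ?_⟩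
    have h0 : 0 < Nat.gcd (x : ℕ) y :=
      Nat.gcd_pos_of_pos_left _ (Nat.pos_of_ne_zero (H2.RelGraph.mem_ne_zero N x.2))
    refine lt_of_le_of_ne h0 fun e => hk1 (Nat.dvd_one.1 ?_)
    have := Nat.dvd_gcd hkx hky
    rwa [← e] at this
  refine ⟨a₀, fun b c hb hc hbc => hadj b c hbc ⟨s, hs.ne_one, hout b hb, hout c hc⟩,
    fun b c hb hc hbc => ?_⟩
  have key : ∀ b : ↥(Cfsg.relCharDegrees N),
      ¬ (Cfsg.commonDivisorGraph.induce (Cfsg.relCharDegrees N)).Reachable a₀ b →
      ¬ H2.RelGraph.Conn N b a₀ := fun b hb h => hb h.2.2.symm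
  rcases H61.RelGraphTwo.main _ N rfl inferInstance hNG b c a₀ b.2 c.2 a₀.2 (key b hb) (key c hc)
    with h | ⟨d, hd, h1, h2⟩
  · exact Or.inl (hadj b c hbc h)
  · by_cases h3 : (⟨d, hd⟩ : ↥(Cfsg.relCharDegrees N)) = b
    · subst h3; exact Or.inl (hadj _ c hbc h2)
    by_cases h4 : (⟨d, hd⟩ : ↥(Cfsg.relCharDegrees N)) = c
    · subst h4; exact Or.inl (hadj b _ hbc h1)
    exact Or.inr ⟨⟨d, hd⟩, hadj b _ (fun e => h3 e.symm) h1, hadj _ c h4 h2⟩

end Cfsg.Agent.S4779
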