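import Cfsg.Statements.S4782
import Cfsg.Agent.H33.NineTwoQ.Vanish
import Cfsg.Agent.CharInduce.Induce
import Cfsg.Agent.H36.DegreeEq

set_option autoImplicit false
open Cfsg

namespace Cfsg.Agent.S4782

open Cfsg.Agent Cfsg.Agent.CharBasic
open Cfsg.Agent.H36.SelfCentral (triv)

universe u

/-- In a nonabelian simple group the character degrees involve at least three primes. -/
theorem simple_step {S : Type u} [Group S] [Finite S] [IsSimpleGroup S] (hS : ¬ IsMulCommutative S)
    {p q : ℕ} (hp : p.Prime) (hq : q.Prime) (hqS : q ∣ Nat.card S)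
    (h : ∀ χ : IrrCharacter S, ∀ r : ℕ, r.Prime → r ∣ charDegree (χ : S → ℂ) → r = p ∨ r = q) :
    False := by
  classical
  haveI : Fact q.Prime := ⟨hq⟩
  haveI := Fintype.ofFinite S
  obtain ⟨Q⟩ : Nonempty (Sylow q S) := inferInstance
  haveI : Nontrivial (Q : Subgroup S) :=
    (Q : Subgroup S).nontrivial_iff_ne_bot.2 (Q.ne_bot_of_dvd_card hqS)
  obtain ⟨z, hz⟩ := Subgroup.ne_bot_iff_exists_ne_one.1 (ne_of_gt Q.isPGroup'.bot_lt_center)
  set g : S := ((z : (Q : Subgroup S)) : S) with hgdef
  have hg : g ≠ 1 := fun e => hz (Subtype.ext (Subtype.ext e))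
  have hle : (Q : Subgroup S) ≤ Subgroup.centralizer ({g} : Set S) := fun x hx =>
    Subgroup.mem_centralizer_singleton_iff.mpr
      (congrArg Subtype.val (Subgroup.mem_center_iff.mp z.2 ⟨x, hx⟩))
  have hterm : ∀ χ ∈ Finset.univ.erase (triv S), ∃ w : ℂ, IsIntegral ℤ w ∧
      (χ : S → ℂ) 1 * (χ : S → ℂ) g = (p : ℂ) * w := by
    intro χ hχ
    have hne := (Finset.mem_erase.1 hχ).1
    have hd := (H83.charDegree_eq χ.2).1
    by_cases hpd : p ∣ charDegree (χ : S → ℂ)
    · obtain ⟨k, hk⟩ := hpd
      exact ⟨(k : ℂ) * (χ : S → ℂ) g,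
        isIntegral_algebraMap.mul (H33.ExcThree.isIntegral_char (IsIrr.isCharacter χ.2) g),
        by rw [hd, hk]; push_cast; ring⟩
    refine ⟨0, isIntegral_zero, ?_⟩
    obtain ⟨n, ρ, hρ, he⟩ := χ.2
    have hn : Module.finrank ℂ (Fin n → ℂ) = charDegree (χ : S → ℂ) := by
      rw [← congrFun he 1, Representation.char_one] at hd
      exact_mod_cast hd
    have hcop : Nat.Coprime (Module.finrank ℂ (Fin n → ℂ))
        (Subgroup.centralizer ({g} : Set S)).index := by
      rw [hn]
      refine Nat.coprime_of_dvd fun r hr hrd hri => ?_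
      rcases h χ r hr hrd with e | e
      · exact hpd (e ▸ hrd)
      · exact Q.not_dvd_index ((e ▸ hri).trans (Subgroup.index_dvd_of_le hle))
    rcases burnside_zero_or_scalar ρ g hcop with h0 | h0
    · rw [congrFun he g] at h0
      rw [h0, mul_zero, mul_zero]
    · refine absurd (H33.NineTwoQ.eq_one_of_norm_eq hS hne ?_) hg
      rw [← congrFun he g, h0, hd, hn, Complex.norm_natCast]
  choose w hw hweq using hterm
  have hsum := CharBasic.sum_degree_mul_apply (G := S) g
  rw [if_neg hg, ← Finset.add_sum_erase _ _ (Finset.mem_univ (triv S)),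
    ← Finset.sum_attach (Finset.univ.erase (triv S)),
    Finset.sum_congr rfl fun x _ => hweq x.1 x.2, ← Finset.mul_sum] at hsum
  have hI : IsIntegral ℤ (∑ x ∈ (Finset.univ.erase (triv S)).attach, w x.1 x.2) :=
    IsIntegral.sum _ fun x _ => hw _ _
  set T := ∑ x ∈ (Finset.univ.erase (triv S)).attach, w x.1 x.2
  simp only [triv, mul_one] at hsum
  have hp0 : (p : ℚ) ≠ 0 := by exact_mod_cast hp.ne_zero
  have hT : T = algebraMap ℚ ℂ (-1 / p) := by
    rw [map_div₀, map_neg, map_one, map_natCast, eq_div_iff (by exact_mod_cast hp.ne_zero)]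
    linear_combination hsum
  rw [hT, isIntegral_algebraMap_iff (algebraMap ℚ ℂ).injective] at hI
  obtain ⟨v, hv⟩ := IsIntegrallyClosed.isIntegral_iff.mp hI
  rw [eq_div_iff hp0] at hv
  have hv' : v * (p : ℤ) = -1 := by
    have hv2 : (v : ℚ) * (p : ℚ) = -1 := by simpa using hv
    exact_mod_cast hv2
  exact hp.ne_one (Nat.dvd_one.mp (Int.natCast_dvd_natCast.mp ⟨-v, by push_cast; linarith⟩))

/-- Two primes cover all character degrees only in a solvable group. -/
theorem main {p q : ℕ} (hp : p.Prime) (hq : q.Prime) : ∀ (n : ℕ) (G : Type u) [Group G] [Finite G],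
    Nat.card G = n →
    (∀ χ : IrrCharacter G, ∀ r : ℕ, r.Prime → r ∣ charDegree (χ : G → ℂ) → r = p ∨ r = q) →
    Group.IsSolvable G := by
  intro n
  induction n using Nat.strong_induction_on with
  | _ n ih =>
    intro G _ _ hn h
    haveI := Fintype.ofFinite G
    by_contra hns
    haveI : Nontrivial G := not_subsingleton_iff_nontrivial.1 fun hs => hns inferInstance
    by_cases hN : ∀ N : Subgroup G, N.Normal → N = ⊥ ∨ N = ⊤
    · haveI : IsSimpleGroup G := ⟨hN⟩
      have hS : ¬ IsMulCommutative G := fun hc => hns (by open scoped IsMulCommutative in exact inferInstance)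
      by_cases hqG : q ∣ Nat.card G
      · exact simple_step hS hp hq hqG h
      obtain ⟨q', hq', hq'G⟩ := Nat.exists_prime_and_dvd (Finite.one_lt_card (α := G)).ne'
      refine simple_step hS hp hq' hq'G fun χ r hr hrd => ?_
      rcases h χ r hr hrd with e | e
      · exact Or.inl e
      · exact absurd (e ▸ hrd.trans (H83.charDegree_dvd_card χ.2)) hqG
    push Not at hN
    obtain ⟨N, hNn, hNb, hNt⟩ := hN
    haveI := hNn
    haveI := Fintype.ofFinite N
    haveI := Fintype.ofFinite (G ⧸ N)
    haveI h1 : Group.IsSolvable N := by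
      refine ih _ ?_ N rfl fun θ r hr hrθ => ?_
      · rw [← hn]
        exact lt_of_le_of_ne (Nat.le_of_dvd Nat.card_pos N.card_subgroup_dvd_card)
          fun e => hNt (Subgroup.eq_top_of_card_eq N e)
      · have h0 : indFun N (θ : N → ℂ) ≠ 0 := fun e => by
          have h2 := congrFun e 1
          rw [CharInduce.indFun_one, Pi.zero_apply, mul_eq_zero] at h2
          rcases h2 with h2 | h2
          · exact Subgroup.index_ne_zero_of_finite (Nat.cast_eq_zero.1 h2)
          · exact IsIrr.one_ne_zero θ.2 h2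
        obtain ⟨ψ, hψ⟩ := CharInduce.exists_constituent
          (CharInduce.IsChar.ind N (IsIrr.isCharacter θ.2)) h0
        have hne : classInner (fun x : N => (ψ : G → ℂ) x) (θ : N → ℂ) ≠ 0 := by
          rw [CharInduce.classInner_indFun_left N _ _ (IsIrr.isClassFunction ψ.2)] at hψ
          intro e
          exact hψ (by rw [← classInner_conj_symm, e, map_zero])
        obtain ⟨c, hc⟩ := classInner_isChar_nat
          (CharInduce.IsChar.res (IsIrr.isCharacter ψ.2) N) (IsIrr.isCharacter θ.2)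
        have h2 := CharInduce.clifford_degree N ψ.2 θ.2 hne
        rw [hc, (H83.charDegree_eq ψ.2).1, (H83.charDegree_eq θ.2).1] at h2
        have h3 : charDegree (θ : N → ℂ) ∣ charDegree (ψ : G → ℂ) :=
          ⟨c * (CharInduce.inertia N (θ : N → ℂ)).index,
            Nat.cast_injective (R := ℂ) (by push_cast; rw [h2]; ring)⟩
        exact h ψ r hr (hrθ.trans h3)
    haveI h2 : Group.IsSolvable (G ⧸ N) := by
      refine ih _ ?_ (G ⧸ N) rfl fun θ r hr hrθ => ?_
      · rw [← hn, Subgroup.card_eq_card_quotient_mul_card_subgroup N]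
        exact lt_mul_of_one_lt_right Nat.card_pos ((Subgroup.one_lt_card_iff_ne_bot N).2 hNb)
      · have := h ⟨_, CharInduce.IsIrr.comp θ.2 (QuotientGroup.mk' N)
          (QuotientGroup.mk'_surjective N)⟩ r hr
        simp only [Cfsg.charDegree, map_one] at this hrθ ⊢
        exact this hrθ
    exact hns (Group.isSolvable_of_ker_le_range N.subtype (QuotientGroup.mk' N) (by simp))

/-- If the finite group G is not solvable, then at least three distinct primes each divide some irreducible complex character degree of G. -/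
theorem result {G : Type*} [Group G] [Finite G] (hG : ¬ Group.IsSolvable G) : ∃ p q r : ℕ, p ≠ q ∧ q ≠ r ∧ p ≠ r ∧ p ∈ Cfsg.degreePrimes G ∧ q ∈ Cfsg.degreePrimes G ∧ r ∈ Cfsg.degreePrimes G := by
  by_contra hno
  push Not at hno
  apply hG
  by_cases hne : (Cfsg.degreePrimes G).Nonempty
  · obtain ⟨p, hp⟩ := hne
    by_cases hsec : ∃ q ∈ Cfsg.degreePrimes G, q ≠ p
    · obtain ⟨q, hq, hqp⟩ := hsec
      refine main hp.1 hq.1 _ G rfl fun χ r hr hrd => ?_
      by_contra hc
      push Not at hc
      exact hno p q r hqp.symm hc.2.symm hc.1.symm hp hq ⟨hr, _, ⟨χ, rfl⟩, hrd⟩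
    · push Not at hsec
      exact main hp.1 hp.1 _ G rfl fun χ r hr hrd => Or.inl (hsec r ⟨hr, _, ⟨χ, rfl⟩, hrd⟩)
  · exact main Nat.prime_two Nat.prime_two _ G rfl fun χ r hr hrd =>
      absurd ⟨r, hr, _, ⟨χ, rfl⟩, hrd⟩ hne

end Cfsg.Agent.S4782
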