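import Cfsg.Statements.S4805
import Cfsg.Agent.H10.Camina.OneSeen
import Cfsg.Agent.H10.Camina.Solvable

set_option autoImplicit false
open Cfsg

namespace Cfsg.Agent.S4805

/-- Let G be a finite group, g an element outside the centre of G, and χ an irreducible complex character of degree greater than one with χ(g) ≠ 0 such that every other irreducible character of degree greater than one vanishes at g. Then g lies in the derived subgroup G′ and χ(g) = −[G : G′]/χ(1); G′ is the union of the kernel of χ (the elements where χ takes the value χ(1)) and the conjugacy class of g, and χ vanishes outside G′; every irreducible character of degree greater than one whose kernel contains that of χ equals χ; and G is solvable. -/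
theorem result {G : Type*} [Group G] [Finite G] (g : G) (hg : g ∉ Subgroup.center G) (χ : Cfsg.IrrCharacter G) (hχ1 : Cfsg.charDegree (χ : G → ℂ) ≠ 1) (hχg : (χ : G → ℂ) g ≠ 0) (hother : ∀ ψ : Cfsg.IrrCharacter G, Cfsg.charDegree (ψ : G → ℂ) ≠ 1 → ψ ≠ χ → (ψ : G → ℂ) g = 0) : g ∈ commutator G ∧ (χ : G → ℂ) g = -(((commutator G).index : ℂ) / (χ : G → ℂ) 1) ∧ ((commutator G : Set G) = {x : G | (χ : G → ℂ) x = (χ : G → ℂ) 1} ∪ {h : G | IsConj g h}) ∧ (∀ x : G, x ∉ commutator G → (χ : G → ℂ) x = 0) ∧ (∀ ψ : Cfsg.IrrCharacter G, Cfsg.charDegree (ψ : G → ℂ) ≠ 1 → (∀ x : G, (χ : G → ℂ) x = (χ : G → ℂ) 1 → (ψ : G → ℂ) x = (ψ : G → ℂ) 1) → ψ = χ) ∧ Group.IsSolvable G := by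
  classical
  obtain ⟨hgM, hval, hne, hvan, hin⟩ := H10.Camina.table g hg χ hχ1 hχg hother
  obtain ⟨K, hKn, hKmem, -⟩ :=
    CharBasic.IsChar.exists_kernel (CharBasic.IsIrr.isCharacter χ.2)
  have hKM : K ≤ commutator G := fun x hx => by
    by_contra h
    have h1 := (hKmem x).1 hx
    rw [hvan x h] at h1
    exact CharBasic.IsIrr.one_ne_zero χ.2 h1.symm
  have hgK : g ∉ K := fun h => hne ((hKmem g).1 h)
  have hclass : ∀ x ∈ commutator G, x ∉ K → IsConj g x := fun x hx hxK => by
    by_contra h
    exact hxK ((hKmem x).2 (hin x hx h))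
  refine ⟨hgM, hval, ?_, hvan, fun ψ hψ hker => H10.Camina.eq_of_kernel g χ hne hvan hin ψ
    (fun h => hother ψ hψ h) hker, ?_⟩
  · ext x
    simp only [Set.mem_union, Set.mem_setOf_eq, SetLike.mem_coe]
    constructor
    · intro hx
      by_cases hxK : x ∈ K
      · exact Or.inl ((hKmem x).1 hxK)
      · exact Or.inr (hclass x hx hxK)
    · rintro (hx | hx)
      · exact hKM ((hKmem x).2 hx)
      · obtain ⟨c, rfl⟩ := isConj_iff.1 hx
        exact (inferInstance : (commutator G).Normal).conj_mem g hgM c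
  · refine H10.Camina.isSolvable_of_class hgM hgK hKM hclass fun z hz => ?_
    by_contra h
    exact H10.Camina.ne_zero_of_central χ (fun y => (hKmem _).1 (hz y)) (hvan z h)

end Cfsg.Agent.S4805
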