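import Cfsg.Statements.S4825
import Cfsg.Agent.H85.OrbitIdem
-- import your own Cfsg.Agent.* helpers here

set_option autoImplicit false
open Cfsg

namespace Cfsg.Agent.S4825

/-- Let p be a prime, G a finite group with Sylow p-subgroup P, M a maximal ideal of the algebraic integers containing p, and B a p-block of G with defect group P. Let N be a normal subgroup of G not containing P and θ an irreducible character of N. Then the number of irreducible characters in B of degree prime to p lying over θ (having θ as a constituent on restriction to N) is either 0 or at least 2, and when p ≤ 3 it is divisible by p. -/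
theorem result {G : Type*} [Group G] [Fintype G] (p : ℕ) [Fact p.Prime] (P : Sylow p G) (M : Ideal Cfsg.AlgInt) (hM : Cfsg.IsPModular p M) (B : Set (Cfsg.IrrCharacter G)) (hB : Cfsg.IsPBlock M B) (hBP : Cfsg.IsDefectGroup p M B P) (N : Subgroup G) [N.Normal] [Fintype N] (hPN : ¬ (P : Subgroup G) ≤ N) (θ : Cfsg.IrrCharacter N) :
    (Nat.card {χ : Cfsg.IrrCharacter G // χ ∈ B ∧ ¬ p ∣ Cfsg.charDegree (χ : G → ℂ) ∧ Cfsg.classInner (fun n : N => (χ : G → ℂ) n) (θ : N → ℂ) ≠ 0} = 0 ∨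
      2 ≤ Nat.card {χ : Cfsg.IrrCharacter G // χ ∈ B ∧ ¬ p ∣ Cfsg.charDegree (χ : G → ℂ) ∧ Cfsg.classInner (fun n : N => (χ : G → ℂ) n) (θ : N → ℂ) ≠ 0}) ∧
    (p ≤ 3 → p ∣ Nat.card {χ : Cfsg.IrrCharacter G // χ ∈ B ∧ ¬ p ∣ Cfsg.charDegree (χ : G → ℂ) ∧ Cfsg.classInner (fun n : N => (χ : G → ℂ) n) (θ : N → ℂ) ≠ 0}) := by
  classical
  have hp : p.Prime := Fact.out
  obtain ⟨x, hxP, hxN⟩ := SetLike.not_le_iff_exists.1 hPN
  have hx : ∃ k : ℕ, orderOf x = p ^ k := by
    obtain ⟨k, hk⟩ := IsPGroup.iff_orderOf.1 P.isPGroup' ⟨x, hxP⟩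
    exact ⟨k, by rwa [Subgroup.orderOf_mk] at hk⟩
  let d : Cfsg.IrrCharacter G → ℕ := fun χ => Cfsg.charDegree (χ : G → ℂ)
  let over : Cfsg.IrrCharacter G → Prop := fun χ =>
    Cfsg.classInner (fun n : N => (χ : G → ℂ) n) (θ : N → ℂ) ≠ 0
  let T := (Finset.univ : Finset (Cfsg.IrrCharacter G)).filter fun χ => χ ∈ B ∧ over χ
  let S := T.filter fun χ => ¬ p ∣ d χ
  have hzero := Cfsg.Agent.H85.sum_block_over_eq_zero N θ hM hB hx hxN
  rw [← Finset.sum_filter] at hzero
  have hmem : Cfsg.MemLocalIdeal M (((∑ χ ∈ T, d χ ^ 2 : ℕ)) : ℂ) := by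
    have h : Cfsg.MemLocalIdeal M (∑ χ ∈ T, ((χ : G → ℂ) 1 *
        ((starRingEnd ℂ) ((χ : G → ℂ) x) - (χ : G → ℂ) 1))) :=
      Cfsg.Agent.BlockBasic.memLocalIdeal_sum hM _ _ fun χ _ =>
        Cfsg.Agent.BlockBasic.memLocalIdeal_mul hM
          (Cfsg.Agent.BlockBasic.memLocalRing_of_isIntegral hM
            (Cfsg.Agent.BlockBasic.isIntegral_apply χ 1))
          (Cfsg.Agent.H85.memLocalIdeal_conj_apply_sub_one hM χ hx)
    simp only [mul_sub, Finset.sum_sub_distrib] at h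
    rw [hzero, zero_sub] at h
    have h' := Cfsg.Agent.BlockBasic.memLocalIdeal_neg h
    rw [neg_neg] at h'
    rw [Nat.cast_sum]
    convert! h' using 1
    exact Finset.sum_congr rfl fun χ _ => by
      rw [Cfsg.Agent.BlockBasic.apply_one_eq_charDegree]; push_cast; ring
  have hdvd : p ∣ ∑ χ ∈ S, d χ ^ 2 := by
    have h := (Cfsg.Agent.BlockBasic.memLocalIdeal_natCast_iff hM _).1 hmem
    rw [← Finset.sum_filter_add_sum_filter_not T (fun χ => ¬ p ∣ d χ)] at h
    refine (Nat.dvd_add_left ?_).1 h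
    refine Finset.dvd_sum fun χ hχ => ?_
    exact dvd_pow (not_not.1 (Finset.mem_filter.1 hχ).2) two_ne_zero
  have hcard : Nat.card {χ : Cfsg.IrrCharacter G // χ ∈ B ∧ ¬ p ∣ Cfsg.charDegree (χ : G → ℂ) ∧
      Cfsg.classInner (fun n : N => (χ : G → ℂ) n) (θ : N → ℂ) ≠ 0} = S.card := by
    rw [Nat.card_eq_fintype_card, Fintype.card_subtype]
    congr 1
    ext χ
    simp [S, T, over, d]
    tauto
  rw [hcard]
  refine ⟨?_, fun h3 => ?_⟩
  · by_contra h
    push Not at h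
    obtain ⟨χ, hχ⟩ := Finset.card_eq_one.1 (show S.card = 1 by omega)
    rw [hχ, Finset.sum_singleton] at hdvd
    have : χ ∈ S := by rw [hχ]; exact Finset.mem_singleton_self χ
    exact (Finset.mem_filter.1 this).2 (hp.dvd_of_dvd_pow hdvd)
  · rw [← ZMod.natCast_eq_zero_iff] at hdvd ⊢
    rw [Nat.cast_sum, Finset.sum_congr rfl (g := fun _ => (1 : ZMod p))] at hdvd
    · simpa using hdvd
    intro χ hχ
    have h := ZMod.pow_card_sub_one_eq_one (p := p) (a := ((d χ : ℕ) : ZMod p))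
      (fun h => (Finset.mem_filter.1 hχ).2 ((ZMod.natCast_eq_zero_iff _ _).1 h))
    push_cast
    have hp2 : p = 2 ∨ p = 3 := by
      have := hp.two_le
      omega
    rcases hp2 with rfl | rfl
    · rw [show (2 : ℕ) - 1 = 1 from rfl, pow_one] at h
      rw [h, one_pow]
    · exact h

end Cfsg.Agent.S4825
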