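import Cfsg.Statements.S4828
import Cfsg.Agent.BlockBasic.MaximalPair
-- import your own Cfsg.Agent.* helpers here

set_option autoImplicit false
open Cfsg Cfsg.Agent Cfsg.Agent.BlockBasic

namespace Cfsg.Agent.S4828

/-- Let p be a prime, M a maximal ideal of the algebraic integers containing p, and (Q, e) a Brauer pair of the finite group G (Q a p-subgroup, e a block of C_G(Q)). Then (Q, e) is a maximal Brauer pair of some block of G if and only if e contains an irreducible character θ such that θ takes the value θ(1) at every element of Z(Q) = Q ∩ C_G(Q), the p-part of θ(1) times the p-part of the order of Z(Q) equals the p-part of the order of C_G(Q) (θ has defect zero as a character of C_G(Q)/Z(Q)), and every element of N_G(Q) of p-power order that stabilizes e lies in Q·C_G(Q) (the stabilizer of e in N_G(Q) has index prime to p over Q·C_G(Q)). -/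
theorem result {G : Type*} [Group G] [Finite G] (p : ℕ) [Fact p.Prime] (M : Ideal Cfsg.AlgInt) (hM : Cfsg.IsPModular p M) (Q : Subgroup G) (e : Set (Cfsg.IrrCharacter (Subgroup.centralizer (Q : Set G)))) (he : Cfsg.IsBrauerPair p M Q e) :
    (∃ B : Set (Cfsg.IrrCharacter G), Cfsg.IsMaximalBrauerPair p M B Q e) ↔
      ∃ θ ∈ e, (∀ z : Subgroup.centralizer (Q : Set G), (z : G) ∈ Q → (θ : Subgroup.centralizer (Q : Set G) → ℂ) z = (θ : Subgroup.centralizer (Q : Set G) → ℂ) 1) ∧
        (Cfsg.charDegree (θ : Subgroup.centralizer (Q : Set G) → ℂ)).factorization p + (Nat.card ↥(Q ⊓ Subgroup.centralizer (Q : Set G))).factorization p = (Nat.card (Subgroup.centralizer (Q : Set G))).factorization p ∧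
        (∀ g : G, g ∈ Subgroup.normalizer (Q : Set G) → Cfsg.StabilizesBlock (Subgroup.centralizer (Q : Set G)) e g → (∃ k : ℕ, orderOf g = p ^ k) → g ∈ Q ⊔ Subgroup.centralizer (Q : Set G)) := by
  classical
  cases nonempty_fintype G
  constructor
  · rintro ⟨B, hmax⟩
    have hd := MaximalPair.isDefectGroup_of_maximal hM hmax
    set Z := (Q ⊓ Subgroup.centralizer (Q : Set G)).subgroupOf (Subgroup.centralizer (Q : Set G))
    have hZc := MaximalPair.sup_centralizer_inf Q
    haveI : Z.Normal := ⟨fun n hn g => by
      rw [Subgroup.mem_center_iff.1 (hZc hn) g, mul_inv_cancel_right]; exact hn⟩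
    have hG : Z ⊔ Subgroup.centralizer (Z : Set (Subgroup.centralizer (Q : Set G))) = ⊤ := by
      refine eq_top_iff.2 (le_sup_of_le_right fun c _ => ?_)
      rw [Subgroup.mem_centralizer_iff]
      exact fun z hz => (Subgroup.mem_center_iff.1 (hZc hz) c).symm
    obtain ⟨θ, hθ, htriv⟩ := H86.exists_trivial_on hM he.2 Z
      ((he.1.to_le inf_le_left).comap_of_injective _ (Subgroup.subtype_injective _))
    refine ⟨θ, hθ, fun z hz => htriv z (Subgroup.mem_subgroupOf.2 ⟨hz, z.2⟩), ?_,
      fun g hg hs hp => MaximalPair.mem_sup_of_maximal hM hmax hg hs hp⟩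
    exact (MaximalPair.factorization_iff inf_le_right _).2
      (CentralDefect.factorization_degree hM he.2 hG hd hθ htriv)
  · rintro ⟨θ, hθ, -, hdeg, hstab⟩
    exact MaximalPair.exists_maximal_of_criterion hM he hθ hdeg hstab

end Cfsg.Agent.S4828
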