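import Cfsg.Statements.S4837
import Cfsg.Agent.H85.GagolaP
-- import your own Cfsg.Agent.* helpers here

set_option autoImplicit false
open Cfsg

namespace Cfsg.Agent.S4837

/-- Let G be a finite group of order greater than 2 with an irreducible character χ nonzero on exactly two conjugacy classes, and let N be the set of elements where χ is nonzero, given as a nontrivial normal p-subgroup of G for the prime p. Then for every nonidentity x in N the centralizer C_G(x) is a Sylow p-subgroup of G, and for every irreducible character λ ≠ 1 of N the stabilizer of λ in G (its inertia group) is a Sylow p-subgroup of G. -/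
theorem result {G : Type*} [Group G] [Finite G] (hG : 2 < Nat.card G) (χ : Cfsg.IrrCharacter G) (hχ : Nat.card {C : ConjClasses G // ∃ g ∈ C.carrier, (χ : G → ℂ) g ≠ 0} = 2) (p : ℕ) [Fact p.Prime] (N : Subgroup G) [N.Normal] (hN : ∀ g : G, g ∈ N ↔ (χ : G → ℂ) g ≠ 0) (hNp : IsPGroup p N) (hN1 : N ≠ ⊥) :
    (∀ x ∈ N, x ≠ 1 → ∃ P : Sylow p G, Subgroup.centralizer ({x} : Set G) = P) ∧
      (∀ μ : Cfsg.IrrCharacter N, (μ : N → ℂ) ≠ (fun _ => (1 : ℂ)) → ∃ P : Sylow p G, ∀ g : G, g ∈ (P : Subgroup G) ↔ ∀ n n' : N, (n' : G) = g * n * g⁻¹ → (μ : N → ℂ) n' = (μ : N → ℂ) n) := by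
  classical
  have D := Cfsg.Agent.H85.gagola_data hG hχ hN
  have hNfin := Fintype.ofFinite N
  have hGfin := Fintype.ofFinite G
  refine ⟨fun x hx hx1 => D.exists_sylow_eq hNp hx hx1 _ rfl, fun μ hμ => ?_⟩
  obtain ⟨q, -, -, hel⟩ := D.exists_prime
  have hcomm : IsMulCommutative N := hel.1
  let cj : G → (N ≃* N) := fun g => MulAut.conjNormal g
  have hcj : ∀ (g : G) (n : N), ((cj g n : N) : G) = g * n * g⁻¹ := fun g n =>
    MulAut.conjNormal_apply g n
  have hmul : ∀ (g h : G) (n : N), cj (g * h) n = cj g (cj h n) := fun g h n =>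
    Subtype.ext (by simp only [hcj]; group)
  let S : Subgroup G :=
    { carrier := {g | ∀ n : N, (μ : N → ℂ) (cj g n) = (μ : N → ℂ) n}
      one_mem' := fun n => congrArg _ (Subtype.ext (by simp [hcj]))
      mul_mem' := fun {g h} hg hh n => by rw [hmul, hg, hh]
      inv_mem' := fun {g} hg n => by
        have := hg (cj g⁻¹ n)
        rw [← hmul, mul_inv_cancel] at this
        rw [← this]
        exact congrArg _ (Subtype.ext (by simp [hcj])) }
  have hin : ∀ g : G, Cfsg.classInner (fun n => (μ : N → ℂ) (cj g n)) (μ : N → ℂ) =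
      if g ∈ S then 1 else 0 := by
    intro g
    rw [Cfsg.Agent.CharBasic.classInner_irr
      (Cfsg.Agent.H85.isIrrCharacter_comp_equiv μ.2 (cj g)) μ.2]
    refine if_congr ?_ rfl rfl
    exact ⟨fun h n => congrFun h n, fun h => funext h⟩
  have hcard : ∑ g : G, (if g ∈ S then (1 : ℂ) else 0) = (Nat.card S : ℂ) := by
    rw [Finset.sum_boole, Nat.card_eq_fintype_card, Fintype.card_subtype]
  obtain ⟨a, k, hk0, hk, hpk, hGc, hC⟩ := D.exists_pow hNp
  have hp : p.Prime := Fact.out
  have hμ1 := Cfsg.Agent.H85.apply_one_eq_one_of_comm μ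
  let F : N → ℂ := fun n => ∑ g : G, (μ : N → ℂ) (cj g n)
  have hF1 : F 1 = (Nat.card G : ℂ) := by
    simp [F, hμ1, Nat.card_eq_fintype_card]
  obtain ⟨x, hx, hx1⟩ := N.bot_or_exists_ne_one.resolve_left hN1
  set x' : N := ⟨x, hx⟩ with hx'
  have hconst : ∀ n : N, n ≠ 1 → F n = F x' := by
    intro n hn
    obtain ⟨h, hh⟩ := D.trans x hx n n.2 hx1 (fun h => hn (Subtype.ext h))
    have hhn : cj h x' = n := Subtype.ext (by rw [hcj]; exact hh)
    show ∑ g : G, _ = ∑ g : G, _
    refine Fintype.sum_equiv (Equiv.mulRight h) _ _ fun g => ?_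
    rw [← hhn, ← hmul]
    rfl
  have hFsum : ∑ n : N, F n = 0 := by
    show ∑ n : N, ∑ g : G, _ = 0
    rw [Finset.sum_comm]
    refine Finset.sum_eq_zero fun g _ => ?_
    exact ((cj g).toEquiv.sum_comp (μ : N → ℂ)).trans (Cfsg.Agent.H85.sum_apply_eq_zero μ hμ)
  have hsplit : ∀ f : N → ℂ, ∑ n : N, F n * f n = (F 1 - F x') * f 1 + F x' * ∑ n : N, f n := by
    intro f
    have : ∀ n : N, F n * f n = (if n = 1 then (F 1 - F x') * f n else 0) + F x' * f n := by
      intro n
      by_cases hn : n = 1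
      · rw [if_pos hn, hn]; ring
      · rw [if_neg hn, hconst n hn, zero_add]
    rw [Finset.sum_congr rfl fun n _ => this n, Finset.sum_add_distrib, Finset.sum_ite_eq',
      if_pos (Finset.mem_univ _), Finset.mul_sum]
  have e1 := hsplit (fun _ => 1)
  simp only [mul_one, hFsum] at e1
  have e2 := hsplit (fun n => (starRingEnd ℂ) ((μ : N → ℂ) n))
  rw [← map_sum, Cfsg.Agent.H85.sum_apply_eq_zero μ hμ, map_zero, mul_zero, add_zero, hμ1,
    map_one, mul_one] at e2
  have e3 : ∑ n : N, F n * (starRingEnd ℂ) ((μ : N → ℂ) n) =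
      (Nat.card N : ℂ) * (Nat.card S : ℂ) := by
    rw [← hcard, Finset.mul_sum]
    simp only [F, Finset.sum_mul]
    rw [Finset.sum_comm]
    refine Finset.sum_congr rfl fun g _ => ?_
    rw [← hin g, Cfsg.classInner, ← mul_assoc,
      mul_inv_cancel₀ (by exact_mod_cast Nat.card_pos.ne'), one_mul]
  rw [e3, hF1] at e2
  rw [Finset.sum_const, Finset.card_univ, ← Nat.card_eq_fintype_card, nsmul_eq_mul, mul_one, hF1,
    hk] at e1
  rw [hk] at e2
  have hS : Nat.card S = p ^ (2 * a + k) := by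
    have h1 : (1 : ℕ) ≤ p ^ k := Nat.one_le_pow _ _ hp.pos
    have e4 : ((p : ℂ) ^ k - 1) * (Nat.card S : ℂ) = (Nat.card G : ℂ) := by
      have hne : ((p ^ k : ℕ) : ℂ) ≠ 0 := by exact_mod_cast (pow_pos hp.pos k).ne'
      push_cast at e1 e2 hne
      refine mul_left_cancel₀ hne ?_
      linear_combination ((p : ℂ) ^ k - 1) * e2 + e1
    have e5 : (p ^ k - 1) * Nat.card S = (p ^ k - 1) * p ^ (2 * a + k) := by
      have : (p ^ k - 1) * Nat.card S = Nat.card G := by
        have : (((p ^ k - 1) * Nat.card S : ℕ) : ℂ) = (Nat.card G : ℂ) := by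
          rw [Nat.cast_mul, Nat.cast_sub h1]; push_cast; exact e4
        exact_mod_cast this
      rw [this, hGc]; ring
    have : 0 < p ^ k - 1 := Nat.pos_of_ne_zero fun h => hpk (h ▸ dvd_zero p)
    exact Nat.eq_of_mul_eq_mul_left this e5
  obtain ⟨P, hP⟩ := D.exists_sylow_eq hNp hx hx1 S (by rw [hS, hC x hx hx1])
  refine ⟨P, fun g => ?_⟩
  rw [← hP]
  constructor
  · intro hg n n' hn'
    rw [show n' = cj g n from Subtype.ext (by rw [hcj]; exact hn')]
    exact hg n
  · intro hg n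
    exact hg n _ (hcj g n)

end Cfsg.Agent.S4837
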