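import Cfsg.Statements.S4838
import Cfsg.Agent.H85.GagolaP
-- import your own Cfsg.Agent.* helpers here

set_option autoImplicit false
open Cfsg

namespace Cfsg.Agent.S4838

/-- Let G be a finite group of order greater than 2 with an irreducible character χ nonzero on exactly two conjugacy classes, N the normal p-subgroup of elements where χ is nonzero, and P a Sylow p-subgroup of G. Then (a) for every x outside N the centralizer of x in G has the same order as the centralizer of xN in G/N; (b) the centre of P lies in N, and equals N exactly when P is normal in G; (c) N, viewed inside P, is a term of the upper central series of P. -/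
theorem result {G : Type*} [Group G] [Finite G] (hG : 2 < Nat.card G) (χ : Cfsg.IrrCharacter G) (hχ : Nat.card {C : ConjClasses G // ∃ g ∈ C.carrier, (χ : G → ℂ) g ≠ 0} = 2) (p : ℕ) [Fact p.Prime] (N : Subgroup G) [N.Normal] (hN : ∀ g : G, g ∈ N ↔ (χ : G → ℂ) g ≠ 0) (hNp : IsPGroup p N) (hN1 : N ≠ ⊥) (P : Sylow p G) :
    (∀ x : G, x ∉ N → Nat.card (Subgroup.centralizer ({x} : Set G)) = Nat.card (Subgroup.centralizer ({(x : G ⧸ N)} : Set (G ⧸ N)))) ∧
      ((Subgroup.center ↥(P : Subgroup G)).map (P : Subgroup G).subtype ≤ N ∧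
        ((Subgroup.center ↥(P : Subgroup G)).map (P : Subgroup G).subtype = N ↔ (P : Subgroup G).Normal)) ∧
      (∃ i : ℕ, Subgroup.upperCentralSeries ↥(P : Subgroup G) i = N.subgroupOf (P : Subgroup G)) := by
  classical
  have D := Cfsg.Agent.H85.gagola_data hG hχ hN
  have hp : p.Prime := Fact.out
  obtain ⟨a, k, hk0, hk, hpk, hGc, hC⟩ := D.exists_pow hNp
  have hPc := D.card_sylow hNp hpk hGc P
  have hquot := fun (x : G) (hx : x ∉ N) => D.card_centralizer_quotient (x := x) hx
  have hGN : Nat.card (G ⧸ N) = p ^ (2 * a) * (p ^ k - 1) := by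
    have h := Subgroup.card_eq_card_quotient_mul_card_subgroup N
    rw [hGc, hk] at h
    exact (Nat.eq_of_mul_eq_mul_right (pow_pos hp.pos k) h).symm
  have hple : ∀ x : G, x ∉ N → ∀ i, p ^ i ∣ Nat.card (Subgroup.centralizer ({x} : Set G)) →
      i ≤ 2 * a := by
    intro x hx i hi
    rw [hquot x hx] at hi
    have h := hi.trans (Subgroup.card_subgroup_dvd_card _)
    rw [hGN] at h
    have := (((Nat.Prime.coprime_iff_not_dvd hp).2 hpk).pow_left i).dvd_of_dvd_mul_right h
    exact (Nat.pow_dvd_pow_iff_le_right hp.one_lt).1 this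
  have hPnt : Nontrivial (P : Subgroup G) := Finite.one_lt_card_iff_nontrivial.1 (by
    rw [hPc]; exact Nat.one_lt_pow (by omega) hp.one_lt)
  have hZ : (Subgroup.center ↥(P : Subgroup G)).map (P : Subgroup G).subtype ≤ N := by
    rintro _ ⟨z, hz, rfl⟩
    by_contra hzN
    have hle : (P : Subgroup G) ≤ Subgroup.centralizer ({(z : G)} : Set G) := fun y hy =>
      Subgroup.mem_centralizer_singleton_iff.2
        (congrArg Subtype.val (Subgroup.mem_center_iff.1 hz ⟨y, hy⟩))
    have := hple _ hzN _ (hPc ▸ Subgroup.card_dvd_of_le hle)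
    omega
  refine ⟨hquot, ⟨hZ, ?_, ?_⟩, ?_⟩
  · intro hZN
    obtain ⟨x, hx, hx1⟩ := N.bot_or_exists_ne_one.resolve_left hN1
    have hPN : (P : Subgroup G) ≤ Subgroup.centralizer (N : Set G) := by
      intro y hy n hn
      obtain ⟨z, hz, rfl⟩ := hZN.ge hn
      exact (congrArg Subtype.val (Subgroup.mem_center_iff.1 hz ⟨y, hy⟩)).symm
    have hle : Subgroup.centralizer (N : Set G) ≤ Subgroup.centralizer ({x} : Set G) :=
      Subgroup.centralizer_le (by simpa using hx)
    have heq : (P : Subgroup G) = Subgroup.centralizer (N : Set G) := by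
      refine Subgroup.eq_of_le_of_card_ge hPN ?_
      rw [hPc, ← hC x hx hx1]
      exact Subgroup.card_le_of_le hle
    rw [heq]
    infer_instance
  · intro hPn
    refine le_antisymm hZ (D.minimal _ inferInstance ?_)
    have := P.2.center_nontrivial
    intro h
    exact ((Subgroup.nontrivial_iff_ne_bot _).1 this)
      ((Subgroup.map_eq_bot_iff_of_injective _ (P : Subgroup G).subtype_injective).1 h)
  · set NP : Subgroup ↥(P : Subgroup G) := N.subgroupOf (P : Subgroup G) with hNP
    by_contra hno
    have hne : ∀ i, Subgroup.upperCentralSeries ↥(P : Subgroup G) i ≠ NP :=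
      fun i h => hno ⟨i, h⟩
    have hNPcard : Nat.card NP ≤ p ^ k := by
      rw [← hk]
      exact Nat.card_le_card_of_injective
        (fun y : NP => (⟨((y : (P : Subgroup G)) : G), y.2⟩ : N))
        (fun y z h => Subtype.ext (Subtype.ext (congrArg (Subtype.val : N → G) h)))
    have hall : ∀ i, Subgroup.upperCentralSeries ↥(P : Subgroup G) i ≤ NP := by
      intro i
      induction i with
      | zero => simp
      | succ i ih =>
        intro z hz
        by_contra hzN
        set Z := Subgroup.upperCentralSeries ↥(P : Subgroup G) i with hZdef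
        have hzc : ∀ y : ↥(P : Subgroup G), z * y * z⁻¹ * y⁻¹ ∈ Z := fun y =>
          Subgroup.mem_upperCentralSeries_succ_iff.1 hz y
        have hlt : Nat.card Z < Nat.card NP := by
          rcases (Subgroup.card_le_of_le ih).lt_or_eq with h | h
          · exact h
          · exact absurd (Subgroup.eq_of_le_of_card_ge ih h.ge) (hne i)
        have hcls : Nat.card {y : ↥(P : Subgroup G) // IsConj z y} ≤ Nat.card Z := by
          refine Nat.card_le_card_of_injective (fun y => (⟨z * (y : ↥(P : Subgroup G))⁻¹, ?_⟩ : Z))
            fun y w h => ?_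
          · obtain ⟨g, hg⟩ := isConj_iff.1 y.2
            rw [← hg]
            simpa [mul_assoc] using hzc g
          · exact Subtype.ext (inv_injective (mul_left_cancel (congrArg Subtype.val h)))
        have hmul := Cfsg.Agent.H85.card_conjugates_mul z
        rw [hPc] at hmul
        set C := Subgroup.centralizer ({z} : Set ↥(P : Subgroup G)) with hCdef
        obtain ⟨j, hj⟩ := IsPGroup.iff_card.1 (P.2.to_subgroup C)
        have hdvd : p ^ j ∣ Nat.card (Subgroup.centralizer ({(z : G)} : Set G)) := by
          rw [← hj, ← Subgroup.card_map_of_injective (P : Subgroup G).subtype_injective]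
          refine Subgroup.card_dvd_of_le ?_
          rintro _ ⟨y, hy, rfl⟩
          exact Subgroup.mem_centralizer_singleton_iff.2
            (congrArg Subtype.val (Subgroup.mem_centralizer_singleton_iff.1 hy))
        have hj2 := hple _ (fun h => hzN h) j hdvd
        rw [hj] at hmul
        have h1 : p ^ (2 * a + k) < p ^ k * p ^ (2 * a) := by
          rw [← hmul]
          calc Nat.card {y : ↥(P : Subgroup G) // IsConj z y} * p ^ j
              ≤ Nat.card Z * p ^ (2 * a) :=
                Nat.mul_le_mul hcls (Nat.pow_le_pow_right hp.pos hj2)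
            _ < p ^ k * p ^ (2 * a) :=
                Nat.mul_lt_mul_of_pos_right (lt_of_lt_of_le hlt hNPcard) (pow_pos hp.pos _)
        rw [← pow_add, add_comm k] at h1
        exact lt_irrefl _ h1
    have := P.2.isNilpotent
    obtain ⟨c, hc⟩ := Group.IsNilpotent.nilpotent ↥(P : Subgroup G)
    exact hne c (le_antisymm (hall c) (hc ▸ le_top))

end Cfsg.Agent.S4838
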