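import Cfsg.Statements.S4839
import Cfsg.Agent.H85.GagolaFrob
import Cfsg.Agent.Thompson.BaerSuzuki
-- import your own Cfsg.Agent.* helpers here

set_option autoImplicit false
open Cfsg

namespace Cfsg.Agent.S4839

/-- Let G be a finite group of order greater than 2 with an irreducible character χ nonzero on exactly two conjugacy classes, and let N be the normal p-subgroup of elements where χ is nonzero. Then N is the whole p-core O_p(G) if and only if G is a doubly transitive Frobenius group with kernel N: G has a Frobenius complement H whose Frobenius kernel is N and whose order is one less than that of N. -/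
theorem result {G : Type*} [Group G] [Finite G] (hG : 2 < Nat.card G) (χ : Cfsg.IrrCharacter G) (hχ : Nat.card {C : ConjClasses G // ∃ g ∈ C.carrier, (χ : G → ℂ) g ≠ 0} = 2) (p : ℕ) [Fact p.Prime] (N : Subgroup G) [N.Normal] (hN : ∀ g : G, g ∈ N ↔ (χ : G → ℂ) g ≠ 0) (hNp : IsPGroup p N) (hN1 : N ≠ ⊥) :
    N = Cfsg.pCore p G ↔ ∃ H : Subgroup G, Cfsg.IsFrobeniusComplement H ∧ Cfsg.frobeniusKernel H = (N : Set G) ∧ Nat.card H + 1 = Nat.card N := by
  classical
  have D := Cfsg.Agent.H85.gagola_data hG hχ hN
  have hp : p.Prime := Fact.out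
  obtain ⟨a, k, hk0, hk, hpk, hGc, hC⟩ := D.exists_pow hNp
  constructor
  · intro hcore
    have hmax : ∀ K : Subgroup G, K.Normal → IsPGroup p K → K ≤ N := fun K hK hKp => by
      rw [hcore]; exact le_sSup ⟨hK, hKp⟩
    have hcent : ∀ g : G, (∀ n ∈ N, g * n = n * g) → g ∈ N := by
      obtain ⟨x, hx, hx1⟩ := N.bot_or_exists_ne_one.resolve_left hN1
      have hle : Subgroup.centralizer (N : Set G) ≤ Subgroup.centralizer ({x} : Set G) :=
        Subgroup.centralizer_le (by simpa using hx)
      intro g hg
      exact hmax _ inferInstance ((IsPGroup.of_card (hC x hx hx1)).to_le hle)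
        (Subgroup.mem_centralizer_iff.2 fun n hn => (hg n hn).symm)
    have ha : a = 0 := by
      by_contra ha
      have hdvd : p ∣ Nat.card (G ⧸ N) := by
        have h := Subgroup.card_eq_card_quotient_mul_card_subgroup N
        rw [hGc, hk] at h
        rw [← Nat.eq_of_mul_eq_mul_right (pow_pos hp.pos k) h]
        exact Dvd.dvd.mul_right (dvd_pow_self p (by omega)) _
      obtain ⟨q, hq⟩ := exists_prime_orderOf_dvd_card' (G := G ⧸ N) p hdvd
      obtain ⟨x, rfl⟩ := QuotientGroup.mk_surjective q
      have hx : x ∉ N := fun h => by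
        rw [(QuotientGroup.eq_one_iff x).2 h, orderOf_one] at hq
        exact hp.one_lt.ne hq
      have hxp : x ^ p ∈ N := by
        rw [← QuotientGroup.eq_one_iff, QuotientGroup.mk_pow]
        exact hq ▸ pow_orderOf_eq_one _
      by_cases hp2 : p = 2
      · subst hp2
        exact D.false_of_two hNp hmax (fun X _ h => Cfsg.Agent.Thompson.baer_suzuki_subgroup X h) hcent hx hxp
      · exact D.false_of_odd hNp hp2 hcent hx hxp
    subst ha
    exact D.exists_frobenius_complement hNp hG hk hpk (by simpa using hGc)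
  · rintro ⟨H, -, hker, hH⟩
    refine le_antisymm (le_sSup ⟨inferInstance, hNp⟩) (sSup_le fun K hK => ?_)
    obtain ⟨hKn, hKp⟩ := hK
    rcases eq_or_ne K ⊥ with rfl | hKb
    · exact bot_le
    · obtain ⟨j, hj⟩ := IsPGroup.iff_card.1 hKp
      have hdvd := Subgroup.card_subgroup_dvd_card K
      have hle := D.card_of_frobenius H hker hH
      rw [hGc, hk, show Nat.card H = p ^ k - 1 by omega] at hle
      have ha : a = 0 := by
        by_contra ha
        have h1 : 0 < p ^ k - 1 := Nat.pos_of_ne_zero fun h => hpk (h ▸ dvd_zero p)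
        have h2 : 1 < p ^ (2 * a) := Nat.one_lt_pow (by omega) hp.one_lt
        have h3 := Nat.le_of_mul_le_mul_right hle (pow_pos hp.pos k)
        nlinarith
      rw [hGc, hj, ha, mul_zero, pow_zero, one_mul] at hdvd
      have h4 := (((Nat.Prime.coprime_iff_not_dvd hp).2 hpk).pow_left j).dvd_of_dvd_mul_left hdvd
      refine (Subgroup.eq_of_le_of_card_ge (D.minimal K hKn hKb) ?_).ge
      rw [hj, hk]
      exact Nat.le_of_dvd (pow_pos hp.pos k) h4

end Cfsg.Agent.S4839
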