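import Cfsg.Statements.S4840
import Mathlib
import Cfsg.Agent.H85.GagolaP
import Cfsg.Agent.H64.TransSolvable

set_option autoImplicit false
open Cfsg

namespace Cfsg.Agent.S4840

/-- Let G be a finite solvable group of order greater than 2 with an irreducible character nonzero on exactly two conjugacy classes. Then there is exactly one prime p with O_p(G) ≠ 1, and the quotient G/O_p(G) has a normal p-complement and commutative Sylow p-subgroups. -/
theorem result {G : Type*} [Group G] [Finite G] [hs : Group.IsSolvable G] (hG : 2 < Nat.card G) (χ : Cfsg.IrrCharacter G) (hχ : Nat.card {C : ConjClasses G // ∃ g ∈ C.carrier, (χ : G → ℂ) g ≠ 0} = 2) :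
    ∃ p : ℕ, p.Prime ∧ (∀ q : ℕ, q.Prime → (Cfsg.pCore q G ≠ ⊥ ↔ q = p)) ∧
      Cfsg.HasNormalPComplement p (G ⧸ Cfsg.pCore p G) ∧ ∀ Q : Sylow p (G ⧸ Cfsg.pCore p G), IsMulCommutative (Q : Subgroup (G ⧸ Cfsg.pCore p G)) := by
  obtain ⟨N, hD⟩ := H85.gagola_exists hG χ hχ
  have := hD.normal
  obtain ⟨p, hp, hNp, hEl⟩ := hD.exists_prime
  have : Fact p.Prime := ⟨hp⟩
  obtain ⟨a, k, hkpos, hNcard, hpk, hGcard, hC⟩ := hD.exists_pow hNp
  obtain ⟨x, hxN, hx1⟩ := N.bot_or_exists_ne_one.resolve_left hD.ne_bot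
  have : (pCore p G).Normal := pCore_normal p G
  have hcores : ∀ q : ℕ, q.Prime → (pCore q G ≠ ⊥ ↔ q = p) := by
    refine fun q hq => ⟨fun hne => ?_, ?_⟩
    · have : Fact q.Prime := ⟨hq⟩
      have hle := hD.minimal _ (pCore_normal q G) hne
      have hNq : IsPGroup q N := (Cores.pCore_isPGroup (p := q) (G := G)).to_le hle
      by_contra hqp
      have hdis := hNp.disjoint_of_ne p q (Ne.symm hqp) N N hNq
      exact hD.ne_bot (disjoint_self.1 hdis)
    · rintro rfl h
      exact hD.ne_bot (le_bot_iff.1 (h ▸ Cores.le_pCore hNp))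
  have hne : pCore p G ≠ ⊥ := (hcores p hp).2 rfl
  refine ⟨p, hp, hcores, ?_⟩
  have := hEl.1
  open scoped IsMulCommutative in
  -- the action on `N`
  let φ₀ : G →* MulAut N := MulAut.conjNormal
  have hfix : ∀ (g : G) (v : N), φ₀ g v = v ↔ g * (v : G) = v * g := fun g v => by
    rw [Subtype.ext_iff, MulAut.conjNormal_apply, mul_inv_eq_iff_eq_mul]
  have hle : pCore p G ≤ φ₀.ker := by
    intro g hg
    have : Nontrivial (pCore p G) := (Subgroup.nontrivial_iff_ne_bot _).2 hne
    have := (Cores.pCore_isPGroup (p := p) (G := G)).center_nontrivial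
    have hK : N ≤ (Subgroup.center (pCore p G)).map (pCore p G).subtype :=
      hD.minimal _ inferInstance (by
        rw [Ne, Subgroup.map_eq_bot_iff_of_injective _ (pCore p G).subtype_injective,
          ← Ne, ← Subgroup.nontrivial_iff_ne_bot]
        infer_instance)
    rw [MonoidHom.mem_ker]
    refine MulEquiv.ext fun v => ?_
    rw [MulAut.one_apply, hfix]
    obtain ⟨z, hz, hzv⟩ := hK v.2
    rw [← hzv]
    exact congrArg Subtype.val (Subgroup.mem_center_iff.1 hz ⟨g, hg⟩)
  let φ := QuotientGroup.lift (pCore p G) φ₀ hle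
  have htd : H64.TransSolvable.TransData p k φ := by
    refine ⟨hNcard, hkpos, ?_, ?_, ?_, Cores.pCore_quotient_pCore⟩
    · intro d v hv hdv
      induction d using QuotientGroup.induction_on with | H g => ?_
      have hg : g ∈ Subgroup.centralizer ({(v : G)} : Set G) :=
        Subgroup.mem_centralizer_singleton_iff.2 ((hfix g v).1 hdv)
      have h1 := Subgroup.orderOf_dvd_natCard _ hg
      rw [hC v v.2 (fun h => hv (Subtype.ext h))] at h1
      obtain ⟨i, -, hi⟩ := (Nat.dvd_prime_pow hp).1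
        ((orderOf_map_dvd (QuotientGroup.mk' (pCore p G)) g).trans h1)
      exact ⟨i, hi⟩
    · intro u v hu hv
      obtain ⟨g, hg⟩ := hD.trans u u.2 v v.2 (fun h => hu (Subtype.ext h))
        (fun h => hv (Subtype.ext h))
      exact ⟨g, Subtype.ext hg⟩
    · obtain ⟨c, hc⟩ := IsPGroup.iff_card.1 (Cores.pCore_isPGroup (p := p) (G := G))
      have h1 := Subgroup.card_eq_card_quotient_mul_card_subgroup (pCore p G)
      rw [hGcard, hc, show p ^ (2 * a) * (p ^ k - 1) * p ^ k = p ^ (2 * a + k) * (p ^ k - 1) by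
        ring] at h1
      have hd : p ^ c ∣ p ^ (2 * a + k) :=
        ((hp.coprime_iff_not_dvd.2 hpk).pow_left c).dvd_of_dvd_mul_right
          (Dvd.intro_left _ h1.symm)
      have hcle : c ≤ 2 * a + k := (Nat.pow_dvd_pow_iff_le_right hp.one_lt).1 hd
      refine ⟨2 * a + k - c, Nat.eq_of_mul_eq_mul_right (Nat.pow_pos (n := c) hp.pos) ?_⟩
      rw [← h1, mul_assoc, ← pow_add, Nat.sub_add_cancel hcle, mul_comm]
  exact ⟨H64.TransSolvable.hasNormalPComplement htd, H64.TransSolvable.sylow_comm htd⟩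

end Cfsg.Agent.S4840
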