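import Cfsg.Statements.S4845
import Cfsg.Agent.H84.TwoDegreesPrime
import Cfsg.Agent.H81.Central
import Cfsg.Agent.OddOrder.PF6.Induced
import Cfsg.Agent.CharInduce.Transport
import Cfsg.Agent.CharInduce.CoprimeExt
import Cfsg.Agent.PGroups.Basic
import Mathlib

set_option autoImplicit false
open Cfsg

namespace Cfsg.Agent.S4845

open Cfsg.Agent CharInduce Finset
open scoped commutatorElement

universe u

variable {P : Type u} [Group P]

/-- All nonlinear irreducible characters of one degree are Galois conjugate. -/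
def ConjDeg (P : Type u) [Group P] : Prop :=
  ∀ χ ψ : Cfsg.IrrCharacter P, Cfsg.charDegree (χ : P → ℂ) ≠ 1 →
    Cfsg.charDegree (χ : P → ℂ) = Cfsg.charDegree (ψ : P → ℂ) →
      ∃ k : ℕ, Nat.Coprime k (Nat.card P) ∧ ∀ g : P, (ψ : P → ℂ) g = (χ : P → ℂ) (g ^ k)

theorem apply_one [Finite P] (χ : Cfsg.IrrCharacter P) :
    (χ : P → ℂ) 1 = (Cfsg.charDegree (χ : P → ℂ) : ℂ) := by
  obtain ⟨n, -, hn⟩ := CharBasic.IsIrr.exists_degree χ.2
  rw [Cfsg.charDegree, hn]
  simp

theorem apply_one_ne [Finite P] {χ : Cfsg.IrrCharacter P} :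
    (χ : P → ℂ) 1 ≠ 1 ↔ Cfsg.charDegree (χ : P → ℂ) ≠ 1 := by
  rw [apply_one]
  simp

/-- Linear characters separate the cosets of the derived subgroup. -/
theorem linear_separates [Finite P] {g : P} (hg : g ∉ commutator P) :
    ∃ l : P →* ℂˣ, l g ≠ 1 := by
  cases nonempty_fintype P
  have ha : (Abelianization.of g : Abelianization P) ≠ 1 := fun h => hg (by
    rw [← Abelianization.ker_of P]; exact h)
  obtain ⟨φ, hφ⟩ := CommGroup.exists_apply_ne_one_of_hasEnoughRootsOfUnity (Abelianization P) ℂ ha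
  exact ⟨φ.comp Abelianization.of, hφ⟩

/-- An irreducible character trivial on the derived subgroup is linear. -/
theorem degree_one_of_trivial [Finite P] {χ : P → ℂ} (hχ : Cfsg.IsIrrCharacter P χ)
    (h : ∀ c ∈ commutator P, χ c = χ 1) : χ 1 = 1 := by
  obtain ⟨ψ, -, hψ, hirr⟩ := IsChar.exists_deflate (CharBasic.IsIrr.isCharacter hχ) _ h
  rw [hψ, QuotientGroup.mk_one]
  refine IsIrr.degree_one_of_comm (fun a b => ?_) (hirr hχ)
  obtain ⟨x, rfl⟩ := QuotientGroup.mk'_surjective _ a
  obtain ⟨y, rfl⟩ := QuotientGroup.mk'_surjective _ b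
  rw [← commutatorElement_eq_one_iff_mul_comm, ← map_commutatorElement, QuotientGroup.mk'_apply,
    QuotientGroup.eq_one_iff]
  exact Subgroup.commutator_mem_commutator (Subgroup.mem_top _) (Subgroup.mem_top _)

/-- A nonabelian group has a nonlinear irreducible character. -/
theorem exists_nonlinear [Finite P] (hne : commutator P ≠ ⊥) :
    ∃ χ : Cfsg.IrrCharacter P, (χ : P → ℂ) 1 ≠ 1 := by
  by_contra h
  push Not at h
  have hc := CharBasic.commutative_iff_forall_linear.2 h
  refine hne ?_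
  rw [commutator_def, Subgroup.commutator_eq_bot_iff_le_centralizer]
  exact fun a _ b _ => hc b a

/-- In a cyclic subgroup the order determines inclusion. -/
theorem le_of_dvd_cyclic [Finite P] {Z A B : Subgroup P} [IsCyclic Z] (hA : A ≤ Z) (hB : B ≤ Z)
    (h : Nat.card A ∣ Nat.card B) : A ≤ B := by
  classical
  cases nonempty_fintype P
  intro x hx
  by_contra hxB
  have hpow : ∀ y : Z, (y : P) ∈ B ∨ (y : P) = x → y ^ Nat.card B = 1 := by
    intro y hy
    rw [← orderOf_dvd_iff_pow_eq_one, ← Subgroup.orderOf_coe]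
    rcases hy with hy | hy
    · exact Subgroup.orderOf_dvd_natCard B hy
    · rw [hy]; exact (Subgroup.orderOf_dvd_natCard A hx).trans h
  have hle := IsCyclic.card_pow_eq_one_le (α := Z) (Nat.card_pos (α := B))
  let S : Finset Z := Finset.univ.filter fun y => (y : P) ∈ B
  have hS : S.card = Nat.card B := by
    rw [← Fintype.card_subtype, ← Nat.card_eq_fintype_card]
    exact Nat.card_congr
      { toFun := fun y => ⟨y.1.1, y.2⟩
        invFun := fun b => ⟨⟨b.1, hB b.2⟩, b.2⟩
        left_inv := fun y => rfl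
        right_inv := fun b => rfl }
  have h2 : (insert (⟨x, hA hx⟩ : Z) S).card ≤ Nat.card B := by
    refine le_trans (Finset.card_le_card ?_) hle
    intro y hy
    rcases Finset.mem_insert.1 hy with hy | hy
    · exact Finset.mem_filter.2 ⟨Finset.mem_univ _, hpow y (Or.inr (by rw [hy]))⟩
    · exact Finset.mem_filter.2 ⟨Finset.mem_univ _, hpow y (Or.inl (Finset.mem_filter.1 hy).2)⟩
  rw [Finset.card_insert_of_notMem (by simpa [S] using hxB), hS] at h2
  exact Nat.not_succ_le_self _ h2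

/-- Nonlinear characters when the derived subgroup has prime order and the centre is cyclic. -/
theorem nonlinear_spec [Fintype P] {p : ℕ} [Fact p.Prime] (hP : IsPGroup p P)
    (hc : Nat.card (commutator P) = p) (hZ : IsCyclic (Subgroup.center P))
    {χ : P → ℂ} (hχ : Cfsg.IsIrrCharacter P χ) (h1 : χ 1 ≠ 1) :
    (∀ g, χ g = χ 1 → g = 1) ∧ (∀ g ∉ Subgroup.center P, χ g = 0) ∧
      χ 1 * χ 1 = ((Subgroup.center P).index : ℂ) := by
  classical
  haveI := hZ
  have hp : p.Prime := Fact.out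
  have hle : commutator P ≤ Subgroup.center P := PGroups.le_center_of_card_eq hP _ hc
  have hχc := CharBasic.IsIrr.isCharacter hχ
  obtain ⟨K, hKn, hK, -⟩ := CharBasic.IsChar.exists_kernel hχc
  haveI := hKn
  have hnot : ¬ commutator P ≤ K := fun h =>
    h1 (degree_one_of_trivial hχ fun c hc => (hK c).1 (h hc))
  have hinf : K ⊓ commutator P = ⊥ := by
    rw [Subgroup.eq_bot_iff_forall]
    intro x hx
    by_contra hx1
    refine hnot ?_
    have hd : orderOf x ∣ p := hc ▸ Subgroup.orderOf_dvd_natCard _ hx.2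
    have hox : orderOf x = p :=
      ((Nat.dvd_prime hp).1 hd).resolve_left (fun h => hx1 (orderOf_eq_one_iff.1 h))
    rw [← Subgroup.eq_of_le_of_card_ge (Subgroup.zpowers_le.2 hx.2)
      (le_of_eq (by rw [hc, Nat.card_zpowers, hox]))]
    exact Subgroup.zpowers_le.2 hx.1
  have hKZ : K ≤ Subgroup.center P := by
    intro x hx
    rw [Subgroup.mem_center_iff]
    intro y
    have : ⁅x, y⁆ ∈ K ⊓ commutator P := by
      refine ⟨?_, Subgroup.commutator_mem_commutator (Subgroup.mem_top _) (Subgroup.mem_top _)⟩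
      rw [commutatorElement_def, mul_assoc, mul_assoc]
      exact K.mul_mem hx (by simpa [mul_assoc] using hKn.conj_mem _ (K.inv_mem hx) y)
    rw [hinf, Subgroup.mem_bot, commutatorElement_eq_one_iff_mul_comm] at this
    exact this.symm
  have hKbot : K = ⊥ := by
    by_contra hne
    exact hnot (le_of_dvd_cyclic hle hKZ (hc.symm ▸ PGroups.dvd_card_of_ne_bot hP hne))
  have hfaith : ∀ g, χ g = χ 1 → g = 1 := fun g hg =>
    Subgroup.mem_bot.1 (hKbot ▸ (hK g).2 hg)
  obtain ⟨ω, hω, hω1⟩ := H81.exists_centralHom (Subgroup.center P) le_rfl hχ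
  have hoff : ∀ g ∉ Subgroup.center P, χ g = 0 := by
    intro g hg
    obtain ⟨x, hx⟩ : ∃ x : P, x * g ≠ g * x := by
      by_contra h
      push Not at h
      exact hg (Subgroup.mem_center_iff.2 h)
    let c : Subgroup.center P := ⟨⁅x, g⁆, hle
      (Subgroup.commutator_mem_commutator (Subgroup.mem_top _) (Subgroup.mem_top _))⟩
    have hcg : (c : P) * g = x * g * x⁻¹ := by
      show ⁅x, g⁆ * g = _
      rw [commutatorElement_def]; group
    have h := hω c g
    rw [hcg, CharBasic.IsIrr.isClassFunction hχ g x] at h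
    by_contra h0
    have hω0 : ω c = 1 := ((mul_eq_right₀ h0).1 h.symm)
    have h3 := hω c 1
    rw [mul_one, hω0, one_mul] at h3
    exact hx (commutatorElement_eq_one_iff_mul_comm.1 (hfaith _ h3))
  refine ⟨hfaith, hoff, ?_⟩
  have h := CharBasic.classInner_irr_self hχ
  rw [CharBasic.classInner_def, inv_mul_eq_iff_eq_mul₀ (card_ne_zero_complex P), mul_one,
    ← Finset.sum_filter_add_sum_filter_not univ (· ∈ Subgroup.center P),
    Finset.sum_eq_zero (s := univ.filter fun g => ¬ g ∈ Subgroup.center P)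
      (fun g hg => by rw [hoff g (Finset.mem_filter.1 hg).2, zero_mul]), add_zero,
    Finset.sum_congr rfl (g := fun _ => χ 1 * χ 1) (fun g hg => by
      have e := hω ⟨g, (Finset.mem_filter.1 hg).2⟩ 1
      rw [mul_one] at e
      obtain ⟨n, -, hn⟩ := CharBasic.IsIrr.exists_degree hχ
      rw [e, map_mul, hn, Complex.conj_natCast, mul_mul_mul_comm, Complex.mul_conj', hω1]
      simp),
    Finset.sum_const, ← Fintype.card_subtype, ← Nat.card_eq_fintype_card, nsmul_eq_mul,
    ← (Subgroup.center P).card_mul_index, Nat.cast_mul] at h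
  exact mul_left_cancel₀ (card_ne_zero_complex (Subgroup.center P)) h

/-- The hypothesis passes to quotients. -/
theorem conjDeg_quotient [Finite P] (h : ConjDeg P) (N : Subgroup P) [N.Normal] :
    ConjDeg (P ⧸ N) := by
  intro χ ψ h1 h2
  obtain ⟨k, hk, hkv⟩ := h
    ⟨_, IsIrr.comp χ.2 (QuotientGroup.mk' N) (QuotientGroup.mk'_surjective N)⟩
    ⟨_, IsIrr.comp ψ.2 (QuotientGroup.mk' N) (QuotientGroup.mk'_surjective N)⟩
    (by simpa [Cfsg.charDegree] using h1) (by simpa [Cfsg.charDegree] using h2)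
  refine ⟨k, Nat.Coprime.coprime_dvd_right (Subgroup.card_quotient_dvd_card N) hk, fun q => ?_⟩
  obtain ⟨g, rfl⟩ := QuotientGroup.mk'_surjective N q
  rw [← map_pow]
  exact hkv g

/-- Under the hypothesis, kernels of nonlinear characters lie in the derived subgroup. -/
theorem kernel_le [Finite P] (h : ConjDeg P) (χ : Cfsg.IrrCharacter P)
    (h1 : (χ : P → ℂ) 1 ≠ 1) {g : P} (hg : (χ : P → ℂ) g = (χ : P → ℂ) 1) :
    g ∈ commutator P := by
  cases nonempty_fintype P
  by_contra hgc
  obtain ⟨l, hl⟩ := linear_separates hgc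
  obtain ⟨k, -, hk⟩ := h χ ⟨_, isIrr_hom_mul χ.2 l⟩ (apply_one_ne.1 h1)
    (by simp [Cfsg.charDegree])
  obtain ⟨K, -, hK, -⟩ := CharBasic.IsChar.exists_kernel (CharBasic.IsIrr.isCharacter χ.2)
  have e : (l g : ℂ) * (χ : P → ℂ) g = (χ : P → ℂ) (g ^ k) := hk g
  rw [(hK _).1 (K.pow_mem ((hK g).2 hg) k), hg] at e
  exact hl (Units.val_eq_one.1 ((mul_eq_right₀ (CharBasic.IsIrr.one_ne_zero χ.2)).1 e))

/-- If moreover the derived subgroup has prime order, the centre is cyclic. -/
theorem center_cyclic [Finite P] {p : ℕ} (hp : p.Prime) (h : ConjDeg P)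
    (hc : Nat.card (commutator P) = p) : IsCyclic (Subgroup.center P) := by
  obtain ⟨χ, hχ⟩ := exists_nonlinear (P := P) (fun e => by
    rw [e, Subgroup.card_bot] at hc
    exact hp.one_lt.ne hc)
  obtain ⟨K, hKn, hK, -⟩ := CharBasic.IsChar.exists_kernel (CharBasic.IsIrr.isCharacter χ.2)
  have hKc : K ≤ commutator P := fun g hg => kernel_le h χ hχ ((hK g).1 hg)
  obtain ⟨ω, hω, -⟩ := H81.exists_centralHom (Subgroup.center P) le_rfl χ.2
  refine isCyclic_of_subgroup_isDomain ω ((injective_iff_map_eq_one ω).2 fun z hz => ?_)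
  have hz1 : (χ : P → ℂ) z = (χ : P → ℂ) 1 := by
    have e := hω z 1
    rwa [mul_one, hz, one_mul] at e
  have hd : orderOf (z : P) ∣ p := hc ▸ Subgroup.orderOf_dvd_natCard _ (hKc ((hK _).2 hz1))
  rcases (Nat.dvd_prime hp).1 hd with h' | h'
  · exact Subtype.ext (orderOf_eq_one_iff.1 h')
  · exfalso
    refine hχ (degree_one_of_trivial χ.2 fun c hc' => ?_)
    have : Subgroup.zpowers (z : P) = commutator P :=
      Subgroup.eq_of_le_of_card_ge (Subgroup.zpowers_le.2 (hKc ((hK _).2 hz1)))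
        (le_of_eq (by rw [hc, Nat.card_zpowers, h']))
    rw [← this] at hc'
    exact (hK c).1 (Subgroup.zpowers_le.2 ((hK _).2 hz1) hc')

theorem geom_bound {p : ℕ} (hp : 2 ≤ p) (s : ℕ) :
    ∑ i ∈ Finset.Ico 1 s, p ^ (2 * i) * p < p ^ (2 * s) := by
  induction s with
  | zero => simp
  | succ s ih =>
    rcases Nat.eq_zero_or_pos s with rfl | hs
    · simp
      positivity
    · rw [Finset.sum_Ico_succ_top hs, show 2 * (s + 1) = 2 * s + 2 by ring, pow_add]
      have hp2 : 1 + p ≤ p ^ 2 := by nlinarith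
      nlinarith [Nat.mul_le_mul_left (p ^ (2 * s)) hp2]

theorem derived_step [Fintype P] {p : ℕ} [Fact p.Prime] (hP : IsPGroup p P) (h : ConjDeg P)
    (N : Subgroup P) [N.Normal] (hNZ : N ≤ Subgroup.center P) (hNc : N ≤ commutator P)
    (hN : Nat.card N = p) (hQ : Nat.card (commutator (P ⧸ N)) = p) : False := by
  classical
  have hp : p.Prime := Fact.out
  cases nonempty_fintype (P ⧸ N)
  have hZ := center_cyclic hp (conjDeg_quotient h N) hQ
  haveI := hZ
  have hPQ := hP.to_quotient N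
  obtain ⟨ψ, hψ⟩ := exists_nonlinear (P := P ⧸ N) (fun e => by
    rw [e, Subgroup.card_bot] at hQ
    exact hp.one_lt.ne hQ)
  obtain ⟨d, -, hd, hdvd, -⟩ := CharBasic.IsIrr.degree_dvd ψ.2
  obtain ⟨nQ, hnQ⟩ := IsPGroup.iff_card.1 hPQ
  obtain ⟨s, -, rfl⟩ := (Nat.dvd_prime_pow hp).1 (hnQ ▸ hdvd)
  obtain ⟨-, -, hsq⟩ := nonlinear_spec hPQ hQ hZ ψ.2 hψ
  rw [hd] at hsq
  have hidx : (Subgroup.center (P ⧸ N)).index = p ^ (2 * s) := by
    rw [pow_mul', sq]; exact_mod_cast hsq.symm
  obtain ⟨m, hm⟩ := IsPGroup.iff_card.1 (hPQ.to_subgroup (Subgroup.center (P ⧸ N)))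
  have hcardQ : Nat.card (P ⧸ N) = p ^ (2 * s + m) := by
    rw [← (Subgroup.center (P ⧸ N)).card_mul_index, hidx, hm]; ring
  have hcardP : Nat.card P = p ^ (2 * s + m + 1) := by
    rw [N.card_eq_card_quotient_mul_card_subgroup, hcardQ, hN, pow_succ]
  -- the preimage of the centre of the quotient
  set π := QuotientGroup.mk' N with hπ
  set W := (Subgroup.center (P ⧸ N)).comap π with hW
  have hcomm : ∀ x ∈ W, ∀ y : P, ⁅x, y⁆ ∈ N := by
    intro x hx y
    rw [← QuotientGroup.eq_one_iff, ← QuotientGroup.mk'_apply, map_commutatorElement,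
      commutatorElement_eq_one_iff_mul_comm]
    exact (Subgroup.mem_center_iff.1 hx _).symm
  have hpow : ∀ {G : Type u} [Group G] [Finite G] (A : Subgroup G), A ≤ Subgroup.center G →
      Nat.card A = p → ∀ x : G, (∀ y, ⁅x, y⁆ ∈ A) → x ^ p ∈ Subgroup.center G := by
    intro G _ _ A hA hAc x hx
    rw [Subgroup.mem_center_iff]
    intro y
    have hc : x * y * x⁻¹ = ⁅x, y⁆ * y := by rw [commutatorElement_def]; group
    have key : ∀ i : ℕ, x ^ i * y * (x ^ i)⁻¹ = ⁅x, y⁆ ^ i * y := by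
      intro i
      induction i with
      | zero => simp
      | succ i ih =>
        have hcen : x * ⁅x, y⁆ ^ i = ⁅x, y⁆ ^ i * x :=
          Subgroup.mem_center_iff.1 ((Subgroup.center G).pow_mem (hA (hx y)) i) x
        calc x ^ (i + 1) * y * (x ^ (i + 1))⁻¹ = x * (x ^ i * y * (x ^ i)⁻¹) * x⁻¹ := by
              rw [pow_succ']; group
          _ = x * ⁅x, y⁆ ^ i * (y * x⁻¹) := by rw [ih]; group
          _ = ⁅x, y⁆ ^ i * (x * y * x⁻¹) := by rw [hcen]; group
          _ = ⁅x, y⁆ ^ (i + 1) * y := by rw [hc, pow_succ]; group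
    have h1 : ⁅x, y⁆ ^ p = 1 := by
      rw [← orderOf_dvd_iff_pow_eq_one]
      exact hAc ▸ Subgroup.orderOf_dvd_natCard A (hx y)
    have h2 := key p
    rw [h1, one_mul, mul_inv_eq_iff_eq_mul] at h2
    exact h2.symm
  have hcle : commutator (P ⧸ N) ≤ Subgroup.center (P ⧸ N) :=
    PGroups.le_center_of_card_eq hPQ _ hQ
  -- exponent
  have hexp : ∀ g : P, g ^ p ^ (m + 2) = 1 := by
    intro g
    have h1 : π g ^ p ∈ Subgroup.center (P ⧸ N) := hpow _ hcle hQ _ fun y =>
      Subgroup.commutator_mem_commutator (Subgroup.mem_top _) (Subgroup.mem_top _)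
    have h2 : (π g ^ p) ^ p ^ m = 1 := by
      rw [← orderOf_dvd_iff_pow_eq_one, ← hm]
      exact Subgroup.orderOf_dvd_natCard _ h1
    have h3 : (g ^ p) ^ p ^ m ∈ N := by
      rw [← QuotientGroup.eq_one_iff, ← QuotientGroup.mk'_apply]
      rw [map_pow, map_pow]
      exact h2
    have h4 := Subgroup.orderOf_dvd_natCard N h3
    rw [hN, orderOf_dvd_iff_pow_eq_one, ← pow_mul, ← pow_mul] at h4
    rw [show p ^ (m + 2) = p * (p ^ m * p) by ring]
    exact h4
  -- the centre is almost all of `W`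
  have hrel : (Subgroup.center P).relIndex W ≤ p := by
    obtain ⟨⟨w, hw⟩, hgen⟩ := IsCyclic.exists_generator (α := Subgroup.center (P ⧸ N))
    obtain ⟨z0, rfl⟩ := QuotientGroup.mk'_surjective N w
    let θ := QuotientGroup.mk' (Subgroup.center P)
    have hle : W.map θ ≤ Subgroup.zpowers (θ z0) := by
      rintro _ ⟨x, hx, rfl⟩
      obtain ⟨i, hi⟩ := Subgroup.mem_zpowers_iff.1 (hgen ⟨π x, hx⟩)
      refine Subgroup.mem_zpowers_iff.2 ⟨i, ?_⟩
      have hi' : π z0 ^ i = π x := congrArg Subtype.val hi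
      rw [← map_zpow, QuotientGroup.mk'_apply, QuotientGroup.mk'_apply, QuotientGroup.eq]
      rw [← map_zpow, QuotientGroup.mk'_apply, QuotientGroup.mk'_apply, QuotientGroup.eq] at hi'
      exact hNZ hi'
    have hz0 : θ z0 ^ p = 1 := by
      rw [← map_pow]
      exact (QuotientGroup.eq_one_iff _).2 (hpow N hNZ hN z0 (hcomm z0 hw))
    calc (Subgroup.center P).relIndex W = θ.ker.relIndex W := by rw [QuotientGroup.ker_mk']
      _ = Nat.card (W.map θ) := Subgroup.relIndex_ker _ _
      _ ≤ Nat.card (Subgroup.zpowers (θ z0)) := Subgroup.card_le_of_le hle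
      _ ≤ p := by
        rw [Nat.card_zpowers]
        exact Nat.le_of_dvd hp.pos (orderOf_dvd_of_pow_eq_one hz0)
  have hZW : Subgroup.center P ≤ W := by
    intro x hx
    rw [hW, Subgroup.mem_comap, Subgroup.mem_center_iff]
    intro q
    obtain ⟨y, rfl⟩ := QuotientGroup.mk'_surjective N q
    rw [← map_mul, ← map_mul, Subgroup.mem_center_iff.1 hx y]
  have hZidx : (Subgroup.center P).index ≤ p ^ (2 * s + 1) := by
    rw [← Subgroup.relIndex_mul_index hZW, hW,
      Subgroup.index_comap_of_surjective _ (QuotientGroup.mk'_surjective N), hidx, pow_succ,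
      mul_comm]
    exact Nat.mul_le_mul_left _ hrel
  -- the characters nontrivial on `N`
  let T : Finset (Cfsg.IrrCharacter P) :=
    univ.filter fun χ => ¬ ∀ n ∈ N, (χ : P → ℂ) n = (χ : P → ℂ) 1
  have hsum : ∑ χ ∈ T, Cfsg.charDegree (χ : P → ℂ) ^ 2 + p ^ (2 * s + m) = p ^ (2 * s + m + 1) := by
    have h1 := CharBasic.sum_sq_degree (G := P)
    rw [← Finset.sum_filter_add_sum_filter_not univ
      (fun χ : Cfsg.IrrCharacter P => ∀ n ∈ N, (χ : P → ℂ) n = (χ : P → ℂ) 1),
      OddOrder.PF6.sum_sq_trivial_on, Subgroup.index_eq_card, hcardQ, hcardP] at h1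
    simp only [apply_one] at h1
    rw [add_comm]
    simp only [T, apply_one]
    exact_mod_cast h1
  have hdeg : ∀ χ ∈ T, ∃ i ∈ Finset.Ico 1 s, Cfsg.charDegree (χ : P → ℂ) = p ^ i := by
    intro χ hχ
    have hT := (Finset.mem_filter.1 hχ).2
    obtain ⟨e, -, he, hed, -⟩ := CharBasic.IsIrr.degree_dvd χ.2
    obtain ⟨i, -, rfl⟩ := (Nat.dvd_prime_pow hp).1 (hcardP ▸ hed)
    have hval : Cfsg.charDegree (χ : P → ℂ) = p ^ i := by
      have := (apply_one χ).symm.trans he
      exact_mod_cast this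
    refine ⟨i, Finset.mem_Ico.2 ⟨?_, ?_⟩, hval⟩
    · rcases Nat.eq_zero_or_pos i with rfl | hi
      · exfalso
        apply hT
        intro n hn
        obtain ⟨l, hl⟩ := IsChar.exists_hom_of_degree_one (CharBasic.IsIrr.isCharacter χ.2)
          (by simpa using he)
        rw [hl, hl, MonoidHom.mem_ker.1 (Abelianization.commutator_subset_ker l (hNc hn)), map_one]
      · exact hi
    · have hsq' := H84.charDegree_sq_le_index_center χ
      rw [hval, ← pow_mul] at hsq'
      have := (Nat.pow_le_pow_iff_right hp.one_lt).1 (hsq'.trans hZidx)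
      refine lt_of_le_of_ne (by omega) fun e => hT ?_
      subst e
      have hψ' : Cfsg.charDegree (fun g => (ψ : P ⧸ N → ℂ) (π g)) = p ^ i := by
        simp [Cfsg.charDegree, hd]
        exact_mod_cast Nat.floor_natCast (R := ℝ) (p ^ i)
      obtain ⟨k, -, hk⟩ := h ⟨_, IsIrr.comp ψ.2 π (QuotientGroup.mk'_surjective N)⟩ χ
        (by rw [hψ']; intro hc; exact hψ (by rw [hd, hc]; simp)) (hψ'.trans hval.symm)
      intro n hn
      rw [hk, hk, one_pow]
      show (ψ : P ⧸ N → ℂ) (π (n ^ k)) = (ψ : P ⧸ N → ℂ) (π 1)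
      rw [map_pow, (QuotientGroup.eq_one_iff n).2 hn |> (fun e => (show π n = 1 from e)), one_pow,
        map_one]
  have hcount : ∀ i ∈ Finset.Ico 1 s,
      (T.filter fun χ : Cfsg.IrrCharacter P => Nat.log p (Cfsg.charDegree (χ : P → ℂ)) = i).card ≤
        p ^ (m + 1) * (p - 1) := by
    intro i hi
    set Ti := T.filter fun χ : Cfsg.IrrCharacter P => Nat.log p (Cfsg.charDegree (χ : P → ℂ)) = i with hTi
    rcases Ti.eq_empty_or_nonempty with he | ⟨χ₀, hχ₀⟩
    · simp [he]
    have hd' : ∀ χ ∈ Ti, Cfsg.charDegree (χ : P → ℂ) = p ^ i := by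
      intro χ hχ
      obtain ⟨j, -, hj⟩ := hdeg χ (Finset.mem_filter.1 hχ).1
      have := (Finset.mem_filter.1 hχ).2
      rw [hj, Nat.log_pow hp.one_lt] at this
      rw [hj, this]
    have hi1 : p ^ i ≠ 1 :=
      (Nat.one_lt_pow (by have := (Finset.mem_Ico.1 hi).1; omega) hp.one_lt).ne'
    have hex : ∀ χ ∈ Ti, ∃ r ∈ (Finset.range (p ^ (m + 2))).filter fun k => (p ^ (m + 2)).Coprime k,
        ∀ g, (χ : P → ℂ) g = (χ₀ : P → ℂ) (g ^ r) := by
      intro χ hχ
      obtain ⟨k, hk, hkv⟩ := h χ₀ χ (by rw [hd' _ hχ₀]; exact hi1)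
        ((hd' _ hχ₀).trans (hd' _ hχ).symm)
      refine ⟨k % p ^ (m + 2), Finset.mem_filter.2
        ⟨Finset.mem_range.2 (Nat.mod_lt _ (pow_pos hp.pos _)), ?_⟩, fun g => ?_⟩
      · rw [hcardP, Nat.coprime_pow_right_iff (by omega)] at hk
        rw [Nat.coprime_pow_left_iff (by omega), hp.coprime_iff_not_dvd]
        intro hdv
        rw [Nat.dvd_mod_iff (dvd_pow_self p (by omega))] at hdv
        exact (hp.coprime_iff_not_dvd.1 hk.symm) hdv
      · rw [hkv, pow_eq_pow_mod k (hexp g)]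
    choose! r hr hrv using hex
    calc Ti.card ≤ ((Finset.range (p ^ (m + 2))).filter fun k => (p ^ (m + 2)).Coprime k).card :=
          Finset.card_le_card_of_injOn r hr fun a ha b hb e =>
            Subtype.ext (funext fun g => by rw [hrv a ha, hrv b hb, e])
      _ = p ^ (m + 1) * (p - 1) := by
          rw [← Nat.totient_eq_card_coprime, Nat.totient_prime_pow hp (by omega)]
          rfl
  have hbound : ∑ χ ∈ T, Cfsg.charDegree (χ : P → ℂ) ^ 2 ≤
      (∑ i ∈ Finset.Ico 1 s, p ^ (2 * i) * p) * (p ^ m * (p - 1)) := by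
    rw [← Finset.sum_fiberwise_of_maps_to (t := Finset.Ico 1 s)
      (g := fun χ : Cfsg.IrrCharacter P => Nat.log p (Cfsg.charDegree (χ : P → ℂ)))
      (fun χ hχ => by
        obtain ⟨j, hj, e⟩ := hdeg χ hχ
        rw [e, Nat.log_pow hp.one_lt]
        exact hj), Finset.sum_mul]
    refine Finset.sum_le_sum fun i hi => ?_
    refine (Finset.sum_le_card_nsmul _ _ (p ^ (2 * i)) fun χ hχ => ?_).trans ?_
    · obtain ⟨j, -, e⟩ := hdeg χ (Finset.mem_filter.1 hχ).1
      have := (Finset.mem_filter.1 hχ).2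
      rw [e, Nat.log_pow hp.one_lt] at this
      rw [e, this, ← pow_mul, mul_comm]
    · rw [smul_eq_mul]
      refine (Nat.mul_le_mul_right _ (hcount i hi)).trans (le_of_eq ?_)
      ring
  have hlt := Nat.mul_lt_mul_of_pos_right (geom_bound hp.two_le s)
    (Nat.mul_pos (pow_pos hp.pos m) (Nat.sub_pos_of_lt hp.one_lt))
  have heq : p ^ (2 * s + m + 1) = p ^ (2 * s) * (p ^ m * (p - 1)) + p ^ (2 * s + m) := by
    obtain ⟨q, rfl⟩ : ∃ q, p = q + 1 := ⟨p - 1, by have := hp.one_lt; omega⟩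
    rw [Nat.add_sub_cancel]; ring
  omega

/-- The hypothesis forces the derived subgroup to have order `p`. -/
theorem card_commutator {p : ℕ} [Fact p.Prime] :
    ∀ (n : ℕ) (P : Type u) [Group P] [Finite P], Nat.card P = n → IsPGroup p P → ConjDeg P →
      commutator P ≠ ⊥ → Nat.card (commutator P) = p := by
  intro n
  induction n using Nat.strong_induction_on with
  | _ n ih =>
    intro P _ _ hn hP h hne
    have hp : p.Prime := Fact.out
    cases nonempty_fintype P
    obtain ⟨z, hz, hzc, ho⟩ := PGroups.exists_mem_center_orderOf_eq hP (commutator P) hne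
    haveI : (Subgroup.zpowers z).Normal :=
      PGroups.normal_of_le_center (Subgroup.zpowers_le.2 hzc)
    set N := Subgroup.zpowers z with hN
    have hNcard : Nat.card N = p := by rw [hN, Nat.card_zpowers, ho]
    have hNc : N ≤ commutator P := Subgroup.zpowers_le.2 hz
    by_cases hc : commutator (P ⧸ N) = ⊥
    · suffices hle : commutator P ≤ N by rw [le_antisymm hle hNc, hNcard]
      haveI : IsMulCommutative (P ⧸ N) := ⟨⟨fun a b => by
        have : ⁅a, b⁆ ∈ commutator (P ⧸ N) :=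
          Subgroup.commutator_mem_commutator (Subgroup.mem_top _) (Subgroup.mem_top _)
        rw [hc, Subgroup.mem_bot, commutatorElement_eq_one_iff_mul_comm] at this
        exact this⟩⟩
      exact Subgroup.Normal.quotient_commutative_iff_commutator_le.1 inferInstance
    · exfalso
      have hlt : Nat.card (P ⧸ N) < n := by
        rw [← hn, N.card_eq_card_quotient_mul_card_subgroup, hNcard]
        exact lt_mul_right Nat.card_pos hp.one_lt
      exact derived_step hP h N (Subgroup.zpowers_le.2 hzc) hNc hNcard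
        (ih _ hlt (P ⧸ N) rfl (hP.to_quotient N) (conjDeg_quotient h N) hc)

/-- Let p be a prime and P a finite non-commutative p-group. Then every two irreducible characters of P of the same degree greater than 1 are Galois conjugate (one is obtained from the other by composing with g ↦ g^k for some k prime to the order of P) if and only if the centre of P is cyclic and the derived subgroup of P has order p. -/
theorem result {P : Type*} [Group P] [Finite P] (p : ℕ) [Fact p.Prime] (hP : IsPGroup p P) (hna : ¬ IsMulCommutative P) :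
    (∀ χ ψ : Cfsg.IrrCharacter P, Cfsg.charDegree (χ : P → ℂ) ≠ 1 → Cfsg.charDegree (χ : P → ℂ) = Cfsg.charDegree (ψ : P → ℂ) → ∃ k : ℕ, Nat.Coprime k (Nat.card P) ∧ ∀ g : P, (ψ : P → ℂ) g = (χ : P → ℂ) (g ^ k)) ↔
      (IsCyclic (Subgroup.center P) ∧ Nat.card (commutator P) = p) := by
  classical
  cases nonempty_fintype P
  have hp : p.Prime := Fact.out
  have hne : commutator P ≠ ⊥ := fun e => hna ⟨⟨fun a b => by
    have : ⁅a, b⁆ ∈ commutator P :=
      Subgroup.commutator_mem_commutator (Subgroup.mem_top _) (Subgroup.mem_top _)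
    rw [e, Subgroup.mem_bot, commutatorElement_eq_one_iff_mul_comm] at this
    exact this⟩⟩
  constructor
  · intro h
    have hc := card_commutator _ P rfl hP h hne
    exact ⟨center_cyclic hp h hc, hc⟩
  · rintro ⟨hZ, hc⟩ χ ψ h1 h2
    have hχ1 := apply_one_ne.2 h1
    have hψ1 := apply_one_ne.2 (h2 ▸ h1)
    obtain ⟨hfχ, hoχ, -⟩ := nonlinear_spec hP hc hZ χ.2 hχ1
    obtain ⟨hfψ, hoψ, -⟩ := nonlinear_spec hP hc hZ ψ.2 hψ1
    obtain ⟨ω, hω, -⟩ := H81.exists_centralHom (Subgroup.center P) le_rfl χ.2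
    obtain ⟨ω', hω', -⟩ := H81.exists_centralHom (Subgroup.center P) le_rfl ψ.2
    haveI := hZ
    obtain ⟨z, hz⟩ := IsCyclic.exists_generator (α := Subgroup.center P)
    have hinj : ∀ (φ : Cfsg.IrrCharacter P) (v : Subgroup.center P →* ℂ),
        (∀ (n : Subgroup.center P) (g : P), (φ : P → ℂ) (n * g) = v n * (φ : P → ℂ) g) →
        (∀ g, (φ : P → ℂ) g = (φ : P → ℂ) 1 → g = 1) →
        IsPrimitiveRoot (v z) (orderOf z) := by
      intro φ v hv hf
      suffices hv1 : ∀ a, v a = 1 → a = 1 by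
        rw [← orderOf_injective v ((injective_iff_map_eq_one v).2 hv1) z]
        exact IsPrimitiveRoot.orderOf (v z)
      intro a ha
      refine Subtype.ext (hf _ ?_)
      have e := hv a 1
      rwa [mul_one, ha, one_mul] at e
    have hzeta := hinj χ ω hω hfχ
    have hzeta' := hinj ψ ω' hω' hfψ
    haveI : NeZero (orderOf z) := ⟨(orderOf_pos z).ne'⟩
    obtain ⟨k, -, hk⟩ := hzeta.eq_pow_of_pow_eq_one hzeta'.pow_eq_one
    have hkc : k.Coprime (orderOf z) := by
      rw [← hk] at hzeta'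
      exact (hzeta.pow_iff_coprime (orderOf_pos z) k).1 hzeta'
    have hcentre : (commutator P) ≤ Subgroup.center P := PGroups.le_center_of_card_eq hP _ hc
    have hpz : p ∣ orderOf z := by
      rw [orderOf_eq_card_of_forall_mem_zpowers hz, ← hc]
      exact Subgroup.card_dvd_of_le hcentre
    have hkp : Nat.Coprime k p := Nat.Coprime.coprime_dvd_right hpz hkc
    have hkP : Nat.Coprime k (Nat.card P) := by
      obtain ⟨n, hn⟩ := IsPGroup.iff_card.1 hP
      rw [hn]
      exact Nat.Coprime.pow_right _ hkp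
    refine ⟨k, hkP, fun g => ?_⟩
    by_cases hg : g ∈ Subgroup.center P
    · obtain ⟨i, hi⟩ := (mem_powers_iff_mem_zpowers (x := z)).2 (hz ⟨g, hg⟩)
      have e : ω' ⟨g, hg⟩ = ω (⟨g, hg⟩ ^ k) := by
        rw [← hi, map_pow, ← hk, map_pow, map_pow, ← pow_mul, ← pow_mul, mul_comm]
      have e1 := hω' ⟨g, hg⟩ 1
      have e2 := hω (⟨g, hg⟩ ^ k) 1
      simp only [mul_one, SubgroupClass.coe_pow] at e1 e2
      rw [e1, e2, e, apply_one, apply_one, h2]
    · rw [hoψ g hg, hoχ]
      intro hgk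
      apply hg
      obtain ⟨j, hj⟩ := exists_pow_eq_self_of_coprime (x := g) (n := k)
        (Nat.Coprime.coprime_dvd_right (orderOf_dvd_natCard g) hkP)
      rw [← hj]
      exact Subgroup.pow_mem _ hgk j

end Cfsg.Agent.S4845
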