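import Cfsg.Statements.S4848
import Cfsg.Agent.S0191
import Cfsg.Agent.S4456
import Cfsg.Agent.S4558
import Cfsg.Agent.H79.Vanish.Basic
import Mathlib
-- import your own Cfsg.Agent.* helpers here

set_option autoImplicit false
open Cfsg

namespace Cfsg.Agent.S4848

/-- A vanishing `p`-element exists on every nonlinear character: its degree is divisible by `p`. -/
theorem degree_dvd {G : Type*} [Group G] [Finite G] (p : ℕ) [Fact p.Prime]
    (hvan : ∀ g : G, (∃ χ : Cfsg.IrrCharacter G, (χ : G → ℂ) g = 0) → ∃ m : ℕ, 1 ≤ m ∧ orderOf g = p ^ m)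
    (χ : Cfsg.IrrCharacter G) (hd : Cfsg.charDegree (χ : G → ℂ) ≠ 1) :
    p ∣ Cfsg.charDegree (χ : G → ℂ) := by
  obtain ⟨χ, hχ⟩ := χ
  have hc := CharBasic.IsIrr.isCharacter hχ
  obtain ⟨n, ρ, hρ, rfl⟩ := hχ
  have hdeg : Cfsg.charDegree ρ.character = Module.finrank ℂ (Fin n → ℂ) := by
    rw [Cfsg.charDegree, Representation.char_one, Complex.natCast_re, Nat.floor_natCast]
  have hpos := CharBasic.finrank_pos_of_isIrreducible ρ
  obtain ⟨g, hg⟩ := Cfsg.Agent.S0191.result ρ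
    (by rw [← hdeg] at hpos ⊢; have : Cfsg.charDegree ρ.character ≠ 1 := hd; omega)
  obtain ⟨m, -, hm⟩ := hvan g ⟨⟨ρ.character, n, ρ, hρ, rfl⟩, hg⟩
  exact Cfsg.Agent.S4558.result p _ hc g ⟨m, hm⟩ hg

/-- Let p be a prime and G a finite non-commutative group in which every vanishing element (an element at which some irreducible character is zero) has order a positive power of p. Then either G is a p-group, or the centre of G equals O_p(G) and G/Z(G) is a Frobenius group with a Frobenius complement of p-power order. -/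
theorem result {G : Type*} [Group G] [Finite G] (hna : ¬ IsMulCommutative G) (p : ℕ) [Fact p.Prime] (hvan : ∀ g : G, (∃ χ : Cfsg.IrrCharacter G, (χ : G → ℂ) g = 0) → ∃ m : ℕ, 1 ≤ m ∧ orderOf g = p ^ m) :
    IsPGroup p G ∨ (Subgroup.center G = Cfsg.pCore p G ∧ ∃ H : Subgroup (G ⧸ Subgroup.center G), Cfsg.IsFrobeniusComplement H ∧ IsPGroup p H) := by
  classical
  obtain ⟨N, hNn, hNc, k, hk⟩ := Cfsg.Agent.S4456.result p Fact.out (degree_dvd p hvan)
  let P : Sylow p G := default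
  have hp : p.Prime := Fact.out
  have hPi : P.1.index.Coprime p :=
    (Nat.coprime_comm.1 (hp.coprime_iff_not_dvd.2 P.not_dvd_index))
  obtain ⟨a, ha⟩ := IsPGroup.iff_card.1 P.2
  have hcardeq : Nat.card P.1 = N.index := by
    have h1 : Nat.card N * p ^ k = p ^ a * P.1.index := by
      rw [← hk, N.card_mul_index, ← ha, P.1.card_mul_index]
    rw [ha, hk]
    refine Nat.dvd_antisymm ?_ ?_
    · exact ((Nat.Coprime.pow_left a hNc.symm)).dvd_of_dvd_mul_left ⟨P.1.index, h1⟩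
    · exact ((Nat.Coprime.pow_left k hPi.symm)).dvd_of_dvd_mul_right ⟨Nat.card N, by rw [← h1, mul_comm]⟩
  have hcompl : Subgroup.IsComplement' N P.1 := by
    refine Subgroup.isComplement'_of_coprime (by rw [hcardeq, N.card_mul_index]) ?_
    rw [ha]; exact hNc.pow_right a
  have hdec : ∀ g : G, ∃ n ∈ N, ∃ u ∈ P.1, g = n * u := fun g => by
    obtain ⟨⟨⟨n, hn⟩, ⟨u, hu⟩⟩, h, -⟩ := hcompl.existsUnique g
    exact ⟨n, hn, u, hu, h.symm⟩
  have hinf : ∀ x : G, x ∈ N → x ∈ P.1 → x = 1 := fun x h1 h2 =>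
    (Subgroup.disjoint_def.1 hcompl.disjoint) h1 h2
  have hpN : ¬ p ∣ Nat.card N := hp.coprime_iff_not_dvd.1 hNc.symm
  have hPelt : ∀ u ∈ P.1, ∃ j, orderOf u = p ^ j := fun u hu => by
    obtain ⟨j, -, hj⟩ := (Nat.dvd_prime_pow hp).1 (ha ▸ Subgroup.orderOf_dvd_natCard P.1 hu)
    exact ⟨j, hj⟩
  have key : ∀ u ∈ P.1, u ∉ Subgroup.center G → ∀ n ∈ N,
      ∃ χ : Cfsg.IrrCharacter G, (χ : G → ℂ) (n * u) = 0 := by
    intro u hu hc n hn
    have hQ : IsPGroup p (G ⧸ N) := IsPGroup.of_card (n := k) (by rw [← hk]; rfl)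
    have := hQ.isNilpotent
    by_cases hu' : QuotientGroup.mk' N u ∈ Subgroup.center (G ⧸ N)
    · have hcomm : ∀ g : G, g * u * g⁻¹ * u⁻¹ ∈ N := fun g => by
        have h := Subgroup.mem_center_iff.1 hu' (QuotientGroup.mk' N g)
        simp only [QuotientGroup.mk'_apply] at h
        rw [← QuotientGroup.eq_one_iff]
        rw [QuotientGroup.mk_mul, QuotientGroup.mk_mul, QuotientGroup.mk_mul, QuotientGroup.mk_inv,
          QuotientGroup.mk_inv, h]
        group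
      have hPc : ∀ v ∈ P.1, v * u = u * v := fun v hv => by
        have h := hinf _ (hcomm v)
          (P.1.mul_mem (P.1.mul_mem (P.1.mul_mem hv hu) (P.1.inv_mem hv)) (P.1.inv_mem hu))
        rwa [mul_inv_eq_one, mul_inv_eq_iff_eq_mul] at h
      obtain ⟨θ, hθ⟩ : ∃ θ : Cfsg.IrrCharacter N,
          CharInduce.conjFun N (θ : N → ℂ) u ≠ (θ : N → ℂ) := by
        by_contra h
        push Not at h
        refine hc (Subgroup.mem_center_iff.2 fun g => ?_)
        obtain ⟨m, hm, v, hv, rfl⟩ := hdec g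
        have hm' := H79.Vanish.commute_of_forall_fixed N hpN (hPelt u hu) h m hm
        rw [mul_assoc, hPc v hv, ← mul_assoc, hm', mul_assoc]
      obtain ⟨χ, hχ⟩ := H79.Vanish.zero_on_coset N θ.2 hcomm hθ
      exact ⟨χ, hχ n hn⟩
    · obtain ⟨χ, hχ⟩ := H79.Vanish.exists_zero_of_nilpotent _ (G ⧸ N) rfl _ hu'
      refine ⟨⟨fun g => (χ : G ⧸ N → ℂ) (QuotientGroup.mk' N g),
        CharInduce.IsIrr.comp χ.2 (QuotientGroup.mk' N) (QuotientGroup.mk'_surjective _)⟩, ?_⟩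
      show (χ : G ⧸ N → ℂ) _ = 0
      have : QuotientGroup.mk' N n = 1 := (QuotientGroup.eq_one_iff n).2 hn
      rw [map_mul, this, one_mul]
      exact hχ
  have hfpf : ∀ n ∈ N, ∀ u ∈ P.1, n * u = u * n → (∃ χ : Cfsg.IrrCharacter G, (χ : G → ℂ) (n * u) = 0) →
      n = 1 := by
    intro n hn u hu hcom hz
    obtain ⟨m, -, hm⟩ := hvan _ hz
    have h1 : n ^ p ^ m * u ^ p ^ m = 1 := by
      rw [← Commute.mul_pow hcom, ← hm, pow_orderOf_eq_one]
    have h2 : n ^ p ^ m = 1 := hinf _ (N.pow_mem hn _)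
      (eq_inv_of_mul_eq_one_left h1 ▸ P.1.inv_mem (P.1.pow_mem hu _))
    have h3 := orderOf_dvd_of_pow_eq_one h2
    have h4 := Subgroup.orderOf_dvd_natCard N hn
    exact orderOf_eq_one_iff.1 (Nat.eq_one_of_dvd_coprimes (hNc.pow_right m) h4 h3)
  by_cases hNbot : N = ⊥
  · left
    refine IsPGroup.of_card (n := k) ?_
    rw [← hk, hNbot, Subgroup.index_bot]
  right
  obtain ⟨n₀, hn₀, hn₀1⟩ : ∃ n ∈ N, n ≠ 1 := by
    by_contra h
    push Not at h
    exact hNbot ((Subgroup.eq_bot_iff_forall _).2 h)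
  have hfree : ∀ u ∈ P.1, u ∉ Subgroup.center G → ∀ n ∈ N, n * u = u * n → n = 1 :=
    fun u hu hc n hn h => hfpf n hn u hu h (key u hu hc n hn)
  obtain ⟨u₀, hu₀, hu₀c⟩ : ∃ u ∈ P.1, u ∉ Subgroup.center G := by
    by_contra h
    push Not at h
    apply hna
    have hnl : ¬ ∀ χ : Cfsg.IrrCharacter G, (χ : G → ℂ) 1 = 1 :=
      fun h' => hna ⟨⟨CharBasic.commutative_iff_forall_linear.2 h'⟩⟩
    push Not at hnl
    obtain ⟨⟨χ, hχ⟩, hne⟩ := hnl
    obtain ⟨d, ρ, hρ, rfl⟩ := hχ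
    have hpos := CharBasic.finrank_pos_of_isIrreducible ρ
    have hd1 : Module.finrank ℂ (Fin d → ℂ) ≠ 1 := fun e => hne (by
      show ρ.character 1 = 1
      rw [Representation.char_one, e, Nat.cast_one])
    obtain ⟨g, hg⟩ := Cfsg.Agent.S0191.result ρ (by omega)
    obtain ⟨n, hn, u, hu, rfl⟩ := hdec g
    have hn1 : n = 1 := hfpf n hn u hu (Subgroup.mem_center_iff.1 (h u hu) n)
      ⟨⟨ρ.character, d, ρ, hρ, rfl⟩, hg⟩
    rw [hn1, one_mul] at hg
    exact absurd hg (H79.Vanish.ne_zero_of_mem_center ⟨d, ρ, hρ, rfl⟩ (h u hu))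
  have hZP : Subgroup.center G ≤ P.1 := by
    intro z hz
    obtain ⟨n, hn, u, hu, rfl⟩ := hdec z
    have hcu : n * u = u * n := by
      have h := Subgroup.mem_center_iff.1 hz u
      rw [← mul_assoc] at h
      exact (mul_right_cancel h).symm
    by_cases huc : u ∈ Subgroup.center G
    · have hnc : n ∈ Subgroup.center G := by
        simpa using Subgroup.mul_mem _ hz (Subgroup.inv_mem _ huc)
      rw [hfree u₀ hu₀ hu₀c n hn (Subgroup.mem_center_iff.1 hnc u₀).symm, one_mul]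
      exact hu
    · rw [hfree u hu huc n hn hcu, one_mul]
      exact hu
  refine ⟨le_antisymm ?_ ?_, ?_⟩
  · exact le_sSup ⟨inferInstance, P.2.to_le hZP⟩
  · refine sSup_le ?_
    rintro M ⟨hMn, hMp⟩
    have hMP : M ≤ P.1 := by
      have h1 : IsPGroup p (M ⊔ P.1 : Subgroup G) := hMp.to_sup_of_normal_left P.2
      exact le_sup_left.trans (P.3 h1 le_sup_right).le
    intro u hu
    by_contra hc
    refine hn₀1 (hfree u (hMP hu) hc n₀ hn₀ ?_)
    have h1 : n₀ * u * n₀⁻¹ * u⁻¹ ∈ M := M.mul_mem (hMn.conj_mem u hu n₀) (M.inv_mem hu)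
    have h2 : n₀ * u * n₀⁻¹ * u⁻¹ ∈ N := by
      rw [mul_assoc, mul_assoc, ← mul_assoc u]
      exact N.mul_mem hn₀ (hNn.conj_mem _ (N.inv_mem hn₀) u)
    have h3 := hinf _ h2 (hMP h1)
    rwa [mul_inv_eq_one, mul_inv_eq_iff_eq_mul] at h3
  let f := QuotientGroup.mk' (Subgroup.center G)
  have hmem : ∀ x, f x ∈ P.1.map f → x ∈ P.1 := by
    intro x hx
    obtain ⟨a, ha', he⟩ := Subgroup.mem_map.1 hx
    have := hZP ((QuotientGroup.eq).1 he)
    simpa using P.1.mul_mem ha' this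
  refine ⟨P.1.map f, ⟨?_, ?_, ?_⟩, P.2.map f⟩
  · intro h
    have : f u₀ = 1 := Subgroup.mem_bot.1 (h ▸ Subgroup.mem_map_of_mem f hu₀)
    exact hu₀c ((QuotientGroup.eq_one_iff u₀).1 this)
  · intro h
    exact hn₀1 (hinf _ hn₀ (hmem n₀ (h ▸ Subgroup.mem_top _)))
  · intro g hg
    obtain ⟨g, rfl⟩ := QuotientGroup.mk'_surjective _ g
    obtain ⟨n, hn, v, hv, rfl⟩ := hdec g
    have hn1 : n ≠ 1 := fun e => hg (by
      rw [e, one_mul]; exact Subgroup.mem_map_of_mem f hv)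
    rw [Subgroup.eq_bot_iff_forall]
    rintro x ⟨hx1, hx2⟩
    obtain ⟨y, hy, rfl⟩ := Set.mem_smul_set.1 hx2
    obtain ⟨b, hb, rfl⟩ := Subgroup.mem_map.1 hy
    rw [MulAut.smul_def, MulAut.conj_apply] at hx1 ⊢
    set c := v * b * v⁻¹ with hcdef
    have hc : c ∈ P.1 := P.1.mul_mem (P.1.mul_mem hv hb) (P.1.inv_mem hv)
    have he : QuotientGroup.mk' (Subgroup.center G) (n * v) * f b *
        (QuotientGroup.mk' (Subgroup.center G) (n * v))⁻¹ = f (n * c * n⁻¹) := by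
      simp only [f, hcdef, ← map_mul, ← map_inv]
      congr 1
      group
    rw [he] at hx1 ⊢
    have h1 := hmem _ hx1
    have h2 : n * c * n⁻¹ * c⁻¹ ∈ N := by
      rw [mul_assoc, mul_assoc, ← mul_assoc c]
      exact N.mul_mem hn (hNn.conj_mem _ (N.inv_mem hn) c)
    have h3 := hinf _ h2 (P.1.mul_mem h1 (P.1.inv_mem hc))
    rw [mul_inv_eq_one] at h3
    rw [h3]
    refine (QuotientGroup.eq_one_iff c).2 ?_
    by_contra hcc
    exact hn1 (hfree c hc hcc n hn (mul_inv_eq_iff_eq_mul.1 h3))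


end Cfsg.Agent.S4848
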