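import Cfsg.Statements.S4850
import Cfsg.Agent.H25.OneVanishing.Main
import Cfsg.Agent.H77.Subnormal

set_option autoImplicit false
open Cfsg

namespace Cfsg.Agent.S4850

/-- Let p be a prime and G a finite solvable group whose vanishing elements (elements at which some irreducible character is zero) of order divisible by p all have the same order, with at least one such element. Let P be a Sylow p-subgroup of G. Then the derived subgroup of P is subnormal in G and the image of P in G/O_p(G) is cyclic. -/
theorem result {G : Type*} [Group G] [Finite G] [hs : Group.IsSolvable G] (p : ℕ) [Fact p.Prime] (b : ℕ) (hvo : {n : ℕ | p ∣ n ∧ ∃ (g : G) (χ : Cfsg.IrrCharacter G), orderOf g = n ∧ (χ : G → ℂ) g = 0} = {b}) (P : Sylow p G) :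
    ((commutator ↥(P : Subgroup G)).map (P : Subgroup G).subtype).IsSubnormal ∧ IsCyclic ↥((P : Subgroup G).map (QuotientGroup.mk' (Cfsg.pCore p G))) := by
  classical
  have hb : ∀ g : G, H25.OneVanishing.Vanishes g → p ∣ orderOf g → orderOf g = b := by
    rintro g ⟨χ, hχ⟩ hd
    exact Set.mem_singleton_iff.mp (hvo.le ⟨hd, g, χ, rfl, hχ⟩)
  have hc := H25.OneVanishing.isCyclic_map_sylow b hb P
  refine ⟨?_, hc⟩
  set Q := (commutator ↥(P : Subgroup G)).map (P : Subgroup G).subtype with hQ
  have hle : Q ≤ Cfsg.pCore p G := by
    rw [hQ, commutator_def, Subgroup.map_commutator, ← MonoidHom.range_eq_map, Subgroup.range_subtype,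
      ← QuotientGroup.ker_mk' (Cfsg.pCore p G), ← Subgroup.map_eq_bot_iff, Subgroup.map_commutator,
      Subgroup.commutator_eq_bot_iff_le_centralizer, Subgroup.le_centralizer_iff_isMulCommutative]
    infer_instance
  exact Subgroup.IsSubnormal.trans hle
    (H77.isSubnormal_of_isNilpotent (Cores.pCore_isPGroup (p := p) (G := G)).isNilpotent _)
    (Subgroup.Normal.isSubnormal inferInstance)

end Cfsg.Agent.S4850
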