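import Cfsg.Statements.S4856
import Cfsg.Agent.BlockBasic.Center
-- import your own Cfsg.Agent.* helpers here

set_option autoImplicit false
open Cfsg

namespace Cfsg.Agent.S4856

/-- For an element z of a finite group G, the number of pairs (x, y) of elements with x y x⁻¹ y⁻¹ = z equals the order of G times the sum over the irreducible characters χ of χ(z)/χ(1). -/
theorem result {G : Type*} [Group G] [Finite G] (z : G) : (Nat.card {xy : G × G // xy.1 * xy.2 * xy.1⁻¹ * xy.2⁻¹ = z} : ℂ) = (Nat.card G : ℂ) * ∑ᶠ χ : Cfsg.IrrCharacter G, (χ : G → ℂ) z / (χ : G → ℂ) 1 := by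
  classical
  cases nonempty_fintype G
  have key : ∀ χ : Cfsg.IrrCharacter G, ∑ x : G, (χ : G → ℂ) (x * z) * (starRingEnd ℂ) ((χ : G → ℂ) x)
      = (Nat.card G : ℂ) * ((χ : G → ℂ) z / (χ : G → ℂ) 1) := by
    intro χ
    have hcl := Cfsg.Agent.CharBasic.IsIrr.isClassFunction χ.2
    let f : G → ℂ := fun g => (starRingEnd ℂ) ((χ : G → ℂ) g)
    have hf : Cfsg.IsClassFunction G f := fun g h => by simp only [f, hcl g h]
    have hc := Cfsg.Agent.BlockBasic.isCentralElt_ofFun hf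
    have h1 := Cfsg.Agent.BlockBasic.chiLin_central_mul χ.2 hc (MonoidAlgebra.single z 1)
    rw [Cfsg.Agent.BlockBasic.chiLin_single, one_mul, Cfsg.Agent.BlockBasic.omega] at h1
    have hsum : Cfsg.Agent.BlockBasic.chiLin (χ : G → ℂ) (Cfsg.Agent.BlockBasic.ofFun f) =
        (Nat.card G : ℂ) := by
      have h2 := Cfsg.Agent.CharBasic.classInner_irr_self χ.2
      rw [Cfsg.Agent.CharBasic.classInner_def, inv_mul_eq_iff_eq_mul₀
        (Nat.cast_ne_zero.2 Nat.card_pos.ne'), mul_one] at h2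
      rw [← h2, Cfsg.Agent.BlockBasic.chiLin]
      exact Finset.sum_congr rfl fun g _ => by rw [Cfsg.Agent.BlockBasic.coeff_ofFun, mul_comm]
    rw [hsum] at h1
    rw [show (Nat.card G : ℂ) * ((χ : G → ℂ) z / (χ : G → ℂ) 1) =
      (Nat.card G : ℂ) / (χ : G → ℂ) 1 * (χ : G → ℂ) z by ring, ← h1,
      Cfsg.Agent.BlockBasic.chiLin]
    refine Fintype.sum_equiv (Equiv.mulRight z) _ _ fun x => ?_
    simp only [Equiv.coe_mulRight, MonoidAlgebra.coeff_mul_single_apply,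
      Cfsg.Agent.BlockBasic.coeff_ofFun, mul_inv_cancel_right, mul_one, f]
    ring
  have hcount : ∀ x : G, (Nat.card {y : G // y * x⁻¹ * y⁻¹ = x⁻¹ * z} : ℂ) =
      ∑ χ : Cfsg.IrrCharacter G, (χ : G → ℂ) (x⁻¹ * z) * (starRingEnd ℂ) ((χ : G → ℂ) x⁻¹) :=
    fun x => (Cfsg.Agent.CharBasic.second_orthogonality_count _ _).symm
  have e : {xy : G × G // xy.1 * xy.2 * xy.1⁻¹ * xy.2⁻¹ = z} ≃
      (Σ x : G, {y : G // y * x⁻¹ * y⁻¹ = x⁻¹ * z}) :=
    { toFun := fun w => ⟨w.1.1, w.1.2, ((congrArg (w.1.1⁻¹ * ·) w.2).symm.trans (by group)).symm⟩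
      invFun := fun w => ⟨(w.1, w.2.1), by
        have h := w.2.2
        calc w.1 * w.2.1 * w.1⁻¹ * (w.2.1)⁻¹ = w.1 * (w.2.1 * w.1⁻¹ * (w.2.1)⁻¹) := by group
          _ = z := by rw [h]; group⟩
      left_inv := fun w => rfl
      right_inv := fun w => rfl }
  rw [Nat.card_congr e, Nat.card_sigma, Nat.cast_sum, finsum_eq_sum_of_fintype, Finset.mul_sum,
    Finset.sum_congr rfl fun x _ => hcount x, Finset.sum_comm]
  refine Finset.sum_congr rfl fun χ _ => ?_
  rw [← key χ]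
  exact Fintype.sum_equiv (Equiv.inv G) _ _ fun x => rfl

end Cfsg.Agent.S4856
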