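import Cfsg.Statements.S4859
import Cfsg.Agent.H85.RootCount
-- import your own Cfsg.Agent.* helpers here

set_option autoImplicit false
open Cfsg

namespace Cfsg.Agent.S4859

/-- Let p be an odd prime, G a finite group and x an element of G whose order is a power of p (possibly 1) and whose centralizer has even order. Let y be a 2-element of the centralizer of x whose order is largest among the 2-elements of that centralizer. Then x * y is not a square in G, and some non-principal real-valued irreducible character of G does not vanish at x * y. -/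
theorem result {G : Type*} [Group G] [Finite G] (p : ℕ) [Fact p.Prime] (hp : p ≠ 2) (x : G) (hx : ∃ k : ℕ, orderOf x = p ^ k) (heven : Even (Nat.card (Subgroup.centralizer ({x} : Set G)))) (y : G) (hy : y ∈ Subgroup.centralizer ({x} : Set G)) (hy2 : ∃ k : ℕ, orderOf y = 2 ^ k) (hmax : ∀ z ∈ Subgroup.centralizer ({x} : Set G), (∃ k : ℕ, orderOf z = 2 ^ k) → orderOf z ≤ orderOf y) : (¬ ∃ u : G, u * u = x * y) ∧ ∃ χ : Cfsg.IrrCharacter G, ¬ ((χ : G → ℂ) = fun _ => (1 : ℂ)) ∧ (∀ g : G, ((χ : G → ℂ) g).im = 0) ∧ (χ : G → ℂ) (x * y) ≠ 0 := by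
  classical
  cases nonempty_fintype G
  obtain ⟨k, hk⟩ := hx
  obtain ⟨l, hl⟩ := hy2
  have hpP : p.Prime := Fact.out
  have hxy : x * y = y * x := (Subgroup.mem_centralizer_singleton_iff.1 hy).symm
  have hl1 : 1 ≤ l := by
    have : Fact (Nat.Prime 2) := ⟨Nat.prime_two⟩
    obtain ⟨t, ht⟩ := exists_prime_orderOf_dvd_card'
      (G := Subgroup.centralizer ({x} : Set G)) 2 heven.two_dvd
    rw [← Subgroup.orderOf_coe] at ht
    have h := hmax t t.2 ⟨1, by rw [ht, pow_one]⟩
    rw [ht, hl] at h
    by_contra h0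
    rw [show l = 0 by omega] at h
    omega
  have hcop : Nat.Coprime (2 ^ l) (p ^ k) :=
    ((Nat.coprime_primes Nat.prime_two hpP).2 (Ne.symm hp)).pow l k
  have hnsq : ¬ ∃ u : G, u * u = x * y := by
    rintro ⟨u, hu⟩
    have hcom : Commute u (x * y) := by rw [← hu]; exact (Commute.refl u).mul_right (Commute.refl u)
    have hxmem : x ∈ Subgroup.zpowers (x * y) := by
      have h2 : (x * y) ^ 2 ^ l = x ^ 2 ^ l := by
        rw [Commute.mul_pow (show Commute x y from hxy), ← hl, pow_orderOf_eq_one, mul_one]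
      obtain ⟨e, he⟩ := exists_pow_eq_self_of_coprime (show Nat.Coprime (2 ^ l) (orderOf x) by rw [hk]; exact hcop)
      suffices h3 : (x ^ 2 ^ l) ^ e ∈ Subgroup.zpowers (x * y) by rwa [he] at h3
      rw [← h2]
      exact Subgroup.pow_mem _ (Subgroup.pow_mem _ (Subgroup.mem_zpowers (x * y)) _) _
    have hcx : Commute u x := by
      obtain ⟨i, hi⟩ := Subgroup.mem_zpowers_iff.1 hxmem
      rw [← hi]
      exact hcom.zpow_right i
    set w := u ^ p ^ k with hw
    have hww : w ^ 2 = y ^ p ^ k := by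
      rw [hw, ← pow_mul, mul_comm, pow_mul, sq, hu, Commute.mul_pow (show Commute x y from hxy),
        ← hk, pow_orderOf_eq_one, one_mul]
    have hord2 : orderOf (w ^ 2) = 2 ^ l := by
      rw [hww, Nat.Coprime.orderOf_pow (by rw [hl]; exact hcop), hl]
    have hword : orderOf w = 2 ^ (l + 1) := by
      have : Fact (Nat.Prime 2) := ⟨Nat.prime_two⟩
      refine orderOf_eq_prime_pow ?_ ?_
      · intro h
        have : (w ^ 2) ^ 2 ^ (l - 1) = 1 := by
          rw [← pow_mul, ← pow_succ', show l - 1 + 1 = l by omega]; exact h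
        have hd := orderOf_dvd_of_pow_eq_one this
        rw [hord2, Nat.pow_dvd_pow_iff_le_right one_lt_two] at hd
        omega
      · rw [pow_succ', pow_mul, ← hord2, pow_orderOf_eq_one]
    have hle := hmax w (Subgroup.mem_centralizer_singleton_iff.2
      ((hcx.pow_left _).eq)) ⟨l + 1, hword⟩
    rw [hword, hl, Nat.pow_le_pow_iff_right one_lt_two] at hle
    omega
  refine ⟨hnsq, ?_⟩
  have h := Cfsg.Agent.H85.card_sqrt_eq_sum (x * y)
  have : IsEmpty {u : G // u * u = x * y} := ⟨fun u => hnsq ⟨u.1, u.2⟩⟩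
  rw [Nat.card_of_isEmpty, Nat.cast_zero] at h
  by_contra hno
  push Not at hno
  let tr : Cfsg.IrrCharacter G := ⟨_, Cfsg.Agent.CharBasic.isIrrCharacter_one⟩
  rw [Finset.sum_eq_single tr] at h
  · simp [tr, Nat.card_eq_fintype_card] at h
  · intro χ _ hχ
    by_cases hr : ∀ g : G, ((χ : G → ℂ) g).im = 0
    · rw [hno χ (fun e => hχ (Subtype.ext e)) hr, mul_zero]
    · rw [Cfsg.Agent.H85.sum_sq_eq_zero_of_nonreal χ.2 fun e => hr fun g =>
        Complex.conj_eq_iff_im.1 (e g), mul_zero, zero_mul]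
  · exact fun h' => absurd (Finset.mem_univ _) h'

end Cfsg.Agent.S4859
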