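import Cfsg.Statements.S4860
import Cfsg.Agent.H5.RealPrincipal

set_option autoImplicit false
open Cfsg

namespace Cfsg.Agent.S4860

/-- Let G be a finite group, p an odd prime and M a maximal ideal of the algebraic integers containing p. If the principal p-block of G contains a non-principal real-valued irreducible character α, then it contains a non-principal real-valued irreducible character β different from α, and β may be chosen so that no field automorphism of ℂ carries α to β. -/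
theorem result {G : Type*} [Group G] [Finite G] (p : ℕ) [Fact p.Prime] (hp : p ≠ 2) (M : Ideal Cfsg.AlgInt) (hM : Cfsg.IsPModular p M) (α : Cfsg.IrrCharacter G) (hα : α ∈ Cfsg.principalBlock M G) (hα1 : ¬ ((α : G → ℂ) = fun _ => (1 : ℂ))) (hαr : (∀ g : G, ((α : G → ℂ) g).im = 0)) : ∃ β : Cfsg.IrrCharacter G, β ∈ Cfsg.principalBlock M G ∧ ¬ ((β : G → ℂ) = fun _ => (1 : ℂ)) ∧ (∀ g : G, ((β : G → ℂ) g).im = 0) ∧ β ≠ α ∧ ∀ σ : ℂ ≃+* ℂ, (β : G → ℂ) ≠ (σ : ℂ → ℂ) ∘ (α : G → ℂ) := by
  classical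
  cases nonempty_fintype G
  by_contra hno
  push Not at hno
  set S : Cfsg.IrrCharacter G → ℂ := fun χ => ∑ x : G with ¬ p ∣ orderOf x, (χ : G → ℂ) x with hS
  have hS0 : S α ≠ 0 := (Cores.mem_principalBlock_iff_sum_regular hM α).1 hα
  have hα0 : α ≠ BlockBasic.trivialIrr := fun h => hα1 (congrArg Subtype.val h)
  have hfs : ∀ χ : Cfsg.IrrCharacter G, H81.SmallBlock.ind χ = H24.FS.ind (χ : G → ℂ) :=
    fun χ => rfl
  set ν := H24.FS.ind (α : G → ℂ) with hν
  have hν1 : ν = 1 ∨ ν = -1 := H24.FS.ind_eq_one_or α.2 hαr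
  have key : ∀ χ ∈ (H81.SmallBlock.prin M G).erase BlockBasic.trivialIrr,
      (starRingEnd ℂ) (H81.SmallBlock.ind χ) * S χ =
        if (∀ g, ((χ : G → ℂ) g).im = 0) then ν * S α else 0 := by
    intro χ hχ
    obtain ⟨hne, hmem⟩ := Finset.mem_erase.1 hχ
    split_ifs with hr
    · obtain ⟨σ, hσ⟩ : ∃ σ : ℂ ≃+* ℂ, (χ : G → ℂ) = (σ : ℂ → ℂ) ∘ (α : G → ℂ) := by
        by_cases he : χ = α
        · exact ⟨RingEquiv.refl ℂ, by rw [he]; rfl⟩
        · exact hno χ (H81.SmallBlock.mem_prin.1 hmem) (fun h => hne (Subtype.ext h)) hr he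
      have h1 : S χ = S α := by
        simp only [hS]
        conv_rhs => rw [← H5.RealPrincipal.sum_regular_fixed p σ (CharBasic.IsIrr.isCharacter α.2)]
        rw [map_sum]
        simp only [hσ, Function.comp_apply]
      have h2 : H81.SmallBlock.ind χ = ν := by
        have h3 : H24.FS.ind (χ : G → ℂ) = σ ν := by
          simp only [hν, H24.FS.ind, hσ, Function.comp_apply, map_mul, map_inv₀, map_natCast,
            map_sum]
        rw [hfs, h3]
        rcases hν1 with e | e <;> simp [e]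
      rw [h1, h2]
      rcases hν1 with e | e <;> simp [e]
    · rw [hfs, H24.FS.ind_eq_zero χ.2 hr, map_zero, zero_mul]
  have h := H5.RealPrincipal.sum_ind_regular (G := G) hM hp
  rw [Finset.sum_congr rfl key, Finset.sum_ite, Finset.sum_const_zero, add_zero, Finset.sum_const,
    nsmul_eq_mul] at h
  refine mul_ne_zero (Nat.cast_ne_zero.2 (Finset.card_ne_zero.2 ⟨α, ?_⟩))
    (mul_ne_zero ?_ hS0) h
  · simp [hα0, H81.SmallBlock.mem_prin.2 hα, hαr]
  · rcases hν1 with e | e <;> simp [e]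

end Cfsg.Agent.S4860
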