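import Cfsg.Statements.S4862
import Cfsg.Agent.H85.RealOver
-- import your own Cfsg.Agent.* helpers here

set_option autoImplicit false
open Cfsg

namespace Cfsg.Agent.S4862

/-- Let p be an odd prime and G a finite group such that the subgroup generated by the p-elements of G is solvable and every real-valued irreducible complex character of G has degree prime to p. Let K be the subgroup generated by the 2-elements of G and P a Sylow p-subgroup of G. Then every normal subgroup M of G contained in K and in the derived subgroup of P is centralized by K. -/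
theorem result {G : Type*} [Group G] [Finite G] (p : ℕ) [Fact p.Prime] (hp : p ≠ 2) (hsolv : Group.IsSolvable ↥(Subgroup.closure {g : G | ∃ k : ℕ, orderOf g = p ^ k})) (hreal : ∀ χ : Cfsg.IrrCharacter G, (∀ g : G, ((χ : G → ℂ) g).im = 0) → ¬ p ∣ Cfsg.charDegree (χ : G → ℂ)) (P : Sylow p G) (M : Subgroup G) (hM : M.Normal) (hMK : M ≤ (Subgroup.closure {g : G | ∃ k : ℕ, orderOf g = 2 ^ k})) (hMP : M ≤ ⁅(P : Subgroup G), (P : Subgroup G)⁆) : (Subgroup.closure {g : G | ∃ k : ℕ, orderOf g = 2 ^ k}) ≤ Subgroup.centralizer (M : Set G) := by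
  classical
  cases nonempty_fintype G
  cases nonempty_fintype M
  have hMP' : M ≤ (P : Subgroup G) := hMP.trans (Subgroup.commutator_le_self _)
  have hMp : IsPGroup p M := P.isPGroup'.to_le hMP'
  rw [Subgroup.closure_le]
  rintro t ⟨k, hk⟩
  rw [SetLike.mem_coe, Subgroup.mem_centralizer_iff]
  by_contra hnc
  obtain ⟨lam, hlam, g, hg⟩ := H85.exists_inverted_linear M hp hMp hk
    (fun h => hnc fun m hm => (h m hm).symm)
  obtain ⟨χ, hχr, hχo⟩ := H85.exists_real_over M hp hMp lam hlam hg
  cases nonempty_fintype (P : Subgroup G)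
  obtain ⟨l, hl⟩ := H85.exists_linear_constituent P.isPGroup'
    (CharInduce.IsChar.res (CharBasic.IsIrr.isCharacter χ.2) (P : Subgroup G))
    (d := Cfsg.charDegree (χ : G → ℂ))
    (by simpa using BlockBasic.apply_one_eq_charDegree χ) (hreal χ hχr)
  have hker : ∀ n : M, l ⟨n, hMP' n.2⟩ = 1 := by
    intro n
    have hle : ⁅(P : Subgroup G), (P : Subgroup G)⁆ ≤ l.ker.map (P : Subgroup G).subtype := by
      rw [Subgroup.commutator_le]
      intro a ha b hb
      refine ⟨(⟨a, ha⟩ : (P : Subgroup G)) * ⟨b, hb⟩ * (⟨a, ha⟩ : (P : Subgroup G))⁻¹ *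
        (⟨b, hb⟩ : (P : Subgroup G))⁻¹, ?_, rfl⟩
      rw [SetLike.mem_coe, MonoidHom.mem_ker, map_mul, map_mul, map_mul, map_inv, map_inv,
        mul_comm (l ⟨a, ha⟩), mul_inv_cancel_right, mul_inv_cancel]
    obtain ⟨y, hy, e⟩ := hle (hMP n.2)
    rw [show (⟨n, hMP' n.2⟩ : (P : Subgroup G)) = y from Subtype.ext e.symm]
    exact MonoidHom.mem_ker.1 hy
  obtain ⟨r, hr, hsum⟩ := CharInduce.IsChar.exists_eq_add
    (CharInduce.IsChar.res (CharBasic.IsIrr.isCharacter χ.2) (P : Subgroup G))
    (CharInduce.isIrrCharacter_hom l) hl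
  have h1 : Cfsg.classInner (fun n : M => (χ : G → ℂ) n) (fun n => ((1 : M →* ℂˣ) n : ℂ)) ≠ 0 := by
    obtain ⟨a, ha⟩ := CharBasic.classInner_isChar_nat
      (CharInduce.IsChar.comp hr (Subgroup.inclusion hMP'))
      (CharBasic.IsIrr.isCharacter (CharInduce.isIrrCharacter_hom (1 : M →* ℂˣ)))
    have e : (fun n : M => (χ : G → ℂ) n) = (fun n => ((1 : M →* ℂˣ) n : ℂ)) +
        fun n => r (Subgroup.inclusion hMP' n) := by
      funext n
      have := congrFun hsum (Subgroup.inclusion hMP' n)
      rw [Pi.add_apply, Subgroup.coe_inclusion] at this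
      rw [this, show l (Subgroup.inclusion hMP' n) = 1 from hker n]
      simp
    rw [e, CharBasic.classInner_add_left,
      CharBasic.classInner_irr_self (CharInduce.isIrrCharacter_hom _), ha]
    exact_mod_cast (by omega : (1 + a) ≠ 0)
  obtain ⟨x, hx⟩ := CharInduce.exists_conjFun_eq_of_constituent M χ.2
    (CharInduce.isIrrCharacter_hom (1 : M →* ℂˣ)) (CharInduce.isIrrCharacter_hom lam) h1 hχo
  refine hlam (MonoidHom.ext fun n => Units.ext ?_)
  have := congrFun hx n
  simpa [CharInduce.conjFun] using this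

end Cfsg.Agent.S4862
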