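import Cfsg.Statements.S4871
import Cfsg.Agent.H85.StrongReal
import Cfsg.Agent.CharBasic.Kernel
-- import your own Cfsg.Agent.* helpers here

set_option autoImplicit false
open Cfsg

namespace Cfsg.Agent.S4871

/-- Let G be a finite group that is the semidirect product of a normal elementary abelian subgroup N of odd order by a non-trivial 2-subgroup P, with N the unique minimal normal subgroup of G. Consider the strongly real irreducible complex characters of G (Frobenius–Schur indicator +1) whose degree is 1 or even. Then their average degree is at least 4/3: four times their number is at most three times the sum of their degrees. -/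
theorem result {G : Type*} [Group G] [Finite G] (N P : Subgroup G) (hN : N.Normal) (q : ℕ) [Fact q.Prime] (hq : q ≠ 2) (hNel : Cfsg.IsElementaryAbelian q N) (hP : IsPGroup 2 ↥P) (hP1 : P ≠ ⊥) (hdisj : N ⊓ P = ⊥) (hprod : N ⊔ P = ⊤) (hmin : N ≠ ⊥ ∧ ∀ M : Subgroup G, M.Normal → M ≠ ⊥ → N ≤ M) : 4 * Nat.card {χ : Cfsg.IrrCharacter G // (Cfsg.charDegree (χ : G → ℂ) = 1 ∨ 2 ∣ Cfsg.charDegree (χ : G → ℂ)) ∧ (Nat.card G : ℂ)⁻¹ * ∑ᶠ g : G, (χ : G → ℂ) (g * g) = 1} ≤ 3 * (∑ᶠ χ : {χ : Cfsg.IrrCharacter G // (Cfsg.charDegree (χ : G → ℂ) = 1 ∨ 2 ∣ Cfsg.charDegree (χ : G → ℂ)) ∧ (Nat.card G : ℂ)⁻¹ * ∑ᶠ g : G, (χ : G → ℂ) (g * g) = 1}, Cfsg.charDegree (χ.1 : G → ℂ)) := by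
  classical
  cases nonempty_fintype G
  cases nonempty_fintype N
  obtain ⟨hN0, hNmin⟩ := hmin
  have hq2 : q % 2 = 1 :=
    Nat.odd_iff.1 ((Nat.Prime.eq_two_or_odd' Fact.out).resolve_left hq)
  have hNc : ∀ a ∈ N, ∀ b ∈ N, a * b = b * a := fun a ha b hb =>
    congrArg Subtype.val (hNel.1.is_comm.comm ⟨a, ha⟩ ⟨b, hb⟩)
  -- normal subgroups from the decomposition
  have hgen : ∀ K : Subgroup G, (∀ n ∈ N, ∀ k ∈ K, n * k * n⁻¹ ∈ K) →
      (∀ p ∈ P, ∀ k ∈ K, p * k * p⁻¹ ∈ K) → K.Normal := by
    intro K h1 h2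
    refine ⟨fun k hk g => ?_⟩
    have hg : g ∈ N ⊔ P := hprod ▸ Subgroup.mem_top g
    obtain ⟨n, hn, p, hp, rfl⟩ := Subgroup.mem_sup_of_normal_left.1 hg
    rw [show n * p * k * (n * p)⁻¹ = n * (p * k * p⁻¹) * n⁻¹ by group]
    exact h1 n hn _ (h2 p hp k hk)
  have hfaith : P ⊓ Subgroup.centralizer (N : Set G) = ⊥ := by
    by_contra h
    have hnorm : (P ⊓ Subgroup.centralizer (N : Set G)).Normal := by
      refine hgen _ (fun n hn k hk => ?_) fun p hp k hk => ?_
      · have := Subgroup.mem_centralizer_iff.1 hk.2 n hn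
        rw [this, mul_inv_cancel_right]
        exact hk
      · refine Subgroup.mem_inf.2 ⟨P.mul_mem (P.mul_mem hp hk.1) (P.inv_mem hp), ?_⟩
        exact (Subgroup.normal_centralizer (H := N)).conj_mem k hk.2 p
    have hle := hNmin _ hnorm h
    exact hN0 (eq_bot_iff.2 fun x hx => hdisj.le ⟨hx, (hle hx).1⟩)
  -- the central involution
  haveI : Nontrivial P := (Subgroup.nontrivial_iff_ne_bot P).2 hP1
  obtain ⟨⟨zc, hzc⟩, hz⟩ := exists_prime_orderOf_dvd_card' (G := Subgroup.center P) 2 (by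
    obtain ⟨k, hk, e⟩ := (hP.to_subgroup (Subgroup.center P)).nontrivial_iff_card.1
      hP.center_nontrivial
    exact e ▸ dvd_pow_self 2 (by omega))
  rw [Subgroup.orderOf_mk] at hz
  rw [← Subgroup.orderOf_coe] at hz
  obtain ⟨z, hzP⟩ := zc
  dsimp only at hz
  have hz2 : z * z = 1 := by
    have := pow_orderOf_eq_one z
    rwa [hz, pow_two] at this
  have hzcomm : ∀ p ∈ P, p * z = z * p := fun p hp =>
    congrArg Subtype.val (Subgroup.mem_center_iff.1 hzc ⟨p, hp⟩)
  have hz1 : z ≠ 1 := fun h => by rw [h, orderOf_one] at hz; omega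
  have hinv : ∀ n ∈ N, z * n * z⁻¹ = n⁻¹ := by
    intro n hn
    have hzi : z⁻¹ = z := inv_eq_of_mul_eq_one_right hz2
    have hM : N ⊓ Subgroup.centralizer ({z} : Set G) = ⊥ := by
      by_contra h
      have hnorm : (N ⊓ Subgroup.centralizer ({z} : Set G)).Normal := by
        refine hgen _ (fun m hm k hk => ?_) fun p hp k hk => ?_
        · rw [hNc m hm k hk.1, mul_inv_cancel_right]
          exact hk
        · refine Subgroup.mem_inf.2 ⟨hN.conj_mem _ hk.1 p, ?_⟩
          rw [Subgroup.mem_centralizer_singleton_iff]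
          have h1 := Subgroup.mem_centralizer_singleton_iff.1 hk.2
          have h2 := hzcomm p hp
          have h3 : p⁻¹ * z = z * p⁻¹ := by
            rw [eq_mul_inv_iff_mul_eq, mul_assoc, ← h2, inv_mul_cancel_left]
          calc p * k * p⁻¹ * z = p * (k * z) * p⁻¹ := by simp only [mul_assoc, h3]
            _ = z * (p * k * p⁻¹) := by rw [h1, ← mul_assoc, h2]; simp only [mul_assoc]
      have hle := hNmin _ hnorm h
      have : z ∈ P ⊓ Subgroup.centralizer (N : Set G) := Subgroup.mem_inf.2 ⟨hzP,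
        Subgroup.mem_centralizer_iff.2 fun m hm =>
          Subgroup.mem_centralizer_singleton_iff.1 (hle hm).2⟩
      rw [hfaith, Subgroup.mem_bot] at this
      exact hz1 this
    have hmem : n * (z * n * z⁻¹) ∈ N ⊓ Subgroup.centralizer ({z} : Set G) := by
      refine Subgroup.mem_inf.2 ⟨N.mul_mem hn (hN.conj_mem n hn z), ?_⟩
      rw [Subgroup.mem_centralizer_singleton_iff]
      have hc := hNc n hn _ (hN.conj_mem n hn z)
      calc n * (z * n * z⁻¹) * z = z * n * z⁻¹ * n * z := by rw [hc]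
        _ = z * (n * (z * n * z⁻¹)) := by rw [hzi]; simp only [mul_assoc]
    rw [hM, Subgroup.mem_bot, mul_eq_one_iff_inv_eq] at hmem
    exact hmem.symm
  -- a nontrivial linear character of `N`
  obtain ⟨lam, hlam⟩ : ∃ lam : N →* ℂˣ, ∃ n, lam n * lam n ≠ 1 := by
    obtain ⟨n, hn⟩ : ∃ n : N, n ≠ 1 := by
      haveI := (Subgroup.nontrivial_iff_ne_bot N).2 hN0
      exact exists_ne 1
    obtain ⟨χ, hχ⟩ := CharBasic.exists_irr_ne_of_ne_one hn
    have h1 : (χ : N → ℂ) 1 = 1 :=
      CharBasic.commutative_iff_forall_linear.1 (fun a b => Subtype.ext (hNc a a.2 b b.2)) χ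
    obtain ⟨l, hl⟩ :=
      CharInduce.IsChar.exists_hom_of_degree_one (CharBasic.IsIrr.isCharacter χ.2) h1
    refine ⟨l, n, fun h => hχ ?_⟩
    have hq1 : l n ^ q = 1 := by
      rw [← map_pow, show n ^ q = 1 from Subtype.ext (hNel.2 n n.2), map_one]
    rw [← Nat.div_add_mod q 2, hq2, pow_succ, pow_mul, pow_two, h, one_pow, one_mul] at hq1
    rw [h1, hl, hq1, Units.val_one]
  obtain ⟨hzT, hrel, hex⟩ := H85.exists_strongly_real hdisj hprod lam hlam hzP hz2 hzcomm hinv _ rfl
  set T := CharInduce.inertia N (fun n => (lam n : ℂ)) with hTdef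
  have hNT : N ≤ T := CharInduce.le_inertia N
    (CharBasic.IsIrr.isClassFunction (CharInduce.isIrrCharacter_hom lam))
  choose η hηirr hηN hηP hην using hex
  have ho : 2 ∣ T.index ∧ 2 ≤ T.index := by
    have h1 : T.index ≠ 1 := fun h => hzT (Subgroup.index_eq_one.1 h ▸ Subgroup.mem_top z)
    obtain ⟨k, hk⟩ := hP.index ((T ⊓ P).subgroupOf P)
    change (T ⊓ P).relIndex P = 2 ^ k at hk
    rw [hrel] at hk
    have h0 : k ≠ 0 := fun h => h1 (by rw [hk, h, pow_zero])
    have hd : 2 ∣ T.index := hk ▸ dvd_pow_self 2 h0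
    exact ⟨hd, Nat.le_of_dvd (Nat.pos_of_ne_zero Subgroup.index_ne_zero_of_finite) hd⟩
  let A := {l : P →* ℂˣ // ∀ x, l x * l x = 1}
  let B := {β : ↥(T ⊓ P) →* ℂˣ // ∀ x, β x * β x = 1}
  haveI : Fintype A := Fintype.ofFinite A
  haveI : Fintype B := Fintype.ofFinite B
  -- restriction to `T ⊓ P` has small fibres
  have hAB : Fintype.card A ≤ T.index * Fintype.card B := by
    let R : A → B := fun l => ⟨l.1.comp (Subgroup.inclusion inf_le_right), fun x => l.2 _⟩
    have hfib : ∀ b, (Finset.univ.filter fun l => R l = b).card ≤ T.index := by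
      intro b
      rcases (Finset.univ.filter fun l => R l = b).eq_empty_or_nonempty with h | ⟨l0, h0⟩
      · simp [h]
      rw [Finset.mem_filter] at h0
      set K := (T ⊓ P).subgroupOf P
      let F : {l : A // l ∈ Finset.univ.filter fun l => R l = b} → (P ⧸ K → ℂ) := fun l c =>
        Quotient.liftOn' c (fun x => ((l.1.1 x / l0.1 x : ℂˣ) : ℂ)) fun x y hxy => by
          rw [QuotientGroup.leftRel_apply] at hxy
          have hy : y = x * (x⁻¹ * y) := (mul_inv_cancel_left x y).symm
          have he : l.1.1 (x⁻¹ * y) = l0.1 (x⁻¹ * y) := by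
            have := congrArg Subtype.val ((Finset.mem_filter.1 l.2).2.trans h0.2.symm)
            exact DFunLike.congr_fun this ⟨((x⁻¹ * y : P) : G), hxy⟩
          show ((l.1.1 x / l0.1 x : ℂˣ) : ℂ) = ((l.1.1 y / l0.1 y : ℂˣ) : ℂ)
          have h1 : l.1.1 y = l.1.1 x * l.1.1 (x⁻¹ * y) := by rw [← map_mul, ← hy]
          have h2 : l0.1 y = l0.1 x * l0.1 (x⁻¹ * y) := by rw [← map_mul, ← hy]
          rw [h1, h2, he, mul_div_mul_right_eq_div]
      have hli : LinearIndependent ℂ F := by
        refine LinearIndependent.of_comp (LinearMap.funLeft ℂ ℂ (QuotientGroup.mk : P → P ⧸ K)) ?_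
        refine (linearIndependent_monoidHom P ℂ).comp
          (fun l : {l : A // l ∈ Finset.univ.filter fun l => R l = b} =>
            (Units.coeHom ℂ).comp (l.1.1 / l0.1)) fun l l' h => ?_
        refine Subtype.ext (Subtype.ext (MonoidHom.ext fun x => ?_))
        have hx : l.1.1 x / l0.1 x = l'.1.1 x / l0.1 x := Units.ext (DFunLike.congr_fun h x)
        exact div_left_injective hx
      have := hli.fintype_card_le_finrank
      rw [Module.finrank_pi, Fintype.card_coe] at this
      refine this.trans ?_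
      rw [← Nat.card_eq_fintype_card, ← Subgroup.index]
      exact le_of_eq hrel
    refine (Finset.card_le_mul_card_image Finset.univ T.index fun b _ => hfib b).trans ?_
    exact Nat.mul_le_mul_left _ (Finset.card_le_univ _)
  -- translate
  set S := {χ : Cfsg.IrrCharacter G // (Cfsg.charDegree (χ : G → ℂ) = 1 ∨
    2 ∣ Cfsg.charDegree (χ : G → ℂ)) ∧
      (Nat.card G : ℂ)⁻¹ * ∑ᶠ g : G, (χ : G → ℂ) (g * g) = 1} with hS
  haveI : Fintype S := Fintype.ofFinite S
  suffices hmain : 4 * Fintype.card S ≤ 3 * ∑ s : S, Cfsg.charDegree (s.1 : G → ℂ) by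
    rw [Nat.card_eq_fintype_card (α := S), finsum_eq_sum_of_fintype]
    exact hmain
  -- the strongly real family
  have hdeg : ∀ β : B, Cfsg.charDegree (Cfsg.indFun T fun t => (η β t : ℂ)) = T.index := fun β => by
    unfold Cfsg.charDegree
    rw [CharInduce.indFun_one, map_one, Units.val_one, mul_one]
    simp
  let J : B → S := fun β => ⟨⟨_, hηirr β⟩, Or.inr (by
      show 2 ∣ Cfsg.charDegree (Cfsg.indFun T fun t => (η β t : ℂ))
      rw [hdeg]; exact ho.1), by
    show (Nat.card G : ℂ)⁻¹ * ∑ᶠ g : G, Cfsg.indFun T (fun t => (η β t : ℂ)) (g * g) = 1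
    rw [finsum_eq_sum_of_fintype, hην, inv_mul_cancel₀ (CharInduce.card_ne_zero_complex _)]⟩
  have hJ : Function.Injective J := by
    intro β β' h
    have h' : Cfsg.indFun T (fun t => (η β t : ℂ)) = Cfsg.indFun T (fun t => (η β' t : ℂ)) :=
      congrArg (fun s : S => (s.1 : G → ℂ)) h
    have := H85.indFun_ext_inj N (CharInduce.isIrrCharacter_hom lam) T rfl hNT
      (CharInduce.isIrrCharacter_hom (η β)) (fun n => congrArg Units.val (hηN β n (hNT n.2)))
      (CharInduce.isIrrCharacter_hom (η β')) (fun n => congrArg Units.val (hηN β' n (hNT n.2))) h'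
    refine Subtype.ext (MonoidHom.ext fun x => ?_)
    obtain ⟨x, hx⟩ := x
    rw [← hηP β x hx, ← hηP β' x hx]
    exact Units.ext (congrFun this _)
  -- linear members restrict injectively to `P`
  set L := Finset.univ.filter fun s : S => Cfsg.charDegree (s.1 : G → ℂ) = 1 with hL
  have hLA : L.card ≤ Fintype.card A := by
    have hlin : ∀ s : L, ∃ l : G →* ℂˣ, (∀ g, (s.1.1 : G → ℂ) g = (l g : ℂ)) ∧
        (∀ g, l g * l g = 1) ∧ ∀ n ∈ N, l n = 1 := by
      rintro ⟨s, hs⟩
      rw [hL, Finset.mem_filter] at hs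
      obtain ⟨l, hl⟩ := CharInduce.IsChar.exists_hom_of_degree_one
        (CharBasic.IsIrr.isCharacter s.1.2) (by
          rw [BlockBasic.apply_one_eq_charDegree, hs.2, Nat.cast_one])
      have hsq : ∀ g, l g * l g = 1 := by
        by_contra hne
        have h := s.2.2
        rw [finsum_eq_sum_of_fintype] at h
        have h0 : ∑ g : G, (s.1 : G → ℂ) (g * g) = 0 := by
          simp only [hl, map_mul]
          refine sum_hom_units_eq_zero ((Units.coeHom ℂ).comp (l * l)) fun e => hne fun g => ?_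
          exact Units.ext (DFunLike.congr_fun e g)
        rw [h0, mul_zero] at h
        exact zero_ne_one h
      refine ⟨l, hl, hsq, fun n hn => ?_⟩
      have hq1 : l n ^ q = 1 := by rw [← map_pow, hNel.2 n hn, map_one]
      rwa [← Nat.div_add_mod q 2, hq2, pow_succ, pow_mul, pow_two, hsq, one_pow, one_mul] at hq1
    choose l hl hsq hlN using hlin
    rw [← Fintype.card_coe]
    refine Fintype.card_le_of_injective
      (fun s => (⟨(l s).comp P.subtype, fun x => hsq s x⟩ : A)) fun s s' h => ?_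
    refine Subtype.ext (Subtype.ext (Subtype.ext (funext fun g => ?_)))
    have hg : g ∈ N ⊔ P := hprod ▸ Subgroup.mem_top g
    obtain ⟨n, hn, p, hp, rfl⟩ := Subgroup.mem_sup_of_normal_left.1 hg
    have := DFunLike.congr_fun (congrArg Subtype.val h) ⟨p, hp⟩
    simp only [MonoidHom.comp_apply, Subgroup.coe_subtype] at this
    rw [hl, hl, map_mul, map_mul, hlN s n hn, hlN s' n hn, this]
  -- pointwise inequality
  have hpt : ∀ s : S, 4 + (if s ∈ Finset.univ.image J then T.index else 0) ≤
      3 * Cfsg.charDegree (s.1 : G → ℂ) + (if s ∈ L then 1 else 0) := by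
    intro s
    by_cases hJs : s ∈ Finset.univ.image J
    · obtain ⟨β, -, rfl⟩ := Finset.mem_image.1 hJs
      have : Cfsg.charDegree ((J β).1 : G → ℂ) = T.index := hdeg β
      rw [if_pos hJs, this]
      omega
    · rw [if_neg hJs]
      by_cases hs : Cfsg.charDegree (s.1 : G → ℂ) = 1
      · rw [if_pos (by rw [hL, Finset.mem_filter]; exact ⟨Finset.mem_univ _, hs⟩), hs]
      · have h2 := s.2.1.resolve_left hs
        have hpos : 0 < Cfsg.charDegree (s.1 : G → ℂ) := by
          obtain ⟨d, hd, hd1⟩ := CharBasic.IsIrr.exists_degree s.1.2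
          rw [BlockBasic.apply_one_eq_charDegree, Nat.cast_inj] at hd1
          omega
        omega
  have hsum := Finset.sum_le_sum fun s (_ : s ∈ Finset.univ) => hpt s
  rw [Finset.sum_add_distrib, Finset.sum_add_distrib, Finset.sum_const, Finset.card_univ,
    ← Finset.sum_filter, ← Finset.sum_filter, Finset.sum_const, Finset.sum_const,
    Finset.filter_mem_eq_inter, Finset.filter_mem_eq_inter, Finset.univ_inter, Finset.univ_inter,
    Finset.card_image_of_injective _ hJ, Finset.card_univ, ← Finset.mul_sum] at hsum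
  simp only [smul_eq_mul, mul_one] at hsum
  have h3 : L.card ≤ Fintype.card B * T.index := (hLA.trans hAB).trans_eq (mul_comm _ _)
  linarith

end Cfsg.Agent.S4871
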