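import Cfsg.Statements.S4872
import Cfsg.Agent.H85.PRatio
import Cfsg.Agent.H85.SympFixed
import Cfsg.Agent.H84.Kernel
import Cfsg.Agent.H85.CliffordExt
-- import your own Cfsg.Agent.* helpers here

set_option autoImplicit false
open Cfsg

namespace Cfsg.Agent.S4872

/-- Let N be a normal subgroup of the finite group G with G/N a 2-group, and let φ be an irreducible complex character of N of 2-defect zero (the 2-part of #N divides φ(1)) whose complex conjugate is G-conjugate to φ. Then some irreducible character of G with Frobenius–Schur indicator +1 contains φ with multiplicity exactly one on restriction to N. -/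
theorem result {G : Type*} [Group G] [Finite G] (N : Subgroup G) [N.Normal] (h2 : IsPGroup 2 (G ⧸ N)) (φ : Cfsg.IrrCharacter ↥N) (hdef : 2 ^ (Nat.card ↥N).factorization 2 ∣ Cfsg.charDegree (φ : ↥N → ℂ)) (hconj : ∃ g : G, ∀ n n' : ↥N, (n' : G) = g * (n : G) * g⁻¹ → (φ : ↥N → ℂ) n' = (starRingEnd ℂ) ((φ : ↥N → ℂ) n)) : ∃ χ : Cfsg.IrrCharacter G, (Nat.card G : ℂ)⁻¹ * ∑ᶠ g : G, (χ : G → ℂ) (g * g) = 1 ∧ (Nat.card ↥N : ℂ)⁻¹ * ∑ᶠ n : ↥N, (χ : G → ℂ) n * (starRingEnd ℂ) ((φ : ↥N → ℂ) n) = 1 := by
  classical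
  cases nonempty_fintype G
  cases nonempty_fintype N
  obtain ⟨P⟩ : Nonempty (Sylow 2 G) := inferInstance
  set S : Subgroup G := (P : Subgroup G) with hS
  cases nonempty_fintype S
  -- the defect zero degree
  have hG0 : Nat.card G ≠ 0 := Nat.card_pos.ne'
  have hN0 : Nat.card N ≠ 0 := Nat.card_pos.ne'
  set d := Cfsg.charDegree (φ : N → ℂ) with hd
  have hd0 : d ≠ 0 := (BlockBasic.charDegree_pos φ).ne'
  have hd2 : d.factorization 2 = (Nat.card N).factorization 2 := by
    refine le_antisymm ((Nat.factorization_le_iff_dvd hd0 hN0).2 (BlockBasic.charDegree_dvd φ) 2) ?_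
    exact (Nat.prime_two.pow_dvd_iff_le_factorization hd0).1 hdef
  have hndvd : ¬ 2 ∣ Nat.card N / d := by
    rw [Nat.prime_two.dvd_iff_one_le_factorization (Nat.div_ne_zero_iff.2
      ⟨hd0, Nat.le_of_dvd (Nat.pos_of_ne_zero hN0) (BlockBasic.charDegree_dvd φ)⟩),
      Nat.factorization_div (BlockBasic.charDegree_dvd φ), Finsupp.tsub_apply, hd2]
    omega
  have hvan : ∀ n : N, n ≠ 1 → (∃ k, orderOf n = 2 ^ k) → (φ : N → ℂ) n = 0 := by
    intro n hn ⟨k, hk⟩
    refine H84.apply_eq_zero_of_defect_zero φ hndvd ?_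
    rcases k with _ | k
    · exact absurd (orderOf_eq_one_iff.1 (by simpa using hk)) hn
    · exact hk ▸ dvd_pow_self 2 k.succ_ne_zero
  -- induced permutation character
  set θ := Cfsg.indFun S (fun _ => (1 : ℂ)) with hθ
  have hθc : Cfsg.IsCharacter G θ := CharInduce.IsChar.ind S CharInduce.IsChar.one
  have hθr : ∀ g, (starRingEnd ℂ) (θ g) = θ g := fun g => by
    rw [hθ, CharInduce.conj_indFun]; simp
  choose c hc using fun χ : Cfsg.IrrCharacter G =>
    CharBasic.classInner_isChar_nat hθc (CharBasic.IsIrr.isCharacter χ.2)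
  choose f hf using fun χ : Cfsg.IrrCharacter G =>
    CharBasic.classInner_isChar_nat
      (CharInduce.IsChar.res (CharBasic.IsIrr.isCharacter χ.2) N) (CharBasic.IsIrr.isCharacter φ.2)
  set m := ∑ χ : Cfsg.IrrCharacter G, c χ * f χ with hm
  have hinner : Cfsg.classInner (fun n : N => θ n) (φ : N → ℂ) = (m : ℂ) := by
    have hexp := CharBasic.classFunction_expansion (CharBasic.IsChar.isClassFunction hθc)
    have he : (fun n : N => θ n) = ∑ χ : Cfsg.IrrCharacter G,
        (c χ : ℂ) • (fun n : N => (χ : G → ℂ) n) := by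
      funext n
      have := congrFun hexp (n : G)
      simpa [Finset.sum_apply, hc] using this
    rw [he, CharBasic.classInner_sum_left, hm, Nat.cast_sum]
    refine Finset.sum_congr rfl fun χ _ => ?_
    rw [CharBasic.classInner_smul_left, hf, Nat.cast_mul]
  have hmodd : Odd m := by
    have hval : (Nat.card N : ℂ) * (Nat.card S : ℂ) * (m : ℂ) = (Nat.card G : ℂ) * d := by
      have hN' : (Nat.card N : ℂ) ≠ 0 := Nat.cast_ne_zero.2 hN0
      rw [← hinner, CharBasic.classInner_def]
      have hterm : ∀ n : N, (Nat.card S : ℂ) * θ n * (starRingEnd ℂ) ((φ : N → ℂ) n) =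
          ∑ x : G, Cfsg.extendByZero S (fun _ => (1 : ℂ)) (x⁻¹ * n * x) *
            (starRingEnd ℂ) ((φ : N → ℂ) n) := fun n => by
        rw [hθ, CharInduce.card_mul_indFun, Finset.sum_mul]
      have h1 : ∀ x : G, ∀ n : N, Cfsg.extendByZero S (fun _ => (1 : ℂ)) (x⁻¹ * n * x) *
          (starRingEnd ℂ) ((φ : N → ℂ) n) = if n = 1 then (d : ℂ) else 0 := by
        intro x n
        by_cases hn : n = 1
        · subst hn
          rw [if_pos rfl, OneMemClass.coe_one, mul_one, inv_mul_cancel,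
            CharInduce.extendByZero_of_mem _ S.one_mem, one_mul,
            BlockBasic.apply_one_eq_charDegree, map_natCast]
        rw [if_neg hn]
        by_cases hx : x⁻¹ * n * x ∈ S
        · obtain ⟨k, hk⟩ := IsPGroup.iff_orderOf.1 P.isPGroup' ⟨_, hx⟩
          rw [Subgroup.orderOf_mk] at hk
          rw [hvan n hn ⟨k, ?_⟩, map_zero, mul_zero]
          rw [← Subgroup.orderOf_coe, ← hk]
          have e : x⁻¹ * (n : G) * x = MulAut.conj x⁻¹ (n : G) := by simp
          rw [e, MulEquiv.orderOf_eq]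
        · rw [CharInduce.extendByZero_of_not_mem _ hx, zero_mul]
      calc (Nat.card N : ℂ) * (Nat.card S : ℂ) *
            ((Nat.card N : ℂ)⁻¹ * ∑ n : N, θ n * (starRingEnd ℂ) ((φ : N → ℂ) n))
          = ∑ n : N, (Nat.card S : ℂ) * θ n * (starRingEnd ℂ) ((φ : N → ℂ) n) := by
            rw [← mul_assoc, mul_comm (Nat.card N : ℂ) (Nat.card S : ℂ), mul_inv_cancel_right₀ hN',
              Finset.mul_sum]
            simp only [mul_assoc]
        _ = ∑ n : N, ∑ x : G, (if n = 1 then (d : ℂ) else 0) :=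
            Finset.sum_congr rfl fun n _ => (hterm n).trans (Finset.sum_congr rfl fun x _ => h1 x n)
        _ = (Nat.card G : ℂ) * d := by
            rw [Finset.sum_comm]
            simp [Nat.card_eq_fintype_card]
    have hval' : Nat.card N * Nat.card S * m = Nat.card G * d := by exact_mod_cast hval
    by_contra heven
    rw [Nat.not_odd_iff_even] at heven
    have hm0 : m ≠ 0 := fun e => by
      rw [e, mul_zero] at hval'
      exact (Nat.mul_ne_zero hG0 hd0) hval'.symm
    have h2 : 1 ≤ m.factorization 2 :=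
      (Nat.prime_two.dvd_iff_one_le_factorization hm0).1 heven.two_dvd
    have h3 := congrArg (fun t => t.factorization 2) hval'
    simp only [Nat.factorization_mul (Nat.mul_ne_zero hN0 Nat.card_pos.ne') hm0,
      Nat.factorization_mul hN0 (Nat.card_pos (α := S)).ne', Nat.factorization_mul hG0 hd0,
      Finsupp.add_apply, hd2] at h3
    have hS2 : (Nat.card S).factorization 2 = (Nat.card G).factorization 2 := by
      rw [hS, Sylow.card_eq_multiplicity, Nat.prime_two.factorization_pow, Finsupp.single_eq_same]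
    omega
  -- a real member of odd weight
  let C : Cfsg.IrrCharacter G → Cfsg.IrrCharacter G := fun χ =>
    ⟨fun x => (starRingEnd ℂ) ((χ : G → ℂ) x), CharInduce.IsIrr.conj χ.2⟩
  have hCC : ∀ χ, C (C χ) = χ := fun χ => Subtype.ext (funext fun x => by simp [C])
  have hcC : ∀ χ, c (C χ) = c χ := fun χ => by
    have h : (c (C χ) : ℂ) = (starRingEnd ℂ) (c χ : ℂ) := by
      rw [← hc, ← hc, CharBasic.classInner_def, CharBasic.classInner_def, map_mul, map_inv₀,
        map_natCast, map_sum]
      exact congrArg _ (Finset.sum_congr rfl fun x _ => by simp [C, hθr])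
    rw [map_natCast] at h
    exact_mod_cast h
  obtain ⟨g, hg⟩ := hconj
  have hfC : ∀ χ, f (C χ) = f χ := fun χ => by
    have hφg : CharInduce.conjFun N (φ : N → ℂ) g = fun n => (starRingEnd ℂ) ((φ : N → ℂ) n) := by
      funext n
      exact hg n ⟨g * n * g⁻¹, _⟩ rfl
    have h : (starRingEnd ℂ) (f (C χ) : ℂ) = (f χ : ℂ) := by
      rw [← hf, ← hf, ← CharInduce.classInner_res_conjFun N
        (CharBasic.IsIrr.isClassFunction χ.2) (φ : N → ℂ) g, hφg, CharBasic.classInner_def,
        CharBasic.classInner_def, map_mul, map_inv₀, map_natCast, map_sum]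
      exact congrArg _ (Finset.sum_congr rfl fun x _ => by simp [C])
    rw [map_natCast] at h
    exact_mod_cast h
  obtain ⟨χ, hreal, hodd⟩ : ∃ χ : Cfsg.IrrCharacter G,
      (∀ x, ((χ : G → ℂ) x).im = 0) ∧ Odd (c χ * f χ) := by
    by_contra hne
    push Not at hne
    refine (Nat.not_even_iff_odd.2 hmodd) (ZMod.natCast_eq_zero_iff_even.1 ?_)
    rw [hm, Nat.cast_sum]
    refine Finset.sum_involution (fun χ _ => C χ) (fun χ _ => ?_) (fun χ _ h0 he => ?_)
      (fun χ _ => Finset.mem_univ _) (fun χ _ => hCC χ)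
    · rw [hcC, hfC]; exact CharTwo.add_self_eq_zero _
    · refine h0 (ZMod.natCast_eq_zero_iff_even.2 (Nat.not_odd_iff_even.1 (hne χ fun x => ?_)))
      exact Complex.conj_eq_iff_im.1 (congrArg (fun z : Cfsg.IrrCharacter G => (z : G → ℂ) x) he)
  have hc1 : Odd (c χ) := Nat.Odd.of_mul_left hodd
  have hf1 : Odd (f χ) := Nat.Odd.of_mul_right hodd
  refine ⟨χ, ?_, ?_⟩
  · rw [finsum_eq_sum_of_fintype]
    refine H85.indicator_eq_one_of_odd S χ.2 hreal (m := c χ) ?_ hc1
    have h := hc χ
    rw [hθ, CharInduce.classInner_indFun_left S _ _ (CharBasic.IsIrr.isClassFunction χ.2)] at h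
    rw [← CharBasic.classInner_conj_symm, h, map_natCast]
  · rw [finsum_eq_sum_of_fintype, ← CharBasic.classInner_def, hf χ]
    have hne : Cfsg.classInner (fun k : N => (χ : G → ℂ) k) (φ : N → ℂ) ≠ 0 := by
      rw [hf χ]; exact_mod_cast hf1.pos.ne'
    obtain ⟨k, hk⟩ := H85.exists_ratio_pow 2 _ N rfl h2 χ.2 φ.2 hne
    rw [CharInduce.clifford_degree N χ.2 φ.2 hne, hf χ] at hk
    have hφ1 : (φ : N → ℂ) 1 ≠ 0 := CharBasic.IsIrr.one_ne_zero φ.2
    have hk' : f χ * (CharInduce.inertia N (φ : N → ℂ)).index = 2 ^ k := by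
      exact_mod_cast mul_right_cancel₀ hφ1 hk
    obtain ⟨j, -, hj⟩ := (Nat.dvd_prime_pow Nat.prime_two).1 (Dvd.intro _ hk')
    rcases j with _ | j
    · rw [hj]; simp
    · exact absurd (hj ▸ hf1) (by simp [parity_simps])

end Cfsg.Agent.S4872
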