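import Cfsg.Statements.S4873
import Cfsg.Agent.H85.RealUnique
-- import your own Cfsg.Agent.* helpers here

set_option autoImplicit false
open Cfsg

namespace Cfsg.Agent.S4873

/-- Let N be a normal subgroup of odd index in the finite group G. Then every irreducible complex character of N with Frobenius–Schur indicator +1 lies under exactly one irreducible character of G with Frobenius–Schur indicator +1. -/
theorem result {G : Type*} [Group G] [Finite G] (N : Subgroup G) [N.Normal] (hodd : Odd N.index) (φ : Cfsg.IrrCharacter ↥N) (hφ : (Nat.card ↥N : ℂ)⁻¹ * ∑ᶠ g : ↥N, (φ : ↥N → ℂ) (g * g) = 1) : ∃! χ : Cfsg.IrrCharacter G, (Nat.card G : ℂ)⁻¹ * ∑ᶠ g : G, (χ : G → ℂ) (g * g) = 1 ∧ (∑ᶠ n : ↥N, (χ : G → ℂ) n * (starRingEnd ℂ) ((φ : ↥N → ℂ) n)) ≠ 0 := by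
  classical
  cases nonempty_fintype G
  have := Fintype.ofFinite N
  have hsumN : (Nat.card ↥N : ℂ)⁻¹ * ∑ n : ↥N, (φ : ↥N → ℂ) (n * n) = 1 := by
    rwa [finsum_eq_sum_of_fintype] at hφ
  have hφreal : ∀ k : ↥N, ((φ : ↥N → ℂ) k).im = 0 := by
    by_contra h
    rw [Cfsg.Agent.H85.sum_sq_eq_zero_of_nonreal φ.2
      (fun e => h fun k => Complex.conj_eq_iff_im.1 (e k)), mul_zero] at hsumN
    exact zero_ne_one hsumN
  have hover : ∀ χ : Cfsg.IrrCharacter G,
      (∑ᶠ n : ↥N, (χ : G → ℂ) n * (starRingEnd ℂ) ((φ : ↥N → ℂ) n)) ≠ 0 ↔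
        Cfsg.Agent.H85.LiesOver N χ φ := fun χ => by
    rw [finsum_eq_sum_of_fintype, Cfsg.Agent.H85.LiesOver, Cfsg.classInner, mul_ne_zero_iff,
      and_iff_right (inv_ne_zero (Nat.cast_ne_zero.2 Nat.card_pos.ne'))]
  have hsr : ∀ χ : Cfsg.IrrCharacter G,
      (Nat.card G : ℂ)⁻¹ * ∑ᶠ g : G, (χ : G → ℂ) (g * g) = 1 →
        ∀ g, ((χ : G → ℂ) g).im = 0 := fun χ h g => by
    rw [finsum_eq_sum_of_fintype] at h
    by_contra hg
    rw [Cfsg.Agent.H85.sum_sq_eq_zero_of_nonreal χ.2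
      (fun e => hg (Complex.conj_eq_iff_im.1 (e g))), mul_zero] at h
    exact zero_ne_one h
  obtain ⟨χ, hχ, huniq⟩ := Cfsg.Agent.H85.existsUnique_real_over N hodd φ hφreal
  have hone : (Nat.card G : ℂ)⁻¹ * ∑ g : G, (χ.1 : G → ℂ) (g * g) = 1 := by
    set I := Cfsg.indFun N (φ : ↥N → ℂ) with hI
    have hIcl := Cfsg.Agent.CharInduce.isClassFunction_indFun N (φ : ↥N → ℂ)
    have hmem : ∀ g : G, g * g ∈ N ↔ g ∈ N := fun g => by
      refine ⟨fun h => ?_, fun h => N.mul_mem h h⟩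
      obtain ⟨j, hj⟩ := Cfsg.Agent.H85.exists_odd_pow_mem N hodd g
      rw [pow_succ, pow_mul, sq] at hj
      exact (N.mul_mem_cancel_left (N.pow_mem h j)).1 hj
    have hval : ∑ g : G, I (g * g) = (Nat.card G : ℂ) := by
      have h1 : ∑ g : G, I (g * g) = ∑ n : ↥N, I (((n * n : ↥N)) : G) := by
        symm
        refine Fintype.sum_of_injective (Subtype.val : ↥N → G) Subtype.val_injective _ _ ?_
          fun n => rfl
        intro g hg
        exact Cfsg.Agent.CharInduce.indFun_eq_zero_of_normal N _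
          fun h => hg ⟨⟨g, (hmem g).1 h⟩, rfl⟩
      have h2 : ∀ x : G, ∑ n : ↥N, Cfsg.Agent.CharInduce.conjFun N (φ : ↥N → ℂ) x (n * n) =
          ∑ n : ↥N, (φ : ↥N → ℂ) (n * n) := fun x => by
        refine Fintype.sum_equiv (MulAut.conjNormal x).toEquiv _ _ fun n => ?_
        rw [Cfsg.Agent.CharInduce.conjFun_eq_comp]
        exact congrArg _ (map_mul _ n n)
      rw [h1]
      simp only [hI, Cfsg.Agent.CharInduce.indFun_normal_coe, ← Finset.mul_sum]
      rw [Finset.sum_comm, Finset.sum_congr rfl fun x _ => h2 x, Finset.sum_const,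
        Finset.card_univ, nsmul_eq_mul, mul_left_comm, hsumN, mul_one, Nat.card_eq_fintype_card]
    have hexp := Cfsg.Agent.CharBasic.classFunction_expansion hIcl
    rw [hI, hexp] at hval
    simp only [Finset.sum_apply, Pi.smul_apply, smul_eq_mul] at hval
    rw [Finset.sum_comm, Finset.sum_eq_single χ.1, ← Finset.mul_sum] at hval
    · obtain ⟨ε, hε, hsum⟩ := Cfsg.Agent.H85.exists_sign_sum_sq χ.1.2
        fun g => Complex.conj_eq_iff_im.2 (χ.2 g)
      have hG0 : (Nat.card G : ℂ) ≠ 0 := Nat.cast_ne_zero.2 Nat.card_pos.ne'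
      obtain ⟨a, ha⟩ := Cfsg.Agent.CharBasic.classInner_isChar_nat
        (Cfsg.Agent.CharInduce.IsChar.ind N (Cfsg.Agent.CharBasic.IsIrr.isCharacter φ.2))
        (Cfsg.Agent.CharBasic.IsIrr.isCharacter χ.1.2)
      rw [ha, hsum, ← mul_assoc] at hval
      rw [hsum, mul_comm ε, inv_mul_cancel_left₀ hG0]
      have h1 : (a : ℂ) * ε = 1 := mul_right_cancel₀ hG0 (by rw [hval, one_mul])
      rcases hε with rfl | rfl
      · rfl
      · exfalso
        have h2 : ((a + 1 : ℕ) : ℂ) = 0 := by push_cast; linear_combination -h1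
        exact Nat.succ_ne_zero a (by exact_mod_cast h2)
    · intro ψ _ hψ
      rw [← Finset.mul_sum]
      by_cases hr : ∀ g : G, ((ψ : G → ℂ) g).im = 0
      · by_cases hl : Cfsg.Agent.H85.LiesOver N ψ φ
        · exact absurd (congrArg Subtype.val (huniq ⟨ψ, hr⟩ hl)) hψ
        · rw [Cfsg.Agent.H85.LiesOver, ne_eq, not_not] at hl
          rw [Cfsg.Agent.CharInduce.classInner_indFun_left N _ _
              (Cfsg.Agent.CharBasic.IsIrr.isClassFunction ψ.2),
            ← Cfsg.Agent.CharBasic.classInner_conj_symm (fun k : ↥N => (ψ : G → ℂ) k), hl, map_zero,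
            zero_mul]
      · rw [Cfsg.Agent.H85.sum_sq_eq_zero_of_nonreal ψ.2 fun e => hr fun g =>
          Complex.conj_eq_iff_im.1 (e g), mul_zero]
    · exact fun h => absurd (Finset.mem_univ _) h
  refine ⟨χ.1, ⟨by rw [finsum_eq_sum_of_fintype]; exact hone, (hover _).2 hχ⟩, ?_⟩
  rintro ψ ⟨hψ1, hψ2⟩
  exact congrArg Subtype.val (huniq ⟨ψ, hsr ψ hψ1⟩ ((hover ψ).1 hψ2))

end Cfsg.Agent.S4873
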