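import Cfsg.Statements.S4878
import Cfsg.Agent.H45.CoprimeTrans.Affine
import Cfsg.Agent.H45.CoprimeTrans.Exception11
import Cfsg.Agent.S3378

set_option autoImplicit false
set_option linter.style.haveILetI false
open Cfsg

namespace Cfsg.Agent.S4878

open Cfsg.Agent.H45.CoprimeTrans Cfsg.Agent.Cores

/-- Let p be a prime and G a finite p-solvable group of order divisible by p in which all non-identity p-elements are conjugate. Then G has at least p conjugacy classes of p-regular elements; or G has exactly p − 1 of them and is isomorphic to the one-dimensional affine group over the field with p elements; or p = 11, G has exactly 9 of them, G has order 121·120 and G is a Frobenius group whose complement is isomorphic to SL(2,5). -/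
theorem result {G : Type*} [Group G] [Finite G] (p : ℕ) [Fact p.Prime] (hsolv : Cfsg.IsPSolvable p G) (hdiv : p ∣ Nat.card G) (hconj : ∀ x y : G, x ≠ 1 → y ≠ 1 → (∃ k : ℕ, orderOf x = p ^ k) → (∃ k : ℕ, orderOf y = p ^ k) → IsConj x y) : p ≤ Nat.card {c : ConjClasses G // ∃ g : G, ConjClasses.mk g = c ∧ ¬ p ∣ orderOf g} ∨ (Nat.card {c : ConjClasses G // ∃ g : G, ConjClasses.mk g = c ∧ ¬ p ∣ orderOf g} = p - 1 ∧ Nonempty (G ≃* ↥(Cfsg.affineGroup (ZMod p)))) ∨ (p = 11 ∧ Nat.card {c : ConjClasses G // ∃ g : G, ConjClasses.mk g = c ∧ ¬ p ∣ orderOf g} = 9 ∧ (Nat.card G = 121 * 120 ∧ ∃ H : Subgroup G, Cfsg.IsFrobeniusComplement H ∧ Nonempty (↥H ≃* Matrix.SpecialLinearGroup (Fin 2) (ZMod 5)))) := by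
  classical
  by_cases hN : pPrimeCore p G = ⊥
  · obtain ⟨V, E, h⟩ := exists_redData hsolv hdiv hconj hN
    rcases h.bounds with hk | ⟨hV, -, hE, hk⟩ | ⟨h11, hV, hk, hE, hns⟩
    · exact Or.inl (hk.trans_eq h.card_regClass.symm)
    · exact Or.inr (Or.inl ⟨h.card_regClass.trans hk, h.nonempty_affine hV hE⟩)
    · refine Or.inr (Or.inr ⟨h11, h.card_regClass.trans hk, ?_, E, ?_, ?_⟩)
      · rw [← h.compl.card_mul_card, hV, hE]
      · refine h.frobenius (by omega) fun hb => ?_
        rw [hb, Subgroup.card_bot] at hE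
        omega
      · exact (Cfsg.Agent.S3378.result).1 E hE hns (h.sylow_two h11 hV hE hns)
  · set N := pPrimeCore p G with hNdef
    set π := QuotientGroup.mk' N
    have hπ : Function.Surjective π := QuotientGroup.mk'_surjective N
    have hNp : ¬ p ∣ Nat.card N := not_dvd_card_pPrimeCore
    have hdiv' : p ∣ Nat.card (G ⧸ N) := by
      have h1 := hdiv
      rw [Subgroup.card_eq_card_quotient_mul_card_subgroup N] at h1
      exact ((Fact.out : p.Prime).dvd_mul.1 h1).resolve_right hNp
    obtain ⟨V, E, h⟩ := exists_redData (isPSolvable_quotient hsolv N) hdiv'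
      (oneClass_of_surjective π hπ hconj) pPrimeCore_quotient_pPrimeCore
    have hlt : Nat.card (RegClass p (G ⧸ N)) < Nat.card (RegClass p G) := by
      obtain ⟨n, hn⟩ := Subgroup.ne_bot_iff_exists_ne_one.1 hN
      have hnreg : ¬ p ∣ orderOf (n : G) := fun hd => hNp (hd.trans (by
        rw [Subgroup.orderOf_coe]; exact orderOf_dvd_natCard n))
      have h1reg : ¬ p ∣ orderOf (1 : G) := by
        rw [orderOf_one]; exact (Fact.out : p.Prime).not_dvd_one
      haveI := Fintype.ofFinite (RegClass p G)
      haveI := Fintype.ofFinite (RegClass p (G ⧸ N))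
      rw [Nat.card_eq_fintype_card, Nat.card_eq_fintype_card]
      refine Fintype.card_lt_of_surjective_not_injective (regMap π) (regMap_surjective π hπ) fun hinj => ?_
      have h2 := @hinj ⟨ConjClasses.mk (n : G), (n : G), rfl, hnreg⟩ ⟨ConjClasses.mk 1, 1, rfl, h1reg⟩
        (Subtype.ext (show ConjClasses.mk (π n) = ConjClasses.mk (π 1) by
          rw [map_one, show π n = 1 from (QuotientGroup.eq_one_iff _).2 n.2]))
      exact hn (Subtype.ext (isConj_one_right.1
        (ConjClasses.mk_eq_mk_iff_isConj.1 (congrArg Subtype.val h2)).symm))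
    left
    rcases h.bounds with hk | ⟨hV, -, hE, hk⟩ | ⟨h11, hV, hk, hE, hns⟩
    · exact (hk.trans_eq h.card_regClass.symm).trans hlt.le
    · have := h.card_regClass
      show p ≤ Nat.card (RegClass p G)
      omega
    · subst h11
      exact eleven_le N hN ((Fact.out : Nat.Prime 11).coprime_iff_not_dvd.2 hNp).symm h hV hE hk hns

end Cfsg.Agent.S4878
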