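import Cfsg.Statements.S4885
import Cfsg.Agent.H85.TwoBlocks
import Cfsg.Agent.CharBasic.Kernel
-- import your own Cfsg.Agent.* helpers here

set_option autoImplicit false
open Cfsg

namespace Cfsg.Agent.S4885

/-- Let p and q be primes dividing the order of the finite group G, and suppose G is p-solvable and q-solvable. Fix maximal ideals of the algebraic integers containing p and q, defining the principal p-block and the principal q-block. If the irreducible characters of degree prime to p in the principal p-block are exactly the irreducible characters of degree prime to q in the principal q-block, then p = q. -/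
theorem result {G : Type*} [Group G] [Finite G] (p q : ℕ) [Fact p.Prime] [Fact q.Prime] (hp : p ∣ Nat.card G) (hq : q ∣ Nat.card G) (hps : Cfsg.IsPSolvable p G) (hqs : Cfsg.IsPSolvable q G) (Mp Mq : Ideal Cfsg.AlgInt) (hMp : Cfsg.IsPModular p Mp) (hMq : Cfsg.IsPModular q Mq) (h : ∀ χ : Cfsg.IrrCharacter G, (χ ∈ Cfsg.principalBlock Mp G ∧ ¬ p ∣ Cfsg.charDegree (χ : G → ℂ)) ↔ (χ ∈ Cfsg.principalBlock Mq G ∧ ¬ q ∣ Cfsg.charDegree (χ : G → ℂ))) : p = q := by
  classical
  cases nonempty_fintype G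
  choose K hKn hK using fun χ : Cfsg.IrrCharacter G =>
    CharBasic.IsChar.exists_kernel (CharBasic.IsIrr.isCharacter χ.2)
  let X : ∀ (r : ℕ) (Mr : Ideal Cfsg.AlgInt), Subgroup G := fun r Mr =>
    ⨅ χ : {χ : Cfsg.IrrCharacter G // χ ∈ Cfsg.principalBlock Mr G ∧
      ¬ r ∣ Cfsg.charDegree (χ : G → ℂ)}, K χ.1
  have hXmem : ∀ r Mr g, g ∈ X r Mr ↔ ∀ χ : Cfsg.IrrCharacter G,
      χ ∈ Cfsg.principalBlock Mr G ∧ ¬ r ∣ Cfsg.charDegree (χ : G → ℂ) →
        (χ : G → ℂ) g = (χ : G → ℂ) 1 := fun r Mr g => by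
    rw [Subgroup.mem_iInf, Subtype.forall]
    exact forall₂_congr fun χ _ => (hK χ).1 g
  haveI hXn : ∀ r Mr, (X r Mr).Normal := fun r Mr => Subgroup.normal_iInf_normal fun χ => hKn χ.1
  -- properties for one prime
  have key : ∀ (r : ℕ) [Fact r.Prime] (Mr : Ideal Cfsg.AlgInt), Cfsg.IsPModular r Mr →
      Cfsg.IsPSolvable r G →
      Cfsg.pPrimeCore r (G ⧸ X r Mr) = ⊥ ∧ ∀ P : Sylow r G, X r Mr ⊓ (P : Subgroup G) ≤
        ⁅(P : Subgroup G), (P : Subgroup G)⁆ := by
    intro r _ Mr hMr hrs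
    have hcore : Cfsg.pPrimeCore r G ≤ X r Mr := by
      intro n hn
      rw [hXmem]
      intro χ hχ
      haveI : (Cfsg.pPrimeCore r G).Normal := Subgroup.sSup_normal _ fun _ h => h.1
      exact H82.apply_eq_of_mem_principalBlock hMr hχ.1 _ Cores.not_dvd_card_pPrimeCore hn
    have hXP : ∀ P : Sylow r G, X r Mr ⊓ (P : Subgroup G) ≤
        ⁅(P : Subgroup G), (P : Subgroup G)⁆ := by
      rintro P x ⟨hxX, hxP⟩
      have hxd : (⟨x, hxP⟩ : (P : Subgroup G)) ∈ commutator (P : Subgroup G) := by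
        by_contra hx
        have hx' : Abelianization.of (⟨x, hxP⟩ : (P : Subgroup G)) ≠ 1 := fun e => hx (by
          rw [← Abelianization.ker_of (P : Subgroup G)]; exact e)
        obtain ⟨φ, hφ⟩ := CommGroup.exists_apply_ne_one_of_hasEnoughRootsOfUnity
          (G := Abelianization (P : Subgroup G)) (M := ℂ) hx'
        obtain ⟨χ, hχ, hd, hχx⟩ := H85.exists_block_constituent hMr hrs P (φ.comp Abelianization.of)
        exact hφ (hχx ⟨x, hxP⟩ ((hXmem r Mr x).1 hxX χ ⟨hχ, hd⟩))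
      have := Subgroup.mem_map_of_mem (P : Subgroup G).subtype hxd
      rw [map_commutator_eq, Subgroup.range_subtype] at this
      exact this
    refine ⟨?_, hXP⟩
    haveI : (Cfsg.pPrimeCore r (G ⧸ X r Mr)).Normal := Subgroup.sSup_normal _ fun _ h => h.1
    obtain ⟨P⟩ : Nonempty (Sylow r G) := inferInstance
    set W := (Cfsg.pPrimeCore r (G ⧸ X r Mr)).comap (QuotientGroup.mk' (X r Mr)) with hW
    have hWX : W ⊓ (P : Subgroup G) ≤ X r Mr := by
      rintro x ⟨hxW, hxP⟩
      rw [← QuotientGroup.eq_one_iff]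
      obtain ⟨k, hk⟩ := P.isPGroup' ⟨x, hxP⟩
      have h1 : orderOf (x : G ⧸ X r Mr) ∣ r ^ k := orderOf_dvd_of_pow_eq_one (by
        rw [← QuotientGroup.mk_pow, show x ^ r ^ k = 1 from congrArg Subtype.val hk,
          QuotientGroup.mk_one])
      have h2 : orderOf (x : G ⧸ X r Mr) ∣ Nat.card (Cfsg.pPrimeCore r (G ⧸ X r Mr)) :=
        Subgroup.orderOf_dvd_natCard _ hxW
      exact orderOf_eq_one_iff.1 (Nat.eq_one_of_dvd_coprimes
        (Nat.Coprime.pow_left k Cores.coprime_card_pPrimeCore.symm) h1 h2)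
    have hWP : W ⊓ (P : Subgroup G) ≤ ⁅(P : Subgroup G), (P : Subgroup G)⁆ :=
      (le_inf hWX inf_le_right).trans (hXP P)
    have hle := H85.le_of_inf_le P W (X r Mr) hWP hcore hWX
    rw [eq_bot_iff]
    intro y hy
    obtain ⟨x, rfl⟩ := QuotientGroup.mk'_surjective (X r Mr) y
    exact Subgroup.mem_bot.2 ((QuotientGroup.eq_one_iff x).2 (hle hy))
  by_contra hpq
  obtain ⟨hXp, hPp⟩ := key p Mp hMp hps
  obtain ⟨hXq, -⟩ := key q Mq hMq hqs
  have hXeq : X p Mp = X q Mq := by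
    ext g
    rw [hXmem, hXmem]
    exact forall_congr' fun χ => by rw [h χ]
  have htop : X p Mp = ⊤ := by
    by_contra hne
    haveI : Nontrivial (G ⧸ X p Mp) := by
      rw [QuotientGroup.nontrivial_iff]; exact hne
    refine Cores.pCore_ne_bot_of_pPrimeCore_eq_bot
      (Cores.isPSolvable_quotient hps (X p Mp)) hXp ?_
    rw [eq_bot_iff]
    haveI : (Cfsg.pCore p (G ⧸ X p Mp)).Normal := Subgroup.sSup_normal _ fun _ h => h.1
    have hle : Cfsg.pCore p (G ⧸ X p Mp) ≤ Cfsg.pPrimeCore q (G ⧸ X p Mp) := by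
      refine Cores.le_pPrimeCore ?_
      obtain ⟨k, hk⟩ := (IsPGroup.iff_card (p := p)).1
        (Cores.pCore_isPGroup (G := G ⧸ X p Mp) (p := p))
      rw [hk]
      exact Nat.Coprime.pow_left k ((Nat.coprime_primes Fact.out Fact.out).2 hpq)
    refine hle.trans ?_
    have e : ∀ (A B : Subgroup G) [A.Normal] [B.Normal], A = B →
        Cfsg.pPrimeCore q (G ⧸ A) = ⊥ → Cfsg.pPrimeCore q (G ⧸ B) = ⊥ := by
      intro A B _ _ hAB hh
      subst hAB
      exact hh
    exact (e _ _ hXeq.symm hXq).le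
  obtain ⟨P⟩ : Nonempty (Sylow p G) := inferInstance
  have hlt := Coprime.commutator_lt_of_isPGroup P.isPGroup' P.isPGroup' Subgroup.le_normalizer
    (P.ne_bot_of_dvd_card hp)
  exact hlt.not_ge (by simpa [htop] using hPp P)

end Cfsg.Agent.S4885
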