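import Cfsg.Statements.S4888
import Cfsg.Agent.H85.EqualDegree
-- import your own Cfsg.Agent.* helpers here

set_option autoImplicit false
open Cfsg

namespace Cfsg.Agent.S4888

/-- Let G be a finite group, p a prime and M a maximal ideal of the algebraic integers containing p. Then all height-zero irreducible characters of the principal p-block of G (equivalently, all its characters of degree prime to p) have the same degree if and only if G has a normal p-complement. -/
theorem result {G : Type*} [Group G] [Finite G] (p : ℕ) [Fact p.Prime] (M : Ideal Cfsg.AlgInt) (hM : Cfsg.IsPModular p M) : (∃ d : ℕ, ∀ χ : Cfsg.IrrCharacter G, χ ∈ (Cfsg.principalBlock M G) → Cfsg.blockHeight p (Cfsg.principalBlock M G) (χ : G → ℂ) = 0 → Cfsg.charDegree (χ : G → ℂ) = d) ↔ Cfsg.HasNormalPComplement p G := by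
  classical
  cases nonempty_fintype G
  have hmem1 : (⟨fun _ => 1, BlockBasic.isIrrCharacter_trivial⟩ : Cfsg.IrrCharacter G) ∈
      Cfsg.principalBlock M G := BlockBasic.sameBlock_refl hM _
  have hht : ∀ χ : G → ℂ, Cfsg.blockHeight p (Cfsg.principalBlock M G) χ =
      (Cfsg.charDegree χ).factorization p := by
    intro χ
    have h0 : sInf ((fun ψ : Cfsg.IrrCharacter G => (Cfsg.charDegree (ψ : G → ℂ)).factorization p) ''
        Cfsg.principalBlock M G) = 0 :=
      Nat.sInf_eq_zero.2 (Or.inl ⟨_, hmem1, by simp [Cfsg.charDegree]⟩)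
    rw [Cfsg.blockHeight, h0, Nat.sub_zero]
  have hz : ∀ χ : Cfsg.IrrCharacter G, Cfsg.blockHeight p (Cfsg.principalBlock M G) (χ : G → ℂ) = 0 ↔
      ¬ p ∣ Cfsg.charDegree (χ : G → ℂ) := by
    intro χ
    rw [hht, Nat.factorization_eq_zero_iff]
    have hp : p.Prime := Fact.out
    have := (BlockBasic.charDegree_pos χ).ne'
    simp [hp, this]
  constructor
  · rintro ⟨d, hd⟩
    refine H85.hasNormalPComplement_of_linear hM fun χ hχ hp' => ?_
    have h1 := hd _ hmem1 (by rw [hht]; simp [Cfsg.charDegree])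
    have h2 := hd χ hχ ((hz χ).2 hp')
    rw [h2, ← h1]
    simp [Cfsg.charDegree]
  · rintro ⟨P, N, hN, hc⟩
    refine ⟨1, fun χ hχ h0 => ?_⟩
    have hN' : ¬ p ∣ Nat.card N := by
      rw [← hc.index_eq_card]
      exact P.not_dvd_index
    have hdvd := H82.charDegree_dvd_index N χ.2 fun n hn =>
      H82.apply_eq_of_mem_principalBlock hM hχ N hN' hn
    rw [hc.symm.index_eq_card] at hdvd
    obtain ⟨k, hk⟩ := (IsPGroup.iff_card (p := p)).1 P.isPGroup'
    rw [hk] at hdvd
    obtain ⟨j, -, hj⟩ := (Nat.dvd_prime_pow Fact.out).1 hdvd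
    rcases j with _ | j
    · simpa using hj
    · exact absurd (hj ▸ dvd_pow_self p j.succ_ne_zero) ((hz χ).1 h0)

end Cfsg.Agent.S4888
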