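import Cfsg.Statements.S4890
import Cfsg.Agent.H81.EqualDegrees.NormalQuot

set_option autoImplicit false
open Cfsg

namespace Cfsg.Agent.S4890

/-- Let G be a finite group, p a prime, M a maximal ideal of the algebraic integers containing p, and B a p-block of G with a defect group that is normal in G. Then all height-zero irreducible characters of B have the same degree if and only if B is a nilpotent block. -/
theorem result {G : Type*} [Group G] [Finite G] (p : ℕ) [Fact p.Prime] (M : Ideal Cfsg.AlgInt) (hM : Cfsg.IsPModular p M) (B : Set (Cfsg.IrrCharacter G)) (hB : Cfsg.IsPBlock M B) (D : Subgroup G) (hD : Cfsg.IsDefectGroup p M B D) (hDn : D.Normal) : (∃ d : ℕ, ∀ χ : Cfsg.IrrCharacter G, χ ∈ B → Cfsg.blockHeight p B (χ : G → ℂ) = 0 → Cfsg.charDegree (χ : G → ℂ) = d) ↔ Cfsg.IsNilpotentBlock p M B := by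
  cases nonempty_fintype G
  haveI := hDn
  constructor
  · rintro ⟨d, hd⟩
    obtain ⟨b, hmax, key⟩ := Agent.H81.EqualDegrees.exists_key hM hB hD hd
    exact Agent.H81.EqualDegrees.isNilpotentBlock_of_normal hM hmax key
  · intro hnil
    obtain ⟨P, e, hmax⟩ := Agent.H82.exists_maximal hM hB
    obtain ⟨χ₀, hχ₀, h00⟩ := Agent.H83.exists_height_zero hM hB
    exact ⟨_, fun χ hχ hχ0 => Agent.H81.EqualDegrees.degree_eq_of_nilpotent hM hmax hnil hχ₀ h00 hχ
      hχ0⟩

end Cfsg.Agent.S4890
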