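import Cfsg.Statements.S4892
import Cfsg.Agent.H81.RationalExt.Main
-- import your own Cfsg.Agent.* helpers here

set_option autoImplicit false
open Cfsg

namespace Cfsg.Agent.S4892

/-- Let p be an odd prime, M a maximal ideal of the algebraic integers containing p, N a normal subgroup of the finite group G, and θ an irreducible character of N that is G-invariant, of degree prime to p, p-rational (values in the field generated over ℚ by a root of unity of order prime to p) and lies in the principal p-block of N. Let Q be a Sylow p-subgroup of N and suppose the index of N·C_G(Q) in G is a power of p. Then θ extends to a p-rational irreducible character of G lying in the principal p-block of G. -/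
theorem result {G : Type*} [Group G] [Finite G] (p : ℕ) [Fact p.Prime] (hp : p ≠ 2) (M : Ideal Cfsg.AlgInt) (hM : Cfsg.IsPModular p M) (N : Subgroup G) [N.Normal] (θ : Cfsg.IrrCharacter ↥N) (hinv : ∀ g : G, ∀ n n' : ↥N, (n' : G) = g * (n : G) * g⁻¹ → (θ : ↥N → ℂ) n' = (θ : ↥N → ℂ) n) (hdeg : ¬ p ∣ Cfsg.charDegree (θ : ↥N → ℂ)) (hrat : ∃ m : ℕ, ¬ p ∣ m ∧ ∀ n : ↥N, (θ : ↥N → ℂ) n ∈ IntermediateField.adjoin ℚ ({Complex.exp (2 * Real.pi * Complex.I / m)} : Set ℂ)) (hB : θ ∈ Cfsg.principalBlock M ↥N) (Q : Sylow p ↥N) (hidx : ∃ a : ℕ, (N ⊔ Subgroup.centralizer (((Q : Subgroup ↥N).map N.subtype : Subgroup G) : Set G)).index = p ^ a) : ∃ χ : Cfsg.IrrCharacter G, χ ∈ (Cfsg.principalBlock M G) ∧ (∃ n : ℕ, ¬ p ∣ n ∧ ∀ g : G, (χ : G → ℂ) g ∈ IntermediateField.adjoin ℚ ({Complex.exp (2 * Real.pi * Complex.I / n)} : Set ℂ)) ∧ ∀ n : ↥N, (χ : G → ℂ) n = (θ : ↥N → ℂ) n := by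
  classical
  cases nonempty_fintype G
  have hinv' : ∀ (g : G) (n : ↥N), (θ : ↥N → ℂ) ⟨g * n * g⁻¹, ‹N.Normal›.conj_mem n n.2 g⟩ =
      (θ : ↥N → ℂ) n := fun g n => hinv g n _ rfl
  obtain ⟨m, hm, hθm⟩ := hrat
  obtain ⟨a, ha⟩ := hidx
  obtain ⟨v, m₀, hm₀, hcard⟩ := Nat.exists_eq_pow_mul_and_not_dvd (Nat.card_pos (α := G)).ne' p
    (Fact.out : p.Prime).ne_one
  obtain ⟨ψ, hψ, hψN⟩ :=
    H81.RationalExt.exists_extension N Q hM θ hinv' hp hdeg hm hθm hB ha
  have hdet := H81.RationalExt.not_dvd_detOrder hp (CharBasic.IsIrr.isCharacter θ.2) hm hθm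
  obtain ⟨χ, hχ, hres, hgood, hχdet⟩ :=
    H81.RationalExt.exists_good_det N Q hM hB hcard hm₀ ha hdeg hdet hψ hψN
  refine ⟨⟨χ, hχ⟩, H81.RationalExt.good_mem_principalBlock N Q hM hdeg ⟨χ, hχ⟩ hres hgood,
    ⟨m * m₀, (Fact.out : p.Prime).not_dvd_mul hm hm₀, fun g => ?_⟩, hres⟩
  have hn0 : m * m₀ ≠ 0 := Nat.mul_ne_zero (fun h => hm (h ▸ dvd_zero p))
    (fun h => hm₀ (h ▸ dvd_zero p))
  have hζ := Complex.isPrimitiveRoot_exp (m * m₀) hn0
  haveI : NeZero (m * m₀) := ⟨hn0⟩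
  refine H86.mem_adjoin_of_fixed (fun s hs => ?_) ?_ fun σ hσ => ?_
  · rw [Set.mem_singleton_iff] at hs
    subst hs
    exact (hζ.isIntegral (Nat.pos_of_ne_zero hn0)).tower_top
  · exact (CharBasic.IsChar.isIntegral (CharBasic.IsIrr.isCharacter hχ) g).tower_top
  · have hroot : ∀ z : ℂ, z ^ (m * m₀) = 1 → σ z = z := fun z hz => by
      obtain ⟨i, -, rfl⟩ := hζ.eq_pow_of_pow_eq_one hz
      rw [map_pow, hσ _ rfl]
    refine H81.RationalExt.good_fixed N Q hM hcard hm₀ ha hdeg hχ hres hgood hχdet σ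
      (fun z hz => hroot z (by rw [mul_comm, pow_mul, hz, one_pow]))
      (fun n => H86.fixed_of_mem_adjoin σ (fun s hs => ?_) (hθm n)) g
    rw [Set.mem_singleton_iff] at hs
    subst hs
    refine hroot _ ?_
    rw [pow_mul, (Complex.isPrimitiveRoot_exp m fun h => hm (h ▸ dvd_zero p)).pow_eq_one, one_pow]

end Cfsg.Agent.S4892
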