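import Cfsg.Statements.S4911
import Cfsg.Agent.H86.RealClasses
-- import your own Cfsg.Agent.* helpers here

set_option autoImplicit false
open Cfsg

namespace Cfsg.Agent.S4911

/-- Let P and K be subgroups of a finite group with P a p-group normalizing K and K of order prime to p. Then the number of P-invariant real-valued irreducible complex characters of K equals the number of conjugacy classes of K that are real (closed under inversion) and P-invariant. Moreover, if every real-valued irreducible character of K is P-invariant, then every real element of K (one conjugate in K to its inverse) is conjugate in K to an element centralized by P. -/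
theorem result {G : Type*} [Group G] [Finite G] (p : ℕ) [Fact p.Prime] (P K : Subgroup G) (hP : IsPGroup p ↥P) (hK : ¬ p ∣ Nat.card ↥K) (hPK : P ≤ Subgroup.normalizer (K : Set G)) : Nat.card {θ : Cfsg.IrrCharacter ↥K // (∀ k : ↥K, ((θ : ↥K → ℂ) k).im = 0) ∧ (∀ x ∈ P, ∀ k k' : ↥K, (k' : G) = x * (k : G) * x⁻¹ → (θ : ↥K → ℂ) k' = (θ : ↥K → ℂ) k)} = Nat.card {c : ConjClasses ↥K // (∀ k : ↥K, ConjClasses.mk k = c → IsConj k k⁻¹) ∧ ∀ k : ↥K, ConjClasses.mk k = c → ∀ x ∈ P, ∀ k' : ↥K, (k' : G) = x * (k : G) * x⁻¹ → ConjClasses.mk k' = c} ∧ ((∀ θ : Cfsg.IrrCharacter ↥K, (∀ k : ↥K, ((θ : ↥K → ℂ) k).im = 0) → (∀ x ∈ P, ∀ k k' : ↥K, (k' : G) = x * (k : G) * x⁻¹ → (θ : ↥K → ℂ) k' = (θ : ↥K → ℂ) k)) → ∀ k : ↥K, IsConj k k⁻¹ → ∃ k' : ↥K, IsConj k k' ∧ ∀ x ∈ P, x * (k' : G) * x⁻¹ = (k' : G)) := by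
  have hmem : ∀ x ∈ P, ∀ k ∈ K, x * k * x⁻¹ ∈ K := fun x hx k hk =>
    (Subgroup.mem_normalizer_iff.1 (hPK hx) k).1 hk
  let α : ↥P →* MulAut ↥K :=
    { toFun := fun x =>
        { toFun := fun k => ⟨(x : G) * k * (x : G)⁻¹, hmem _ x.2 _ k.2⟩
          invFun := fun k => ⟨(x : G)⁻¹ * k * ((x : G)⁻¹)⁻¹, hmem _ (inv_mem x.2) _ k.2⟩
          left_inv := fun k => Subtype.ext (by simp [mul_assoc])
          right_inv := fun k => Subtype.ext (by simp [mul_assoc])
          map_mul' := fun k l => Subtype.ext (by simp [mul_assoc]) }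
      map_one' := MulEquiv.ext fun k => Subtype.ext (by simp)
      map_mul' := fun x y => MulEquiv.ext fun k => Subtype.ext (by simp [mul_assoc]) }
  refine ⟨?_, ?_⟩
  · refine Eq.trans (Nat.card_congr (Equiv.subtypeEquivRight fun θ => ?_))
      ((H86.card_real_fixed_eq hK hP α).trans (Nat.card_congr (Equiv.subtypeEquivRight fun c => ?_)))
    · exact and_congr_right fun _ =>
        ⟨fun h a k => h a a.2 k (α a k) rfl, fun h x hx k k' hk' => by
          rw [show k' = α ⟨x, hx⟩ k from Subtype.ext hk']; exact h ⟨x, hx⟩ k⟩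
    · exact and_congr_right fun _ =>
        ⟨fun h k hk x hx k' hk' => by
          rw [show k' = α ⟨x, hx⟩ k from Subtype.ext hk']; exact h k hk ⟨x, hx⟩,
        fun h k hk a => h k hk a a.2 (α a k) rfl⟩
  · intro h k hk
    obtain ⟨k', h1, h2⟩ := H86.exists_fixed_of_fixes_real hK hP α
      (fun θ hθ a l => h θ hθ a a.2 l (α a l) rfl) k hk
    exact ⟨k', h1, fun x hx => congrArg Subtype.val (h2 ⟨x, hx⟩)⟩

end Cfsg.Agent.S4911
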