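import Cfsg.Statements.S4912
import Cfsg.Agent.H86.InducedIndicator
import Cfsg.Agent.H81.Gallagher
import Cfsg.Agent.CharBasic.Kernel
import Cfsg.Agent.BlockBasic.Basic

set_option autoImplicit false
open Cfsg

namespace Cfsg.Agent.S4912

open Cfsg.Agent Cfsg.Agent.CharBasic

/-- Linear characters trivial on a subgroup are at most as many as its cosets. -/
theorem card_trivial_on {G : Type*} [Group G] [Finite G] (I : Subgroup G) :
    Nat.card {l : G →* ℂˣ // ∀ x ∈ I, l x = 1} ≤ I.index := by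
  let K : Subgroup G := I ⊔ commutator G
  haveI hK : K.Normal := Subgroup.Normal.of_commutator_le G le_sup_right
  have hab : ∀ a b : G ⧸ K, a * b = b * a :=
    (Subgroup.Normal.quotient_commutative_iff_commutator_le.2 le_sup_right).is_comm.comm
  letI : CommGroup (G ⧸ K) := { (inferInstance : Group (G ⧸ K)) with mul_comm := hab }
  have hfin : Finite ((G ⧸ K) →* ℂˣ) :=
    Nat.finite_of_card_ne_zero (by
      rw [CommGroup.card_monoidHom_of_hasEnoughRootsOfUnity]; exact Nat.card_pos.ne')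
  let f : {l : G →* ℂˣ // ∀ x ∈ I, l x = 1} → ((G ⧸ K) →* ℂˣ) := fun l =>
    QuotientGroup.lift K l.1 (sup_le (fun x hx => MonoidHom.mem_ker.2 (l.2 x hx))
      (Abelianization.commutator_subset_ker l.1))
  have hf : Function.Injective f := fun a b e => Subtype.ext (MonoidHom.ext fun g =>
    DFunLike.congr_fun e (g : G ⧸ K))
  refine (Nat.card_le_card_of_injective f hf).trans ?_
  rw [CommGroup.card_monoidHom_of_hasEnoughRootsOfUnity, ← Subgroup.index_eq_card]
  exact Nat.le_of_dvd (Nat.pos_of_ne_zero Subgroup.index_ne_zero_of_finite)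
    (Subgroup.index_dvd_of_le le_sup_left)

/-- A linear character fixing an extension of an irreducible character is trivial. -/
theorem eq_one_of_mul_eq {H : Type*} [Group H] [Finite H] (M : Subgroup H) [M.Normal]
    {η : H → ℂ} (hη : Cfsg.IsIrrCharacter H η) (hres : Cfsg.IsIrrCharacter M (fun n : M => η n))
    (μ : H →* ℂˣ) (hμ : ∀ n ∈ M, μ n = 1) (he : ∀ t, η t * (μ t : ℂ) = η t) : μ = 1 := by
  classical
  cases nonempty_fintype H
  haveI := Fintype.ofFinite M
  haveI := Fintype.ofFinite (H ⧸ M)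
  set m := QuotientGroup.lift M μ hμ
  have hf : Cfsg.IsClassFunction (H ⧸ M) (fun q => (m q : ℂ)) :=
    IsIrr.isClassFunction (CharInduce.isIrrCharacter_hom m)
  have h1 := H81.classInner_mul_conj M hη hres hf
  rw [show (fun g => η g * H81.inflate M (fun q => (m q : ℂ)) g) = η from funext fun g => he g,
    classInner_irr_self hη] at h1
  have h2 : (fun _ : H ⧸ M => (1 : ℂ)) = fun q => (m q : ℂ) := by
    by_contra hne
    rw [classInner_irr_of_ne isIrrCharacter_one (CharInduce.isIrrCharacter_hom m) hne] at h1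
    exact one_ne_zero h1
  exact MonoidHom.ext fun t => Units.ext (congrFun h2 (t : H ⧸ M)).symm

/-- The counting bound. -/
theorem count_bound {G : Type*} [Group G] [Fintype G] (N : Subgroup G) [hN : N.Normal]
    (hperf : N ≤ commutator G) (φ : Cfsg.IrrCharacter ↥N)
    (hNI : N ≤ CharInduce.inertia N (φ : ↥N → ℂ))
    (ψ : ↥(CharInduce.inertia N (φ : ↥N → ℂ)) → ℂ) (hψ : Cfsg.IsIrrCharacter _ ψ)
    (hψφ : ∀ n : ↥N, ψ (Subgroup.inclusion hNI n) = (φ : ↥N → ℂ) n)
    (hψi : (Nat.card ↥(CharInduce.inertia N (φ : ↥N → ℂ)) : ℂ)⁻¹ *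
      ∑ᶠ t : ↥(CharInduce.inertia N (φ : ↥N → ℂ)), ψ (t * t) = 1) :
    Nat.card {χ : Cfsg.IrrCharacter G // Cfsg.charDegree (χ : G → ℂ) = 1 ∧
        (Nat.card G : ℂ)⁻¹ * ∑ᶠ g : G, (χ : G → ℂ) (g * g) = 1} ≤
      (CharInduce.inertia N (φ : ↥N → ℂ)).index *
        Nat.card {χ : Cfsg.IrrCharacter G // Cfsg.charDegree (χ : G → ℂ) =
            Cfsg.charDegree (φ : ↥N → ℂ) * (CharInduce.inertia N (φ : ↥N → ℂ)).index ∧
          (Nat.card G : ℂ)⁻¹ * ∑ᶠ g : G, (χ : G → ℂ) (g * g) = 1} := by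
  classical
  haveI := Fintype.ofFinite ↥N
  haveI := Fintype.ofFinite ↥(CharInduce.inertia N (φ : ↥N → ℂ))
  haveI : Finite (Cfsg.IrrCharacter G) := CharBasic.finite_irrCharacter
  let L := {χ : Cfsg.IrrCharacter G // Cfsg.charDegree (χ : G → ℂ) = 1 ∧
    (Nat.card G : ℂ)⁻¹ * ∑ᶠ g : G, (χ : G → ℂ) (g * g) = 1}
  let R := {χ : Cfsg.IrrCharacter G // Cfsg.charDegree (χ : G → ℂ) =
    Cfsg.charDegree (φ : ↥N → ℂ) * (CharInduce.inertia N (φ : ↥N → ℂ)).index ∧
    (Nat.card G : ℂ)⁻¹ * ∑ᶠ g : G, (χ : G → ℂ) (g * g) = 1}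
  have hl : ∀ x : L, ∃ l : G →* ℂˣ, (∀ g, (x.1 : G → ℂ) g = (l g : ℂ)) ∧
      (∀ n ∈ N, l n = 1) ∧ ∀ g, l g * l g = 1 := by
    intro x
    have h1 : (x.1 : G → ℂ) 1 = 1 := by
      rw [BlockBasic.apply_one_eq_charDegree, x.2.1, Nat.cast_one]
    obtain ⟨l, hl⟩ := CharInduce.IsChar.exists_hom_of_degree_one (IsIrr.isCharacter x.1.2) h1
    refine ⟨l, hl, fun n hn => ?_, fun g => ?_⟩
    · exact MonoidHom.mem_ker.1 (Abelianization.commutator_subset_ker l (hperf hn))
    · have h2 := x.2.2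
      rw [finsum_eq_sum_of_fintype] at h2
      have h3 := H86.real_of_indicator_one x.1.2 h2 g
      rw [hl] at h3
      apply Units.ext
      rw [Units.val_mul, Units.val_one]
      nth_rw 2 [← Complex.conj_eq_iff_im.2 h3]
      rw [Complex.mul_conj', CharInduce.norm_hom]
      simp
  choose l hl hlN hl2 using hl
  let η : L → ↥(CharInduce.inertia N (φ : ↥N → ℂ)) → ℂ := fun x t => ψ t * (l x (t : G) : ℂ)
  haveI : (N.subgroupOf (CharInduce.inertia N (φ : ↥N → ℂ))).Normal := inferInstance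
  have hres : Cfsg.IsIrrCharacter (N.subgroupOf (CharInduce.inertia N (φ : ↥N → ℂ))) (fun n : N.subgroupOf (CharInduce.inertia N (φ : ↥N → ℂ)) => ψ n) := by
    have := CharInduce.IsIrr.comp φ.2 (Subgroup.subgroupOfEquivOfLe hNI).toMonoidHom
      (Subgroup.subgroupOfEquivOfLe hNI).surjective
    convert this using 1
    funext n
    exact hψφ (Subgroup.subgroupOfEquivOfLe hNI n)
  have hηirr : ∀ x, Cfsg.IsIrrCharacter ↥(CharInduce.inertia N (φ : ↥N → ℂ)) (η x) := by
    intro x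
    haveI := Fintype.ofFinite (↥(CharInduce.inertia N (φ : ↥N → ℂ)) ⧸ N.subgroupOf (CharInduce.inertia N (φ : ↥N → ℂ)))
    have h := H81.isIrr_mul_inflate (N.subgroupOf (CharInduce.inertia N (φ : ↥N → ℂ))) hψ hres
      ⟨_, CharInduce.isIrrCharacter_hom (QuotientGroup.lift (N.subgroupOf (CharInduce.inertia N (φ : ↥N → ℂ)))
        ((l x).comp (CharInduce.inertia N (φ : ↥N → ℂ)).subtype) fun n hn => MonoidHom.mem_ker.2 (hlN x _ (Subgroup.mem_subgroupOf.1 hn)))⟩
    exact h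
  have hηres : ∀ x, CharInduce.resTo N hNI (η x) = (φ : ↥N → ℂ) := by
    intro x
    funext n
    show ψ ⟨(n : G), hNI n.2⟩ * (l x (n : G) : ℂ) = _
    rw [hlN x n n.2, Units.val_one, mul_one]
    exact hψφ n
  have hcl : ∀ x, Cfsg.IsIrrCharacter G (Cfsg.indFun (CharInduce.inertia N (φ : ↥N → ℂ)) (η x)) ∧
      ∀ ψ' : ↥(CharInduce.inertia N (φ : ↥N → ℂ)) → ℂ, Cfsg.IsIrrCharacter ↥(CharInduce.inertia N (φ : ↥N → ℂ)) ψ' →
        Cfsg.classInner (CharInduce.resTo N hNI ψ') (φ : ↥N → ℂ) ≠ 0 →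
        Cfsg.indFun (CharInduce.inertia N (φ : ↥N → ℂ)) ψ' = Cfsg.indFun (CharInduce.inertia N (φ : ↥N → ℂ)) (η x) → ψ' = η x := by
    intro x
    obtain ⟨a, -, b⟩ := CharInduce.clifford_correspondence N φ.2 hNI (hηirr x)
      (by rw [hηres, classInner_irr_self φ.2]; exact one_ne_zero)
    exact ⟨a, b⟩
  have hind : ∀ x, (Nat.card G : ℂ)⁻¹ * ∑ᶠ g : G, Cfsg.indFun (CharInduce.inertia N (φ : ↥N → ℂ)) (η x) (g * g) = 1 := by
    intro x
    rw [finsum_eq_sum_of_fintype]
    refine H86.indicator_indFun (CharInduce.inertia N (φ : ↥N → ℂ)) (hηirr x) ?_ (hcl x).1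
    rw [finsum_eq_sum_of_fintype] at hψi
    rw [← hψi]
    congr 1
    refine Finset.sum_congr rfl fun t _ => ?_
    show ψ (t * t) * (l x ((t : G) * t) : ℂ) = _
    rw [map_mul, hl2, Units.val_one, mul_one]
  have hdeg : ∀ x, Cfsg.charDegree (Cfsg.indFun (CharInduce.inertia N (φ : ↥N → ℂ)) (η x)) =
      Cfsg.charDegree (φ : ↥N → ℂ) * (CharInduce.inertia N (φ : ↥N → ℂ)).index := by
    intro x
    have h1 : Cfsg.indFun (CharInduce.inertia N (φ : ↥N → ℂ)) (η x) 1 = ((CharInduce.inertia N (φ : ↥N → ℂ)).index : ℂ) * (φ : ↥N → ℂ) 1 := by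
      rw [CharInduce.indFun_one]
      congr 1
      show ψ 1 * (l x ((1 : ↥(CharInduce.inertia N (φ : ↥N → ℂ))) : G) : ℂ) = _
      rw [Subgroup.coe_one, map_one, Units.val_one, mul_one, ← hψφ 1, map_one]
    have h2 := BlockBasic.apply_one_eq_charDegree (⟨_, (hcl x).1⟩ : Cfsg.IrrCharacter G)
    simp only at h2
    rw [h1, BlockBasic.apply_one_eq_charDegree φ, ← Nat.cast_mul, Nat.cast_inj] at h2
    rw [← h2, mul_comm]
  let F : L → R := fun x => ⟨⟨_, (hcl x).1⟩, hdeg x, hind x⟩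
  haveI := Fintype.ofFinite L
  haveI := Fintype.ofFinite R
  show Nat.card L ≤ (CharInduce.inertia N (φ : ↥N → ℂ)).index * Nat.card R
  rw [Nat.card_eq_fintype_card, Nat.card_eq_fintype_card, ← Finset.card_univ (α := R),
    ← Finset.card_univ (α := L)]
  refine Finset.card_le_mul_card_image_of_maps_to (f := F) (fun x _ => Finset.mem_univ _) _ fun r _ => ?_
  rcases Finset.eq_empty_or_nonempty (Finset.univ.filter fun x => F x = r) with he | ⟨x₀, hx₀⟩
  · simp [he]
  refine le_trans ?_ (card_trivial_on (CharInduce.inertia N (φ : ↥N → ℂ)))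
  haveI : Finite {l : G →* ℂˣ // ∀ x ∈ (CharInduce.inertia N (φ : ↥N → ℂ)), l x = 1} := Subtype.finite
  rw [← Fintype.card_coe, ← Nat.card_eq_fintype_card]
  refine Nat.card_le_card_of_injective (fun x => ⟨l x.1 * (l x₀)⁻¹, fun t ht => ?_⟩) fun a b e => ?_
  · have hxe : F x.1 = F x₀ := (Finset.mem_filter.1 x.2).2.trans (Finset.mem_filter.1 hx₀).2.symm
    have h1 : η x.1 = η x₀ := (hcl x₀).2 _ (hηirr x.1)
      (by rw [hηres, classInner_irr_self φ.2]; exact one_ne_zero)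
      (congrArg (fun r : R => ((r.1 : G → ℂ))) hxe)
    have h2 := eq_one_of_mul_eq (N.subgroupOf (CharInduce.inertia N (φ : ↥N → ℂ))) hψ hres ((l x.1 * (l x₀)⁻¹).comp (CharInduce.inertia N (φ : ↥N → ℂ)).subtype)
      (fun n hn => by
        simp [hlN x.1 _ (Subgroup.mem_subgroupOf.1 hn), hlN x₀ _ (Subgroup.mem_subgroupOf.1 hn)])
      (fun s => by
        have h3 := congrFun h1 s
        simp only [η] at h3
        rw [MonoidHom.comp_apply, Subgroup.coe_subtype, MonoidHom.mul_apply, MonoidHom.inv_apply,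
          Units.val_mul, ← mul_assoc, h3, mul_assoc, ← Units.val_mul, mul_inv_cancel,
          Units.val_one, mul_one])
    exact DFunLike.congr_fun h2 (⟨t, ht⟩ : ↥(CharInduce.inertia N (φ : ↥N → ℂ)))
  · have h1 : l a.1 = l b.1 := mul_right_cancel (congrArg Subtype.val e)
    exact Subtype.ext (Subtype.ext (Subtype.ext (funext fun g => by rw [hl, hl, h1])))

/-- Let G be a finite group with a non-abelian minimal normal subgroup N, and let φ be an irreducible complex character of N with stabilizer I in G such that φ extends to an irreducible character of I with Frobenius–Schur indicator +1. Put d = φ(1)·[G : I]. Then the number of linear characters of G with Frobenius–Schur indicator +1 is at most [G : I] times the number of irreducible characters of G of degree d with Frobenius–Schur indicator +1. -/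
theorem result {G : Type*} [Group G] [Finite G] (N : Subgroup G) (hN : N.Normal) (hN1 : N ≠ ⊥) (hmin : ∀ M : Subgroup G, M.Normal → M ≤ N → M = ⊥ ∨ M = N) (hna : ¬ IsMulCommutative ↥N) (φ : Cfsg.IrrCharacter ↥N) (I : Subgroup G) (hI : ∀ g : G, g ∈ I ↔ ∀ n n' : ↥N, (n' : G) = g * (n : G) * g⁻¹ → (φ : ↥N → ℂ) n' = (φ : ↥N → ℂ) n) (hNI : N ≤ I) (hext : ∃ ψ : Cfsg.IrrCharacter ↥I, (Nat.card ↥I : ℂ)⁻¹ * ∑ᶠ g : ↥I, (ψ : ↥I → ℂ) (g * g) = 1 ∧ ∀ n : ↥N, (ψ : ↥I → ℂ) (Subgroup.inclusion hNI n) = (φ : ↥N → ℂ) n) : Nat.card {χ : Cfsg.IrrCharacter G // Cfsg.charDegree (χ : G → ℂ) = 1 ∧ (Nat.card G : ℂ)⁻¹ * ∑ᶠ g : G, (χ : G → ℂ) (g * g) = 1} ≤ I.index * Nat.card {χ : Cfsg.IrrCharacter G // Cfsg.charDegree (χ : G → ℂ) = Cfsg.charDegree (φ : ↥N → ℂ) * I.index ∧ (Nat.card G : ℂ)⁻¹ * ∑ᶠ g : G, (χ : G → ℂ) (g * g) = 1} := by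
  haveI := hN
  cases nonempty_fintype G
  have hperf : N ≤ commutator G := by
    rcases hmin ⁅N, N⁆ inferInstance (Subgroup.commutator_le_self N) with h | h
    · exfalso
      refine hna ⟨⟨fun a b => Subtype.ext ?_⟩⟩
      rw [Subgroup.commutator_eq_bot_iff_le_centralizer] at h
      exact (Subgroup.mem_centralizer_iff.1 (h b.2)) a a.2
    · rw [← h]
      exact Subgroup.commutator_mono le_top le_top
  have hIT : I = CharInduce.inertia N (φ : ↥N → ℂ) := by
    ext g
    rw [hI g, CharInduce.mem_inertia]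
    constructor
    · intro h
      funext n
      exact h n ⟨g * n * g⁻¹, hN.conj_mem n n.2 g⟩ rfl
    · intro h n n' e
      refine Eq.trans ?_ (congrFun h n)
      exact congrArg _ (Subtype.ext e)
  subst hIT
  obtain ⟨⟨ψ, hψ⟩, hψi, hψφ⟩ := hext
  exact count_bound N hperf φ hNI ψ hψ hψφ hψi

end Cfsg.Agent.S4912
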