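import Cfsg.Statements.S4916
import Cfsg.Agent.BlockBasic.Basic
-- import your own Cfsg.Agent.* helpers here

set_option autoImplicit false
open Cfsg
open scoped ComplexConjugate

namespace Cfsg.Agent.S4916

/-- Let G be a finite group, p a prime and M a maximal ideal of the algebraic integers containing p. Then the principal character is the only irreducible character of degree prime to p in the principal p-block of G if and only if p does not divide the order of G. -/
theorem result {G : Type*} [Group G] [Finite G] (p : ℕ) [Fact p.Prime] (M : Ideal Cfsg.AlgInt) (hM : Cfsg.IsPModular p M) : (∀ χ : Cfsg.IrrCharacter G, χ ∈ Cfsg.principalBlock M G → ¬ p ∣ Cfsg.charDegree (χ : G → ℂ) → (χ : G → ℂ) = fun _ => (1 : ℂ)) ↔ ¬ p ∣ Nat.card G := by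
  classical
  cases nonempty_fintype G
  have hp : p.Prime := Fact.out
  constructor
  · intro h hdvd
    set B := Cfsg.principalBlock M G with hBdef
    have hB : Cfsg.IsPBlock M B := BlockBasic.isPBlock_principalBlock M
    have hc := BlockBasic.memLocalRing_blockCoeff hM hB (1 : G)
    have hcard : Cfsg.MemLocalIdeal M (Nat.card G : ℂ) :=
      (BlockBasic.memLocalIdeal_natCast_iff hM _).2 hdvd
    have hsum : Cfsg.MemLocalIdeal M
        (∑ χ : Cfsg.IrrCharacter G, if χ ∈ B then ((Cfsg.charDegree (χ : G → ℂ) ^ 2 : ℕ) : ℂ) else 0) := by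
      have := BlockBasic.memLocalIdeal_mul hM hc hcard
      rw [Cfsg.blockCoeff, BlockBasic.finsum_mem_eq_sum_ite, mul_comm _ (Nat.card G : ℂ), ← mul_assoc,
        mul_inv_cancel₀ (Nat.cast_ne_zero.2 Nat.card_pos.ne'), one_mul] at this
      convert this using 2 with χ
      split_ifs
      · rw [BlockBasic.apply_one_eq_charDegree]; simp [sq]
      · rfl
    rw [← Finset.add_sum_erase _ _ (Finset.mem_univ BlockBasic.trivialIrr)] at hsum
    have hrest : Cfsg.MemLocalIdeal M (∑ χ ∈ (Finset.univ : Finset (Cfsg.IrrCharacter G)).erase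
        BlockBasic.trivialIrr,
        if χ ∈ B then ((Cfsg.charDegree (χ : G → ℂ) ^ 2 : ℕ) : ℂ) else 0) := by
      refine BlockBasic.memLocalIdeal_sum hM _ _ fun χ hχ => ?_
      split_ifs with hmem
      · refine (BlockBasic.memLocalIdeal_natCast_iff hM _).2 (dvd_pow ?_ two_ne_zero)
        by_contra hnd
        exact (Finset.mem_erase.1 hχ).1 (Subtype.ext (h χ hmem hnd))
      · exact BlockBasic.memLocalIdeal_zero hM
    have h1 := BlockBasic.memLocalIdeal_sub hM hsum hrest
    rw [add_sub_cancel_right,
      if_pos (show BlockBasic.trivialIrr ∈ B from BlockBasic.sameBlock_refl hM _)] at h1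
    have hdeg : Cfsg.charDegree ((BlockBasic.trivialIrr : Cfsg.IrrCharacter G) : G → ℂ) = 1 := by
      simp [Cfsg.charDegree, BlockBasic.trivialIrr]
    rw [hdeg, one_pow, Nat.cast_one] at h1
    exact BlockBasic.not_memLocalIdeal_one hM h1
  · intro hnd χ hχ _
    have hd : ¬ p ∣ Nat.card G / Cfsg.charDegree
        ((BlockBasic.trivialIrr : Cfsg.IrrCharacter G) : G → ℂ) := by
      simpa [Cfsg.charDegree, BlockBasic.trivialIrr] using hnd
    have hs := (BlockBasic.blockOf_eq_singleton_iff hM _).2 hd
    have : χ ∈ Cfsg.blockOf M ((BlockBasic.trivialIrr : Cfsg.IrrCharacter G) : G → ℂ) := hχ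
    rw [hs, Set.mem_singleton_iff] at this
    rw [this]; rfl

end Cfsg.Agent.S4916
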