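import Cfsg.Statements.S4931
import Cfsg.Agent.H86.Extension
import Cfsg.Agent.S0169
-- import your own Cfsg.Agent.* helpers here

set_option autoImplicit false
open Cfsg
open scoped commutatorElement

namespace Cfsg.Agent.S4931

/-- Let G be a finite group, p a prime and P a Sylow p-subgroup of G with normalizer N. Then every irreducible complex character of N of degree not divisible by p is the restriction of an irreducible character of G if and only if there is a normal subgroup K of G with KN = G and K ∩ N = 1. -/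
theorem result {G : Type*} [Group G] [Finite G] (p : ℕ) [Fact p.Prime] (P : Sylow p G) :
    (∀ θ : Cfsg.IrrCharacter ↥(Subgroup.normalizer ((P : Subgroup G) : Set G)), ¬ p ∣ Cfsg.charDegree (θ : ↥(Subgroup.normalizer ((P : Subgroup G) : Set G)) → ℂ) →
        ∃ χ : Cfsg.IrrCharacter G, ∀ x : ↥(Subgroup.normalizer ((P : Subgroup G) : Set G)), (χ : G → ℂ) x = (θ : ↥(Subgroup.normalizer ((P : Subgroup G) : Set G)) → ℂ) x) ↔
      ∃ K : Subgroup G, K.Normal ∧ K ⊔ Subgroup.normalizer ((P : Subgroup G) : Set G) = ⊤ ∧ K ⊓ Subgroup.normalizer ((P : Subgroup G) : Set G) = ⊥ := by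
  refine ⟨fun h => ?_, ?_⟩
  · refine H86.complement_of_extend P _ rfl (fun R hRn hR η hd => ?_) h
    have hPN : (P : Subgroup G) ≤ (Subgroup.normalizer ((P : Subgroup G) : Set G)) := Subgroup.le_normalizer
    haveI : ((P : Subgroup G).subgroupOf (Subgroup.normalizer ((P : Subgroup G) : Set G))).Normal := Subgroup.normal_in_normalizer
    let H : Subgroup (↥(Subgroup.normalizer ((P : Subgroup G) : Set G)) ⧸ R) := ((P : Subgroup G).subgroupOf (Subgroup.normalizer ((P : Subgroup G) : Set G))).map (QuotientGroup.mk' R)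
    haveI : H.Normal := Subgroup.Normal.map inferInstance _ (QuotientGroup.mk'_surjective R)
    have hab : ∀ a ∈ H, ∀ b ∈ H, a * b = b * a := by
      rintro _ ⟨a, ha, rfl⟩ _ ⟨b, hb, rfl⟩
      rw [← commutatorElement_eq_one_iff_mul_comm, ← map_commutatorElement]
      exact (QuotientGroup.eq_one_iff _).2 (hR (Subgroup.commutator_mem_commutator ha hb))
    obtain ⟨n, ρ, hρ, hχ⟩ := η.2
    have hdvd := S0169.result ρ H hab
    have hdeg : Cfsg.charDegree (η : ↥(Subgroup.normalizer ((P : Subgroup G) : Set G)) ⧸ R → ℂ) = Module.finrank ℂ (Fin n → ℂ) := by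
      simp [Cfsg.charDegree, ← hχ, Representation.char_one]
    rw [hdeg] at hd
    have h1 : p ∣ ((P : Subgroup G).subgroupOf (Subgroup.normalizer ((P : Subgroup G) : Set G))).index :=
      (hd.trans hdvd).trans (Subgroup.index_map_dvd _ (QuotientGroup.mk'_surjective R))
    exact P.not_dvd_index (h1.trans (Subgroup.relIndex_dvd_index_of_le hPN))
  · rintro ⟨K, hK, h1, h2⟩ θ -
    exact H86.extend_of_complement h1 h2 θ

end Cfsg.Agent.S4931
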