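import Cfsg.Statements.S4955
import Cfsg.Agent.H86.KGV
import Cfsg.Agent.H81.GaloisSum
-- import your own Cfsg.Agent.* helpers here

set_option autoImplicit false
open Cfsg
open scoped ComplexConjugate

namespace Cfsg.Agent.S4955

/-- Let X be a finite group with an abelian normal Sylow p-subgroup V (a normal p-subgroup of index prime to p in which any two elements commute), and let G be a complement to V in X. Then for every v in V, writing C for the centralizer of v in G, the number k(X) of conjugacy classes of X satisfies k(X) ≤ (order of C)·(order of V) − ((order of G) − k(G)); the statement is written with the subtracted term moved to the left. In particular, if some v in V is centralized by no nonidentity element of G, then k(X) is at most the order of V. -/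
theorem result {X : Type*} [Group X] [Finite X] (p : ℕ) [Fact p.Prime] (V : Subgroup X) [V.Normal] (hVp : IsPGroup p V) (hidx : ¬ p ∣ V.index) (hab : ∀ a ∈ V, ∀ b ∈ V, a * b = b * a) (G : Subgroup X) (hGV : Subgroup.IsComplement' V G) (v : X) (hv : v ∈ V) : Nat.card (ConjClasses X) + Nat.card G ≤ Nat.card ↥(G ⊓ Subgroup.centralizer ({v} : Set X)) * Nat.card V + Nat.card (ConjClasses G) := by
  classical
  obtain ⟨f, hker, hid⟩ := H86.KGV.exists_proj hGV
  set T := (Finset.univ : Finset (Cfsg.IrrCharacter X)).filter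
    (fun χ : Cfsg.IrrCharacter X => ∀ u ∈ V, (χ : X → ℂ) u = (χ : X → ℂ) 1) with hT
  set S := (Finset.univ : Finset (Cfsg.IrrCharacter X)).filter
    (fun χ : Cfsg.IrrCharacter X => ¬ ∀ u ∈ V, (χ : X → ℂ) u = (χ : X → ℂ) 1) with hS
  let ι : Cfsg.IrrCharacter ↥G → Cfsg.IrrCharacter X := fun η =>
    ⟨fun x => (η : ↥G → ℂ) (f x), H86.isIrr_comp_surjective η.2 f (fun g => ⟨g, hid g⟩)⟩
  have hι : Function.Injective ι := by
    intro a b hab'
    apply Subtype.ext; funext g
    have := congrFun (congrArg Subtype.val hab') (g : X)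
    simpa [ι, hid] using this
  have hTimage : T = Finset.univ.image ι := by
    ext χ
    simp only [hT, Finset.mem_filter, Finset.mem_univ, true_and, Finset.mem_image,
      H86.KGV.trivial_iff hker hid]
    exact ⟨fun ⟨η, h⟩ => ⟨η, Subtype.ext (funext fun x => (h x).symm)⟩,
      fun ⟨η, h⟩ => ⟨η, fun x => by rw [← h]⟩⟩
  have hTcard : T.card = Nat.card (ConjClasses G) := by
    rw [hTimage, Finset.card_image_of_injective _ hι, Finset.card_univ, ← Nat.card_eq_fintype_card,
      CharBasic.card_irrCharacter]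
  have hsplit : T.card + S.card = Nat.card (ConjClasses X) := by
    rw [← CharBasic.card_irrCharacter, Nat.card_eq_fintype_card, hT, hS,
      Finset.card_filter_add_card_filter_not, Finset.card_univ]
  -- second orthogonality at the powers of v
  set N : ℕ := Nat.card ↥(G ⊓ Subgroup.centralizer ({v} : Set X)) * Nat.card ↥V with hN
  have horth : ∀ u ∈ V, (∀ x : X, x ∈ Subgroup.centralizer ({u} : Set X) ↔
      x ∈ Subgroup.centralizer ({v} : Set X)) →
      (∑ χ ∈ S, ‖(χ : X → ℂ) u‖ ^ 2) + (Nat.card G : ℝ) = (N : ℝ) := by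
    intro u hu hC
    have h := CharBasic.second_orthogonality_self u
    simp only [Complex.mul_conj'] at h
    have h' : ∑ χ : Cfsg.IrrCharacter X, ‖(χ : X → ℂ) u‖ ^ 2 =
        (Nat.card (Subgroup.centralizer ({u} : Set X)) : ℝ) := by exact_mod_cast h
    rw [show Subgroup.centralizer ({u} : Set X) = Subgroup.centralizer ({v} : Set X) from
      Subgroup.ext hC, H86.KGV.card_centralizer hab hGV hv, mul_comm] at h'
    rw [← Finset.sum_filter_add_sum_filter_not Finset.univ
      (fun χ : Cfsg.IrrCharacter X => ∀ u ∈ V, (χ : X → ℂ) u = (χ : X → ℂ) 1), ← hT, ← hS,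
      add_comm] at h'
    rw [hN, ← h']
    congr 1
    rw [hTimage, Finset.sum_image (fun a _ b _ e => hι e)]
    have h2 := CharBasic.sum_sq_degree (G := ↥G)
    have h3 : ∀ η : Cfsg.IrrCharacter ↥G, ((‖(ι η : X → ℂ) u‖ ^ 2 : ℝ) : ℂ) = (η : ↥G → ℂ) 1 ^ 2 := by
      intro η
      have e : (ι η : X → ℂ) u = (η : ↥G → ℂ) 1 := by
        show (η : ↥G → ℂ) (f u) = _
        rw [show f u = 1 from by rwa [← MonoidHom.mem_ker, hker]]
      rw [e, BlockBasic.apply_one_eq_charDegree]
      simp
    have h4 : ((∑ η : Cfsg.IrrCharacter ↥G, ‖(ι η : X → ℂ) u‖ ^ 2 : ℝ) : ℂ) = (Nat.card G : ℂ) := by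
      rw [← h2, Complex.ofReal_sum]
      exact Finset.sum_congr rfl fun η _ => h3 η
    exact_mod_cast h4.symm
  set K := (Finset.range (orderOf v)).filter (fun k => Nat.Coprime k (orderOf v)) with hK
  have hKne : 0 < K.card := by
    rw [Finset.card_pos]
    rcases Nat.lt_or_ge 1 (orderOf v) with h1 | h1
    · exact ⟨1, Finset.mem_filter.2 ⟨Finset.mem_range.2 h1, Nat.coprime_one_left _⟩⟩
    · have h0 := orderOf_pos v
      exact ⟨0, Finset.mem_filter.2 ⟨Finset.mem_range.2 h0, by
        rw [show orderOf v = 1 by omega]; exact Nat.coprime_one_right _⟩⟩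
  have hge : (K.card : ℝ) * (S.card : ℝ) ≤ (K.card : ℝ) * ((N : ℝ) - (Nat.card G : ℝ)) := by
    calc (K.card : ℝ) * (S.card : ℝ) = ∑ _χ ∈ S, (K.card : ℝ) := by
          rw [Finset.sum_const, nsmul_eq_mul, mul_comm]
      _ ≤ ∑ χ ∈ S, ∑ k ∈ K, ‖(χ : X → ℂ) (v ^ k)‖ ^ 2 := Finset.sum_le_sum fun χ _ =>
          H81.card_le_sum_norm_sq (CharBasic.IsIrr.isCharacter χ.2)
            (H86.KGV.value_ne_zero hVp hidx hab χ hv)
      _ = ∑ k ∈ K, ∑ χ ∈ S, ‖(χ : X → ℂ) (v ^ k)‖ ^ 2 := Finset.sum_comm
      _ = ∑ _k ∈ K, ((N : ℝ) - (Nat.card G : ℝ)) := Finset.sum_congr rfl fun k hk => by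
          rw [eq_sub_iff_add_eq]
          refine horth _ (pow_mem hv k) fun x => ?_
          rw [H86.KGV.centralizer_pow_eq (Finset.mem_filter.1 hk).2]
      _ = _ := by rw [Finset.sum_const, nsmul_eq_mul]
  have hge' : (S.card : ℝ) ≤ (N : ℝ) - (Nat.card G : ℝ) :=
    le_of_mul_le_mul_left hge (by exact_mod_cast hKne)
  have h5 : S.card + Nat.card G ≤ N := by
    exact_mod_cast (by linarith : (S.card : ℝ) + (Nat.card G : ℝ) ≤ (N : ℝ))
  omega

end Cfsg.Agent.S4955
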