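import Cfsg.Statements.S4956
import Mathlib
-- import your own Cfsg.Agent.* helpers here

set_option autoImplicit false
open Cfsg

namespace Cfsg.Agent.S4956

open Classical in
/-- Kernel of the commutation map of two commuting automorphisms in coprime action. -/
theorem pair_count {W : Type*} [CommGroup W] [Finite W] (A : Subgroup (MulAut W))
    (hcop : (Nat.card W).Coprime (Nat.card A)) [Finite A] (g h : MulAut W)
    (hA : A = Subgroup.closure {g, h}) (hgh : g * h = h * g) :
    Nat.card {p : W × W // p.1 * g p.2 = p.2 * h p.1} =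
      Nat.card W * Nat.card {w : W // g w = w ∧ h w = w} := by
  haveI := Fintype.ofFinite W
  haveI := Fintype.ofFinite A
  -- the commutation map
  let d : W × W →* W :=
    { toFun := fun p => p.1 * g p.2 / (p.2 * h p.1)
      map_one' := by simp
      map_mul' := fun p q => by
        simp only [Prod.fst_mul, Prod.snd_mul, map_mul]
        rw [div_mul_div_comm]
        congr 1 <;> ac_rfl }
  have hgA : g ∈ A := hA ▸ Subgroup.subset_closure (by simp)
  have hhA : h ∈ A := hA ▸ Subgroup.subset_closure (by simp)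
  let N : W →* W :=
    { toFun := fun w => ∏ a : A, (a : MulAut W) w
      map_one' := by simp
      map_mul' := fun u w => by simp [Finset.prod_mul_distrib] }
  have Nact : ∀ a ∈ A, ∀ w, N (a w) = N w := by
    intro a ha w
    exact Fintype.prod_equiv (Equiv.mulRight (⟨a, ha⟩ : A)) _ _ (fun b => rfl)
  have actN : ∀ a ∈ A, ∀ w, a (N w) = N w := by
    intro a ha w
    show a (∏ b : A, (b : MulAut W) w) = _
    rw [map_prod]
    exact Fintype.prod_equiv (Equiv.mulLeft (⟨a, ha⟩ : A)) _ _ (fun b => rfl)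
  let C : Subgroup W :=
    { carrier := {w | g w = w ∧ h w = w}
      mul_mem' := fun ha hb => ⟨by rw [map_mul, ha.1, hb.1], by rw [map_mul, ha.2, hb.2]⟩
      one_mem' := ⟨map_one g, map_one h⟩
      inv_mem' := fun ha => ⟨by rw [map_inv, ha.1], by rw [map_inv, ha.2]⟩ }
  have hC : ∀ c ∈ C, ∀ a ∈ A, a c = c := by
    intro c hc a ha
    have : A ≤ MulAction.stabilizer (MulAut W) c := by
      rw [hA, Subgroup.closure_le]
      rintro x (rfl | rfl)
      exacts [hc.1, hc.2]
    exact this ha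
  have hrange : N.range = C := by
    refine le_antisymm ?_ ?_
    · rintro _ ⟨w, rfl⟩
      exact ⟨actN g hgA w, actN h hhA w⟩
    · intro c hc
      refine ⟨(powCoprime hcop).symm c, ?_⟩
      have : N c = c ^ Nat.card A := by
        show ∏ a : A, (a : MulAut W) c = _
        rw [Finset.prod_congr rfl (fun (a : ↥A) _ => hC c hc _ a.2), Finset.prod_const,
          Finset.card_univ, Nat.card_eq_fintype_card]
      have e : ((powCoprime hcop).symm c) ^ Nat.card A = c := (powCoprime hcop).apply_symm_apply c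
      have hfix : ∀ a ∈ A, a ((powCoprime hcop).symm c) = (powCoprime hcop).symm c := by
        intro a ha
        apply (powCoprime hcop).injective
        show (a ((powCoprime hcop).symm c)) ^ Nat.card A = ((powCoprime hcop).symm c) ^ Nat.card A
        rw [← map_pow, e, hC c hc a ha]
      show ∏ a : A, (a : MulAut W) ((powCoprime hcop).symm c) = c
      rw [Finset.prod_congr rfl (fun (a : ↥A) _ => hfix _ a.2), Finset.prod_const, Finset.card_univ,
        ← Nat.card_eq_fintype_card, e]
  have hker : N.ker = d.range := by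
    refine le_antisymm ?_ ?_
    · intro w hw
      have hR : ∀ a ∈ A, ∀ v, a v / v ∈ d.range := by
        intro a ha
        rw [hA] at ha
        induction ha using Subgroup.closure_induction with
        | mem x hx =>
          intro v
          rcases hx with rfl | rfl
          · exact ⟨(1, v), by simp [d]⟩
          · exact ⟨(v⁻¹, 1), by simp [d, div_eq_mul_inv, mul_comm]⟩
        | one => intro v; simp
        | mul x y _ _ hx hy =>
          intro v
          have := mul_mem (hx (y v)) (hy v)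
          rwa [div_mul_div_cancel, ← MulAut.mul_apply] at this
        | inv x _ hx =>
          intro v
          have := inv_mem (hx (x⁻¹ v))
          rwa [inv_div, MulAut.apply_inv_self] at this
      have h1 : (∏ a : A, ((a : MulAut W) w / w)) ∈ d.range :=
        prod_mem (fun a _ => hR a a.2 w)
      rw [Finset.prod_div_distrib, show (∏ a : A, (a : MulAut W) w) = 1 from hw, one_div,
        Finset.prod_const, Finset.card_univ, ← Nat.card_eq_fintype_card] at h1
      have hw' : w ^ Nat.card A ∈ d.range := (Subgroup.inv_mem_iff _).1 h1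
      obtain ⟨v, hv⟩ : ∃ v : d.range, v ^ Nat.card A = ⟨_, hw'⟩ :=
        (powCoprime (hcop.of_dvd_left (Subgroup.card_subgroup_dvd_card _))).surjective _
      have : (v : W) = w := (powCoprime hcop).injective (congrArg Subtype.val hv)
      exact this ▸ v.2
    · rintro _ ⟨p, rfl⟩
      show N (p.1 * g p.2 / (p.2 * h p.1)) = 1
      rw [map_div, map_mul, map_mul, Nact g hgA, Nact h hhA, mul_comm, div_self']
  have h1 := d.ker.card_mul_index
  rw [Subgroup.index_ker, Nat.card_prod] at h1
  have h2 := N.ker.card_mul_index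
  rw [Subgroup.index_ker, hrange, hker] at h2
  have e1 : Nat.card {p : W × W // p.1 * g p.2 = p.2 * h p.1} = Nat.card d.ker :=
    Nat.card_congr (Equiv.subtypeEquivRight (fun p => by simp [d, MonoidHom.mem_ker, div_eq_one]))
  have e2 : Nat.card {w : W // g w = w ∧ h w = w} = Nat.card C := rfl
  rw [e1, e2]
  have hpos : 0 < Nat.card d.range := Nat.card_pos
  apply Nat.eq_of_mul_eq_mul_right hpos
  rw [h1, mul_assoc, mul_comm (Nat.card C), h2]

/-- Commuting pairs in a semidirect product by an abelian coprime normal subgroup. -/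
theorem comm_count {X : Type*} [Group X] [Finite X] (V : Subgroup X) [V.Normal]
    (hab : ∀ a ∈ V, ∀ b ∈ V, a * b = b * a) (G : Subgroup X) (hGV : Subgroup.IsComplement' V G)
    (hcop : (Nat.card V).Coprime (Nat.card G)) :
    Nat.card {p : X × X // Commute p.1 p.2} = Nat.card V *
      Nat.card (Σ v : ↥V, {q : ↥G × ↥G // Commute q.1 q.2 ∧
        (q.1 : X) * v = v * q.1 ∧ (q.2 : X) * v = v * q.2}) := by
  classical
  letI : CommGroup ↥V := { (inferInstance : Group ↥V) with
    mul_comm := fun a b => Subtype.ext (hab _ a.2 _ b.2) }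
  haveI := Fintype.ofFinite ↥G
  haveI := Fintype.ofFinite ↥V
  let f : ↥G →* MulAut ↥V := (MulAut.conjNormal).comp G.subtype
  have hf : ∀ (a : ↥G) (v : ↥V), ((f a v : ↥V) : X) = a * v * (a : X)⁻¹ := fun a v =>
    MulAut.conjNormal_apply _ _
  have huniq : ∀ {u u' : ↥V} {a a' : ↥G}, (u : X) * a = u' * a' → u = u' ∧ a = a' := by
    intro u u' a a' h
    exact Prod.ext_iff.1 (hGV.1 (a₁ := (u, a)) (a₂ := (u', a')) h)
  have hcomm : ∀ (u w : ↥V) (a b : ↥G), Commute ((u : X) * a) ((w : X) * b) ↔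
      (Commute a b ∧ u * f a w = w * f b u) := by
    intro u w a b
    have e1 : (u : X) * a * (w * b) = ((u * f a w : ↥V) : X) * ((a * b : ↥G) : X) := by
      rw [Subgroup.coe_mul, Subgroup.coe_mul, hf]; group
    have e2 : (w : X) * b * (u * a) = ((w * f b u : ↥V) : X) * ((b * a : ↥G) : X) := by
      rw [Subgroup.coe_mul, Subgroup.coe_mul, hf]; group
    constructor
    · intro h
      obtain ⟨h1, h2⟩ := huniq (e1.symm.trans (h.eq.trans e2))
      exact ⟨h2, h1⟩
    · rintro ⟨h1, h2⟩
      show (u : X) * a * (w * b) = w * b * (u * a)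
      rw [e1, e2, h1.eq, h2]
  let E : (↥V × ↥G) ≃ X := Equiv.ofBijective (fun p => (p.1 : X) * p.2) hGV
  let Pairs := {q : ↥G × ↥G // Commute q.1 q.2}
  have step1 : {p : X × X // Commute p.1 p.2} ≃
      (Σ q : Pairs, {p : ↥V × ↥V // p.1 * f q.1.1 p.2 = p.2 * f q.1.2 p.1}) :=
    { toFun := fun p =>
        have h := (hcomm (E.symm p.1.1).1 (E.symm p.1.2).1 (E.symm p.1.1).2 (E.symm p.1.2).2).1
          (by
            have a := E.apply_symm_apply p.1.1
            have b := E.apply_symm_apply p.1.2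
            have a' : ((E.symm p.1.1).1 : X) * (E.symm p.1.1).2 = p.1.1 := a
            have b' : ((E.symm p.1.2).1 : X) * (E.symm p.1.2).2 = p.1.2 := b
            rw [a', b']; exact p.2)
        ⟨⟨((E.symm p.1.1).2, (E.symm p.1.2).2), h.1⟩,
          ⟨((E.symm p.1.1).1, (E.symm p.1.2).1), h.2⟩⟩
      invFun := fun x => ⟨(E (x.2.1.1, x.1.1.1), E (x.2.1.2, x.1.1.2)),
        (hcomm _ _ _ _).2 ⟨x.1.2, x.2.2⟩⟩
      left_inv := fun p => by
        apply Subtype.ext
        simp
      right_inv := fun x => by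
        obtain ⟨⟨⟨a, b⟩, hc⟩, ⟨⟨u, w⟩, he⟩⟩ := x
        refine Sigma.subtype_ext ?_ ?_
        · apply Subtype.ext; simp
        · simp }
  have step2 : ∀ q : Pairs, Nat.card {p : ↥V × ↥V // p.1 * f q.1.1 p.2 = p.2 * f q.1.2 p.1} =
      Nat.card V * Nat.card {w : ↥V // f q.1.1 w = w ∧ f q.1.2 w = w} := by
    intro q
    have hle : Subgroup.closure {f q.1.1, f q.1.2} ≤ f.range := by
      rw [Subgroup.closure_le]
      rintro x (rfl | rfl)
      exacts [⟨_, rfl⟩, ⟨_, rfl⟩]
    haveI : Finite (MulAut ↥V) := Finite.of_injective (fun e : MulAut ↥V => (e : ↥V → ↥V))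
      DFunLike.coe_injective
    refine pair_count _ ?_ _ _ rfl ?_
    · exact hcop.of_dvd_right ((Subgroup.card_dvd_of_le hle).trans (Subgroup.card_range_dvd f))
    · rw [← map_mul, ← map_mul, q.2.eq]
  have hiff : ∀ (a : ↥G) (w : ↥V), f a w = w ↔ (a : X) * w = w * a := by
    intro a w
    rw [Subtype.ext_iff, hf, mul_inv_eq_iff_eq_mul]
  have step3 : (Σ v : ↥V, {q : ↥G × ↥G // Commute q.1 q.2 ∧
        (q.1 : X) * v = v * q.1 ∧ (q.2 : X) * v = v * q.2}) ≃
      (Σ q : Pairs, {w : ↥V // f q.1.1 w = w ∧ f q.1.2 w = w}) :=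
    { toFun := fun x => ⟨⟨x.2.1, x.2.2.1⟩, ⟨x.1, (hiff _ _).2 x.2.2.2.1, (hiff _ _).2 x.2.2.2.2⟩⟩
      invFun := fun x => ⟨x.2.1, ⟨x.1.1, x.1.2, (hiff _ _).1 x.2.2.1, (hiff _ _).1 x.2.2.2⟩⟩
      left_inv := fun x => rfl
      right_inv := fun x => rfl }
  haveI := Fintype.ofFinite Pairs
  rw [Nat.card_congr step1, Nat.card_congr step3, Nat.card_sigma, Nat.card_sigma, Finset.mul_sum]
  exact Finset.sum_congr rfl (fun q _ => step2 q)

/-- Conjugation transports commuting pairs of stabilisers. -/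
theorem stab_conj {X : Type*} [Group X] (G : Subgroup X) (k : ↥G) (v s : X)
    (h : (k : X) * v * (k : X)⁻¹ = s) :
    Nonempty ({q : ↥G × ↥G // Commute q.1 q.2 ∧ (q.1 : X) * v = v * q.1 ∧ (q.2 : X) * v = v * q.2}
      ≃ {q : ↥(G ⊓ Subgroup.centralizer ({s} : Set X)) × ↥(G ⊓ Subgroup.centralizer ({s} : Set X)) //
          Commute q.1 q.2}) := by
  have h1 : ∀ a : ↥G, ((a : X) * v = v * a ↔
      ((k * a * k⁻¹ : ↥G) : X) ∈ G ⊓ Subgroup.centralizer ({s} : Set X)) := by
    intro a
    rw [Subgroup.mem_inf, Subgroup.mem_centralizer_singleton_iff, and_iff_right (k * a * k⁻¹).2,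
      ← h, Subgroup.coe_mul, Subgroup.coe_mul, Subgroup.coe_inv]
    constructor
    · intro e
      calc (k : X) * a * (k : X)⁻¹ * (k * v * (k : X)⁻¹) = k * (a * v) * (k : X)⁻¹ := by group
        _ = k * (v * a) * (k : X)⁻¹ := by rw [e]
        _ = _ := by group
    · intro e
      calc (a : X) * v = (k : X)⁻¹ * (k * a * (k : X)⁻¹ * (k * v * (k : X)⁻¹)) * k := by group
        _ = (k : X)⁻¹ * (k * v * (k : X)⁻¹ * (k * a * (k : X)⁻¹)) * k := by rw [e]
        _ = _ := by group
  refine ⟨Equiv.ofBijective (fun q => ⟨(⟨_, (h1 _).1 q.2.2.1⟩, ⟨_, (h1 _).1 q.2.2.2⟩), ?_⟩) ⟨?_, ?_⟩⟩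
  · apply Subtype.ext
    show ((k * q.1.1 * k⁻¹ : ↥G) : X) * ((k * q.1.2 * k⁻¹ : ↥G) : X) =
      ((k * q.1.2 * k⁻¹ : ↥G) : X) * ((k * q.1.1 * k⁻¹ : ↥G) : X)
    rw [← Subgroup.coe_mul, ← Subgroup.coe_mul]
    exact congrArg Subtype.val (q.2.1.map (MulAut.conj k).toMonoidHom).eq
  · intro a b hab'
    simp only [Subtype.mk.injEq, Prod.mk.injEq, Subgroup.coe_mul, mul_left_inj, mul_right_inj] at hab'
    exact Subtype.ext (Prod.ext (Subtype.ext hab'.1) (Subtype.ext hab'.2))
  · rintro ⟨⟨a, b⟩, hc⟩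
    have ha : ((k * (k⁻¹ * ⟨a, a.2.1⟩ * k) * k⁻¹ : ↥G) : X) = a := by simp [mul_assoc]
    have hb : ((k * (k⁻¹ * ⟨b, b.2.1⟩ * k) * k⁻¹ : ↥G) : X) = b := by simp [mul_assoc]
    refine ⟨⟨(k⁻¹ * ⟨a, a.2.1⟩ * k, k⁻¹ * ⟨b, b.2.1⟩ * k), ?_, (h1 _).2 ?_, (h1 _).2 ?_⟩, ?_⟩
    · have hc' : Commute (⟨a, a.2.1⟩ : ↥G) ⟨b, b.2.1⟩ :=
        Subtype.ext (congrArg Subtype.val hc.eq :)
      simpa [MulAut.conj_apply] using hc'.map (MulAut.conj k⁻¹).toMonoidHom
    · rw [ha]; exact a.2
    · rw [hb]; exact b.2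
    · exact Subtype.ext (Prod.ext (Subtype.ext ha) (Subtype.ext hb))

/-- Let X be a finite group, V an abelian normal subgroup of X (any two elements of V commute) and G a complement to V in X whose order is coprime to that of V. Let S be a set of representatives of the orbits of G on V under conjugation: S lies in V and every element of V is conjugate under G to exactly one member of S. Then the number of conjugacy classes of X equals the sum, over s in S, of the number of conjugacy classes of the centralizer of s in G. -/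
theorem result {X : Type*} [Group X] [Finite X] (V : Subgroup X) [V.Normal] (hab : ∀ a ∈ V, ∀ b ∈ V, a * b = b * a) (G : Subgroup X) (hGV : Subgroup.IsComplement' V G) (hcop : (Nat.card V).Coprime (Nat.card G)) (S : Finset X) (hSV : ∀ s ∈ S, s ∈ V) (hrep : ∀ v ∈ V, ∃! s, s ∈ S ∧ ∃ g ∈ G, g * v * g⁻¹ = s) : Nat.card (ConjClasses X) = ∑ s ∈ S, Nat.card (ConjClasses ↥(G ⊓ Subgroup.centralizer ({s} : Set X))) := by
  classical
  haveI := Fintype.ofFinite X
  haveI := Fintype.ofFinite ↥V
  haveI := Fintype.ofFinite ↥G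
  choose r hr using fun v : ↥V => (hrep v v.2).exists
  choose k hkG hk using fun v => (hr v).2
  have hX : Nat.card X = Nat.card V * Nat.card G := hGV.card_mul.symm
  have h1 := comm_count V hab G hGV hcop
  rw [card_comm_eq_card_conjClasses_mul_card, hX, Nat.card_sigma,
    ← Finset.sum_fiberwise_of_maps_to (s := Finset.univ) (t := S) (g := r)
      (fun v _ => (hr v).1)] at h1
  suffices H : ∀ s ∈ S, (∑ v ∈ Finset.univ.filter (fun v => r v = s),
      Nat.card {q : ↥G × ↥G // Commute q.1 q.2 ∧ (q.1 : X) * v = v * q.1 ∧ (q.2 : X) * v = v * q.2})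
      = Nat.card (ConjClasses ↥(G ⊓ Subgroup.centralizer ({s} : Set X))) * Nat.card G by
    rw [Finset.sum_congr rfl H, ← Finset.sum_mul] at h1
    rw [mul_left_comm] at h1
    exact Nat.eq_of_mul_eq_mul_right Nat.card_pos (Nat.eq_of_mul_eq_mul_left Nat.card_pos h1)
  intro s hs
  set C := G ⊓ Subgroup.centralizer ({s} : Set X) with hC
  have hterm : ∀ v ∈ Finset.univ.filter (fun v => r v = s),
      Nat.card {q : ↥G × ↥G // Commute q.1 q.2 ∧ (q.1 : X) * v = v * q.1 ∧ (q.2 : X) * v = v * q.2}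
      = Nat.card {q : ↥C × ↥C // Commute q.1 q.2} := by
    intro v hv
    obtain ⟨e⟩ := stab_conj G ⟨k v, hkG v⟩ v s ((hk v).trans (Finset.mem_filter.1 hv).2)
    exact Nat.card_congr e
  rw [Finset.sum_congr rfl hterm, Finset.sum_const, smul_eq_mul,
    card_comm_eq_card_conjClasses_mul_card, ← mul_assoc, mul_comm (Finset.card _), mul_assoc]
  congr 1
  -- orbit-stabiliser
  let act : ↥G → ↥V := fun g => ⟨g * s * (g : X)⁻¹, (inferInstance : V.Normal).conj_mem s (hSV s hs) g⟩
  have hfib : ∀ v ∈ Finset.univ.filter (fun v => r v = s),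
      (Finset.univ.filter (fun g => act g = v)).card = Nat.card ↥C := by
    intro v hv
    have hv' : k v * (v : X) * (k v)⁻¹ = s := (hk v).trans (Finset.mem_filter.1 hv).2
    rw [← Fintype.card_subtype, ← Nat.card_eq_fintype_card]
    refine Nat.card_congr ?_
    have key : ∀ g : ↥G, act g = v ↔ ((⟨k v, hkG v⟩ * g : ↥G) : X) ∈ C := by
      intro g
      rw [hC, Subgroup.mem_inf, Subgroup.mem_centralizer_singleton_iff,
        and_iff_right (⟨k v, hkG v⟩ * g : ↥G).2, Subtype.ext_iff, Subgroup.coe_mul]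
      show (g : X) * s * (g : X)⁻¹ = v ↔ _
      constructor
      · intro e
        rw [← e] at hv'
        calc k v * g * s = (k v * ((g : X) * s * (g : X)⁻¹) * (k v)⁻¹) * (k v * g) := by group
          _ = s * (k v * g) := by rw [hv']
      · intro e
        calc (g : X) * s * (g : X)⁻¹ = (k v)⁻¹ * (k v * g * s) * (g : X)⁻¹ := by group
          _ = (k v)⁻¹ * (s * (k v * g)) * (g : X)⁻¹ := by rw [e]
          _ = (k v)⁻¹ * s * k v := by group
          _ = (k v)⁻¹ * (k v * (v : X) * (k v)⁻¹) * k v := by rw [hv']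
          _ = v := by group
    exact
      { toFun := fun g => ⟨_, (key g.1).1 g.2⟩
        invFun := fun c => ⟨(⟨k v, hkG v⟩ : ↥G)⁻¹ * ⟨c, c.2.1⟩, (key _).2 (by simp)⟩
        left_inv := fun g => by apply Subtype.ext; simp [Subtype.ext_iff, ← mul_assoc]
        right_inv := fun c => by apply Subtype.ext; simp }
  have hmap : ∀ g ∈ (Finset.univ : Finset ↥G), act g ∈ Finset.univ.filter (fun v => r v = s) := by
    intro g _
    rw [Finset.mem_filter]
    refine ⟨Finset.mem_univ _, (hrep (act g) (act g).2).unique (hr _) ⟨hs, (g : X)⁻¹, inv_mem g.2, ?_⟩⟩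
    show (g : X)⁻¹ * ((g : X) * s * (g : X)⁻¹) * ((g : X)⁻¹)⁻¹ = s
    group
  have hsum := Finset.card_eq_sum_card_fiberwise hmap
  rw [Finset.sum_congr rfl hfib, Finset.sum_const, smul_eq_mul, Finset.card_univ,
    ← Nat.card_eq_fintype_card] at hsum
  exact hsum.symm

end Cfsg.Agent.S4956
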