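import Cfsg.Statements.S4957
import Cfsg.Agent.H45.CoprimeTrans.Bridge
import Cfsg.Agent.S4956
import Cfsg.Agent.S4958

set_option autoImplicit false
set_option linter.style.haveILetI false
open Cfsg

namespace Cfsg.Agent.S4957

open Cfsg.Agent.H45.CoprimeTrans

/-- Let X be a finite group and V a normal subgroup of X in which every element has order dividing the prime p, whose index in X is prime to p and which is its own centralizer in X; so V is an elementary abelian normal Sylow p-subgroup, and any complement G to V in X is a group of order prime to p acting faithfully on the vector space V by conjugation (the coprime linear setting of the k(GV) problem). Suppose a complement G to V in X is transitive by conjugation on the nonidentity elements of V. Then X has at most (order of V) conjugacy classes, and if equality holds then G is cyclic (hence, being transitive, a Singer cycle), or V has order 8 and G has order 21 (the nonabelian group of order 21 inside the simple group of order 168), or V has order 9 and G has order 16 (a semidihedral Sylow 2-subgroup of the 2-dimensional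 general linear group over the field with 3 elements). -/
theorem result {X : Type*} [Group X] [Finite X] (p : ℕ) [Fact p.Prime] (V : Subgroup X) [V.Normal] (hVexp : ∀ v ∈ V, v ^ p = 1) (hidx : ¬ p ∣ V.index) (hself : Subgroup.centralizer (V : Set X) = V) (G : Subgroup X) (hGV : Subgroup.IsComplement' V G) (htrans : ∀ v ∈ V, ∀ w ∈ V, v ≠ 1 → w ≠ 1 → ∃ g ∈ G, g * v * g⁻¹ = w) : Nat.card (ConjClasses X) ≤ Nat.card V ∧ (Nat.card (ConjClasses X) = Nat.card V → (IsCyclic G ∨ (Nat.card V = 8 ∧ Nat.card G = 21) ∨ (Nat.card V = 9 ∧ Nat.card G = 16))) := by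
  classical
  have hab : ∀ a ∈ V, ∀ b ∈ V, a * b = b * a := fun a ha b hb => by
    have h1 : b ∈ Subgroup.centralizer (V : Set X) := by rw [hself]; exact hb
    exact Subgroup.mem_centralizer_iff.1 h1 a ha
  have hfaith : ∀ e ∈ G, (∀ v ∈ V, e * v * e⁻¹ = v) → e = 1 := fun e he hcen => by
    have h1 : e ∈ V := hself ▸ Subgroup.mem_centralizer_iff.2 fun v hv =>
      (mul_inv_eq_iff_eq_mul.1 (hcen v hv)).symm
    exact Subgroup.disjoint_def.1 hGV.disjoint h1 he
  have hG : Nat.card G = V.index := hGV.symm.index_eq_card.symm
  by_cases hV : V = ⊥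
  · subst hV
    haveI : Subsingleton X := ⟨fun a b => by
      have h1 : ∀ c : X, c = 1 := fun c => by
        have hc : c ∈ Subgroup.centralizer ((⊥ : Subgroup X) : Set X) :=
          Subgroup.mem_centralizer_iff.2 fun v hv => by
            rw [SetLike.mem_coe, Subgroup.mem_bot] at hv
            rw [hv, one_mul, mul_one]
        rw [hself] at hc
        exact Subgroup.mem_bot.1 hc
      rw [h1 a, h1 b]⟩
    refine ⟨?_, fun _ => Or.inl isCyclic_of_subsingleton⟩
    haveI : Subsingleton (ConjClasses X) := ConjClasses.mk_surjective.subsingleton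
    rw [Subgroup.card_bot]
    exact Finite.card_le_one_iff_subsingleton.2 inferInstance
  obtain ⟨v, hv, hv1, hcase⟩ :=
    (group_bounds V hVexp hab hV G (hG ▸ hidx) hfaith htrans).2
  have hVp : IsPGroup p V := fun w => ⟨1, Subtype.ext (by simpa using hVexp _ w.2)⟩
  have hcop : (Nat.card V).Coprime (Nat.card G) := by
    obtain ⟨k, hk⟩ := hVp.exists_card_eq
    rw [hk, hG]
    exact Nat.Coprime.pow_left k ((Fact.out : p.Prime).coprime_iff_not_dvd.2 hidx)
  have hsum : Nat.card (ConjClasses X) = Nat.card (ConjClasses G) +
      Nat.card (ConjClasses ↥(G ⊓ Subgroup.centralizer ({v} : Set X))) := by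
    rw [Cfsg.Agent.S4956.result V hab G hGV hcop {1, v} ?_ ?_, Finset.sum_pair (fun h => hv1 h.symm)]
    · congr 1
      rw [show G ⊓ Subgroup.centralizer ({1} : Set X) = G from inf_eq_left.2 fun g _ =>
        Subgroup.mem_centralizer_singleton_iff.2 (by rw [mul_one, one_mul])]
    · intro s hs
      rcases Finset.mem_insert.1 hs with rfl | hs
      · exact V.one_mem
      · rw [Finset.mem_singleton] at hs
        exact hs ▸ hv
    · intro w hw
      rcases eq_or_ne w 1 with rfl | hw1
      · refine ⟨1, ⟨by simp, 1, G.one_mem, by simp⟩, ?_⟩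
        rintro s ⟨-, g, -, hg⟩
        rw [← hg]
        simp
      · obtain ⟨g, hg, hgw⟩ := htrans w hw v hv hw1 hv1
        refine ⟨v, ⟨by simp, g, hg, hgw⟩, ?_⟩
        rintro s ⟨hs, g', -, hg'⟩
        rcases Finset.mem_insert.1 hs with rfl | hs
        · exact absurd (conj_eq_one_iff.1 hg') hw1
        · exact Finset.mem_singleton.1 hs
  rcases hcase with ⟨hvab, hc⟩ | hlt
  · refine ⟨Cfsg.Agent.S4958.result p V hVexp hidx hself G hGV v hv hvab, fun heq => ?_⟩
    rcases hc with h | h | h | h
    · exact Or.inl h
    · exact Or.inr (Or.inl h)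
    · exact Or.inr (Or.inr h)
    · omega
  · exact ⟨by omega, fun heq => by omega⟩

end Cfsg.Agent.S4957
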