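import Cfsg.Statements.S4959
import Cfsg.Agent.Robinson.Decomp
import Cfsg.Agent.H86.KGV
import Cfsg.Agent.BlockBasic.Idem

set_option autoImplicit false
open Cfsg

namespace Cfsg.Agent.S4959

open scoped ComplexConjugate
open Cfsg.Agent.CharBasic Cfsg.Agent.BlockBasic Cfsg.Agent.Robinson

universe u

section

variable {X : Type u} [Group X] [Finite X] {V G : Subgroup X}

/-- The conjugators between two elements of the coset of `v`. -/
theorem card_conjugators (hab : ∀ a ∈ V, ∀ b ∈ V, a * b = b * a) (hVn : V.Normal)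
    (hGV : Subgroup.IsComplement' V G) {v : X} (hv : v ∈ V)
    (hcop : (Nat.card ↥(G ⊓ Subgroup.centralizer ({v} : Set X))).Coprime (Nat.card V))
    (h k : ↥(G ⊓ Subgroup.centralizer ({v} : Set X))) :
    Nat.card {x : X // x * ((k : X) * v) * x⁻¹ = (h : X) * v} =
      Nat.card ↥(V ⊓ Subgroup.centralizer ({(h : X)} : Set X)) *
        Nat.card {c : ↥(G ⊓ Subgroup.centralizer ({v} : Set X)) // c * k * c⁻¹ = h} := by
  haveI := hVn
  let C := G ⊓ Subgroup.centralizer ({v} : Set X)
  have hcv : ∀ c : C, Commute (c : X) v := fun c => Subgroup.mem_centralizer_singleton_iff.1 c.2.2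
  obtain ⟨pr, hker, hid⟩ := H86.KGV.exists_proj hGV
  rw [← Nat.card_prod]
  refine (Nat.card_congr (Equiv.ofBijective
    (fun q : ↥(V ⊓ Subgroup.centralizer ({(h : X)} : Set X)) × {c : C // c * k * c⁻¹ = h} =>
      (⟨(q.1 : X) * (q.2.1 : X), ?_⟩ : {x : X // x * ((k : X) * v) * x⁻¹ = (h : X) * v})) ⟨?_, ?_⟩)).symm
  · have hc : (q.2.1 : X) * (k : X) * (q.2.1 : X)⁻¹ = (h : X) := congrArg Subtype.val q.2.2
    have h1 : (q.2.1 : X) * ((k : X) * v) * (q.2.1 : X)⁻¹ = (h : X) * v := by
      rw [← mul_assoc, mul_assoc _ v, ← ((hcv q.2.1).inv_left).eq, ← mul_assoc, hc]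
    have h2 : Commute (q.1 : X) ((h : X) * v) :=
      (show Commute (q.1 : X) (h : X) from Subgroup.mem_centralizer_singleton_iff.1 q.1.2.2).mul_right
        (hab _ q.1.2.1 _ hv)
    calc (q.1 : X) * (q.2.1 : X) * ((k : X) * v) * ((q.1 : X) * (q.2.1 : X))⁻¹
        = (q.1 : X) * ((q.2.1 : X) * ((k : X) * v) * (q.2.1 : X)⁻¹) * (q.1 : X)⁻¹ := by group
      _ = (h : X) * v := by rw [h1, h2.eq, mul_inv_cancel_right]
  · intro a b hab'
    have h3 := hGV.1 (a₁ := (⟨(a.1 : X), a.1.2.1⟩, ⟨(a.2.1 : X), a.2.1.2.1⟩))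
      (a₂ := (⟨(b.1 : X), b.1.2.1⟩, ⟨(b.2.1 : X), b.2.1.2.1⟩)) (congrArg Subtype.val hab')
    exact Prod.ext (Subtype.ext (congrArg Subtype.val (Prod.ext_iff.1 h3).1 :))
      (Subtype.ext (Subtype.ext (congrArg Subtype.val (Prod.ext_iff.1 h3).2 :)))
  · rintro ⟨x, hx⟩
    have hcop' : (Nat.card C).Coprime (orderOf v) :=
      hcop.coprime_dvd_right (Subgroup.orderOf_dvd_natCard V hv)
    have hpow : ∀ c : C, ((c : X) * v) ^ Nat.card C = v ^ Nat.card C := fun c => by
      rw [(hcv c).mul_pow, ← Subgroup.coe_pow, pow_card_eq_one', Subgroup.coe_one, one_mul]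
    have hxv : Commute x v := by
      have h1 : x * v ^ Nat.card C * x⁻¹ = v ^ Nat.card C := by
        rw [← hpow k, ← conj_pow, hx, hpow, hpow]
      have h2 : x ∈ Subgroup.centralizer ({v ^ Nat.card C} : Set X) :=
        Subgroup.mem_centralizer_singleton_iff.2 (mul_inv_eq_iff_eq_mul.1 h1)
      rw [H86.KGV.centralizer_pow_eq hcop'] at h2
      exact Subgroup.mem_centralizer_singleton_iff.1 h2
    have hxk : x * (k : X) * x⁻¹ = (h : X) := by
      rw [← mul_assoc, mul_assoc _ v, ← hxv.inv_left.eq, ← mul_assoc] at hx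
      exact mul_right_cancel hx
    obtain ⟨⟨a, g⟩, hag⟩ := hGV.2 x
    have hag' : (a : X) * (g : X) = x := hag
    have hav : Commute (a : X) v := hab _ a.2 _ hv
    have hgC : (g : X) ∈ C := ⟨g.2, Subgroup.mem_centralizer_singleton_iff.2 (by
      have h1 : Commute ((a : X)⁻¹ * x) v := hav.inv_left.mul_left hxv
      rwa [← hag', inv_mul_cancel_left] at h1)⟩
    have hprg : ∀ c : C, ((pr (c : X)) : X) = (c : X) := fun c =>
      congrArg Subtype.val (hid ⟨(c : X), c.2.1⟩)
    have hgk : (g : X) * (k : X) * (g : X)⁻¹ = (h : X) := by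
      have h1 := congrArg (fun y => ((pr y : ↥G) : X)) hxk
      simp only [← hag', map_mul, map_inv, (MonoidHom.mem_ker).1 (show (a : X) ∈ pr.ker by
        rw [hker]; exact a.2), one_mul, Subgroup.coe_mul, Subgroup.coe_inv, hid g, hprg] at h1
      exact h1
    have hah : (a : X) * (h : X) = (h : X) * (a : X) := by
      rw [← hag'] at hxk
      rw [← mul_inv_eq_iff_eq_mul]
      calc (a : X) * (h : X) * (a : X)⁻¹ = (a : X) * ((g : X) * (k : X) * (g : X)⁻¹) * (a : X)⁻¹ := by rw [hgk]
        _ = (a : X) * (g : X) * (k : X) * ((a : X) * (g : X))⁻¹ := by group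
        _ = (h : X) := hxk
    exact ⟨(⟨(a : X), a.2, Subgroup.mem_centralizer_singleton_iff.2 hah⟩,
      ⟨⟨(g : X), hgC⟩, Subtype.ext hgk⟩), Subtype.ext hag'⟩

omit [Finite X] in
theorem card_split [Finite ↥V] {U K : Subgroup X} (hUV : U ≤ V) :
    Nat.card ↥(V ⊓ K) * Nat.card U ≤ Nat.card V * Nat.card ↥(U ⊓ K) := by
  have hcard : ∀ L : Subgroup X, Nat.card ↥(L ⊓ K) * K.relIndex L = Nat.card L := fun L => by
    rw [← (K.subgroupOf L).card_mul_index, Subgroup.relIndex]
    congr 1
    rw [inf_comm]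
    exact Nat.card_congr
      { toFun := fun x => ⟨⟨x.1, x.2.2⟩, x.2.1⟩
        invFun := fun x => ⟨x.1.1, x.2, x.1.2⟩
        left_inv := fun x => rfl
        right_inv := fun x => rfl }
  have hle : K.relIndex U ≤ K.relIndex V := by
    refine Subgroup.relIndex_le_of_le_right hUV fun h0 => ?_
    have h1 := hcard V
    rw [h0, mul_zero] at h1
    exact Nat.card_pos.ne' h1.symm
  rw [← hcard U, ← hcard V]
  calc Nat.card ↥(V ⊓ K) * (Nat.card ↥(U ⊓ K) * K.relIndex U)
      = Nat.card ↥(V ⊓ K) * K.relIndex U * Nat.card ↥(U ⊓ K) := by ring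
    _ ≤ _ := by gcongr

end

/-- Let X be a finite group and V a normal subgroup of X in which every element has order dividing the prime p, whose index in X is prime to p and which is its own centralizer in X; so V is an elementary abelian normal Sylow p-subgroup, and any complement G to V in X is a group of order prime to p acting faithfully on the vector space V by conjugation (the coprime linear setting of the k(GV) problem). Let G be a complement to V in X, let v be in V and let H be the centralizer of v in G. Suppose there is a subgroup U of V normalized by H, on which H acts faithfully, and carrying an H-invariant bi-additive pairing β with values in the integers modulo p that is nondegenerate on U (equivalently: the restriction of the module V to H has a faithful self-dual submodule; such a v is called a real vector for G). Then the number of conjugacy classes of X is at most the order of V (the real-vector criterion for the k(GV) problem). The pairing is given as a function on X whose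 relevant values are those on pairs from U. -/
theorem result {X : Type*} [Group X] [Finite X] (p : ℕ) [Fact p.Prime] (V : Subgroup X) [V.Normal] (hVexp : ∀ v ∈ V, v ^ p = 1) (hidx : ¬ p ∣ V.index) (hself : Subgroup.centralizer (V : Set X) = V) (G : Subgroup X) (hGV : Subgroup.IsComplement' V G) (v : X) (hv : v ∈ V) (U : Subgroup X) (hUV : U ≤ V) (hUinv : ∀ h ∈ G, h * v * h⁻¹ = v → ∀ u ∈ U, h * u * h⁻¹ ∈ U) (hUfaith : ∀ h ∈ G, h * v * h⁻¹ = v → (∀ u ∈ U, h * u * h⁻¹ = u) → h = 1) (β : X → X → ZMod p) (hβl : ∀ u ∈ U, ∀ u' ∈ U, ∀ w ∈ U, β (u * u') w = β u w + β u' w) (hβr : ∀ u ∈ U, ∀ w ∈ U, ∀ w' ∈ U, β u (w * w') = β u w + β u w') (hβinv : ∀ h ∈ G, h * v * h⁻¹ = v → ∀ u ∈ U, ∀ w ∈ U, β (h * u * h⁻¹) (h * w * h⁻¹) = β u w) (hβnd : ∀ u ∈ U, (∀ w ∈ U, β u w = 0) → u = 1) : Nat.card (ConjClasses X) ≤ Nat.card V := by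
  classical
  cases nonempty_fintype X
  have hab : ∀ a ∈ V, ∀ b ∈ V, a * b = b * a := fun a ha b hb => by
    have h1 : a ∈ Subgroup.centralizer (V : Set X) := hself.symm ▸ ha
    exact (Subgroup.mem_centralizer_iff.1 h1 b hb).symm
  have hVp : IsPGroup p V := fun x => ⟨1, Subtype.ext (by simpa using hVexp x x.2)⟩
  let C := G ⊓ Subgroup.centralizer ({v} : Set X)
  have hcv : ∀ c : C, Commute (c : X) v := fun c => Subgroup.mem_centralizer_singleton_iff.1 c.2.2
  have hfix : ∀ c : C, (c : X) * v * (c : X)⁻¹ = v := fun c => by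
    rw [(hcv c).eq, mul_inv_cancel_right]
  have hpC : ¬ p ∣ Nat.card C := fun h => hidx (by
    rw [hGV.symm.index_eq_card]
    exact h.trans (Subgroup.card_dvd_of_le inf_le_left))
  have hcop : (Nat.card C).Coprime (Nat.card V) := by
    obtain ⟨k, hk⟩ := IsPGroup.iff_card.1 hVp
    rw [hk]
    exact Nat.Coprime.pow_right _ ((Fact.out : p.Prime).coprime_iff_not_dvd.2 hpC).symm
  -- the module
  letI : CommGroup ↥U :=
    { (inferInstance : Group ↥U) with
      mul_comm := fun a b => Subtype.ext (hab _ (hUV a.2) _ (hUV b.2)) }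
  obtain ⟨instMod⟩ : Nonempty (Module (ZMod p) (Additive ↥U)) := ⟨AddCommGroup.zmodModule fun x => by
    apply Additive.toMul.injective
    exact Subtype.ext (by simpa using hVexp _ (hUV (Additive.toMul x).2))⟩
  letI := instMod
  let act : C → Additive ↥U →ₗ[ZMod p] Additive ↥U := fun c =>
    AddMonoidHom.toZModLinearMap p (AddMonoidHom.mk'
      (fun x => Additive.ofMul (⟨(c : X) * (Additive.toMul x : ↥U) * (c : X)⁻¹,
        hUinv _ c.2.1 (hfix c) _ (Additive.toMul x).2⟩ : ↥U))
      fun x y => Additive.toMul.injective (Subtype.ext (by simp)))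
  have hact : ∀ (c : C) (x : Additive ↥U), ((Additive.toMul (act c x) : ↥U) : X) =
      (c : X) * ((Additive.toMul x : ↥U) : X) * (c : X)⁻¹ := fun _ _ => rfl
  let ρ : Representation (ZMod p) C (Additive ↥U) :=
    { toFun := act
      map_one' := LinearMap.ext fun x => Additive.toMul.injective (Subtype.ext (by simp [hact]))
      map_mul' := fun a b => LinearMap.ext fun x => Additive.toMul.injective (Subtype.ext (by
        simp [hact, mul_assoc])) }
  have hρ : ∀ (c : C) (x : Additive ↥U), ρ c x = act c x := fun _ _ => rfl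
  let βA : Additive ↥U → Additive ↥U → ZMod p := fun x y =>
    β ((Additive.toMul x : ↥U) : X) ((Additive.toMul y : ↥U) : X)
  let B : Additive ↥U →ₗ[ZMod p] Additive ↥U →ₗ[ZMod p] ZMod p :=
    AddMonoidHom.toZModLinearMap p (AddMonoidHom.mk'
      (fun x => AddMonoidHom.toZModLinearMap p (AddMonoidHom.mk' (βA x) fun y z =>
        hβr _ (Additive.toMul x).2 _ (Additive.toMul y).2 _ (Additive.toMul z).2))
      fun x y => LinearMap.ext fun z =>
        hβl _ (Additive.toMul x).2 _ (Additive.toMul y).2 _ (Additive.toMul z).2)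
  have hinv : InvForm ρ B := fun c x y =>
    hβinv _ c.2.1 (hfix c) _ (Additive.toMul x).2 _ (Additive.toMul y).2
  have hnd : LNd B := fun x hx => Additive.toMul.injective (Subtype.ext
    (hβnd _ (Additive.toMul x).2 fun w hw => hx (Additive.ofMul ⟨w, hw⟩)))
  have hρ1 : ∀ c : C, c ≠ 1 → ρ c ≠ 1 := fun c hc h => hc (Subtype.ext (hUfaith _ c.2.1 (hfix c)
    fun u hu => congrArg (fun z : Additive ↥U => ((Additive.toMul z : ↥U) : X))
      (LinearMap.congr_fun h (Additive.ofMul ⟨u, hu⟩))))
  obtain ⟨Mi, hM⟩ := exists_isPModular (p := p) Fact.out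
  let N := Nat.card X * p
  haveI : NeZero N := ⟨Nat.mul_ne_zero Nat.card_pos.ne' (Fact.out : p.Prime).ne_zero⟩
  obtain ⟨ε, hεint, hεK, hεabs, hεM, T, hεT⟩ :=
    good_of_nondeg hM hpC ((Subgroup.card_subgroup_dvd_card C).trans (dvd_mul_right _ p))
      (dvd_mul_left p _) _ (ρ := ρ) (β := B) rfl hinv hnd
  have hpT : (p : ℂ) ^ T ≠ 0 := pow_ne_zero _ (Nat.cast_ne_zero.2 (Fact.out : p.Prime).ne_zero)
  have hεcl : ∀ a b, ε (b * a * b⁻¹) = ε a := fun a b =>
    mul_left_cancel₀ hpT (algSpan_isClassFunction hεT a b)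
  -- the numbers
  let f : Cfsg.IrrCharacter X → C → ℂ := fun χ c => (χ : X → ℂ) ((c : X) * v)
  have hfspan : ∀ χ, f χ ∈ algSpan C := fun χ =>
    algSpan_commute (IsIrr.isCharacter χ.2) C.subtype hcv
  let b : Cfsg.IrrCharacter X → ℂ := fun χ => (Nat.card C : ℂ)⁻¹ * ∑ c, ε c * f χ c
  have hC0 : (Nat.card C : ℂ) ≠ 0 := Nat.cast_ne_zero.2 Nat.card_pos.ne'
  have hCb : ∀ χ, (Nat.card C : ℂ) * b χ = ∑ c, ε c * f χ c := fun χ => by
    simp only [b]
    rw [mul_inv_cancel_left₀ hC0]
  have hbint : ∀ χ, IsIntegral ℤ (b χ) := by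
    intro χ
    have h1 : IsIntegral ℤ ((Nat.card C : ℂ) * b χ) := by
      rw [hCb]
      exact IsIntegral.sum _ fun c _ => (hεint c).mul (algSpan_isIntegral (hfspan χ) c)
    have h2 : IsIntegral ℤ ((p : ℂ) ^ T * b χ) := by
      have h3 := algSpan_average (mul_mem hεT (hfspan χ))
      simp only [Pi.mul_apply, mul_assoc, ← Finset.mul_sum] at h3
      simp only [b]
      rw [mul_left_comm] at h3
      exact h3
    obtain ⟨s, t, hst⟩ := CharInduce.exists_int_inverse
      (Nat.Coprime.pow_left T ((Fact.out : p.Prime).coprime_iff_not_dvd.2 hpC))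
    have hst' : (s : ℂ) * (p : ℂ) ^ T + (t : ℂ) * (Nat.card C : ℂ) = 1 := by exact_mod_cast hst
    rw [show b χ = (s : ℂ) * ((p : ℂ) ^ T * b χ) + (t : ℂ) * ((Nat.card C : ℂ) * b χ) by
      linear_combination -(b χ) * hst']
    exact ((isIntegral_algebraMap (x := s)).mul h2).add ((isIntegral_algebraMap (x := t)).mul h1)
  have hbK : ∀ χ, b χ ∈ rootField N := fun χ =>
    mul_mem (inv_mem (natCast_mem _ _)) (sum_mem fun c _ => mul_mem (hεK c)
      (char_mem_rootField (IsIrr.isCharacter χ.2) (orderOf_dvd_iff_pow_eq_one.1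
        ((orderOf_dvd_natCard _).trans (dvd_mul_right _ p)))))
  have hb0 : ∀ χ, b χ ≠ 0 := by
    intro χ hb
    have h0 := hCb χ
    rw [hb, mul_zero] at h0
    have h1 : Cfsg.MemLocalIdeal Mi (ε 1 * f χ 1) := by
      have h2 : ε 1 * f χ 1 = -∑ c ∈ Finset.univ.erase (1 : C), ε c * f χ c := by
        rw [← Finset.sum_erase_add _ _ (Finset.mem_univ (1 : C))] at h0
        linear_combination -h0
      rw [h2]
      refine memLocalIdeal_neg (memLocalIdeal_sum hM _ _ fun c hc => ?_)
      rw [mul_comm]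
      exact memLocalIdeal_mul hM (memLocalRing_of_isIntegral hM (algSpan_isIntegral (hfspan χ) c))
        (hεM c (hρ1 c (Finset.ne_of_mem_erase hc)))
    have h3 : ε 1 * conj (ε 1) = 1 := by
      have h4 := hεabs 1
      have e : fixSub ρ 1 = ⊤ := by
        ext x
        simp [mem_fixSub]
      rw [fixCard, e] at h4
      simp only [Nat.card_congr (Submodule.topEquiv (R := ZMod p) (M := Additive ↥U)).toEquiv] at h4
      exact (mul_eq_right₀ (Nat.cast_ne_zero.2 Nat.card_pos.ne')).1 h4
    refine H86.KGV.not_memLocalIdeal_value hM hVp hidx hab χ hv ?_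
    have h5 := memLocalIdeal_mul hM
      (memLocalRing_of_isIntegral hM (IsIntegral.map (starRingEnd ℂ).toIntAlgHom (hεint 1))) h1
    rw [show ((starRingEnd ℂ).toIntAlgHom (ε 1)) * (ε 1 * f χ 1) = (χ : X → ℂ) v by
      show conj (ε 1) * (ε 1 * f χ 1) = _
      rw [← mul_assoc, mul_comm (conj _), h3, one_mul]
      simp [f]] at h5
    exact h5
  let cV : C → ℕ := fun h => Nat.card ↥(V ⊓ Subgroup.centralizer ({(h : X)} : Set X))
  have horth : ∀ h k : C, ∑ χ, f χ h * conj (f χ k) =
      (cV h : ℂ) * (Nat.card {c : C // c * k * c⁻¹ = h} : ℂ) := fun h k => by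
    show ∑ χ : Cfsg.IrrCharacter X, (χ : X → ℂ) _ * conj ((χ : X → ℂ) _) = _
    rw [second_orthogonality_count, card_conjugators hab inferInstance hGV hv hcop h k]
    push_cast
    rfl
  have hinner : ∀ h : C, ∑ k, conj (ε k) * (Nat.card {c : C // c * k * c⁻¹ = h} : ℂ) =
      (Nat.card C : ℂ) * conj (ε h) := by
    intro h
    calc ∑ k, conj (ε k) * (Nat.card {c : C // c * k * c⁻¹ = h} : ℂ)
        = ∑ k, ∑ c, if c * k * c⁻¹ = h then conj (ε k) else 0 := by
          refine Finset.sum_congr rfl fun k _ => ?_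
          rw [← Finset.sum_filter, Finset.sum_const, nsmul_eq_mul, Nat.card_eq_fintype_card,
            Fintype.card_subtype, mul_comm]
      _ = ∑ c : C, conj (ε h) := by
          rw [Finset.sum_comm]
          refine Finset.sum_congr rfl fun c _ => ?_
          rw [Finset.sum_eq_single (c⁻¹ * h * c)]
          · rw [if_pos (by group)]
            have := hεcl h c⁻¹
            rw [inv_inv] at this
            rw [this]
          · intro k _ hk
            rw [if_neg]
            rintro rfl
            exact hk (by group)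
          · simp
      _ = _ := by rw [Finset.sum_const, Finset.card_univ, nsmul_eq_mul, ← Nat.card_eq_fintype_card]
  let cU : C → ℕ := fun h => fixCard ρ h
  have hcU0 : ∀ h, (cU h : ℂ) ≠ 0 := fun h => Nat.cast_ne_zero.2 (by
    simp only [cU, fixCard]; exact Nat.card_pos.ne')
  let R : ℚ := (Nat.card C : ℚ)⁻¹ * ∑ h, (Nat.card ↥U : ℚ) * cV h / cU h
  have hsum : ∑ χ, b χ * conj (b χ) = (R : ℂ) := by
    calc ∑ χ, b χ * conj (b χ)
        = (Nat.card C : ℂ)⁻¹ * (Nat.card C : ℂ)⁻¹ *
            ∑ h, ∑ k, ε h * conj (ε k) * ∑ χ, f χ h * conj (f χ k) := by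
          simp only [b, map_mul, map_sum, map_inv₀, Complex.conj_natCast, Finset.mul_sum,
            Finset.sum_mul]
          rw [Finset.sum_comm_cycle]
          refine Finset.sum_congr rfl fun h _ => ?_
          rw [Finset.sum_comm]
          refine Finset.sum_congr rfl fun k _ => Finset.sum_congr rfl fun χ _ => ?_
          ring
      _ = (Nat.card C : ℂ)⁻¹ * ∑ h, ε h * conj (ε h) * (cV h : ℂ) := by
          rw [mul_assoc, Finset.mul_sum (a := (Nat.card C : ℂ)⁻¹)]
          congr 1
          refine Finset.sum_congr rfl fun h _ => ?_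
          rw [Finset.sum_congr rfl fun k _ => show _ = ε h * (cV h : ℂ) *
            (conj (ε k) * (Nat.card {c : C // c * k * c⁻¹ = h} : ℂ)) by rw [horth]; ring,
            ← Finset.mul_sum, hinner]
          field_simp
      _ = (R : ℂ) := by
          simp only [R]
          push_cast
          congr 1
          refine Finset.sum_congr rfl fun h _ => ?_
          rw [eq_div_iff (hcU0 h), show (Nat.card ↥U : ℂ) = (Nat.card (Additive ↥U) : ℂ) from rfl,
            ← hεabs h]
          ring
  have hR : R ≤ (Nat.card V : ℚ) := by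
    have hle : ∀ h, (Nat.card ↥U : ℚ) * cV h / cU h ≤ (Nat.card V : ℚ) := fun h => by
      have hU : cU h = Nat.card ↥(U ⊓ Subgroup.centralizer ({(h : X)} : Set X)) :=
        Nat.card_congr
          { toFun := fun x => ⟨((Additive.toMul x.1 : ↥U) : X), (Additive.toMul x.1).2,
              Subgroup.mem_centralizer_singleton_iff.2 (by
                have h1 := congrArg (fun z : Additive ↥U => ((Additive.toMul z : ↥U) : X))
                  ((mem_fixSub ρ).1 x.2)
                simp only [hρ, hact] at h1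
                exact (mul_inv_eq_iff_eq_mul.1 h1).symm)⟩
            invFun := fun y => ⟨Additive.ofMul ⟨y, y.2.1⟩, (mem_fixSub ρ).2
              (Additive.toMul.injective (Subtype.ext (by
                show (h : X) * (y : X) * (h : X)⁻¹ = (y : X)
                rw [← Subgroup.mem_centralizer_singleton_iff.1 y.2.2, mul_inv_cancel_right])))⟩
            left_inv := fun x => rfl
            right_inv := fun y => rfl }
      rw [div_le_iff₀ (by simp only [hU]; exact_mod_cast Nat.card_pos), hU]
      exact_mod_cast (mul_comm (Nat.card ↥U) _).trans_le (card_split hUV)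
    calc R ≤ (Nat.card C : ℚ)⁻¹ * ∑ _h : C, (Nat.card V : ℚ) :=
          mul_le_mul_of_nonneg_left (Finset.sum_le_sum fun h _ => hle h) (by positivity)
      _ = _ := by
          rw [Finset.sum_const, Finset.card_univ, nsmul_eq_mul, ← Nat.card_eq_fintype_card,
            inv_mul_cancel_left₀ (Nat.cast_ne_zero.2 Nat.card_pos.ne')]
  have hk := card_le_of_sum_mul_conj b hbK hbint hb0 hsum
  rw [← Nat.card_eq_fintype_card, card_irrCharacter] at hk
  exact_mod_cast hk.trans ((Rat.cast_le (K := ℝ)).2 hR)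

end Cfsg.Agent.S4959
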