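import Cfsg.Statements.S4965
import Mathlib.GroupTheory.GroupAction.CardCommute
import Mathlib.Tactic.Group
-- import your own Cfsg.Agent.* helpers here

set_option autoImplicit false
open Cfsg

namespace Cfsg.Agent.S4965

open Classical in
/-- For a pair of commuting lifts, correct by a chosen base pair. -/
theorem key {X : Type*} [Group X] [Finite X] (V : Subgroup X) [V.Normal]
    (hab : ∀ a ∈ V, ∀ b ∈ V, a * b = b * a) (φ : X ⧸ V →* MulAut ↥V)
    (hφ : ∀ (x : X) (v : ↥V), ((φ (QuotientGroup.mk x) v : ↥V) : X) = x * v * x⁻¹) :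
    ∃ f : {p : X × X // Commute p.1 p.2} →
        {p : SemidirectProduct ↥V (X ⧸ V) φ × SemidirectProduct ↥V (X ⧸ V) φ // Commute p.1 p.2},
      Function.Injective f := by
  have hchoice : ∀ p : {p : X × X // Commute p.1 p.2}, ∃ q : X × X, Commute q.1 q.2 ∧
      (QuotientGroup.mk q.1 : X ⧸ V) = QuotientGroup.mk p.1.1 ∧
      (QuotientGroup.mk q.2 : X ⧸ V) = QuotientGroup.mk p.1.2 :=
    fun p => ⟨p.1, p.2, rfl, rfl⟩
  let base : (X ⧸ V) × (X ⧸ V) → X × X := fun ab =>
    if h : ∃ q : X × X, Commute q.1 q.2 ∧ (QuotientGroup.mk q.1 : X ⧸ V) = ab.1 ∧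
      (QuotientGroup.mk q.2 : X ⧸ V) = ab.2 then h.choose else 1
  let B : {p : X × X // Commute p.1 p.2} → X × X := fun p =>
    base (QuotientGroup.mk p.1.1, QuotientGroup.mk p.1.2)
  have hB : ∀ p, Commute (B p).1 (B p).2 ∧ (QuotientGroup.mk (B p).1 : X ⧸ V) = QuotientGroup.mk p.1.1
      ∧ (QuotientGroup.mk (B p).2 : X ⧸ V) = QuotientGroup.mk p.1.2 := by
    intro p
    have h : ∃ q : X × X, Commute q.1 q.2 ∧ (QuotientGroup.mk q.1 : X ⧸ V) = QuotientGroup.mk p.1.1
      ∧ (QuotientGroup.mk q.2 : X ⧸ V) = QuotientGroup.mk p.1.2 := hchoice p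
    simp only [B, base, dif_pos h]
    exact h.choose_spec
  have mem : ∀ x y : X, (QuotientGroup.mk x : X ⧸ V) = QuotientGroup.mk y → y * x⁻¹ ∈ V := by
    intro x y h
    exact ((Subgroup.Normal.mem_comm_iff (inferInstance : V.Normal))).1 (QuotientGroup.eq.1 h)
  refine ⟨fun p => ⟨(⟨⟨p.1.1 * (B p).1⁻¹, mem _ _ (hB p).2.1⟩, QuotientGroup.mk p.1.1⟩,
      ⟨⟨p.1.2 * (B p).2⁻¹, mem _ _ (hB p).2.2⟩, QuotientGroup.mk p.1.2⟩), ?_⟩, ?_⟩
  · obtain ⟨⟨x, y⟩, hxy⟩ := p
    obtain ⟨hc, ha, hb⟩ := hB ⟨(x, y), hxy⟩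
    set q := B ⟨(x, y), hxy⟩ with hq
    refine SemidirectProduct.ext ?_ ?_
    · apply Subtype.ext
      simp only [SemidirectProduct.mul_left, Subgroup.coe_mul]
      simp only [← ha, ← hb, hφ]
      have e1 : x * q.1⁻¹ * (q.1 * (y * q.2⁻¹) * q.1⁻¹) = x * y * q.2⁻¹ * q.1⁻¹ := by group
      have e2 : y * q.2⁻¹ * (q.2 * (x * q.1⁻¹) * q.2⁻¹) = y * x * q.1⁻¹ * q.2⁻¹ := by group
      rw [e1, e2, mul_assoc (x * y), mul_assoc (y * x), ← mul_inv_rev, ← mul_inv_rev,
        hc.eq, hxy.eq]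
    · simp only [SemidirectProduct.mul_right, ← QuotientGroup.mk_mul, hxy.eq]
  · intro p p' h
    simp only [Subtype.mk.injEq, Prod.mk.injEq, SemidirectProduct.ext_iff] at h
    obtain ⟨⟨h1, h2⟩, h3, h4⟩ := h
    have e : B p = B p' := by simp only [B, h2, h4]
    rw [e] at h1 h3
    exact Subtype.ext (Prod.ext (mul_right_cancel h1) (mul_right_cancel h3))

/-- Let X be a finite group with an abelian normal subgroup V (any two elements of V commute), and let φ be the action of X ⧸ V on V induced by conjugation (well defined because V is abelian; the hypothesis hφ says that the class of x acts as conjugation by x). Then X has at most as many conjugacy classes as the semidirect product of V by X ⧸ V formed with this action: the split extension has the largest class number among extensions with the given action. -/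
theorem result {X : Type*} [Group X] [Finite X] (V : Subgroup X) [V.Normal] (hab : ∀ a ∈ V, ∀ b ∈ V, a * b = b * a) (φ : X ⧸ V →* MulAut ↥V) (hφ : ∀ (x : X) (v : ↥V), ((φ (QuotientGroup.mk x) v : ↥V) : X) = x * v * x⁻¹) : Nat.card (ConjClasses X) ≤ Nat.card (ConjClasses (SemidirectProduct ↥V (X ⧸ V) φ)) := by
  obtain ⟨f, hf⟩ := key V hab φ hφ
  haveI : Finite (SemidirectProduct ↥V (X ⧸ V) φ) :=
    Finite.of_equiv _ (SemidirectProduct.equivProd).symm
  have h := Nat.card_le_card_of_injective f hf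
  rw [card_comm_eq_card_conjClasses_mul_card, card_comm_eq_card_conjClasses_mul_card,
    SemidirectProduct.card] at h
  have hX : Nat.card X = Nat.card ↥V * Nat.card (X ⧸ V) := by
    rw [V.card_eq_card_quotient_mul_card_subgroup, mul_comm]
  rw [← hX] at h
  exact Nat.le_of_mul_le_mul_right h Nat.card_pos

end Cfsg.Agent.S4965
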