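import Cfsg.Statements.S5252
import Cfsg.Agent.S5197
import Cfsg.Agent.S1984
import Cfsg.Agent.S1991
import Cfsg.Agent.S1978
import Cfsg.Agent.FusionSys.ModelRealize
import Cfsg.Agent.FusionSys.KInstances
import Cfsg.Agent.FusionSys.KSub
import Cfsg.Agent.Fusion.StableQuotient
import Cfsg.Agent.H49.KFunctor

set_option autoImplicit false
open Cfsg

namespace Cfsg.Agent.S5252
universe u

open Subgroup in
/-- Transfer control by the lower K-infinity subgroup in the form used for fusion systems. -/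
theorem hT_kInf {p : ℕ} [Fact p.Prime] (hp : 5 ≤ p) (G : Type u) [Group G] [Finite G] (P : Sylow p G) :
    Cfsg.pCore p G ⊓ commutator G = Cfsg.pCore p G ⊓
      (commutator ↥(normalizer ((inducedFunctor Cfsg.kInfLower (P : Subgroup G) : Subgroup G) : Set G))).map
        (normalizer ((inducedFunctor Cfsg.kInfLower (P : Subgroup G) : Subgroup G) : Set G)).subtype := by
  obtain ⟨T, -, hTp, hTi, hT⟩ := S1984.result (G := G) hp
  rw [relIndex_top_right] at hTi
  obtain ⟨g, hg⟩ := MulAction.exists_smul_eq G (hTp.toSylow hTi) P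
  have hTP : T.map (MulAut.conj g).toMonoidHom = (P : Subgroup G) := by
    rw [← hg, Sylow.coe_subgroup_smul]; rfl
  set c := (MulAut.conj g).toMonoidHom with hc
  have hcinj : Function.Injective c := (MulAut.conj g).injective
  have hctop : (⊤ : Subgroup G).map c = ⊤ := map_top_of_surjective _ (MulAut.conj g).surjective
  have hU := Fusion.inducedFunctor_map (H49.kLike_lower.isCharPFunctor p) c hcinj hTp
  rw [hTP] at hU
  have hN : (normalizer ((inducedFunctor Cfsg.kInfLower T : Subgroup G) : Set G)).map c =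
      normalizer ((inducedFunctor Cfsg.kInfLower (P : Subgroup G) : Subgroup G) : Set G) := by
    rw [hU]; exact map_equiv_normalizer_eq _ (MulAut.conj g)
  have h := congrArg (Subgroup.map c) hT
  rw [map_inf _ _ c hcinj, map_inf _ _ c hcinj, top_inf_eq, map_commutator, map_commutator, hTP,
    hctop, hN] at h
  rw [commutator_def, map_subtype_commutator]
  have hQ : Cfsg.pCore p G ≤ (P : Subgroup G) := Cores.pCore_le_sylow P
  rw [← inf_eq_left.mpr hQ, inf_assoc, h, ← inf_assoc]

theorem main {Ω : Type u} [Group Ω] {S : Subgroup Ω} [Finite S] (p : ℕ) [Fact p.Prime] (hS : IsPGroup p S) (F : Cfsg.FusionSystem S) (hF : F.IsSaturated p) (hp : 5 ≤ p) (hS1 : S ≠ ⊥) (haut : IsPGroup p ↥(F.autGroup S)) : F.focalSubgroup < S := by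
  have hW : Cfsg.IsCharPFunctor.{u} p Cfsg.kInfLower := H49.kLike_lower.isCharPFunctor p
  set K := (Cfsg.kInfLower ↥S).map S.subtype with hKdef
  have hKS : K ≤ S := Subgroup.map_subtype_le _
  have hSK : S ≤ Subgroup.normalizer (K : Set Ω) :=
    Fusion.le_normalizer_inducedFunctor hW (G := Ω) hS
  have hTS : Cfsg.FusionSystem.normalizerIn S K = S := inf_eq_left.mpr hSK
  set T := Cfsg.FusionSystem.normalizerIn S K with hTdef
  obtain ⟨N, hN⟩ := FusionSys.exists_normalizerSystem F hKS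
  have hfoc : N.focalSubgroup = F.focalSubgroup :=
    S5197.result Cfsg.kInfLower hW.1 hW.2 (fun G _ _ P _ => hT_kInf hp G P) hS F hF N hN
  rw [← hfoc]
  have hfn : F.IsFullyNormalized K := ⟨hKS, fun Q _ => by
    show _ ≤ Nat.card T
    rw [hTS]; exact Subgroup.card_le_of_le inf_le_left⟩
  have hsat := FusionSys.isSaturated_normalizer hS hF hfn hN
  have hK := FusionSys.isKSys_normalizer_iff.1 hN
  have hKT : K ≤ T := le_inf hKS Subgroup.le_normalizer
  have : Finite T := FusionSys.finite_of_le (S := S) inf_le_left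
  have : Finite K := FusionSys.finite_of_le hKS
  have hTp : IsPGroup p T := hS.to_le inf_le_left
  have hnorm : N.IsNormal K := hK.isNormal_self hKT
  have hcons : N.IsConstrained p := by
    refine ⟨hsat, K, hnorm, hKT, fun Q hQ => ?_⟩
    obtain ⟨f, hf⟩ := FusionSys.isConj_iff.1 hQ
    obtain ⟨-, -, g, hg, he, hgQ⟩ := (hK.map_iff _ _).1 hf.isMap
    have hQK : Q = K := by
      refine SetLike.coe_injective ?_
      rw [← hf.image_eq]
      exact (Set.image_congr fun x hx => (he x hx).symm).trans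
        ((FusionSys.onQ_top_iff hg le_sup_right).1 hgQ)
    rw [hQK]
    rintro y ⟨hyT, hyc⟩
    exact ⟨⟨y, hyT.1⟩, (S1978.result hS).1 (Subgroup.mem_centralizer_iff.mpr fun z hz =>
      Subtype.ext (Subgroup.mem_centralizer_iff.mp hyc (z : Ω) (Subgroup.mem_map_of_mem _ hz))), rfl⟩
  obtain ⟨G, _, ι, hfin, ⟨hinj, hreal⟩, ⟨R, hR⟩, hc⟩ := FusionSys.exists_model hTp N hcons
  have := hfin
  have hmemR : ∀ t : T, ι t ∈ (R : Subgroup G) := fun t => by rw [hR]; exact ⟨t, rfl⟩
  have hRne : (R : Subgroup G) ≠ ⊥ := fun h => hS1 (by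
    refine (Subgroup.eq_bot_iff_forall _).2 fun x hx => ?_
    have h1 := hmemR ⟨x, hx, hSK hx⟩
    rw [h, Subgroup.mem_bot] at h1
    exact congrArg Subtype.val (hinj (h1.trans (map_one ι).symm)))
  have hauto : ∀ g ∈ Subgroup.normalizer ((R : Subgroup G) : Set G), (orderOf g).Coprime p →
      g ∈ Subgroup.centralizer ((R : Subgroup G) : Set G) := by
    intro g hg hgo
    have hex : ∀ t : T, ∃ t' : T, ι t' = g * ι t * g⁻¹ := fun t => by
      have := (Subgroup.mem_normalizer_iff.mp hg _).mp (hmemR t)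
      rw [hR] at this
      exact this
    choose γ hγ using hex
    let φ : T →* Ω := MonoidHom.mk' (fun t => (γ t : Ω)) fun a b => by
      have h1 : γ (a * b) = γ a * γ b := hinj (by rw [map_mul, hγ, hγ, hγ, map_mul]; group)
      rw [h1]; rfl
    have hφN : φ ∈ N.Hom T := (hreal T le_rfl φ fun t => (γ t).2).2 ⟨g, fun t => hγ t⟩
    have hfF : FusionSys.IsMap F T (FusionSys.homFun φ) :=
      hK.isMap_le (FusionSys.isMap_of_mem hφN)
    have hfS : FusionSys.IsMap F S (FusionSys.homFun φ) := hfF.mono (le_inf le_rfl hSK)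
    have hfs : ∀ x (hx : x ∈ T), FusionSys.homFun φ x = γ ⟨x, hx⟩ := fun x hx =>
      FusionSys.homFun_mem φ hx
    obtain ⟨β, hβ, hβf⟩ := (FusionSys.isIso_of_mapsTo hfS fun x hx => by
      rw [hfs x ⟨hx, hSK hx⟩]; exact (γ _).2.1).exists_aut
    have hiter : ∀ (m : ℕ) (t : T), ∃ h : ((t : Ω) ∈ S),
        ∃ s : T, (((β ^ m) ⟨t, h⟩ : S) : Ω) = s ∧ ι s = g ^ m * ι t * (g ^ m)⁻¹ := by
      intro m t
      refine ⟨t.2.1, ?_⟩
      induction m with
      | zero => exact ⟨t, by simp, by simp⟩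
      | succ m ih =>
        obtain ⟨s, hs1, hs2⟩ := ih
        refine ⟨γ s, ?_, by rw [hγ, hs2, pow_succ']; group⟩
        rw [pow_succ', MulAut.mul_apply, ← FusionSys.autMap_coe β, hs1, hβf _ s.2.1, hfs _ s.2]
    obtain ⟨k, hk⟩ := haut ⟨β, hβ⟩
    have hk' : β ^ p ^ k = 1 := congrArg Subtype.val hk
    refine Fusion.Stable.mem_of_pow_mem hgo (k := k) (Subgroup.mem_centralizer_iff.mpr fun y hy => ?_)
    rw [hR] at hy
    obtain ⟨t, rfl⟩ := hy
    obtain ⟨h, s, hs1, hs2⟩ := hiter (p ^ k) t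
    rw [hk'] at hs1
    have : s = t := Subtype.ext hs1.symm
    rw [this] at hs2
    calc ι t * g ^ p ^ k = g ^ p ^ k * ι t * (g ^ p ^ k)⁻¹ * g ^ p ^ k := by rw [← hs2]
      _ = g ^ p ^ k * ι t := by group
  obtain ⟨M, hMn, hMi⟩ := S1991.result hp R hRne hauto
  have hRM : ¬ (R : Subgroup G) ≤ M := fun h => R.not_dvd_index
    ((dvd_of_eq hMi.symm).trans (Subgroup.index_dvd_of_le h))
  have hle : N.focalSubgroup ≤ (M.comap ι).map T.subtype := by
    refine (Subgroup.closure_le _).2 ?_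
    rintro _ ⟨P, φ, x, hφ, rfl⟩
    obtain ⟨hPT, hφT⟩ := N.le_of_mem hφ
    obtain ⟨g, hg⟩ := (hreal P hPT φ hφT).1 hφ
    refine ⟨(⟨x, hPT x.2⟩ : T)⁻¹ * ⟨φ x, hφT x⟩, ?_, rfl⟩
    show ι _ ∈ M
    rw [map_mul, map_inv, hg x]
    have hab : ∀ a b : G ⧸ M, a * b = b * a := by
      have hcyc : IsCyclic (G ⧸ M) :=
        isCyclic_of_prime_card (p := p) (by rw [← Subgroup.index_eq_card, hMi])
      let _ := hcyc.commGroup
      exact mul_comm
    refine (QuotientGroup.eq_one_iff _).mp ?_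
    show QuotientGroup.mk' M _ = 1
    rw [map_mul, map_mul, map_mul, map_inv, map_inv, hab (QuotientGroup.mk' M g),
      mul_inv_cancel_right, inv_mul_cancel]
  refine lt_of_le_of_ne (hle.trans ((Subgroup.map_subtype_le _).trans inf_le_left)) fun h => hRM ?_
  rw [hR]
  rintro _ ⟨t, rfl⟩
  obtain ⟨t', ht', he⟩ := hle (h.ge t.2.1)
  rw [← (Subtype.ext he : t' = t)]
  exact (show t' ∈ M.comap ι from ht')


/-- Let p ≥ 5 be a prime and F a saturated fusion system over a nontrivial finite p-group S such that Aut_F(S) is a p-group. Then the focal subgroup of F is a proper subgroup of S. -/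
theorem result {Ω : Type*} [Group Ω] {S : Subgroup Ω} [Finite S] (p : ℕ) [Fact p.Prime] (hS : IsPGroup p S) (F : Cfsg.FusionSystem S) (hF : F.IsSaturated p) (hp : 5 ≤ p) (hS1 : S ≠ ⊥) (haut : IsPGroup p ↥(F.autGroup S)) : F.focalSubgroup < S := by
  exact main p hS F hF hp hS1 haut

end Cfsg.Agent.S5252
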