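import Cfsg.Statements.S4978
import Cfsg.Agent.S4491
import Cfsg.Agent.S4677
import Cfsg.Agent.S4684
import Cfsg.Agent.S5252
import Cfsg.Agent.H82.PairConjugacy
import Cfsg.Agent.H35.Consequences

set_option autoImplicit false
open Cfsg

namespace Cfsg.Agent.S4978

section
open MonoidAlgebra H83.Star

universe u

variable {p : ℕ} {M : Ideal Cfsg.AlgInt} {G : Type u} [Group G] [Fintype G]
  [hp : Fact p.Prime] {B : Set (Cfsg.IrrCharacter G)} {P : Subgroup G}
  {e : Set (Cfsg.IrrCharacter (Subgroup.centralizer (P : Set G)))} {F : Cfsg.FusionSystem P}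

/-- The index of the focal subgroup divides the number of height zero characters of given degree. -/
theorem index_dvd_count (hM : Cfsg.IsPModular p M)
    (hF : Cfsg.IsBlockFusionSystemOn p M B P e F) (n : ℕ) :
    (F.focalSubgroup.subgroupOf P).index ∣
      Nat.card {χ : Cfsg.IrrCharacter G // χ ∈ B ∧ Cfsg.blockHeight p B (χ : G → ℂ) = 0 ∧
        Cfsg.charDegree (χ : G → ℂ) = n} := by
  rw [← Subgroup.relIndex_top_right]
  have hfix : ∀ lam ∈ focalDual F, ∀ χ : Cfsg.IrrCharacter G, χ ∈ B →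
      Cfsg.blockHeight p B (χ : G → ℂ) = 0 →
      starChar p M (χ : G → ℂ) (starLam p M P e lam) = (χ : G → ℂ) →
      ∀ z ∈ (⊤ : Subgroup P), lam z = 1 := fun lam hlam χ hχ h0 hf z _ => by
    rw [lam_eq_one_of_fixed_height_zero hM hF hlam hχ h0 hf, MonoidHom.one_apply]
  set Z : Subgroup P := ⊤
  classical
  haveI := normal_focal hF
  let N := F.focalSubgroup.subgroupOf P
  letI : CommGroup (P ⧸ N) :=
    { (inferInstance : Group (P ⧸ N)) with
      mul_comm := fun x y => by
        obtain ⟨a, rfl⟩ := QuotientGroup.mk_surjective x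
        obtain ⟨b, rfl⟩ := QuotientGroup.mk_surjective y
        refine QuotientGroup.eq.2 (Subgroup.mem_subgroupOf.2 ?_)
        have h1 := commutator_mem_focal hF b a⁻¹
        push_cast at h1 ⊢
        convert h1 using 1
        group }
  let π : P →* P ⧸ N := QuotientGroup.mk' N
  have hmem : ∀ μ : (P ⧸ N) →* ℂˣ, μ.comp π ∈ focalDual F := fun μ u hu => by
    show μ (π u) = 1
    rw [show π u = 1 from (QuotientGroup.eq_one_iff u).2 hu, map_one]
  let X := {χ : Cfsg.IrrCharacter G // χ ∈ B ∧ Cfsg.blockHeight p B (χ : G → ℂ) = 0 ∧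
    Cfsg.charDegree (χ : G → ℂ) = n}
  haveI : Finite (Cfsg.IrrCharacter G) := CharBasic.finite_irrCharacter
  let act : MulAction ((P ⧸ N) →* ℂˣ) X :=
    { smul := fun μ χ => ⟨starIrr hM (isUnitWeight_starLam hM hF (hmem μ)) χ.1,
        starIrr_mem hM _ hF.1.1.2.1 χ.2.1, by rw [blockHeight_starIrr]; exact χ.2.2.1,
        by rw [Cfsg.charDegree, starIrr_regular hM _ χ.1 (g := 1) (by
          rw [orderOf_one, Nat.dvd_one]; exact hp.out.ne_one)]; exact χ.2.2.2⟩
      one_smul := fun χ => by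
        refine Subtype.ext (Subtype.ext ?_)
        show (starIrr hM (isUnitWeight_starLam hM hF (hmem 1)) χ.1 : G → ℂ) = _
        rw [coe_starIrr]
        funext g
        refine Eq.trans ?_ (starChar_one hM (p := p) (χ.1 : G → ℂ) g)
        rw [MonoidHom.one_comp, show starLam p M P e 1 = fun _ _ => (1 : ℂ) from
          funext fun q => funext fun E => starLam_one q E]
      mul_smul := fun μ ν χ => by
        refine Subtype.ext (Subtype.ext ?_)
        show (starIrr hM (isUnitWeight_starLam hM hF (hmem (μ * ν))) χ.1 : G → ℂ) =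
          (starIrr hM (isUnitWeight_starLam hM hF (hmem μ)) (starIrr hM (isUnitWeight_starLam hM hF (hmem ν)) χ.1) : G → ℂ)
        rw [coe_starIrr, coe_starIrr,
          starChar_starChar hM (coe_starIrr hM (isUnitWeight_starLam hM hF (hmem ν)) χ.1),
          MonoidHom.mul_comp]
        congr 1
        funext q E
        exact starLam_mul hF (hmem μ) (hmem ν) q E }
  let _ := act
  let Ψ := MonoidHom.domRestrictHom (Z.map π) ℂˣ
  have hK : ∀ x : X, MulAction.stabilizer ((P ⧸ N) →* ℂˣ) x ≤ Ψ.ker := by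
    intro x μ hμ
    have h1 : (starIrr hM (isUnitWeight_starLam hM hF (hmem μ)) x.1 : G → ℂ) = (x.1 : G → ℂ) :=
      congrArg (fun y : X => ((y.1 : Cfsg.IrrCharacter G) : G → ℂ))
        (MulAction.mem_stabilizer_iff.1 hμ)
    rw [coe_starIrr] at h1
    refine MonoidHom.mem_ker.2 (MonoidHom.ext fun z => ?_)
    obtain ⟨u, hu, huz⟩ := z.2
    show μ (z : P ⧸ N) = 1
    rw [← huz]
    exact hfix _ (hmem μ) x.1 x.2.1 x.2.2.1 h1 u hu
  haveI : Finite ((P ⧸ N) →* ℂˣ) := Nat.finite_of_card_ne_zero (by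
    rw [CommGroup.card_monoidHom_of_hasEnoughRootsOfUnity]; exact Nat.card_pos.ne')
  have hidx : Ψ.ker.index = (F.focalSubgroup.subgroupOf P).relIndex Z := by
    rw [Subgroup.index_ker, MonoidHom.range_eq_top.2 (MonoidHom.domRestrict_surjective ℂ _),
      Subgroup.card_top, CommGroup.card_monoidHom_of_hasEnoughRootsOfUnity, ← Subgroup.relIndex_ker,
      QuotientGroup.ker_mk']
  rw [← hidx]
  exact index_dvd_card_of_stabilizer_le hK

end

/-- The degrees of the height zero characters, stripped of their `p`-part, have squares summing to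
a multiple of `p` (of `p ^ 2` if the defect is at least two). -/
theorem sq_sum_congr {G : Type*} [Group G] [Fintype G] {p : ℕ} [Fact p.Prime] {M : Ideal Cfsg.AlgInt}
    (hM : Cfsg.IsPModular p M) {B : Set (Cfsg.IrrCharacter G)} (hB : Cfsg.IsPBlock M B)
    [Fintype (Cfsg.IrrCharacter G)] (s : Finset (Cfsg.IrrCharacter G))
    (hs : ∀ χ, χ ∈ s ↔ χ ∈ B ∧ Cfsg.blockHeight p B (χ : G → ℂ) = 0)
    {k : ℕ} (hk2 : k ≤ 2) (hkd : k ≤ Cfsg.blockDefect p B) :
    p ^ k ∣ ∑ χ ∈ s, (Cfsg.charDegree (χ : G → ℂ) / p ^ H83.minExp p B) ^ 2 := by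
  classical
  have hp : p.Prime := Fact.out
  set m := H83.minExp p B
  set d := Cfsg.blockDefect p B
  have hdm : d + m = (Nat.card G).factorization p := H83.defect_add_minExp hM hB
  set f : Cfsg.IrrCharacter G → ℕ := fun χ => Cfsg.charDegree (χ : G → ℂ) / p ^ m with hf
  have hfd : ∀ χ ∈ B, p ^ m * f χ = Cfsg.charDegree (χ : G → ℂ) := fun χ hχ =>
    Nat.mul_div_cancel' ((pow_dvd_pow p (H83.minExp_le hχ)).trans (Nat.ordProj_dvd _ _))
  obtain ⟨θ, hθ, -⟩ := H83.exists_height_zero (p := p) hM hB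
  have hS : (∑ᶠ χ ∈ B, Cfsg.charDegree (χ : G → ℂ) ^ 2) = (p ^ m) ^ 2 * ∑ χ ∈ B.toFinset, f χ ^ 2 := by
    rw [finsum_mem_eq_toFinset_sum, Finset.mul_sum]
    refine Finset.sum_congr rfl fun χ hχ => ?_
    rw [← mul_pow, hfd χ (Set.mem_toFinset.1 hχ)]
  have hT0 : (∑ χ ∈ B.toFinset, f χ ^ 2) ≠ 0 := by
    refine (Finset.sum_pos' (fun _ _ => Nat.zero_le _) ⟨θ, Set.mem_toFinset.2 hθ, ?_⟩).ne'
    refine pow_pos (Nat.pos_of_ne_zero fun h => ?_) 2
    have := hfd θ hθ
    rw [h, mul_zero] at this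
    exact (BlockBasic.charDegree_pos θ).ne' this.symm
  have hv := S4491.result p M hM B hB
  rw [hS, Nat.factorization_mul (pow_ne_zero _ (pow_ne_zero _ hp.ne_zero)) hT0,
    ← pow_mul, Finsupp.add_apply, hp.factorization_pow, Finsupp.single_eq_same, ← hdm] at hv
  have hTd : p ^ k ∣ ∑ χ ∈ B.toFinset, f χ ^ 2 :=
    (pow_dvd_pow p hkd).trans ((hp.pow_dvd_iff_le_factorization hT0).2 (by omega))
  have hsub : s ⊆ B.toFinset := fun χ h => Set.mem_toFinset.2 ((hs χ).1 h).1
  rw [← Finset.sum_sdiff hsub] at hTd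
  refine (Nat.dvd_add_right (Finset.dvd_sum fun χ hχ => ?_)).1 hTd
  rw [Finset.mem_sdiff, Set.mem_toFinset, hs] at hχ
  have hh : Cfsg.blockHeight p B (χ : G → ℂ) ≠ 0 := fun h => hχ.2 ⟨hχ.1, h⟩
  have h1 : p ∣ f χ := by
    have h2 : p ^ (m + 1) ∣ p ^ m * f χ := by
      rw [hfd χ hχ.1]
      refine (pow_dvd_pow p ?_).trans (Nat.ordProj_dvd _ _)
      rw [H83.factorization_eq (p := p) hM hχ.1]
      omega
    rw [pow_succ] at h2
    exact (Nat.mul_dvd_mul_iff_left (pow_pos hp.pos m)).1 h2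
  exact (pow_dvd_pow p hk2).trans (pow_dvd_pow_of_dvd h1 2)

theorem not_dvd_reduced {G : Type*} [Group G] [Fintype G] {p : ℕ} [Fact p.Prime] {M : Ideal Cfsg.AlgInt}
    (hM : Cfsg.IsPModular p M) {B : Set (Cfsg.IrrCharacter G)} {χ : Cfsg.IrrCharacter G} (hχ : χ ∈ B)
    (h0 : Cfsg.blockHeight p B (χ : G → ℂ) = 0) :
    ¬ p ∣ Cfsg.charDegree (χ : G → ℂ) / p ^ H83.minExp p B := by
  have h := H83.factorization_eq (p := p) hM hχ
  rw [h0, add_zero] at h
  rw [← h]
  exact Nat.not_dvd_ordCompl Fact.out (BlockBasic.charDegree_pos χ).ne'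

theorem sq_two : ∀ x : ZMod 2, x ≠ 0 → x ^ 2 = 1 := by decide

theorem sq_three : ∀ x : ZMod 3, x ≠ 0 → x ^ 2 = 1 := by decide

/-- Small primes. -/
theorem dvd_card_of_le_three {p : ℕ} [Fact p.Prime] (hp : p ≤ 3) {ι : Type*} (s : Finset ι) (f : ι → ℕ)
    (hf : ∀ i ∈ s, ¬ p ∣ f i) (h : p ∣ ∑ i ∈ s, f i ^ 2) : p ∣ s.card := by
  rw [← ZMod.natCast_eq_zero_iff] at h ⊢
  rw [Nat.cast_sum] at h
  rw [Finset.sum_congr rfl fun i hi => ?_, Finset.sum_const, nsmul_one] at h
  · exact h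
  have hne : ((f i : ℕ) : ZMod p) ≠ 0 := fun h' => hf i hi ((ZMod.natCast_eq_zero_iff _ _).1 h')
  rw [Nat.cast_pow]
  have h1 : ∀ x : ZMod p, x ≠ 0 → x ^ 2 = 1 := by
    have hp2 := (Fact.out : p.Prime).two_le
    interval_cases p
    · exact sq_two
    · exact sq_three
  exact h1 _ hne


/-- Let p be a prime and B a p-block of the finite group G (relative to a maximal ideal M of the algebraic integers containing p) with a nontrivial defect group D whose automorphism group is a p-group (for a p-group D this is the same as its outer automorphism group being a p-group). Then the number of irreducible characters of height zero in B is divisible by p; if p > 3 this number is at least 2p, and if moreover p ≡ 3 (mod 4) it is at least 3p. -/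
theorem result {G : Type*} [Group G] [Finite G] (p : ℕ) [Fact p.Prime] (M : Ideal Cfsg.AlgInt) (hM : Cfsg.IsPModular p M) (B : Set (Cfsg.IrrCharacter G)) (hB : Cfsg.IsPBlock M B) (D : Subgroup G) (hD : Cfsg.IsDefectGroup p M B D) (hD1 : D ≠ ⊥) (hAut : IsPGroup p (MulAut ↥D)) : p ∣ Nat.card {χ : Cfsg.IrrCharacter G // χ ∈ B ∧ Cfsg.blockHeight p B (χ : G → ℂ) = 0} ∧ (3 < p → 2 * p ≤ Nat.card {χ : Cfsg.IrrCharacter G // χ ∈ B ∧ Cfsg.blockHeight p B (χ : G → ℂ) = 0}) ∧ (3 < p → p % 4 = 3 → 3 * p ≤ Nat.card {χ : Cfsg.IrrCharacter G // χ ∈ B ∧ Cfsg.blockHeight p B (χ : G → ℂ) = 0}) := by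
  classical
  have hp : p.Prime := Fact.out
  cases nonempty_fintype G
  haveI : Fintype (Cfsg.IrrCharacter G) :=
    @Fintype.ofFinite _ CharBasic.finite_irrCharacter
  set s := Finset.univ.filter
    fun χ : Cfsg.IrrCharacter G => χ ∈ B ∧ Cfsg.blockHeight p B (χ : G → ℂ) = 0
  have hs : ∀ χ, χ ∈ s ↔ χ ∈ B ∧ Cfsg.blockHeight p B (χ : G → ℂ) = 0 := fun χ => by simp [s]
  have hscard : Nat.card {χ : Cfsg.IrrCharacter G // χ ∈ B ∧ Cfsg.blockHeight p B (χ : G → ℂ) = 0} =
      s.card := by rw [Nat.card_eq_fintype_card, Fintype.card_subtype]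
  rw [hscard]
  set m := H83.minExp p B
  have hnd : ∀ χ ∈ s, ¬ p ∣ Cfsg.charDegree (χ : G → ℂ) / p ^ m :=
    fun χ hχ => not_dvd_reduced hM ((hs χ).1 hχ).1 ((hs χ).1 hχ).2
  have hDcard := H35.card_defectGroup hM hB hD
  have hd1 : 1 ≤ Cfsg.blockDefect p B := Nat.one_le_iff_ne_zero.2 fun h =>
    hD1 (Subgroup.eq_bot_of_card_eq D (by rw [hDcard, h, pow_zero]))
  rcases Nat.lt_or_ge 3 p with h3 | h3
  swap
  · refine ⟨?_, fun h => absurd h (not_lt.2 h3), fun h => absurd h (not_lt.2 h3)⟩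
    refine dvd_card_of_le_three h3 s _ hnd ?_
    simpa using sq_sum_congr hM hB s hs one_le_two hd1
  have hp5 : 5 ≤ p := by
    rcases Nat.lt_or_ge p 5 with h | h
    · interval_cases p; exact absurd hp (by decide)
    · exact h
  -- a maximal Brauer pair
  obtain ⟨P, e, hmax⟩ := H82.exists_maximal hM hB
  have hPD := S4659.result p M hM B P e hmax
  obtain ⟨c, hc⟩ := H35.defectGroup_le_conj hM hB hD hPD
  have hcard : Nat.card P = Nat.card D := by rw [H35.card_defectGroup hM hB hPD, hDcard]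
  have hPc : P = D.map (MulAut.conj c).toMonoidHom :=
    Subgroup.eq_of_le_of_card_ge hc (by
      rw [hcard, Nat.card_congr
        (D.equivMapOfInjective (MulAut.conj c).toMonoidHom (MulAut.conj c).injective).toEquiv])
  let φ : D ≃* P :=
    (D.equivMapOfInjective _ (MulAut.conj c).injective).trans (MulEquiv.subgroupCongr hPc.symm)
  have hAutP : IsPGroup p (MulAut P) := hAut.of_equiv (MulAut.congr φ)
  have hPp : IsPGroup p P := hmax.1.1.1
  have hP1 : P ≠ ⊥ := fun h => hD1 (Subgroup.eq_bot_of_card_eq D (by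
    rw [← hcard, h, Subgroup.card_bot]))
  obtain ⟨F, hF, hsat⟩ := S4677.result p M hM B P e hmax
  have hlt := S5252.result p hPp F hsat hp5 hP1 (hAutP.to_subgroup _)
  set μ := (F.focalSubgroup.subgroupOf P).index
  obtain ⟨j, hj⟩ := IsPGroup.index hPp (F.focalSubgroup.subgroupOf P)
  have hj1 : j ≠ 0 := fun h => by
    rw [h, pow_zero, Subgroup.index_eq_one, Subgroup.subgroupOf_eq_top] at hj
    exact not_le_of_gt hlt hj
  have hμ : μ = p ^ j := hj
  have hall := S4684.result p M hM B P e hmax F hF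
  rw [hscard] at hall
  have hpμ : p ∣ μ := hμ ▸ dvd_pow_self p hj1
  obtain ⟨θ, hθ, h0⟩ := H83.exists_height_zero (p := p) hM hB
  have hspos : 0 < s.card := Finset.card_pos.2 ⟨θ, (hs θ).2 ⟨hθ, h0⟩⟩
  obtain ⟨r, hr⟩ := hpμ.trans hall
  have hd2 : 2 ≤ Cfsg.blockDefect p B := by
    by_contra hcon
    have h1 : Cfsg.blockDefect p B = 1 := by omega
    rw [h1, pow_one] at hDcard
    haveI : IsCyclic D := isCyclic_of_prime_card hDcard
    obtain ⟨i, hi⟩ := (IsPGroup.iff_card).1 hAut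
    rw [IsCyclic.card_mulAut, hDcard, Nat.totient_prime hp] at hi
    rcases Nat.eq_zero_or_pos i with rfl | hi0
    · simp at hi; omega
    · have := (dvd_pow_self p hi0.ne').trans (dvd_of_eq hi.symm)
      have := Nat.le_of_dvd (by omega) this
      omega
  -- equal degrees come in multiples of p
  set f : Cfsg.IrrCharacter G → ℕ := fun χ => Cfsg.charDegree (χ : G → ℂ)
  set V := s.image f
  have hfib : ∀ v ∈ V, ∃ t, 0 < t ∧ (s.filter fun χ => f χ = v).card = p * t := by
    intro v hv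
    have h := hpμ.trans (index_dvd_count hM hF v)
    rw [Nat.card_eq_fintype_card, Fintype.card_subtype] at h
    have heq : (s.filter fun χ => f χ = v) = Finset.univ.filter fun χ : Cfsg.IrrCharacter G =>
        χ ∈ B ∧ Cfsg.blockHeight p B (χ : G → ℂ) = 0 ∧ Cfsg.charDegree (χ : G → ℂ) = v := by
      ext χ; simp [s, f, and_assoc]
    rw [← heq] at h
    obtain ⟨t, ht⟩ := h
    refine ⟨t, Nat.pos_of_ne_zero fun h0 => ?_, ht⟩
    rw [h0, mul_zero, Finset.card_eq_zero, Finset.filter_eq_empty_iff] at ht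
    obtain ⟨χ, hχ, rfl⟩ := Finset.mem_image.1 hv
    exact ht hχ rfl
  choose! t ht0 ht using hfib
  have hsum : ∑ v ∈ V, t v = r := Nat.eq_of_mul_eq_mul_left hp.pos (by
    rw [← hr, Finset.mul_sum, Finset.card_eq_sum_card_image f s]
    exact Finset.sum_congr rfl fun v hv => (ht v hv).symm)
  set n : ℕ → ℕ := fun v => v / p ^ m
  have hdvd : p ∣ ∑ v ∈ V, t v * n v ^ 2 := by
    have h := sq_sum_congr hM hB s hs le_rfl hd2
    rw [← Finset.sum_fiberwise_of_maps_to (g := f) (t := V)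
      (fun χ hχ => Finset.mem_image_of_mem f hχ)] at h
    rw [Finset.sum_congr rfl fun v hv => show _ = p * (t v * n v ^ 2) by
      rw [Finset.sum_congr rfl fun χ hχ => show _ = n v ^ 2 by
        rw [← (Finset.mem_filter.1 hχ).2], Finset.sum_const, smul_eq_mul, ht v hv, mul_assoc],
      ← Finset.mul_sum, sq] at h
    exact Nat.dvd_of_mul_dvd_mul_left hp.pos h
  have hn : ∀ v ∈ V, ¬ p ∣ n v := fun v hv => by
    obtain ⟨χ, hχ, rfl⟩ := Finset.mem_image.1 hv
    exact hnd χ hχ
  have hVc : V.card ≤ r := by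
    rw [← hsum, Finset.card_eq_sum_ones]
    exact Finset.sum_le_sum fun v hv => ht0 v hv
  have hV1 : ∀ v, V = {v} → p ∣ r := by
    intro v hv
    rw [hv, Finset.sum_singleton] at hdvd hsum
    have hnv := hn v (by simp [hv])
    rcases hp.dvd_mul.1 hdvd with h | h
    · rwa [hsum] at h
    · exact absurd (hp.dvd_of_dvd_pow h) hnv
  have hVne : V.Nonempty := Finset.Nonempty.image (Finset.card_pos.1 hspos) f
  have hr2 : 2 ≤ r := by
    by_contra hcon
    have hV : V.card = 1 := le_antisymm (by omega) hVne.card_pos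
    obtain ⟨v, hv⟩ := Finset.card_eq_one.1 hV
    have := hV1 v hv
    have hrpos : 0 < r := lt_of_lt_of_le hVne.card_pos hVc
    have := Nat.le_of_dvd hrpos this
    omega
  refine ⟨⟨r, hr⟩, fun _ => ?_, fun _ h4 => ?_⟩
  · rw [hr]; nlinarith
  · rw [hr]
    suffices 3 ≤ r by nlinarith
    by_contra hcon
    have hre : r = 2 := by omega
    rcases Nat.lt_or_ge V.card 2 with hV | hV
    · obtain ⟨v, hv⟩ := Finset.card_eq_one.1
        (le_antisymm (by omega) hVne.card_pos : V.card = 1)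
      have := Nat.le_of_dvd (by omega) (hV1 v hv)
      omega
    obtain ⟨a, b, hab, hVab⟩ := Finset.card_eq_two.1 (by omega : V.card = 2)
    have ha : a ∈ V := by simp [hVab]
    have hb : b ∈ V := by simp [hVab]
    rw [hVab, Finset.sum_pair hab] at hsum hdvd
    have := ht0 a ha; have := ht0 b hb
    rw [show t a = 1 by omega, show t b = 1 by omega, one_mul, one_mul] at hdvd
    have h := (ZMod.natCast_eq_zero_iff _ p).2 hdvd
    push_cast at h
    have hb0 : ((n b : ℕ) : ZMod p) ≠ 0 := fun h' => hn b hb ((ZMod.natCast_eq_zero_iff _ _).1 h')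
    refine (ZMod.exists_sq_eq_neg_one_iff.1 ⟨(n a : ZMod p) / (n b : ZMod p), ?_⟩) h4
    field_simp
    linear_combination (-1 : ZMod p) * h

end Cfsg.Agent.S4978
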