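import Cfsg.Statements.S4989
import Cfsg.Agent.H81.GaloisSum
-- import your own Cfsg.Agent.* helpers here

set_option autoImplicit false
open Cfsg

namespace Cfsg.Agent.S4989

open scoped ComplexConjugate

/-- Let H be a subgroup of the finite group G and χ an irreducible complex character of G. Then the inner product of the restriction of χ to H with itself, (1/#H)·Σ_{h ∈ H} |χ(h)|², is at most 1 + #(Z ∖ H)/#H, where Z is the set of zeros of χ in G. -/
theorem result {G : Type*} [Group G] [Finite G] (H : Subgroup G) (χ : Cfsg.IrrCharacter G) : (Nat.card ↥H : ℝ)⁻¹ * ∑ᶠ h : ↥H, ‖(χ : G → ℂ) h‖ ^ 2 ≤ 1 + (Set.ncard ({x : G | (χ : G → ℂ) x = 0} \ (H : Set G)) : ℝ) / (Nat.card ↥H : ℝ) := by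
  classical
  cases nonempty_fintype G
  have hchar := CharBasic.IsIrr.isCharacter χ.2
  set f : G → ℝ := fun x => ‖(χ : G → ℂ) x‖ ^ 2 with hf
  have hG : ∑ x : G, f x = (Nat.card G : ℝ) := by
    have h := CharBasic.classInner_irr_self χ.2
    rw [CharBasic.classInner_self_eq] at h
    have h' : (Nat.card G : ℝ)⁻¹ * ∑ x : G, f x = 1 := by exact_mod_cast h
    rwa [inv_mul_eq_one₀ (by exact_mod_cast Nat.card_pos.ne'), eq_comm] at h'
  set Z := Finset.univ.filter (fun x : G => (χ : G → ℂ) x = 0 ∧ x ∉ H) with hZ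
  set A := Finset.univ.filter (fun x : G => (χ : G → ℂ) x ≠ 0 ∧ x ∉ H) with hA
  set B := Finset.univ.filter (fun x : G => x ∈ H) with hB
  have hle := H81.card_le_sum_norm_sq_of_closed hchar A (fun g hg => (Finset.mem_filter.1 hg).2.1)
    (fun g hg k hk => by
      obtain ⟨h1, h2⟩ := (Finset.mem_filter.1 hg).2
      refine Finset.mem_filter.2 ⟨Finset.mem_univ _, H81.char_pow_ne_zero hchar h1 hk, fun h => h2 ?_⟩
      obtain ⟨j, hj⟩ := exists_pow_eq_self_of_coprime hk
      rw [← hj]; exact pow_mem h j)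
  have hpart : ∀ F : G → ℝ, ∑ x : G, F x = ∑ x ∈ B, F x + (∑ x ∈ A, F x + ∑ x ∈ Z, F x) := by
    intro F
    rw [hA, hB, hZ, Finset.sum_filter, Finset.sum_filter, Finset.sum_filter,
      ← Finset.sum_add_distrib, ← Finset.sum_add_distrib]
    refine Finset.sum_congr rfl fun x _ => ?_
    by_cases hx : x ∈ H <;> by_cases hc : (χ : G → ℂ) x = 0 <;> simp [hx, hc]
  have h1 := hpart f
  have h2 := hpart fun _ => 1
  have hZ0 : ∑ x ∈ Z, f x = 0 := Finset.sum_eq_zero fun x hx => by simp [hf, (Finset.mem_filter.1 hx).2.1]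
  have hH : ∑ᶠ h : ↥H, ‖(χ : G → ℂ) h‖ ^ 2 = ∑ x ∈ B, f x := by
    rw [finsum_eq_sum_of_fintype, Finset.sum_subtype B (p := fun x => x ∈ H) (by simp [hB]) f]
  have hHc : (Nat.card ↥H : ℝ) = B.card := by
    rw [hB, Nat.card_eq_fintype_card, Fintype.card_subtype]
  have hZc : (Set.ncard ({x : G | (χ : G → ℂ) x = 0} \ (H : Set G)) : ℝ) = Z.card := by
    rw [← Set.ncard_coe_finset]
    congr 2
    ext x; simp [hZ]
  simp only [Finset.sum_const, nsmul_eq_mul, mul_one, Finset.card_univ] at h2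
  rw [hG, hZ0, Nat.card_eq_fintype_card (α := G), h2] at h1
  have hpos : (0 : ℝ) < Nat.card ↥H := by exact_mod_cast Nat.card_pos
  rw [hH, hZc, inv_mul_le_iff₀ hpos, mul_add, mul_one, mul_div_cancel₀ _ hpos.ne', hHc]
  linarith

end Cfsg.Agent.S4989
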