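import Cfsg.Statements.S4996
import Cfsg.Agent.H87.CosetChar
import Cfsg.Agent.H54.PermChar
-- import your own Cfsg.Agent.* helpers here

set_option autoImplicit false
open Cfsg

namespace Cfsg.Agent.S4996

open scoped ComplexConjugate

/-- Let N be a normal subgroup of the finite group G and χ an irreducible complex character of G. Then the restriction of χ to N is not irreducible if and only if χ vanishes on some whole coset Nx of N in G. -/
theorem result {G : Type*} [Group G] [Finite G] (N : Subgroup G) [N.Normal] (χ : Cfsg.IrrCharacter G) : ¬ Cfsg.IsIrrCharacter ↥N (fun n : ↥N => (χ : G → ℂ) n) ↔ ∃ x : G, ∀ n : ↥N, (χ : G → ℂ) ((n : G) * x) = 0 := by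
  classical
  cases nonempty_fintype G
  obtain ⟨m, ρ, hρ, hχ⟩ := χ.2
  rw [← hχ]
  haveI := hρ
  set W := Representation.invariants ((Representation.linHom ρ ρ).comp N.subtype) with hW
  set θ : ↥N → ℂ := fun n => ρ.character (n : G) with hθ
  have hθc : Cfsg.IsCharacter ↥N θ := CharBasic.isCharacter_character (ρ.comp N.subtype)
  have hchar1 : H87.endChar ρ N (1 : G) = (Module.finrank ℂ W : ℂ) := H87.endChar_one ρ N
  have hnorm : Cfsg.classInner θ θ = (Module.finrank ℂ W : ℂ) := by
    rw [← hchar1, H87.endChar_apply, CharBasic.classInner_self_eq, finsum_eq_sum_of_fintype]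
    simp [hθ]
  have hWpos : 0 < Module.finrank ℂ W := by
    refine Nat.pos_of_ne_zero fun h0 => ?_
    rw [h0, Nat.cast_zero, CharBasic.classInner_self_eq_zero] at hnorm
    have := congrFun hnorm 1
    simp [hθ] at this
    have := CharBasic.finrank_pos_of_isIrreducible ρ
    simp at this
    omega
  have hirr_iff : Cfsg.IsIrrCharacter ↥N θ ↔ Module.finrank ℂ W = 1 := by
    constructor
    · intro h
      have := CharBasic.classInner_irr_self h
      rw [hnorm] at this
      exact_mod_cast this
    · intro h
      refine H54.isIrr_of_norm_one {()} (fun _ => 1) (fun _ => θ) (fun _ _ => hθc) (by simp) ?_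
        (d := m) ?_ ?_
      · rw [hnorm, h]; simp
      · simp [hθ]
      · simpa using CharBasic.finrank_pos_of_isIrreducible ρ
  have hval : ∀ x : G, (∀ n : ↥N, ρ.character ((n : G) * x) = 0) ↔ H87.endChar ρ N x = 0 := by
    intro x
    rw [H87.endChar_apply, Complex.ofReal_eq_zero, finsum_eq_sum_of_fintype, mul_eq_zero,
      or_iff_right (by simp [Nat.card_pos.ne']),
      Finset.sum_eq_zero_iff_of_nonneg (fun n _ => by positivity)]
    simp only [Finset.mem_univ, true_implies, pow_eq_zero_iff two_ne_zero, norm_eq_zero]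
    have hN : N.Normal := inferInstance
    constructor
    · intro h n
      have := h ⟨x * n * x⁻¹, hN.conj_mem _ n.2 x⟩
      simpa using this
    · intro h n
      have := h ⟨x⁻¹ * n * x, by simpa using hN.conj_mem _ n.2 x⁻¹⟩
      simpa [mul_assoc] using this
  rw [hirr_iff]
  simp only [hval]
  constructor
  · intro hne
    by_contra hall
    push Not at hall
    have hc : Cfsg.IsCharacter G (H87.endChar ρ N) := H87.isCharacter_endChar ρ N
    set ψ := H87.endChar ρ N with hψ
    have hnn : ∀ x, (‖ψ x‖ : ℂ) = ψ x := by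
      intro x
      rw [hψ, H87.endChar_apply, Complex.norm_real, Real.norm_of_nonneg]
      exact mul_nonneg (by positivity) (finsum_nonneg fun n => by positivity)
    have hsum : ∑ x : G, ‖ψ x‖ = (Nat.card G : ℝ) := by
      have := H87.sum_endChar ρ N hρ
      rw [← hψ, ← Finset.sum_congr rfl fun x _ => hnn x] at this
      exact_mod_cast this
    have h1 : ‖ψ 1‖ = (Module.finrank ℂ W : ℝ) := by
      rw [hchar1, Complex.norm_natCast]
    have hle := H87.card_le_sum_norm_of_closed hc (Finset.univ.erase 1) (fun g _ => hall g)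
      (fun g hg k hk => by
        refine Finset.mem_erase.2 ⟨fun e => (Finset.mem_erase.1 hg).1 ?_, Finset.mem_univ _⟩
        obtain ⟨j, hj⟩ := exists_pow_eq_self_of_coprime hk
        rw [← hj, e, one_pow])
    rw [← Finset.add_sum_erase _ _ (Finset.mem_univ (1 : G)), h1, Nat.card_eq_fintype_card] at hsum
    rw [Finset.card_erase_of_mem (Finset.mem_univ _), Finset.card_univ,
      Nat.cast_sub Fintype.card_pos, Nat.cast_one] at hle
    have h2 : (2 : ℝ) ≤ (Module.finrank ℂ W : ℝ) := by exact_mod_cast (by omega : 2 ≤ Module.finrank ℂ W)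
    linarith
  · rintro ⟨x, hx⟩ h1
    haveI := CharBasic.nontrivial_of_isIrreducible ρ
    exact one_ne_zero ((H87.endChar_eq_one ρ N h1 x).symm.trans hx)

end Cfsg.Agent.S4996
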