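import Cfsg.Statements.S4997
import Cfsg.Agent.H25.OneVanishing.Main

set_option autoImplicit false
open Cfsg

namespace Cfsg.Agent.S4997

/-- Let p be an odd prime and G a finite solvable group with exactly one conjugacy class consisting of vanishing elements (elements at which some irreducible complex character is zero) of order divisible by p. Let P be a Sylow p-subgroup of G. Then the order of P is at most p times the order of the largest normal p-subgroup of G. -/
theorem result {G : Type*} [Group G] [Finite G] (hsolv : Group.IsSolvable G) (p : ℕ) [Fact p.Prime] (hp : p ≠ 2) (h1 : Set.ncard {C : ConjClasses G | (∀ g ∈ C.carrier, ∃ χ : Cfsg.IrrCharacter G, (χ : G → ℂ) g = 0) ∧ ∃ g ∈ C.carrier, p ∣ orderOf g} = 1) (P : Sylow p G) : Nat.card ↥(P : Subgroup G) ≤ p * Nat.card ↥(Cfsg.pCore p G) := by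
  classical
  obtain ⟨C₀, hC₀⟩ := Set.ncard_eq_one.mp h1
  have hmem := hC₀.ge (Set.mem_singleton C₀)
  obtain ⟨g₀, hg₀, -⟩ := hmem.2
  refine H25.OneVanishing.card_sylow_le (orderOf g₀) (fun g hv hd => ?_) P
  obtain ⟨χ, hχ⟩ := hv
  have hC : ConjClasses.mk g = C₀ := by
    refine Set.mem_singleton_iff.mp (hC₀.le ⟨fun x hx => ⟨χ, ?_⟩, g, ConjClasses.mem_carrier_mk, hd⟩)
    obtain ⟨c, rfl⟩ := isConj_iff.mp (ConjClasses.mk_eq_mk_iff_isConj.mp
      (ConjClasses.mem_carrier_iff_mk_eq.mp hx).symm)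
    rw [CharBasic.IsIrr.isClassFunction χ.2 g c, hχ]
  obtain ⟨c, rfl⟩ := isConj_iff.mp (ConjClasses.mk_eq_mk_iff_isConj.mp
    ((ConjClasses.mem_carrier_iff_mk_eq.mp hg₀).trans hC.symm))
  exact ((SemiconjBy.orderOf_eq c (x := g₀) (y := c * g₀ * c⁻¹) (by simp [SemiconjBy, mul_assoc])).symm)

end Cfsg.Agent.S4997
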