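import Cfsg.Statements.S5001
import Cfsg.Agent.H87.DefectHeight
import Cfsg.Agent.CharBasic.Integral
-- import your own Cfsg.Agent.* helpers here

set_option autoImplicit false
open Cfsg

namespace Cfsg.Agent.S5001

open Cfsg.Agent.H87

/-- Let p be a prime, G a finite group and B a p-block of G (relative to a maximal ideal M of the algebraic integers containing p) with defect group D. Let Z be a central p-subgroup of G contained in D and λ a linear character of Z (a homomorphism to the nonzero complex numbers). Say an irreducible character χ of G lies over λ when χ(z) = χ(1)λ(z) for all z ∈ Z. If some irreducible character in B lying over λ has height zero, then λ extends to a linear character of D. -/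
theorem result {G : Type*} [Group G] [Finite G] (p : ℕ) [Fact p.Prime] (M : Ideal Cfsg.AlgInt) (hM : Cfsg.IsPModular p M) (B : Set (Cfsg.IrrCharacter G)) (hB : Cfsg.IsPBlock M B) (D : Subgroup G) (hD : Cfsg.IsDefectGroup p M B D) (Z : Subgroup G) (hZc : Z ≤ Subgroup.center G) (hZp : IsPGroup p ↥Z) (hZD : Z ≤ D) (lam : ↥Z →* ℂˣ) (χ : Cfsg.IrrCharacter G) (hχ : χ ∈ B) (hover : (∀ z : ↥Z, (χ : G → ℂ) z = (χ : G → ℂ) 1 * (lam z : ℂ))) (h0 : Cfsg.blockHeight p B (χ : G → ℂ) = 0) : (∃ μ : ↥D →* ℂˣ, ∀ z : ↥Z, μ ⟨(z : G), hZD z.2⟩ = lam z) := by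
  obtain ⟨g, hg, Q, hQ⟩ := hD
  obtain ⟨n, ρ, hρ, he⟩ := χ.2
  haveI := hρ
  have hne := not_memLocalIdeal_of_height_zero hM hB hg hχ h0
  rw [← he] at hne
  have hcard : Nat.card D = p ^ (Nat.card (Subgroup.centralizer ({g} : Set G))).factorization p := by
    rw [hQ, Subgroup.card_map_of_injective (Subgroup.subtype_injective _)]
    exact Q.card_eq_multiplicity
  refine exists_extension ρ D (Fact.out : p.Prime) hM hcard (x := g) ?_ hne Z hZD lam ?_
  · intro d0 hd0
    rw [hQ] at hd0
    obtain ⟨d, -, rfl⟩ := hd0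
    exact Subgroup.mem_centralizer_singleton_iff.1 d.2
  · intro z
    obtain ⟨ω, hω, -, hmul⟩ := CharBasic.exists_central_scalar ρ (hZc z.2)
    have h1 := hmul 1
    have h2 := hover z
    rw [← he] at h2
    rw [one_mul, h2, mul_comm] at h1
    have hn : ρ.character (1 : G) ≠ 0 := by
      rw [he]
      exact CharBasic.IsIrr.one_ne_zero χ.2
    rw [mul_right_cancel₀ hn h1, hω]

end Cfsg.Agent.S5001
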