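import Cfsg.Statements.S5011
import Mathlib
-- import your own Cfsg.Agent.* helpers here

set_option autoImplicit false
open Cfsg

namespace Cfsg.Agent.S5011

theorem exists_scalar {V : Type*} [AddCommGroup V] [Module ℂ V] [FiniteDimensional ℂ V] [Nontrivial V]
    {G : Type*} [Group G] (ρ : Representation ℂ G V) (g : G) (C : Set G)
    (hg : ∀ c ∈ C, c * g = g * c)
    (hC : ∀ W : Submodule ℂ V, (∀ c ∈ C, ∀ v ∈ W, ρ c v ∈ W) → W = ⊥ ∨ W = ⊤) :
    ∃ μ : ℂ, ∀ v, ρ g v = μ • v := by
  obtain ⟨μ, hμ⟩ := Module.End.exists_eigenvalue (ρ g : Module.End ℂ V)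
  refine ⟨μ, ?_⟩
  rcases hC (Module.End.eigenspace (ρ g : Module.End ℂ V) μ) (fun c hc v hv => by
      rw [Module.End.mem_eigenspace_iff] at hv ⊢
      have : ρ g (ρ c v) = ρ c (ρ g v) := by
        rw [← Module.End.mul_apply, ← map_mul, ← hg c hc, map_mul, Module.End.mul_apply]
      rw [this, hv, map_smul]) with h | h
  · exact absurd h hμ
  · intro v
    exact Module.End.mem_eigenspace_iff.1 (h ▸ Submodule.mem_top : v ∈ _)

/-- Let G be a finite non-abelian simple group and ρ an irreducible complex representation of G on a space of dimension greater than one (irreducible in the sense that the only subspaces invariant under every ρ(x) are 0 and the whole space). Then for every non-identity element g of G, the centralizer of g does not act irreducibly: there is a non-zero proper subspace invariant under ρ(c) for every c commuting with g. -/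
theorem result {G : Type*} [Group G] [Finite G] [IsSimpleGroup G]
    (hG : ¬ IsMulCommutative G) {V : Type*} [AddCommGroup V] [Module ℂ V] [FiniteDimensional ℂ V]
    (ρ : Representation ℂ G V)
    (hirr : ∀ W : Submodule ℂ V, (∀ x : G, ∀ v ∈ W, ρ x v ∈ W) → W = ⊥ ∨ W = ⊤)
    (hdim : 1 < Module.finrank ℂ V) (g : G) (hg : g ≠ 1) :
    ∃ W : Submodule ℂ V, W ≠ ⊥ ∧ W ≠ ⊤ ∧ ∀ c ∈ Subgroup.centralizer ({g} : Set G), ∀ v ∈ W, ρ c v ∈ W := by
  by_contra hcon
  push Not at hcon
  haveI : Nontrivial V := Module.finrank_pos_iff.1 (by omega : 0 < Module.finrank ℂ V)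
  have hC : ∀ W : Submodule ℂ V,
      (∀ c ∈ (Subgroup.centralizer ({g} : Set G) : Set G), ∀ v ∈ W, ρ c v ∈ W) → W = ⊥ ∨ W = ⊤ := by
    intro W hW
    by_contra hne
    push Not at hne
    obtain ⟨c, hc, v, hv, hnot⟩ := hcon W hne.1 hne.2
    exact hnot (hW c hc v hv)
  obtain ⟨μ, hμ⟩ := exists_scalar ρ g _ (fun c hc => Subgroup.mem_centralizer_singleton_iff.1 hc) hC
  rcases IsSimpleGroup.eq_bot_or_eq_top_of_normal ρ.ker inferInstance with hk | hk
  · have hcen : g ∈ Subgroup.center G := by
      rw [Subgroup.mem_center_iff]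
      intro x
      apply (MonoidHom.ker_eq_bot_iff ρ).1 hk
      ext v
      simp [map_mul, hμ, map_smul]
    rcases IsSimpleGroup.eq_bot_or_eq_top_of_normal (Subgroup.center G) inferInstance with hc | hc
    · exact hg (Subgroup.mem_bot.1 (hc ▸ hcen))
    · exact hG ⟨⟨fun a b => (Subgroup.mem_center_iff.1 (hc ▸ Subgroup.mem_top a : a ∈ Subgroup.center G) b).symm⟩⟩
  · have h1 : ∀ x : G, ρ x = 1 := fun x => MonoidHom.mem_ker.1 (hk ▸ Subgroup.mem_top x)
    obtain ⟨v, hv⟩ := exists_ne (0 : V)
    rcases hirr (Submodule.span ℂ {v}) (fun x w hw => by simpa [h1 x] using hw) with h | h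
    · simp [hv] at h
    · have := finrank_span_singleton (K := ℂ) hv
      rw [h, finrank_top] at this
      omega

end Cfsg.Agent.S5011
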