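import Cfsg.Statements.S5015
import Cfsg.Agent.H87.RankOne
-- import your own Cfsg.Agent.* helpers here

set_option autoImplicit false
open Cfsg

namespace Cfsg.Agent.S5015

open Cfsg.Agent.H87

section
variable {Y Ω : Type*} [Group Y] [MulAction Y Ω]

/-- Hypotheses on a root subgroup attached to a point. -/
structure RootAt (α : Ω) (A : Subgroup Y) : Prop where
  le : A ≤ MulAction.stabilizer Y α
  inv : ∀ y ∈ MulAction.stabilizer Y α, Cfsg.conjBy A y = A
  reg : ∀ β γ : Ω, β ≠ α → γ ≠ α → ∃! a : Y, a ∈ A ∧ a • β = γ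

theorem RootAt.conj {α : Ω} {A : Subgroup Y} (h : RootAt α A) (y : Y) :
    RootAt (y • α) (Cfsg.conjBy A y) := by
  have hne : ∀ β : Ω, β ≠ y • α → y⁻¹ • β ≠ α := fun β hβ e => hβ (by rw [← e, smul_inv_smul])
  refine ⟨?_, ?_, ?_⟩
  · intro x hx
    rw [mem_conjBy] at hx
    have := h.le hx
    rw [MulAction.mem_stabilizer_iff] at this ⊢
    rw [mul_smul, mul_smul, inv_smul_eq_iff] at this
    exact this
  · intro z hz
    rw [← conjBy_mul, conjBy_eq_conjBy_iff]
    apply h.inv
    rw [MulAction.mem_stabilizer_iff] at hz ⊢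
    rw [mul_smul, mul_smul, hz, inv_smul_smul]
  · intro β γ hβ hγ
    obtain ⟨a, ⟨ha, e⟩, hu⟩ := h.reg _ _ (hne β hβ) (hne γ hγ)
    refine ⟨y * a * y⁻¹, ⟨conj_mem_conjBy y ha, ?_⟩, ?_⟩
    · rw [mul_smul, mul_smul, e, smul_inv_smul]
    · rintro x ⟨hx, ex⟩
      have := hu (y⁻¹ * x * y) ⟨mem_conjBy.1 hx, by rw [mul_smul, mul_smul, smul_inv_smul, ex]⟩
      rw [← this]; group

theorem conjBy_eq_of_smul_eq {α : Ω} {A : Subgroup Y} (h : RootAt α A) {g k : Y}
    (e : g • α = k • α) : Cfsg.conjBy A g = Cfsg.conjBy A k := by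
  rw [conjBy_eq_conjBy_iff]
  apply h.inv
  rw [MulAction.mem_stabilizer_iff, mul_smul, e, inv_smul_smul]

theorem cond_of_rootAt {α : Ω} {A : Subgroup Y} (h : RootAt α A) (y : Y) (hy : y • α ≠ α) :
    Cfsg.RankOneCondition A (Cfsg.conjBy A y) := by
  intro a ha ha1
  have hB := h.conj y
  have h1 : a⁻¹ • y • α ≠ α := by
    intro e
    rw [inv_smul_eq_iff, MulAction.mem_stabilizer_iff.1 (h.le ha)] at e
    exact hy e
  have h2 : a⁻¹ • y • α ≠ y • α := by
    intro e
    obtain ⟨c, -, hu⟩ := h.reg (y • α) (y • α) hy hy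
    have := hu a⁻¹ ⟨inv_mem ha, e⟩
    have h' := hu 1 ⟨one_mem _, one_smul _ _⟩
    exact ha1 (inv_eq_one.1 (this.trans h'.symm))
  obtain ⟨b, ⟨hb, eb⟩, -⟩ := hB.reg α (a⁻¹ • y • α) hy.symm h2
  refine ⟨b⁻¹, inv_mem hb, ?_, ?_⟩
  · intro e
    rw [inv_eq_one] at e
    rw [e, one_smul] at eb
    exact h1 eb.symm
  · rw [inv_inv, ← conjBy_mul]
    exact conjBy_eq_of_smul_eq h (by rw [eb, mul_smul])

end

/-- Let a group Y act doubly transitively on a set Ω with at least three points, and suppose that the stabilizer of a point α contains a nilpotent subgroup A, normalized by that stabilizer, which acts regularly on the points other than α. Then for any y in Y moving α, the subgroups A and y A y⁻¹ are the unipotent subgroups of a rank one group, and the normal closure of A in Y (the subgroup generated by all conjugates of A) is generated by A and y A y⁻¹ alone. -/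
theorem result {Y Ω : Type*} [Group Y] [MulAction Y Ω]
    (h2 : MulAction.IsMultiplyPretransitive Y Ω 2) (hΩ : 3 ≤ ENat.card Ω) (α : Ω) (A : Subgroup Y)
    (hA : A ≤ MulAction.stabilizer Y α) (hAn : ∀ y ∈ MulAction.stabilizer Y α, Cfsg.conjBy A y = A)
    (hnil : Group.IsNilpotent A) (hreg : ∀ β γ : Ω, β ≠ α → γ ≠ α → ∃! a : Y, a ∈ A ∧ a • β = γ)
    (y : Y) (hy : y ∉ MulAction.stabilizer Y α) :
    Cfsg.IsRankOnePair A (Cfsg.conjBy A y) ∧ Subgroup.normalClosure (A : Set Y) = A ⊔ Cfsg.conjBy A y := by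
  have hy' : y • α ≠ α := hy
  have h : RootAt α A := ⟨hA, hAn, hreg⟩
  have hB := h.conj y
  haveI := hnil
  have hne : A ≠ Cfsg.conjBy A y := by
    intro e
    obtain ⟨γ, hγ1, hγ2⟩ : ∃ γ : Ω, γ ≠ α ∧ γ ≠ y • α := by
      by_contra hcon
      push Not at hcon
      have hsub : (Set.univ : Set Ω) ⊆ {α, y • α} := fun γ _ => by
        rcases eq_or_ne γ α with r | r
        · exact Or.inl r
        · exact Or.inr (hcon γ r)
      have h3 : (3 : ℕ∞) ≤ ({α, y • α} : Set Ω).encard :=
        hΩ.trans (by rw [← Set.encard_univ]; exact Set.encard_le_encard hsub)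
      rw [Set.encard_pair hy'.symm] at h3
      exact absurd h3 (by decide)
    obtain ⟨a, ⟨ha, ea⟩, -⟩ := hreg (y • α) γ hy' hγ1
    rw [e] at ha
    exact hγ2 (ea ▸ MulAction.mem_stabilizer_iff.1 (hB.le ha))
  refine ⟨⟨hne, hnil, Group.nilpotent_of_surjective _
    (MonoidHom.subgroupMap_surjective (MulAut.conj y).toMonoidHom A), cond_of_rootAt h y hy', ?_⟩, ?_⟩
  · have := cond_of_rootAt hB y⁻¹ (by rw [inv_smul_smul]; exact hy'.symm)
    rwa [conjBy_inv_conjBy] at this
  · apply le_antisymm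
    · have key : ∀ g : Y, Cfsg.conjBy A g ≤ A ⊔ Cfsg.conjBy A y := by
        intro g
        rcases eq_or_ne (g • α) (y • α) with e | e
        · rw [conjBy_eq_of_smul_eq h e]; exact le_sup_right
        · obtain ⟨b, ⟨hb, eb⟩, -⟩ := hB.reg α (g • α) hy'.symm e
          rw [conjBy_eq_of_smul_eq h eb.symm]
          intro x hx
          rw [mem_conjBy] at hx
          have hb' := Subgroup.mem_sup_right (S := A) hb
          simpa [mul_assoc] using
            mul_mem (mul_mem hb' (Subgroup.mem_sup_left (T := Cfsg.conjBy A y) hx)) (inv_mem hb')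
      rw [Subgroup.normalClosure, Subgroup.closure_le]
      intro x hx
      obtain ⟨a, ha, hc⟩ := Group.mem_conjugatesOfSet_iff.1 hx
      obtain ⟨c, rfl⟩ := isConj_iff.1 hc
      exact key c (conj_mem_conjBy c ha)
    · refine sup_le Subgroup.le_normalClosure ?_
      intro x hx
      rw [mem_conjBy] at hx
      simpa [mul_assoc] using
        (Subgroup.normalClosure_normal (s := (A : Set Y))).conj_mem _ (Subgroup.le_normalClosure hx) y

end Cfsg.Agent.S5015
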