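import Cfsg.Statements.S5017
import Cfsg.Agent.H87.RankOne
-- import your own Cfsg.Agent.* helpers here

set_option autoImplicit false
open Cfsg

namespace Cfsg.Agent.S5017

open Cfsg.Agent.H87

theorem eq_top_of_nilpotent {X : Type*} [Group X] {A B : Subgroup X} (h : Cfsg.IsRankOneGroup X A B)
    (hp : Group.IsPerfect X) {N : Subgroup X} [N.Normal] (hN : N ⊔ A = ⊤) : N = ⊤ := by
  have hA : Group.IsNilpotent A := h.2.nilpotent_left
  have hs : Function.Surjective ((QuotientGroup.mk' N).comp A.subtype) := by
    intro q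
    obtain ⟨x, rfl⟩ := QuotientGroup.mk'_surjective N q
    obtain ⟨n, hn, a, ha, rfl⟩ : ∃ n ∈ N, ∃ a ∈ A, n * a = x :=
      Subgroup.mem_sup_of_normal_left.1 (hN ▸ Subgroup.mem_top x)
    exact ⟨⟨a, ha⟩, by simp [(QuotientGroup.eq_one_iff n).2 hn]⟩
  have hq : Group.IsNilpotent (X ⧸ N) := Group.nilpotent_of_surjective _ hs
  rcases subsingleton_or_nontrivial (X ⧸ N) with hsub | hnt
  · exact QuotientGroup.subgroup_eq_top_of_subsingleton N hsub
  · exact absurd hq (Group.IsPerfect.not_isNilpotent (X ⧸ N))

/-- Let X be a rank one group with unipotent subgroups A and B and N a normal subgroup of X. Then either X = N A or N lies in the centre of X. Consequently a perfect rank one group is quasisimple. -/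
theorem result {X : Type*} [Group X] {A B : Subgroup X} (h : Cfsg.IsRankOneGroup X A B) :
    (∀ N : Subgroup X, N.Normal → N ⊔ A = ⊤ ∨ N ≤ Subgroup.center X) ∧
    (Group.IsPerfect X → Cfsg.IsQuasisimple X) := by
  refine ⟨fun N hN => normal_dichotomy h hN, fun hp => ⟨hp, ?_⟩⟩
  have hne : Subgroup.center X ≠ ⊤ := by
    intro hc
    obtain ⟨a, ha, ha1⟩ := A.bot_or_exists_ne_one.resolve_left (left_ne_bot h.2)
    exact ha1 (inf_center_eq_one h ha (hc ▸ Subgroup.mem_top a))
  haveI : Nontrivial (X ⧸ Subgroup.center X) := by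
    by_contra hc
    exact hne (QuotientGroup.subgroup_eq_top_of_subsingleton _ (not_nontrivial_iff_subsingleton.1 hc))
  refine { eq_bot_or_eq_top_of_normal := fun M hM => ?_ }
  haveI := hM
  set N := M.comap (QuotientGroup.mk' (Subgroup.center X))
  rcases normal_dichotomy h (N := N) inferInstance with hN | hN
  · right
    have := eq_top_of_nilpotent h hp hN
    rw [← Subgroup.map_comap_eq_self_of_surjective (QuotientGroup.mk'_surjective _) M]
    exact (congrArg _ this).trans (Subgroup.map_top_of_surjective _ (QuotientGroup.mk'_surjective _))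
  · left
    rw [Subgroup.eq_bot_iff_forall]
    intro q hq
    obtain ⟨x, rfl⟩ := QuotientGroup.mk'_surjective _ q
    exact (QuotientGroup.eq_one_iff x).2 (hN hq)

end Cfsg.Agent.S5017
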