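import Cfsg.Statements.S5018
import Cfsg.Agent.H87.RankOne
-- import your own Cfsg.Agent.* helpers here

set_option autoImplicit false
open Cfsg

namespace Cfsg.Agent.S5018

open Cfsg.Agent.H87

/-- A rank one group is not nilpotent, and its second centre equals its centre. -/
theorem result {X : Type*} [Group X] {A B : Subgroup X} (h : Cfsg.IsRankOneGroup X A B) :
    Subgroup.upperCentralSeries X 2 = Subgroup.center X ∧ ¬ Group.IsNilpotent X := by
  refine ⟨le_antisymm ?_ ?_, not_isNilpotent h⟩
  · rcases normal_dichotomy h (N := Subgroup.upperCentralSeries X 2) inferInstance with hN | hN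
    · exfalso
      refine not_isNilpotent h ?_
      set Z2 := Subgroup.upperCentralSeries X 2 with hZ2
      have hA : Group.IsNilpotent A := h.2.nilpotent_left
      have hs : Function.Surjective ((QuotientGroup.mk' Z2).comp A.subtype) := by
        intro q
        obtain ⟨x, rfl⟩ := QuotientGroup.mk'_surjective Z2 q
        obtain ⟨n, hn, a, ha, rfl⟩ : ∃ n ∈ Z2, ∃ a ∈ A, n * a = x :=
          Subgroup.mem_sup_of_normal_left.1 (hN ▸ Subgroup.mem_top x)
        exact ⟨⟨a, ha⟩, by simp [(QuotientGroup.eq_one_iff n).2 hn]⟩
      have hq : Group.IsNilpotent (X ⧸ Z2) := Group.nilpotent_of_surjective _ hs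
      obtain ⟨m, hm⟩ := Subgroup.nilpotent_iff_lowerCentralSeries.1 hq
      refine Subgroup.nilpotent_iff_lowerCentralSeries.2 ⟨m + 2, ?_⟩
      have hle : (⊤ : Subgroup X).lowerCentralSeries m ≤ Z2 := by
        intro x hx
        have h1 : QuotientGroup.mk' Z2 x ∈ (⊤ : Subgroup (X ⧸ Z2)).lowerCentralSeries m := by
          have := Subgroup.mem_map_of_mem (QuotientGroup.mk' Z2) hx
          rwa [Subgroup.map_lowerCentralSeries,
            Subgroup.map_top_of_surjective _ (QuotientGroup.mk'_surjective Z2)] at this
        rw [hm, Subgroup.mem_bot] at h1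
        exact (QuotientGroup.eq_one_iff x).1 h1
      apply Subgroup.lowerCentralSeries_succ_eq_bot
      rw [Subgroup.lowerCentralSeries_succ, ← Subgroup.upperCentralSeries_one]
      rw [Subgroup.commutator_le]
      intro x hx y _
      exact Subgroup.mem_upperCentralSeries_succ_iff.1 (hle hx) y
    · exact hN
  · rw [← Subgroup.upperCentralSeries_one]
    exact Subgroup.upperCentralSeries_mono X (by norm_num)

end Cfsg.Agent.S5018
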