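import Cfsg.Statements.S5019
import Cfsg.Agent.H87.RootPairs
-- import your own Cfsg.Agent.* helpers here

set_option autoImplicit false
open Cfsg

namespace Cfsg.Agent.S5019

open Cfsg.Agent.H87

/-- Let X be a rank one group with abelian unipotent subgroups A and B, and suppose X acts on an abelian group N (written additively) in such a way that A acts quadratically, meaning a' • (a • n − n) = a • n − n for all a, a' in A and n in N, while X as a whole does not: y • (x • n − n) ≠ x • n − n for some x, y in X and n in N. Then X is a special rank one group. -/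
theorem result {X : Type*} [Group X] {A B : Subgroup X} (h : Cfsg.IsRankOneGroup X A B)
    (hab : Cfsg.HasAbelianUnipotents A B) {N : Type*} [AddCommGroup N] [DistribMulAction X N]
    (hq : ∀ a ∈ A, ∀ a' ∈ A, ∀ n : N, a' • (a • n - n) = a • n - n)
    (hX : ∃ x y : X, ∃ n : N, y • (x • n - n) ≠ x • n - n) : Cfsg.IsSpecialRankOnePair A B := by
  refine ⟨h.2, fun a ha ha1 b hb hb1 e => ?_⟩
  set ρ := DistribMulAction.toAddMonoidEnd X N with hρ
  have happ : ∀ (g : X) (n : N), ρ g n = g • n := fun g n => rfl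
  have hinv : ∀ g : X, ρ g * ρ g⁻¹ = 1 ∧ ρ g⁻¹ * ρ g = 1 := fun g => by
    constructor <;> rw [← map_mul] <;> simp
  have hconj : ∀ g c : X, ρ (g * c * g⁻¹) - 1 = ρ g * (ρ c - 1) * ρ g⁻¹ := fun g c => by
    rw [map_mul, map_mul, mul_sub, sub_mul, mul_one, (hinv g).1]
  have hA0 : ∀ c ∈ A, ∀ c' ∈ A, (ρ c' - 1) * (ρ c - 1) = 0 := by
    intro c hc c' hc'
    refine AddMonoidHom.ext fun n => ?_
    show c' • (c • n - n) - (c • n - n) = 0
    rw [hq c hc c' hc' n, sub_self]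
  have hC0 : ∀ g c c' : X, c ∈ Cfsg.conjBy A g → c' ∈ Cfsg.conjBy A g → (ρ c' - 1) * (ρ c - 1) = 0 := by
    intro g c c' hc hc'
    rw [mem_conjBy] at hc hc'
    rw [show c = g * (g⁻¹ * c * g) * g⁻¹ by group, show c' = g * (g⁻¹ * c' * g) * g⁻¹ by group, hconj, hconj]
    calc ρ g * (ρ (g⁻¹ * c' * g) - 1) * ρ g⁻¹ * (ρ g * (ρ (g⁻¹ * c * g) - 1) * ρ g⁻¹)
        = ρ g * (ρ (g⁻¹ * c' * g) - 1) * (ρ g⁻¹ * ρ g) * ((ρ (g⁻¹ * c * g) - 1) * ρ g⁻¹) := by noncomm_ring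
      _ = ρ g * ((ρ (g⁻¹ * c' * g) - 1) * (ρ (g⁻¹ * c * g) - 1)) * ρ g⁻¹ := by
          rw [(hinv g).2]; noncomm_ring
      _ = 0 := by rw [hA0 _ hc _ hc', mul_zero, zero_mul]
  obtain ⟨w, -, hw⟩ := right_mem h.2
  have hB0 : ∀ c ∈ B, ∀ c' ∈ B, (ρ c' - 1) * (ρ c - 1) = 0 := fun c hc c' hc' =>
    hC0 w c c' (hw ▸ hc) (hw ▸ hc')
  set α := ρ a - 1 with hα
  set β := ρ b⁻¹ - 1 with hβ
  have hαα : α * α = 0 := hA0 a ha a ha
  have hββ : β * β = 0 := hB0 _ (inv_mem hb) _ (inv_mem hb)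
  have eb : ρ b = 1 - β := by
    have e1 : (1 + β) * (1 - β) = 1 := by
      calc (1 + β) * (1 - β) = 1 - β * β := by noncomm_ring
        _ = 1 := by rw [hββ, sub_zero]
    calc ρ b = ρ b * ((1 + β) * (1 - β)) := by rw [e1, mul_one]
      _ = 1 - β := by rw [← mul_assoc, hβ, add_sub_cancel, (hinv b).1, one_mul]
  have ea : ρ a⁻¹ = 1 - α := by
    have e1 : (1 + α) * (1 - α) = 1 := by
      calc (1 + α) * (1 - α) = 1 - α * α := by noncomm_ring
        _ = 1 := by rw [hαα, sub_zero]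
    calc ρ a⁻¹ = ρ a⁻¹ * ((1 + α) * (1 - α)) := by rw [e1, mul_one]
      _ = 1 - α := by rw [← mul_assoc, hα, add_sub_cancel, (hinv a).2, one_mul]
  have hxm : ∀ c ∈ A, b⁻¹ * c * b⁻¹⁻¹ ∈ Cfsg.conjBy A b⁻¹ := fun c hc => conj_mem_conjBy _ hc
  have hym : ∀ c ∈ B, a⁻¹ * c * a⁻¹⁻¹ ∈ Cfsg.conjBy A b⁻¹ := fun c hc => e ▸ conj_mem_conjBy _ hc
  have R1 : ∀ c ∈ A, ∀ c' ∈ B, (ρ c - 1) * (ρ c' - 1) + (ρ c - 1) * β * α * (ρ c' - 1) = 0 := by
    intro c hc c' hc'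
    have h0 := hC0 _ _ _ (hym c' hc') (hxm c hc)
    rw [hconj, hconj, inv_inv, inv_inv] at h0
    have h1 : (ρ c - 1) * (ρ b * ρ a⁻¹) * (ρ c' - 1) = 0 := by
      calc (ρ c - 1) * (ρ b * ρ a⁻¹) * (ρ c' - 1)
          = (ρ b * ρ b⁻¹) * ((ρ c - 1) * (ρ b * ρ a⁻¹) * (ρ c' - 1)) * (ρ a * ρ a⁻¹) := by
            rw [(hinv b).1, (hinv a).1, one_mul, mul_one]
        _ = ρ b * (ρ b⁻¹ * (ρ c - 1) * ρ b * (ρ a⁻¹ * (ρ c' - 1) * ρ a)) * ρ a⁻¹ := by noncomm_ring
        _ = 0 := by rw [h0, mul_zero, zero_mul]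
    rw [eb, ea] at h1
    calc (ρ c - 1) * (ρ c' - 1) + (ρ c - 1) * β * α * (ρ c' - 1)
        = (ρ c - 1) * ((1 - β) * (1 - α)) * (ρ c' - 1) + ((ρ c - 1) * α) * (ρ c' - 1)
            + (ρ c - 1) * (β * (ρ c' - 1)) := by noncomm_ring
      _ = 0 := by
        rw [h1, hA0 a ha c hc, hB0 c' hc' b⁻¹ (inv_mem hb), zero_mul, mul_zero, add_zero, add_zero]
  have R2 : ∀ c ∈ A, ∀ c' ∈ B, (ρ c' - 1) * (ρ c - 1) + (ρ c' - 1) * α * β * (ρ c - 1) = 0 := by
    intro c hc c' hc'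
    have h0 := hC0 _ _ _ (hxm c hc) (hym c' hc')
    rw [hconj, hconj, inv_inv, inv_inv] at h0
    have h1 : (ρ c' - 1) * (ρ a * ρ b⁻¹) * (ρ c - 1) = 0 := by
      calc (ρ c' - 1) * (ρ a * ρ b⁻¹) * (ρ c - 1)
          = (ρ a * ρ a⁻¹) * ((ρ c' - 1) * (ρ a * ρ b⁻¹) * (ρ c - 1)) * (ρ b * ρ b⁻¹) := by
            rw [(hinv b).1, (hinv a).1, one_mul, mul_one]
        _ = ρ a * (ρ a⁻¹ * (ρ c' - 1) * ρ a * (ρ b⁻¹ * (ρ c - 1) * ρ b)) * ρ b⁻¹ := by noncomm_ring
        _ = 0 := by rw [h0, mul_zero, zero_mul]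
    rw [show ρ a = 1 + α by rw [hα, add_sub_cancel], show ρ b⁻¹ = 1 + β by rw [hβ, add_sub_cancel]] at h1
    calc (ρ c' - 1) * (ρ c - 1) + (ρ c' - 1) * α * β * (ρ c - 1)
        = (ρ c' - 1) * ((1 + α) * (1 + β)) * (ρ c - 1) - (ρ c' - 1) * (α * (ρ c - 1))
            - ((ρ c' - 1) * β) * (ρ c - 1) := by noncomm_ring
      _ = 0 := by
        rw [h1, hA0 c hc a ha, hB0 b⁻¹ (inv_mem hb) c' hc', zero_mul, mul_zero, sub_zero, sub_zero]
  set x := b⁻¹ * a * b with hx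
  set y := a⁻¹ * b⁻¹ * a with hy
  have hxE : x ∈ Cfsg.conjBy A b⁻¹ := by have := hxm a ha; rwa [inv_inv] at this
  have hyE : y ∈ Cfsg.conjBy A b⁻¹ := by have := hym b⁻¹ (inv_mem hb); rwa [inv_inv] at this
  set δ := (α + α * β * α) - (β + β * α * β) with hδ
  have hd : ρ (x * y⁻¹) = 1 + δ := by
    have ex : ρ x = 1 + (1 + β) * α * (1 - β) := by
      rw [← eb, show (1 + β) = ρ b⁻¹ by rw [hβ, add_sub_cancel], hx,
        show b⁻¹ * a * b = b⁻¹ * a * b⁻¹⁻¹ by rw [inv_inv]]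
      have := hconj b⁻¹ a
      rw [inv_inv b] at this ⊢
      rw [← this, add_sub_cancel]
    have ey : ρ y⁻¹ = 1 - (1 - α) * β * (1 + α) := by
      rw [← ea, show (1 + α) = ρ a by rw [hα, add_sub_cancel],
        show y⁻¹ = a⁻¹ * b * a⁻¹⁻¹ by rw [hy]; group]
      have h' := hconj a⁻¹ b
      rw [inv_inv a] at h' ⊢
      rw [eb, show (1 - β) - 1 = -β by abel, mul_neg, neg_mul] at h'
      exact (sub_eq_iff_eq_add.1 h').trans (by abel)
    have h0 : (1 + β) * α * (1 - β) * ((1 - α) * β * (1 + α)) = 0 := by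
      calc (1 + β) * α * (1 - β) * ((1 - α) * β * (1 + α))
          = (1 + β) * (α * β + α * β * α * β) * (1 + α) - (1 + β) * ((α * α) * β) * (1 + α)
              - (1 + β) * (α * (β * β)) * (1 + α) := by noncomm_ring
        _ = 0 := by
          rw [show α * β + α * β * α * β = 0 from R1 a ha b⁻¹ (inv_mem hb), hαα, hββ]; simp
    rw [map_mul, ex, ey]
    calc (1 + (1 + β) * α * (1 - β)) * (1 - (1 - α) * β * (1 + α))
        = 1 + δ - (1 + β) * α * (1 - β) * ((1 - α) * β * (1 + α)) := by rw [hδ]; noncomm_ring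
      _ = 1 + δ := by rw [h0, sub_zero]
  have hfix : ∀ g : X, ρ g * δ = δ ∧ δ * ρ g = δ := by
    intro g
    have hg : g ∈ A ⊔ B := by simp [h.1]
    rw [Subgroup.sup_eq_closure] at hg
    have hgen : ∀ c : X, c ∈ A ∨ c ∈ B → ρ c * δ = δ ∧ δ * ρ c = δ := by
      intro c hc
      suffices (ρ c - 1) * δ = 0 ∧ δ * (ρ c - 1) = 0 by
        obtain ⟨h1, h2⟩ := this
        exact ⟨sub_eq_zero.1 ((sub_one_mul _ _).symm.trans h1), sub_eq_zero.1 ((mul_sub_one _ _).symm.trans h2)⟩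
      rcases hc with hc | hc
      · constructor
        · calc (ρ c - 1) * δ = ((ρ c - 1) * α) * (1 + β * α)
                - ((ρ c - 1) * β + (ρ c - 1) * β * α * β) := by rw [hδ]; noncomm_ring
            _ = 0 := by
              rw [hA0 a ha c hc, zero_mul]
              rw [zero_sub, neg_eq_zero]
              exact R1 c hc b⁻¹ (inv_mem hb)
        · calc δ * (ρ c - 1) = (1 + α * β) * (α * (ρ c - 1))
                - (β * (ρ c - 1) + β * α * β * (ρ c - 1)) := by rw [hδ]; noncomm_ring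
            _ = 0 := by
              rw [hA0 c hc a ha, mul_zero]
              rw [zero_sub, neg_eq_zero]
              exact R2 c hc b⁻¹ (inv_mem hb)
      · constructor
        · calc (ρ c - 1) * δ = ((ρ c - 1) * α + (ρ c - 1) * α * β * α)
                - ((ρ c - 1) * β) * (1 + α * β) := by rw [hδ]; noncomm_ring
            _ = 0 := by
              rw [hB0 b⁻¹ (inv_mem hb) c hc, zero_mul]
              rw [sub_zero]
              exact R2 a ha c hc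
        · calc δ * (ρ c - 1) = (α * (ρ c - 1) + α * β * α * (ρ c - 1))
                - (1 + β * α) * (β * (ρ c - 1)) := by rw [hδ]; noncomm_ring
            _ = 0 := by
              rw [hB0 c hc b⁻¹ (inv_mem hb), mul_zero]
              rw [sub_zero]
              exact R1 a ha c hc
    induction hg using Subgroup.closure_induction'' with
    | one => simp
    | mem c hc => exact hgen c hc
    | inv_mem c hc => exact hgen _ (hc.imp inv_mem inv_mem)
    | mul c c' _ _ h1 h2 =>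
      rw [map_mul]
      exact ⟨by rw [mul_assoc, h2.1, h1.1], by rw [← mul_assoc, h1.2, h2.2]⟩
  have hK : ρ.ker ≤ Subgroup.center X := by
    rcases normal_dichotomy h (N := ρ.ker) inferInstance with hk | hk
    · exfalso
      obtain ⟨g, g', n, hne⟩ := hX
      apply hne
      have hact : ∀ g : X, ∃ c ∈ A, ρ g = ρ c := fun g => by
        obtain ⟨k, hk', c, hc, rfl⟩ := (Subgroup.mem_sup_of_normal_left (hs := MonoidHom.normal_ker ρ)).1
          (show g ∈ ρ.ker ⊔ A by rw [hk]; exact Subgroup.mem_top g)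
        exact ⟨c, hc, by rw [map_mul, MonoidHom.mem_ker.1 hk', one_mul]⟩
      obtain ⟨c, hc, ec⟩ := hact g
      obtain ⟨c', hc', ec'⟩ := hact g'
      rw [← happ g, ← happ g', ec, ec', happ, happ]
      exact hq c hc c' hc' n
    · exact hk
  set d := x * y⁻¹ with hd'
  have hcen : ∀ g : X, d * g * d⁻¹ * g⁻¹ ∈ Subgroup.center X := by
    intro g
    refine hK (MonoidHom.mem_ker.2 ?_)
    have hcomm : ρ d * ρ g = ρ g * ρ d := by
      rw [hd, add_mul, mul_add, one_mul, mul_one, (hfix g).1, (hfix g).2]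
    rw [map_mul, map_mul, map_mul, hcomm, mul_assoc (ρ g), (hinv d).1, mul_one, (hinv g).1]
  have hne : Cfsg.conjBy A b⁻¹ ≠ A := fun e' =>
    hb1 (inv_eq_one.1 (eq_one_of_fix (rankOne_symm h.2) (inv_mem hb) e'))
  have hAE := rankOne_of_mem_ne h.2 ⟨b⁻¹, by simp [h.1], rfl⟩ hne
  suffices d = 1 from mul_inv_eq_one.1 this
  by_contra hd1
  obtain ⟨a₁, ha₁, ha₁1⟩ := A.bot_or_exists_ne_one.resolve_left (left_ne_bot h.2)
  set E := Cfsg.conjBy A b⁻¹
  have hdE : d ∈ E := mul_mem hxE (inv_mem hyE)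
  have hz : Cfsg.conjBy E (d * a₁ * d⁻¹ * a₁⁻¹) = E :=
    conjBy_eq_self_iff.2 (Subgroup.center_le_normalizer _ (hcen a₁))
  have h1 : Cfsg.conjBy (Cfsg.conjBy E a₁⁻¹) d⁻¹ = Cfsg.conjBy E a₁⁻¹ := by
    rw [← conjBy_mul]
    refine eq_conjBy_inv_iff.2 ?_
    rw [← conjBy_mul]
    have h0 := congrArg (fun C => Cfsg.conjBy C d⁻¹) hz
    simp only [← conjBy_mul, conjBy_of_mem (inv_mem hdE)] at h0
    rwa [show d⁻¹ * (d * a₁ * d⁻¹ * a₁⁻¹) = a₁ * (d⁻¹ * a₁⁻¹) by group] at h0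
  have h2 := eq_left_of_fix (rankOne_symm hAE) (inv_mem hdE) (by simpa using hd1)
    ⟨a₁⁻¹, Subgroup.mem_sup_right (inv_mem ha₁), rfl⟩ h1
  exact ha₁1 (inv_eq_one.1 (eq_one_of_fix hAE (inv_mem ha₁) h2))

end Cfsg.Agent.S5019
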