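import Cfsg.Statements.S5020
import Cfsg.Agent.H87.SpecialSL2
-- import your own Cfsg.Agent.* helpers here

set_option autoImplicit false
open Cfsg

namespace Cfsg.Agent.S5020

open Cfsg.Agent.H87
open scoped commutatorElement

theorem units_zmod_two : ∀ w : (ZMod 2)ˣ, w = 1 := by decide

theorem quasisimple_top {X : Type*} [Group X] (hp : Group.IsPerfect X)
    (hs : IsSimpleGroup (X ⧸ Subgroup.center X)) : Cfsg.IsQuasisimple (⊤ : Subgroup X) := by
  refine ⟨Group.IsPerfect.top_iff.2 hp, ?_⟩
  let e : (⊤ : Subgroup X) ≃* X := Subgroup.topEquiv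
  have hc : (Subgroup.center (⊤ : Subgroup X)).map e.toMonoidHom = Subgroup.center X := by
    ext x
    constructor
    · rintro ⟨y, hy, rfl⟩
      refine Subgroup.mem_center_iff.2 fun z => ?_
      have := congrArg e (Subgroup.mem_center_iff.1 hy (e.symm z))
      simpa using this
    · intro hx
      refine ⟨e.symm x, Subgroup.mem_center_iff.2 fun z => ?_, e.apply_symm_apply x⟩
      apply e.injective
      simpa using Subgroup.mem_center_iff.1 hx (e z)
  exact (QuotientGroup.congr (Subgroup.center (⊤ : Subgroup X)) (Subgroup.center X) e hc).isSimpleGroup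

theorem simple_quotient_of_perfect {X : Type*} [Group X] {A B : Subgroup X} (h : Cfsg.IsRankOneGroup X A B)
    (hp : Group.IsPerfect X) (hcomm : IsMulCommutative A) : IsSimpleGroup (X ⧸ Subgroup.center X) := by
  have hne : Subgroup.center X ≠ ⊤ := by
    intro hc
    obtain ⟨a, ha, ha1⟩ := A.bot_or_exists_ne_one.resolve_left (left_ne_bot h.2)
    exact ha1 (inf_center_eq_one h ha (hc ▸ Subgroup.mem_top a))
  have : Nontrivial (X ⧸ Subgroup.center X) := by
    by_contra hc
    exact hne (QuotientGroup.subgroup_eq_top_of_subsingleton _ (not_nontrivial_iff_subsingleton.1 hc))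
  refine { eq_bot_or_eq_top_of_normal := fun M hM => ?_ }
  have := hM
  set N := M.comap (QuotientGroup.mk' (Subgroup.center X))
  rcases normal_dichotomy h (N := N) inferInstance with hN | hN
  · right
    have hle := Subgroup.Normal.commutator_le_of_self_sup_commutative_eq_top (N := N) hN hcomm
    rw [hp.commutator_eq_top, top_le_iff] at hle
    rw [← Subgroup.map_comap_eq_self_of_surjective (QuotientGroup.mk'_surjective _) M]
    exact (congrArg _ hle).trans (Subgroup.map_top_of_surjective _ (QuotientGroup.mk'_surjective _))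
  · left
    rw [Subgroup.eq_bot_iff_forall]
    intro q hq
    obtain ⟨x, rfl⟩ := QuotientGroup.mk'_surjective _ q
    exact (QuotientGroup.eq_one_iff x).2 (hN hq)

/-- Let X be a special rank one group with abelian unipotent subgroups A and B, and H = N(A) ∩ N(B) its diagonal subgroup. Then either A has at most three elements and X is isomorphic to SL₂(2), SL₂(3) or PSL₂(3); or X = X' A with the commutator subgroup X' quasisimple and the commutator subgroup ⁅A, H⁆ having more than three elements. -/
theorem result {X : Type*} [Group X] {A B : Subgroup X} (h : Cfsg.IsRankOneGroup X A B)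
    (hs : Cfsg.IsSpecialRankOnePair A B) (hab : Cfsg.HasAbelianUnipotents A B) :
    (ENat.card A ≤ 3 ∧ (Nonempty (X ≃* Matrix.SpecialLinearGroup (Fin 2) (ZMod 2)) ∨
        Nonempty (X ≃* Matrix.SpecialLinearGroup (Fin 2) (ZMod 3)) ∨
        Nonempty (X ≃* Matrix.ProjectiveSpecialLinearGroup (Fin 2) (ZMod 3)))) ∨
    (commutator X ⊔ A = ⊤ ∧ Cfsg.IsQuasisimple (commutator X) ∧
      3 < ENat.card ↥(⁅A, Cfsg.rankOneDiagonal A B⁆ : Subgroup X)) := by
  have hsp := specialAb_mk hs hab
  obtain ⟨a, ha, ha1⟩ := A.bot_or_exists_ne_one.resolve_left (left_ne_bot h.2)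
  obtain ⟨b, r⟩ := hsp.exists_related ha ha1
  by_cases hbig : 3 < ENat.card A
  · right
    have heq : ENat.card A = ENat.card B := by
      rw [← hsp.conjBy_swap_left r]
      exact ENat.card_congr (Subgroup.equivMapOfInjective A _ (MulAut.conj (swapElt a b)).injective).toEquiv
    have hA := hsp.le_commutator hbig
    have hB := hsp.symm.le_commutator (heq ▸ hbig)
    rw [h.1] at hA
    rw [sup_comm, h.1] at hB
    have hperf : commutator X = ⊤ := top_le_iff.1 (h.1 ▸ sup_le hA hB)
    have hp : Group.IsPerfect X := ⟨hperf⟩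
    refine ⟨by rw [hperf, top_sup_eq], ?_, ?_⟩
    · rw [hperf]
      exact quasisimple_top hp (simple_quotient_of_perfect h hp hab.1)
    · rw [hsp.commutator_diag_eq hbig]; exact hbig
  · left
    rw [not_lt] at hbig
    refine ⟨hbig, ?_⟩
    have hfinA : Finite A := by
      by_contra hinf
      rw [not_finite_iff_infinite] at hinf
      rw [ENat.card_eq_top_of_infinite] at hbig
      exact absurd hbig (by simp)
    have hfa : IsOfFinOrder a := A.subtype.isOfFinOrder (isOfFinOrder_of_finite (⟨a, ha⟩ : A))
    obtain ⟨p, hp, hpA⟩ := hsp.torsion_dichotomy ⟨a, ha, ha1, hfa⟩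
    haveI := Fact.mk hp
    have hcard : Nat.card A ≤ 3 := by
      rw [ENat.card_eq_coe_natCard] at hbig
      exact_mod_cast hbig
    have hoa : orderOf a = p := orderOf_eq_prime (hpA a ha) ha1
    have hza : Subgroup.zpowers a ≤ A := Subgroup.zpowers_le.2 ha
    have hzc : Nat.card (Subgroup.zpowers a) = p := by rw [Nat.card_zpowers, hoa]
    have hp3 : p ≤ 3 := hzc ▸ (Subgroup.card_le_of_le hza).trans hcard
    have hAz : Subgroup.zpowers a = A := by
      refine Subgroup.eq_of_le_of_card_ge hza ?_
      rw [hzc]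
      have hdvd : p ∣ Nat.card A := hzc ▸ Subgroup.card_dvd_of_le hza
      obtain ⟨k, hk⟩ := hdvd
      rcases Nat.lt_or_ge k 2 with hk2 | hk2
      · calc Nat.card A = p * k := hk
          _ ≤ p * 1 := by gcongr; omega
          _ = p := mul_one p
      · have : p * 2 ≤ p * k := Nat.mul_le_mul_left p hk2
        have := hp.two_le
        omega
    have hBz : B ≤ Subgroup.closure {a, b} := by
      intro x hx
      rw [← hsp.conjBy_swap_left r, ← hAz, Cfsg.conjBy, MonoidHom.map_zpowers] at hx
      obtain ⟨k, rfl⟩ := hx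
      have : (MulAut.conj (swapElt a b)).toMonoidHom a = b⁻¹ := hsp.swap_conj_left r
      show (MulAut.conj (swapElt a b)).toMonoidHom a ^ k ∈ _
      rw [this]
      have hm : b ∈ Subgroup.closure ({a, b} : Set X) :=
        Subgroup.subset_closure (Set.mem_insert_of_mem a (Set.mem_singleton b))
      exact Subgroup.zpow_mem _ (Subgroup.inv_mem _ hm) k
    have htop : Subgroup.closure ({a, b} : Set X) = ⊤ := by
      rw [eq_top_iff, ← h.1]
      exact sup_le (hAz.symm.le.trans (Subgroup.zpowers_le.2 (Subgroup.subset_closure (Set.mem_insert a {b})))) hBz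
    obtain ⟨φ, hker, hrange⟩ := exists_sl2_hom hsp hpA r
    have hto : φ.range = ⊤ := hrange.trans htop
    have etop : ↥φ.range ≃* X := (MulEquiv.subgroupCongr hto).trans Subgroup.topEquiv
    interval_cases p
    · exact absurd hp Nat.not_prime_zero
    · exact absurd hp Nat.not_prime_one
    · left
      have hc : Nat.card (Subgroup.center (Matrix.SpecialLinearGroup (Fin 2) (ZMod 2))) = 1 := by
        rw [Nat.card_congr (Matrix.SpecialLinearGroup.center_equiv_rootsOfUnity).toEquiv]
        refine Nat.card_eq_one_iff_unique.2 ⟨⟨fun u v => ?_⟩, ⟨1⟩⟩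
        exact Subtype.ext ((units_zmod_two _).trans (units_zmod_two _).symm)
      have hk : φ.ker = ⊥ := le_bot_iff.1 (hker.trans (Subgroup.eq_bot_of_card_eq _ hc).le)
      exact ⟨etop.symm.trans (MonoidHom.ofInjective ((MonoidHom.ker_eq_bot_iff φ).1 hk)).symm⟩
    · rcases sl2_or_psl2 φ hker with e | e
      · exact Or.inr (Or.inl (e.map etop.symm.trans))
      · exact Or.inr (Or.inr (e.map etop.symm.trans))

end Cfsg.Agent.S5020
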