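import Cfsg.Statements.S5023
import Cfsg.Agent.H87.RankOne
-- import your own Cfsg.Agent.* helpers here

set_option autoImplicit false
open Cfsg

namespace Cfsg.Agent.S5023

open Cfsg.Agent.H87

theorem quad_pow {X : Type*} [Group X] {V : Type*} [AddCommGroup V] [DistribMulAction X V] {a : X} {v : V}
    (h : a • (a • v - v) = a • v - v) (n : ℕ) : (a ^ n) • v = v + n • (a • v - v) := by
  induction n with
  | zero => simp
  | succ n ih => rw [pow_succ', mul_smul, ih, smul_add, smul_comm a n, h, succ_nsmul']; abel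

theorem triple_zero {V : Type*} [AddCommGroup V] (e d d1 d2 d3 : V →+ V) (he : ∀ w, e (e w) = 0)
    (h1 : ∀ w, d1 w = e (d w) - d (e w) - e (d (e w)))
    (h2 : ∀ w, d2 w = e (d1 w) - d1 (e w) - e (d1 (e w)))
    (h3 : ∀ w, d3 w = e (d2 w) - d2 (e w) - e (d2 (e w))) (v : V) : d3 v = 0 := by
  simp [h3, h2, h1, map_sub, he]

/-- `g - 1` as an additive endomorphism. -/
def subOne {X : Type*} [Group X] (V : Type*) [AddCommGroup V] [DistribMulAction X V] (g : X) : V →+ V :=
  DistribMulAction.toAddMonoidHom V g - AddMonoidHom.id V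

theorem subOne_apply {X : Type*} [Group X] {V : Type*} [AddCommGroup V] [DistribMulAction X V] (g : X) (v : V) :
    subOne V g v = g • v - v := rfl

/-- Let X be a rank one group with unipotent subgroups A and B that acts faithfully on an abelian group V (written additively) with A acting quadratically: a' • (a • v − v) = a • v − v for all a, a' in A and v in V. Then A is either torsion-free or an elementary abelian p-group for some prime p. -/
theorem result {X : Type*} [Group X] {A B : Subgroup X} (h : Cfsg.IsRankOneGroup X A B)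
    {V : Type*} [AddCommGroup V] [DistribMulAction X V] (hf : ∀ x : X, (∀ v : V, x • v = v) → x = 1)
    (hq : ∀ a ∈ A, ∀ a' ∈ A, ∀ v : V, a' • (a • v - v) = a • v - v) :
    (∀ a ∈ A, a ≠ 1 → ¬ IsOfFinOrder a) ∨ ∃ p : ℕ, p.Prime ∧ Cfsg.IsElementaryAbelian p A := by
  by_cases htor : ∀ a ∈ A, a ≠ 1 → ¬ IsOfFinOrder a
  · exact Or.inl htor
  right
  push Not at htor
  obtain ⟨a₀, ha₀, ha₀1, hfin⟩ := htor
  set p := (orderOf a₀).minFac with hp
  have hpp : p.Prime := Nat.minFac_prime fun e => ha₀1 (orderOf_eq_one_iff.1 e)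
  set a := a₀ ^ (orderOf a₀ / p) with hadef
  have hop : 0 < orderOf a₀ := hfin.orderOf_pos
  have ha : a ∈ A := pow_mem ha₀ _
  have ha1 : a ≠ 1 := by
    intro e
    have hd := orderOf_dvd_of_pow_eq_one e
    have hlt : orderOf a₀ / p < orderOf a₀ := Nat.div_lt_self hop hpp.one_lt
    have hpos : 0 < orderOf a₀ / p := Nat.div_pos (Nat.minFac_le hop) hpp.pos
    exact absurd (Nat.le_of_dvd hpos hd) (by omega)
  have hap : a ^ p = 1 := by
    rw [hadef, ← pow_mul, Nat.div_mul_cancel (Nat.minFac_dvd _), pow_orderOf_eq_one]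
  have hpe : ∀ v : V, p • (a • v - v) = 0 := by
    intro v
    have := quad_pow (hq a ha a ha v) p
    rw [hap, one_smul, left_eq_add] at this
    exact this
  have hcomm : ∀ x ∈ A, ∀ y ∈ A, x * y = y * x := by
    intro x hx y hy
    have e : ∀ x ∈ A, ∀ y ∈ A, ∀ v : V, (x * y) • v = (x • v - v) + (y • v - v) + v := by
      intro x hx y hy v
      have h1 := hq y hy x hx v
      rw [smul_sub, sub_eq_iff_eq_add] at h1
      rw [mul_smul, h1]; abel
    have h2 : (x * y)⁻¹ * (y * x) = 1 := hf _ fun v => by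
      rw [mul_smul, inv_smul_eq_iff, e x hx y hy, e y hy x hx]; abel
    exact inv_mul_eq_one.1 h2
  -- the kernels on `pV` and on `V[p]`
  let K : Subgroup X :=
    { carrier := {x | ∀ v : V, x • (p • v) = p • v}
      one_mem' := fun v => one_smul _ _
      mul_mem' := fun {x y} hx hy v => by rw [mul_smul, hy v, hx v]
      inv_mem' := fun {x} hx v => by rw [inv_smul_eq_iff, hx v] }
  let C : Subgroup X :=
    { carrier := {x | ∀ v : V, p • v = 0 → x • v = v}
      one_mem' := fun v _ => one_smul _ _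
      mul_mem' := fun {x y} hx hy v hv => by rw [mul_smul, hy v hv, hx v hv]
      inv_mem' := fun {x} hx v hv => by rw [inv_smul_eq_iff, hx v hv] }
  have hKn : K.Normal := ⟨fun x hx g v => by
    rw [mul_smul, mul_smul, smul_comm g⁻¹ p v, hx, ← smul_comm g⁻¹ p v, smul_inv_smul]⟩
  have hCn : C.Normal := ⟨fun x hx g v hv => by
    rw [mul_smul, mul_smul, hx, smul_inv_smul]
    rw [← smul_comm g⁻¹ p v, hv, smul_zero]⟩
  have haK : a ∈ K := fun v => by
    have := hpe v
    rw [smul_sub, sub_eq_zero, ← smul_comm a p v] at this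
    exact this
  have hae : ∀ v : V, a • (a • v - v) = a • v - v := hq a ha a ha
  haveI := hKn; haveI := hCn
  have hfix_of_commute : ∀ m : X, a * m = m * a → Cfsg.conjBy A m = A := fun m hm =>
    eq_left_of_commute h.2 ha ha1 (h.1 ▸ Subgroup.mem_top m) hm
  -- commutators with `a`
  let δ : X → X := fun k => a * k * a⁻¹ * k⁻¹
  have hmove : ∀ k : X, δ k * k = k * δ k → Cfsg.conjBy A (δ k) = A → Cfsg.conjBy A k = A := by
    intro k hc hk
    refine eq_left_of_fix h.2 ha ha1 ⟨k, h.1 ▸ Subgroup.mem_top k, rfl⟩ ?_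
    have e : δ k * k = a * k * a⁻¹ := by simp only [δ, inv_mul_cancel_right]
    rw [← conjBy_mul, show a * k = k * δ k * a by rw [← hc, e]; group, conjBy_mul, conjBy_of_mem ha,
      conjBy_mul, hk]
  have hKC : ∀ k ∈ K, k ∈ C → ∀ v : V, p • (k • v - v) = 0 := by
    intro k hk _ v
    rw [smul_sub, ← smul_comm k p v, hk v, sub_self]
  have hadd : ∀ m k : X, m ∈ C → k ∈ K → k ∈ C → ∀ v : V,
      (m * k) • v - v = (m • v - v) + (k • v - v) := by
    intro m k hm hk hkc v
    have h1 := hm _ (hKC k hk hkc v)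
    rw [smul_sub, sub_eq_iff_eq_add] at h1
    rw [mul_smul, h1]; abel
  have hδmem : ∀ k, k ∈ K → k ∈ C → δ k ∈ K ∧ δ k ∈ C := fun k hk hkc =>
    ⟨mul_mem (hKn.conj_mem k hk a) (inv_mem hk), mul_mem (hCn.conj_mem k hkc a) (inv_mem hkc)⟩
  have hcom0 : ∀ m k : X, m ∈ K → m ∈ C → k ∈ K → k ∈ C → m * k = k * m := by
    intro m k hm hmc hk hkc
    refine inv_mul_eq_one.1 (hf _ fun v => ?_)
    rw [mul_smul, inv_smul_eq_iff]
    have e1 := hadd m k hmc hk hkc v
    have e2 := hadd k m hkc hm hmc v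
    rw [add_comm, ← e1, sub_left_inj] at e2
    exact e2
  have hstep : ∀ k, k ∈ K → k ∈ C → ∀ v : V, subOne V (δ k) v =
      subOne V a (subOne V k v) - subOne V k (subOne V a v) - subOne V a (subOne V k (subOne V a v)) := by
    intro k hk hkc v
    have e1 := hadd (δ k) k (hδmem k hk hkc).2 hk hkc v
    have e : δ k * k = a * k * a⁻¹ := by simp only [δ, inv_mul_cancel_right]
    have e2 : a⁻¹ • v = v - (a • v - v) := by
      rw [inv_smul_eq_iff, smul_sub, hae]; abel
    rw [e, mul_smul, mul_smul, e2, ← sub_eq_iff_eq_add] at e1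
    have e4 := hae v
    rw [smul_sub, sub_eq_iff_eq_add] at e4
    simp only [subOne_apply]
    rw [← e1]
    simp only [smul_sub, e4, smul_add]
    abel
  have hK0 : ∀ k, k ∈ K → k ∈ C → Cfsg.conjBy A k = A := by
    intro k hk hkc
    obtain ⟨hk1, hk1c⟩ := hδmem k hk hkc
    obtain ⟨hk2, hk2c⟩ := hδmem _ hk1 hk1c
    refine hmove k (hcom0 _ _ hk1 hk1c hk hkc) (hmove _ (hcom0 _ _ hk2 hk2c hk1 hk1c)
      (hfix_of_commute _ ?_))
    suffices δ (δ (δ k)) = 1 by
      rw [show δ (δ (δ k)) = a * δ (δ k) * a⁻¹ * (δ (δ k))⁻¹ from rfl, mul_inv_eq_one,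
        mul_inv_eq_iff_eq_mul] at this
      exact this
    refine hf _ fun v => sub_eq_zero.1 ?_
    exact triple_zero (subOne V a) (subOne V k) (subOne V (δ k)) (subOne V (δ (δ k))) _
      (fun w => by rw [subOne_apply, subOne_apply, hae, sub_self])
      (hstep k hk hkc) (hstep _ hk1 hk1c) (hstep _ hk2 hk2c) v
  have hK0Z : ∀ k, k ∈ K → k ∈ C → k ∈ Subgroup.center X := fun k hk hkc =>
    mem_center_of_fix h (N := K ⊓ C) inferInstance (fun n hn => hK0 n hn.1 hn.2) ⟨hk, hkc⟩
  have hCfix : ∀ c ∈ C, Cfsg.conjBy A c = A := by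
    intro c hc
    have hd : δ c ∈ C := mul_mem (hCn.conj_mem c hc a) (inv_mem hc)
    have hdK : δ c ∈ K := by
      have := mul_mem haK (hKn.conj_mem a⁻¹ (inv_mem haK) c)
      simpa [δ, mul_assoc] using this
    have hz := hK0Z _ hdK hd
    exact hmove c (Subgroup.mem_center_iff.1 hz c).symm
      (conjBy_eq_self_iff.2 (Subgroup.center_le_normalizer _ hz))
  refine ⟨p, hpp, ⟨⟨⟨fun x y => Subtype.ext (hcomm x x.2 y y.2)⟩⟩, fun x hx => ?_⟩⟩
  refine inf_center_eq_one h (pow_mem hx p) (mem_center_of_fix h hCn hCfix ?_)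
  intro v hv
  rw [quad_pow (hq x hx x hx v) p, smul_sub, ← smul_comm x p v, hv, smul_zero, sub_zero, add_zero]

end Cfsg.Agent.S5023
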