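import Cfsg.Statements.S5026
import Cfsg.Agent.H87.RootBasic
-- import your own Cfsg.Agent.* helpers here

set_option autoImplicit false
open Cfsg

namespace Cfsg.Agent.S5026

open Cfsg.Agent.H87

/-- Let S be a degenerate set of abstract root subgroups of G (a set of abstract transvection groups) and let a, b be commuting non-identity elements of members of S with a b ≠ 1. Then the members of S centralizing a b are exactly those centralizing both a and b. -/
theorem result {G : Type*} [Group G] {S : Set (Subgroup G)} (hS : Cfsg.IsRootSubgroupSet S) (hdeg : Cfsg.IsDegenerateRootSet S)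
    {a b : G} (ha : a ∈ Cfsg.rootElements S) (hb : b ∈ Cfsg.rootElements S) (hab : a * b = b * a) (hab1 : a * b ≠ 1) :
    Cfsg.centralizingMembers S (Subgroup.zpowers (a * b)) =
      Cfsg.centralizingMembers S (Subgroup.zpowers a) ∩ Cfsg.centralizingMembers S (Subgroup.zpowers b) := by
  obtain ⟨ha1, A, hA, haA⟩ := ha
  obtain ⟨hb1, B, hB, hbB⟩ := hb
  have key : ∀ E ∈ S, (∀ e ∈ E, (a * b) * e = e * (a * b)) →
      ∀ e ∈ E, a * e = e * a := by
    intro E hE hc e he
    rcases hS.pair A hA E hE with h | h | h
    · exact commute_of_bot h haA he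
    · exfalso
      have hfix : Cfsg.conjBy E (a * b) = E :=
        conjBy_eq_of_commute hc
      rcases hS.pair B hB E hE with h' | h' | h'
      · have hE' : Cfsg.conjBy E a = E := conjBy_eq_of_commute fun w hw => by
          have h1 := hc w hw
          rw [mul_assoc, commute_of_bot h' hbB hw, ← mul_assoc, ← mul_assoc] at h1
          exact mul_right_cancel h1
        exact ha1 (eq_one_of_fix h haA hE')
      · obtain ⟨e1, he1, -, f1⟩ := exists_conjBy_left h (inv_mem haA) (by simpa using ha1)
        obtain ⟨e2, he2, -, f2⟩ := exists_conjBy_left h' hbB hb1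
        have f3 : Cfsg.conjBy E a⁻¹ = Cfsg.conjBy E b := by
          conv_lhs => rw [← hfix]
          rw [← conjBy_mul, inv_mul_cancel_left]
        rw [f3, f2] at f1
        have f4 : A = Cfsg.conjBy B (e1⁻¹ * e2) := by rw [conjBy_mul, f1, conjBy_inv_conjBy]
        have hAB : A = B := by
          refine eq_left_of_fix h' hbB hb1 ⟨_, mul_mem (Subgroup.mem_sup_right (inv_mem he1))
            (Subgroup.mem_sup_right he2), f4⟩ ?_
          refine eq_of_mem_of_mem hS hA hE (hS.conj_mem A hA b) h haA ha1 ?_
          exact mem_conjBy_self_of_commute haA hab.symm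
        subst hAB
        exact hab1 (eq_one_of_fix h (mul_mem haA hbB) hfix)
      · exact hdeg B hB E hE h'
    · exact absurd h (hdeg A hA E hE)
  ext E
  simp only [Cfsg.centralizingMembers, Set.mem_inter_iff, Set.mem_setOf_eq, Subgroup.le_centralizer_iff (H := E),
    Subgroup.zpowers_le, Subgroup.mem_centralizer_iff, SetLike.mem_coe]
  constructor
  · rintro ⟨hE, hc⟩
    have hae := key E hE fun e he => (hc e he).symm
    refine ⟨⟨hE, fun e he => (hae e he).symm⟩, hE, fun e he => ?_⟩
    have h1 := hc e he
    rw [← mul_assoc, ← hae e he, mul_assoc, mul_assoc] at h1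
    exact mul_left_cancel h1
  · rintro ⟨⟨hE, hae⟩, -, hbe⟩
    refine ⟨hE, fun e he => ?_⟩
    rw [← mul_assoc, hae e he, mul_assoc, hbe e he, mul_assoc]

end Cfsg.Agent.S5026
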