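import Cfsg.Statements.S5027
import Cfsg.Agent.H87.RootBasic
-- import your own Cfsg.Agent.* helpers here

set_option autoImplicit false
open Cfsg

namespace Cfsg.Agent.S5027

open Cfsg.Agent.H87
open scoped commutatorElement

/-- Let S be a set of abstract root subgroups of G such that every member of S has a rank one partner in S (the graph of rank one pairs on S has no isolated vertex). Then the second centre of G equals its centre. -/
theorem result {G : Type*} [Group G] {S : Set (Subgroup G)} (hS : Cfsg.IsRootSubgroupSet S)
    (hF : ∀ A ∈ S, ¬ Cfsg.IsIsolatedIn (Cfsg.FAdj S) S A) : Subgroup.upperCentralSeries G 2 = Subgroup.center G := by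
  refine le_antisymm ?_ ?_
  · intro z hz
    rw [Subgroup.mem_upperCentralSeries_succ_iff] at hz
    rw [Subgroup.upperCentralSeries_one] at hz
    have hle : (⨆ A ∈ S, A) ≤ Subgroup.centralizer ({z} : Set G) := by
      refine iSup₂_le fun A hA a ha => ?_
      rw [Subgroup.mem_centralizer_singleton_iff]
      rcases eq_or_ne a 1 with rfl | ha1
      · simp
      obtain ⟨B, hB, hAB⟩ := exists_partner (hF A hA) hA
      have hc := Subgroup.mem_center_iff.1 (hz a)
      have e : ⁅z, a⁆ * a ∈ Cfsg.conjBy A z := by
        have : ⁅z, a⁆ * a = z * a * z⁻¹ := by rw [commutatorElement_def]; group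
        rw [this]; exact conj_mem_conjBy z ha
      have h1 := (eq_of_mul_mem hS hA hB (hS.conj_mem A hA z) hAB
        (Subgroup.mem_centralizer_iff.2 fun x _ => hc x) ha ha1 e).2
      rw [commutatorElement_eq_one_iff_mul_comm] at h1
      exact h1.symm
    rw [hS.generates] at hle
    exact Subgroup.mem_center_iff.2 fun g => Subgroup.mem_centralizer_singleton_iff.1 (hle (Subgroup.mem_top g))
  · rw [← Subgroup.upperCentralSeries_one]
    exact Subgroup.upperCentralSeries_mono G (by norm_num)

end Cfsg.Agent.S5027
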