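import Cfsg.Statements.S5029
import Cfsg.Agent.H87.RootPairs
-- import your own Cfsg.Agent.* helpers here

set_option autoImplicit false
open Cfsg

namespace Cfsg.Agent.S5029

open Cfsg.Agent.H87
open scoped commutatorElement

/-- Let S be a set of abstract root subgroups of G, A ∈ S having a rank one partner in S, and B ∈ S with C = ⁅A, B⁆ ∈ S. Then the members of S contained in AC are the conjugates of A by elements of B together with C, they partition AC, the members of S inside AC partition AC so that A is a line partner of C, and for every non-identity a ∈ A the map b ↦ a⁻¹ b⁻¹ a b is an isomorphism from B onto C. -/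
theorem result {G : Type*} [Group G] {S : Set (Subgroup G)} (hS : Cfsg.IsRootSubgroupSet S)
    {A B : Subgroup G} (hA : ¬ Cfsg.IsIsolatedIn (Cfsg.FAdj S) S A) (hAS : A ∈ S) (hB : B ∈ S) (hC : ⁅A, B⁆ ∈ S) :
    Cfsg.membersIn S (A ⊔ ⁅A, B⁆) = (fun b : G => Cfsg.conjBy A b) '' (B : Set G) ∪ {⁅A, B⁆} ∧
    Cfsg.IsSubgroupPartition (A ⊔ ⁅A, B⁆) (Cfsg.membersIn S (A ⊔ ⁅A, B⁆)) ∧
    A ∈ Cfsg.linePartners S ⁅A, B⁆ ∧
    ∀ a ∈ A, a ≠ 1 → ∃ φ : ↥B ≃* ↥⁅A, B⁆, ∀ b : ↥B, (φ b : G) = a⁻¹ * (b : G)⁻¹ * a * b := by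
  obtain ⟨D, hD, hAD⟩ := exists_partner hA hAS
  have hcc := comm_case_of_mem hS hAS hB hC
  set C := ⁅A, B⁆ with hCdef
  have hACbot : ⁅A, C⁆ = ⊥ := bot_of_commute fun x hx y hy => (hcc.2.1 y hy x (Subgroup.mem_sup_left hx)).symm
  have hAne : C ≠ A := comm_left_ne hS hAS hcc
  have hdisj : ∀ x ∈ A, x ∈ C → x = 1 := fun x hx hxC => by
    by_contra h1
    exact hAne (eq_of_mem_of_mem hS hAS hD hC hAD hx h1 hxC)
  have hAb : ∀ b ∈ B, Cfsg.conjBy A b ≤ A ⊔ C := by
    intro b hb x hx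
    rw [mem_conjBy] at hx
    set a := b⁻¹ * x * b with ha
    have hk : a⁻¹ * b * a⁻¹⁻¹ * b⁻¹ ∈ C := Subgroup.commutator_mem_commutator (inv_mem hx) hb
    have : x = a * (a⁻¹ * b * a⁻¹⁻¹ * b⁻¹) := by rw [ha]; group
    rw [this]
    exact mul_mem (Subgroup.mem_sup_left hx) (Subgroup.mem_sup_right hk)
  have hdec : ∀ x ∈ A ⊔ C, ∃ a ∈ A, ∃ c ∈ C, a * c = x := by
    intro x hx
    rw [Subgroup.sup_eq_closure] at hx
    induction hx using Subgroup.closure_induction with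
    | mem x hx =>
      rcases hx with hx | hx
      · exact ⟨x, hx, 1, one_mem _, mul_one x⟩
      · exact ⟨1, one_mem _, x, hx, one_mul x⟩
    | one => exact ⟨1, one_mem _, 1, one_mem _, mul_one 1⟩
    | mul x y _ _ hx hy =>
      obtain ⟨a, ha, c, hc, rfl⟩ := hx
      obtain ⟨a', ha', c', hc', rfl⟩ := hy
      refine ⟨a * a', mul_mem ha ha', c * c', mul_mem hc hc', ?_⟩
      rw [mul_assoc, ← mul_assoc a', commute_of_bot hACbot ha' hc]; group
    | inv x _ hx =>
      obtain ⟨a, ha, c, hc, rfl⟩ := hx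
      refine ⟨a⁻¹, inv_mem ha, c⁻¹, inv_mem hc, ?_⟩
      rw [commute_of_bot hACbot (inv_mem ha) (inv_mem hc), mul_inv_rev]
  have hcover : ∀ x ∈ A ⊔ C, x ∈ C ∨ ∃ b ∈ B, x ∈ Cfsg.conjBy A b := by
    intro x hx
    obtain ⟨a, ha, c, hc, rfl⟩ := hdec x hx
    rcases eq_or_ne a 1 with rfl | ha1
    · exact Or.inl (by simpa using hc)
    · obtain ⟨b, hb, e⟩ := exists_commutator_eq hS hcc (inv_mem ha) (by simpa using ha1) hc
      refine Or.inr ⟨b, hb, ?_⟩
      have e' : a * c = b * a * b⁻¹ := by rw [← e]; group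
      rw [e']; exact conj_mem_conjBy b ha
  -- a member inside `C` equals `C`
  have hsub : ∀ E ∈ S, E ≤ C → E = C := by
    intro E hE hEC
    obtain ⟨e, he, he1⟩ := E.bot_or_exists_ne_one.resolve_left (hS.ne_bot E hE)
    have hAE : ⁅A, E⁆ = ⊥ := bot_of_commute fun x hx y hy => commute_of_bot hACbot hx (hEC hy)
    rcases hS.pair D hD C hC with h | h | h
    · exfalso
      obtain ⟨a, ha, ha1⟩ := A.bot_or_exists_ne_one.resolve_left (left_ne_bot hAD)
      obtain ⟨b, hb, hb1⟩ := B.bot_or_exists_ne_one.resolve_left (hS.ne_bot B hB)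
      have hk : a⁻¹ * b * a⁻¹⁻¹ * b⁻¹ ∈ C := Subgroup.commutator_mem_commutator (inv_mem ha) hb
      have hz : a⁻¹ * b * a⁻¹⁻¹ * b⁻¹ ∈ Subgroup.centralizer ((A ⊔ D : Subgroup G) : Set G) := by
        have hle : A ⊔ D ≤ Subgroup.centralizer {a⁻¹ * b * a⁻¹⁻¹ * b⁻¹} := sup_le
          (fun x hx => Subgroup.mem_centralizer_singleton_iff.2 (commute_of_bot hACbot hx hk))
          (fun x hx => Subgroup.mem_centralizer_singleton_iff.2 (commute_of_bot h hx hk))
        exact Subgroup.mem_centralizer_iff.2 fun x hx => Subgroup.mem_centralizer_singleton_iff.1 (hle hx)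
      have e' : (a⁻¹ * b * a⁻¹⁻¹ * b⁻¹) * a = b * a * b⁻¹ := by
        rw [← commute_of_bot hACbot ha hk]; group
      have h1 := (eq_of_mul_mem hS hAS hD (hS.conj_mem A hAS b) hAD hz ha ha1
        (e' ▸ conj_mem_conjBy b ha)).2
      refine hb1 (eq_one_of_comm_of_commute hS hAS hD hAD hcc (inv_mem ha) (by simpa using ha1) hb ?_)
      exact mul_inv_eq_iff_eq_mul.1 (mul_inv_eq_one.1 h1)
    · exact eq_of_mem_of_mem hS hC hD hE (rankOne_symm h) (hEC he) he1 he
    · refine le_antisymm hEC fun c hc => ?_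
      obtain ⟨d, hd, hd1⟩ := D.bot_or_exists_ne_one.resolve_left (right_ne_bot hAD)
      have hde : d * e ≠ e * d := fun e' =>
        he1 (eq_one_of_comm_of_commute hS hD hAS (rankOne_symm hAD) h hd hd1 (hEC he) e')
      rcases hS.pair D hD E hE with h' | h' | h'
      · exact absurd (commute_of_bot h' hd he) hde
      · exact (eq_of_mem_of_mem hS hE hD hC (rankOne_symm h') he he1 (hEC he)).symm ▸ hc
      · have hK : ⁅D, C⁆ = ⁅D, E⁆ := by
          refine le_antisymm ?_ (Subgroup.commutator_mono le_rfl hEC)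
          rw [← h.2.2.2 e (hEC he) he1, ← h'.2.2.2 e he he1]
        obtain ⟨e2, he2, eq2⟩ := exists_commutator_eq hS h' hd hd1
          (show d * c * d⁻¹ * c⁻¹ ∈ ⁅D, E⁆ from hK ▸ Subgroup.commutator_mem_commutator hd hc)
        have hz : c⁻¹ * e2 = 1 := by
          refine eq_one_of_comm_of_commute hS hD hAS (rankOne_symm hAD) h hd hd1
            (mul_mem (inv_mem hc) (hEC he2)) ?_
          have h1 : d * c * d⁻¹ * c⁻¹ = d * e2 * d⁻¹ * e2⁻¹ := eq2.symm
          set k := d * c * d⁻¹ * c⁻¹ with hk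
          have hdc : d * c * d⁻¹ = k * c := by rw [hk]; group
          have hde2 : d * e2 * d⁻¹ = k * e2 := by rw [h1]; group
          have : d * (c⁻¹ * e2) * d⁻¹ = c⁻¹ * e2 := by
            calc d * (c⁻¹ * e2) * d⁻¹ = (d * c * d⁻¹)⁻¹ * (d * e2 * d⁻¹) := by group
              _ = c⁻¹ * e2 := by rw [hdc, hde2]; group
          exact mul_inv_eq_iff_eq_mul.1 this
        rwa [inv_mul_eq_one.1 hz]
  have hmem : Cfsg.membersIn S (A ⊔ C) = (fun b : G => Cfsg.conjBy A b) '' (B : Set G) ∪ {C} := by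
    apply le_antisymm
    · rintro E ⟨hE, hle⟩
      by_cases hsubC : E ≤ C
      · exact Or.inr (hsub E hE hsubC)
      · obtain ⟨x, hx, hxC⟩ := Set.not_subset.1 hsubC
        rcases hcover x (hle hx) with h | ⟨b, hb, h⟩
        · exact absurd h hxC
        · exact Or.inl ⟨b, hb, (eq_of_mem_of_mem hS (hS.conj_mem A hAS b) (hS.conj_mem D hD b) hE
            (rankOnePair_conj hAD b) h (fun e => hxC (e ▸ C.one_mem)) hx).symm⟩
    · rintro E (⟨b, hb, rfl⟩ | rfl)
      · exact ⟨hS.conj_mem A hAS b, hAb b hb⟩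
      · exact ⟨hC, le_sup_right⟩
  have hpart : Cfsg.IsSubgroupPartition (A ⊔ C) (Cfsg.membersIn S (A ⊔ C)) := by
    refine ⟨fun E hE => hE.2, fun x hx _ => ?_, ?_⟩
    · rcases hcover x hx with h | ⟨b, hb, h⟩
      · exact ⟨C, ⟨hC, le_sup_right⟩, h⟩
      · exact ⟨_, ⟨hS.conj_mem A hAS b, hAb b hb⟩, h⟩
    · intro E hE F hF hne
      rw [Subgroup.eq_bot_iff_forall]
      rintro x ⟨hxE, hxF⟩
      by_contra hx1
      rw [hmem] at hE hF
      rcases hE with ⟨b, hb, rfl⟩ | rfl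
      · have hF' : F ∈ S := by
          rcases hF with ⟨b', -, rfl⟩ | rfl
          exacts [hS.conj_mem A hAS b', hC]
        exact hne (eq_of_mem_of_mem hS (hS.conj_mem A hAS b) (hS.conj_mem D hD b) hF'
          (rankOnePair_conj hAD b) hxE hx1 hxF).symm
      · rcases hF with ⟨b', hb', rfl⟩ | rfl
        · exact hne (eq_of_mem_of_mem hS (hS.conj_mem A hAS b') (hS.conj_mem D hD b') hC
            (rankOnePair_conj hAD b') hxF hx1 hxE)
        · exact hne rfl
  refine ⟨hmem, hpart, ⟨⟨hAS, hAne.symm, bot_of_commute fun x hx y hy => (commute_of_bot hACbot hy hx).symm⟩,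
    by rw [sup_comm]; exact hpart⟩, ?_⟩
  intro a ha ha1
  have hf : ∀ b ∈ B, a⁻¹ * b⁻¹ * a * b ∈ C := fun b hb => by
    simpa [commutatorElement_def] using Subgroup.commutator_mem_commutator (inv_mem ha) (inv_mem hb)
  let f : ↥B →* ↥C :=
    { toFun := fun b => ⟨a⁻¹ * (b : G)⁻¹ * a * b, hf b b.2⟩
      map_one' := Subtype.ext (by simp)
      map_mul' := fun b b' => Subtype.ext (by
        have hc := hcc.2.1 _ (hf b b.2) (b' : G) (Subgroup.mem_sup_right b'.2)
        have hcm := commute_of_mem hS hC (hf b b.2) (hf b' b'.2)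
        simp only [Subgroup.coe_mul]
        calc a⁻¹ * ((b : G) * b')⁻¹ * a * (b * b')
            = (a⁻¹ * (b' : G)⁻¹ * a) * ((a⁻¹ * (b : G)⁻¹ * a * b) * b') := by group
          _ = (a⁻¹ * (b' : G)⁻¹ * a * b') * (a⁻¹ * (b : G)⁻¹ * a * b) := by rw [hc]; group
          _ = _ := hcm.symm) }
  refine ⟨MulEquiv.ofBijective f ⟨?_, ?_⟩, fun b => rfl⟩
  · rw [injective_iff_map_eq_one]
    intro b hb
    have hb' : a⁻¹ * (b : G)⁻¹ * a * b = 1 := congrArg Subtype.val hb
    refine Subtype.ext (eq_one_of_comm_of_commute hS hAS hD hAD hcc ha ha1 b.2 ?_)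
    calc a * (b : G) = (b : G) * a * (a⁻¹ * (b : G)⁻¹ * a * b) := by group
      _ = _ := by rw [hb', mul_one]
  · rintro ⟨c, hc⟩
    obtain ⟨b, hb, e⟩ := exists_commutator_eq hS hcc (inv_mem ha) (by simpa using ha1) hc
    refine ⟨⟨b⁻¹, inv_mem hb⟩, Subtype.ext ?_⟩
    show a⁻¹ * b⁻¹⁻¹ * a * b⁻¹ = c
    rw [← e]; group

end Cfsg.Agent.S5029
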