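import Cfsg.Statements.S5030
import Cfsg.Agent.H87.CommSup
-- import your own Cfsg.Agent.* helpers here

set_option autoImplicit false
open Cfsg

namespace Cfsg.Agent.S5030

open Cfsg.Agent.H87
open scoped commutatorElement

/-- Let S be a set of abstract root subgroups of G and A, B, C ∈ S with ⁅A, B⁆ ∈ S and ⁅B, C⁆ ∈ S, where A and C are different and commute. For a non-identity b ∈ B put X = ⟨A, b⁻¹ C b⟩ and Y = ⟨b⁻¹ A b, C⟩ and R = ⟨A, B, C⟩. Then X and Y are either both abelian or both nilpotent of class exactly two; X and Y commute elementwise; XY is normal in R with R = (XY) B; and R is nilpotent. -/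
theorem result {G : Type*} [Group G] {S : Set (Subgroup G)} (hS : Cfsg.IsRootSubgroupSet S)
    {A B C : Subgroup G} (hA : A ∈ S) (hB : B ∈ S) (hC : C ∈ S) (hAB : ⁅A, B⁆ ∈ S) (hBC : ⁅B, C⁆ ∈ S)
    (hAC : C ∈ Cfsg.commutingPartners S A)
    {b : G} (hb : b ∈ B) (hb1 : b ≠ 1) :
    ((IsMulCommutative ↥(A ⊔ Cfsg.conjBy C b⁻¹) ∧ IsMulCommutative ↥(Cfsg.conjBy A b⁻¹ ⊔ C)) ∨
      ((¬ IsMulCommutative ↥(A ⊔ Cfsg.conjBy C b⁻¹) ∧
          ⁅⁅A ⊔ Cfsg.conjBy C b⁻¹, A ⊔ Cfsg.conjBy C b⁻¹⁆, A ⊔ Cfsg.conjBy C b⁻¹⁆ = ⊥) ∧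
        (¬ IsMulCommutative ↥(Cfsg.conjBy A b⁻¹ ⊔ C) ∧
          ⁅⁅Cfsg.conjBy A b⁻¹ ⊔ C, Cfsg.conjBy A b⁻¹ ⊔ C⁆, Cfsg.conjBy A b⁻¹ ⊔ C⁆ = ⊥))) ∧
    ⁅A ⊔ Cfsg.conjBy C b⁻¹, Cfsg.conjBy A b⁻¹ ⊔ C⁆ = ⊥ ∧
    (∀ r ∈ A ⊔ B ⊔ C, Cfsg.conjBy ((A ⊔ Cfsg.conjBy C b⁻¹) ⊔ (Cfsg.conjBy A b⁻¹ ⊔ C)) r =
      (A ⊔ Cfsg.conjBy C b⁻¹) ⊔ (Cfsg.conjBy A b⁻¹ ⊔ C)) ∧
    ((A ⊔ Cfsg.conjBy C b⁻¹) ⊔ (Cfsg.conjBy A b⁻¹ ⊔ C)) ⊔ B = A ⊔ B ⊔ C ∧
    Group.IsNilpotent ↥(A ⊔ B ⊔ C) := by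
  have h1 : Cfsg.RootCommutatorCase S A B := comm_case_of_mem hS hA hB hAB
  have h2 : Cfsg.RootCommutatorCase S B C := comm_case_of_mem hS hB hC hBC
  set L := ⁅A, B⁆ with hL
  set M := ⁅B, C⁆ with hM
  have hACbot : ⁅A, C⁆ = ⊥ := hAC.2.2
  have hself : ∀ {U : Subgroup G}, U ∈ S → ⁅U, U⁆ = ⊥ := fun hU =>
    bot_of_commute fun x hx y hy => commute_of_mem hS hU hx hy
  have hAL : ⁅A, L⁆ = ⊥ := bot_of_commute (commute_left_comm h1)
  have hBL : ⁅B, L⁆ = ⊥ := bot_of_commute (commute_right_comm h1)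
  have hBM : ⁅B, M⁆ = ⊥ := bot_of_commute (commute_left_comm h2)
  have hCM : ⁅C, M⁆ = ⊥ := bot_of_commute (commute_right_comm h2)
  have hAB' : ∀ a ∈ A, ∀ z ∈ B, z * a * z⁻¹ * a⁻¹ ∈ L := fun a ha z hz => by
    rw [hL, Subgroup.commutator_comm]; exact Subgroup.commutator_mem_commutator hz ha
  have hCB' : ∀ c ∈ C, ∀ z ∈ B, z * c * z⁻¹ * c⁻¹ ∈ M := fun c hc z hz =>
    Subgroup.commutator_mem_commutator hz hc
  -- conjugates under `B`
  have hAz : ∀ z ∈ B, Cfsg.conjBy A z ≤ A ⊔ L := by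
    intro z hz x hx
    rw [mem_conjBy] at hx
    have := mul_mem (Subgroup.mem_sup_right (S := A) (hAB' _ hx z hz)) (Subgroup.mem_sup_left hx)
    simpa [mul_assoc] using this
  have hCz : ∀ z ∈ B, Cfsg.conjBy C z ≤ C ⊔ M := by
    intro z hz x hx
    rw [mem_conjBy] at hx
    have := mul_mem (Subgroup.mem_sup_right (S := C) (hCB' _ hx z hz)) (Subgroup.mem_sup_left hx)
    simpa [mul_assoc] using this
  have hAAz : ∀ z ∈ B, ⁅A, Cfsg.conjBy A z⁆ = ⊥ := fun z hz =>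
    le_bot_iff.1 ((Subgroup.commutator_mono le_rfl (hAz z hz)).trans
      (bot_symm (commutator_sup_eq_bot (hself hA) (bot_symm hAL))).le)
  have hCCz : ∀ z ∈ B, ⁅C, Cfsg.conjBy C z⁆ = ⊥ := fun z hz =>
    le_bot_iff.1 ((Subgroup.commutator_mono le_rfl (hCz z hz)).trans
      (bot_symm (commutator_sup_eq_bot (hself hC) (bot_symm hCM))).le)
  have hzLM : ∀ z ∈ B, ⁅A, Cfsg.conjBy C z⁆ = ⊥ → z ≠ 1 → ⁅A, M⁆ = ⊥ := by
    intro z hz h hz1
    refine Subgroup.commutator_eq_bot_iff_le_centralizer.2 ?_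
    rw [Subgroup.le_centralizer_iff, hM, ← h2.2.2.1 z hz hz1, Subgroup.closure_le]
    rintro _ ⟨c, hc, rfl⟩
    refine Subgroup.mem_centralizer_iff.2 fun a ha => ?_
    have e1 : Commute a (z * c * z⁻¹) := commute_of_bot h ha (conj_mem_conjBy z hc)
    have e2 : Commute a c := commute_of_bot hACbot ha hc
    exact (e1.mul_right e2.inv_right).eq
  have hzLM' : ∀ z ∈ B, ⁅A, M⁆ = ⊥ → ⁅A, Cfsg.conjBy C z⁆ = ⊥ := fun z hz h =>
    le_bot_iff.1 ((Subgroup.commutator_mono le_rfl (hCz z hz)).trans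
      (bot_symm (commutator_sup_eq_bot (bot_symm hACbot) (bot_symm h))).le)
  -- `A` against a conjugate of `C`
  have hnr : ∀ z ∈ B, z ≠ 1 → ¬ Cfsg.IsRankOnePair A (Cfsg.conjBy C z) := by
    intro z hz hz1 hp
    obtain ⟨a, ha, ha1⟩ := A.bot_or_exists_ne_one.resolve_left (left_ne_bot hp)
    have hw : z * a * z⁻¹ ∈ Subgroup.centralizer ((A ⊔ Cfsg.conjBy C z : Subgroup G) : Set G) :=
      le_centralizer_of_bot (bot_symm (commutator_sup_eq_bot (hAAz z hz)
        (commutator_bot_conj (bot_symm hACbot) z))) (conj_mem_conjBy z ha)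
    refine comm_left_ne hS hA h1 ?_
    exact (eq_of_mul_mem hS hA (hS.conj_mem C hC z) hAB hp hw (inv_mem ha) (by simpa using ha1)
      (hAB' a ha z hz)).1
  set E := Cfsg.conjBy C b⁻¹ with hE
  set A' := Cfsg.conjBy A b⁻¹ with hA'
  have hbi : b⁻¹ ∈ B := inv_mem hb
  have hbi1 : b⁻¹ ≠ 1 := by simpa using hb1
  have hEb : Cfsg.conjBy E b = C := conjBy_conjBy_inv C b
  have hA'b : Cfsg.conjBy A' b = A := conjBy_conjBy_inv A b
  have hXY : ⁅A ⊔ E, A' ⊔ C⁆ = ⊥ := by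
    refine commutator_sup_eq_bot (bot_symm (commutator_sup_eq_bot ?_ ?_)) (bot_symm (commutator_sup_eq_bot ?_ ?_))
    · exact bot_symm (hAAz _ hbi)
    · exact bot_symm hACbot
    · exact commutator_bot_conj hACbot _
    · exact hCCz _ hbi
  have hYconj : ⁅A', C⁆ = Cfsg.conjBy ⁅A, Cfsg.conjBy C b⁆ b⁻¹ := by
    rw [conjBy_commutator, conjBy_inv_conjBy]
  -- class two
  have hclass : ∀ {U V : Subgroup G}, ⁅U, U⁆ = ⊥ → ⁅V, V⁆ = ⊥ → ⁅⁅U, V⁆, U ⊔ V⁆ = ⊥ →
      ⁅U ⊔ V, U ⊔ V⁆ ≤ ⁅U, V⁆ := by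
    intro U V hU hV hc
    have hn : U ⊔ V ≤ Subgroup.normalizer ((⁅U, V⁆ : Subgroup G) : Set G) := le_normalizer_of_bot (bot_symm hc)
    have nU := le_sup_left.trans hn
    have nV := le_sup_right.trans hn
    refine commutator_sup_le nU nV (commutator_le_sup_right nU nV (hU.le.trans bot_le) le_rfl)
      (commutator_le_sup_right nU nV ?_ (hV.le.trans bot_le))
    rw [Subgroup.commutator_comm]
  have hcomm : ∀ {U V : Subgroup G}, ⁅U, U⁆ = ⊥ → ⁅V, V⁆ = ⊥ → ⁅U, V⁆ = ⊥ → IsMulCommutative ↥(U ⊔ V) := by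
    intro U V hU hV hUV
    refine ⟨⟨fun x y => Subtype.ext ?_⟩⟩
    exact commute_of_bot (commutator_sup_eq_bot (bot_symm (commutator_sup_eq_bot hU (bot_symm hUV)))
      (bot_symm (commutator_sup_eq_bot hUV hV))) x.2 y.2
  have hA'S := hS.conj_mem A hA b⁻¹
  have hES := hS.conj_mem C hC b⁻¹
  have hcase : ∀ z ∈ B, z ≠ 1 → ⁅A, M⁆ ≠ ⊥ → Cfsg.RootCommutatorCase S A (Cfsg.conjBy C z) := by
    intro z hz hz1 hne
    rcases hS.pair A hA _ (hS.conj_mem C hC z) with h | h | h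
    · exact absurd (hzLM z hz h hz1) hne
    · exact absurd h (hnr z hz hz1)
    · exact h
  have hXYclass : ⁅⁅A, E⁆, A ⊔ E⁆ = ⊥ ∧ ⁅⁅A', C⁆, A' ⊔ C⁆ = ⊥ := by
    by_cases hAM : ⁅A, M⁆ = ⊥
    · refine ⟨by rw [hzLM' _ hbi hAM, Subgroup.commutator_bot_left], ?_⟩
      rw [hYconj, hzLM' b hb hAM, show Cfsg.conjBy (⊥ : Subgroup G) b⁻¹ = ⊥ from Subgroup.map_bot _, Subgroup.commutator_bot_left]
    · refine ⟨bot_of_commute (hcase _ hbi hbi1 hAM).2.1, ?_⟩
      have := commutator_bot_conj (bot_of_commute (hcase b hb hb1 hAM).2.1) b⁻¹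
      rwa [conjBy_commutator, conjBy_sup, conjBy_inv_conjBy] at this
  have hX' := hclass (hself hA) (hself hES) hXYclass.1
  have hY' := hclass (hself hA'S) (hself hC) hXYclass.2
  have hdich : (IsMulCommutative ↥(A ⊔ E) ∧ IsMulCommutative ↥(A' ⊔ C)) ∨
      ((¬ IsMulCommutative ↥(A ⊔ E) ∧ ⁅⁅A ⊔ E, A ⊔ E⁆, A ⊔ E⁆ = ⊥) ∧
        (¬ IsMulCommutative ↥(A' ⊔ C) ∧ ⁅⁅A' ⊔ C, A' ⊔ C⁆, A' ⊔ C⁆ = ⊥)) := by
    by_cases hAM : ⁅A, M⁆ = ⊥
    · refine Or.inl ⟨hcomm (hself hA) (hself hES) (hzLM' _ hbi hAM), hcomm (hself hA'S) (hself hC) ?_⟩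
      rw [hYconj, hzLM' b hb hAM]; exact Subgroup.map_bot _
    · refine Or.inr ⟨⟨fun h => ?_, le_bot_iff.1 ((Subgroup.commutator_mono hX' le_rfl).trans hXYclass.1.le)⟩,
        ⟨fun h => ?_, le_bot_iff.1 ((Subgroup.commutator_mono hY' le_rfl).trans hXYclass.2.le)⟩⟩
      · refine not_commute_of_comm hS (hcase _ hbi hbi1 hAM) (bot_of_commute fun x hx y hy => ?_)
        exact congrArg Subtype.val (h.is_comm.comm (⟨x, Subgroup.mem_sup_left hx⟩ : ↥(A ⊔ E))
          ⟨y, Subgroup.mem_sup_right hy⟩)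
      · have hne : ⁅A', C⁆ ≠ ⊥ := by
          rw [hYconj]
          exact hS.ne_bot _ (hS.conj_mem _ (hcase b hb hb1 hAM).1 b⁻¹)
        refine hne (bot_of_commute fun x hx y hy => ?_)
        exact congrArg Subtype.val (h.is_comm.comm (⟨x, Subgroup.mem_sup_left hx⟩ : ↥(A' ⊔ C))
          ⟨y, Subgroup.mem_sup_right hy⟩)
  -- the normal subgroup
  set P := (A ⊔ L) ⊔ (C ⊔ M) with hP
  have hPeq : (A ⊔ E) ⊔ (A' ⊔ C) = P := by
    refine le_antisymm (sup_le (sup_le (le_sup_left.trans le_sup_left) ((hCz _ hbi).trans le_sup_right))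
      (sup_le ((hAz _ hbi).trans le_sup_left) (le_sup_left.trans le_sup_right))) ?_
    refine sup_le (sup_le (le_sup_left.trans le_sup_left) ?_) (sup_le (le_sup_right.trans le_sup_right) ?_)
    · rw [hL, ← h1.2.2.2 b⁻¹ hbi hbi1, Subgroup.closure_le]
      rintro _ ⟨a, ha, rfl⟩
      show a * b⁻¹ * a⁻¹ * b⁻¹⁻¹ ∈ (A ⊔ E) ⊔ (A' ⊔ C)
      have := mul_mem (Subgroup.mem_sup_left (T := A' ⊔ C) (Subgroup.mem_sup_left (T := E) ha))
        (Subgroup.mem_sup_right (S := A ⊔ E) (Subgroup.mem_sup_left (T := C) (conj_mem_conjBy b⁻¹ (inv_mem ha) : _ ∈ A')))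
      simpa [mul_assoc] using this
    · rw [hM, ← h2.2.2.1 b⁻¹ hbi hbi1, Subgroup.closure_le]
      rintro _ ⟨c, hc, rfl⟩
      show b⁻¹ * c * b⁻¹⁻¹ * c⁻¹ ∈ (A ⊔ E) ⊔ (A' ⊔ C)
      exact mul_mem (Subgroup.mem_sup_left (T := A' ⊔ C) (Subgroup.mem_sup_right (S := A) (conj_mem_conjBy b⁻¹ hc : _ ∈ E)))
        (Subgroup.mem_sup_right (S := A ⊔ E) (Subgroup.mem_sup_right (inv_mem hc)))
  have hLP : L ≤ P := le_sup_right.trans le_sup_left
  have hMP : M ≤ P := le_sup_right.trans le_sup_right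
  have hAP : A ≤ P := le_sup_left.trans le_sup_left
  have hCP : C ≤ P := le_sup_left.trans le_sup_right
  have hBfixP : ∀ z ∈ B, Cfsg.conjBy P z ≤ P := by
    intro z hz
    rw [hP, conjBy_sup, conjBy_sup, conjBy_sup, conjBy_eq_of_commute fun x hx => commute_of_bot hBL hz hx,
      conjBy_eq_of_commute fun x hx => commute_of_bot hBM hz hx]
    exact sup_le (sup_le ((hAz z hz).trans le_sup_left) hLP) (sup_le ((hCz z hz).trans le_sup_right) hMP)
  have hBP : B ≤ Subgroup.normalizer (P : Set G) := by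
    intro z hz
    rw [Subgroup.mem_normalizer_iff]
    intro x
    refine ⟨fun hx => hBfixP z hz (conj_mem_conjBy z hx), fun hx => ?_⟩
    simpa [mul_assoc] using hBfixP z⁻¹ (inv_mem hz) (conj_mem_conjBy z⁻¹ hx)
  set R := A ⊔ B ⊔ C with hR
  have hAR : A ≤ R := le_sup_left.trans le_sup_left
  have hBR : B ≤ R := le_sup_right.trans le_sup_left
  have hCR : C ≤ R := le_sup_right
  have hmixR : ∀ {U V : Subgroup G}, U ≤ R → V ≤ R → ⁅U, V⁆ ≤ R := fun hU hV =>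
    Subgroup.commutator_le.2 fun x hx y hy =>
      mul_mem (mul_mem (mul_mem (hU hx) (hV hy)) (inv_mem (hU hx))) (inv_mem (hV hy))
  have hRPB : P ⊔ B = R :=
    le_antisymm (sup_le (sup_le (sup_le hAR (hmixR hAR hBR)) (sup_le hCR (hmixR hBR hCR))) hBR)
      (sup_le (sup_le (hAP.trans le_sup_left) le_sup_right) (hCP.trans le_sup_left))
  have hRP : R ≤ Subgroup.normalizer (P : Set G) := hRPB ▸ sup_le Subgroup.le_normalizer hBP
  -- the series
  have hbp : ∀ {U : Subgroup G}, ⁅U, P⁆ = ⊥ → ⁅U, B⁆ = ⊥ → ⁅U, R⁆ = ⊥ := fun hu hv => by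
    rw [← hRPB]
    exact bot_symm (commutator_sup_eq_bot (bot_symm hu) (bot_symm hv))
  set Z := ⁅P, P⁆ with hZ
  have hZP : ⁅Z, P⁆ = ⊥ := by
    have hcX : ⁅⁅A, E⁆, P⁆ = ⊥ := by
      rw [← hPeq]
      refine bot_symm (commutator_sup_eq_bot (bot_symm hXYclass.1) (bot_symm ?_))
      refine le_bot_iff.1 ((Subgroup.commutator_mono ?_ le_rfl).trans hXY.le)
      exact Subgroup.commutator_le.2 fun x hx y hy => mul_mem (mul_mem (mul_mem (Subgroup.mem_sup_left hx)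
        (Subgroup.mem_sup_right hy)) (inv_mem (Subgroup.mem_sup_left hx))) (inv_mem (Subgroup.mem_sup_right hy))
    have hcY : ⁅⁅A', C⁆, P⁆ = ⊥ := by
      rw [← hPeq]
      refine bot_symm (commutator_sup_eq_bot (bot_symm ?_) (bot_symm hXYclass.2))
      refine le_bot_iff.1 ((Subgroup.commutator_mono ?_ le_rfl).trans (bot_symm hXY).le)
      exact Subgroup.commutator_le.2 fun x hx y hy => mul_mem (mul_mem (mul_mem (Subgroup.mem_sup_left hx)
        (Subgroup.mem_sup_right hy)) (inv_mem (Subgroup.mem_sup_left hx))) (inv_mem (Subgroup.mem_sup_right hy))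
    have hK := commutator_sup_eq_bot hcX hcY
    have hn : P ≤ Subgroup.normalizer ((⁅A, E⁆ ⊔ ⁅A', C⁆ : Subgroup G) : Set G) := le_normalizer_of_bot (bot_symm hK)
    refine le_bot_iff.1 ((Subgroup.commutator_mono ?_ le_rfl).trans hK.le)
    rw [← hPeq] at hn
    have nX := le_sup_left.trans hn
    have nY := le_sup_right.trans hn
    rw [hZ, ← hPeq]
    refine commutator_sup_le nX nY (commutator_le_sup_right nX nY (hX'.trans le_sup_left) (hXY.le.trans bot_le))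
      (commutator_le_sup_right nX nY ((bot_symm hXY).le.trans bot_le) (hY'.trans le_sup_right))
  have hZle : Z ≤ P := Subgroup.commutator_le.2 fun x hx y hy =>
    mul_mem (mul_mem (mul_mem hx hy) (inv_mem hx)) (inv_mem hy)
  have hfix : ∀ {U : Subgroup G}, ⁅B, U⁆ = ⊥ → ∀ z ∈ B, Cfsg.conjBy U z = U := fun h z hz =>
    conjBy_eq_of_commute fun x hx => commute_of_bot h hz hx
  have hnormP : ∀ z ∈ B, Cfsg.conjBy P z = P := fun z hz => conjBy_eq_self_iff.2 (hBP hz)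
  have hBZ : B ≤ Subgroup.normalizer (Z : Set G) := fun z hz => conjBy_eq_self_iff.1 (by
    rw [hZ, conjBy_commutator, hnormP z hz])
  have hPZ : P ≤ Subgroup.normalizer (Z : Set G) := le_normalizer_of_bot (bot_symm hZP)
  set Q := L ⊔ M ⊔ Z with hQ
  have hZQ : Z ≤ Q := le_sup_right
  have hQP : Q ≤ P := sup_le (sup_le hLP hMP) hZle
  have hBQ : B ≤ Subgroup.normalizer (Q : Set G) := fun z hz => conjBy_eq_self_iff.1 (by
    rw [hQ, conjBy_sup, conjBy_sup, hfix hBL z hz, hfix hBM z hz, conjBy_eq_self_iff.2 (hBZ hz)])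
  have hPQ : P ≤ Subgroup.normalizer (Q : Set G) := by
    intro p hp
    rw [Subgroup.mem_normalizer_iff]
    have key : ∀ q ∈ P, ∀ x ∈ Q, q * x * q⁻¹ ∈ Q := fun q hq x hx => by
      have := mul_mem (hZQ (Subgroup.commutator_mem_commutator hq (hQP hx) : q * x * q⁻¹ * x⁻¹ ∈ Z)) hx
      simpa [commutatorElement_def, mul_assoc] using this
    exact fun x => ⟨key p hp x, fun hx => by simpa [mul_assoc] using key p⁻¹ (inv_mem hp) _ hx⟩
  set J := ⁅L, M⁆ with hJ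
  have hJZ : J ≤ Z := Subgroup.commutator_mono hLP hMP
  have hJP : ⁅J, P⁆ = ⊥ := le_bot_iff.1 ((Subgroup.commutator_mono hJZ le_rfl).trans hZP.le)
  have hJB : ⁅J, B⁆ = ⊥ := Subgroup.commutator_commutator_eq_bot_of_rotate
    (by rw [bot_symm hBM, Subgroup.commutator_bot_left]) (by rw [hBL, Subgroup.commutator_bot_left])
  have hPJ : P ≤ Subgroup.normalizer (J : Set G) := le_normalizer_of_bot (bot_symm hJP)
  have hBJ : B ≤ Subgroup.normalizer (J : Set G) := le_normalizer_of_bot (bot_symm hJB)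
  have hRJ : R ≤ Subgroup.normalizer (J : Set G) := hRPB ▸ sup_le hPJ hBJ
  have step1 : ⁅R, R⁆ ≤ P := by
    nth_rewrite 1 [← hRPB]
    refine commutator_sup_le Subgroup.le_normalizer hBP (Subgroup.le_normalizer_iff_commutator_le_left.1 hRP) ?_
    rw [← hRPB]
    refine commutator_le_sup_right Subgroup.le_normalizer hBP ?_ ((hself hB).le.trans bot_le)
    rw [Subgroup.commutator_comm]
    exact Subgroup.le_normalizer_iff_commutator_le_left.1 hBP
  have step2 : ⁅P, R⁆ ≤ Q := by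
    rw [← hRPB]
    refine commutator_le_sup_right hPQ hBQ hZQ ?_
    have nA := hAP.trans hPQ
    have nL := hLP.trans hPQ
    have nC := hCP.trans hPQ
    have nM := hMP.trans hPQ
    refine commutator_sup_le (sup_le nA nL) (sup_le nC nM)
      (commutator_sup_le nA nL (le_sup_left.trans le_sup_left) ((bot_symm hBL).le.trans bot_le))
      (commutator_sup_le nC nM ?_ ((bot_symm hBM).le.trans bot_le))
    rw [Subgroup.commutator_comm]
    exact le_sup_right.trans le_sup_left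
  have step3 : ⁅Q, R⁆ ≤ Z := by
    rw [← hRPB]
    refine commutator_le_sup_right hPZ hBZ (Subgroup.commutator_mono hQP le_rfl) ?_
    have nL := hLP.trans hPZ
    have nM := hMP.trans hPZ
    exact commutator_sup_le (sup_le nL nM) (hZle.trans hPZ)
      (commutator_sup_le nL nM ((bot_symm hBL).le.trans bot_le) ((bot_symm hBM).le.trans bot_le))
      (Subgroup.le_normalizer_iff_commutator_le_left.1 hBZ)
  have step4 : ⁅Z, R⁆ ≤ J := by
    set K0 := ⁅A, M⁆ ⊔ ⁅L, C⁆ ⊔ J with hK0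
    have hK0Z : K0 ≤ Z :=
      sup_le (sup_le (Subgroup.commutator_mono hAP hMP) (Subgroup.commutator_mono hLP hCP)) hJZ
    have hPK0 : P ≤ Subgroup.normalizer (K0 : Set G) :=
      le_normalizer_of_bot (bot_symm (le_bot_iff.1 ((Subgroup.commutator_mono hK0Z le_rfl).trans hZP.le)))
    have hZK0 : Z ≤ K0 := by
      have nA := hAP.trans hPK0
      have nL := hLP.trans hPK0
      have nC := hCP.trans hPK0
      have nM := hMP.trans hPK0
      have b0 : ∀ {U V : Subgroup G}, ⁅U, V⁆ = ⊥ → ⁅U, V⁆ ≤ K0 := fun h => h.le.trans bot_le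
      have gAM : ⁅A, M⁆ ≤ K0 := le_sup_left.trans le_sup_left
      have gLC : ⁅L, C⁆ ≤ K0 := le_sup_right.trans le_sup_left
      have gLM : J ≤ K0 := le_sup_right
      have row : ∀ {U : Subgroup G}, ⁅U, A⁆ ≤ K0 → ⁅U, L⁆ ≤ K0 → ⁅U, C⁆ ≤ K0 → ⁅U, M⁆ ≤ K0 → ⁅U, P⁆ ≤ K0 :=
        fun ha hl hc hm => commutator_le_sup_right (sup_le nA nL) (sup_le nC nM)
          (commutator_le_sup_right nA nL ha hl) (commutator_le_sup_right nC nM hc hm)
      exact commutator_sup_le (sup_le nA nL) (sup_le nC nM)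
        (commutator_sup_le nA nL (row (b0 (hself hA)) (b0 hAL) (b0 hACbot) gAM)
          (row (b0 (bot_symm hAL)) (b0 (hself hAB)) gLC gLM))
        (commutator_sup_le nC nM
          (row (b0 (bot_symm hACbot)) (by rwa [Subgroup.commutator_comm]) (b0 (hself hC)) (b0 hCM))
          (row (by rwa [Subgroup.commutator_comm]) (by rwa [Subgroup.commutator_comm]) (b0 (bot_symm hCM))
            (b0 (hself hBC))))
    have hgenJ : ∀ z ∈ B, ∀ u v, u ∈ P → v ∈ P → ⁅z * u * z⁻¹, z * v * z⁻¹⁆ * ⁅u, v⁆⁻¹ ∈ J →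
        ⁅⁅u, v⁆, z⁆ ∈ J := by
      intro z hz u v hu hv h
      have e : ⁅⁅u, v⁆, z⁆ = (⁅z * u * z⁻¹, z * v * z⁻¹⁆ * ⁅u, v⁆⁻¹)⁻¹ := by
        simp only [commutatorElement_def]; group
      rw [e]; exact inv_mem h
    have hcen : ∀ u ∈ Z, ∀ p ∈ P, Commute u p := fun u hu p hp => commute_of_bot hZP hu hp
    have hAMJ : ⁅⁅A, M⁆, B⁆ ≤ J := by
      rw [Subgroup.commutator_le]
      intro x hx z hz
      induction hx using Subgroup.closure_induction'' with
      | one => simp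
      | mem y hy =>
        obtain ⟨a, ha, m, hm, rfl⟩ := hy
        refine hgenJ z hz a m (hAP ha) (hMP hm) ?_
        set l := z * a * z⁻¹ * a⁻¹ with hl
        have hlL : l ∈ L := hAB' a ha z hz
        rw [show z * m * z⁻¹ = m by rw [show z * m = m * z from commute_of_bot hBM hz hm, mul_inv_cancel_right],
          show z * a * z⁻¹ = l * a by rw [hl]; group]
        have e : ⁅l * a, m⁆ * ⁅a, m⁆⁻¹ = (l * ⁅a, m⁆ * l⁻¹) * (⁅l, m⁆ * ⁅a, m⁆⁻¹) := by
          simp only [commutatorElement_def]; group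
        rw [e, show l * ⁅a, m⁆ = ⁅a, m⁆ * l from
          (hcen _ (Subgroup.commutator_mem_commutator (hAP ha) (hMP hm)) l (hLP hlL)).eq.symm,
          mul_inv_cancel_right]
        exact conj_mem_of_normalizer (hPJ (hZle (Subgroup.commutator_mem_commutator (hAP ha) (hMP hm))))
          (Subgroup.commutator_mem_commutator hlL hm) |> fun h => by simpa [mul_assoc] using h
      | inv_mem y hy =>
        obtain ⟨a, ha, m, hm, rfl⟩ := hy
        rw [show ⁅⁅a, m⁆⁻¹, z⁆ = ⁅a, m⁆⁻¹ * ⁅⁅a, m⁆, z⁆⁻¹ * ⁅a, m⁆ by simp only [commutatorElement_def]; group]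
        have hb' : ⁅a, m⁆ ∈ P := hZle (Subgroup.commutator_mem_commutator (hAP ha) (hMP hm))
        have hj : ⁅⁅a, m⁆, z⁆ ∈ J := by
          refine hgenJ z hz a m (hAP ha) (hMP hm) ?_
          set l := z * a * z⁻¹ * a⁻¹ with hl
          have hlL : l ∈ L := hAB' a ha z hz
          rw [show z * m * z⁻¹ = m by rw [show z * m = m * z from commute_of_bot hBM hz hm, mul_inv_cancel_right],
            show z * a * z⁻¹ = l * a by rw [hl]; group]
          have e : ⁅l * a, m⁆ * ⁅a, m⁆⁻¹ = (l * ⁅a, m⁆ * l⁻¹) * (⁅l, m⁆ * ⁅a, m⁆⁻¹) := by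
            simp only [commutatorElement_def]; group
          rw [e, show l * ⁅a, m⁆ = ⁅a, m⁆ * l from
            (hcen _ (Subgroup.commutator_mem_commutator (hAP ha) (hMP hm)) l (hLP hlL)).eq.symm,
            mul_inv_cancel_right]
          exact conj_mem_of_normalizer (hPJ hb') (Subgroup.commutator_mem_commutator hlL hm) |> fun h => by
            simpa [mul_assoc] using h
        simpa using conj_mem_of_normalizer (hPJ (inv_mem hb')) (inv_mem hj)
      | mul y w hy' hw' hy hw =>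
        rw [show ⁅y * w, z⁆ = (y * ⁅w, z⁆ * y⁻¹) * ⁅y, z⁆ by simp only [commutatorElement_def]; group]
        have hyP : y ∈ P :=
          hZle (Subgroup.commutator_mono hAP hMP (show y ∈ ⁅A, M⁆ from hy'))
        exact mul_mem (conj_mem_of_normalizer (hPJ hyP) hw) hy
    have hLCJ : ⁅⁅L, C⁆, B⁆ ≤ J := by
      have nLC : ⁅L, C⁆ ≤ P := (Subgroup.commutator_mono hLP hCP).trans hZle
      rw [Subgroup.commutator_le]
      intro x hx z hz
      have hgen : ∀ l ∈ L, ∀ c ∈ C, ⁅⁅l, c⁆, z⁆ ∈ J := by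
        intro l hl c hc
        refine hgenJ z hz l c (hLP hl) (hCP hc) ?_
        set m := z * c * z⁻¹ * c⁻¹ with hmdef
        have hmM : m ∈ M := hCB' c hc z hz
        rw [show z * l * z⁻¹ = l by rw [show z * l = l * z from commute_of_bot hBL hz hl, mul_inv_cancel_right],
          show z * c * z⁻¹ = m * c by rw [hmdef]; group,
          show ⁅l, m * c⁆ * ⁅l, c⁆⁻¹ = ⁅l, m⁆ * (m * ⁅l, c⁆ * m⁻¹) * ⁅l, c⁆⁻¹ by
            simp only [commutatorElement_def]; group,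
          show m * ⁅l, c⁆ = ⁅l, c⁆ * m from
            (hcen _ (Subgroup.commutator_mem_commutator (hLP hl) (hCP hc)) m (hMP hmM)).eq.symm,
          mul_inv_cancel_right, mul_inv_cancel_right]
        exact Subgroup.commutator_mem_commutator hl hmM
      induction hx using Subgroup.closure_induction'' with
      | one => simp
      | mem y hy =>
        obtain ⟨l, hl, c, hc, rfl⟩ := hy
        exact hgen l hl c hc
      | inv_mem y hy =>
        obtain ⟨l, hl, c, hc, rfl⟩ := hy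
        rw [show ⁅⁅l, c⁆⁻¹, z⁆ = ⁅l, c⁆⁻¹ * ⁅⁅l, c⁆, z⁆⁻¹ * ⁅l, c⁆ by simp only [commutatorElement_def]; group]
        simpa using conj_mem_of_normalizer
          (hPJ (inv_mem (nLC (Subgroup.commutator_mem_commutator hl hc)))) (inv_mem (hgen l hl c hc))
      | mul y w hy' hw' hy hw =>
        rw [show ⁅y * w, z⁆ = (y * ⁅w, z⁆ * y⁻¹) * ⁅y, z⁆ by simp only [commutatorElement_def]; group]
        exact mul_mem (conj_mem_of_normalizer (hPJ (nLC hy')) hw) hy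
    rw [← hRPB]
    refine commutator_le_sup_right hPJ hBJ (hZP.le.trans bot_le) ?_
    have nJ : ∀ {U : Subgroup G}, U ≤ K0 → U ≤ Subgroup.normalizer (J : Set G) :=
      fun h => (h.trans hK0Z).trans (hZle.trans hPJ)
    exact (Subgroup.commutator_mono hZK0 le_rfl).trans
      (commutator_sup_le (nJ le_sup_left) (nJ le_sup_right)
        (commutator_sup_le (nJ (le_sup_left.trans le_sup_left)) (nJ (le_sup_right.trans le_sup_left)) hAMJ hLCJ)
        (hJB.le.trans bot_le))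
  refine ⟨hdich, hXY, fun r hr => conjBy_eq_self_iff.2 (by rw [hPeq]; exact hRP hr), by rw [hPeq, hRPB], ?_⟩
  refine (Subgroup.isNilpotent_iff_lowerCentralSeries R).2 ⟨5, le_bot_iff.1 ?_⟩
  simp only [Subgroup.lowerCentralSeries_succ, Subgroup.lowerCentralSeries_zero]
  refine (Subgroup.commutator_mono ?_ le_rfl).trans (hbp hJP hJB).le
  exact (Subgroup.commutator_mono ((Subgroup.commutator_mono ((Subgroup.commutator_mono step1 le_rfl).trans step2)
    le_rfl).trans step3) le_rfl).trans step4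

end Cfsg.Agent.S5030
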