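import Cfsg.Statements.S5031
import Cfsg.Agent.H87.RootPairs
-- import your own Cfsg.Agent.* helpers here

set_option autoImplicit false
open Cfsg

namespace Cfsg.Agent.S5031

open Cfsg.Agent.H87

/-- Let S be a set of abstract root subgroups of G and let A, B ∈ S lie in different connected components of the graph of rank one pairs on S, each component having more than one member. Then B is not a line partner of A. -/
theorem result {G : Type*} [Group G] {S : Set (Subgroup G)} (hS : Cfsg.IsRootSubgroupSet S)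
    {A B : Subgroup G} (hA : A ∈ S) (hB : B ∈ S)
    (hne : Cfsg.componentOf (Cfsg.FAdj S) S A ≠ Cfsg.componentOf (Cfsg.FAdj S) S B)
    (hA2 : ∃ A' ∈ Cfsg.componentOf (Cfsg.FAdj S) S A, A' ≠ A) (hB2 : ∃ B' ∈ Cfsg.componentOf (Cfsg.FAdj S) S B, B' ≠ B) :
    B ∉ Cfsg.linePartners S A := by
  obtain ⟨A', ⟨-, hrA⟩, hA'⟩ := hA2
  obtain ⟨B', ⟨-, hrB⟩, hB'⟩ := hB2
  rintro ⟨⟨-, hBA, hbot⟩, hpart⟩
  have hfirst : ∀ {X Y : Subgroup G}, Relation.ReflTransGen (Cfsg.FAdj S) X Y → Y ≠ X →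
      ∃ P, Cfsg.FAdj S X P := fun h hne => by
    rcases h.cases_head with rfl | ⟨c, h1, -⟩
    · exact absurd rfl hne
    · exact ⟨c, h1⟩
  obtain ⟨D, hAD⟩ := hfirst hrA hA'
  obtain ⟨D', hBD⟩ := hfirst hrB hB'
  apply hne
  suffices h : Relation.ReflTransGen (Cfsg.FAdj S) A B by
    ext X
    exact ⟨fun hX => ⟨hX.1, (reach_symm h).trans hX.2⟩, fun hX => ⟨hX.1, h.trans hX.2⟩⟩
  by_cases h1 : Cfsg.IsRankOnePair B D
  · exact (Relation.ReflTransGen.single hAD).tail ⟨hAD.2.1, hB, rankOne_symm h1⟩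
  by_cases h2 : Cfsg.IsRankOnePair A D'
  · exact (Relation.ReflTransGen.single ⟨hA, hBD.2.1, h2⟩).tail (FAdj_symm hBD)
  obtain ⟨a, ha, ha1⟩ := A.bot_or_exists_ne_one.resolve_left (hS.ne_bot A hA)
  obtain ⟨b, hb, hb1⟩ := B.bot_or_exists_ne_one.resolve_left (hS.ne_bot B hB)
  have hab1 : a * b ≠ 1 := by
    intro e
    apply hBA
    exact eq_of_mem_of_mem hS hA hAD.2.1 hB hAD.2.2 ha ha1 (eq_inv_of_mul_eq_one_left e ▸ inv_mem hb)
  obtain ⟨E, ⟨hE, -⟩, hmem⟩ :=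
    hpart.2.1 (a * b) (mul_mem (Subgroup.mem_sup_left ha) (Subgroup.mem_sup_right hb)) hab1
  have r1 := rankOne_third hS hA hB hAD.2.1 hE hAD.2.2 hbot h1 ha ha1 hb hmem
  have r2 := rankOne_third hS hB hA hBD.2.1 hE hBD.2.2 (Subgroup.commutator_comm A B ▸ hbot) h2 hb hb1 ha
    (commute_of_bot hbot ha hb ▸ hmem)
  exact (((Relation.ReflTransGen.single hAD).tail ⟨hAD.2.1, hE, rankOne_symm r1⟩).tail
    ⟨hE, hBD.2.1, r2⟩).tail (FAdj_symm hBD)

end Cfsg.Agent.S5031
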