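import Cfsg.Statements.S5032
import Cfsg.Agent.H87.RootPairs
-- import your own Cfsg.Agent.* helpers here

set_option autoImplicit false
open Cfsg

namespace Cfsg.Agent.S5032

open Cfsg.Agent.H87

/-- Let S be a set of abstract root subgroups of G with more than one member. Then the graph of rank one pairs on S is connected if and only if S is a single conjugacy class of G and some member of S has a rank one partner in S. -/
theorem result {G : Type*} [Group G] {S : Set (Subgroup G)} (hS : Cfsg.IsRootSubgroupSet S) (h2 : ∃ A ∈ S, ∃ B ∈ S, A ≠ B) :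
    Cfsg.IsConnectedFamily (Cfsg.FAdj S) S ↔
      (Cfsg.IsConjClassOfSubgroups S ∧ ∃ A ∈ S, ¬ Cfsg.IsIsolatedIn (Cfsg.FAdj S) S A) := by
  constructor
  · intro hc
    obtain ⟨A, hA, B, hB, hne⟩ := h2
    refine ⟨⟨⟨A, hA⟩, fun C hC D hD => conj_of_reach hS (hc C hC D hD)⟩, A, hA, fun hiso => ?_⟩
    rcases (hc A hA B hB).cases_head with rfl | ⟨c, h1, -⟩
    · exact hne rfl
    · exact (hiso.2 c).1 h1
  · rintro ⟨⟨-, hconj⟩, A, hA, hiso⟩
    obtain ⟨D, hD, hAD⟩ := exists_partner hiso hA
    intro C hC E hE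
    obtain ⟨g, rfl⟩ := hconj A hA C hC
    obtain ⟨k, rfl⟩ := hconj A hA E hE
    exact (reach_symm (conj_reach_all hS hA hD hAD g)).trans (conj_reach_all hS hA hD hAD k)

end Cfsg.Agent.S5032
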