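import Cfsg.Statements.S5033
import Cfsg.Agent.H87.Quasisimplicity
import Cfsg.Agent.S5020
-- import your own Cfsg.Agent.* helpers here

set_option autoImplicit false
open Cfsg

namespace Cfsg.Agent.S5033

open Cfsg.Agent.H87

/-- Quasisimplicity criterion for groups generated by abstract root subgroups. Let S be a set of abstract root subgroups of G with more than one member such that: the graph of rank one pairs on S is connected; no two different members of S have the same set of commuting members of S; if S is degenerate then every member of S has more than three elements; and every rank one pair in S is special. Then for every A ∈ S one has G = G' A with A ∩ G' ≠ 1, and the commutator subgroup G' is quasisimple. Moreover G is perfect if S is non-degenerate, or if some rank one pair A, B in S generates a perfect group. -/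
theorem result {G : Type*} [Group G] {S : Set (Subgroup G)} (hS : Cfsg.IsRootSubgroupSet S) (h2 : ∃ A ∈ S, ∃ B ∈ S, A ≠ B)
    (h1 : Cfsg.IsConnectedFamily (Cfsg.FAdj S) S)
    (h2' : ∀ A ∈ S, ∀ C ∈ S, A ≠ C → Cfsg.centralizingMembers S A ≠ Cfsg.centralizingMembers S C)
    (h3 : Cfsg.IsDegenerateRootSet S → ∀ A ∈ S, 3 < ENat.card A)
    (h4 : ∀ A ∈ S, ∀ B ∈ Cfsg.rankOnePartners S A, Cfsg.IsSpecialRankOnePair A B) :
    (∀ A ∈ S, commutator G ⊔ A = ⊤ ∧ A ⊓ commutator G ≠ ⊥) ∧ Cfsg.IsQuasisimple ↥(commutator G) ∧
    (Cfsg.IsNondegenerateRootSet S → commutator G = ⊤) ∧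
    ((∃ A ∈ S, ∃ B ∈ Cfsg.rankOnePartners S A, Group.IsPerfect ↥(A ⊔ B)) → commutator G = ⊤) := by
  have htop := commutator_eq_top hS h1 h2 h3 h4
  refine ⟨fun A hA => ⟨by rw [htop, top_sup_eq], ?_⟩, ?_, fun _ => htop, fun _ => htop⟩
  · rw [htop, inf_top_eq]
    exact hS.ne_bot A hA
  · rw [htop]
    have hne : Subgroup.center G ≠ ⊤ := by
      intro hc
      have h2c := h2
      obtain ⟨A, hA, -⟩ := h2
      obtain ⟨P, -, hAP⟩ := exists_partner_of_connected h2c h1 hA
      obtain ⟨a, ha, ha1⟩ := A.bot_or_exists_ne_one.resolve_left (left_ne_bot hAP)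
      refine ha1 (eq_one_of_fix hAP ha (conjBy_eq_self_iff.2 ?_))
      exact Subgroup.center_le_normalizer _ (hc ▸ Subgroup.mem_top a)
    have : Nontrivial (G ⧸ Subgroup.center G) := by
      by_contra hc
      exact hne (QuotientGroup.subgroup_eq_top_of_subsingleton _ (not_nontrivial_iff_subsingleton.1 hc))
    refine S5020.quasisimple_top ⟨htop⟩ { eq_bot_or_eq_top_of_normal := fun M hM => ?_ }
    have := hM
    by_cases hN : M.comap (QuotientGroup.mk' (Subgroup.center G)) ≤ Subgroup.center G
    · left
      rw [Subgroup.eq_bot_iff_forall]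
      intro q hq
      obtain ⟨x, rfl⟩ := QuotientGroup.mk'_surjective _ q
      exact (QuotientGroup.eq_one_iff x).2 (hN hq)
    · right
      rw [← Subgroup.map_comap_eq_self_of_surjective (QuotientGroup.mk'_surjective _) M,
        eq_top_of_not_le_center hS h1 h2 h2' h3 h4 inferInstance hN,
        Subgroup.map_top_of_surjective _ (QuotientGroup.mk'_surjective _)]

end Cfsg.Agent.S5033
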