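import Cfsg.Statements.S5035
import Cfsg.Agent.H87.Quasisimplicity
-- import your own Cfsg.Agent.* helpers here

set_option autoImplicit false
open Cfsg

namespace Cfsg.Agent.S5035

open Cfsg.Agent.H87

/-- Let S be a set of abstract root subgroups of G whose graph of rank one pairs is connected, and f a homomorphism from G onto a group H. Then either the images of the members of S form a set of abstract root subgroups of H whose graph of rank one pairs is again connected, or H equals the image of a member of S. -/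
theorem result {G H : Type*} [Group G] [Group H] {S : Set (Subgroup G)} (hS : Cfsg.IsRootSubgroupSet S)
    (hc : Cfsg.IsConnectedFamily (Cfsg.FAdj S) S) (f : G →* H) (hf : Function.Surjective f) :
    (Cfsg.IsRootSubgroupSet ((fun A : Subgroup G => A.map f) '' S) ∧
      Cfsg.IsConnectedFamily (Cfsg.FAdj ((fun A : Subgroup G => A.map f) '' S)) ((fun A : Subgroup G => A.map f) '' S)) ∨
    ∃ A ∈ S, A.map f = ⊤ := by
  by_cases hker : ∀ A ∈ S, ∀ a ∈ A, f a = 1 → a = 1
  · left
    have hmapconj : ∀ (A : Subgroup G) (g : G), (Cfsg.conjBy A g).map f = Cfsg.conjBy (A.map f) (f g) := by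
      intro A g
      rw [Cfsg.conjBy, Cfsg.conjBy, Subgroup.map_map, Subgroup.map_map]
      congr 1
      ext x
      simp
    have hcomm : ∀ A ∈ S, IsMulCommutative ↥(A.map f) := by
      intro A hA
      refine ⟨⟨fun x y => Subtype.ext ?_⟩⟩
      obtain ⟨a, ha, ea⟩ := x.2
      obtain ⟨b, hb, eb⟩ := y.2
      show (x : H) * y = y * x
      rw [← ea, ← eb, ← map_mul, ← map_mul, commute_of_mem hS hA ha hb]
    have hrank : ∀ A ∈ S, ∀ B ∈ S, Cfsg.IsRankOnePair A B → A.map f ≠ B.map f →
        Cfsg.IsRankOnePair (A.map f) (B.map f) := by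
      intro A hA B hB hAB hne
      have key : ∀ {U V : Subgroup G}, V ∈ S → Cfsg.RankOneCondition U V → Cfsg.RankOneCondition (U.map f) (V.map f) := by
        intro U V hV hc x hx hx1
        obtain ⟨u, hu, rfl⟩ := hx
        obtain ⟨v, hv, hv1, e⟩ := hc u hu (fun e => hx1 (by rw [e, map_one]))
        refine ⟨f v, ⟨v, hv, rfl⟩, fun e' => hv1 (hker V hV v hv e'), ?_⟩
        rw [← map_inv, ← map_inv, ← hmapconj, ← hmapconj, e]
      haveI := hAB.nilpotent_left
      haveI := hAB.nilpotent_right
      exact ⟨hne, Group.nilpotent_of_surjective _ (MonoidHom.subgroupMap_surjective f A),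
        Group.nilpotent_of_surjective _ (MonoidHom.subgroupMap_surjective f B),
        key hB hAB.cond_left, key hA hAB.cond_right⟩
    refine ⟨⟨?_, ?_, ?_, ?_, ?_⟩, ?_⟩
    · rintro _ ⟨A, hA, rfl⟩
      exact hcomm A hA
    · rintro _ ⟨A, hA, rfl⟩ h
      exact hS.ne_bot A hA ((Subgroup.eq_bot_iff_forall _).2 fun a ha =>
        hker A hA a ha (by simpa [h] using (Subgroup.mem_map_of_mem f ha : f a ∈ A.map f)))
    · rw [iSup_image, ← Subgroup.map_top_of_surjective f hf, ← hS.generates, Subgroup.map_iSup]
      exact iSup_congr fun A => (Subgroup.map_iSup f _).symm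
    · rintro _ ⟨A, hA, rfl⟩ g
      obtain ⟨g, rfl⟩ := hf g
      exact ⟨_, hS.conj_mem A hA g, hmapconj A g⟩
    · rintro _ ⟨A, hA, rfl⟩ _ ⟨B, hB, rfl⟩
      rcases hS.pair A hA B hB with h | h | h
      · left
        show ⁅A.map f, B.map f⁆ = ⊥
        rw [← Subgroup.map_commutator, h, Subgroup.map_bot]
      · by_cases he : A.map f = B.map f
        · left
          show ⁅A.map f, B.map f⁆ = ⊥
          rw [← he]
          refine bot_of_commute fun x hx y hy => ?_
          exact congrArg Subtype.val ((hcomm A hA).is_comm.comm (⟨x, hx⟩ : A.map f) ⟨y, hy⟩)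
        · exact Or.inr (Or.inl (hrank A hA B hB h he))
      · right; right
        show Cfsg.RootCommutatorCase ((fun A : Subgroup G => A.map f) '' S) (A.map f) (B.map f)
        refine ⟨⟨_, h.1, Subgroup.map_commutator A B f⟩, ?_, ?_, ?_⟩
        · rw [← Subgroup.map_commutator, ← Subgroup.map_sup]
          rintro _ ⟨c, hc, rfl⟩ _ ⟨x, hx, rfl⟩
          rw [← map_mul, ← map_mul, h.2.1 c hc x hx]
        · rintro _ ⟨a, ha, rfl⟩ ha1
          rw [← Subgroup.map_commutator, ← h.2.2.1 a ha (fun e => ha1 (by rw [e, map_one])), MonoidHom.map_closure,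
            Subgroup.coe_map, ← Set.image_comp, ← Set.image_comp]
          congr 1
          exact Set.image_congr fun b _ => by simp
        · rintro _ ⟨b, hb, rfl⟩ hb1
          rw [← Subgroup.map_commutator, ← h.2.2.2 b hb (fun e => hb1 (by rw [e, map_one])), MonoidHom.map_closure,
            Subgroup.coe_map, ← Set.image_comp, ← Set.image_comp]
          congr 1
          exact Set.image_congr fun a _ => by simp
    · rintro _ ⟨A, hA, rfl⟩ _ ⟨B, hB, rfl⟩
      have hr := hc A hA B hB
      clear hB
      induction hr with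
      | refl => exact Relation.ReflTransGen.refl
      | @tail C D _ hedge ih =>
        rcases eq_or_ne (C.map f) (D.map f) with he | he
        · show Relation.ReflTransGen _ (A.map f) (D.map f)
          rw [← he]; exact ih
        · exact ih.tail ⟨⟨C, hedge.1, rfl⟩, ⟨D, hedge.2.1, rfl⟩, hrank C hedge.1 D hedge.2.1 hedge.2.2 he⟩
  · right
    push Not at hker
    obtain ⟨A, hA, a, ha, hfa, ha1⟩ := hker
    refine ⟨A, hA, ?_⟩
    have hall : ∀ E ∈ S, ∃ e ∈ E, f e = 1 ∧ e ≠ 1 := by
      intro E hE
      obtain ⟨g, rfl⟩ := conj_of_reach hS (hc A hA E hE)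
      exact ⟨g * a * g⁻¹, conj_mem_conjBy g ha, by simp [hfa], fun e => ha1 (by simpa using e)⟩
    have hle : ∀ E ∈ S, E ≤ f.ker ⊔ A := by
      intro E hE
      have hr := hc A hA E hE
      clear hE
      induction hr with
      | refl => exact le_sup_right
      | @tail C D _ hedge ih =>
        obtain ⟨e, he, hfe, he1⟩ := hall D hedge.2.1
        refine (le_sup_of_moves hedge.2.2 (MonoidHom.mem_ker.2 hfe) (Subgroup.mem_sup_right he) fun e' => he1 ?_).trans
          (sup_le le_sup_left ih)
        exact eq_one_of_fix (rankOne_symm hedge.2.2) he e'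
    have htop : f.ker ⊔ A = ⊤ := top_le_iff.1 (hS.generates ▸ iSup₂_le hle)
    rw [← Subgroup.map_top_of_surjective f hf, ← htop, Subgroup.map_sup]
    have : f.ker.map f = ⊥ := (Subgroup.map_eq_bot_iff _).2 le_rfl
    rw [this, bot_sup_eq]

end Cfsg.Agent.S5035
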