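import Cfsg.Statements.S5037
import Cfsg.Agent.H87.LineGen
-- import your own Cfsg.Agent.* helpers here

set_option autoImplicit false
open Cfsg

namespace Cfsg.Agent.S5037

open Cfsg.Agent.H87

variable {G : Type*} [Group G] {S : Set (Subgroup G)}

theorem mem_cent_iff {U X : Subgroup G} : X ∈ Cfsg.centralizingMembers S U ↔ X ∈ S ∧ ⁅X, U⁆ = ⊥ :=
  and_congr_right fun _ => Subgroup.commutator_eq_bot_iff_le_centralizer.symm

/-- A member paired with `C` cannot act nontrivially on what `C` centralizes. -/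
theorem kill {C D P Q : Subgroup G} (hDC : Cfsg.IsRankOnePair D C) (hCP : ⁅C, P⁆ = ⊥) (hCQ : ⁅C, Q⁆ = ⊥)
    (hDQ : ⁅D, Q⁆ = ⊥) (hle : ⁅P, D⁆ ≤ Q) : ⁅P, D⁆ = ⊥ := by
  have hC : C ≤ Subgroup.centralizer ((P ⊔ Q : Subgroup G) : Set G) :=
    le_centralizer_of_bot (bot_symm (commutator_sup_eq_bot (bot_symm hCP) (bot_symm hCQ)))
  have hD : D ≤ Subgroup.normalizer ((P ⊔ Q : Subgroup G) : Set G) := by
    intro d hd
    have hsub : ∀ z ∈ D, Cfsg.conjBy (P ⊔ Q) z ≤ P ⊔ Q := by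
      intro z hz
      rw [conjBy_sup, conjBy_eq_of_commute (E := Q) fun q hq => commute_of_bot hDQ hz hq]
      refine sup_le (fun x hx => ?_) le_sup_right
      rw [mem_conjBy] at hx
      have h1 : z * (z⁻¹ * x * z) * z⁻¹ * (z⁻¹ * x * z)⁻¹ ∈ Q := by
        refine hle ?_
        rw [Subgroup.commutator_comm]
        exact Subgroup.commutator_mem_commutator hz hx
      simpa [mul_assoc] using mul_mem (Subgroup.mem_sup_right (S := P) h1) (Subgroup.mem_sup_left hx)
    rw [Subgroup.mem_normalizer_iff]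
    intro x
    refine ⟨fun hx => hsub d hd (conj_mem_conjBy d hx), fun hx => ?_⟩
    simpa [mul_assoc] using hsub d⁻¹ (inv_mem hd) (conj_mem_conjBy d⁻¹ hx)
  obtain ⟨x, hx, e⟩ := right_mem (rankOne_symm hDC)
  have hxn := (sup_le (hC.trans (Subgroup.centralizer_le_normalizer _)) hD) hx
  refine bot_symm (Subgroup.commutator_eq_bot_iff_le_centralizer.2 ?_)
  intro d hd
  rw [e, mem_conjBy] at hd
  refine Subgroup.mem_centralizer_iff.2 fun p hp => ?_
  have h2 : x⁻¹ * p * x ∈ P ⊔ Q := by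
    simpa using conj_mem_of_normalizer (inv_mem hxn) (Subgroup.mem_sup_left hp : p ∈ P ⊔ Q)
  have h3 := congrArg (fun t => x * t * x⁻¹) (Subgroup.mem_centralizer_iff.1 (hC hd) _ h2)
  simpa [mul_assoc] using h3

variable (hS : Cfsg.IsRootSubgroupSet S)
include hS

theorem cent_conj {U V : Subgroup G} (h : Cfsg.centralizingMembers S U ⊆ Cfsg.centralizingMembers S V) (g : G) :
    Cfsg.centralizingMembers S (Cfsg.conjBy U g) ⊆ Cfsg.centralizingMembers S (Cfsg.conjBy V g) := by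
  intro X hX
  rw [mem_cent_iff] at hX
  have h1 := commutator_bot_conj hX.2 g⁻¹
  rw [conjBy_inv_conjBy] at h1
  have h2 := commutator_bot_conj (mem_cent_iff.1 (h (mem_cent_iff.2 ⟨hS.conj_mem X hX.1 g⁻¹, h1⟩))).2 g
  rw [conjBy_conjBy_inv] at h2
  exact mem_cent_iff.2 ⟨hX.1, h2⟩

theorem self_mem {A : Subgroup G} (hA : A ∈ S) : A ∈ Cfsg.centralizingMembers S A :=
  mem_cent_iff.2 ⟨hA, bot_of_commute fun x hx y hy => commute_of_mem hS hA hx hy⟩

omit hS in
theorem bot_commutator {A B C : Subgroup G} (hA : ⁅C, A⁆ = ⊥) (hB : ⁅C, B⁆ = ⊥) : ⁅C, ⁅A, B⁆⁆ = ⊥ := by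
  rw [Subgroup.commutator_eq_bot_iff_le_centralizer, Subgroup.le_centralizer_iff]
  rw [Subgroup.commutator_eq_bot_iff_le_centralizer, Subgroup.le_centralizer_iff] at hA hB
  exact Subgroup.commutator_le.2 fun a ha b hb =>
    mul_mem (mul_mem (mul_mem (hA ha) (hB hb)) (inv_mem (hA ha))) (inv_mem (hB hb))

/-- Partners of `C` are partners of every member whose commuting members commute with `C`. -/
theorem partner_of_sub {A C D : Subgroup G} (hA : A ∈ S) (hC : C ∈ S)
    (h : Cfsg.centralizingMembers S A ⊆ Cfsg.centralizingMembers S C) (hD : D ∈ S)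
    (hDC : Cfsg.IsRankOnePair D C) : Cfsg.IsRankOnePair A D := by
  rcases hS.pair A hA D hD with h' | h' | h'
  · exact absurd (mem_cent_iff.1 (h (mem_cent_iff.2 ⟨hD, bot_symm h'⟩))).2 (not_bot_of_rankOne hDC)
  · exact h'
  · refine absurd (kill hDC (bot_symm (mem_cent_iff.1 (h (self_mem hS hA))).2) ?_ ?_ le_rfl) (not_commute_of_comm hS h')
    · exact bot_symm (mem_cent_iff.1 (h (mem_cent_iff.2 ⟨h'.1, bot_symm (bot_of_commute (commute_left_comm h'))⟩))).2
    · exact bot_of_commute (commute_right_comm h')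

theorem cent_subset (hp : HasPartners S) {A C : Subgroup G} (hA : A ∈ S) (hC : C ∈ S)
    (h : Cfsg.centralizingMembers S A ⊆ Cfsg.centralizingMembers S C) :
    Cfsg.centralizingMembers S C ⊆ Cfsg.centralizingMembers S A := by
  intro B hB
  rw [mem_cent_iff] at hB ⊢
  refine ⟨hB.1, ?_⟩
  by_contra hBA
  obtain ⟨D, hD, hCD⟩ := hp C hC
  have hAC : ⁅A, C⁆ = ⊥ := (mem_cent_iff.1 (h (self_mem hS hA))).2
  have hCB : ⁅C, B⁆ = ⊥ := bot_symm hB.2
  have hAD := partner_of_sub hS hA hC h hD (rankOne_symm hCD)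
  rcases hS.pair A hA B hB.1 with h' | h' | h'
  · exact hBA (bot_symm h')
  · -- `B` paired with `A`
    obtain ⟨x, hx, ex⟩ := right_mem h'
    have hCx : Cfsg.conjBy C x = C := by
      have hle : A ⊔ B ≤ Subgroup.normalizer (C : Set G) :=
        sup_le (le_normalizer_of_bot hAC) (le_normalizer_of_bot hB.2)
      exact conjBy_eq_self_iff.2 (hle hx)
    have hBC := cent_conj hS h x
    rw [← ex, hCx] at hBC
    have hBD := partner_of_sub hS hB.1 hC hBC hD (rankOne_symm hCD)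
    obtain ⟨δ, hδ, hδ1⟩ := D.bot_or_exists_ne_one.resolve_left (right_ne_bot hCD)
    obtain ⟨a, ha, ha1, ea⟩ := exists_conjBy_right hAD hδ hδ1
    obtain ⟨b, hb, hb1, eb⟩ := exists_conjBy_right hBD hδ hδ1
    obtain ⟨c, hc, hc1, ec⟩ := exists_conjBy_right hCD hδ hδ1
    have hsub := cent_conj hS h (a⁻¹ * δ)
    rw [conjBy_mul, ea, conjBy_inv_conjBy, conjBy_mul, ec, ← conjBy_mul] at hsub
    have hB' : ⁅Cfsg.conjBy D (b⁻¹ * c), D⁆ = ⊥ := by
      have h1 := commutator_bot_conj (commutator_bot_conj hCB δ) b⁻¹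
      rw [eb, ec, conjBy_inv_conjBy, ← conjBy_mul] at h1
      exact h1
    have h2 := (mem_cent_iff.1 (hsub (mem_cent_iff.2 ⟨hS.conj_mem D hD _, hB'⟩))).2
    have h3 := commutator_bot_conj h2 c⁻¹
    have ca : c⁻¹ * (a⁻¹ * c) = a⁻¹ := by
      have hh : Commute c a := (commute_of_bot hAC ha hc).symm
      rw [← mul_assoc, hh.inv_inv.eq, inv_mul_cancel_right]
    have cb : c⁻¹ * (b⁻¹ * c) = b⁻¹ := by
      have hh : Commute c b := commute_of_bot hCB hc hb
      rw [← mul_assoc, hh.inv_inv.eq, inv_mul_cancel_right]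
    rw [← conjBy_mul, ← conjBy_mul, cb, ca] at h3
    obtain ⟨δ₁, hδ₁, -, e₁⟩ := exists_conjBy_left hAD (inv_mem ha) (by simpa using ha1)
    obtain ⟨δ₂, hδ₂, -, e₂⟩ := exists_conjBy_left hBD (inv_mem hb) (by simpa using hb1)
    rw [e₁, e₂] at h3
    have h4 := commutator_bot_conj h3 δ₁⁻¹
    rw [conjBy_inv_conjBy, ← conjBy_mul] at h4
    have hδ₃ : δ₁⁻¹ * δ₂ ∈ D := mul_mem (inv_mem hδ₁) hδ₂
    rcases eq_or_ne (δ₁⁻¹ * δ₂) 1 with h0 | h0
    · rw [h0, conjBy_one] at h4
      exact not_bot_of_rankOne h' (bot_symm h4)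
    · have h5 := (mem_cent_iff.1 (h (mem_cent_iff.2 ⟨hS.conj_mem B hB.1 _, h4⟩))).2
      have h6 := commutator_bot_conj h5 (δ₁⁻¹ * δ₂)⁻¹
      rw [conjBy_inv_conjBy] at h6
      obtain ⟨c', hc', -, ec'⟩ := exists_conjBy_right hCD (inv_mem hδ₃) (inv_ne_one.2 h0)
      rw [ec'] at h6
      have h7 := commutator_bot_conj h6 c'⁻¹
      rw [conjBy_inv_conjBy, conjBy_eq_of_commute (E := B) fun y hy => commute_of_bot hCB (inv_mem hc') hy] at h7
      exact not_bot_of_rankOne hBD h7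
  · -- `B` in the commutator case with `A`
    have hK := linePartner_of_comm hS hp hA h'
    obtain ⟨D₁, hD₁, hcD₁, eD₁⟩ := linePartner_comm hS hp h'.1 (linePartner_symm hS hA hK)
    obtain ⟨hBD₁, hT, -⟩ := Cfsg.Agent.S5036.result hS hA hB.1 h'.1 hD₁ (by rw [Subgroup.commutator_comm]; exact eD₁)
    have hCD₁ : ⁅C, D₁⁆ = ⊥ := by
      refine bot_symm (mem_cent_iff.1 (h (mem_cent_iff.2 ⟨hD₁, ?_⟩))).2
      exact bot_of_commute fun y hy z hz => commute_right_comm hcD₁ y hy z (eD₁.symm ▸ hz)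
    have hfixC : ∀ y ∈ B ⊔ D₁, Cfsg.conjBy C y = C := fun y hy => conjBy_eq_self_iff.2
      ((sup_le (le_normalizer_of_bot hB.2) (le_normalizer_of_bot (bot_symm hCD₁))) hy)
    obtain ⟨y, hy, ey⟩ : ⁅A, B⁆ ∈ {E | ∃ y ∈ B ⊔ D₁, E = Cfsg.conjBy A y} := by
      rw [hT]; exact ⟨1, one_mem _, (conjBy_one _).symm⟩
    obtain ⟨P, hP, hPD, hPN⟩ := exists_linePartner_not_rankOne hS hp hA hD hAD hK
    rcases mem_line_cases hS hp hA h' hP.1.1 (le_sup_right.trans hPN.le) with rfl | ⟨f, hf, rfl⟩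
    · have h1 := cent_conj hS h y
      rw [← ey, hfixC y hy] at h1
      exact hPD (partner_of_sub hS h'.1 hC h1 hD (rankOne_symm hCD))
    · have h1 := cent_conj hS h f
      rw [hfixC f (Subgroup.mem_sup_left hf)] at h1
      exact hPD (partner_of_sub hS hP.1.1 hC h1 hD (rankOne_symm hCD))

theorem rankOne_subset (hp : HasPartners S) {A C : Subgroup G} (hA : A ∈ S) (hC : C ∈ S)
    (h : Cfsg.rankOnePartners S A ⊆ Cfsg.rankOnePartners S C) :
    ⁅A, C⁆ = ⊥ ∧ Cfsg.rankOnePartners S A = Cfsg.rankOnePartners S C := by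
  have hAC : ⁅A, C⁆ = ⊥ := by
    rcases hS.pair A hA C hC with h' | h' | h'
    · exact h'
    · exact absurd rfl (h ⟨hC, h'⟩).2.ne
    · exfalso
      have hc := comm_case_symm h'
      have hK := linePartner_of_comm hS hp hC hc
      obtain ⟨D₁, hD₁, hcD₁, eD₁⟩ := linePartner_comm hS hp hc.1 (linePartner_symm hS hC hK)
      obtain ⟨hAD₁, -⟩ := Cfsg.Agent.S5036.result hS hC hA hc.1 hD₁ (by rw [Subgroup.commutator_comm]; exact eD₁)
      refine not_bot_of_rankOne (h ⟨hD₁, hAD₁⟩).2 (bot_of_commute fun c hc' d hd => ?_)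
      exact (commute_right_comm hcD₁ d hd c (eD₁.symm ▸ hc')).symm
  refine ⟨hAC, ?_⟩
  have hsub : Cfsg.centralizingMembers S C ⊆ Cfsg.centralizingMembers S A := by
    intro B hB
    rw [mem_cent_iff] at hB ⊢
    refine ⟨hB.1, ?_⟩
    rcases hS.pair A hA B hB.1 with h' | h' | h'
    · exact bot_symm h'
    · exact absurd (bot_symm hB.2) (not_bot_of_rankOne (h ⟨hB.1, h'⟩).2)
    · exfalso
      have hc := comm_case_symm h'
      have hK := linePartner_of_comm hS hp hB.1 hc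
      obtain ⟨D₁, hD₁, hcD₁, eD₁⟩ := linePartner_comm hS hp hc.1 (linePartner_symm hS hB.1 hK)
      obtain ⟨hAD₁, -⟩ := Cfsg.Agent.S5036.result hS hB.1 hA hc.1 hD₁ (by rw [Subgroup.commutator_comm]; exact eD₁)
      refine not_commute_of_comm hS hcD₁ (kill (rankOne_symm (h ⟨hD₁, hAD₁⟩).2)
        (bot_commutator (bot_symm hB.2) (bot_symm hAC)) (bot_symm hB.2) ?_ eD₁.le)
      exact bot_of_commute fun d hd b hb => commute_right_comm hcD₁ d hd b (eD₁.symm ▸ hb)
  have hcent := cent_subset hS hp hC hA hsub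
  refine Set.Subset.antisymm h fun B hB => ⟨hB.1, ?_⟩
  rcases hS.pair A hA B hB.1 with h' | h' | h'
  · exact absurd (bot_symm (mem_cent_iff.1 (hcent (mem_cent_iff.2 ⟨hB.1, bot_symm h'⟩))).2) (not_bot_of_rankOne hB.2)
  · exact h'
  · refine absurd (kill (rankOne_symm hB.2) (bot_symm hAC) ?_ ?_ le_rfl) (not_commute_of_comm hS h')
    · exact bot_symm (mem_cent_iff.1 (hcent (mem_cent_iff.2 ⟨h'.1, bot_symm (bot_of_commute (commute_left_comm h'))⟩))).2
    · exact bot_of_commute (commute_right_comm h')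

omit hS


/-- Let S be a class of abstract root subgroups of G that is either degenerate or non-degenerate (so either the commutator case never occurs, or all three cases occur), and A ≠ C members of S. If every member of S commuting with A commutes with C, then A and C have the same commuting members of S; and if every rank one partner of A is a rank one partner of C, then A and C commute and have the same rank one partners. -/
theorem result {G : Type*} [Group G] {S : Set (Subgroup G)} (hS : Cfsg.IsRootSubgroupClass S)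
    (hdn : Cfsg.IsDegenerateRootSet S ∨ Cfsg.IsNondegenerateRootSet S)
    {A C : Subgroup G} (hA : A ∈ S) (hC : C ∈ S) (hAC : A ≠ C) :
    (Cfsg.centralizingMembers S A ⊆ Cfsg.centralizingMembers S C →
      Cfsg.centralizingMembers S A = Cfsg.centralizingMembers S C) ∧
    (Cfsg.rankOnePartners S A ⊆ Cfsg.rankOnePartners S C →
      ⁅A, C⁆ = ⊥ ∧ Cfsg.rankOnePartners S A = Cfsg.rankOnePartners S C) := by
  obtain ⟨hS, hcl⟩ := hS
  by_cases hr : ∃ A ∈ S, ∃ B ∈ S, Cfsg.IsRankOnePair A B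
  · have hp := hasPartners_of_class hS hcl hr
    exact ⟨fun h => Set.Subset.antisymm h (cent_subset hS hp hA hC h), rankOne_subset hS hp hA hC⟩
  · have hdeg := hdn.resolve_right fun h => hr h.2.1
    have hall : ∀ U ∈ S, ∀ V ∈ S, ⁅U, V⁆ = ⊥ := fun U hU V hV =>
      (hS.pair U hU V hV).resolve_right fun h => h.elim (fun h => hr ⟨U, hU, V, hV, h⟩) (hdeg U hU V hV)
    have hemp : ∀ U ∈ S, Cfsg.rankOnePartners S U = ∅ := fun U hU =>
      Set.eq_empty_iff_forall_notMem.2 fun V hV => hr ⟨U, hU, V, hV.1, hV.2⟩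
    have hset : ∀ U ∈ S, Cfsg.centralizingMembers S U = S := fun U hU =>
      Set.ext fun V => ⟨fun h => h.1, fun h => mem_cent_iff.2 ⟨h, hall V h U hU⟩⟩
    exact ⟨fun _ => (hset A hA).trans (hset C hC).symm, fun _ => ⟨hall A hA C hC, (hemp A hA).trans (hemp C hC).symm⟩⟩

end Cfsg.Agent.S5037
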