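import Cfsg.Statements.S5038
import Cfsg.Agent.H87.LineGen
-- import your own Cfsg.Agent.* helpers here

set_option autoImplicit false
open Cfsg

namespace Cfsg.Agent.S5038

open Cfsg.Agent.H87

/-- Let S be a set of abstract root subgroups of G in which every member has a rank one partner, A ∈ S and B a line partner of A. Then the subgroup generated by the members of S normalizing AB permutes the members of S inside AB doubly transitively by conjugation. -/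
theorem result {G : Type*} [Group G] {S : Set (Subgroup G)} (hS : Cfsg.IsRootSubgroupSet S)
    (hF : ∀ A ∈ S, ¬ Cfsg.IsIsolatedIn (Cfsg.FAdj S) S A) {A B : Subgroup G} (hA : A ∈ S) (hB : B ∈ Cfsg.linePartners S A) :
    ∀ C₁ ∈ Cfsg.membersIn S (A ⊔ B), ∀ C₂ ∈ Cfsg.membersIn S (A ⊔ B), ∀ D₁ ∈ Cfsg.membersIn S (A ⊔ B),
      ∀ D₂ ∈ Cfsg.membersIn S (A ⊔ B), C₁ ≠ C₂ → D₁ ≠ D₂ →
        ∃ x ∈ ⨆ E ∈ Cfsg.normalizingMembers S (A ⊔ B), E, Cfsg.conjBy C₁ x = D₁ ∧ Cfsg.conjBy C₂ x = D₂ := by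
  have hp := hasPartners_of_not_isolated hS hF
  have hcov := covers_of_linePartner hS hB
  have hBA := hB.1.2.1
  intro C₁ hC₁ C₂ hC₂ D₁ hD₁ D₂ hD₂ hC hD
  set N := A ⊔ B with hN
  set H := ⨆ E ∈ Cfsg.normalizingMembers S N, E with hH
  -- moving every member while fixing one
  have hmove : ∀ P ∈ Cfsg.membersIn S N, ∀ Q ∈ Cfsg.membersIn S N, ∀ R ∈ Cfsg.membersIn S N, Q ≠ P → R ≠ P →
      ∃ x ∈ H, Cfsg.conjBy P x = P ∧ Cfsg.conjBy Q x = R := by
    intro P hP Q hQ R hR hQP hRP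
    obtain ⟨F, hFS, hc, e, hQPN⟩ :=
      line_comm hS hp hA hB.1.1 hBA hB.1.2.2 hcov hP.1 hQ.1 hP.2 hQ.2 (Ne.symm hQP)
    have hFP : ∀ f ∈ F, Cfsg.conjBy P f = P := fun f hf => conjBy_eq_of_commute fun k hk =>
      commute_right_comm hc f hf k (e.symm ▸ hk)
    obtain ⟨f, hf, rfl⟩ := (mem_line_cases hS hp hQ.1 hc hR.1 (by rw [e, hQPN]; exact hR.2)).resolve_left
      (fun h' => hRP (h'.trans e))
    have hsub : ∀ g ∈ F, Cfsg.conjBy N g ≤ N := fun g hg => by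
      rw [hN, ← hQPN, conjBy_sup, hFP g hg]
      refine sup_le ?_ le_sup_right
      have := conjBy_le_line (A := Q) hS hg
      rwa [e] at this
    have hFN : F ≤ Subgroup.normalizer (N : Set G) := by
      intro g hg
      rw [Subgroup.mem_normalizer_iff]
      intro x
      refine ⟨fun hx => hsub g hg (conj_mem_conjBy g hx), fun hx => ?_⟩
      simpa [mul_assoc] using hsub g⁻¹ (inv_mem hg) (conj_mem_conjBy g⁻¹ hx)
    exact ⟨f, le_iSup₂ (f := fun E (_ : E ∈ Cfsg.normalizingMembers S N) => E) F ⟨hFS, hFN⟩ hf, hFP f hf, rfl⟩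
  -- a third member
  obtain ⟨F, -, hc, e, hABN⟩ := line_comm hS hp hA hB.1.1 hBA hB.1.2.2 hcov hB.1.1 hA le_sup_right le_sup_left hBA
  obtain ⟨f, hf, hf1⟩ := F.bot_or_exists_ne_one.resolve_left (fun h => hS.ne_bot _ hc.1 (by rw [h, Subgroup.commutator_bot_right]))
  have hT : ∃ T ∈ Cfsg.membersIn S N, T ≠ C₂ ∧ T ≠ D₂ := by
    have hAf : Cfsg.conjBy A f ∈ Cfsg.membersIn S N := by
      refine ⟨hS.conj_mem A hA f, ?_⟩
      have := conjBy_le_line (A := A) hS hf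
      rwa [e] at this
    have hfB : Cfsg.conjBy B f = B := conjBy_eq_of_commute fun k hk => commute_right_comm hc f hf k (e.symm ▸ hk)
    have hne1 : Cfsg.conjBy A f ≠ B := fun h' => hBA (conjBy_injective f (h'.trans hfB.symm)).symm
    have hne2 : Cfsg.conjBy A f ≠ A := by
      intro h'
      refine not_commute_of_comm hS hc ?_
      rw [← hc.2.2.2 f hf hf1, eq_bot_iff, Subgroup.closure_le]
      rintro _ ⟨x, hx, rfl⟩
      have hm : x * f * x⁻¹ * f⁻¹ ∈ A := by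
        have := mul_mem hx (h'.le (conj_mem_conjBy f (inv_mem hx)))
        simpa [mul_assoc] using this
      have hmK : x * f * x⁻¹ * f⁻¹ ∈ ⁅A, F⁆ := Subgroup.commutator_mem_commutator hx hf
      have : x * f * x⁻¹ * f⁻¹ ∈ A ⊓ ⁅A, F⁆ := ⟨hm, hmK⟩
      rwa [inf_commutator_eq_bot hS hc] at this
    by_cases hA2 : A ≠ C₂ ∧ A ≠ D₂
    · exact ⟨A, ⟨hA, le_sup_left⟩, hA2.1, hA2.2⟩
    by_cases hB2 : B ≠ C₂ ∧ B ≠ D₂
    · exact ⟨B, ⟨hB.1.1, le_sup_right⟩, hB2.1, hB2.2⟩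
    refine ⟨_, hAf, ?_, ?_⟩
    · intro h'
      subst h'
      simp only [ne_eq, Ne.symm hne1, Ne.symm hne2, not_false_eq_true, true_and, not_not] at hA2 hB2
      exact hBA (hB2.trans hA2.symm)
    · intro h'
      subst h'
      simp only [ne_eq, Ne.symm hne1, Ne.symm hne2, not_false_eq_true, and_true, not_not] at hA2 hB2
      exact hBA (hB2.trans hA2.symm)
  obtain ⟨T, hT, hT1, hT2⟩ := hT
  obtain ⟨x, hx, -, ex⟩ := hmove T hT C₂ hC₂ D₂ hD₂ hT1.symm hT2.symm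
  have hnorm : ∀ z ∈ H, z ∈ Subgroup.normalizer (N : Set G) := fun z hz =>
    (iSup₂_le (fun E hE => hE.2) : H ≤ Subgroup.normalizer (N : Set G)) hz
  have hC₁x : Cfsg.conjBy C₁ x ∈ Cfsg.membersIn S N :=
    ⟨hS.conj_mem C₁ hC₁.1 x, by rw [← conjBy_eq_self_iff.2 (hnorm x hx)]; exact Subgroup.map_mono hC₁.2⟩
  obtain ⟨y, hy, hy2, ey⟩ := hmove D₂ hD₂ _ hC₁x D₁ hD₁
    (fun h' => hC (conjBy_injective x (h'.trans ex.symm))) hD
  exact ⟨y * x, mul_mem hy hx, by rw [conjBy_mul, ey], by rw [conjBy_mul, ex, hy2]⟩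

end Cfsg.Agent.S5038
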