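import Cfsg.Statements.S5039
import Cfsg.Agent.H87.LineGen
import Cfsg.Agent.H87.DegMain
import Cfsg.Agent.H87.SL2Pair
-- import your own Cfsg.Agent.* helpers here

set_option autoImplicit false
universe u
open Cfsg

namespace Cfsg.Agent.S5039

open Subgroup Cfsg.Agent.H87 Cfsg.Agent.H87.Deg

/-- Enough elements in a member: two of them, distinct and not inverse to each other. -/
def Big {G : Type*} [Group G] (A : Subgroup G) : Prop :=
  ∃ x ∈ A, ∃ y ∈ A, x ≠ 1 ∧ y ≠ 1 ∧ x ≠ y ∧ x * y ≠ 1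

theorem big_conj {G : Type*} [Group G] {A : Subgroup G} (h : Big A) (g : G) : Big (Cfsg.conjBy A g) := by
  obtain ⟨x, hx, y, hy, h1, h2, h3, h4⟩ := h
  refine ⟨_, conj_mem_conjBy g hx, _, conj_mem_conjBy g hy, ?_, ?_, ?_, ?_⟩
  · simpa using h1
  · simpa using h2
  · simpa using h3
  · rw [show g * x * g⁻¹ * (g * y * g⁻¹) = g * (x * y) * g⁻¹ by group]
    exact fun e => h4 (conj_eq_one_iff.1 e)

theorem big_of_order {G : Type*} [Group G] {A : Subgroup G} {a : G} (ha : a ∈ A)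
    (h : ¬ (0 < orderOf a ∧ orderOf a ≤ 3)) : Big A := by
  have key : ∀ n : ℕ, 0 < n → n ≤ 3 → a ^ n ≠ 1 := fun n hn hn3 e => h
    ⟨orderOf_pos_iff.2 (isOfFinOrder_iff_pow_eq_one.2 ⟨n, hn, e⟩), (orderOf_le_of_pow_eq_one hn e).trans hn3⟩
  refine ⟨a, ha, a ^ 2, pow_mem ha 2, ?_, key 2 (by norm_num) (by norm_num), ?_, ?_⟩
  · simpa using key 1 (by norm_num) (by norm_num)
  · intro e
    apply key 1 (by norm_num) (by norm_num)
    rw [pow_two] at e
    simpa using e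
  · rw [← pow_succ']
    exact key 3 (by norm_num) le_rfl

theorem big_of_sl2 {G : Type*} [Group G] {k : Type*} [Field k] (hk : 3 < ENat.card k) {A₀ B₀ A : Subgroup G}
    (h : Cfsg.IsPSL2PairOver k A₀ B₀) (hle : A₀ ≤ A) : Big A := by
  classical
  obtain ⟨φ, -, hker, hu, -⟩ := h
  have hmem : ∀ t : k, φ (upMat t) ∈ A := fun t => hle (hu ▸ mem_map_of_mem φ (upMat_mem t))
  have hinj : ∀ t : k, φ (upMat t) = 1 → t = 0 := by
    intro t ht
    have h1 := mem_center_iff.1 (hker (MonoidHom.mem_ker.2 ht)) (lowMat 1)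
    have h2 := congrArg (fun m : Matrix.SpecialLinearGroup (Fin 2) k => (m : Matrix (Fin 2) (Fin 2) k) 0 0) h1
    simpa [Matrix.SpecialLinearGroup.coe_mul, lowMat_coe, upMat_coe, Matrix.mul_apply, Fin.sum_univ_two] using h2
  obtain ⟨t, ht⟩ : ∃ t : k, t ∉ ({0, 1, -1} : Finset k) := by
    by_contra hall
    push Not at hall
    have : Finset.card ({0, 1, -1} : Finset k) ≤ 3 := Finset.card_le_three
    haveI : Fintype k := ⟨{0, 1, -1}, hall⟩
    rw [ENat.card_eq_coe_fintype_card] at hk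
    have h4 : 3 < Fintype.card k := by exact_mod_cast hk
    exact absurd h4 (not_lt.2 (le_trans (Finset.card_le_card fun x _ => hall x) Finset.card_le_three))
  simp only [Finset.mem_insert, Finset.mem_singleton, not_or] at ht
  refine ⟨_, hmem 1, _, hmem t, fun e => one_ne_zero (hinj 1 e), fun e => ht.1 (hinj t e), fun e => ?_, fun e => ?_⟩
  · have := hinj (t - 1) (by
      rw [sub_eq_add_neg, ← upMat_mul, map_mul, ← e, ← map_mul, upMat_mul, add_neg_cancel, upMat_zero, map_one])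
    exact ht.2.1 (sub_eq_zero.1 this)
  · rw [← map_mul, upMat_mul] at e
    exact ht.2.2 (eq_neg_of_add_eq_zero_right (hinj _ e))

/-- Let S be a class of abstract root subgroups of G containing two different commuting members. Suppose that, in case S is degenerate and every element of every member of S has order at most 3, the following holds: for every A ∈ S and every rank one partner B of A there are subgroups A₀ ≤ A and B₀ ≤ B generating an image of SL₂(k) with central kernel, k a field with at least four elements, A₀ and B₀ being the images of the unitriangular subgroups. Then every rank one pair A, B in S is special. -/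
theorem result {G : Type u} [Group G] {S : Set (Subgroup G)} (hS : Cfsg.IsRootSubgroupClass S)
    (hcomm : ∃ A ∈ S, ∃ C ∈ S, A ≠ C ∧ ⁅A, C⁆ = ⊥)
    (hH : Cfsg.IsDegenerateRootSet S → (∀ A ∈ S, ∀ a ∈ A, 0 < orderOf a ∧ orderOf a ≤ 3) →
      ∀ A ∈ S, ∀ B ∈ Cfsg.rankOnePartners S A, ∃ A₀ B₀ : Subgroup G, A₀ ≤ A ∧ B₀ ≤ B ∧
        ∃ (k : Type u) (_ : Field k), 3 < ENat.card k ∧ Cfsg.IsPSL2PairOver k A₀ B₀)
    {A B : Subgroup G} (hA : A ∈ S) (hB : B ∈ Cfsg.rankOnePartners S A) : Cfsg.IsSpecialRankOnePair A B := by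
  have hB' := hB
  obtain ⟨hB, hAB⟩ := hB
  obtain ⟨hS, hcl⟩ := hS
  have hp := hasPartners_of_class hS hcl ⟨A, hA, B, hB, hAB⟩
  by_cases hdeg : Cfsg.IsDegenerateRootSet S
  swap
  · unfold Cfsg.IsDegenerateRootSet at hdeg
    push Not at hdeg
    obtain ⟨F, hF, hc⟩ := exists_comm_of_class hS hcl hdeg hA
    obtain ⟨P, hP, hPB, -⟩ := exists_linePartner_not_rankOne hS hp hA hB hAB (linePartner_of_comm hS hp hA hc)
    exact special_of_line hS hp hA hB hAB hP hPB
  have hD := dich_of_degenerate hS hdeg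
  refine special_of_link_inv hD hA hAB ?_
  by_cases h1 : ∃ C ∈ Cfsg.commutingPartners S A, ⁅C, B⁆ ≠ ⊥
  · obtain ⟨C, ⟨hC, hne, hCA⟩, hCB⟩ := h1
    exact fun a ha ha1 b hb hb1 e => link_inv hD hA hB hC hAB (bot_symm hCA) hne
      (rankOne_of_not_bot hD hC hB hCB) ha ha1 hb hb1 e
  by_cases h2 : ∃ C ∈ Cfsg.commutingPartners S B, ⁅C, A⁆ ≠ ⊥
  · obtain ⟨C, ⟨hC, hne, hCB⟩, hCA⟩ := h2
    exact special_symm hAB fun b hb hb1 a ha ha1 e => link_inv hD hB hA hC (rankOne_symm hAB) (bot_symm hCB) hne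
      (rankOne_of_not_bot hD hC hA hCA) hb hb1 ha ha1 e
  exfalso
  push Not at h1 h2
  have hnb := not_bot_of_rankOne hAB
  have hsame : Same S B A := by
    ext Z
    refine ⟨fun hZ => ⟨hZ.1, fun e => hnb (e ▸ bot_symm hZ.2.2), bot_symm (h2 Z hZ)⟩,
      fun hZ => ⟨hZ.1, fun e => hnb (e ▸ hZ.2.2), bot_symm (h1 Z hZ)⟩⟩
  obtain ⟨A₁, hA₁, C₁, hC₁, hne₁, hb₁⟩ := hcomm
  obtain ⟨g, hg⟩ := hcl.2 A₁ hA₁ A hA
  obtain ⟨C, hC, hne, hCA⟩ : ∃ C ∈ S, C ≠ A ∧ ⁅C, A⁆ = ⊥ := by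
    have h := rc_bot_of_bot hb₁ g⁻¹
    simp only [rc, inv_inv] at h
    rw [← hg] at h
    exact ⟨Cfsg.conjBy C₁ g, hS.conj_mem C₁ hC₁ g, fun e => hne₁ (conjBy_injective g (hg.symm.trans e.symm)), bot_symm h⟩
  obtain ⟨D, hD', hAD, hCD⟩ := common_partner hD hcl hp hA hC hne hCA
  have hbig : Big A := by
    by_cases hord : ∀ A ∈ S, ∀ a ∈ A, 0 < orderOf a ∧ orderOf a ≤ 3
    · obtain ⟨A₀, B₀, hA₀, -, k, hk, hcard, hpair⟩ := hH hdeg hord A hA B hB'
      exact big_of_sl2 hcard hpair hA₀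
    · simp only [not_forall] at hord
      obtain ⟨X, hX, a, ha, h⟩ := hord
      obtain ⟨g, rfl⟩ := hcl.2 X hX A hA
      exact big_conj (big_of_order ha h) g
  obtain ⟨x, hx, y, hy, hx1, hy1, hxy, hmul⟩ := hbig
  have hT : Tri S A D C := ⟨hD, hA, hD', hC, hAD, hCA, hne, hCD⟩
  have hBA := hT.no_twin hx hx1 hy hy1 hxy hmul hB hsame
  subst hBA
  exact hnb (self_bot hD hA)

end Cfsg.Agent.S5039
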