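import Cfsg.Statements.S5040
import Cfsg.Agent.H87.LineGen
-- import your own Cfsg.Agent.* helpers here

set_option autoImplicit false
open Cfsg

namespace Cfsg.Agent.S5040

open Cfsg.Agent.H87

/-- Let S be a non-degenerate class of abstract root subgroups of G and Δ a weak TI-subset of S. Then the members of Δ commute with one another elementwise. -/
theorem result {G : Type*} [Group G] {S : Set (Subgroup G)} (hS : Cfsg.IsRootSubgroupClass S) (hnd : Cfsg.IsNondegenerateRootSet S)
    {Δ : Set (Subgroup G)} (hΔ : Cfsg.IsWeakTISubset S Δ) : Cfsg.IsAbelianFamily Δ := by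
  obtain ⟨hS, hcl⟩ := hS
  have hp := hasPartners_of_class hS hcl hnd.2.1
  obtain ⟨hΔS, -, hne, hti⟩ := hΔ
  have hfix : ∀ X ∈ S, ∀ U ∈ Δ, (∀ x ∈ X, Cfsg.conjBy U x = U) → ∀ x ∈ X,
      (fun C => Cfsg.conjBy C x) '' Δ = Δ := by
    intro X hX U hU hXU x hx
    rcases eq_or_ne x 1 with rfl | hx1
    · have : (fun C : Subgroup G => Cfsg.conjBy C 1) = id := funext conjBy_one
      rw [this, Set.image_id]
    · refine (hti x ⟨hx1, X, hX, hx⟩).resolve_right fun hd => ?_
      exact Set.disjoint_left.1 hd ⟨U, hU, hXU x hx⟩ hU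
  have hrank : ∀ U ∈ Δ, ∀ V ∈ Δ, ¬ Cfsg.IsRankOnePair U V := by
    intro U hU V hV hUV
    let K : Subgroup G :=
      { carrier := {g | (fun C => Cfsg.conjBy C g) '' Δ = Δ}
        one_mem' := by
          show (fun C : Subgroup G => Cfsg.conjBy C 1) '' Δ = Δ
          rw [show (fun C : Subgroup G => Cfsg.conjBy C 1) = id from funext conjBy_one, Set.image_id]
        mul_mem' := by
          intro g h hg hh
          show (fun C => Cfsg.conjBy C (g * h)) '' Δ = Δ
          rw [show (fun C : Subgroup G => Cfsg.conjBy C (g * h)) =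
            (fun C => Cfsg.conjBy C g) ∘ (fun C => Cfsg.conjBy C h) from funext fun C => conjBy_mul C g h,
            Set.image_comp]
          exact (congrArg _ hh).trans hg
        inv_mem' := by
          intro g hg
          show (fun C => Cfsg.conjBy C g⁻¹) '' Δ = Δ
          conv_lhs => rw [← (hg : (fun C => Cfsg.conjBy C g) '' Δ = Δ), ← Set.image_comp]
          rw [show (fun C : Subgroup G => Cfsg.conjBy C g⁻¹) ∘ (fun C => Cfsg.conjBy C g) = id from
            funext fun C => conjBy_inv_conjBy C g, Set.image_id] }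
    have htop : (⨆ C ∈ Cfsg.linePartners S U, C) ⊔ V ≤ K :=
      sup_le (iSup₂_le fun C hC c hc => hfix C hC.1.1 U hU (fun x hx => conjBy_eq_of_commute fun u hu =>
        (commute_of_bot hC.1.2.2 hu hx).symm) c hc)
        fun v hv => hfix V (hΔS hV) V hV (fun x hx => conjBy_of_mem hx) v hv
    rw [generation hS hp hcl hnd.2.2 (hΔS hU) (hΔS hV) hUV] at htop
    apply hne
    refine Set.Subset.antisymm hΔS fun C hC => ?_
    obtain ⟨g, rfl⟩ := hcl.2 U (hΔS hU) C hC
    rw [← (htop (Subgroup.mem_top g) : (fun C => Cfsg.conjBy C g) '' Δ = Δ)]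
    exact ⟨U, hU, rfl⟩
  intro A hAΔ F hFΔ
  rcases hS.pair A (hΔS hAΔ) F (hΔS hFΔ) with h | h | h
  · exact fun a ha f hf => commute_of_bot h ha hf
  · exact (hrank A hAΔ F hFΔ h).elim
  · exfalso
    have hA := hΔS hAΔ
    have hF := hΔS hFΔ
    have h1 := linePartner_symm hS hA (linePartner_of_comm hS hp hA h)
    obtain ⟨D, hD, hcD, eD⟩ := linePartner_comm hS hp h.1 h1
    obtain ⟨hFD, -⟩ := Cfsg.Agent.S5036.result hS hA hF h.1 hD
      (by rw [Subgroup.commutator_comm]; exact eD)
    obtain ⟨d, hd, hd1⟩ := D.bot_or_exists_ne_one.resolve_left (hS.ne_bot D hD)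
    have hΔd := hfix D hD A hAΔ (fun x hx => conjBy_eq_of_commute fun a ha =>
      commute_right_comm hcD x hx a (eD.symm ▸ ha)) d hd
    have hFd : Cfsg.conjBy F d ∈ Δ := by
      rw [← hΔd]; exact ⟨F, hFΔ, rfl⟩
    exact hrank F hFΔ _ hFd (rankOne_of_mem_ne hFD (conjBy_mem_unipotent (left_mem F D) (Subgroup.mem_sup_right hd))
      fun e => hd1 (eq_one_of_fix (rankOne_symm hFD) hd e))

end Cfsg.Agent.S5040
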