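import Cfsg.Statements.S5043
import Cfsg.Agent.H96.RootFamily
import Cfsg.Agent.H87.RootPairs
import Cfsg.Agent.Linear.Generation

set_option autoImplicit false
open Matrix
open Cfsg

namespace Cfsg.Agent.S5043

open scoped Matrix
open Matrix Cfsg.Agent.H96 Cfsg.Agent.H87

variable {k : Type*} [Field k] {ι : Type*} [Fintype ι] [DecidableEq ι]

/-- A transvection. -/
def tv (u w : ι → k) (h : w ⬝ᵥ u = 0) (c : k) : SpecialLinearGroup ι k :=
  ⟨1 + c • vecMulVec u w, by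
    rw [← smul_vecMulVec, vecMulVec_eq (Fin 1), Matrix.det_one_add_replicateCol_mul_replicateRow (ι := Fin 1),
      dotProduct_smul, h, smul_zero, add_zero]⟩

theorem cmul (s t : SpecialLinearGroup ι k) :
    ((s * t : SpecialLinearGroup ι k) : Matrix ι ι k) = (s : Matrix ι ι k) * (t : Matrix ι ι k) := rfl

theorem cone : ((1 : SpecialLinearGroup ι k) : Matrix ι ι k) = 1 := rfl

theorem tv_mulVec (u w : ι → k) (h : w ⬝ᵥ u = 0) (c : k) (x : ι → k) :
    (tv u w h c : Matrix ι ι k) *ᵥ x = x + (c * (w ⬝ᵥ x)) • u := by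
  show (1 + c • vecMulVec u w) *ᵥ x = _
  rw [add_mulVec, one_mulVec, smul_mulVec, vecMulVec_mulVec, op_smul_eq_smul, smul_smul]

theorem sl_ext {g h : SpecialLinearGroup ι k} (e : ∀ x, (g : Matrix ι ι k) *ᵥ x = (h : Matrix ι ι k) *ᵥ x) :
    g = h := Subtype.ext (Matrix.ext_of_mulVec_single fun i => e _)

theorem tv_add (u w : ι → k) (h : w ⬝ᵥ u = 0) (s t : k) : tv u w h (s + t) = tv u w h s * tv u w h t := by
  refine sl_ext fun x => ?_
  rw [cmul, ← mulVec_mulVec, tv_mulVec, tv_mulVec, tv_mulVec, dotProduct_add, dotProduct_smul, h,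
    smul_zero, add_zero, add_assoc, ← add_smul]
  congr 2; ring

theorem tv_zero (u w : ι → k) (h : w ⬝ᵥ u = 0) : tv u w h 0 = 1 := sl_ext fun x => by simp [tv_mulVec]

theorem smul_vec_single (i j : ι) (c : k) :
    (1 + c • vecMulVec (Pi.single i 1) (Pi.single j 1) : Matrix ι ι k) = Matrix.transvection i j c := by
  rw [Matrix.transvection, ← Matrix.single_eq_single_vecMulVec_single, Matrix.smul_single, smul_eq_mul, mul_one]

/-- A root group. -/
def root (u w : ι → k) (h : w ⬝ᵥ u = 0) : Subgroup (SpecialLinearGroup ι k) := param (tv u w h) (tv_add u w h)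

theorem tv_conj (g : SpecialLinearGroup ι k) (u w : ι → k) (h : w ⬝ᵥ u = 0)
    (h' : (w ᵥ* ((g⁻¹ : SpecialLinearGroup ι k) : Matrix ι ι k)) ⬝ᵥ ((g : Matrix ι ι k) *ᵥ u) = 0) (c : k) :
    g * tv u w h c * g⁻¹ = tv _ _ h' c := by
  apply Subtype.ext
  show (g : Matrix ι ι k) * (1 + c • vecMulVec u w) * ((g⁻¹ : SpecialLinearGroup ι k) : Matrix ι ι k) =
    1 + c • vecMulVec _ _
  rw [mul_add, mul_one, add_mul, ← cmul, mul_inv_cancel, cone,
    mul_smul_comm, smul_mul_assoc, mul_vecMulVec, vecMulVec_mul]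

theorem root_conj (g : SpecialLinearGroup ι k) {u w : ι → k} (hu : u ≠ 0) (hw : w ≠ 0) (h : w ⬝ᵥ u = 0) :
    ∃ (u' w' : ι → k) (h' : w' ⬝ᵥ u' = 0), u' ≠ 0 ∧ w' ≠ 0 ∧ Cfsg.conjBy (root u w h) g = root u' w' h' := by
  have h' : (w ᵥ* ((g⁻¹ : SpecialLinearGroup ι k) : Matrix ι ι k)) ⬝ᵥ ((g : Matrix ι ι k) *ᵥ u) = 0 := by
    rw [← dotProduct_mulVec, mulVec_mulVec, ← cmul, inv_mul_cancel, cone,
      one_mulVec, h]
  refine ⟨_, _, h', fun e => hu ?_, fun e => hw ?_, ?_⟩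
  · have := congrArg (fun v => ((g⁻¹ : SpecialLinearGroup ι k) : Matrix ι ι k) *ᵥ v) e
    simp only [mulVec_mulVec, ← cmul, inv_mul_cancel, cone, one_mulVec, mulVec_zero] at this
    exact this
  · have := congrArg (fun v => v ᵥ* (g : Matrix ι ι k)) e
    simp only [vecMul_vecMul, ← cmul, inv_mul_cancel, cone, vecMul_one, zero_vecMul] at this
    exact this
  · ext x
    constructor
    · rintro ⟨_, ⟨c, rfl⟩, rfl⟩; exact ⟨c, (tv_conj g u w h h' c).symm⟩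
    · rintro ⟨c, rfl⟩; exact ⟨_, ⟨c, rfl⟩, tv_conj g u w h h' c⟩

theorem root_ne_bot {u w : ι → k} (hu : u ≠ 0) (hw : w ≠ 0) (h : w ⬝ᵥ u = 0) : root u w h ≠ ⊥ := by
  intro hb
  have h1 : tv u w h 1 = 1 := Subgroup.mem_bot.1 (hb ▸ (⟨1, rfl⟩ : tv u w h 1 ∈ root u w h))
  obtain ⟨i, hi⟩ := Function.ne_iff.1 hw
  have := congrArg (fun g : SpecialLinearGroup ι k => (g : Matrix ι ι k) *ᵥ (Pi.single i 1)) h1
  simp only [tv_mulVec, cone, one_mulVec, add_eq_left, one_mul, smul_eq_zero, hu, or_false] at this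
  exact hi (by simpa using this)

theorem tv_swap (u w u' w' : ι → k) (h : w ⬝ᵥ u = 0) (h' : w' ⬝ᵥ u' = 0) (hz : w' ⬝ᵥ u = 0) (s t : k) :
    tv u w h s * tv u' w' h' t = tv u w' hz (s * t * (w ⬝ᵥ u')) * (tv u' w' h' t * tv u w h s) := by
  refine sl_ext fun x => ?_
  simp only [cmul, ← mulVec_mulVec, tv_mulVec, dotProduct_add, dotProduct_smul, h, h', hz,
    smul_eq_mul]
  module

theorem root_commute {u w u' w' : ι → k} (h : w ⬝ᵥ u = 0) (h' : w' ⬝ᵥ u' = 0) (hz : w' ⬝ᵥ u = 0)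
    (hz' : w ⬝ᵥ u' = 0) : ⁅root u w h, root u' w' h'⁆ = ⊥ := by
  refine bot_of_commute ?_
  rintro _ ⟨s, rfl⟩ _ ⟨t, rfl⟩
  rw [tv_swap u w u' w' h h' hz, hz', mul_zero, tv_zero, one_mul]

theorem root_commCase {S : Set (Subgroup (SpecialLinearGroup ι k))} {u w u' w' : ι → k} (h : w ⬝ᵥ u = 0)
    (h' : w' ⬝ᵥ u' = 0) (hz : w' ⬝ᵥ u = 0) (hd : w ⬝ᵥ u' ≠ 0) (hS : root u w' hz ∈ S) :
    Cfsg.RootCommutatorCase S (root u w h) (root u' w' h') := by
  refine commCase_of (tv u w h) (tv u' w' h') (tv u w' hz) (tv_zero u w h) (tv_zero u' w' h') (fun _ => Iff.rfl)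
    (fun _ => Iff.rfl) (fun _ => Iff.rfl) hd (fun s t => ?_) (fun r s => ?_) (fun r s => ?_) hS
  · rw [tv_swap u w u' w' h h' hz]; group
  · exact (commute_of_bot (root_commute h hz hz h) ⟨s, rfl⟩ ⟨r, rfl⟩).symm
  · exact commute_of_bot (root_commute hz h' hz h') ⟨r, rfl⟩ ⟨s, rfl⟩

/-- The rows dual to two crossed root groups. -/
def rows (u w u' w' : ι → k) : Matrix (Fin 2) ι k :=
  Matrix.of ![(w' ⬝ᵥ u)⁻¹ • w', (w ⬝ᵥ u')⁻¹ • w]

theorem rows_zero (u w u' w' : ι → k) : rows u w u' w' 0 = (w' ⬝ᵥ u)⁻¹ • w' := rfl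

theorem rows_one (u w u' w' : ι → k) : rows u w u' w' 1 = (w ⬝ᵥ u')⁻¹ • w := rfl

theorem root_rankOne {u w u' w' : ι → k} (h : w ⬝ᵥ u = 0) (h' : w' ⬝ᵥ u' = 0) (ha : w' ⬝ᵥ u ≠ 0)
    (hb : w ⬝ᵥ u' ≠ 0) :
    Cfsg.IsRankOnePair (root u w h) (root u' w' h') ∧ Cfsg.IsPSL2PairOver k (root u w h) (root u' w' h') := by
  have hVU : rows u w u' w' * cols u u' = 1 :=
    rows_mul_cols (by rw [smul_dotProduct, smul_eq_mul, inv_mul_cancel₀ ha]) (by rw [smul_dotProduct, h', smul_zero])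
      (by rw [smul_dotProduct, h, smul_zero]) (by rw [smul_dotProduct, smul_eq_mul, inv_mul_cancel₀ hb])
  let φ : SpecialLinearGroup (Fin 2) k →* SpecialLinearGroup ι k :=
    { toFun := fun A => ⟨blockMat (cols u u') (rows u w u' w') (A : Matrix (Fin 2) (Fin 2) k), by
        rw [det_blockMat hVU, A.2]⟩
      map_one' := Subtype.ext (by simp [blockMat_one])
      map_mul' := fun A B => Subtype.ext (blockMat_mul hVU _ _).symm }
  have hU : (Cfsg.upperUnipotentSL2 k).map φ = root u w h :=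
    map_upper_eq _ _ _ (inv_ne_zero hb) fun t => sl_ext fun x => by
      show blockMat _ _ _ *ᵥ x = _
      rw [tv_mulVec, blockMat_mulVec, cols_zero, cols_one]
      simp [upMat_coe, rows_zero, rows_one, smul_dotProduct]
      congr 1; ring
  have hL : (Cfsg.lowerUnipotentSL2 k).map φ = root u' w' h' :=
    map_lower_eq _ _ _ (inv_ne_zero ha) fun t => sl_ext fun x => by
      show blockMat _ _ _ *ᵥ x = _
      rw [tv_mulVec, blockMat_mulVec, cols_zero, cols_one]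
      simp [lowMat_coe, rows_zero, rows_one, smul_dotProduct]
      congr 1; ring
  have := rankOne_of_hom φ fun A hA => by
    have hA' : A = 1 := Subtype.ext (blockMat_injective hVU (by
      rw [cone, blockMat_one]; exact congrArg Subtype.val hA))
    exact hA' ▸ one_mem _
  rwa [hU, hL] at this

/-- All root groups. -/
def roots : Set (Subgroup (SpecialLinearGroup ι k)) :=
  {A | ∃ (u w : ι → k) (h : w ⬝ᵥ u = 0), u ≠ 0 ∧ w ≠ 0 ∧ A = root u w h}

theorem roots_pair : ∀ A ∈ roots (k := k) (ι := ι), ∀ B ∈ roots (k := k) (ι := ι), ⁅A, B⁆ = ⊥ ∨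
    (Cfsg.IsRankOnePair A B ∧ Cfsg.IsPSL2PairOver k A B) ∨ Cfsg.RootCommutatorCase roots A B := by
  rintro _ ⟨u, w, h, hu, hw, rfl⟩ _ ⟨u', w', h', hu', hw', rfl⟩
  by_cases ha : w' ⬝ᵥ u = 0
  · by_cases hb : w ⬝ᵥ u' = 0
    · exact Or.inl (root_commute h h' ha hb)
    · exact Or.inr (Or.inr (root_commCase h h' ha hb ⟨u, w', ha, hu, hw', rfl⟩))
  · by_cases hb : w ⬝ᵥ u' = 0
    · exact Or.inr (Or.inr (comm_case_symm (root_commCase h' h hb ha ⟨u', w, hb, hu', hw, rfl⟩)))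
    · exact Or.inr (Or.inl (root_rankOne h h' ha hb))

theorem exists_two {a b : ι → k} (ha : a ≠ 0) (hb : b ≠ 0) : ∃ z, a ⬝ᵥ z ≠ 0 ∧ b ⬝ᵥ z ≠ 0 := by
  obtain ⟨i, hi⟩ := Function.ne_iff.1 ha
  obtain ⟨j, hj⟩ := Function.ne_iff.1 hb
  by_cases hbi : b i = 0
  · by_cases haj : a j = 0
    · refine ⟨Pi.single i 1 + Pi.single j 1, ?_, ?_⟩ <;> simp [dotProduct_add, hbi, haj]
      · exact hi
      · exact hj
    · exact ⟨Pi.single j 1, by simpa using haj, by simpa using hj⟩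
  · exact ⟨Pi.single i 1, by simpa using hi, by simpa using hbi⟩

theorem roots_connected : Cfsg.IsConnectedFamily (Cfsg.FAdj (roots (k := k) (ι := ι))) roots := by
  rintro _ ⟨u, w, h, hu, hw, rfl⟩ _ ⟨u', w', h', hu', hw', rfl⟩
  obtain ⟨z, hz, hz'⟩ := exists_two hw hw'
  -- a functional killing z but neither u nor u'
  have key : ∀ (v f : ι → k), v ≠ 0 → f ⬝ᵥ v = 0 → f ⬝ᵥ z ≠ 0 → ∃ χ, χ ⬝ᵥ z = 0 ∧ χ ⬝ᵥ v ≠ 0 := by
    intro v f hv hf hfz
    obtain ⟨i, hi⟩ := Function.ne_iff.1 hv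
    refine ⟨Pi.single i 1 - (z i / (f ⬝ᵥ z)) • f, ?_, ?_⟩
    · rw [sub_dotProduct, smul_dotProduct, smul_eq_mul, div_mul_cancel₀ _ hfz]; simp
    · rw [sub_dotProduct, smul_dotProduct, hf, smul_zero, sub_zero]; simpa using hi
  obtain ⟨χ₁, h1, h1'⟩ := key u w hu h hz
  obtain ⟨χ₂, h2, h2'⟩ := key u' w' hu' h' hz'
  obtain ⟨χ, hχ, hχu, hχu'⟩ : ∃ χ, χ ⬝ᵥ z = 0 ∧ χ ⬝ᵥ u ≠ 0 ∧ χ ⬝ᵥ u' ≠ 0 := by
    by_cases e1 : χ₁ ⬝ᵥ u' = 0
    · by_cases e2 : χ₂ ⬝ᵥ u = 0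
      · refine ⟨χ₁ + χ₂, ?_, ?_, ?_⟩ <;> rw [add_dotProduct]
        · rw [h1, h2, add_zero]
        · rwa [e2, add_zero]
        · rwa [e1, zero_add]
      · exact ⟨χ₂, h2, e2, h2'⟩
    · exact ⟨χ₁, h1, h1', e1⟩
  have hz0 : z ≠ 0 := by rintro rfl; simp at hz
  have hχ0 : χ ≠ 0 := by rintro rfl; simp at hχu
  have hm : root z χ hχ ∈ roots (k := k) (ι := ι) := ⟨z, χ, hχ, hz0, hχ0, rfl⟩
  exact (Relation.ReflTransGen.single ⟨⟨u, w, h, hu, hw, rfl⟩, hm, (root_rankOne h hχ hχu hz).1⟩).tail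
    ⟨hm, ⟨u', w', h', hu', hw', rfl⟩, (root_rankOne hχ h' hz' hχu').1⟩

theorem main (k : Type*) [Field k] (n : ℕ) :
    let S : Set (Subgroup (SpecialLinearGroup (Fin (n + 3)) k)) := roots
    Cfsg.IsRootSubgroupClass S ∧ Cfsg.IsNondegenerateRootSet S ∧ Cfsg.IsKRootSubgroupSet k S ∧
      Cfsg.IsConnectedFamily (Cfsg.FAdj S) S := by
  intro S
  let e : Fin (n + 3) → Fin (n + 3) → k := fun i => Pi.single i 1
  have he : ∀ i, e i ≠ 0 := fun i => Pi.single_ne_zero_iff.2 one_ne_zero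
  have hd : ∀ {i j}, i ≠ j → e i ⬝ᵥ e j = 0 := fun h => by simp [e, h]
  have hd' : ∀ i, e i ⬝ᵥ e i ≠ 0 := fun i => by simp [e]
  have n01 : (0 : Fin (n + 3)) ≠ 1 := by simp [Fin.ext_iff]
  have n02 : (0 : Fin (n + 3)) ≠ 2 := by simp [Fin.ext_iff, Nat.mod_eq_of_lt]
  have n12 : (1 : Fin (n + 3)) ≠ 2 := by simp [Fin.ext_iff, Nat.mod_eq_of_lt]
  have m : ∀ {i j} (h : j ≠ i), root (e i) (e j) (hd h) ∈ S := fun h => ⟨_, _, hd h, he _, he _, rfl⟩
  have hgen : (⨆ A ∈ S, A) = ⊤ := Cfsg.Agent.Linear.eq_top_of_transvection_mem fun i j hij c =>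
    le_iSup₂ (f := fun A (_ : A ∈ S) => A) (root (e i) (e j) (hd hij.symm)) (m hij.symm)
      ⟨c, Subtype.ext ((smul_vec_single i j c).trans (Matrix.SpecialLinearGroup.transvection_coe hij c).symm)⟩
  obtain ⟨h1, h2⟩ := rootClass_of (S := S) ⟨_, m n01.symm⟩ (by rintro _ ⟨u, w, h, -, -, rfl⟩; exact param_comm)
    (by rintro _ ⟨u, w, h, hu, hw, rfl⟩; exact root_ne_bot hu hw h) hgen
    (by
      rintro _ ⟨u, w, h, hu, hw, rfl⟩ g
      obtain ⟨u', w', h', hu', hw', e'⟩ := root_conj g hu hw h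
      exact ⟨u', w', h', hu', hw', e'⟩)
    roots_pair roots_connected
  refine ⟨h1, ⟨?_, ⟨_, m n01.symm, _, m n01, (root_rankOne _ _ (hd' _) (hd' _)).1⟩,
    ⟨_, m n01.symm, _, m n12.symm, root_commCase _ _ (hd n02.symm) (hd' _) (m n02.symm)⟩⟩, h2, roots_connected⟩
  refine ⟨_, m n01.symm, _, m n02.symm, fun h => ?_, root_commute _ _ (hd n02.symm) (hd n01.symm)⟩
  obtain ⟨s, hs⟩ : tv (e 0) (e 1) (hd n01.symm) 1 ∈ root (e 0) (e 2) (hd n02.symm) := h ▸ ⟨1, rfl⟩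
  have := congrArg (fun g : SpecialLinearGroup (Fin (n + 3)) k => (g : Matrix (Fin (n + 3)) (Fin (n + 3)) k) *ᵥ e 1) hs
  simp [tv_mulVec, hd n12.symm, he, hd'] at this

theorem set_eq (k : Type*) [Field k] (n : ℕ) :
    {A : Subgroup (Matrix.SpecialLinearGroup (Fin (n + 3)) k) |
        ∃ g : Matrix.SpecialLinearGroup (Fin (n + 3)) k,
          A = Cfsg.conjBy (Subgroup.closure {t : Matrix.SpecialLinearGroup (Fin (n + 3)) k |
            ∃ c : k, (t : Matrix (Fin (n + 3)) (Fin (n + 3)) k) = Matrix.transvection 0 1 c}) g} = roots := by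
  have h01 : (Pi.single 1 1 : Fin (n + 3) → k) ⬝ᵥ Pi.single 0 1 = 0 := by simp [Fin.ext_iff]
  have hval : ∀ c : k, (tv (Pi.single 0 1) (Pi.single 1 1) h01 c : Matrix (Fin (n + 3)) (Fin (n + 3)) k) =
      Matrix.transvection 0 1 c := fun c => smul_vec_single 0 1 c
  have hbase : Subgroup.closure {t : Matrix.SpecialLinearGroup (Fin (n + 3)) k |
      ∃ c : k, (t : Matrix (Fin (n + 3)) (Fin (n + 3)) k) = Matrix.transvection 0 1 c} =
      root (Pi.single 0 1) (Pi.single 1 1) h01 := by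
    refine le_antisymm ((Subgroup.closure_le _).2 ?_) ?_
    · rintro t ⟨c, hc⟩; exact ⟨c, Subtype.ext ((hval c).trans hc.symm)⟩
    · rintro _ ⟨c, rfl⟩; exact Subgroup.subset_closure ⟨c, hval c⟩
  have hm : root (Pi.single 0 1) (Pi.single 1 1) h01 ∈ roots :=
    ⟨_, _, h01, Pi.single_ne_zero_iff.2 one_ne_zero, Pi.single_ne_zero_iff.2 one_ne_zero, rfl⟩
  rw [hbase]
  ext A
  refine ⟨?_, fun hA => (main k n).1.2.2 _ hm A hA⟩
  rintro ⟨g, rfl⟩
  exact (main k n).1.1.conj_mem _ hm g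

/-- Let k be a field and n a natural number. In SL_{n+3}(k) (so in every dimension at least 3) the conjugates of the root subgroup of elementary transvections 1 + c E₁₂ (c ∈ k) — that is, the groups of transvections attached to an incident point–hyperplane pair — form a non-degenerate class of abstract k-root subgroups of SL_{n+3}(k) whose graph of rank one pairs is connected. -/
theorem result (k : Type*) [Field k] (n : ℕ) :
    Cfsg.IsRootSubgroupClass {A : Subgroup (Matrix.SpecialLinearGroup (Fin (n + 3)) k) |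
        ∃ g : Matrix.SpecialLinearGroup (Fin (n + 3)) k,
          A = Cfsg.conjBy (Subgroup.closure {t : Matrix.SpecialLinearGroup (Fin (n + 3)) k |
            ∃ c : k, (t : Matrix (Fin (n + 3)) (Fin (n + 3)) k) = Matrix.transvection 0 1 c}) g} ∧
    Cfsg.IsNondegenerateRootSet {A : Subgroup (Matrix.SpecialLinearGroup (Fin (n + 3)) k) |
        ∃ g : Matrix.SpecialLinearGroup (Fin (n + 3)) k,
          A = Cfsg.conjBy (Subgroup.closure {t : Matrix.SpecialLinearGroup (Fin (n + 3)) k |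
            ∃ c : k, (t : Matrix (Fin (n + 3)) (Fin (n + 3)) k) = Matrix.transvection 0 1 c}) g} ∧
    Cfsg.IsKRootSubgroupSet k {A : Subgroup (Matrix.SpecialLinearGroup (Fin (n + 3)) k) |
        ∃ g : Matrix.SpecialLinearGroup (Fin (n + 3)) k,
          A = Cfsg.conjBy (Subgroup.closure {t : Matrix.SpecialLinearGroup (Fin (n + 3)) k |
            ∃ c : k, (t : Matrix (Fin (n + 3)) (Fin (n + 3)) k) = Matrix.transvection 0 1 c}) g} ∧
    Cfsg.IsConnectedFamily (Cfsg.FAdj {A : Subgroup (Matrix.SpecialLinearGroup (Fin (n + 3)) k) |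
        ∃ g : Matrix.SpecialLinearGroup (Fin (n + 3)) k,
          A = Cfsg.conjBy (Subgroup.closure {t : Matrix.SpecialLinearGroup (Fin (n + 3)) k |
            ∃ c : k, (t : Matrix (Fin (n + 3)) (Fin (n + 3)) k) = Matrix.transvection 0 1 c}) g})
      {A : Subgroup (Matrix.SpecialLinearGroup (Fin (n + 3)) k) |
        ∃ g : Matrix.SpecialLinearGroup (Fin (n + 3)) k,
          A = Cfsg.conjBy (Subgroup.closure {t : Matrix.SpecialLinearGroup (Fin (n + 3)) k |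
            ∃ c : k, (t : Matrix (Fin (n + 3)) (Fin (n + 3)) k) = Matrix.transvection 0 1 c}) g} := by
  simp only [set_eq]
  exact main k n

end Cfsg.Agent.S5043
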