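import Cfsg.Statements.S5046
import Cfsg.Agent.H87.InvBlocks
-- import your own Cfsg.Agent.* helpers here

set_option autoImplicit false
open Cfsg

namespace Cfsg.Agent.S5046

open Cfsg.Agent.H87
open scoped commutatorElement


/-- Let G be a finite group generated by a set D of root involutions whose odd-order-product graph is connected, and d ∈ D. Then the members e of D with the same commuting members as d are exactly those for which the union of the commuting members of d and the members whose product with d has order 4 equals the corresponding union for e. -/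
theorem result {G : Type*} [Group G] [Finite G] {D : Set G} (hD : Cfsg.IsRootInvolutionSet D)
    (hc : Cfsg.IsConnectedSet (Cfsg.OddAdj D) D) {d : G} (hd : d ∈ D) :
    Cfsg.sameCommutingClass D d =
      {e | e ∈ D ∧ Cfsg.commutingMembers D d ∪ Cfsg.fourPartners D d = Cfsg.commutingMembers D e ∪ Cfsg.fourPartners D e} := by
  ext e
  simp only [Cfsg.sameCommutingClass, Set.mem_setOf_eq]
  refine and_congr_right fun he => ?_
  rw [Inv.commutingMembers_eq_iff hD hc hd he]
  constructor
  · intro h
    ext y
    rw [Inv.commute_mem_union hD hd, Inv.commute_mem_union hD he, h]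
  · intro h
    ext y
    have hy := Set.ext_iff.1 h y
    rw [Inv.commute_mem_union hD hd, Inv.commute_mem_union hD he] at hy
    exact ⟨fun h1 => not_not.1 fun h2 => (hy.2 ⟨h1.2.1, h2⟩).2 h1,
      fun h1 => not_not.1 fun h2 => (hy.1 ⟨h1.2.1, h2⟩).2 h1⟩

end Cfsg.Agent.S5046
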