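import Cfsg.Statements.S5047
import Cfsg.Agent.H87.InvBlocks
-- import your own Cfsg.Agent.* helpers here

set_option autoImplicit false
open Cfsg

namespace Cfsg.Agent.S5047

open Cfsg.Agent.H87
open scoped commutatorElement


/-- Let G be a finite group generated by a set D of root involutions whose odd-order-product graph is connected, a ∈ D, and b a member of D different from a, commuting with a, with ab ∈ D, but not having the same commuting members as a. Then some member x of D with bx of order 4 has ax of order 3. -/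
theorem result {G : Type*} [Group G] [Finite G] {D : Set G} (hD : Cfsg.IsRootInvolutionSet D)
    (hc : Cfsg.IsConnectedSet (Cfsg.OddAdj D) D) {a b : G} (ha : a ∈ D) (hb : b ∈ Cfsg.productPartners D a)
    (hbE : b ∉ Cfsg.sameCommutingClass D a) : ∃ x ∈ Cfsg.fourPartners D b, orderOf (a * x) = 3 := by
  obtain ⟨⟨hbD, hba, hne⟩, hm⟩ := hb
  have hab : Commute a b := hba.symm
  have hm' : a * b ∈ D := by rw [hab.eq]; exact hm
  have hA : Inv.OddSet D a ≠ Inv.OddSet D b := fun h =>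
    hbE ⟨hbD, (Inv.commutingMembers_eq_iff hD hc ha hbD).2 h⟩
  obtain ⟨f, hf4, hfb⟩ := Inv.exists_sq hD hc ha hbD hab hm' hA
  obtain ⟨-, -, hbf, -, -, hsym⟩ := Inv.four_data hD hf4
  obtain ⟨-, -, -, hafa, hfm, -⟩ := Inv.four_data hD (Inv.four_symm hD hf4)
  rw [hfb] at hbf hsym
  rw [hsym] at hafa hfm
  have hfD := hf4.2.1
  have hA' : Inv.OddSet D b ≠ Inv.OddSet D f := fun h =>
    Inv.four_not_commute hD hf4 (Inv.commute_of_oddSet_eq' hD hc hbD hfD h ha hab)
  obtain ⟨x, hx4, hxf⟩ := Inv.exists_sq hD hc hbD hfD hbf (by rw [hbf.eq]; exact hfm) hA'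
  obtain ⟨-, -, hfx, hxbx, -, -⟩ := Inv.four_data hD hx4
  rw [hxf] at hfx hxbx
  have hxD := hx4.2.1
  have hxfx : x * f * x = f := Inv.fix_conj hD hxD hfx.symm
  have haba : a * b * a = b := Inv.fix_conj hD ha hab
  set r := a * x with hr
  have rinv : r⁻¹ = x * a := Inv.mul_inv_eq hD ha hxD
  have c1 : r * b * r⁻¹ = f := by
    calc r * b * r⁻¹ = a * (x * b * x) * a := by rw [rinv, hr]; group
      _ = a * (b * f) * a := by rw [hxbx]
      _ = (a * b * a) * (a * f * a) := by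
        rw [show a * b * a * (a * f * a) = a * b * (a * a) * f * a by group, Inv.sq_eq hD ha]; group
      _ = f := by rw [haba, hafa, ← mul_assoc, hbf.eq, mul_assoc f b b, Inv.sq_eq hD hbD, mul_one]
  have c2 : r * f * r⁻¹ = f * b := by
    calc r * f * r⁻¹ = a * (x * f * x) * a := by rw [rinv, hr]; group
      _ = f * b := by rw [hxfx, hafa]
  have c3 : r * (f * b) * r⁻¹ = b := by
    calc r * (f * b) * r⁻¹ = (r * f * r⁻¹) * (r * b * r⁻¹) := by group
      _ = b := by rw [c1, c2, mul_assoc, hbf.eq, ← mul_assoc, Inv.sq_eq hD hfD, one_mul]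
  have c33 : r ^ 3 * b * (r ^ 3)⁻¹ = b := by
    calc r ^ 3 * b * (r ^ 3)⁻¹ = r * (r * (r * b * r⁻¹) * r⁻¹) * r⁻¹ := by simp [pow_succ, mul_assoc]
      _ = b := by rw [c1, c2, c3]
  have hbne : b ≠ f := fun e => Inv.four_not_commute hD hf4 (e ▸ hab)
  have hodd : Cfsg.OddAdj D a x := by
    rcases Inv.cases' hD ha hxD with h | h | h
    · exfalso
      have h2 : r * r = 1 := by
        rw [hr, ← pow_two, h.mul_pow, pow_two, pow_two, Inv.sq_eq hD ha, Inv.sq_eq hD hxD, one_mul]
      have h3 : r * f * r⁻¹ = b := by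
        rw [← c1]
        calc r * (r * b * r⁻¹) * r⁻¹ = (r * r) * b * (r * r)⁻¹ := by group
          _ = b := by rw [h2]; group
      rw [c2] at h3
      exact Inv.ne_one hD hfD (mul_eq_right.1 h3)
    · exact h
    · exfalso
      have h4 : r ^ 4 = 1 := by rw [hr, ← h.2.2, pow_orderOf_eq_one]
      have e4 : r ^ 4 * b * (r ^ 4)⁻¹ = f := by
        calc r ^ 4 * b * (r ^ 4)⁻¹ = r * (r ^ 3 * b * (r ^ 3)⁻¹) * r⁻¹ := by simp [pow_succ, mul_assoc]
          _ = f := by rw [c33, c1]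
      rw [h4, inv_one, one_mul, mul_one] at e4
      exact hbne e4
  refine ⟨x, ⟨hxD, hx4.2.2⟩, ?_⟩
  have hpc : r ^ 3 * a * (r ^ 3)⁻¹ = r ^ 6 * a :=
    Inv.pow_conj r a (by rw [rinv, hr, Inv.inv_eq hD ha, Inv.self_mul_cancel hD ha]) 3
  have h6 : r ^ 6 = 1 := by
    by_contra h6
    have hb1 : Commute (r ^ 3) b := mul_inv_eq_iff_eq_mul.1 c33
    have hadj : Cfsg.OddAdj D (r ^ 6 * a) a := by
      refine ⟨hpc ▸ hD.conj_mem a ha _, ha, fun e => h6 (mul_eq_right.1 e), ?_⟩
      rw [mul_assoc, Inv.sq_eq hD ha, mul_one]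
      exact hodd.2.2.2.of_dvd_nat (orderOf_pow_dvd 6)
    refine Inv.center_false hD (Inv.sq_eq hD hbD) (Inv.ne_one hD hbD) ?_ hab.symm hadj hm'
    rw [show (6 : ℕ) = 3 + 3 from rfl, pow_add]
    exact ((hb1.mul_left hb1).symm).mul_right hab.symm
  have hd6 : orderOf r ∣ 6 := orderOf_dvd_of_pow_eq_one h6
  have hne1 : orderOf r ≠ 1 := fun e => by
    rw [orderOf_eq_one_iff, hr] at e
    exact hodd.2.2.1 ((eq_inv_of_mul_eq_one_left e).trans (Inv.inv_eq hD hxD))
  have hle := Nat.le_of_dvd (by norm_num) hd6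
  have ho : Odd (orderOf r) := hodd.2.2.2
  show orderOf r = 3
  interval_cases h : orderOf r <;> simp_all (config := { decide := true })

end Cfsg.Agent.S5047
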