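import Cfsg.Statements.S5048
import Cfsg.Agent.H87.InvBlocks
-- import your own Cfsg.Agent.* helpers here

set_option autoImplicit false
open Cfsg

namespace Cfsg.Agent.S5048

open Cfsg.Agent.H87
open scoped commutatorElement

theorem commutator_top {G : Type*} [Group G] {D : Set G} (hD : Cfsg.IsRootInvolutionSet D)
    (hcl : ∀ a ∈ D, ∀ b ∈ D, ∃ g : G, b = g * a * g⁻¹) {a e : G} (ha : a ∈ D) (he : e ∈ D)
    (hae : a * e ∈ D) : commutator G = ⊤ := by
  let φ := QuotientGroup.mk' (commutator G)
  have hconst : ∀ x ∈ D, ∀ y ∈ D, φ x = φ y := by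
    intro x hx y hy
    obtain ⟨g, rfl⟩ := hcl x hx y hy
    refine (QuotientGroup.eq (s := commutator G)).2 ?_
    have := Subgroup.commutator_mem_commutator (H₁ := (⊤ : Subgroup G)) (H₂ := ⊤) (Subgroup.mem_top x⁻¹) (Subgroup.mem_top g)
    rw [commutatorElement_def, inv_inv] at this
    rw [commutator_def]
    simpa [mul_assoc] using this
  have h1 : φ e = 1 := by
    have h := hconst _ hae _ ha
    rwa [map_mul, mul_eq_left] at h
  rw [eq_top_iff, ← hD.generates, Subgroup.closure_le]
  intro x hx
  exact (QuotientGroup.eq_one_iff x).1 ((hconst x hx e he).trans h1)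

theorem normal_eq_top {G : Type*} [Group G] [Finite G] {D : Set G} (hD : Cfsg.IsRootInvolutionSet D)
    (hc : Cfsg.IsConnectedSet (Cfsg.OddAdj D) D) {a e : G} (ha : a ∈ D) (he : e ∈ D) (hae : Commute a e)
    (hm : a * e ∈ D) {N : Subgroup G} (hN : N.Normal) (hNZ : ¬ N ≤ Cfsg.twoZCore G) : N = ⊤ := by
  haveI : Fact (Nat.Prime 2) := ⟨Nat.prime_two⟩
  have := hN
  by_contra hNtop
  have hND : ∀ d ∈ D, d ∉ N := by
    intro d hd hdN
    refine hNtop (top_le_iff.1 (hD.generates ▸ (Subgroup.closure_le _).2 fun x hx => ?_))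
    obtain ⟨g, rfl⟩ := Inv.reach_conj hD (hc d hd x hx)
    exact hN.conj_mem d hdN g
  have hfour : ∀ u v : G, Inv.Four D u v → ¬ (u * v) ^ 2 ∈ N := fun u v h h' => hND _ (Inv.four_data hD h).1 h'
  -- no odd pair lies in one coset of `N`
  have hnoodd : ∀ u v : G, Cfsg.OddAdj D u v → u * v ∉ N := by
    intro d d' h hdd
    obtain ⟨g, rfl⟩ := Inv.reach_conj hD (hc a ha d h.1)
    set e' := g * e * g⁻¹
    have heD : e' ∈ D := hD.conj_mem e he g
    have hce : Commute (g * a * g⁻¹) e' := by
      show g * a * g⁻¹ * (g * e * g⁻¹) = g * e * g⁻¹ * (g * a * g⁻¹)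
      rw [show g * a * g⁻¹ * (g * e * g⁻¹) = g * (a * e) * g⁻¹ by group, hae.eq]; group
    have hme : g * a * g⁻¹ * e' ∈ D := by
      have := hD.conj_mem _ hm g
      rwa [show g * (a * e) * g⁻¹ = g * a * g⁻¹ * e' by simp [e', mul_assoc]] at this
    set d := g * a * g⁻¹
    rcases Inv.cases' hD heD h.2.1 with h' | h' | h'
    · exact Inv.center_false hD (Inv.sq_eq hD heD) (Inv.ne_one hD heD) h' hce.symm (Inv.odd_symm hD h) hme
    · have h2 : (e' * d') ^ 2 ∈ N := by
        have e1 : (e' * d') ^ 2 = (e' * (d * d')⁻¹ * e'⁻¹) * (d * d') := by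
          rw [Inv.mul_inv_eq hD h.1 h.2.1, Inv.inv_eq hD heD]
          calc (e' * d') ^ 2 = e' * d' * (e' * (d * d)) * d' := by
                rw [Inv.sq_eq hD h.1, pow_two]; group
            _ = e' * d' * ((e' * d) * d) * d' := by group
            _ = e' * d' * ((d * e') * d) * d' := by rw [hce.eq]
            _ = _ := by group
        rw [e1]
        exact mul_mem (hN.conj_mem _ (inv_mem hdd) _) hdd
      obtain ⟨k, hk⟩ := h'.2.2.2
      have h3 : e' * d' ∈ N := by
        have := pow_mem h2 (k + 1)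
        rwa [← pow_mul, show 2 * (k + 1) = orderOf (e' * d') + 1 by omega, pow_succ, pow_orderOf_eq_one, one_mul] at this
      apply hND _ hme
      rw [hce.eq]
      have := mul_mem h3 (inv_mem hdd)
      rwa [Inv.mul_inv_eq hD h.1 h.2.1, mul_assoc e', Inv.self_mul_cancel hD h.2.1] at this
    · refine hfour e' d' h' ?_
      have e1 : (e' * d') ^ 2 = (e' * (d * d')⁻¹ * e'⁻¹) * (d * d') := by
        rw [Inv.mul_inv_eq hD h.1 h.2.1, Inv.inv_eq hD heD]
        calc (e' * d') ^ 2 = e' * d' * (e' * (d * d)) * d' := by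
              rw [Inv.sq_eq hD h.1, pow_two]; group
          _ = e' * d' * ((e' * d) * d) * d' := by group
          _ = e' * d' * ((d * e') * d) * d' := by rw [hce.eq]
          _ = _ := by group
      rw [e1]
      exact mul_mem (hN.conj_mem _ (inv_mem hdd) _) hdd
  -- so `N` fixes every class of members with the same commuting members
  have hblock : ∀ u ∈ D, ∀ v ∈ D, u * v ∈ N → Commute u v ∧ ∀ w ∈ D, Commute w v → Commute w u := by
    intro u hu v hv huv
    refine ⟨?_, fun w hw hwv => ?_⟩
    · rcases Inv.cases' hD hu hv with h | h | h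
      · exact h
      · exact absurd huv (hnoodd u v h)
      · exact absurd (pow_mem huv 2) (hfour u v h)
    have hsq : (u * w) ^ 2 ∈ N := by
      have e1 : (u * w) ^ 2 = (u * v) * (w * (v * u) * w⁻¹) := by
        rw [Inv.inv_eq hD hw]
        calc (u * w) ^ 2 = u * (v * v) * w * u * w := by rw [Inv.sq_eq hD hv, pow_two]; group
          _ = u * v * (v * w) * u * w := by group
          _ = u * v * (w * v) * u * w := by rw [hwv.eq]
          _ = _ := by group
      rw [e1]
      refine mul_mem huv (hN.conj_mem _ ?_ _)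
      rw [← Inv.mul_inv_eq hD hu hv]; exact inv_mem huv
    rcases Inv.cases' hD hu hw with h | h | h
    · exact h.symm
    · exfalso
      obtain ⟨k, hk⟩ := h.2.2.2
      apply hnoodd u w h
      have := pow_mem hsq (k + 1)
      rwa [← pow_mul, show 2 * (k + 1) = orderOf (u * w) + 1 by omega, pow_succ, pow_orderOf_eq_one, one_mul] at this
    · exact absurd hsq (hfour u w h)
  obtain ⟨n, hn, d, hd, hnd⟩ : ∃ n ∈ N, ∃ d ∈ D, n * d * n⁻¹ * d⁻¹ ∉ Cfsg.pCore 2 G := by
    by_contra hcon
    push Not at hcon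
    refine hNZ fun n hn => Subgroup.mem_comap.2 (Subgroup.mem_center_iff.2 fun q => ?_)
    obtain ⟨g, rfl⟩ := QuotientGroup.mk'_surjective _ q
    have hg : g ∈ Subgroup.closure D := hD.generates ▸ Subgroup.mem_top g
    induction hg using Subgroup.closure_induction with
    | mem d hd =>
      have h := (QuotientGroup.eq_one_iff _).2 (hcon n hn d hd)
      have h' : QuotientGroup.mk' (Cfsg.pCore 2 G) (n * d * n⁻¹ * d⁻¹) = 1 := h
      rw [map_mul, map_mul, map_mul, map_inv, map_inv, mul_inv_eq_one, mul_inv_eq_iff_eq_mul] at h'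
      exact h'.symm
    | one => simp
    | mul x y _ _ hx hy => rw [map_mul, mul_assoc, hy, ← mul_assoc, hx, mul_assoc]
    | inv x _ hx => rw [map_inv]; exact (Commute.inv_left hx).eq
  apply hnd
  -- the commutators of `N` with `d`
  let H : Subgroup G := Subgroup.closure ((fun m => m * d * m⁻¹ * d⁻¹) '' (N : Set G))
  have hHN : H ≤ N := (Subgroup.closure_le _).2 (by
    rintro _ ⟨m, hm', rfl⟩
    show m * d * m⁻¹ * d⁻¹ ∈ N
    rw [show m * d * m⁻¹ * d⁻¹ = m * (d * m⁻¹ * d⁻¹) by group]
    exact mul_mem hm' (hN.conj_mem _ (inv_mem hm') d))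
  have hgen : ∀ m ∈ N, (m * d * m⁻¹) * d ∈ N := fun m hm' => by
    have := hHN (Subgroup.subset_closure ⟨m, hm', rfl⟩)
    rwa [Inv.inv_eq hD hd] at this
  have hcomm : ∀ m ∈ N, ∀ m' ∈ N, Commute (m * d * m⁻¹) (m' * d * m'⁻¹) := by
    intro m hm' m' hm''
    refine (hblock _ (hD.conj_mem d hd m) _ (hD.conj_mem d hd m') ?_).1
    have := mul_mem (hgen m hm') (inv_mem (hgen m' hm''))
    rwa [show (m' * d * m'⁻¹ * d)⁻¹ = d * (m' * d * m'⁻¹) by
        rw [Inv.mul_inv_eq hD (hD.conj_mem d hd m') hd], mul_assoc, Inv.self_mul_cancel hD hd] at this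
  have hHp : IsPGroup 2 H := by
    have key : ∀ x ∈ H, x * x = 1 ∧ ∀ m ∈ N, Commute x (m * d * m⁻¹) := by
      intro x hx
      induction hx using Subgroup.closure_induction with
      | mem y hy =>
        obtain ⟨m, hm', rfl⟩ := hy
        have h1 := hcomm m hm' 1 (one_mem N)
        rw [inv_one, one_mul, mul_one] at h1
        simp only [Inv.inv_eq hD hd]
        refine ⟨?_, fun m' hm'' => (hcomm m hm' m' hm'').mul_left ?_⟩
        · rw [← pow_two, h1.mul_pow, pow_two, pow_two, Inv.sq_eq hD (hD.conj_mem d hd m), Inv.sq_eq hD hd, one_mul]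
        · have h2 := hcomm 1 (one_mem N) m' hm''
          rwa [inv_one, one_mul, mul_one] at h2
      | one => exact ⟨one_mul 1, fun m hm' => Commute.one_left _⟩
      | mul y z hyH hzH hy hz =>
        refine ⟨?_, fun m hm' => (hy.2 m hm').mul_left (hz.2 m hm')⟩
        have hyz : Commute y z := by
          clear hy hz
          induction hzH using Subgroup.closure_induction with
          | mem w hw =>
            obtain ⟨m, hm', rfl⟩ := hw
            have hyK : ∀ m ∈ N, Commute y (m * d * m⁻¹) := by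
              clear hm'
              intro m hm'
              induction hyH using Subgroup.closure_induction with
              | mem u hu =>
                obtain ⟨l, hl, rfl⟩ := hu
                have h2 := hcomm 1 (one_mem N) m hm'
                rw [inv_one, one_mul, mul_one] at h2
                simp only [Inv.inv_eq hD hd]
                exact (hcomm l hl m hm').mul_left h2
              | one => exact Commute.one_left _
              | mul u v _ _ hu hv => exact hu.mul_left hv
              | inv u _ hu => exact hu.inv_left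
            have h3 := hyK 1 (one_mem N)
            rw [inv_one, one_mul, mul_one] at h3
            simp only [Inv.inv_eq hD hd]
            exact (hyK m hm').mul_right h3
          | one => exact Commute.one_right _
          | mul u v _ _ hu hv => exact hu.mul_right hv
          | inv u _ hu => exact hu.inv_right
        rw [← pow_two, hyz.mul_pow, pow_two, pow_two, hy.1, hz.1, one_mul]
      | inv y _ hy => exact ⟨by rw [← mul_inv_rev, hy.1, inv_one], fun m hm' => (hy.2 m hm').inv_left⟩
    rintro ⟨x, hx⟩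
    exact ⟨1, Subtype.ext (by show x ^ (2 ^ 1) = 1; rw [pow_one, pow_two]; exact (key x hx).1)⟩
  have hnorm : ∀ m ∈ N, ∀ x ∈ H, m * x * m⁻¹ ∈ H := by
    intro m hm' x hx
    induction hx using Subgroup.closure_induction with
    | mem y hy =>
      obtain ⟨l, hl, rfl⟩ := hy
      have h1 : (m * l) * d * (m * l)⁻¹ * d⁻¹ ∈ H := Subgroup.subset_closure ⟨m * l, mul_mem hm' hl, rfl⟩
      have h2 : m * d * m⁻¹ * d⁻¹ ∈ H := Subgroup.subset_closure ⟨m, hm', rfl⟩
      show m * (l * d * l⁻¹ * d⁻¹) * m⁻¹ ∈ H
      rw [show m * (l * d * l⁻¹ * d⁻¹) * m⁻¹ = ((m * l) * d * (m * l)⁻¹ * d⁻¹) * (m * d * m⁻¹ * d⁻¹)⁻¹ by group]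
      exact mul_mem h1 (inv_mem h2)
    | one => simp
    | mul y z _ _ hy hz => simpa [mul_assoc] using mul_mem hy hz
    | inv y _ hy => simpa [mul_assoc] using inv_mem hy
  have hnormal : (H.subgroupOf N).Normal := ⟨fun x hx m => hnorm m m.2 x hx⟩
  have h1 : H.subgroupOf N ≤ Cfsg.pCore 2 N := Cores.le_pCore hHp.comap_subtype
  have h2 : H ≤ Cfsg.pCore 2 G := by
    rw [← inf_eq_left.2 hHN, ← Subgroup.subgroupOf_map_subtype]
    exact (Subgroup.map_mono h1).trans (Cores.map_pCore_le_of_normal N)
  exact h2 (Subgroup.subset_closure ⟨n, hn, rfl⟩)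


/-- Let G be a finite group generated by a set D of root involutions whose odd-order-product graph is connected, with some product of two different commuting members of D again in D. Then the largest solvable normal subgroup of G is the preimage of the centre of G/O₂(G), and the quotient of G by it is a simple group. -/
theorem result {G : Type*} [Group G] [Finite G] {D : Set G} (hD : Cfsg.IsRootInvolutionSet D)
    (hc : Cfsg.IsConnectedSet (Cfsg.OddAdj D) D) (hDD : (D ∩ Cfsg.commutingProducts D).Nonempty) :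
    Cfsg.solvableRadical G = Cfsg.twoZCore G ∧ IsSimpleGroup (G ⧸ Cfsg.twoZCore G) := by
  haveI : Fact (Nat.Prime 2) := ⟨Nat.prime_two⟩
  obtain ⟨x, hxD, a, ha, e, he, hae, -, rfl⟩ := hDD
  have htop : ∀ N : Subgroup G, N.Normal → ¬ N ≤ Cfsg.twoZCore G → N = ⊤ := fun N hN hNZ =>
    normal_eq_top hD hc ha he hae hxD hN hNZ
  have hperf := commutator_top hD (fun u hu v hv => Inv.reach_conj hD (hc u hu v hv)) ha he hxD
  have hnsol : ¬ Group.IsSolvable G := by
    intro hsol
    have : Nontrivial G := ⟨a, 1, Inv.ne_one hD ha⟩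
    exact (Group.IsSolvable.commutator_lt_top_of_nontrivial G).ne hperf
  have hZsol : Group.IsSolvable (Cfsg.twoZCore G) := by
    let K : Subgroup (Cfsg.twoZCore G) := (Cfsg.pCore 2 G).subgroupOf (Cfsg.twoZCore G)
    have : Group.IsNilpotent (Cfsg.pCore 2 G) := (Cores.pCore_isPGroup (G := G) (p := 2)).isNilpotent
    have h1 : Group.IsSolvable (Cfsg.pCore 2 G) := inferInstance
    have h2 : Group.IsSolvable K :=
      Group.isSolvable_of_isSolvable_injective (f := ((Cfsg.twoZCore G).subtype.comp K.subtype).codRestrict (Cfsg.pCore 2 G) fun z => z.2)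
        fun u v h => Subtype.ext (Subtype.ext (congrArg Subtype.val h : _))
    let ψ : Cfsg.twoZCore G →* Subgroup.center (G ⧸ Cfsg.pCore 2 G) :=
      ((QuotientGroup.mk' (Cfsg.pCore 2 G)).comp (Cfsg.twoZCore G).subtype).codRestrict _ fun z => z.2
    have h3 : Group.IsSolvable (Subgroup.center (G ⧸ Cfsg.pCore 2 G)) :=
      Group.isSolvable_of_comm fun u v => Subtype.ext (Subgroup.mem_center_iff.1 v.2 u)
    refine Group.isSolvable_of_ker_le_range K.subtype ψ fun z hz => ?_
    have h4 : ((z : G) : G ⧸ Cfsg.pCore 2 G) = 1 := congrArg Subtype.val hz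
    exact ⟨⟨z, (QuotientGroup.eq_one_iff (z : G)).1 h4⟩, rfl⟩
  have hne : Cfsg.twoZCore G ≠ ⊤ := by
    intro h
    exact hnsol (Group.isSolvable_of_surjective (f := (Cfsg.twoZCore G).subtype)
      fun g => ⟨⟨g, h ▸ Subgroup.mem_top g⟩, rfl⟩)
  refine ⟨le_antisymm (sSup_le fun N hN => ?_) (le_sSup ⟨inferInstance, hZsol⟩), ?_⟩
  · by_contra hNZ
    obtain ⟨hN, hNs⟩ := hN
    have h := htop N hN hNZ
    subst h
    exact hnsol (Group.isSolvable_of_surjective (f := (⊤ : Subgroup G).subtype)
      fun g => ⟨⟨g, Subgroup.mem_top g⟩, rfl⟩)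
  · have : Nontrivial (G ⧸ Cfsg.twoZCore G) := by
      by_contra h
      exact hne (QuotientGroup.subgroup_eq_top_of_subsingleton _ (not_nontrivial_iff_subsingleton.1 h))
    refine { eq_bot_or_eq_top_of_normal := fun M hM => ?_ }
    have := hM
    by_cases hN : M.comap (QuotientGroup.mk' (Cfsg.twoZCore G)) ≤ Cfsg.twoZCore G
    · left
      rw [Subgroup.eq_bot_iff_forall]
      intro q hq
      obtain ⟨g, rfl⟩ := QuotientGroup.mk'_surjective _ q
      exact (QuotientGroup.eq_one_iff g).2 (hN hq)
    · right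
      rw [← Subgroup.map_comap_eq_self_of_surjective (QuotientGroup.mk'_surjective _) M,
        htop _ inferInstance hN, Subgroup.map_top_of_surjective _ (QuotientGroup.mk'_surjective _)]

end Cfsg.Agent.S5048
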