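import Cfsg.Statements.S5049
import Cfsg.Agent.H87.InvBlocks
-- import your own Cfsg.Agent.* helpers here

set_option autoImplicit false
open Cfsg

namespace Cfsg.Agent.S5049

open Cfsg.Agent.H87
open scoped commutatorElement


/-- Let G be a finite group generated by a set D of odd transpositions (root involutions with no product of order 4), Q = O₂(G), and for a ∈ D let Q_a be the commutator subgroup of Q with a. Then every member of D commuting with a centralizes Q_a; and for b ∈ D with ab of odd order greater than 1, the centralizer of ab in Q is the intersection of the centralizers of a and b in Q. -/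
theorem result {G : Type*} [Group G] [Finite G] {D : Set G} (hD : Cfsg.IsOddTranspositionSet D) {a : G} (ha : a ∈ D) :
    (∀ e ∈ Cfsg.commutingMembers D a, ∀ q ∈ ⁅Cfsg.pCore 2 G, Subgroup.zpowers a⁆, e * q = q * e) ∧
    (∀ b ∈ Cfsg.oddPartners D a,
      Cfsg.pCore 2 G ⊓ Subgroup.centralizer {a * b} = Cfsg.pCore 2 G ⊓ Subgroup.centralizer {a} ⊓ Subgroup.centralizer {b}) := by
  obtain ⟨hS, hno⟩ := hD
  haveI : Fact (Nat.Prime 2) := ⟨Nat.prime_two⟩
  have hp : ∀ u ∈ Cfsg.pCore 2 G, ∃ k : ℕ, u ^ (2 ^ k) = 1 := fun u hu => by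
    obtain ⟨k, hk⟩ := Cores.pCore_isPGroup (G := G) (p := 2) ⟨u, hu⟩
    exact ⟨k, congrArg Subtype.val hk⟩
  have hq : ∀ x ∈ D, ∀ q ∈ Cfsg.pCore 2 G, ∀ e ∈ D, Commute e x → Commute e (q * x * q⁻¹) := by
    intro x hx q hqQ e he hex
    have hx' := hS.conj_mem x hx q
    rcases Inv.cases' hS he hx' with h | h | h
    · exact h
    · exfalso
      let φ := QuotientGroup.mk' (Cfsg.pCore 2 G)
      have hφq : φ q = 1 := (QuotientGroup.eq_one_iff q).2 hqQ
      have h1 : φ (e * (q * x * q⁻¹)) ^ 2 = 1 := by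
        rw [map_mul φ e, map_mul, map_mul, map_inv, hφq, inv_one, one_mul, mul_one, ← map_mul, ← map_pow,
          hex.mul_pow, pow_two, pow_two, Inv.sq_eq hS he, Inv.sq_eq hS hx, one_mul, map_one]
      have h2 : φ (e * (q * x * q⁻¹)) = 1 := Inv.eq_one_of_odd (by rw [← pow_two]; exact h1) h.2.2.2
        (by rw [← map_pow, pow_orderOf_eq_one, map_one])
      obtain ⟨k, hk⟩ := hp _ ((QuotientGroup.eq_one_iff _).1 h2)
      have h3 : orderOf (e * (q * x * q⁻¹)) = 1 :=
        Nat.eq_one_of_dvd_coprimes ((Nat.coprime_two_right.2 h.2.2.2).pow_right k) dvd_rfl (orderOf_dvd_of_pow_eq_one hk)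
      rw [orderOf_eq_one_iff] at h3
      exact h.2.2.1 ((eq_inv_of_mul_eq_one_left h3).trans (Inv.inv_eq hS hx'))
    · exact absurd h.2.2 (hno _ he _ hx')
  refine ⟨fun e he => ?_, fun b hb => ?_⟩
  · have hea : Commute e a := he.2
    suffices ⁅Cfsg.pCore 2 G, Subgroup.zpowers a⁆ ≤ Subgroup.centralizer {e} from
      fun q hq' => (Subgroup.mem_centralizer_singleton_iff.1 (this hq')).symm
    rw [Subgroup.commutator_le]
    rintro q hqQ _ ⟨m, rfl⟩
    refine Subgroup.mem_centralizer_singleton_iff.2 ?_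
    show ⁅q, a ^ m⁆ * e = e * ⁅q, a ^ m⁆
    have h2 : a ^ (2 : ℤ) = 1 := by rw [zpow_two, Inv.sq_eq hS ha]
    rcases Int.even_or_odd' m with ⟨k, rfl | rfl⟩
    · rw [zpow_mul, h2, one_zpow, commutatorElement_one_right, one_mul, mul_one]
    · rw [zpow_add, zpow_mul, h2, one_zpow, zpow_one, one_mul, commutatorElement_def, Inv.inv_eq hS ha]
      exact ((hq a ha q hqQ e he.1 hea).mul_right hea).eq.symm
  · obtain ⟨hbD, hba, hodd⟩ := hb
    have hab : Cfsg.OddAdj D a b := ⟨ha, hbD, hba.symm, hodd⟩
    refine le_antisymm ?_ ?_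
    · intro z hz
      obtain ⟨hzQ, hzc⟩ := Subgroup.mem_inf.1 hz
      rw [Subgroup.mem_centralizer_singleton_iff] at hzc
      set a' := z * a * z⁻¹ with ha'
      set b' := z * b * z⁻¹ with hb'
      have ha'D : a' ∈ D := hS.conj_mem a ha z
      have hb'D : b' ∈ D := hS.conj_mem b hbD z
      have haa : Commute a a' := hq a ha z hzQ a ha (Commute.refl a)
      have hbb : Commute b b' := hq b hbD z hzQ b hbD (Commute.refl b)
      have hprod : a' * b' = a * b := by
        rw [ha', hb', show z * a * z⁻¹ * (z * b * z⁻¹) = z * (a * b) * z⁻¹ by group, hzc, mul_inv_cancel_right]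
      set t := a * a' with ht
      have htb : t = b * b' := by
        have h1 : a * a' * b' = b := by rw [mul_assoc, hprod, Inv.self_mul_cancel hS ha]
        rw [ht, show a * a' = a * a' * b' * b' by rw [mul_assoc _ b' b', Inv.sq_eq hS hb'D, mul_one], h1]
      have ht1 : t = 1 := by
        by_contra h
        refine Inv.center_false hS ?_ h ?_ ?_ hab ?_
        · rw [ht, ← pow_two, haa.mul_pow, pow_two, pow_two, Inv.sq_eq hS ha, Inv.sq_eq hS ha'D, one_mul]
        · exact (Commute.refl a).mul_left haa.symm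
        · rw [htb]; exact (Commute.refl b).mul_left hbb.symm
        · rw [htb, ← mul_assoc, Inv.sq_eq hS hbD, one_mul]; exact hb'D
      have e1 : a' = a := by
        have := congrArg (fun u => a * u) ht1
        rwa [ht, Inv.self_mul_cancel hS ha, mul_one] at this
      have e2 : b' = b := by
        have := congrArg (fun u => b * u) (htb.symm.trans ht1)
        rwa [Inv.self_mul_cancel hS hbD, mul_one] at this
      refine ⟨⟨hzQ, Subgroup.mem_centralizer_singleton_iff.2 ?_⟩, Subgroup.mem_centralizer_singleton_iff.2 ?_⟩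
      · exact mul_inv_eq_iff_eq_mul.1 e1
      · exact mul_inv_eq_iff_eq_mul.1 e2
    · rintro z ⟨⟨hzQ, hza⟩, hzb⟩
      refine ⟨hzQ, Subgroup.mem_centralizer_singleton_iff.2 ?_⟩
      exact (((show Commute z a from Subgroup.mem_centralizer_singleton_iff.1 hza)).mul_right
        (Subgroup.mem_centralizer_singleton_iff.1 hzb)).eq

end Cfsg.Agent.S5049
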