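import Cfsg.Statements.S5058
import Mathlib
import Cfsg.Agent.Linear.Generation
import Cfsg.Agent.H53.SLPerm

set_option autoImplicit false
open Matrix
open Cfsg

namespace Cfsg.Agent.S5058

open Matrix

/-- Products of two square-zero elements `A`, `B` of the kind given by transvections, characteristic two. -/
lemma pair_lemma {F : Type*} [Field F] [CharP F 2] {R : Type*} [Ring R] [Algebra F R] (A B : R) (s : F)
    (hA : A * A = 0) (hB : B * B = 0) (hABA : A * B * A = s • A) (hBAB : B * A * B = s • B)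
    (hA0 : A ≠ 0) :
    (s = 0 → A * B = 0 → B * A = 0 → (1 + A) * (1 + B) = (1 + B) * (1 + A)) ∧
    ((s : F) ≠ 0 → ∀ m : ℕ, ((1 + A) * (1 + B)) ^ (2 * m) = 1 → ((1 + A) * (1 + B)) ^ m = 1) ∧
    (s = 1 → ((1 + A) * (1 + B)) ^ 3 = 1) ∧
    (s = 0 → ((1 + A) * (1 + B)) ^ 2 = 1 + (A * B + B * A)) := by
  have h2 : (2 : F) = 0 := CharTwo.two_eq_zero
  have hR : ∀ x : R, x + x = 0 := fun x => by rw [← two_smul F x, h2, zero_smul]
  have eAA : ∀ X : R, X * A * A = 0 := fun X => by rw [mul_assoc, hA, mul_zero]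
  have eBB : ∀ X : R, X * B * B = 0 := fun X => by rw [mul_assoc, hB, mul_zero]
  have hz : ∀ (c : F) (x : R), (c + c) • x = 0 := fun c x => by rw [CharTwo.add_self_eq_zero, zero_smul]
  set M := A + B + A * B with hM
  set N := (1 + s) • (A * B) + B * A + s • A + s • B with hN
  have hMM : M * M = N := by
    simp only [hM, hN, add_mul, mul_add, ← mul_assoc, hA, hB, hABA, hBAB, eAA, eBB, zero_mul, mul_zero,
      smul_mul_assoc, add_smul, one_smul, zero_add, add_zero]
    abel
  have hMMM : N * M = s • N + s • M := by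
    simp only [hM, hN, add_mul, mul_add, ← mul_assoc, hA, hB, hABA, hBAB, eAA, eBB, zero_mul, mul_zero,
      smul_mul_assoc, add_smul, one_smul, zero_add, add_zero, smul_add, smul_smul, smul_zero]
    have e : ∀ x : R, x + x = 0 := hR
    match_scalars <;> first | ring1 | linear_combination s * h2 | linear_combination (-s) * h2
  have hP : (1 + A) * (1 + B) = 1 + M := by rw [hM]; noncomm_ring
  have hone : ∀ X : R, (1 + X) * (1 + X) = 1 + (X + X) + X * X := fun X => by
    rw [add_mul, one_mul, mul_add, mul_one]; abel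
  clear_value M N
  rw [hP]
  have hsq : (1 + M) ^ 2 = 1 + N := by
    rw [pow_two, ← hMM, show (1 + M) * (1 + M) = 1 + (M + M) + M * M by noncomm_ring, hR, add_zero]
  refine ⟨fun hs hAB hBA => ?_, fun hs m hm => ?_, fun hs => ?_, fun hs => ?_⟩
  · rw [hM, hAB, add_zero, show (1 + B) * (1 + A) = 1 + B + A + B * A by noncomm_ring, hBA, add_zero]
    abel
  · have hlin : ∀ j, ∃ c d : F, (1 + M) ^ j = 1 + (c • M + d • N) := by
      intro j
      induction j with
      | zero => exact ⟨0, 0, by simp⟩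
      | succ j ih =>
        obtain ⟨c, d, h⟩ := ih
        refine ⟨1 + c + d * s, c + d + d * s, ?_⟩
        rw [pow_succ, h, show (1 + (c • M + d • N)) * (1 + M) =
            1 + M + (c • M + d • N) + ((c • M) * M + (d • N) * M) by noncomm_ring,
          smul_mul_assoc, smul_mul_assoc, hMM, hMMM]
        module
    obtain ⟨c, d, h⟩ := hlin m
    rw [mul_comm, pow_mul, h, pow_two, hone, hR, add_zero, add_eq_left] at hm
    have hNN : N * N = s • (s • N + s • M) + s • N := by
      rw [show N * N = N * M * M by rw [mul_assoc, hMM], hMMM, add_mul, smul_mul_assoc, smul_mul_assoc, hMM, hMMM]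
    have hMN : M * N = N * M := by rw [← hMM, mul_assoc]
    have hcoef : (d * d * s * s) • M + (c * c + d * d * (s * s + s)) • N = 0 := by
      rw [← hm]
      simp only [add_mul, mul_add, smul_mul_assoc, mul_smul_comm, smul_smul, hMM, hMN, hNN, hMMM, smul_add]
      match_scalars
      all_goals first | ring1 | linear_combination (c * d * s) * h2 | linear_combination (-(c * d * s)) * h2
    set p := d * d * s * s
    set q := c * c + d * d * (s * s + s)
    have eM1 : A * M * A = s • A := by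
      simp only [hM, add_mul, mul_add, ← mul_assoc, hA, hB, hABA, hBAB, eAA, eBB, zero_mul, mul_zero,
        smul_mul_assoc, zero_add, add_zero]
    have eN1 : A * N * A = (s * s) • A := by
      simp only [hN, add_mul, mul_add, ← mul_assoc, hA, hB, hABA, hBAB, eAA, eBB, zero_mul, mul_zero,
        smul_mul_assoc, mul_smul_comm, zero_add, add_zero, smul_zero, smul_smul, smul_add, add_smul, one_smul]
    have eM2 : B * M * A = s • (B * A) := by
      simp only [hM, add_mul, mul_add, ← mul_assoc, hA, hB, hABA, hBAB, eAA, eBB, zero_mul, mul_zero,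
        smul_mul_assoc, zero_add, add_zero]
    have eN2 : B * N * A = ((1 + s) * s) • (B * A) := by
      simp only [hN, add_mul, mul_add, ← mul_assoc, hA, hB, hABA, hBAB, eAA, eBB, zero_mul, mul_zero,
        smul_mul_assoc, mul_smul_comm, zero_add, add_zero, smul_zero, smul_smul, smul_add, add_smul, one_smul]
      module
    have hBA0 : B * A ≠ 0 := fun h => hA0 (by
      have := hABA
      rw [mul_assoc, h, mul_zero] at this
      exact (smul_eq_zero.1 this.symm).resolve_left hs)
    have k1 := congrArg (fun x => A * x * A) hcoef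
    have k2 := congrArg (fun x => B * x * A) hcoef
    simp only [mul_add, add_mul, mul_smul_comm, smul_mul_assoc, mul_zero, zero_mul, eM1, eN1, eM2, eN2,
      smul_smul, ← add_smul] at k1 k2
    have l1 := (smul_eq_zero.1 k1).resolve_right hA0
    have l2 := (smul_eq_zero.1 k2).resolve_right hBA0
    have hq : q = 0 := (mul_eq_zero.1 (by linear_combination l2 - l1 : q * s = 0)).resolve_right hs
    have hp : p = 0 := (mul_eq_zero.1 (by linear_combination l1 - s * s * hq : p * s = 0)).resolve_right hs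
    have hd : d = 0 := by
      simp only [p] at hp
      rcases mul_eq_zero.1 hp with h | h
      · rcases mul_eq_zero.1 h with h | h
        · exact mul_self_eq_zero.1 h
        · exact absurd h hs
      · exact absurd h hs
    simp only [q, hd, zero_mul, add_zero] at hq
    rw [h, hd, mul_self_eq_zero.1 hq]
    simp
  · rw [pow_succ, hsq, show (1 + N) * (1 + M) = 1 + M + N + N * M by noncomm_ring, hMMM, hs, one_smul, one_smul,
      show 1 + M + N + (N + M) = 1 + ((M + M) + (N + N)) by abel, hR, hR, add_zero, add_zero]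
  · rw [hsq, hN, hs]
    simp

variable {F : Type*} [Field F] {ι : Type*} [Fintype ι] [DecidableEq ι]

lemma vmv_mul (a φ b ψ : ι → F) :
    vecMulVec a φ * vecMulVec b ψ = (φ ⬝ᵥ b) • vecMulVec a ψ := by
  ext i j
  simp only [Matrix.mul_apply, vecMulVec_apply, Matrix.smul_apply, smul_eq_mul, dotProduct, Finset.sum_mul]
  exact Finset.sum_congr rfl fun k _ => by ring

lemma vmv_eq_zero {a φ : ι → F} : vecMulVec a φ = 0 ↔ a = 0 ∨ φ = 0 := by
  constructor
  · intro h
    by_contra! hne
    obtain ⟨i, hi⟩ := Function.ne_iff.1 hne.1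
    obtain ⟨j, hj⟩ := Function.ne_iff.1 hne.2
    exact mul_ne_zero hi hj (congrFun (congrFun h i) j)
  · rintro (rfl | rfl) <;> ext i j <;> simp [vecMulVec_apply]

lemma transvection_eq (i j : ι) (c : F) :
    Matrix.transvection i j c = 1 + vecMulVec (Pi.single i 1) (Pi.single j c) := by
  rw [Matrix.transvection]
  congr 1
  ext k l
  simp only [vecMulVec_apply, Matrix.single_apply, Pi.single_apply]
  by_cases hk : i = k <;> by_cases hl : j = l <;> simp [hk, hl, Ne.symm]

/-- Every transvection is conjugate to the standard one. -/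
lemma exists_std {F : Type*} [Field F] [Fintype F] {n : ℕ}
    (t : Matrix.SpecialLinearGroup (Fin (n + 3)) F) (a φ : Fin (n + 3) → F) (ha : a ≠ 0) (hφ : φ ≠ 0)
    (h0 : φ ⬝ᵥ a = 0) (ht : t.1 = 1 + vecMulVec a φ) :
    ∃ g : Matrix.SpecialLinearGroup (Fin (n + 3)) F, (g⁻¹ * t * g).1 = Matrix.transvection 0 1 1 := by
  classical
  obtain ⟨y, hy⟩ : ∃ y, φ ⬝ᵥ y = 1 := by
    obtain ⟨j, hj⟩ := Function.ne_iff.1 hφ
    exact ⟨Pi.single j (φ j)⁻¹, by rw [dotProduct_single, mul_inv_cancel₀ hj]⟩
  have hli : LinearIndependent F ![a, y] := by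
    rw [LinearIndependent.pair_iff]
    intro c d hcd
    have h := congrArg (fun z => φ ⬝ᵥ z) hcd
    simp only [dotProduct_add, dotProduct_smul, h0, hy, smul_eq_mul, mul_zero, mul_one, zero_add,
      dotProduct_zero] at h
    rw [h, zero_smul, add_zero] at hcd
    exact ⟨(smul_eq_zero.1 hcd).resolve_right ha, h⟩
  obtain ⟨g, hg⟩ := Cfsg.Agent.H53.exists_act_eq ![a, y] hli (by omega)
  have hg0 : g.1 *ᵥ Pi.single 0 1 = a := hg 0
  have hg1 : g.1 *ᵥ Pi.single 1 1 = y := hg 1
  set ψ := φ ᵥ* g.1 with hψ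
  set w := Pi.single 1 (1 : F) - ψ with hw
  have hψ0 : ψ ⬝ᵥ Pi.single 0 1 = 0 := by rw [hψ, ← Matrix.dotProduct_mulVec, hg0, h0]
  have hψ1 : ψ ⬝ᵥ Pi.single 1 1 = 1 := by rw [hψ, ← Matrix.dotProduct_mulVec, hg1, hy]
  have hw1 : w ⬝ᵥ Pi.single 1 1 = 0 := by rw [hw, sub_dotProduct, hψ1]; simp
  have hdet : (1 + vecMulVec (Pi.single 1 1) w).det = 1 := by
    rw [Matrix.vecMulVec_eq Unit, Matrix.det_one_add_replicateCol_mul_replicateRow, hw1, add_zero]
  let h : Matrix.SpecialLinearGroup (Fin (n + 3)) F := ⟨_, hdet⟩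
  refine ⟨g * h, ?_⟩
  have he0 : h.1 *ᵥ Pi.single 0 1 = Pi.single 0 1 := by
    show (1 + vecMulVec (Pi.single 1 1) w) *ᵥ Pi.single 0 1 = _
    have : w ⬝ᵥ Pi.single 0 1 = 0 := by rw [hw, sub_dotProduct, hψ0]; simp
    rw [add_mulVec, one_mulVec, vecMulVec_mulVec, this]
    simp
  have hrow : φ ᵥ* (g.1 * h.1) = Pi.single 1 1 := by
    show φ ᵥ* (g.1 * (1 + vecMulVec (Pi.single 1 1) w)) = _
    rw [← Matrix.vecMul_vecMul, ← hψ, Matrix.vecMul_add, Matrix.vecMul_one, Matrix.vecMul_vecMulVec, hψ1, one_smul, hw]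
    abel
  have key : t * (g * h) = (g * h) * (Matrix.SpecialLinearGroup.transvection (show (0 : Fin (n + 3)) ≠ 1 by simp) 1) := by
    apply Subtype.ext
    show t.1 * (g.1 * h.1) = g.1 * h.1 * Matrix.transvection 0 1 1
    generalize hH : h.1 = H at hrow he0 ⊢
    rw [ht, transvection_eq, add_mul, one_mul, mul_add, mul_one, Matrix.mul_vecMulVec, Matrix.vecMulVec_mul,
      hrow, ← Matrix.mulVec_mulVec, he0, hg0]
  rw [mul_assoc, key, ← mul_assoc, inv_mul_cancel, one_mul]
  rfl

/-- Let F be a finite field of characteristic 2 and n a natural number. Then the transvections of SL_{n+3}(F) (so in every dimension at least 3) (the conjugates of the elementary matrices 1 + c E₁₂, c ≠ 0) form a class of root involutions of SL_{n+3}(F); when F has two elements they form a class of {3,4}⁺-transpositions (every product of odd order has order 1 or 3). -/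
theorem result (F : Type*) [Field F] [Fintype F] [CharP F 2] (n : ℕ) :
    Cfsg.IsRootInvolutionClass {t : Matrix.SpecialLinearGroup (Fin (n + 3)) F | ∃ c : F, c ≠ 0 ∧
        ∃ g : Matrix.SpecialLinearGroup (Fin (n + 3)) F, ((g⁻¹ * t * g : Matrix.SpecialLinearGroup (Fin (n + 3)) F) :
          Matrix (Fin (n + 3)) (Fin (n + 3)) F) = Matrix.transvection 0 1 c} ∧
    (Fintype.card F = 2 → Cfsg.IsThreeFourPlusTranspositionSet {t : Matrix.SpecialLinearGroup (Fin (n + 3)) F | ∃ c : F, c ≠ 0 ∧
        ∃ g : Matrix.SpecialLinearGroup (Fin (n + 3)) F, ((g⁻¹ * t * g : Matrix.SpecialLinearGroup (Fin (n + 3)) F) :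
          Matrix (Fin (n + 3)) (Fin (n + 3)) F) = Matrix.transvection 0 1 c}) := by
  classical
  set D : Set (Matrix.SpecialLinearGroup (Fin (n + 3)) F) := {t | ∃ c : F, c ≠ 0 ∧
        ∃ g : Matrix.SpecialLinearGroup (Fin (n + 3)) F, ((g⁻¹ * t * g : Matrix.SpecialLinearGroup (Fin (n + 3)) F) :
          Matrix (Fin (n + 3)) (Fin (n + 3)) F) = Matrix.transvection 0 1 c} with hD
  have h01 : (0 : Fin (n + 3)) ≠ 1 := by simp
  have hin : ∀ t : Matrix.SpecialLinearGroup (Fin (n + 3)) F, ∀ a φ, a ≠ 0 → φ ≠ 0 → φ ⬝ᵥ a = 0 →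
      t.1 = 1 + vecMulVec a φ → t ∈ D := fun t a φ ha hφ h0 ht =>
    ⟨1, one_ne_zero, exists_std t a φ ha hφ h0 ht⟩
  have hout : ∀ t ∈ D, ∃ a φ, a ≠ 0 ∧ φ ≠ 0 ∧ φ ⬝ᵥ a = 0 ∧ t.1 = 1 + vecMulVec a φ := by
    rintro t ⟨c, hc, g, hg⟩
    have ht : t.1 = g.1 * Matrix.transvection 0 1 c * (g⁻¹).1 := by
      rw [← hg, ← Matrix.SpecialLinearGroup.coe_mul, ← Matrix.SpecialLinearGroup.coe_mul]
      exact congrArg Subtype.val (show t = g * (g⁻¹ * t * g) * g⁻¹ by simp [mul_assoc])
    have hgi : (g⁻¹).1 * g.1 = 1 := congrArg Subtype.val (inv_mul_cancel g)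
    have hgi' : g.1 * (g⁻¹).1 = 1 := congrArg Subtype.val (mul_inv_cancel g)
    refine ⟨g.1 *ᵥ Pi.single 0 1, Pi.single 1 c ᵥ* (g⁻¹).1, ?_, ?_, ?_, ?_⟩
    · intro h
      have := congrArg (fun z => (g⁻¹).1 *ᵥ z) h
      simp only [Matrix.mulVec_mulVec, hgi, Matrix.one_mulVec, Matrix.mulVec_zero] at this
      simp at this
    · intro h
      have := congrArg (fun z => z ᵥ* g.1) h
      simp only [Matrix.vecMul_vecMul, hgi, Matrix.vecMul_one, Matrix.zero_vecMul] at this
      simp [hc] at this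
    · rw [← Matrix.dotProduct_mulVec, Matrix.mulVec_mulVec, hgi, Matrix.one_mulVec]
      simp
    · rw [ht, transvection_eq, mul_add, mul_one, add_mul, hgi', Matrix.mul_vecMulVec, Matrix.vecMulVec_mul]
  have hconj : ∀ d ∈ D, ∀ g, g * d * g⁻¹ ∈ D := by
    rintro d ⟨c, hc, h, hh⟩ g
    refine ⟨c, hc, g * h, ?_⟩
    rw [show (g * h)⁻¹ * (g * d * g⁻¹) * (g * h) = h⁻¹ * d * h by group]
    exact hh
  have h2 : (2 : F) = 0 := CharTwo.two_eq_zero
  have hord : ∀ d ∈ D, orderOf d = 2 := by
    intro d hd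
    obtain ⟨a, φ, ha, hφ, h0, hd'⟩ := hout d hd
    refine orderOf_eq_prime ?_ fun h => ?_
    · apply Subtype.ext
      rw [pow_two, Matrix.SpecialLinearGroup.coe_mul, hd', add_mul, one_mul, mul_add, mul_one, vmv_mul, h0,
        zero_smul, add_zero, Matrix.SpecialLinearGroup.coe_one, add_assoc, ← two_smul F, h2, zero_smul, add_zero]
    · rw [h, Matrix.SpecialLinearGroup.coe_one] at hd'
      rcases vmv_eq_zero.1 (left_eq_add.1 hd') with h | h
      · exact ha h
      · exact hφ h
  have hgen : Subgroup.closure D = ⊤ := by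
    refine Cfsg.Agent.Linear.eq_top_of_transvection_mem fun i j hij c => ?_
    by_cases hc : c = 0
    · subst hc
      convert Subgroup.one_mem _
      exact Subtype.ext (Matrix.transvection_zero i j)
    · exact Subgroup.subset_closure (hin _ (Pi.single i 1) (Pi.single j c) (by simp) (by simp [hc])
        (by simp [Pi.single_apply, hij]) (transvection_eq i j c))
  have hpair : ∀ x ∈ D, ∀ y ∈ D, (x * y = y * x ∨ Odd (orderOf (x * y)) ∨
      (orderOf (x * y) = 4 ∧ (x * y) ^ 2 ∈ D)) ∧
      (Fintype.card F = 2 → Odd (orderOf (x * y)) → orderOf (x * y) = 1 ∨ orderOf (x * y) = 3) := by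
    intro x hx y hy
    obtain ⟨a, φ, ha, hφ, ha0, hx'⟩ := hout x hx
    obtain ⟨b, ψ, hb, hψ, hb0, hy'⟩ := hout y hy
    set A := vecMulVec a φ
    set B := vecMulVec b ψ
    set f1 := φ ⬝ᵥ b
    set f2 := ψ ⬝ᵥ a
    have hAB : A * B = f1 • vecMulVec a ψ := vmv_mul _ _ _ _
    have hBA : B * A = f2 • vecMulVec b φ := vmv_mul _ _ _ _
    have hAA : A * A = 0 := by rw [vmv_mul, ha0, zero_smul]
    have hBB : B * B = 0 := by rw [vmv_mul, hb0, zero_smul]
    have hA0 : A ≠ 0 := fun h => (vmv_eq_zero.1 h).elim ha hφ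
    obtain ⟨hcomm, hodd, hthree, hsq⟩ := pair_lemma (F := F) A B (f1 * f2) hAA hBB
      (by rw [hAB, smul_mul_assoc, vmv_mul, smul_smul])
      (by rw [hBA, smul_mul_assoc, vmv_mul, smul_smul, mul_comm f2 f1]) hA0
    have hxy : ((x * y : Matrix.SpecialLinearGroup (Fin (n + 3)) F) : Matrix (Fin (n + 3)) (Fin (n + 3)) F) =
        (1 + A) * (1 + B) := by rw [Matrix.SpecialLinearGroup.coe_mul, hx', hy']
    by_cases hs : f1 * f2 = 0
    · by_cases h00 : f1 = 0 ∧ f2 = 0
      · have hc : x * y = y * x := by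
          apply Subtype.ext
          rw [hxy, Matrix.SpecialLinearGroup.coe_mul, hy', hx']
          exact hcomm hs (by rw [hAB, h00.1, zero_smul]) (by rw [hBA, h00.2, zero_smul])
        refine ⟨Or.inl hc, fun _ ho => Or.inl ?_⟩
        have h22 : (x * y) ^ 2 = 1 := by
          rw [Commute.mul_pow hc, ← hord x hx, pow_orderOf_eq_one, hord x hx, ← hord y hy, pow_orderOf_eq_one,
            one_mul]
        rcases (Nat.dvd_prime Nat.prime_two).1 (orderOf_dvd_of_pow_eq_one h22) with h | h
        · exact h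
        · rw [h] at ho; exact absurd ho (by decide)
      · have hsq' : ((x * y) ^ 2).1 = 1 + (A * B + B * A) := by
          rw [Matrix.SpecialLinearGroup.coe_pow, hxy]
          exact hsq hs
        have hmem : (x * y) ^ 2 ∈ D := by
          rcases mul_eq_zero.1 hs with h | h
          · have hf2 : f2 ≠ 0 := fun e => h00 ⟨h, e⟩
            refine hin _ (f2 • b) φ (smul_ne_zero hf2 hb) hφ (by rw [dotProduct_smul]; simp [f1, h, show φ ⬝ᵥ b = 0 from h]) ?_
            rw [hsq', hAB, hBA, h, zero_smul, zero_add, Matrix.smul_vecMulVec]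
          · have hf1 : f1 ≠ 0 := fun e => h00 ⟨e, h⟩
            refine hin _ (f1 • a) ψ (smul_ne_zero hf1 ha) hψ (by rw [dotProduct_smul]; simp [show ψ ⬝ᵥ a = 0 from h]) ?_
            rw [hsq', hAB, hBA, h, zero_smul, add_zero, Matrix.smul_vecMulVec]
        have h4 : orderOf (x * y) = 4 := by
          have := orderOf_eq_prime_pow (p := 2) (n := 1) (x := x * y) (by
            rw [pow_one]
            intro h
            have := hord _ hmem
            rw [h, orderOf_one] at this
            omega) (by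
            rw [show (2 : ℕ) ^ (1 + 1) = 2 * 2 from rfl, pow_mul]
            have h22 := pow_orderOf_eq_one ((x * y) ^ 2)
            rw [hord _ hmem] at h22
            exact h22)
          simpa using this
        exact ⟨Or.inr (Or.inr ⟨h4, hmem⟩), fun _ ho => by rw [h4] at ho; exact absurd ho (by decide)⟩
    · have ho : Odd (orderOf (x * y)) := by
        rw [← Nat.not_even_iff_odd]
        rintro ⟨m, hm⟩
        have hpos := orderOf_pos (x * y)
        have h1 : (x * y) ^ m = 1 := by
          apply Subtype.ext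
          rw [Matrix.SpecialLinearGroup.coe_pow, hxy]
          refine hodd hs m ?_
          rw [← hxy, ← Matrix.SpecialLinearGroup.coe_pow, two_mul, ← hm, pow_orderOf_eq_one]
          rfl
        have := orderOf_le_of_pow_eq_one (by omega) h1
        omega
      refine ⟨Or.inr (Or.inl ho), fun hq _ => ?_⟩
      have h1 : f1 * f2 = 1 := by
        have := FiniteField.pow_card_sub_one_eq_one _ hs
        simpa [hq] using this
      refine (Nat.dvd_prime Nat.prime_three).1 (orderOf_dvd_of_pow_eq_one (Subtype.ext ?_))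
      rw [Matrix.SpecialLinearGroup.coe_pow, hxy]
      exact hthree h1
  have hset : Cfsg.IsRootInvolutionSet D := ⟨hord, hgen, hconj, fun x hx y hy => (hpair x hx y hy).1⟩
  refine ⟨⟨hset, ⟨Matrix.SpecialLinearGroup.transvection h01 1, 1, one_ne_zero, 1, ?_⟩, ?_⟩, fun hq =>
    ⟨hset, fun x hx y hy => (hpair x hx y hy).2 hq⟩⟩
  · rw [inv_one, one_mul, mul_one]
    rfl
  · intro x hx y hy
    obtain ⟨a, φ, ha, hφ, ha0, hx'⟩ := hout x hx
    obtain ⟨b, ψ, hb, hψ, hb0, hy'⟩ := hout y hy
    obtain ⟨g, hg⟩ := exists_std x a φ ha hφ ha0 hx'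
    obtain ⟨h, hh⟩ := exists_std y b ψ hb hψ hb0 hy'
    have e : g⁻¹ * x * g = h⁻¹ * y * h := Subtype.ext (hg.trans hh.symm)
    refine ⟨h * g⁻¹, ?_⟩
    rw [show h * g⁻¹ * x * (h * g⁻¹)⁻¹ = h * (g⁻¹ * x * g) * h⁻¹ by group, e]
    group

end Cfsg.Agent.S5058
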