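import Cfsg.Statements.S5059
import Cfsg.Agent.H88.QBasic
-- import your own Cfsg.Agent.* helpers here

set_option autoImplicit false
universe u
open Cfsg

namespace Cfsg.Agent.S5059

/-- Let k be a field of characteristic not 2 with k not of order 3, M a finite-dimensional k-vector space and G ≤ GL(M) such that (G, M) is a quadratic pair (M irreducible for G, and G generated by its quadratically acting elements σ whose scalar family 1 + c(σ − 1), c ∈ k, lies in G). Write 𝒬_d for the quadratic elements of G of minimal commutator rank, E(σ) for the subgroup generated by the members of 𝒬_d with the same fixed space and commutator space as σ, and Σ for the set of these subgroups. Then for σ ∈ 𝒬_d the subgroup E(σ) consists exactly of those members together with the identity, it is abelian, and if k has prime characteristic p every element of E(σ) has order dividing p. -/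
theorem result {k : Type u} [Field k] (hk2 : ringChar k ≠ 2) (hk3 : Nat.card k ≠ 3)
    {M : Type u} [AddCommGroup M] [Module k M] [FiniteDimensional k M]
    {G : Subgroup (LinearMap.GeneralLinearGroup k M)} (hG : Cfsg.IsQuadraticPair G)
    {σ : LinearMap.GeneralLinearGroup k M} (hσ : σ ∈ Cfsg.minimalQuadraticElements G) :
    (Cfsg.sameActionSubgroup G σ : Set (LinearMap.GeneralLinearGroup k M)) = Cfsg.sameActionClass G σ ∪ {1} ∧
    IsMulCommutative ↥(Cfsg.sameActionSubgroup G σ) ∧
    (∀ p : ℕ, p.Prime → ringChar k = p → ∀ x ∈ Cfsg.sameActionSubgroup G σ, x ^ p = 1) := by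
  have hA := H88.mem_minimalQuadraticElements_iff.1 hσ
  refine ⟨?_, ?_, ?_⟩
  · rw [H88.sameActionSubgroup_eq hA, H88.sameActionClass_eq hA]
    ext τ
    by_cases h : τ = 1
    · simp [h]
    · simp [h]
  · rw [H88.sameActionSubgroup_eq hA]
    exact ⟨⟨fun a b => Subtype.ext (H88.rootGroup_commute a.2 b.2)⟩⟩
  · intro p hp hchar x hx
    rw [H88.sameActionSubgroup_eq hA] at hx
    have hsq := H88.rootSpace_mul (H88.mem_rootGroup.1 hx) (H88.mem_rootGroup.1 hx)
    have key : ∀ n : ℕ, ((x ^ n : LinearMap.GeneralLinearGroup k M) : Module.End k M)
        = 1 + (n : k) • ((x : Module.End k M) - 1) := by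
      intro n
      induction n with
      | zero => simp
      | succ n ih =>
        rw [pow_succ, Units.val_mul, ih]
        nth_rewrite 2 [show (x : Module.End k M) = 1 + ((x : Module.End k M) - 1) by abel]
        rw [mul_add, mul_one, add_mul, one_mul, smul_mul_assoc, hsq, smul_zero, add_zero]
        push_cast
        rw [add_smul, one_smul, add_assoc]
    haveI := ringChar.of_eq hchar
    ext1
    rw [key p, CharP.cast_eq_zero, zero_smul, add_zero, Units.val_one]

end Cfsg.Agent.S5059
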