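import Cfsg.Statements.S5060
import Cfsg.Agent.H88.SL2Gen
-- import your own Cfsg.Agent.* helpers here

set_option autoImplicit false
open Cfsg

namespace Cfsg.Agent.S5060

theorem H88_two {k : Type*} [Field k] (hk : ringChar k ≠ 2) : (2 : k) ≠ 0 := Ring.two_ne_zero hk

/-- Let k ⊆ K be fields with the characteristic of k not 2 and k not of order 3, and let α ∈ K be a non-zero element algebraic over k. Then the subgroup of SL₂(K) generated by the upper unitriangular matrices with entry c and the lower unitriangular matrices with entry cα, c ranging over k, is exactly the group of matrices of SL₂(K) with all entries in k(α). -/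
theorem result {k K : Type*} [Field k] [Field K] [Algebra k K] (hk2 : ringChar k ≠ 2) (hk3 : Nat.card k ≠ 3)
    (α : K) (hα : IsAlgebraic k α) (hα0 : α ≠ 0) :
    (Subgroup.closure ({g : Matrix.SpecialLinearGroup (Fin 2) K | ∃ c : k, (g : Matrix (Fin 2) (Fin 2) K) = !![1, algebraMap k K c; 0, 1]} ∪
        {g : Matrix.SpecialLinearGroup (Fin 2) K | ∃ c : k, (g : Matrix (Fin 2) (Fin 2) K) = !![1, 0; algebraMap k K c * α, 1]}) :
      Set (Matrix.SpecialLinearGroup (Fin 2) K)) =
    {g : Matrix.SpecialLinearGroup (Fin 2) K | ∀ i j : Fin 2, (g : Matrix (Fin 2) (Fin 2) K) i j ∈ IntermediateField.adjoin k ({α} : Set K)} := by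
  set K₀ := IntermediateField.adjoin k ({α} : Set K) with hK₀
  have hmemα : α ∈ K₀ := IntermediateField.mem_adjoin_simple_self k α
  set pb := IntermediateField.adjoin.powerBasis hα.isIntegral with hpb
  set φ : Matrix.SpecialLinearGroup (Fin 2) K₀ →* Matrix.SpecialLinearGroup (Fin 2) K :=
    Matrix.SpecialLinearGroup.map K₀.val.toRingHom with hφ
  set Sgen : Set (Matrix.SpecialLinearGroup (Fin 2) K) := _ ∪ _ with hS
  have hgen : pb.gen = ⟨α, hmemα⟩ := rfl
  have hΓ : (Subgroup.closure Sgen).comap φ = ⊤ := by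
    refine H88.sl2_gen_eq_top pb (H88_two hk2) hk3 ?_ _ (fun c => ?_) (fun c => ?_)
    · rw [hgen]; exact fun e => hα0 (congrArg Subtype.val e)
    · refine Subgroup.subset_closure (Or.inl ⟨c, ?_⟩)
      ext i j
      fin_cases i <;> fin_cases j <;> simp [hφ]
    · refine Subgroup.subset_closure (Or.inr ⟨c, ?_⟩)
      ext i j
      fin_cases i <;> fin_cases j <;> simp [hφ, hgen]
  refine Set.Subset.antisymm ?_ fun g hg => ?_
  · have hle : Subgroup.closure Sgen ≤ φ.range := by
      refine (Subgroup.closure_le _).2 ?_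
      rintro g (⟨c, hc⟩ | ⟨c, hc⟩)
      · exact ⟨H88.uu (algebraMap k K₀ c), Subtype.ext (by
          rw [hc]; ext i j; fin_cases i <;> fin_cases j <;> simp [hφ])⟩
      · exact ⟨H88.vv (algebraMap k K₀ c * ⟨α, hmemα⟩), Subtype.ext (by
          rw [hc]; ext i j; fin_cases i <;> fin_cases j <;> simp [hφ])⟩
    intro g hg
    obtain ⟨h, rfl⟩ := hle hg
    intro i j
    exact (h.1 i j).2
  · let h : Matrix.SpecialLinearGroup (Fin 2) K₀ :=
      ⟨Matrix.of fun i j => ⟨(g : Matrix (Fin 2) (Fin 2) K) i j, hg i j⟩, Subtype.ext (by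
        have := g.2
        rw [Matrix.det_fin_two] at this ⊢
        simpa using this)⟩
    have hh : h ∈ (Subgroup.closure Sgen).comap φ := by rw [hΓ]; trivial
    have e : φ h = g := Subtype.ext (by ext i j; fin_cases i <;> fin_cases j <;> rfl)
    rw [← e]; exact hh

end Cfsg.Agent.S5060
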