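import Cfsg.Statements.S5061
import Cfsg.Agent.H88.QBaer

set_option autoImplicit false
open Cfsg

namespace Cfsg.Agent.S5061

/-- Let M be a finite-dimensional vector space over a field k, G ≤ GL(M), and 𝒲 a set of subgroups of G, invariant under conjugation by G, such that any two members of 𝒲 generate a subgroup acting unipotently on M (for some n all products of n endomorphisms g − 1 from it vanish). Then the subgroup generated by all members of 𝒲 acts unipotently on M and is normal in G. -/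
theorem result {k : Type*} [Field k] {M : Type*} [AddCommGroup M] [Module k M] [FiniteDimensional k M]
    {G : Subgroup (LinearMap.GeneralLinearGroup k M)} {W : Set (Subgroup (LinearMap.GeneralLinearGroup k M))} (hWG : ∀ A ∈ W, A ≤ G)
    (hWW : ∀ A ∈ W, ∀ B ∈ W, Cfsg.IsUnipotentOn (A ⊔ B)) (hWconj : ∀ A ∈ W, ∀ g ∈ G, Cfsg.conjBy A g ∈ W) :
    Cfsg.IsUnipotentOn (⨆ A ∈ W, A) ∧ ∀ g ∈ G, Cfsg.conjBy (⨆ A ∈ W, A) g = ⨆ A ∈ W, A := by
  classical
  let T : Set (LinearMap.GeneralLinearGroup k M) := {x | ∃ A ∈ W, x ∈ A}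
  have hsup : (⨆ A ∈ W, A) = Subgroup.closure T := by
    refine le_antisymm (iSup₂_le fun A hA x hx => Subgroup.subset_closure ⟨A, hA, hx⟩) ?_
    rw [Subgroup.closure_le]
    rintro x ⟨A, hA, hx⟩
    exact le_biSup (fun B => B) hA hx
  have hT : ∀ x ∈ T, ∀ y ∈ T, x * y * x⁻¹ ∈ T := by
    rintro x ⟨A, hA, hx⟩ y ⟨B, hB, hy⟩
    exact ⟨_, hWconj B hB x (hWG A hA hx), Subgroup.mem_map_of_mem _ hy⟩
  have hpair : ∀ x ∈ T, ∀ y ∈ T, H88.Vanishing ({x, y} : Set (Module.End k M)ˣ) := by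
    rintro x ⟨A, hA, hx⟩ y ⟨B, hB, hy⟩
    obtain ⟨n, hn⟩ := hWW A hA B hB
    refine ⟨n, fun l hl hlen => ?_⟩
    have key : ∀ a ∈ l, ∃ g : LinearMap.GeneralLinearGroup k M, g ∈ A ⊔ B ∧ a = (g : M →ₗ[k] M) - 1 := by
      intro a ha
      obtain ⟨g, hg, rfl⟩ := hl a ha
      rcases hg with rfl | rfl
      exacts [⟨_, Subgroup.mem_sup_left hx, rfl⟩, ⟨_, Subgroup.mem_sup_right hy, rfl⟩]
    choose toG h1 h2 using key
    have h := hn (l.attach.map fun a => toG a.1 a.2) (by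
      intro g hg
      obtain ⟨a, -, rfl⟩ := List.mem_map.1 hg
      exact h1 a.1 a.2) (by simpa using hlen)
    simp only [bind, pure, ← List.map_eq_flatMap, List.map_map] at h
    have e : l = l.attach.map fun a => (toG a.1 a.2 : M →ₗ[k] M) - 1 := by
      conv_lhs => rw [← List.attach_map_subtype_val l]
      exact List.map_congr_left fun a _ => h2 a.1 a.2
    rw [e]
    exact h
  obtain ⟨L, hL⟩ := H88.vanishing_of_pairs hT hpair
  refine ⟨⟨L + 1, fun l hl hlen => ?_⟩, fun g hg => ?_⟩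
  · simp only [bind, pure, ← List.map_eq_flatMap, List.map_map]
    refine H88.unipotent_of_words hL (X := T) ?_ l (hsup ▸ hl) hlen
    rintro x ⟨A, hA, hx⟩
    exact ⟨H88.mem_wordSpan_one ⟨x, ⟨A, hA, hx⟩, rfl⟩,
      H88.mem_wordSpan_one ⟨x⁻¹, ⟨A, hA, A.inv_mem hx⟩, rfl⟩⟩
  · have key : ∀ g ∈ G, Cfsg.conjBy (⨆ A ∈ W, A) g ≤ ⨆ A ∈ W, A := by
      intro g hg
      rw [hsup]
      refine Subgroup.map_le_iff_le_comap.2 ((Subgroup.closure_le _).2 ?_)
      rintro x ⟨A, hA, hx⟩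
      exact Subgroup.subset_closure ⟨_, hWconj A hA g hg, Subgroup.mem_map_of_mem _ hx⟩
    refine le_antisymm (key g hg) fun x hx => ?_
    have h' := key g⁻¹ (G.inv_mem hg) (Subgroup.mem_map_of_mem _ hx)
    refine Subgroup.mem_map.2 ⟨_, h', ?_⟩
    simp [mul_assoc]

end Cfsg.Agent.S5061
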