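import Cfsg.Statements.S5063
import Cfsg.Agent.H88.QRootSet

set_option autoImplicit false
universe u
open Cfsg

namespace Cfsg.Agent.S5063

/-- Let k be a field of characteristic not 2 with k not of order 3, M a finite-dimensional k-vector space and G ≤ GL(M) such that (G, M) is a quadratic pair (M irreducible for G, and G generated by its quadratically acting elements σ whose scalar family 1 + c(σ − 1), c ∈ k, lies in G). Write 𝒬_d for the quadratic elements of G of minimal commutator rank, E(σ) for the subgroup generated by the members of 𝒬_d with the same fixed space and commutator space as σ, and Σ for the set of these subgroups. Then G is a central product of finitely many quasisimple normal subgroups G₁, …, G_s (pairwise commuting and together generating G), each generated by the quadratic elements of G it contains, and every quadratic element of G lies in one of them. -/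
theorem result {k : Type u} [Field k] (hk2 : ringChar k ≠ 2) (hk3 : Nat.card k ≠ 3)
    {M : Type u} [AddCommGroup M] [Module k M] [FiniteDimensional k M]
    {G : Subgroup (LinearMap.GeneralLinearGroup k M)} (hG : Cfsg.IsQuadraticPair G) :
    ∃ (s : ℕ) (Gi : Fin s → Subgroup (LinearMap.GeneralLinearGroup k M)),
      (∀ i, Gi i ≤ G ∧ ∀ g ∈ G, Cfsg.conjBy (Gi i) g = Gi i) ∧ (∀ i j, i ≠ j → ⁅Gi i, Gi j⁆ = ⊥) ∧ (⨆ i, Gi i) = G ∧
      (∀ i, Cfsg.IsQuasisimple ↥(Gi i) ∧ Subgroup.closure (Cfsg.quadraticElements G ∩ (Gi i : Set (LinearMap.GeneralLinearGroup k M))) = Gi i) ∧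
      Cfsg.quadraticElements G ⊆ ⋃ i, (Gi i : Set (LinearMap.GeneralLinearGroup k M)) := by
  have h2 := H88.two_ne_zero_of_ringChar hk2
  have hnu := (H88.semi_of_irreducible hG.1).noUnip
  have hgen : H88.RtGen G := by
    refine le_antisymm ((Subgroup.closure_le _).2 fun g hg => hg.mem 1 (by simp)) ?_
    conv_lhs => rw [← hG.2]
    exact Subgroup.closure_mono fun g hg => (H88.mem_quadraticElements_iff.1 hg).1
  have hiso : H88.Iso G := ⟨hG.1.1, fun W hW => hG.1.2 W fun g hg => hW g (Subgroup.mem_sup_left hg)⟩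
  obtain ⟨s, F, hF⟩ := H88.exists_factors h2 hk3 hiso hgen
  refine ⟨s, F, fun i => ⟨hF.le i, fun g hg => ?_⟩, hF.comm, hF.iSup_eq,
    fun i => ⟨hF.quasi i, le_antisymm ((Subgroup.closure_le _).2 fun g hg => hg.2) (hF.gen i)⟩, fun g hg => ?_⟩
  · refine le_antisymm ?_ fun x hx => ⟨g⁻¹ * x * g, ?_, by simp [mul_assoc]⟩
    · rintro _ ⟨x, hx, rfl⟩
      exact hF.normal i g hg x hx
    · simpa using hF.normal i g⁻¹ (G.inv_mem hg) x hx
  · obtain ⟨h1, h2'⟩ := H88.mem_quadraticElements_iff.1 hg
    obtain ⟨i, hi⟩ := hF.one _ h1 h2'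
    refine Set.mem_iUnion.2 ⟨i, ?_⟩
    have := hi 1
    rwa [show H88.oneAdd _ (H88.smul_sq _ h1.sq (1 : k)) = g from Units.ext (by simp)] at this

end Cfsg.Agent.S5063
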