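import Cfsg.Statements.S5064
import Cfsg.Agent.H88.QPairCor

set_option autoImplicit false
universe u
open Cfsg

namespace Cfsg.Agent.S5064

/-- Let k be a field of characteristic not 2 with k not of order 3, M a finite-dimensional k-vector space and G ≤ GL(M) such that (G, M) is a quadratic pair (M irreducible for G, and G generated by its quadratically acting elements σ whose scalar family 1 + c(σ − 1), c ∈ k, lies in G). Write 𝒬_d for the quadratic elements of G of minimal commutator rank, E(σ) for the subgroup generated by the members of 𝒬_d with the same fixed space and commutator space as σ, and Σ for the set of these subgroups. If σ, τ ∈ 𝒬_d and the subgroup H generated by their two scalar families does not act unipotently on M, then H is isomorphic to SL₂ over a simple algebraic extension k(λ) of k. -/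
theorem result {k : Type u} [Field k] (hk2 : ringChar k ≠ 2) (hk3 : Nat.card k ≠ 3)
    {M : Type u} [AddCommGroup M] [Module k M] [FiniteDimensional k M]
    {G : Subgroup (LinearMap.GeneralLinearGroup k M)} (hG : Cfsg.IsQuadraticPair G)
    {σ τ : LinearMap.GeneralLinearGroup k M} (hσ : σ ∈ Cfsg.minimalQuadraticElements G) (hτ : τ ∈ Cfsg.minimalQuadraticElements G)
    (hH : ¬ Cfsg.IsUnipotentOn (Subgroup.closure (Cfsg.scalarFamily σ ∪ Cfsg.scalarFamily τ))) :
    ∃ (K : Type u) (_ : Field K) (_ : Algebra k K) (lam : K), IsAlgebraic k lam ∧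
      IntermediateField.adjoin k ({lam} : Set K) = ⊤ ∧
      Nonempty (↥(Subgroup.closure (Cfsg.scalarFamily σ ∪ Cfsg.scalarFamily τ)) ≃* Matrix.SpecialLinearGroup (Fin 2) K) := by
  have h2 := H88.two_ne_zero_of_ringChar hk2
  have hA := H88.mem_minimalQuadraticElements_iff.1 hσ
  have hB := H88.mem_minimalQuadraticElements_iff.1 hτ
  rw [H88.scalarFamily_eq_range σ hA.sq, H88.scalarFamily_eq_range τ hB.sq] at hH ⊢
  obtain ⟨c⟩ := H88.exists_coords hA.sq hB.sq (fun hn => hH (H88.unipotent_families h2 hA hB hn))
  obtain ⟨hirr, eA, eB⟩ := H88.pair_structure h2 hk3 hA hB c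
  haveI : Fact (Irreducible c.g) := ⟨hirr⟩
  have hfin : FiniteDimensional k (AdjoinRoot c.g) := (AdjoinRoot.powerBasis c.monic.ne_zero).finite
  refine ⟨AdjoinRoot c.g, inferInstance, inferInstance, AdjoinRoot.root c.g,
    Algebra.IsAlgebraic.isAlgebraic _, ?_, ⟨?_⟩⟩
  · exact IntermediateField.adjoin_eq_top_of_algebra _ _ (AdjoinRoot.adjoinRoot_eq_top)
  · exact ((MonoidHom.ofInjective c.ψ_injective).trans
      (MulEquiv.subgroupCongr (c.range_ψ h2 hk3 hirr eA eB))).symm

end Cfsg.Agent.S5064
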