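import Cfsg.Statements.S5067
import Mathlib

set_option autoImplicit false
open Cfsg
open scoped commutatorElement

namespace Cfsg.Agent.S5067

lemma class_lt {P : Type*} [Group P] [Group.IsNilpotent P] (hna : ¬ IsMulCommutative P) {E : Subgroup P}
    (hE : IsMulCommutative ↥E) :
    Group.nilpotencyClass ↥(Subgroup.normalClosure (E : Set P)) < Group.nilpotencyClass P := by
  set γ : ℕ → Subgroup P := fun i => (⊤ : Subgroup P).lowerCentralSeries i with hγ
  set N := Subgroup.normalClosure (E : Set P)
  have hc : 2 ≤ Group.nilpotencyClass P := by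
    by_contra h
    push Not at h
    have h1 : (⊤ : Subgroup P).lowerCentralSeries 1 = ⊥ :=
      Subgroup.lowerCentralSeries_eq_bot_iff_nilpotencyClass_le.2 (by omega)
    refine hna ⟨⟨fun a b => ?_⟩⟩
    have hm : ⁅a, b⁆ ∈ (⊤ : Subgroup P).lowerCentralSeries 1 := by
      rw [Subgroup.top_lowerCentralSeries_one, commutator_def]
      exact Subgroup.commutator_mem_commutator (Subgroup.mem_top a) (Subgroup.mem_top b)
    rw [h1, Subgroup.mem_bot] at hm
    exact commutatorElement_eq_one_iff_mul_comm.1 hm
  set H := E ⊔ commutator P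
  have hHn : H.Normal := Subgroup.Normal.of_commutator_le P le_sup_right 
  have hNH : N ≤ H := Subgroup.normalClosure_le_normal (by exact (le_sup_left : E ≤ H))
  have h2 : ⁅H, H⁆ ≤ γ 2 := by
    rw [← QuotientGroup.ker_mk' (γ 2), ← Subgroup.map_eq_bot_iff, Subgroup.map_commutator,
      Subgroup.commutator_eq_bot_iff_le_centralizer, Subgroup.map_sup]
    set π := QuotientGroup.mk' (γ 2)
    have hC : (commutator P).map π ≤ Subgroup.center _ := by
      rintro _ ⟨x, hx, rfl⟩
      rw [Subgroup.mem_center_iff]
      intro y
      obtain ⟨y, rfl⟩ := QuotientGroup.mk'_surjective _ y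
      refine (commutatorElement_eq_one_iff_mul_comm.1 ?_).symm
      rw [← map_commutatorElement]
      refine (QuotientGroup.eq_one_iff _).2 ?_
      rw [hγ]
      exact Subgroup.commutator_mem_commutator (by rwa [Subgroup.top_lowerCentralSeries_one]) (Subgroup.mem_top y)
    refine sup_le ?_ (hC.trans (Subgroup.center_le_centralizer _))
    rw [Subgroup.le_centralizer_iff]
    refine sup_le ?_ (hC.trans (Subgroup.center_le_centralizer _))
    rintro _ ⟨x, hx, rfl⟩
    rw [Subgroup.mem_centralizer_iff]
    rintro _ ⟨y, hy, rfl⟩
    rw [← map_mul, ← map_mul]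
    exact congrArg π (congrArg Subtype.val (hE.is_comm.comm ⟨y, hy⟩ ⟨x, hx⟩))
  have key : ∀ i, N.lowerCentralSeries (i + 1) ≤ γ (i + 2) := by
    intro i
    induction i with
    | zero =>
      exact (Subgroup.commutator_mono hNH hNH).trans h2
    | succ i ih =>
      exact Subgroup.commutator_mono ih le_top
  have hb : (⊤ : Subgroup ↥N).lowerCentralSeries (Group.nilpotencyClass P - 1) = ⊥ := by
    obtain ⟨j, hj⟩ := Nat.exists_eq_add_of_le hc
    have := key j
    rw [hγ] at this
    simp only at this
    rw [show j + 2 = Group.nilpotencyClass P by omega, Subgroup.lowerCentralSeries_nilpotencyClass, le_bot_iff,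
      ← Subgroup.top_subtype_lowerCentralSeries,
      Subgroup.map_eq_bot_iff_of_injective _ N.subtype_injective] at this
    rwa [show Group.nilpotencyClass P - 1 = j + 1 by omega]
  have := Subgroup.lowerCentralSeries_eq_bot_iff_nilpotencyClass_le.1 hb
  omega

/-- Let P be a non-abelian nilpotent p-group (every element of p-power order; P possibly infinite) generated by two abelian subgroups E and F. Then the normal closure of E in P, and likewise that of F, has nilpotency class strictly smaller than that of P. -/
theorem result {P : Type*} [Group P] {p : ℕ} [Fact p.Prime] (hP : IsPGroup p P) [Group.IsNilpotent P]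
    (hna : ¬ IsMulCommutative P) {E F : Subgroup P} (hE : IsMulCommutative ↥E) (hF : IsMulCommutative ↥F) (hgen : E ⊔ F = ⊤) :
    Group.nilpotencyClass ↥(Subgroup.normalClosure (E : Set P)) < Group.nilpotencyClass P ∧
    Group.nilpotencyClass ↥(Subgroup.normalClosure (F : Set P)) < Group.nilpotencyClass P := by
  exact ⟨class_lt hna hE, class_lt hna hF⟩

end Cfsg.Agent.S5067
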