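import Cfsg.Statements.S5070
import Cfsg.Agent.H96.RootFamily
import Cfsg.Agent.Symplectic.Std

set_option autoImplicit false
open Matrix
open Cfsg

namespace Cfsg.Agent.S5070

open scoped Matrix
open Cfsg.Agent.Symplectic Cfsg.Agent.H96 Cfsg.Agent.H87

variable {F : Type*} [Field F] {m : ℕ}

/-- The transvection group with a given centre. -/
def tp (p : Fin m ⊕ Fin m → F) : Subgroup (Matrix.symplecticGroup (Fin m) F) :=
  param (T p) (fun s t => (T_mul p s t).symm)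

theorem tp_smul {a : F} (ha : a ≠ 0) (p : Fin m ⊕ Fin m → F) : tp (a • p) = tp p := by
  ext g
  simp only [tp, mem_param, T_smul]
  constructor
  · rintro ⟨s, rfl⟩; exact ⟨_, rfl⟩
  · rintro ⟨s, rfl⟩; exact ⟨s / a ^ 2, by rw [mul_div_cancel₀ s (pow_ne_zero 2 ha)]⟩

theorem closure_eq (p : Fin m ⊕ Fin m → F) :
    Subgroup.closure {g : Matrix.symplecticGroup (Fin m) F | ∃ c : F, ∀ v : Fin m ⊕ Fin m → F,
      (g : Mat m F) *ᵥ v = v + (c * (v ⬝ᵥ (Matrix.J (Fin m) F *ᵥ p))) • p} = tp p := by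
  refine le_antisymm ((Subgroup.closure_le _).2 ?_) ?_
  · rintro g ⟨c, hc⟩
    exact ⟨c, sp_ext fun v => (T_mulVec p v c).trans (hc v).symm⟩
  · rintro _ ⟨c, rfl⟩
    exact Subgroup.subset_closure ⟨c, fun v => T_mulVec p v c⟩

theorem exists_pairing {p : Fin m ⊕ Fin m → F} (hp : p ≠ 0) : ∃ z, Cfsg.sympForm m F p z ≠ 0 := by
  obtain ⟨z, hz⟩ := exists_apply_ne_zero (spB_nondeg m F) hp
  exact ⟨z, by rwa [spB_apply] at hz⟩

theorem form_swap (u v : Fin m ⊕ Fin m → F) : Cfsg.sympForm m F u v = -Cfsg.sympForm m F v u := by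
  simp only [← spB_apply]; exact alt_swap (spB_alt m F) u v

theorem form_self (u : Fin m ⊕ Fin m → F) : Cfsg.sympForm m F u u = 0 := by
  simp only [← spB_apply]; exact alt_self (spB_alt m F) u

theorem tp_ne_bot {p : Fin m ⊕ Fin m → F} (hp : p ≠ 0) : tp p ≠ ⊥ := by
  intro hb
  obtain ⟨z, hz⟩ := exists_pairing hp
  have h1 : T p 1 = 1 := Subgroup.mem_bot.1 (hb ▸ (⟨1, rfl⟩ : T p 1 ∈ tp p))
  have := congrArg (fun g : Matrix.symplecticGroup (Fin m) F => (g : Mat m F) *ᵥ z) h1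
  simp only [T_mulVec, OneMemClass.coe_one, Matrix.one_mulVec, add_eq_left, one_mul, smul_eq_zero, hp, or_false] at this
  exact hz (by rw [form_swap, this, neg_zero])

theorem tp_conj (p : Fin m ⊕ Fin m → F) (g : Matrix.symplecticGroup (Fin m) F) :
    Cfsg.conjBy (tp p) g = tp ((g : Mat m F) *ᵥ p) := by
  ext x
  constructor
  · rintro ⟨_, ⟨c, rfl⟩, rfl⟩; exact ⟨c, (T_conj g p c).symm⟩
  · rintro ⟨c, rfl⟩; exact ⟨_, ⟨c, rfl⟩, T_conj g p c⟩

theorem tp_commute {p r : Fin m ⊕ Fin m → F} (h : Cfsg.sympForm m F p r = 0) : ⁅tp p, tp r⁆ = ⊥ := by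
  refine bot_of_commute ?_
  rintro _ ⟨c, rfl⟩ _ ⟨d, rfl⟩
  have e := T_conj (T p c) r d
  rw [T_mulVec, form_swap, h, neg_zero, mul_zero, zero_smul, add_zero] at e
  exact mul_inv_eq_iff_eq_mul.1 e

/-- The rows dual to a hyperbolic pair. -/
def rows (p r : Fin m ⊕ Fin m → F) : Matrix (Fin 2) (Fin m ⊕ Fin m) F :=
  Matrix.of ![Matrix.J (Fin m) F *ᵥ r, -(Matrix.J (Fin m) F *ᵥ p)]

theorem rows_zero (p r x : Fin m ⊕ Fin m → F) : rows p r 0 ⬝ᵥ x = Cfsg.sympForm m F x r :=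
  dotProduct_comm _ _

theorem rows_one (p r x : Fin m ⊕ Fin m → F) : rows p r 1 ⬝ᵥ x = -Cfsg.sympForm m F x p := by
  show (-(Matrix.J (Fin m) F *ᵥ p)) ⬝ᵥ x = _
  rw [neg_dotProduct, dotProduct_comm]; rfl

theorem rows_cols {p r : Fin m ⊕ Fin m → F} (h : Cfsg.sympForm m F p r = 1) : rows p r * cols p r = 1 :=
  rows_mul_cols (by rw [dotProduct_comm]; exact h)
    (by rw [dotProduct_comm]; exact form_self r)
    (by rw [neg_dotProduct, dotProduct_comm]; show -Cfsg.sympForm m F p p = 0; rw [form_self, neg_zero])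
    (by rw [neg_dotProduct, dotProduct_comm]; show -Cfsg.sympForm m F r p = 1; rw [← form_swap]; exact h)

theorem block_mem {p r : Fin m ⊕ Fin m → F} (h : Cfsg.sympForm m F p r = 1)
    (A : Matrix.SpecialLinearGroup (Fin 2) F) :
    blockMat (cols p r) (rows p r) (A : Matrix (Fin 2) (Fin 2) F) ∈ Matrix.symplecticGroup (Fin m) F := by
  rw [mem_symplectic_iff_form]
  intro x y
  have hd := A.2
  rw [Matrix.det_fin_two] at hd
  simp only [blockMat_mulVec, cols_zero, cols_one, rows_zero, rows_one, ← spB_apply, map_add, map_smul,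
    LinearMap.add_apply, LinearMap.smul_apply, smul_eq_mul]
  simp only [spB_apply, form_self, form_swap r p, h, form_swap r y, form_swap p y]
  linear_combination (Cfsg.sympForm m F x p * Cfsg.sympForm m F y r - Cfsg.sympForm m F x r * Cfsg.sympForm m F y p) * hd

/-- SL₂ on a hyperbolic pair. -/
def blockHom {p r : Fin m ⊕ Fin m → F} (h : Cfsg.sympForm m F p r = 1) :
    Matrix.SpecialLinearGroup (Fin 2) F →* Matrix.symplecticGroup (Fin m) F where
  toFun A := ⟨_, block_mem h A⟩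
  map_one' := Subtype.ext (by simp [blockMat_one])
  map_mul' A B := Subtype.ext (blockMat_mul (rows_cols h) _ _).symm

theorem tp_rankOne {p r : Fin m ⊕ Fin m → F} (h : Cfsg.sympForm m F p r = 1) :
    Cfsg.IsRankOnePair (tp p) (tp r) ∧ Cfsg.IsPSL2PairOver F (tp p) (tp r) := by
  have hU : (Cfsg.upperUnipotentSL2 F).map (blockHom h) = tp p :=
    map_upper_eq _ _ _ (neg_ne_zero.2 (one_ne_zero (α := F))) fun t => sp_ext fun x => by
      show blockMat _ _ _ *ᵥ x = _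
      rw [T_mulVec, blockMat_mulVec, cols_zero, cols_one, rows_zero, rows_one]
      simp [upMat_coe]
  have hL : (Cfsg.lowerUnipotentSL2 F).map (blockHom h) = tp r :=
    map_lower_eq _ _ _ (one_ne_zero (α := F)) fun t => sp_ext fun x => by
      show blockMat _ _ _ *ᵥ x = _
      rw [T_mulVec, blockMat_mulVec, cols_zero, cols_one, rows_zero, rows_one]
      simp [lowMat_coe]
  have := rankOne_of_hom (blockHom h) fun A hA => by
    have hA' : A = 1 := Subtype.ext (blockMat_injective (rows_cols h) (by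
      rw [Matrix.SpecialLinearGroup.coe_one, blockMat_one]
      exact congrArg Subtype.val hA))
    exact hA' ▸ one_mem _
  rwa [hU, hL] at this

theorem tp_pair (p r : Fin m ⊕ Fin m → F) :
    ⁅tp p, tp r⁆ = ⊥ ∨ (Cfsg.IsRankOnePair (tp p) (tp r) ∧ Cfsg.IsPSL2PairOver F (tp p) (tp r)) := by
  by_cases h : Cfsg.sympForm m F p r = 0
  · exact Or.inl (tp_commute h)
  · right
    rw [← tp_smul (inv_ne_zero h) r]
    refine tp_rankOne ?_
    rw [← spB_apply, map_smul, spB_apply, smul_eq_mul, inv_mul_cancel₀ h]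

theorem exists_common {p r : Fin m ⊕ Fin m → F} (hp : p ≠ 0) (hr : r ≠ 0) :
    ∃ z, Cfsg.sympForm m F p z ≠ 0 ∧ Cfsg.sympForm m F r z ≠ 0 := by
  obtain ⟨a, ha⟩ := exists_pairing hp
  obtain ⟨b, hb⟩ := exists_pairing hr
  by_cases ha' : Cfsg.sympForm m F r a = 0
  · by_cases hb' : Cfsg.sympForm m F p b = 0
    · refine ⟨a + b, ?_, ?_⟩ <;> rw [← spB_apply, map_add, spB_apply, spB_apply]
      · rwa [hb', add_zero]
      · rwa [ha', zero_add]
    · exact ⟨b, hb', hb⟩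
  · exact ⟨a, ha, ha'⟩

theorem main (F : Type*) [Field F] (m : ℕ) :
    let S : Set (Subgroup (Matrix.symplecticGroup (Fin (m + 1)) F)) := {A | ∃ p, p ≠ 0 ∧ A = tp p}
    Cfsg.IsRootSubgroupClass S ∧ Cfsg.IsDegenerateRootSet S ∧ Cfsg.IsKRootSubgroupSet F S ∧
      Cfsg.IsConnectedFamily (Cfsg.FAdj S) S := by
  intro S
  have hcomm : ∀ A ∈ S, ∀ x ∈ A, ∀ y ∈ A, x * y = y * x := by
    rintro _ ⟨p, -, rfl⟩; exact param_comm
  have hbot : ∀ A ∈ S, A ≠ ⊥ := by rintro _ ⟨p, hp, rfl⟩; exact tp_ne_bot hp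
  have hpair : ∀ A ∈ S, ∀ B ∈ S, ⁅A, B⁆ = ⊥ ∨ (Cfsg.IsRankOnePair A B ∧ Cfsg.IsPSL2PairOver F A B) := by
    rintro _ ⟨p, -, rfl⟩ _ ⟨r, -, rfl⟩; exact tp_pair p r
  have hadj : ∀ p r, p ≠ 0 → r ≠ 0 → Cfsg.sympForm (m + 1) F p r ≠ 0 → Cfsg.FAdj S (tp p) (tp r) := by
    intro p r hp hr h
    refine ⟨⟨p, hp, rfl⟩, ⟨r, hr, rfl⟩, ((tp_pair p r).resolve_left fun hb => ?_).1⟩
    have e := T_conj (T p 1) r 1
    rw [commute_of_bot hb ⟨1, rfl⟩ ⟨1, rfl⟩, mul_inv_cancel_right] at e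
    have hz := congrArg (fun g : Matrix.symplecticGroup (Fin (m + 1)) F => (g : Mat (m + 1) F) *ᵥ p) e
    simp only [T_mulVec, one_mul, ← spB_apply, map_add, map_smul, alt_self (spB_alt (m + 1) F), smul_eq_mul,
      mul_zero, add_zero, add_right_inj, smul_add, smul_smul] at hz
    have hh : (Cfsg.sympForm (m + 1) F p r * Cfsg.sympForm (m + 1) F r p) • p = 0 := by
      simpa [spB_apply] using hz
    rcases smul_eq_zero.1 hh with h' | h'
    · rw [form_swap r p, mul_neg, neg_eq_zero, mul_self_eq_zero] at h'; exact h h'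
    · exact hp h'
  have hconn : Cfsg.IsConnectedFamily (Cfsg.FAdj S) S := by
    rintro _ ⟨p, hp, rfl⟩ _ ⟨r, hr, rfl⟩
    obtain ⟨z, hpz, hrz⟩ := exists_common hp hr
    have hz : z ≠ 0 := by rintro rfl; simp [← spB_apply] at hpz
    exact (Relation.ReflTransGen.single (hadj p z hp hz hpz)).tail
      (hadj z r hz hr (by rw [form_swap]; exact neg_ne_zero.2 hrz))
  have hgen : (⨆ A ∈ S, A) = ⊤ := by
    rw [eq_top_iff, ← closure_TSet, Subgroup.closure_le]
    rintro _ ⟨w, c, rfl⟩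
    by_cases hw : w = 0
    · rw [show T w c = 1 from sp_ext fun x => by simp [T_mulVec, hw]]; exact one_mem _
    · exact le_iSup₂ (f := fun A (_ : A ∈ S) => A) (tp w) ⟨w, hw, rfl⟩ ⟨c, rfl⟩
  have hne : S.Nonempty := ⟨_, Pi.single (Sum.inl 0) 1, Pi.single_ne_zero_iff.2 one_ne_zero, rfl⟩
  have hconj : ∀ A ∈ S, ∀ g, Cfsg.conjBy A g ∈ S := by
    rintro _ ⟨p, hp, rfl⟩ g
    refine ⟨_, fun h => hp ?_, tp_conj p g⟩
    have := congrArg (fun v => ((g⁻¹ : Matrix.symplecticGroup (Fin (m + 1)) F) : Mat (m + 1) F) *ᵥ v) h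
    simpa [Matrix.mulVec_mulVec, ← Submonoid.coe_mul] using this
  obtain ⟨h1, h2⟩ := rootClass_of hne hcomm hbot hgen hconj
    (fun A hA B hB => (hpair A hA B hB).imp_right Or.inl) hconn
  exact ⟨h1, degenerate_of hcomm hbot (fun A hA B hB => (hpair A hA B hB).imp_right And.left), h2, hconn⟩

/-- Let F be a field, m a natural number and V = F^{2(m+1)} with the standard non-degenerate alternating form f(u, v) = uᵀ J v. For a non-zero vector p let T(p) be the group of symplectic transvections v ↦ v + c f(v, p) p, c ∈ F. Then the subgroups T(p), p ≠ 0, generate the symplectic group Sp_{2(m+1)}(F) and form a degenerate class of abstract F-root subgroups of it (any two of them either commute elementwise or are the unipotent subgroups of a rank one group that is an image of SL₂(F) with central kernel, never the commutator case), and their graph of rank one pairs is connected. -/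
theorem result (F : Type*) [Field F] (m : ℕ) :
    Cfsg.IsRootSubgroupClass {A : Subgroup ↥(Matrix.symplecticGroup (Fin (m + 1)) F) | ∃ p : Fin (m + 1) ⊕ Fin (m + 1) → F, p ≠ 0 ∧
        A = Subgroup.closure {g : ↥(Matrix.symplecticGroup (Fin (m + 1)) F) | ∃ c : F, ∀ v : Fin (m + 1) ⊕ Fin (m + 1) → F,
          (g : Matrix (Fin (m + 1) ⊕ Fin (m + 1)) (Fin (m + 1) ⊕ Fin (m + 1)) F) *ᵥ v =
            v + (c * (v ⬝ᵥ (Matrix.J (Fin (m + 1)) F *ᵥ p))) • p}} ∧
    Cfsg.IsDegenerateRootSet {A : Subgroup ↥(Matrix.symplecticGroup (Fin (m + 1)) F) | ∃ p : Fin (m + 1) ⊕ Fin (m + 1) → F, p ≠ 0 ∧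
        A = Subgroup.closure {g : ↥(Matrix.symplecticGroup (Fin (m + 1)) F) | ∃ c : F, ∀ v : Fin (m + 1) ⊕ Fin (m + 1) → F,
          (g : Matrix (Fin (m + 1) ⊕ Fin (m + 1)) (Fin (m + 1) ⊕ Fin (m + 1)) F) *ᵥ v =
            v + (c * (v ⬝ᵥ (Matrix.J (Fin (m + 1)) F *ᵥ p))) • p}} ∧
    Cfsg.IsKRootSubgroupSet F {A : Subgroup ↥(Matrix.symplecticGroup (Fin (m + 1)) F) | ∃ p : Fin (m + 1) ⊕ Fin (m + 1) → F, p ≠ 0 ∧
        A = Subgroup.closure {g : ↥(Matrix.symplecticGroup (Fin (m + 1)) F) | ∃ c : F, ∀ v : Fin (m + 1) ⊕ Fin (m + 1) → F,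
          (g : Matrix (Fin (m + 1) ⊕ Fin (m + 1)) (Fin (m + 1) ⊕ Fin (m + 1)) F) *ᵥ v =
            v + (c * (v ⬝ᵥ (Matrix.J (Fin (m + 1)) F *ᵥ p))) • p}} ∧
    Cfsg.IsConnectedFamily (Cfsg.FAdj {A : Subgroup ↥(Matrix.symplecticGroup (Fin (m + 1)) F) | ∃ p : Fin (m + 1) ⊕ Fin (m + 1) → F, p ≠ 0 ∧
        A = Subgroup.closure {g : ↥(Matrix.symplecticGroup (Fin (m + 1)) F) | ∃ c : F, ∀ v : Fin (m + 1) ⊕ Fin (m + 1) → F,
          (g : Matrix (Fin (m + 1) ⊕ Fin (m + 1)) (Fin (m + 1) ⊕ Fin (m + 1)) F) *ᵥ v =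
            v + (c * (v ⬝ᵥ (Matrix.J (Fin (m + 1)) F *ᵥ p))) • p}})
      {A : Subgroup ↥(Matrix.symplecticGroup (Fin (m + 1)) F) | ∃ p : Fin (m + 1) ⊕ Fin (m + 1) → F, p ≠ 0 ∧
        A = Subgroup.closure {g : ↥(Matrix.symplecticGroup (Fin (m + 1)) F) | ∃ c : F, ∀ v : Fin (m + 1) ⊕ Fin (m + 1) → F,
          (g : Matrix (Fin (m + 1) ⊕ Fin (m + 1)) (Fin (m + 1) ⊕ Fin (m + 1)) F) *ᵥ v =
            v + (c * (v ⬝ᵥ (Matrix.J (Fin (m + 1)) F *ᵥ p))) • p}} := by
  simp only [closure_eq]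
  exact main F m

end Cfsg.Agent.S5070
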