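import Cfsg.Statements.S5071
import Cfsg.Agent.H96.RootFamily
import Cfsg.Agent.Unitary.Eichler

set_option autoImplicit false
open Matrix
open Cfsg

namespace Cfsg.Agent.S5071

open scoped Matrix
open Matrix Cfsg.Agent.H96 Cfsg.Agent.H87 Cfsg.Agent.Unitary

variable {F : Type*} [Field F] [Fintype F] {n q : ℕ}

/-- The group of unitary transvections with a given centre. -/
def ut (n : ℕ) (F : Type*) [Field F] (q : ℕ) (p : Fin n → F) : Subgroup (Cfsg.SU n F q) :=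
  Subgroup.closure {g : Cfsg.SU n F q |
    (∀ v : Fin n → F, ∃ c : F, ((g : Matrix.SpecialLinearGroup (Fin n) F) : Matrix (Fin n) (Fin n) F) *ᵥ v = v + c • p) ∧
    ∀ v : Fin n → F, Cfsg.hermForm n F q v p = 0 →
      ((g : Matrix.SpecialLinearGroup (Fin n) F) : Matrix (Fin n) (Fin n) F) *ᵥ v = v}

theorem exists_isotropic_pairing (hF : Fintype.card F = q ^ 2) {p r : Fin n → F} (hp : p ≠ 0)
    (hpp : Cfsg.hermForm n F q p p = 0) (hr : r ≠ 0) :
    ∃ z, Cfsg.hermForm n F q z z = 0 ∧ Cfsg.hermForm n F q z p ≠ 0 ∧ Cfsg.hermForm n F q z r ≠ 0 ∨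
      Cfsg.hermForm n F q p r ≠ 0 := by
  by_cases hpr : Cfsg.hermForm n F q p r = 0
  swap
  · exact ⟨0, Or.inr hpr⟩
  obtain ⟨a, ha⟩ : ∃ a, Cfsg.hermForm n F q a p ≠ 0 := by
    by_contra h; push Not at h; exact hp (eq_zero_of_forall_left hF h)
  obtain ⟨b, hb⟩ : ∃ b, Cfsg.hermForm n F q b r ≠ 0 := by
    by_contra h; push Not at h; exact hr (eq_zero_of_forall_left hF h)
  obtain ⟨x, hx, hx'⟩ : ∃ x, Cfsg.hermForm n F q x p ≠ 0 ∧ Cfsg.hermForm n F q x r ≠ 0 := by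
    by_cases ha' : Cfsg.hermForm n F q a r = 0
    · by_cases hb' : Cfsg.hermForm n F q b p = 0
      · refine ⟨a + b, ?_, ?_⟩ <;> rw [herm_add_left]
        · rwa [hb', add_zero]
        · rwa [ha', zero_add]
      · exact ⟨b, hb', hb⟩
    · exact ⟨a, ha, ha'⟩
  obtain ⟨μ, hμ⟩ := exists_trace_eq hF (a := -Cfsg.hermForm n F q x x) (by rw [neg_pow_q hF, herm_self_fixed hF])
  set a' := Cfsg.hermForm n F q p x
  have ha' : a' ≠ 0 := fun h => hx ((herm_eq_zero_symm hF).1 h)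
  refine ⟨x + (μ / a') • p, Or.inl ⟨?_, ?_, ?_⟩⟩
  · rw [add_comm x, herm_self_add hF, herm_self_smul, hpp, mul_zero, zero_add, herm_smul_left, div_mul_cancel₀ μ ha',
      hμ, add_neg_cancel]
  · rwa [herm_add_left, herm_smul_left, hpp, mul_zero, add_zero]
  · rwa [herm_add_left, herm_smul_left, hpr, mul_zero, add_zero]

theorem exists_isotropic (hF : Fintype.card F = q ^ 2) (n : ℕ) :
    ∃ p : Fin (n + 2) → F, p ≠ 0 ∧ Cfsg.hermForm (n + 2) F q p p = 0 := by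
  obtain ⟨a, ha⟩ := exists_norm_eq hF (a := (-1 : F)) (by rw [neg_pow_q hF, one_pow])
  have h01 : (0 : Fin (n + 2)) ≠ 1 := by simp
  refine ⟨Pi.single 0 1 + Pi.single 1 a, fun h => ?_, ?_⟩
  · have := congrFun h 0
    simp [h01] at this
  · simp [herm_self_add hF, herm_single_left, herm_single_right hF, ha, h01, h01.symm, q_ne_zero hF]

section Param

variable {L : Type} [Field L] (hF : Fintype.card F = q ^ 2) (e : L →+* F) (he : ∀ x, e x ^ q = e x) {c₀ : F}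
  (hc₀ : c₀ + c₀ ^ q = 0)

include he hc₀ in
theorem trace_zero (s : L) : e s * c₀ + (e s * c₀) ^ q = 0 := by
  rw [mul_pow, he, ← mul_add, hc₀, mul_zero]

/-- A transvection with parameter in the fixed field. -/
def X {p : Fin n → F} (hp : Cfsg.hermForm n F q p p = 0) (s : L) : Cfsg.SU n F q :=
  tv hF hp (trace_zero e he hc₀ s)

theorem ap_X {p : Fin n → F} (hp : Cfsg.hermForm n F q p p = 0) (s : L) (v : Fin n → F) :
    ap (X hF e he hc₀ hp s) v = v + (e s * c₀ * Cfsg.hermForm n F q v p) • p := by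
  rw [X, ap_tv]

theorem X_add {p : Fin n → F} (hp : Cfsg.hermForm n F q p p = 0) (s t : L) :
    X hF e he hc₀ hp (s + t) = X hF e he hc₀ hp s * X hF e he hc₀ hp t := by
  refine ap_ext fun v => ?_
  simp only [ap_mul, ap_X, herm_add_left, herm_smul_left, hp, mul_zero, add_zero, map_add]
  module

theorem ut_eq (hsurj : ∀ c : F, c + c ^ q = 0 → ∃ s, e s * c₀ = c) {p : Fin n → F} (hp0 : p ≠ 0)
    (hp : Cfsg.hermForm n F q p p = 0) :
    ut n F q p = param (X hF e he hc₀ hp) (X_add hF e he hc₀ hp) := by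
  refine le_antisymm ((Subgroup.closure_le _).2 ?_) ?_
  · rintro g ⟨h1, h2⟩
    obtain ⟨a, ha⟩ : ∃ a, Cfsg.hermForm n F q a p ≠ 0 := by
      by_contra h; push Not at h; exact hp0 (eq_zero_of_forall_left hF h)
    obtain ⟨z, hz⟩ : ∃ z, Cfsg.hermForm n F q z p = 1 :=
      ⟨(Cfsg.hermForm n F q a p)⁻¹ • a, by rw [herm_smul_left, inv_mul_cancel₀ ha]⟩
    obtain ⟨c, hc⟩ := h1 z
    have hgv : ∀ v, ap g v = v + (c * Cfsg.hermForm n F q v p) • p := fun v => by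
      have h : ap g (v - Cfsg.hermForm n F q v p • z) = v - Cfsg.hermForm n F q v p • z :=
        h2 _ (by rw [herm_sub_left, herm_smul_left, hz, mul_one, sub_self])
      rw [ap_sub, ap_smul, show ap g z = z + c • p from hc, sub_eq_iff_eq_add] at h
      rw [h]; module
    have htr : c + c ^ q = 0 := by
      have h := herm_ap g z z
      rw [hgv, hz, mul_one, herm_add_left, herm_add_right hF, herm_add_right hF, herm_smul_left, herm_smul_left,
        herm_smul_right, herm_smul_right, hz, hp, ← herm_swap hF z p, hz, one_pow] at h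
      linear_combination h
    obtain ⟨s, hs⟩ := hsurj c htr
    exact ⟨s, ap_ext fun v => by rw [ap_X, hgv, hs]⟩
  · rintro _ ⟨s, rfl⟩
    refine Subgroup.subset_closure ⟨fun v => ⟨_, ap_X hF e he hc₀ hp s v⟩, fun v hv => ?_⟩
    show ap (X hF e he hc₀ hp s) v = v
    rw [ap_X, hv, mul_zero, zero_smul, add_zero]

theorem X_conj (g : Cfsg.SU n F q) {p : Fin n → F} (hp : Cfsg.hermForm n F q p p = 0) (s : L)
    (hp' : Cfsg.hermForm n F q (ap g p) (ap g p) = 0) :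
    g * X hF e he hc₀ hp s * g⁻¹ = X hF e he hc₀ hp' s := by
  rw [mul_inv_eq_iff_eq_mul]
  refine ap_ext fun v => ?_
  rw [ap_mul, ap_mul, ap_X, ap_X, ap_add, ap_smul, herm_ap]

theorem param_smul (hnorm : ∀ a : F, ∃ d : L, e d = a * a ^ q) {p : Fin n → F}
    (hp : Cfsg.hermForm n F q p p = 0) {a : F} (ha : a ≠ 0)
    (hp' : Cfsg.hermForm n F q (a • p) (a • p) = 0) :
    param (X hF e he hc₀ hp') (X_add hF e he hc₀ hp') = param (X hF e he hc₀ hp) (X_add hF e he hc₀ hp) := by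
  obtain ⟨d, hd⟩ := hnorm a
  have hd0 : d ≠ 0 := by
    rintro rfl
    rw [map_zero] at hd
    exact mul_ne_zero ha (pow_ne_zero _ ha) hd.symm
  have key : ∀ s, X hF e he hc₀ hp' s = X hF e he hc₀ hp (s * d) := fun s => ap_ext fun v => by
    rw [ap_X, ap_X, herm_smul_right, smul_smul, map_mul, hd]
    congr 2; ring
  ext g
  simp only [mem_param, key]
  exact ⟨fun ⟨s, hs⟩ => ⟨_, hs⟩, fun ⟨s, hs⟩ => ⟨s / d, by rwa [div_mul_cancel₀ s hd0]⟩⟩

/-- The matrices of SL₂ over the fixed field, twisted by the trace zero element. -/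
def twist (hc : c₀ ≠ 0) : Matrix.SpecialLinearGroup (Fin 2) L →* Matrix (Fin 2) (Fin 2) F where
  toFun A := !![e ((A : Matrix (Fin 2) (Fin 2) L) 0 0), e ((A : Matrix (Fin 2) (Fin 2) L) 0 1) * c₀;
    e ((A : Matrix (Fin 2) (Fin 2) L) 1 0) * c₀⁻¹, e ((A : Matrix (Fin 2) (Fin 2) L) 1 1)]
  map_one' := by simp [Matrix.one_fin_two]
  map_mul' A B := by
    rw [Matrix.mul_fin_two, Matrix.SpecialLinearGroup.coe_mul]
    simp only [Matrix.mul_apply, Fin.sum_univ_two, map_add, map_mul]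
    ext i j
    fin_cases i <;> fin_cases j <;> simp <;> field_simp <;> ring

theorem det_twist (hc : c₀ ≠ 0) (A : Matrix.SpecialLinearGroup (Fin 2) L) : (twist e hc A).det = 1 := by
  have := congrArg e A.2
  rw [Matrix.det_fin_two, map_sub, map_mul, map_mul, map_one] at this
  show Matrix.det !![_, _; _, _] = 1
  rw [Matrix.det_fin_two_of]
  field_simp
  linear_combination this

theorem twist_injective (hc : c₀ ≠ 0) : Function.Injective (twist (L := L) e hc) := by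
  intro A B h
  refine Subtype.ext (Matrix.ext fun i j => e.injective ?_)
  have h' := congrFun (congrFun h i) j
  fin_cases i <;> fin_cases j <;> simpa [twist, hc] using h'

end Param

theorem main (F : Type*) [Field F] [Fintype F] (q n : ℕ) (hF : Fintype.card F = q ^ 2)
    (S : Set (Subgroup ↥(Cfsg.SU (n + 2) F q)))
    (hS : S = {A | ∃ p : Fin (n + 2) → F, p ≠ 0 ∧ Cfsg.hermForm (n + 2) F q p p = 0 ∧ A = ut (n + 2) F q p}) :
    let T := (fun A : Subgroup ↥(Cfsg.SU (n + 2) F q) => A.subgroupOf (⨆ B ∈ S, B)) '' S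
    Cfsg.IsRootSubgroupClass T ∧ Cfsg.IsDegenerateRootSet T ∧
      (∃ (L : Type) (_ : Field L) (_ : Fintype L), Fintype.card L = q ∧ Cfsg.IsKRootSubgroupSet L T) ∧
      Cfsg.IsConnectedFamily (Cfsg.FAdj T) T := by
  intro T
  obtain ⟨p₀, a, hp₀, ha, hchar, hq⟩ := exists_char_pow hF
  haveI : Fact p₀.Prime := ⟨hp₀⟩
  let L := GaloisField p₀ a
  haveI : Fintype L := Fintype.ofFinite L
  have hL : Fintype.card L = q := by rw [← Nat.card_eq_fintype_card, GaloisField.card p₀ a ha.ne', hq]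
  haveI : Fintype (fixK hF) := Fintype.ofFinite _
  let ε : L ≃+* fixK hF := FiniteField.ringEquivOfCardEq (by rw [hL, ← Nat.card_eq_fintype_card, card_fixK])
  let e : L →+* F := (fixK hF).subtype.comp ε.toRingHom
  have he : ∀ x, e x ^ q = e x := fun x => (mem_fixK hF).1 (ε x).2
  have hfix : ∀ x : F, x ^ q = x → ∃ s, e s = x := fun x hx => ⟨ε.symm ⟨x, (mem_fixK hF).2 hx⟩, by simp [e]⟩
  obtain ⟨c₀, hc, hc'⟩ := exists_skew hF
  have hc₀ : c₀ + c₀ ^ q = 0 := by rw [hc', add_neg_cancel]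
  have hsurj : ∀ c : F, c + c ^ q = 0 → ∃ s, e s * c₀ = c := fun c h => by
    obtain ⟨s, hs⟩ := hfix (c / c₀) (by rw [div_pow, eq_neg_of_add_eq_zero_right h, hc', neg_div_neg_eq])
    exact ⟨s, by rw [hs, div_mul_cancel₀ c hc]⟩
  have hnorm : ∀ x : F, ∃ d : L, e d = x * x ^ q := fun x => hfix _ (norm_pow_q hF x)
  let G₀ := ⨆ B ∈ S, B
  have hmem : ∀ {p : Fin (n + 2) → F} (_ : p ≠ 0) (hp : Cfsg.hermForm (n + 2) F q p p = 0),
      param (X hF e he hc₀ hp) (X_add hF e he hc₀ hp) ∈ S := fun {p} hp0 hp => by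
    rw [hS]; exact ⟨p, hp0, hp, (ut_eq hF e he hc₀ hsurj hp0 hp).symm⟩
  have hle : ∀ {p : Fin (n + 2) → F} (_ : p ≠ 0) (hp : Cfsg.hermForm (n + 2) F q p p = 0) (s : L),
      X hF e he hc₀ hp s ∈ G₀ := fun {p} hp0 hp s =>
    le_iSup₂ (f := fun B (_ : B ∈ S) => B) _ (hmem hp0 hp) ⟨s, rfl⟩
  let Y : ∀ {p : Fin (n + 2) → F}, p ≠ 0 → Cfsg.hermForm (n + 2) F q p p = 0 → Subgroup G₀ := fun {p} hp0 hp =>
    param (fun s => ⟨X hF e he hc₀ hp s, hle hp0 hp s⟩) (fun s t => Subtype.ext (X_add hF e he hc₀ hp s t))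
  have hY : ∀ {p : Fin (n + 2) → F} (hp0 : p ≠ 0) (hp : Cfsg.hermForm (n + 2) F q p p = 0),
      (ut (n + 2) F q p).subgroupOf G₀ = Y hp0 hp := fun {p} hp0 hp => by
    ext g
    rw [Subgroup.mem_subgroupOf, ut_eq hF e he hc₀ hsurj hp0 hp]
    exact ⟨fun ⟨s, hs⟩ => ⟨s, Subtype.ext hs⟩, fun ⟨s, hs⟩ => ⟨s, congrArg Subtype.val hs⟩⟩
  have hT : T = {A | ∃ (p : Fin (n + 2) → F) (hp0 : p ≠ 0) (hp : Cfsg.hermForm (n + 2) F q p p = 0), A = Y hp0 hp} := by
    ext A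
    constructor
    · rintro ⟨B, hB, rfl⟩
      rw [hS] at hB
      obtain ⟨p, hp0, hp, rfl⟩ := hB
      exact ⟨p, hp0, hp, hY hp0 hp⟩
    · rintro ⟨p, hp0, hp, rfl⟩
      exact ⟨_, hS ▸ ⟨p, hp0, hp, rfl⟩, hY hp0 hp⟩
  have hYsmul : ∀ {p : Fin (n + 2) → F} (hp0 : p ≠ 0) (hp : Cfsg.hermForm (n + 2) F q p p = 0) {a : F}
      (ha : a • p ≠ 0) (hp' : Cfsg.hermForm (n + 2) F q (a • p) (a • p) = 0), Y ha hp' = Y hp0 hp := by
    intro p hp0 hp a ha hp'
    ext g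
    have := param_smul hF e he hc₀ hnorm hp (fun h => ha (by rw [h, zero_smul])) hp'
    have h1 := SetLike.ext_iff.1 this (g : Cfsg.SU (n + 2) F q)
    exact ⟨fun ⟨s, hs⟩ => (h1.1 ⟨s, congrArg Subtype.val hs⟩).imp fun _ h => Subtype.ext h,
      fun ⟨s, hs⟩ => (h1.2 ⟨s, congrArg Subtype.val hs⟩).imp fun _ h => Subtype.ext h⟩
  have hcomm : ∀ A ∈ T, ∀ x ∈ A, ∀ y ∈ A, x * y = y * x := by
    rw [hT]; rintro _ ⟨p, hp0, hp, rfl⟩; exact param_comm
  have hbot : ∀ A ∈ T, A ≠ ⊥ := by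
    rw [hT]; rintro _ ⟨p, hp0, hp, rfl⟩ hb
    have h1 := Subgroup.mem_bot.1 ((SetLike.ext_iff.1 hb _).1 (⟨1, rfl⟩ : (⟨X hF e he hc₀ hp 1, hle hp0 hp 1⟩ : G₀) ∈ Y hp0 hp))
    refine hp0 (eq_zero_of_forall_left hF fun v => ?_)
    have h2 := congrArg (fun g : G₀ => ap (g : Cfsg.SU (n + 2) F q) v) h1
    simpa [ap_X, hc, hp0] using h2
  have hpair : ∀ A ∈ T, ∀ B ∈ T, ⁅A, B⁆ = ⊥ ∨ (Cfsg.IsRankOnePair A B ∧ Cfsg.IsPSL2PairOver L A B) := by
    rw [hT]
    rintro _ ⟨p, hp0, hp, rfl⟩ _ ⟨r₁, hr0₁, hr₁, rfl⟩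
    by_cases h : Cfsg.hermForm (n + 2) F q p r₁ = 0
    · left
      refine bot_of_commute ?_
      rintro _ ⟨s, rfl⟩ _ ⟨t, rfl⟩
      refine Subtype.ext (ap_ext fun v => ?_)
      have h' := (herm_eq_zero_symm hF).1 h
      simp only [Subgroup.coe_mul, ap_mul, ap_X, herm_add_left, herm_smul_left, h, h', mul_zero, add_zero]
      module
    right
    obtain ⟨r, hr0, hr, hpr, hYr⟩ : ∃ (r : Fin (n + 2) → F) (hr0 : r ≠ 0) (hr : Cfsg.hermForm (n + 2) F q r r = 0),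
        Cfsg.hermForm (n + 2) F q p r = 1 ∧ Y hr0₁ hr₁ = Y hr0 hr := by
      have ha0 : ((Cfsg.hermForm (n + 2) F q p r₁)⁻¹) ^ q ≠ 0 := pow_ne_zero _ (inv_ne_zero h)
      refine ⟨((Cfsg.hermForm (n + 2) F q p r₁)⁻¹) ^ q • r₁, smul_ne_zero ha0 hr0₁,
        by rw [herm_self_smul, hr₁, mul_zero], ?_, (hYsmul hr0₁ hr₁ (smul_ne_zero ha0 hr0₁) (by rw [herm_self_smul, hr₁, mul_zero])).symm⟩
      rw [herm_smul_right, pow_q_q hF, inv_mul_cancel₀ h]
    rw [hYr]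
    have hrp : Cfsg.hermForm (n + 2) F q r p = 1 := by rw [← herm_swap hF, hpr, one_pow]
    let U := cols p r
    let V : Matrix (Fin 2) (Fin (n + 2)) F := Matrix.of ![cj q r, cj q p]
    have hV : ∀ v, V 0 ⬝ᵥ v = Cfsg.hermForm (n + 2) F q v r ∧ V 1 ⬝ᵥ v = Cfsg.hermForm (n + 2) F q v p :=
      fun v => ⟨dotProduct_comm _ _, dotProduct_comm _ _⟩
    have hVU : V * U = 1 := rows_mul_cols ((hV p).1.trans hpr) ((hV r).1.trans hr) ((hV p).2.trans hp)
      ((hV r).2.trans hrp)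
    let φ₁ : Matrix.SpecialLinearGroup (Fin 2) L →* Matrix.SpecialLinearGroup (Fin (n + 2)) F :=
      { toFun := fun A => ⟨blockMat U V (twist e hc A), by rw [det_blockMat hVU, det_twist]⟩
        map_one' := Subtype.ext (by simp [blockMat_one])
        map_mul' := fun A B => Subtype.ext (by
          show blockMat U V (twist e hc (A * B)) = blockMat U V (twist e hc A) * blockMat U V (twist e hc B)
          rw [map_mul, blockMat_mul hVU]) }
    let φ₂ : Subgroup (Matrix.SpecialLinearGroup (Fin (n + 2)) F) := G₀.map (Cfsg.SU (n + 2) F q).subtype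
    obtain ⟨d, hd⟩ := hfix (c₀ * c₀) (by rw [mul_pow, hc', neg_mul_neg])
    have hd0 : d ≠ 0 := by rintro rfl; rw [map_zero] at hd; exact mul_ne_zero hc hc hd.symm
    have hup : ∀ t, φ₁ (upMat t) = ((X hF e he hc₀ hp t : Cfsg.SU (n + 2) F q) : Matrix.SpecialLinearGroup (Fin (n + 2)) F) := fun t => by
      refine Subtype.ext (Matrix.ext_of_mulVec_single fun i => ?_)
      show blockMat _ _ _ *ᵥ _ = ap (X hF e he hc₀ hp t) _
      rw [ap_X, blockMat_mulVec, (hV _).1, (hV _).2, cols_zero, cols_one]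
      simp [twist, upMat_coe]
    have hlow : ∀ t, φ₁ (lowMat t) = ((X hF e he hc₀ hr (d⁻¹ * t) : Cfsg.SU (n + 2) F q) : Matrix.SpecialLinearGroup (Fin (n + 2)) F) := fun t => by
      refine Subtype.ext (Matrix.ext_of_mulVec_single fun i => ?_)
      show blockMat _ _ _ *ᵥ _ = ap (X hF e he hc₀ hr _) _
      rw [ap_X, blockMat_mulVec, (hV _).1, (hV _).2, cols_zero, cols_one]
      simp [twist, lowMat_coe]
      congr 1
      have hdi : e d⁻¹ = (c₀ * c₀)⁻¹ := by rw [← hd]; exact map_inv₀ e d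
      rw [hdi]; field_simp
    have hrange : ∀ A, φ₁ A ∈ φ₂ := fun A => by
      have : (⊤ : Subgroup (Matrix.SpecialLinearGroup (Fin 2) L)) ≤ φ₂.comap φ₁ := by
        rw [← lower_sup_upper]
        refine sup_le (fun g hg => ?_) (fun g hg => ?_)
        · obtain ⟨t, rfl⟩ := mem_lower_iff.1 hg; exact ⟨_, hle hr0 hr _, (hlow t).symm⟩
        · obtain ⟨t, rfl⟩ := mem_upper_iff.1 hg; exact ⟨_, hle hp0 hp _, (hup t).symm⟩
      exact this trivial
    let ψ : G₀ ≃* φ₂ := G₀.equivMapOfInjective _ (Cfsg.SU (n + 2) F q).subtype_injective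
    let φ : Matrix.SpecialLinearGroup (Fin 2) L →* G₀ := ψ.symm.toMonoidHom.comp (φ₁.codRestrict φ₂ hrange)
    have hval : ∀ A, (((φ A : G₀) : Cfsg.SU (n + 2) F q) : Matrix.SpecialLinearGroup (Fin (n + 2)) F) = φ₁ A :=
      fun A => congrArg Subtype.val (ψ.apply_symm_apply ⟨φ₁ A, hrange A⟩)
    have hU : (Cfsg.upperUnipotentSL2 L).map φ = Y hp0 hp :=
      map_upper_eq φ _ _ (one_ne_zero (α := L)) fun t => by
        refine Subtype.ext (Subtype.ext ?_); rw [hval, hup, one_mul]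
    have hLo : (Cfsg.lowerUnipotentSL2 L).map φ = Y hr0 hr :=
      map_lower_eq φ _ _ (inv_ne_zero hd0) fun t => by
        refine Subtype.ext (Subtype.ext ?_); rw [hval, hlow]
    have hres := rankOne_of_hom φ fun A hA => by
      have h1 : φ₁ A = 1 := by rw [← hval, MonoidHom.mem_ker.1 hA]; rfl
      have hA' : A = 1 := twist_injective e hc (blockMat_injective hVU (by
        rw [map_one, blockMat_one]; exact congrArg Subtype.val h1))
      exact hA' ▸ one_mem _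
    rwa [hU, hLo] at hres
  have hadj : ∀ {p r : Fin (n + 2) → F} (hp0 : p ≠ 0) (hp : Cfsg.hermForm (n + 2) F q p p = 0) (hr0 : r ≠ 0)
      (hr : Cfsg.hermForm (n + 2) F q r r = 0), Cfsg.hermForm (n + 2) F q p r ≠ 0 →
      Cfsg.FAdj T (Y hp0 hp) (Y hr0 hr) := by
    intro p r hp0 hp hr0 hr h
    have h1 : Y hp0 hp ∈ T := hT ▸ ⟨p, hp0, hp, rfl⟩
    have h2 : Y hr0 hr ∈ T := hT ▸ ⟨r, hr0, hr, rfl⟩
    refine ⟨h1, h2, ((hpair _ h1 _ h2).resolve_left fun hb => ?_).1⟩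
    have e1 := congrArg (fun g : G₀ => ap (g : Cfsg.SU (n + 2) F q) p)
      (commute_of_bot hb (⟨1, rfl⟩ : (⟨X hF e he hc₀ hp 1, hle hp0 hp 1⟩ : G₀) ∈ Y hp0 hp)
        (⟨1, rfl⟩ : (⟨X hF e he hc₀ hr 1, hle hr0 hr 1⟩ : G₀) ∈ Y hr0 hr))
    simp only [Subgroup.coe_mul, ap_mul, ap_X, herm_add_left, herm_smul_left, hp, map_one, one_mul, mul_zero,
      zero_smul, add_zero, zero_add, smul_smul] at e1
    have e2 : (c₀ * Cfsg.hermForm (n + 2) F q p r * (c₀ * Cfsg.hermForm (n + 2) F q r p)) • p = 0 := by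
      rw [← sub_eq_zero] at e1
      rw [← e1]; module
    have h' : Cfsg.hermForm (n + 2) F q r p ≠ 0 := fun h' => h ((herm_eq_zero_symm hF).1 h')
    exact smul_ne_zero (mul_ne_zero (mul_ne_zero hc h) (mul_ne_zero hc h')) hp0 e2
  have hconn : Cfsg.IsConnectedFamily (Cfsg.FAdj T) T := by
    intro A hA B hB
    obtain ⟨p, hp0, hp, rfl⟩ := (hT ▸ hA : A ∈ {A | ∃ (p : Fin (n + 2) → F) (hp0 : p ≠ 0)
      (hp : Cfsg.hermForm (n + 2) F q p p = 0), A = Y hp0 hp})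
    obtain ⟨r, hr0, hr, rfl⟩ := (hT ▸ hB : B ∈ {A | ∃ (p : Fin (n + 2) → F) (hp0 : p ≠ 0)
      (hp : Cfsg.hermForm (n + 2) F q p p = 0), A = Y hp0 hp})
    obtain ⟨z, ⟨hz, hzp, hzr⟩ | hpr⟩ := exists_isotropic_pairing hF hp0 hp hr0
    · have hz0 : z ≠ 0 := by rintro rfl; simp at hzp
      exact (Relation.ReflTransGen.single (hadj hp0 hp hz0 hz fun h => hzp ((herm_eq_zero_symm hF).1 h))).tail
        (hadj hz0 hz hr0 hr hzr)
    · exact Relation.ReflTransGen.single (hadj hp0 hp hr0 hr hpr)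
  have hgen : (⨆ A ∈ T, A) = ⊤ := by
    have hsub : ∀ B ∈ S, B ≤ (⨆ A ∈ T, A).map G₀.subtype := fun B hB x hx =>
      ⟨⟨x, le_iSup₂ (f := fun B (_ : B ∈ S) => B) B hB hx⟩,
        le_iSup₂ (f := fun A (_ : A ∈ T) => A) _ ⟨B, hB, rfl⟩ hx, rfl⟩
    rw [eq_top_iff]
    intro g _
    obtain ⟨g', hg', e'⟩ := (iSup₂_le hsub : G₀ ≤ _) g.2
    exact Subtype.ext e' ▸ hg'
  have hconj : ∀ A ∈ T, ∀ g : G₀, Cfsg.conjBy A g ∈ T := by
    rw [hT]
    rintro _ ⟨p, hp0, hp, rfl⟩ g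
    have hgp : ap (g : Cfsg.SU (n + 2) F q) p ≠ 0 := fun h => hp0 (ap_injective _ (h.trans (ap_zero _).symm))
    have hgp' : Cfsg.hermForm (n + 2) F q (ap (g : Cfsg.SU (n + 2) F q) p) (ap (g : Cfsg.SU (n + 2) F q) p) = 0 := by
      rw [herm_ap, hp]
    refine ⟨_, hgp, hgp', ?_⟩
    ext x
    constructor
    · rintro ⟨_, ⟨s, rfl⟩, rfl⟩; exact ⟨s, Subtype.ext (X_conj hF e he hc₀ _ hp s hgp').symm⟩
    · rintro ⟨s, rfl⟩; exact ⟨_, ⟨s, rfl⟩, Subtype.ext (X_conj hF e he hc₀ _ hp s hgp')⟩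
  have hne : T.Nonempty := by
    obtain ⟨p, hp0, hp⟩ := exists_isotropic hF n
    exact ⟨Y hp0 hp, hT ▸ ⟨p, hp0, hp, rfl⟩⟩
  obtain ⟨h1, h2⟩ := rootClass_of hne hcomm hbot hgen hconj (fun A hA B hB => (hpair A hA B hB).imp_right Or.inl) hconn
  exact ⟨h1, degenerate_of hcomm hbot (fun A hA B hB => (hpair A hA B hB).imp_right And.left),
    ⟨L, inferInstance, inferInstance, hL, h2⟩, hconn⟩

/-- Let F be a finite field with q² elements, n a natural number, and h the Hermitian form Σ uᵢ vᵢ^q on F^{n+2}. For a non-zero isotropic vector p let T(p) be the group of unitary transvections with centre ⟨p⟩: the elements of SU_{n+2}(q) moving every vector by a multiple of p and fixing every vector perpendicular to p. Let Σ be the set of these T(p) and G₀ the subgroup they generate. Then, viewed inside G₀, the members of Σ form a degenerate class of abstract k-root subgroups of G₀ for some field k with q elements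 (any two commute or are the unipotent subgroups of a rank one group that is an image of SL₂(k) with central kernel, never the commutator case), and their graph of rank one pairs is connected. -/
theorem result (F : Type*) [Field F] [Fintype F] (q n : ℕ) (hF : Fintype.card F = q ^ 2) :
    Cfsg.IsRootSubgroupClass ((fun A : Subgroup ↥(Cfsg.SU (n + 2) F q) => A.subgroupOf (⨆ B ∈ {A : Subgroup ↥(Cfsg.SU (n + 2) F q) | ∃ p : Fin (n + 2) → F, p ≠ 0 ∧ Cfsg.hermForm (n + 2) F q p p = 0 ∧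
          A = Subgroup.closure {g : ↥(Cfsg.SU (n + 2) F q) |
            (∀ v : Fin (n + 2) → F, ∃ c : F, ((g : Matrix.SpecialLinearGroup (Fin (n + 2)) F) : Matrix (Fin (n + 2)) (Fin (n + 2)) F) *ᵥ v = v + c • p) ∧
            ∀ v : Fin (n + 2) → F, Cfsg.hermForm (n + 2) F q v p = 0 →
              ((g : Matrix.SpecialLinearGroup (Fin (n + 2)) F) : Matrix (Fin (n + 2)) (Fin (n + 2)) F) *ᵥ v = v}}, B)) ''
      {A : Subgroup ↥(Cfsg.SU (n + 2) F q) | ∃ p : Fin (n + 2) → F, p ≠ 0 ∧ Cfsg.hermForm (n + 2) F q p p = 0 ∧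
          A = Subgroup.closure {g : ↥(Cfsg.SU (n + 2) F q) |
            (∀ v : Fin (n + 2) → F, ∃ c : F, ((g : Matrix.SpecialLinearGroup (Fin (n + 2)) F) : Matrix (Fin (n + 2)) (Fin (n + 2)) F) *ᵥ v = v + c • p) ∧
            ∀ v : Fin (n + 2) → F, Cfsg.hermForm (n + 2) F q v p = 0 →
              ((g : Matrix.SpecialLinearGroup (Fin (n + 2)) F) : Matrix (Fin (n + 2)) (Fin (n + 2)) F) *ᵥ v = v}}) ∧
    Cfsg.IsDegenerateRootSet ((fun A : Subgroup ↥(Cfsg.SU (n + 2) F q) => A.subgroupOf (⨆ B ∈ {A : Subgroup ↥(Cfsg.SU (n + 2) F q) | ∃ p : Fin (n + 2) → F, p ≠ 0 ∧ Cfsg.hermForm (n + 2) F q p p = 0 ∧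
          A = Subgroup.closure {g : ↥(Cfsg.SU (n + 2) F q) |
            (∀ v : Fin (n + 2) → F, ∃ c : F, ((g : Matrix.SpecialLinearGroup (Fin (n + 2)) F) : Matrix (Fin (n + 2)) (Fin (n + 2)) F) *ᵥ v = v + c • p) ∧
            ∀ v : Fin (n + 2) → F, Cfsg.hermForm (n + 2) F q v p = 0 →
              ((g : Matrix.SpecialLinearGroup (Fin (n + 2)) F) : Matrix (Fin (n + 2)) (Fin (n + 2)) F) *ᵥ v = v}}, B)) ''
      {A : Subgroup ↥(Cfsg.SU (n + 2) F q) | ∃ p : Fin (n + 2) → F, p ≠ 0 ∧ Cfsg.hermForm (n + 2) F q p p = 0 ∧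
          A = Subgroup.closure {g : ↥(Cfsg.SU (n + 2) F q) |
            (∀ v : Fin (n + 2) → F, ∃ c : F, ((g : Matrix.SpecialLinearGroup (Fin (n + 2)) F) : Matrix (Fin (n + 2)) (Fin (n + 2)) F) *ᵥ v = v + c • p) ∧
            ∀ v : Fin (n + 2) → F, Cfsg.hermForm (n + 2) F q v p = 0 →
              ((g : Matrix.SpecialLinearGroup (Fin (n + 2)) F) : Matrix (Fin (n + 2)) (Fin (n + 2)) F) *ᵥ v = v}}) ∧
    (∃ (L : Type) (_ : Field L) (_ : Fintype L), Fintype.card L = q ∧ Cfsg.IsKRootSubgroupSet L ((fun A : Subgroup ↥(Cfsg.SU (n + 2) F q) => A.subgroupOf (⨆ B ∈ {A : Subgroup ↥(Cfsg.SU (n + 2) F q) | ∃ p : Fin (n + 2) → F, p ≠ 0 ∧ Cfsg.hermForm (n + 2) F q p p = 0 ∧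
          A = Subgroup.closure {g : ↥(Cfsg.SU (n + 2) F q) |
            (∀ v : Fin (n + 2) → F, ∃ c : F, ((g : Matrix.SpecialLinearGroup (Fin (n + 2)) F) : Matrix (Fin (n + 2)) (Fin (n + 2)) F) *ᵥ v = v + c • p) ∧
            ∀ v : Fin (n + 2) → F, Cfsg.hermForm (n + 2) F q v p = 0 →
              ((g : Matrix.SpecialLinearGroup (Fin (n + 2)) F) : Matrix (Fin (n + 2)) (Fin (n + 2)) F) *ᵥ v = v}}, B)) ''
      {A : Subgroup ↥(Cfsg.SU (n + 2) F q) | ∃ p : Fin (n + 2) → F, p ≠ 0 ∧ Cfsg.hermForm (n + 2) F q p p = 0 ∧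
          A = Subgroup.closure {g : ↥(Cfsg.SU (n + 2) F q) |
            (∀ v : Fin (n + 2) → F, ∃ c : F, ((g : Matrix.SpecialLinearGroup (Fin (n + 2)) F) : Matrix (Fin (n + 2)) (Fin (n + 2)) F) *ᵥ v = v + c • p) ∧
            ∀ v : Fin (n + 2) → F, Cfsg.hermForm (n + 2) F q v p = 0 →
              ((g : Matrix.SpecialLinearGroup (Fin (n + 2)) F) : Matrix (Fin (n + 2)) (Fin (n + 2)) F) *ᵥ v = v}})) ∧
    Cfsg.IsConnectedFamily (Cfsg.FAdj ((fun A : Subgroup ↥(Cfsg.SU (n + 2) F q) => A.subgroupOf (⨆ B ∈ {A : Subgroup ↥(Cfsg.SU (n + 2) F q) | ∃ p : Fin (n + 2) → F, p ≠ 0 ∧ Cfsg.hermForm (n + 2) F q p p = 0 ∧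
          A = Subgroup.closure {g : ↥(Cfsg.SU (n + 2) F q) |
            (∀ v : Fin (n + 2) → F, ∃ c : F, ((g : Matrix.SpecialLinearGroup (Fin (n + 2)) F) : Matrix (Fin (n + 2)) (Fin (n + 2)) F) *ᵥ v = v + c • p) ∧
            ∀ v : Fin (n + 2) → F, Cfsg.hermForm (n + 2) F q v p = 0 →
              ((g : Matrix.SpecialLinearGroup (Fin (n + 2)) F) : Matrix (Fin (n + 2)) (Fin (n + 2)) F) *ᵥ v = v}}, B)) ''
      {A : Subgroup ↥(Cfsg.SU (n + 2) F q) | ∃ p : Fin (n + 2) → F, p ≠ 0 ∧ Cfsg.hermForm (n + 2) F q p p = 0 ∧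
          A = Subgroup.closure {g : ↥(Cfsg.SU (n + 2) F q) |
            (∀ v : Fin (n + 2) → F, ∃ c : F, ((g : Matrix.SpecialLinearGroup (Fin (n + 2)) F) : Matrix (Fin (n + 2)) (Fin (n + 2)) F) *ᵥ v = v + c • p) ∧
            ∀ v : Fin (n + 2) → F, Cfsg.hermForm (n + 2) F q v p = 0 →
              ((g : Matrix.SpecialLinearGroup (Fin (n + 2)) F) : Matrix (Fin (n + 2)) (Fin (n + 2)) F) *ᵥ v = v}})) ((fun A : Subgroup ↥(Cfsg.SU (n + 2) F q) => A.subgroupOf (⨆ B ∈ {A : Subgroup ↥(Cfsg.SU (n + 2) F q) | ∃ p : Fin (n + 2) → F, p ≠ 0 ∧ Cfsg.hermForm (n + 2) F q p p = 0 ∧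
          A = Subgroup.closure {g : ↥(Cfsg.SU (n + 2) F q) |
            (∀ v : Fin (n + 2) → F, ∃ c : F, ((g : Matrix.SpecialLinearGroup (Fin (n + 2)) F) : Matrix (Fin (n + 2)) (Fin (n + 2)) F) *ᵥ v = v + c • p) ∧
            ∀ v : Fin (n + 2) → F, Cfsg.hermForm (n + 2) F q v p = 0 →
              ((g : Matrix.SpecialLinearGroup (Fin (n + 2)) F) : Matrix (Fin (n + 2)) (Fin (n + 2)) F) *ᵥ v = v}}, B)) ''
      {A : Subgroup ↥(Cfsg.SU (n + 2) F q) | ∃ p : Fin (n + 2) → F, p ≠ 0 ∧ Cfsg.hermForm (n + 2) F q p p = 0 ∧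
          A = Subgroup.closure {g : ↥(Cfsg.SU (n + 2) F q) |
            (∀ v : Fin (n + 2) → F, ∃ c : F, ((g : Matrix.SpecialLinearGroup (Fin (n + 2)) F) : Matrix (Fin (n + 2)) (Fin (n + 2)) F) *ᵥ v = v + c • p) ∧
            ∀ v : Fin (n + 2) → F, Cfsg.hermForm (n + 2) F q v p = 0 →
              ((g : Matrix.SpecialLinearGroup (Fin (n + 2)) F) : Matrix (Fin (n + 2)) (Fin (n + 2)) F) *ᵥ v = v}}) := by
  exact main F q n hF _ rfl

end Cfsg.Agent.S5071
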