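import Cfsg.Statements.S5073
import Cfsg.Agent.H88.QNilpotent
-- import your own Cfsg.Agent.* helpers here

set_option autoImplicit false
universe u
open Cfsg

namespace Cfsg.Agent.S5073

/-- Let k be a field of characteristic not 2 with k not of order 3, M a finite-dimensional k-vector space and G ≤ GL(M) such that (G, M) is a quadratic pair (M irreducible for G, and G generated by its quadratically acting elements σ whose scalar family 1 + c(σ − 1), c ∈ k, lies in G). Write 𝒬_d for the quadratic elements of G of minimal commutator rank, E(σ) for the subgroup generated by the members of 𝒬_d with the same fixed space and commutator space as σ, and Σ for the set of these subgroups. Let E, F ∈ Σ. If some non-identity element of E commutes with some non-identity element of F, or some non-identity element of E normalizes F, then E and F commute elementwise. -/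
theorem result {k : Type u} [Field k] (hk2 : ringChar k ≠ 2) (hk3 : Nat.card k ≠ 3)
    {M : Type u} [AddCommGroup M] [Module k M] [FiniteDimensional k M]
    {G : Subgroup (LinearMap.GeneralLinearGroup k M)} (hG : Cfsg.IsQuadraticPair G)
    {E F : Subgroup (LinearMap.GeneralLinearGroup k M)} (hE : E ∈ Cfsg.quadraticRootSubgroups G) (hF : F ∈ Cfsg.quadraticRootSubgroups G)
    (h : (∃ e ∈ E, e ≠ 1 ∧ ∃ f ∈ F, f ≠ 1 ∧ e * f = f * e) ∨ E ⊓ Subgroup.normalizer (F : Set (LinearMap.GeneralLinearGroup k M)) ≠ ⊥) :
    ⁅E, F⁆ = ⊥ := by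
  have hk := H88.two_ne_zero_of_ringChar hk2
  obtain ⟨A, hA, rfl⟩ := H88.mem_quadraticRootSubgroups_iff.1 hE
  obtain ⟨B, hB, rfl⟩ := H88.mem_quadraticRootSubgroups_iff.1 hF
  have ne1 : ∀ {g : LinearMap.GeneralLinearGroup k M}, g ≠ 1 → (g : Module.End k M) - 1 ≠ 0 :=
    fun hg e => hg (Units.ext (by simpa [sub_eq_zero] using e))
  have hAB : A * B = B * A := by
    rcases h with ⟨e, he, he1, f, hf, hf1, hef⟩ | h
    · refine H88.rootSpace_commute hk hA hB (H88.mem_rootGroup.1 he) (ne1 he1)
        (H88.mem_rootGroup.1 hf) (ne1 hf1) ?_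
      have hv := congrArg (fun u : LinearMap.GeneralLinearGroup k M => (u : Module.End k M)) hef
      simp only [Units.val_mul] at hv
      calc ((e : Module.End k M) - 1) * ((f : Module.End k M) - 1)
          = (e : Module.End k M) * f - e - f + 1 := by noncomm_ring
        _ = (f : Module.End k M) * e - e - f + 1 := by rw [hv]
        _ = _ := by noncomm_ring
    · obtain ⟨e, he, he1⟩ := (Subgroup.bot_or_exists_ne_one _).resolve_left h
      obtain ⟨heE, heN⟩ := Subgroup.mem_inf.1 he
      have hX := H88.mem_rootGroup.1 heE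
      refine H88.rootSpace_commute_of_normalize hk hA hB hX (ne1 he1) ?_
      have hc := (Subgroup.mem_normalizer_iff.1 heN (H88.oneAdd B hB.sq)).1
        (H88.oneAdd_mem_rootGroup (H88.self_mem_rootSpace hB.rt))
      have h0 := H88.rootSpace_mul hX hX
      have hee : e = H88.oneAdd _ h0 := Units.ext (by simp)
      have hv := H88.mem_rootGroup.1 hc
      rw [Units.val_mul, Units.val_mul, H88.oneAdd_val, H88.conjE_one_add, add_sub_cancel_left,
        hee, H88.conjE_oneAdd] at hv
      simpa using hv
  rw [Subgroup.commutator_eq_bot_iff_le_centralizer]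
  intro g hg
  rw [Subgroup.mem_centralizer_iff]
  intro f hf
  by_cases hg1 : g = 1
  · simp [hg1]
  by_cases hf1 : f = 1
  · simp [hf1]
  have hgA := H88.mem_rootGroup.1 hg
  have hfB := H88.mem_rootGroup.1 hf
  have hc := H88.rootSpace_commute hk (hA.of_mem_rootSpace hgA (ne1 hg1))
    (hB.of_mem_rootSpace hfB (ne1 hf1)) (A' := A) (B' := B)
    ⟨hA.rt, (hA.ker_eq hgA (ne1 hg1)).le, (hA.range_eq hgA (ne1 hg1)).ge⟩ hA.2.1
    ⟨hB.rt, (hB.ker_eq hfB (ne1 hf1)).le, (hB.range_eq hfB (ne1 hf1)).ge⟩ hB.2.1 hAB
  ext1
  rw [Units.val_mul, Units.val_mul]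
  calc (f : Module.End k M) * g
      = ((f : Module.End k M) - 1) * ((g : Module.End k M) - 1) + f + g - 1 := by noncomm_ring
    _ = ((g : Module.End k M) - 1) * ((f : Module.End k M) - 1) + f + g - 1 := by rw [hc]
    _ = _ := by noncomm_ring

end Cfsg.Agent.S5073
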