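import Cfsg.Statements.S5075
import Cfsg.Agent.H88.TDecomp

set_option autoImplicit false
open Cfsg

namespace Cfsg.Agent.S5075

/-- Let p be an odd prime, V a finite-dimensional vector space over the field with p elements, and H a group of linear automorphisms of V generated by transvections (elements of order p fixing a hyperplane pointwise) and having no nontrivial normal p-subgroup. Then for some n ≥ 1 there are a decomposition V = V₀ ⊕ V₁ ⊕ ⋯ ⊕ Vₙ into H-invariant subspaces and a decomposition of H as the internal direct product of normal subgroups H₁, …, Hₙ such that Hⱼ acts trivially on every Vᵢ with i ≠ j, and Hⱼ induces on Vⱼ exactly the special linear group of Vⱼ or exactly the isometry group of a non-degenerate alternating form on Vⱼ. -/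
theorem result {p : ℕ} [Fact p.Prime] (hp : Odd p) {V : Type*} [AddCommGroup V] [Module (ZMod p) V] [Finite V]
    (H : Subgroup (V ≃ₗ[ZMod p] V)) (T : Set (V ≃ₗ[ZMod p] V)) (hHT : H = Subgroup.closure T)
    (hT : ∀ t ∈ T, orderOf t = p ∧
      Module.finrank (ZMod p) ↥(LinearMap.ker ((t : V →ₗ[ZMod p] V) - LinearMap.id)) + 1 =
        Module.finrank (ZMod p) V)
    (hOp : Cfsg.pCore p ↥H = ⊥) :
    ∃ (n : ℕ) (W : Fin (n + 1) → Submodule (ZMod p) V) (K : Fin n → Subgroup (V ≃ₗ[ZMod p] V)),
      1 ≤ n ∧ DirectSum.IsInternal W ∧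
      (∀ h ∈ H, ∀ i, (W i).map (h : V →ₗ[ZMod p] V) = W i) ∧
      (∀ j, K j ≤ H ∧ ((K j).subgroupOf H).Normal) ∧ ⨆ j, K j = H ∧
      (∀ j, K j ⊓ (⨆ j' ∈ {j' : Fin n | j' ≠ j}, K j') = ⊥) ∧
      (∀ j j', j ≠ j' → ∀ a ∈ K j, ∀ b ∈ K j', a * b = b * a) ∧
      (∀ j, ∀ h ∈ K j, ∀ i : Fin (n + 1), i ≠ j.succ → ∀ v ∈ W i, h v = v) ∧
      (∀ j, ∃ ρ : ↥(K j) →* (↥(W j.succ) ≃ₗ[ZMod p] ↥(W j.succ)),
        (∀ (h : ↥(K j)) (v : ↥(W j.succ)), ((ρ h v : ↥(W j.succ)) : V) = (h : V ≃ₗ[ZMod p] V) (v : V)) ∧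
        ((ρ.range : Set (↥(W j.succ) ≃ₗ[ZMod p] ↥(W j.succ))) =
            {f : ↥(W j.succ) ≃ₗ[ZMod p] ↥(W j.succ) | LinearMap.det (f : ↥(W j.succ) →ₗ[ZMod p] ↥(W j.succ)) = 1} ∨
          ∃ B : LinearMap.BilinForm (ZMod p) ↥(W j.succ), B.IsAlt ∧ B.Nondegenerate ∧
            (ρ.range : Set (↥(W j.succ) ≃ₗ[ZMod p] ↥(W j.succ))) = {f : ↥(W j.succ) ≃ₗ[ZMod p] ↥(W j.succ) | ∀ x y, B (f x) (f y) = B x y})) := by
  classical
  have hp2 : p ≠ 2 := fun e => by subst e; exact absurd hp (by decide)
  have hp3 : 3 ≤ p := by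
    have := (Fact.out : p.Prime).two_le
    omega
  haveI : FiniteDimensional (ZMod p) V := Module.Finite.of_finite
  -- the trivial group
  by_cases hH : H = ⊥
  · refine ⟨1, ![⊤, ⊥], fun _ => ⊥, le_rfl, ?_, ?_, fun j => ⟨bot_le, ?_⟩, by simp [hH], fun j => bot_inf_eq _, ?_, ?_, ?_⟩
    · rw [DirectSum.isInternal_submodule_iff_iSupIndep_and_iSup_eq_top]
      refine ⟨fun i => ?_, eq_top_iff.2 (le_iSup (![⊤, ⊥] : Fin 2 → Submodule (ZMod p) V) 0)⟩
      fin_cases i
      · refine Disjoint.mono_right (iSup₂_le fun k hk => ?_) disjoint_bot_right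
        fin_cases k
        · exact absurd rfl hk
        · exact le_rfl
      · exact disjoint_bot_left
    · intro h hh i
      rw [hH, Subgroup.mem_bot] at hh
      subst hh
      exact Submodule.map_id _
    · rw [Subgroup.bot_subgroupOf]
      infer_instance
    · intro j j' hjj
      exact absurd (Subsingleton.elim j j') hjj
    · intro j h hh i _ v _
      rw [Subgroup.mem_bot] at hh
      subst hh
      rfl
    · intro j
      obtain rfl : j = 0 := Subsingleton.elim _ _
      refine ⟨1, fun h v => ?_, Or.inl ?_⟩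
      · rw [Subgroup.mem_bot.1 h.2]
        rfl
      · haveI : Subsingleton ↥((![⊤, ⊥] : Fin 2 → Submodule (ZMod p) V) (Fin.succ 0)) := by
          show Subsingleton ↥(⊥ : Submodule (ZMod p) V)
          infer_instance
        refine Set.ext fun f => ⟨fun _ => ?_, fun _ => ⟨1, LinearEquiv.ext fun x => Subsingleton.elim _ _⟩⟩
        show LinearMap.det _ = 1
        rw [LinearMap.det_eq_one_of_subsingleton]
  -- the transvections generate
  set T' : Set ↥H := H.subtype ⁻¹' T
  have hgen : Subgroup.closure T' = ⊤ := by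
    apply Subgroup.map_injective H.subtype_injective
    rw [MonoidHom.map_closure, Set.image_preimage_eq_of_subset
      (fun t ht => ⟨⟨t, hHT ▸ Subgroup.subset_closure ht⟩, rfl⟩), ← hHT, ← MonoidHom.range_eq_map,
      Subgroup.range_subtype]
  obtain ⟨ι, hι, W₀, C₀, S₀, hS₀, hB₀, hX₀⟩ := H88.decomp hp3 _ rfl H.subtype H.subtype_injective T' hgen
    (fun t ht => H88.isTv_of_orderOf (hT _ ht).1 (hT _ ht).2)
    (fun N hN hNp => le_bot_iff.1 (hOp ▸ le_sSup ⟨hN, hNp⟩))
  haveI := hι
  let e := Fintype.equivFin ι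
  set m := Fintype.card ι
  let W : Fin m → Submodule (ZMod p) V := fun j => W₀ (e.symm j)
  let S : Fin m → Set ↥H := fun j => S₀ (e.symm j)
  have hB : ∀ j, H88.IsBlock H.subtype (S j) (W j) (H88.fixSp H.subtype (S j)) := fun j => by
    rw [(hB₀ (e.symm j)).fix_eq]; exact hB₀ _
  have hX : ∀ i j, i ≠ j → ∀ t ∈ S j, ∀ x ∈ W i, (t : V ≃ₗ[ZMod p] V) x = x := fun i j hij t ht x hx =>
    hX₀ _ _ (fun h => hij (e.symm.injective h)) t ht x hx
  have hcover : ∀ t ∈ T', ∃ j, t ∈ S j := fun t ht => by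
    rw [← hS₀] at ht
    obtain ⟨i, hi⟩ := Set.mem_iUnion.1 ht
    exact ⟨e i, by simp [S, hi]⟩
  let Z : Submodule (ZMod p) V := ⨅ j, H88.fixSp H.subtype (S j)
  let K : Fin m → Subgroup (V ≃ₗ[ZMod p] V) := fun j => (Subgroup.closure (S j)).map H.subtype
  have hWfix : ∀ i j, i ≠ j → W i ≤ H88.fixSp H.subtype (S j) := fun i j hij x hx t ht => hX i j hij t ht x hx
  have hone : 1 ≤ m := by
    by_contra h
    apply hH
    rw [hHT, Subgroup.closure_eq_bot_iff]
    intro t ht
    obtain ⟨j, -⟩ := hcover ⟨t, hHT ▸ Subgroup.subset_closure ht⟩ ht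
    exact absurd j.2 (by omega)
  have hcommgen : ∀ j j', j ≠ j' → ∀ a ∈ S j, ∀ b ∈ S j', a * b = b * a := fun j j' hjj a ha b hb =>
    (H88.commute_of_cross H.subtype_injective (hB j) (hB j') (fun s hs x hx => hX j' j hjj.symm s hs x hx)
      (fun s hs x hx => hX j j' hjj s hs x hx) ha hb).eq
  have hcomm : ∀ j j', j ≠ j' → ∀ a ∈ Subgroup.closure (S j), ∀ b ∈ Subgroup.closure (S j'), a * b = b * a := by
    intro j j' hjj
    have h1 : Subgroup.closure (S j) ≤ Subgroup.centralizer (S j' : Set ↥H) := (Subgroup.closure_le _).2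
      fun a ha => Subgroup.mem_centralizer_iff.2 fun b hb => (hcommgen j j' hjj a ha b hb).symm
    intro a ha
    have h2 : Subgroup.closure (S j') ≤ Subgroup.centralizer ({a} : Set ↥H) := (Subgroup.closure_le _).2
      fun b hb => Subgroup.mem_centralizer_singleton_iff.2 (Subgroup.mem_centralizer_iff.1 (h1 ha) b hb)
    intro b hb
    exact (Subgroup.mem_centralizer_singleton_iff.1 (h2 hb)).symm
  refine ⟨m, Fin.cons Z W, K, hone, ?_, ?_, fun j => ⟨?_, ?_⟩, ?_, ?_, ?_, ?_, ?_⟩
  · -- the direct sum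
    rw [DirectSum.isInternal_submodule_iff_iSupIndep_and_iSup_eq_top]
    refine ⟨fun i => ?_, eq_top_iff.2 fun x _ => ?_⟩
    · refine Fin.cases ?_ (fun j => ?_) i
      · refine Submodule.disjoint_def.2 fun x hxZ hx => ?_
        have hle : (⨆ k, ⨆ (_ : k ≠ (0 : Fin (m + 1))), (Fin.cons Z W : Fin (m + 1) → _) k) ≤ ⨆ j, W j := by
          refine iSup₂_le fun k hk => ?_
          obtain ⟨j, rfl⟩ := Fin.exists_succ_eq.2 hk
          rw [Fin.cons_succ]
          exact le_iSup W j
        obtain ⟨f, hf, hfx⟩ := (Submodule.mem_iSup_iff_exists_finsupp W x).1 (hle hx)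
        have hzero : ∀ j, f j = 0 := by
          intro j
          refine (hB j).fix_inter (hf j) ?_
          have h1 : f j = x - ∑ k ∈ Finset.univ.erase j, f k := by
            rw [← hfx, Finsupp.sum_fintype _ _ (fun _ => rfl), ← Finset.add_sum_erase _ _ (Finset.mem_univ j),
              add_sub_cancel_right]
          rw [h1]
          exact Submodule.sub_mem _ ((Submodule.mem_iInf _).1 (show x ∈ Z from hxZ) j)
            (Submodule.sum_mem _ fun k hk => hWfix k j (Finset.ne_of_mem_erase hk) (hf k))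
        rw [← hfx, Finsupp.sum_fintype _ _ (fun _ => rfl)]
        exact Finset.sum_eq_zero fun k _ => hzero k
      · rw [Fin.cons_succ]
        refine (hB j).1.disjoint.mono_right (iSup₂_le fun k hk => ?_)
        induction k using Fin.cases with
        | zero => rw [Fin.cons_zero]; exact iInf_le _ j
        | succ k => rw [Fin.cons_succ]; exact hWfix k j (fun h => hk (h ▸ rfl))
    · choose w hw c hc hwc using fun j => (hB j).exists_decomp x
      have hmem : x - ∑ j, w j ∈ Z := by
        refine (Submodule.mem_iInf _).2 fun k => ?_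
        have h1 : x - ∑ j, w j = c k - ∑ j ∈ Finset.univ.erase k, w j := by
          rw [← Finset.add_sum_erase _ _ (Finset.mem_univ k)]
          conv_lhs => rw [← hwc k]
          abel
        rw [h1]
        exact Submodule.sub_mem _ (hc k) (Submodule.sum_mem _ fun j hj => hWfix j k (Finset.ne_of_mem_erase hj) (hw j))
      rw [← sub_add_cancel x (∑ j, w j)]
      exact Submodule.add_mem _ (le_iSup (Fin.cons Z W : Fin (m + 1) → _) 0 (by simpa using hmem))
        (Submodule.sum_mem _ fun j _ => le_iSup (Fin.cons Z W : Fin (m + 1) → _) j.succ (by simpa using hw j))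
  · -- invariance
    intro h hh i
    have key : ∀ g : ↥H, ∀ x ∈ (Fin.cons Z W : Fin (m + 1) → _) i, (g : V ≃ₗ[ZMod p] V) x ∈ (Fin.cons Z W : Fin (m + 1) → _) i := by
      intro g
      have hg : g ∈ Subgroup.closure T' := hgen.symm ▸ Subgroup.mem_top g
      induction hg using Subgroup.closure_induction'' with
      | one => intro x hx; exact hx
      | mem t ht =>
        obtain ⟨j, hj⟩ := hcover t ht
        revert i
        refine Fin.cases ?_ (fun k => ?_)
        · intro x hx
          rw [Fin.cons_zero] at hx ⊢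
          rwa [show (t : V ≃ₗ[ZMod p] V) x = x from (Submodule.mem_iInf _).1 hx j t hj]
        · intro x hx
          rw [Fin.cons_succ] at hx ⊢
          by_cases hkj : k = j
          · subst hkj
            exact (hB k).apply_mem (Subgroup.subset_closure hj) hx
          · rwa [hX k j hkj t hj x hx]
      | inv_mem t ht =>
        obtain ⟨j, hj⟩ := hcover t ht
        revert i
        refine Fin.cases ?_ (fun k => ?_)
        · intro x hx
          rw [Fin.cons_zero] at hx ⊢
          rwa [show (((t⁻¹ : ↥H)) : V ≃ₗ[ZMod p] V) x = x from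
            H88.fix_of_mem (ρ := H.subtype) (Subgroup.inv_mem _ (Subgroup.subset_closure hj)) ((Submodule.mem_iInf _).1 hx j)]
        · intro x hx
          rw [Fin.cons_succ] at hx ⊢
          by_cases hkj : k = j
          · subst hkj
            exact (hB k).apply_mem (Subgroup.inv_mem _ (Subgroup.subset_closure hj)) hx
          · rwa [show (((t⁻¹ : ↥H)) : V ≃ₗ[ZMod p] V) x = x from
              H88.fix_of_mem (ρ := H.subtype) (Subgroup.inv_mem _ (Subgroup.subset_closure hj)) (hWfix k j hkj hx)]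
      | mul a b _ _ ha hb => intro x hx; exact ha _ (hb x hx)
    refine Submodule.eq_of_le_of_finrank_le (Submodule.map_le_iff_le_comap.2 fun x hx => key ⟨h, hh⟩ x hx) ?_
    exact (LinearEquiv.finrank_map_eq h _).ge
  · exact Subgroup.map_subtype_le _
  · rw [show (K j).subgroupOf H = Subgroup.closure (S j) from Subgroup.comap_map_eq_self_of_injective H.subtype_injective _]
    rw [← Subgroup.normalizer_eq_top_iff, eq_top_iff, ← hgen, Subgroup.closure_le]
    intro t ht
    obtain ⟨i, hi⟩ := hcover t ht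
    by_cases hij : i = j
    · subst hij
      exact Subgroup.le_normalizer (Subgroup.subset_closure hi)
    · refine Subgroup.centralizer_le_normalizer _ (Subgroup.mem_centralizer_iff.2 fun b hb => ?_)
      exact (hcomm i j hij t (Subgroup.subset_closure hi) b hb).symm
  · -- generation
    simp only [K, ← Subgroup.map_iSup, ← Subgroup.closure_iUnion]
    have hU : (⋃ j, S j) = T' := by
      rw [← hS₀]
      exact e.symm.surjective.iUnion_comp S₀
    rw [hU, hgen, ← MonoidHom.range_eq_map, Subgroup.range_subtype]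
  · intro j
    rw [eq_bot_iff]
    rintro x ⟨hx1, hx2⟩
    have hfix : ∀ y ∈ W j, x y = y := by
      intro y hy
      let M : Subgroup (V ≃ₗ[ZMod p] V) := fixingSubgroup (V ≃ₗ[ZMod p] V) (W j : Set V)
      have hle : (⨆ j' ∈ {j' : Fin m | j' ≠ j}, K j') ≤ M := iSup₂_le fun j' hj' => by
        rintro _ ⟨g, hg, rfl⟩
        exact (mem_fixingSubgroup_iff _).2 fun z hz => H88.fix_of_mem hg (hWfix j j' (Ne.symm hj') hz)
      exact (mem_fixingSubgroup_iff _).1 (hle hx2) y hy
    obtain ⟨g, hg, rfl⟩ := hx1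
    refine Subgroup.mem_bot.2 (LinearEquiv.ext fun z => ?_)
    obtain ⟨w, hw, c, hc, rfl⟩ := (hB j).exists_decomp z
    show H.subtype g (w + c) = w + c
    rw [map_add (H.subtype g), hfix w hw, H88.fix_of_mem hg hc]
  · rintro j j' hjj _ ⟨a, ha, rfl⟩ _ ⟨b, hb, rfl⟩
    rw [← map_mul, ← map_mul, hcomm j j' hjj a ha b hb]
  · rintro j _ ⟨g, hg, rfl⟩ i hi x hx
    revert hi hx
    refine Fin.cases ?_ (fun k => ?_) i
    · intro _ hx
      rw [Fin.cons_zero] at hx
      exact H88.fix_of_mem hg ((Submodule.mem_iInf _).1 hx j)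
    · intro hk hx
      rw [Fin.cons_succ] at hx
      exact H88.fix_of_mem hg (hWfix k j (fun h => hk (h ▸ rfl)) hx)
  · intro j
    obtain ⟨r, hr, hcl⟩ := (hB j).2.2.2
    rw [Fin.cons_succ]
    let ek := ((Subgroup.closure (S j)).equivMapOfInjective H.subtype H.subtype_injective).symm
    refine ⟨r.comp ek.toMonoidHom, fun h v => ?_, ?_⟩
    · rw [MonoidHom.comp_apply, hr]
      have h1 := congrArg Subtype.val (((Subgroup.closure (S j)).equivMapOfInjective H.subtype H.subtype_injective).apply_symm_apply h)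
      exact LinearEquiv.congr_fun h1 _
    · rw [MonoidHom.range_comp, MonoidHom.range_eq_top.2 ek.surjective, ← MonoidHom.range_eq_map]
      rcases hcl with ⟨-, h⟩ | h
      · exact Or.inl h
      · exact Or.inr h

end Cfsg.Agent.S5075
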