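import Cfsg.Statements.S5087
import Cfsg.Agent.FusionSys.Normal

set_option autoImplicit false
open Cfsg

namespace Cfsg.Agent.S5087

/-- In a saturated fusion system over a finite p-group S, a subgroup Q is normal in the system if and only if every subgroup P that equals S or is essential contains Q and every element of Aut_F(P) maps Q onto itself. -/
theorem result {Ω : Type*} [Group Ω] {S : Subgroup Ω} [Finite S] (p : ℕ) [Fact p.Prime] (hS : IsPGroup p S) (F : Cfsg.FusionSystem S) (hF : F.IsSaturated p) (Q : Subgroup Ω) : F.IsNormal Q ↔ ∀ P : Subgroup Ω, (P = S ∨ F.IsEssential p P) → (Q ≤ P ∧ ∀ α ∈ F.autGroup P, (Q.subgroupOf P).map α.toMonoidHom = Q.subgroupOf P) := by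
  rw [FusionSys.isNormal_iff_essential hS hF]
  refine forall₂_congr fun P _ => and_congr_right fun hQP => forall₂_congr fun α _ => ?_
  constructor
  · intro h
    ext z
    constructor
    · rintro ⟨w, hw, rfl⟩
      have : FusionSys.autMap α (w : Ω) ∈ Q := h.le ⟨w, hw, rfl⟩
      rw [FusionSys.autMap_coe] at this
      exact this
    · intro hz
      obtain ⟨y, hy, hye⟩ := h.ge hz
      refine ⟨⟨y, hQP hy⟩, hy, Subtype.ext ?_⟩
      rw [FusionSys.autMap_apply α (hQP hy)] at hye
      exact hye
  · intro h
    ext y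
    constructor
    · rintro ⟨x, hx, rfl⟩
      rw [FusionSys.autMap_apply α (hQP hx)]
      exact h.le ⟨⟨x, hQP hx⟩, hx, rfl⟩
    · intro hy
      obtain ⟨w, hw, he⟩ := h.ge (show (⟨y, hQP hy⟩ : P) ∈ Q.subgroupOf P from hy)
      refine ⟨w, hw, ?_⟩
      rw [FusionSys.autMap_coe]
      exact congrArg Subtype.val he

end Cfsg.Agent.S5087
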