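import Cfsg.Statements.S5088
import Cfsg.Agent.FusionSys.NormalSeries

set_option autoImplicit false
open Cfsg

namespace Cfsg.Agent.S5088

/-- In a saturated fusion system over a finite p-group, a subgroup Q is normal in the system if and only if there is a chain of subgroups 1 = Q₀ ≤ Q₁ ≤ ⋯ ≤ Qₙ = Q such that each Qᵢ with i ≥ 1 is strongly closed in the system and [Q, Qᵢ] ≤ Qᵢ₋₁. -/
theorem result {Ω : Type*} [Group Ω] {S : Subgroup Ω} [Finite S] (p : ℕ) [Fact p.Prime] (hS : IsPGroup p S) (F : Cfsg.FusionSystem S) (hF : F.IsSaturated p) (Q : Subgroup Ω) : F.IsNormal Q ↔ ∃ (n : ℕ) (Qs : Fin (n + 1) → Subgroup Ω), Qs 0 = ⊥ ∧ Qs (Fin.last n) = Q ∧ Monotone Qs ∧ ∀ i : Fin n, F.StronglyClosed (Qs i.succ) ∧ ⁅Q, Qs i.succ⁆ ≤ Qs (Fin.castSucc i) := by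
  constructor
  · intro h
    haveI := FusionSys.finite_of_le h.1
    haveI : Group.IsNilpotent Q := (hS.to_le h.1).isNilpotent
    obtain ⟨n, hn⟩ := (Subgroup.isNilpotent_iff_lowerCentralSeries Q).1 inferInstance
    refine ⟨n, fun i => Subgroup.lowerCentralSeries Q (n - i), by simpa using hn, by simp,
      fun a b hab => Subgroup.lowerCentralSeries_antitone Q (by omega), fun i => ⟨?_, ?_⟩⟩
    · exact FusionSys.stronglyClosed_of_isNormal (FusionSys.isNormal_of_characteristic h
        (Subgroup.lowerCentralSeries_le_self Q _) (FusionSys.characteristic_lowerCentralSeries Q _))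
    · dsimp only
      rw [Subgroup.commutator_comm, show n - ((i.castSucc : Fin (n + 1)) : ℕ) =
          n - ((i.succ : Fin (n + 1)) : ℕ) + 1 by simp; omega]
      exact le_rfl
  · rintro ⟨n, Qs, h0, hn, hm, h⟩
    have hsc : ∀ i : Fin (n + 1), F.StronglyClosed (Qs i) := fun i => by
      induction i using Fin.cases with
      | zero => exact h0 ▸ FusionSys.stronglyClosed_bot F
      | succ j => exact (h j).1
    refine H90.isNormal_of_series hS hF (hn ▸ hsc (Fin.last n))
      (fun i => Qs ⟨min i n, by omega⟩) n ((congrArg Qs (Fin.ext (by simp))).trans h0)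
      ((congrArg Qs (Fin.ext (by simp))).trans hn)
      (fun a b hab => hm (Fin.mk_le_mk.2 (min_le_min hab le_rfl)))
      (fun i hi => ?_) (fun i _ => FusionSys.weaklyClosed_of_stronglyClosed (hsc _))
    have := (h ⟨i, hi⟩).2
    rw [Subgroup.commutator_comm] at this
    rwa [show (⟨i, hi⟩ : Fin n).succ = ⟨min (i + 1) n, by omega⟩ from Fin.ext (by simp; omega),
      show (⟨i, hi⟩ : Fin n).castSucc = ⟨min i n, by omega⟩ from Fin.ext (by simp; omega)] at this

end Cfsg.Agent.S5088
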