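import Cfsg.Statements.S5089
import Cfsg.Agent.FusionSys.NormalSeries
import Cfsg.Agent.H89.Join

set_option autoImplicit false
open Cfsg

namespace Cfsg.Agent.S5089

/-- A saturated fusion system over a finite p-group has a nontrivial subgroup that is normal in the system (O_p(F) ≠ 1) if and only if some nontrivial abelian subgroup is strongly closed in the system. -/
theorem result {Ω : Type*} [Group Ω] {S : Subgroup Ω} [Finite S] (p : ℕ) [Fact p.Prime] (hS : IsPGroup p S) (F : Cfsg.FusionSystem S) (hF : F.IsSaturated p) : F.core ≠ ⊥ ↔ ∃ Q : Subgroup Ω, Q ≠ ⊥ ∧ IsMulCommutative Q ∧ F.StronglyClosed Q := by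
  constructor
  · intro h
    have hN := H89.isNormal_core F
    haveI := FusionSys.finite_of_le hN.1
    haveI : Nontrivial F.core := (Subgroup.nontrivial_iff_ne_bot _).2 h
    haveI := (hS.to_le hN.1).center_nontrivial
    let Z := (Subgroup.center F.core).map F.core.subtype
    refine ⟨Z, ?_, inferInstance, FusionSys.stronglyClosed_of_isNormal
      (FusionSys.isNormal_of_characteristic hN (Subgroup.map_subtype_le _) ?_)⟩
    · intro hZ
      exact (Subgroup.nontrivial_iff_ne_bot _).1 this
        (Subgroup.map_injective F.core.subtype_injective (hZ.trans (Subgroup.map_bot _).symm))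
    · show (Subgroup.comap F.core.subtype Z).Characteristic
      rw [Subgroup.comap_map_eq_self_of_injective F.core.subtype_injective]
      infer_instance
  · rintro ⟨Q, hQ, hab, hsc⟩ hc
    exact hQ (le_bot_iff.1 (hc ▸ H89.le_core F (FusionSys.isNormal_of_isMulCommutative hS hF hsc)))

end Cfsg.Agent.S5089
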