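import Cfsg.Statements.S5102


set_option autoImplicit false
open Cfsg

namespace Cfsg.Agent.S5102

/-- A normal p-subgroup of a finite group G is normal in the fusion system of G on a Sylow p-subgroup. -/
theorem result {G : Type*} [Group G] [Finite G] (p : ℕ) [Fact p.Prime] (S : Sylow p G) (R : Subgroup G) [R.Normal] (hR : IsPGroup p R) : (Cfsg.groupFusionSystem (S : Subgroup G)).IsNormal R := by
  have hRS : R ≤ (S : Subgroup G) := by
    have h : IsPGroup p ↥((S : Subgroup G) ⊔ R) := S.isPGroup'.to_sup_of_normal_right hR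
    exact (le_sup_right (a := (S : Subgroup G))).trans (S.is_maximal' h le_sup_left).le
  refine ⟨hRS, ?_⟩
  rintro P φ ⟨hP, hφ, g, hg⟩
  have hn : ∀ r ∈ R, g * r * g⁻¹ ∈ R := fun r hr => (inferInstance : R.Normal).conj_mem r hr g
  refine ⟨Cfsg.conjHom (P ⊔ R) g, ⟨sup_le hP hRS, ?_, g, fun x => rfl⟩, fun x => (hg x).symm, ?_⟩
  · rintro ⟨x, hx⟩
    rw [← SetLike.mem_coe, Subgroup.mul_normal] at hx
    obtain ⟨a, ha, r, hr, rfl⟩ := hx
    show g * (a * r) * g⁻¹ ∈ (S : Subgroup G)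
    have e : g * (a * r) * g⁻¹ = (g * a * g⁻¹) * (g * r * g⁻¹) := by group
    rw [e]
    exact S.1.mul_mem (by rw [← hg ⟨a, ha⟩]; exact hφ _) (hRS (hn r hr))
  · refine le_antisymm ?_ ?_
    · rintro _ ⟨x, hx, rfl⟩
      exact hn _ (Subgroup.mem_subgroupOf.mp hx)
    · intro r hr
      refine ⟨⟨g⁻¹ * r * g, Subgroup.mem_sup_right ?_⟩, ?_, ?_⟩
      · simpa using (inferInstance : R.Normal).conj_mem r hr g⁻¹
      · refine Subgroup.mem_subgroupOf.mpr ?_
        simpa using (inferInstance : R.Normal).conj_mem r hr g⁻¹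
      · show g * (g⁻¹ * r * g) * g⁻¹ = r
        group

end Cfsg.Agent.S5102
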