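import Cfsg.Statements.S5106
import Cfsg.Agent.FusionSys.NormalSeries

set_option autoImplicit false
open Cfsg

namespace Cfsg.Agent.S5106

/-- In a saturated fusion system over a finite p-group S, a subgroup R ≤ S is normal in the system if and only if every map of the system whose source is a subgroup of R is the restriction of an element of Aut_F(R). -/
theorem result {Ω : Type*} [Group Ω] {S : Subgroup Ω} [Finite S] (p : ℕ) [Fact p.Prime] (hS : IsPGroup p S) (F : Cfsg.FusionSystem S) (hF : F.IsSaturated p) (R : Subgroup Ω) (hRS : R ≤ S) : F.IsNormal R ↔ ∀ (P : Subgroup Ω) (hPR : P ≤ R) (φ : P →* Ω), φ ∈ F.Hom P → ∃ α ∈ F.autGroup R, ∀ x : P, ((α (Subgroup.inclusion hPR x) : R) : Ω) = φ x := by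
  constructor
  · intro hR P hPR φ hφ
    obtain ⟨g, hg, he, hgR⟩ := (FusionSys.isNormal_iff.1 hR).2 P _ (FusionSys.isMap_of_mem hφ)
    obtain ⟨α, hα, hαe⟩ := (FusionSys.IsIso.mk (hg.mono le_sup_right) hgR).exists_aut
    refine ⟨α, hα, fun x => ?_⟩
    have : FusionSys.autMap α (x : Ω) = φ x :=
      (hαe _ (hPR x.2)).trans ((he _ x.2).trans (FusionSys.homFun_coe φ x))
    rwa [FusionSys.autMap_apply α (hPR x.2)] at this
  · intro h
    refine FusionSys.isNormal_of_extends hS hF hRS fun P f hP hf => ?_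
    obtain ⟨φ, hφ, hφf⟩ := hf
    obtain ⟨α, hα, he⟩ := h P hP φ hφ
    refine ⟨α, hα, fun x hx => ?_⟩
    rw [← hφf ⟨x, hx⟩, FusionSys.autMap_apply α (hP hx)]
    exact (he ⟨x, hx⟩).symm

end Cfsg.Agent.S5106
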