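import Cfsg.Statements.S5107
import Cfsg.Agent.S5088
import Cfsg.Agent.FusionSys.Group
import Cfsg.Agent.FusionSys.Normal

set_option autoImplicit false
open Cfsg

namespace Cfsg.Agent.S5107

/-- If a Sylow p-subgroup S of a finite group G has nilpotency class at most two and its centre is strongly closed in S with respect to G, then every map of the fusion system of G on S is conjugation by an element of N_G(S), and S is the largest subgroup normal in that fusion system. -/
theorem result {G : Type*} [Group G] [Finite G] (p : ℕ) [Fact p.Prime] (S : Sylow p G) (hcl : ⁅(S : Subgroup G), (S : Subgroup G)⁆ ≤ (S : Subgroup G) ⊓ Subgroup.centralizer ((S : Subgroup G) : Set G)) (hZ : Cfsg.IsStronglyClosed ((S : Subgroup G) ⊓ Subgroup.centralizer ((S : Subgroup G) : Set G)) (S : Subgroup G)) : (∀ (P : Subgroup G) (φ : P →* G), φ ∈ (Cfsg.groupFusionSystem (S : Subgroup G)).Hom P → ∃ g ∈ Subgroup.normalizer ((S : Subgroup G) : Set G), ∀ x : P, φ x = g * (x : G) * g⁻¹) ∧ (Cfsg.groupFusionSystem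 (S : Subgroup G)).core = S := by
  set F := Cfsg.groupFusionSystem (S : Subgroup G) with hF
  set Z := (S : Subgroup G) ⊓ Subgroup.centralizer ((S : Subgroup G) : Set G) with hZdef
  have hSc : F.StronglyClosed (S : Subgroup G) := ⟨le_rfl, fun R _ φ hφ x => (F.le_of_mem hφ).2 x⟩
  have hZc : F.StronglyClosed Z := by
    refine ⟨inf_le_left, fun R hR φ hφ x => ?_⟩
    obtain ⟨-, hφS, g, hg⟩ := hφ
    rw [hg]
    exact hZ.2 _ (hR x.2) g (hg x ▸ hφS x)
  have hnorm : F.IsNormal (S : Subgroup G) := by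
    refine (Cfsg.Agent.S5088.result p S.isPGroup' F (FusionSys.isSaturated_group S) _).mpr
      ⟨2, ![⊥, Z, (S : Subgroup G)], rfl, rfl, ?_, ?_⟩
    · refine Fin.monotone_iff_le_succ.mpr fun i => ?_
      fin_cases i
      · exact bot_le
      · exact inf_le_left
    · intro i
      fin_cases i
      · refine ⟨hZc, ?_⟩
        show ⁅(S : Subgroup G), Z⁆ ≤ ⊥
        rw [le_bot_iff, Subgroup.commutator_eq_bot_iff_le_centralizer]
        intro s hs
        exact Subgroup.mem_centralizer_iff.mpr fun z hz => (Subgroup.mem_centralizer_iff.mp hz.2 s hs).symm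
      · exact ⟨hSc, hcl⟩
  refine ⟨fun P φ hφ => ?_, le_antisymm (sSup_le fun Q hQ => hQ.1) (le_sSup hnorm)⟩
  obtain ⟨ψ, hψ, hext, himg⟩ := hnorm.2 P φ hφ
  obtain ⟨-, -, g, hg⟩ := hψ
  refine ⟨g, ?_, fun x => by rw [← hext, hg]; rfl⟩
  rw [Subgroup.mem_normalizer_iff_map_conj_eq]
  apply SetLike.ext'
  refine Eq.trans ?_ (congrArg SetLike.coe himg)
  ext y
  constructor
  · rintro ⟨s, hs, rfl⟩
    exact ⟨⟨s, Subgroup.mem_sup_right hs⟩, hs, hg _⟩
  · rintro ⟨v, hv, rfl⟩
    exact ⟨v, hv, (hg v).symm⟩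

end Cfsg.Agent.S5107
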