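import Cfsg.Statements.S5109
import Cfsg.Agent.S0665
import Cfsg.Agent.FusionSys.FreeFunctor
import Cfsg.Agent.FusionSys.SthreeFree

set_option autoImplicit false
open Cfsg

namespace Cfsg.Agent.S5109

/-- A saturated fusion system over a finite 2-group S in which no automorphism group Aut_F(U), U ≤ S, has a section isomorphic to the symmetric group of degree 3 is constrained. -/
theorem result {Ω : Type*} [Group Ω] {S : Subgroup Ω} [Finite S] (hS : IsPGroup 2 S) (F : Cfsg.FusionSystem S) (hF : F.IsSaturated 2) (h3 : ∀ U : Subgroup Ω, U ≤ S → ¬ Cfsg.Involves (Equiv.Perm (Fin 3)) ↥(F.autGroup U)) : F.IsConstrained 2 := by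
  haveI : Fact (Nat.Prime 2) := ⟨Nat.prime_two⟩
  obtain ⟨K, hK⟩ := FusionSys.exists_freeFun_two fun T _ _ _ hT => Cfsg.Agent.S0665.result hT
  exact FusionSys.isConstrained_freeFun hK hS hF (FusionSys.isSectionFree_sfour_of_sthree hS h3)

end Cfsg.Agent.S5109
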