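import Cfsg.Statements.S5112
import Cfsg.Agent.S3116
import Cfsg.Agent.PGroups.Taussky
import Cfsg.Agent.FusionSys.Alperin

set_option autoImplicit false
open Cfsg

namespace Cfsg.Agent.S5112

/-- If S is a dihedral or generalized quaternion 2-group of order at least 16, then in every saturated fusion system over S (at the prime 2) the automorphism group Aut_F(S) consists of the inner automorphisms of S. -/
theorem result {Ω : Type*} [Group Ω] {S : Subgroup Ω} [Finite S] (n : ℕ) (hn : 4 ≤ n) (hshape : Nonempty (S ≃* DihedralGroup (2 ^ (n - 1))) ∨ Nonempty (S ≃* QuaternionGroup (2 ^ (n - 2)))) (F : Cfsg.FusionSystem S) (hF : F.IsSaturated 2) : F.autGroup S = Cfsg.Inn S := by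
  haveI : Fact (Nat.Prime 2) := ⟨Nat.prime_two⟩
  have h2 : IsPGroup 2 S := by
    rcases hshape with ⟨⟨e⟩⟩ | ⟨⟨e⟩⟩
    · refine IsPGroup.of_card (n := n) ?_
      rw [Nat.card_congr e.toEquiv, DihedralGroup.nat_card, ← pow_succ']
      congr 1
      omega
    · refine IsPGroup.of_card (n := n) ?_
      rw [Nat.card_congr e.toEquiv, Nat.card_eq_fintype_card, QuaternionGroup.card,
        show (4 : ℕ) = 2 ^ 2 from rfl, ← pow_add]
      congr 1
      omega
  have haut : IsPGroup 2 (MulAut S) := by
    rcases hshape with ⟨⟨e⟩⟩ | ⟨⟨e⟩⟩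
    · refine Cfsg.Agent.S3116.result h2 (Or.inl ⟨2 ^ (n - 1), ?_, ⟨e⟩⟩)
      exact le_trans (le_of_eq (by norm_num)) (Nat.pow_le_pow_right two_pos (show 2 ≤ n - 1 by omega))
    · set m := 2 ^ (n - 2) with hm
      have hm4 : 4 ≤ m := le_trans (le_of_eq (by norm_num)) (Nat.pow_le_pow_right two_pos (show 2 ≤ n - 2 by omega))
      haveI : NeZero m := ⟨by omega⟩
      set c := e.symm (QuaternionGroup.a 1) with hcdef
      have hc : orderOf c = 2 ^ (n - 1) := by
        rw [hcdef, MulEquiv.orderOf_eq, QuaternionGroup.orderOf_a_one, hm, ← pow_succ']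
        congr 1
        omega
      have hmem : ∀ g : S, (∃ i, e g = QuaternionGroup.a i) → g ∈ Subgroup.zpowers c := by
        rintro g ⟨i, hi⟩
        refine ⟨(i.val : ℤ), e.injective ?_⟩
        show e (c ^ (i.val : ℤ)) = e g
        rw [hi, zpow_natCast, map_pow, hcdef, MulEquiv.apply_symm_apply, QuaternionGroup.a_one_pow,
          ZMod.natCast_zmod_val]
      have hys : e.symm (QuaternionGroup.xa 0) ∉ Subgroup.zpowers c := by
        rintro ⟨i, hi⟩
        change c ^ i = _ at hi
        rw [← zpow_mod_orderOf, ← Int.toNat_of_nonneg (Int.emod_nonneg i (Int.natCast_ne_zero.mpr (orderOf_pos c).ne')),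
          zpow_natCast] at hi
        have h1 := congrArg e hi
        rw [map_pow, hcdef, MulEquiv.apply_symm_apply, MulEquiv.apply_symm_apply, QuaternionGroup.a_one_pow] at h1
        cases h1
      refine PGroups.isPGroup_mulAut hc ?_ hys fun φ => hmem _ ?_
      · have h1 := (Subgroup.zpowers c).card_mul_index
        rw [Nat.card_zpowers, hc, Nat.card_congr e.toEquiv, Nat.card_eq_fintype_card, QuaternionGroup.card, hm,
          show 4 * 2 ^ (n - 2) = 2 ^ (n - 1) * 2 by
            rw [show n - 1 = n - 2 + 1 by omega, pow_succ]; ring] at h1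
        exact Nat.eq_of_mul_eq_mul_left (by positivity) h1
      · cases h' : e (φ c) with
        | a i => exact ⟨i, rfl⟩
        | xa i =>
          have h1 : orderOf (e (φ c)) = 2 ^ (n - 1) := by rw [MulEquiv.orderOf_eq, MulEquiv.orderOf_eq, hc]
          rw [h', QuaternionGroup.orderOf_xa] at h1
          have : 2 ^ 3 ≤ 2 ^ (n - 1) := Nat.pow_le_pow_right two_pos (by omega)
          omega
  haveI := FusionSys.finite_autGroup F (le_refl S)
  have hn := (FusionSys.isFullyAutomized_iff h2).1
    (FusionSys.isFullyAutomized_of_isFullyNormalized h2 hF (FusionSys.isFullyNormalized_S F))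
  obtain ⟨k, hk⟩ := ((haut.to_subgroup (F.autGroup S)).index
    (H := (Cfsg.autInducedBy S S).subgroupOf (F.autGroup S)))
  have hk0 : k = 0 := by
    by_contra hk0
    exact hn.2 (show 2 ∣ ((Cfsg.autInducedBy S S).subgroupOf (F.autGroup S)).index from
      hk ▸ dvd_pow_self 2 hk0)
  rw [hk0, pow_zero, Subgroup.index_eq_one, Subgroup.subgroupOf_eq_top] at hk
  exact le_antisymm (hk.trans (FusionSys.inn_eq_autInducedBy_self S).ge) (FusionSys.inn_le_autGroup F le_rfl)

end Cfsg.Agent.S5112
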