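import Cfsg.Statements.S5342
import Cfsg.Agent.FusionSys.ModelFacts
import Cfsg.Agent.H90.WeaklyNormal

set_option autoImplicit false
open Cfsg

namespace Cfsg.Agent.S5342

open Cfsg.Agent.FusionSys Cfsg.FusionSystem in
theorem constrained_of_normal {Ω : Type*} [Group Ω] {S T : Subgroup Ω} [Finite S] {p : ℕ} [Fact p.Prime]
    (hS : IsPGroup p S) {F : Cfsg.FusionSystem S} (hF : F.IsConstrained p) {E : Cfsg.FusionSystem T}
    (hE : E.IsNormalIn F p) : E.IsConstrained p := by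
  classical
  obtain ⟨⟨hEs, -, hsub, hTsc, -, -⟩, -⟩ := hE
  obtain ⟨G, _, ι, hG⟩ := exists_model hS F hF
  haveI := hG.1
  have hTS := hTsc.1
  haveI := finite_of_le hTS
  set Q := modelCore p ι with hQ
  have hQn : F.IsNormal Q := isNormal_modelCore hG
  have hQS : Q ≤ S := modelCore_le
  have hQsc := stronglyClosed_of_isNormal hQn
  haveI := finite_of_le hQS
  set R := Q ⊓ T with hR
  have hclF : ∀ (P : Subgroup Ω) (f : Ω → Ω), IsMap F P f → ∀ x ∈ P, x ∈ R → f x ∈ R := fun P f hf x hx hxR =>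
    ⟨(stronglyClosed_iff.1 hQsc).2 (P ⊓ Q) f inf_le_right (hf.mono inf_le_left) x ⟨hx, hxR.1⟩,
      (stronglyClosed_iff.1 hTsc).2 (P ⊓ T) f inf_le_right (hf.mono inf_le_left) x ⟨hx, hxR.2⟩⟩
  -- transport to the model
  have hconjG : ∀ (g : G) (x : S), (x : Ω) ∈ Q →
      ∃ y : S, ι y = g * ι x * g⁻¹ ∧ (y : Ω) ∈ Q ∧ ((x : Ω) ∈ R → (y : Ω) ∈ R) := by
    intro g x hx
    obtain ⟨y, hy⟩ := pCore_le_range hG (conj_mem_pCore (mem_modelCore.1 hx) g)
    refine ⟨y, hy, mem_modelCore.2 (hy ▸ conj_mem_pCore (mem_modelCore.1 hx) g), fun hxR => ?_⟩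
    have hmap : IsMap F (Subgroup.zpowers (x : Ω)) (fun z => bwdFun hG.2.1.1 (g * homFun ι z * g⁻¹)) := by
      refine (isMap_realized_iff hG.2.1).2 ⟨Subgroup.zpowers_le.2 x.2, g, fun z hz => ?_⟩
      have hzQ : (z : Ω) ∈ Q := (Subgroup.zpowers_le.2 hx) hz
      obtain ⟨s, hs⟩ := pCore_le_range hG (conj_mem_pCore (mem_modelCore.1 hzQ) g)
      have he : bwdFun hG.2.1.1 (g * homFun ι z * g⁻¹) = s := by rw [homFun_coe, ← hs, bwdFun_apply]
      exact ⟨he.symm ▸ s.2, (congrArg ι (Subtype.ext he)).trans hs⟩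
    have h := hclF _ _ hmap x (Subgroup.mem_zpowers _) hxR
    simp only [homFun_coe, ← hy, bwdFun_apply] at h
    exact h
  let K : Subgroup G :=
    { carrier := {g | (∀ x : S, (x : Ω) ∈ R → g * ι x * g⁻¹ = ι x) ∧
        ∀ x : S, (x : Ω) ∈ Q → ∃ r : S, (r : Ω) ∈ R ∧ g * ι x * g⁻¹ = ι x * ι r}
      one_mem' := ⟨fun x _ => by simp, fun x _ => ⟨1, R.one_mem, by simp⟩⟩
      mul_mem' := fun {a b} ha hb => ⟨fun x hx => by
        rw [show a * b * ι x * (a * b)⁻¹ = a * (b * ι x * b⁻¹) * a⁻¹ by group, hb.1 x hx, ha.1 x hx], fun x hx => by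
        obtain ⟨r, hr, he⟩ := hb.2 x hx
        obtain ⟨r', hr', he'⟩ := ha.2 x hx
        refine ⟨r' * r, R.mul_mem hr' hr, ?_⟩
        rw [show a * b * ι x * (a * b)⁻¹ = a * (b * ι x * b⁻¹) * a⁻¹ by group, he,
          show a * (ι x * ι r) * a⁻¹ = a * ι x * a⁻¹ * (a * ι r * a⁻¹) by group, he', ha.1 r hr, map_mul, mul_assoc]⟩
      inv_mem' := fun {a} ha => ⟨fun x hx => by
        conv_lhs => rw [← ha.1 x hx]
        group, fun x hx => by
        obtain ⟨r, hr, he⟩ := ha.2 x hx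
        refine ⟨r⁻¹, R.inv_mem hr, ?_⟩
        calc a⁻¹ * ι x * a⁻¹⁻¹ = a⁻¹ * (a * ι x * a⁻¹ * (a * ι r * a⁻¹)⁻¹) * a := by
              rw [ha.1 r hr, he]; group
          _ = ι x * (ι r)⁻¹ := by group
          _ = _ := by rw [map_inv]⟩ }
  haveI : K.Normal := ⟨fun k hk g => ⟨fun x hx => by
      obtain ⟨y, hy, -, hyR⟩ := hconjG g⁻¹ x hx.1
      have h := hk.1 y (hyR hx)
      calc g * k * g⁻¹ * ι x * (g * k * g⁻¹)⁻¹ = g * (k * (g⁻¹ * ι x * g⁻¹⁻¹) * k⁻¹) * g⁻¹ := by group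
        _ = g * (g⁻¹ * ι x * g⁻¹⁻¹) * g⁻¹ := by rw [← hy, h]
        _ = ι x := by group, fun x hx => by
      obtain ⟨y, hy, hyQ, -⟩ := hconjG g⁻¹ x hx
      obtain ⟨r, hr, he⟩ := hk.2 y hyQ
      obtain ⟨r', hr', -, hrR⟩ := hconjG g r hr.1
      refine ⟨r', hrR hr, ?_⟩
      calc g * k * g⁻¹ * ι x * (g * k * g⁻¹)⁻¹ = g * (k * (g⁻¹ * ι x * g⁻¹⁻¹) * k⁻¹) * g⁻¹ := by group
        _ = g * (g⁻¹ * ι x * g⁻¹⁻¹ * ι r) * g⁻¹ := by rw [← hy, he]
        _ = ι x * (g * ι r * g⁻¹) := by group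
        _ = ι x * ι r' := by rw [hr']⟩⟩
  have hKp : IsPGroup p K := by
    refine Cfsg.Agent.H90.isPGroup_of_coprime_eq_one fun k hk => Subtype.ext ?_
    have hcent : (k : G) ∈ pCore p G := mem_pCore_of_centralizes hG fun x hx => by
      obtain ⟨r, hr, he⟩ := k.2.2 x hx
      have hpow : ∀ n : ℕ, (k : G) ^ n * ι x * ((k : G) ^ n)⁻¹ = ι x * ι r ^ n := by
        intro n
        induction n with
        | zero => simp
        | succ n ih =>
          calc (k : G) ^ (n + 1) * ι x * ((k : G) ^ (n + 1))⁻¹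
              = (k : G) * ((k : G) ^ n * ι x * ((k : G) ^ n)⁻¹) * (k : G)⁻¹ := by group
            _ = ((k : G) * ι x * (k : G)⁻¹) * ((k : G) * ι r * (k : G)⁻¹) ^ n := by rw [ih, conj_pow]; group
            _ = _ := by rw [he, k.2.1 r hr, mul_assoc, ← pow_succ']
      have h1 := hpow (orderOf k)
      rw [← Subgroup.orderOf_coe, pow_orderOf_eq_one, Subgroup.orderOf_coe, one_mul, inv_one, mul_one,
        left_eq_mul, ← map_pow] at h1
      have h2 : r ^ orderOf k = 1 := hG.2.1.1 (h1.trans (map_one ι).symm)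
      obtain ⟨j, hj⟩ := hS r
      have hr1 : r = 1 := orderOf_eq_one_iff.1 (Nat.eq_one_of_dvd_coprimes (hk.pow_right j)
        (orderOf_dvd_of_pow_eq_one h2) (orderOf_dvd_of_pow_eq_one hj))
      rw [hr1, map_one, mul_one] at he
      exact (mul_inv_eq_iff_eq_mul.1 he).symm
    obtain ⟨T', hT'⟩ := hG.2.2.1
    obtain ⟨j, hj⟩ := T'.isPGroup' ⟨k, hT'.ge (pCore_le_range hG hcent)⟩
    have hj' : (k : G) ^ p ^ j = 1 := congrArg Subtype.val hj
    exact orderOf_eq_one_iff.1 (Nat.eq_one_of_dvd_coprimes (hk.pow_right j)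
      (dvd_of_eq (Subgroup.orderOf_coe k)) (orderOf_dvd_of_pow_eq_one hj'))
  have hTn : S ≤ Subgroup.normalizer (T : Set Ω) := fun s hs =>
    mem_normalizer_of_maps fun y hy => (stronglyClosed_iff.1 hTsc).2 T (conjMap s) le_rfl (isMap_conj F hTS hs) y hy
  have hQnS : S ≤ Subgroup.normalizer (Q : Set Ω) := le_normalizer_of_isNormal hQn
  have hC : ∀ c ∈ T, (∀ r ∈ R, r * c = c * r) → c ∈ R := by
    intro c hcT hc
    refine ⟨(mem_modelCore (x := ⟨c, hTS hcT⟩)).2 ((le_sSup ⟨inferInstance, hKp⟩ : K ≤ pCore p G) ⟨fun x hx => ?_,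
      fun x hx => ?_⟩), hcT⟩
    · rw [← map_inv, ← map_mul, ← map_mul]
      exact congrArg ι (Subtype.ext (by
        show c * (x : Ω) * c⁻¹ = x
        rw [← hc x hx, mul_inv_cancel_right]))
    · refine ⟨x⁻¹ * (⟨c, hTS hcT⟩ * x * ⟨c, hTS hcT⟩⁻¹), ⟨?_, ?_⟩, ?_⟩
      · show (x : Ω)⁻¹ * (c * x * c⁻¹) ∈ Q
        exact Q.mul_mem (Q.inv_mem hx) ((Subgroup.mem_normalizer_iff.1 (hQnS (hTS hcT)) _).1 hx)
      · show (x : Ω)⁻¹ * (c * x * c⁻¹) ∈ T
        rw [show (x : Ω)⁻¹ * (c * x * c⁻¹) = ((x : Ω)⁻¹ * c * (x : Ω)⁻¹⁻¹) * c⁻¹ by group]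
        exact T.mul_mem ((Subgroup.mem_normalizer_iff.1 (hTn (S.inv_mem x.2)) _).1 hcT) (T.inv_mem hcT)
      · simp only [map_mul, map_inv]
        group
  have hRT : R ≤ T := inf_le_right
  have hRscE : E.StronglyClosed R := stronglyClosed_iff.2 ⟨hRT, fun P f hP hf x hx =>
    hclF P f (isSubsystemOf_iff_isMap.1 hsub P f hf) x hx (hP hx)⟩
  refine ⟨hEs, R, ?_, hRT, fun R' hR' z hz => ?_⟩
  · -- normality
    haveI : Group.IsNilpotent Q := IsPGroup.isNilpotent (hS.to_le hQS)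
    obtain ⟨m, hm⟩ := (Subgroup.isNilpotent_iff_lowerCentralSeries Q).1 inferInstance
    let D : ℕ → Subgroup Ω := fun i => Subgroup.lowerCentralSeries Q (m - i) ⊓ T
    have hDsc : ∀ i, E.StronglyClosed (D i) := fun i => stronglyClosed_iff.2 ⟨inf_le_right,
      fun P f hP hf x hx => by
        have hfF := isSubsystemOf_iff_isMap.1 hsub P f hf
        obtain ⟨g, hg, hge, hgQ⟩ := (isNormal_iff.1 hQn).2 P f hfF
        refine ⟨?_, (stronglyClosed_iff.1 hTsc).2 P f (hP.trans inf_le_right) hfF x hx⟩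
        obtain ⟨φ, -, hφ⟩ := hg.mono le_sup_right
        rw [← hge x hx]
        have hxQ : x ∈ Q := by simpa using Subgroup.lowerCentralSeries_antitone (S := Q) (Nat.zero_le _) (hP hx).1
        rw [← hφ ⟨x, hxQ⟩]
        exact Cfsg.Agent.H90.lowerCentralSeries_mem_of_hom φ
          (fun y => hφ y ▸ hgQ.le ⟨y, y.2, rfl⟩) _ ⟨x, hxQ⟩ (hP hx).1⟩
    refine Cfsg.Agent.H90.isNormal_of_series (hS.to_le hTS) hEs hRscE D m ?_ ?_ ?_ ?_ ?_
    · show Subgroup.lowerCentralSeries Q (m - 0) ⊓ T = ⊥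
      rw [Nat.sub_zero, hm, bot_inf_eq]
    · show Subgroup.lowerCentralSeries Q (m - m) ⊓ T = R
      rw [Nat.sub_self, Subgroup.lowerCentralSeries_zero]
    · exact fun i j hij => inf_le_inf_right _ (Subgroup.lowerCentralSeries_antitone (S := Q) (Nat.sub_le_sub_left hij m))
    · intro i hi
      refine Subgroup.commutator_le.2 fun a ha b hb => ⟨?_, ?_⟩
      · rw [show m - i = m - (i + 1) + 1 by omega, Subgroup.lowerCentralSeries_succ]
        exact Subgroup.commutator_mem_commutator ha.1 hb.1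
      · rw [commutatorElement_def]
        exact T.mul_mem (T.mul_mem (T.mul_mem ha.2 hb.2) (T.inv_mem ha.2)) (T.inv_mem hb.2)
    · intro i _
      haveI := finite_of_le (hDsc i).1
      refine weaklyClosed_iff.2 ⟨(hDsc i).1, fun f hf => ?_⟩
      exact (isIso_of_mapsTo hf fun x hx => (stronglyClosed_iff.1 (hDsc i)).2 _ f le_rfl hf x hx).eq_imgSub.symm
  · haveI := finite_of_le hRT
    obtain ⟨f, hf⟩ := isConj_iff.1 hR'
    have h1 := isIso_of_mapsTo hf.isMap fun x hx => (stronglyClosed_iff.1 hRscE).2 R f le_rfl hf.isMap x hx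
    have hRR : R' = R := hf.eq_imgSub.trans h1.eq_imgSub.symm
    obtain ⟨hzT, hzc⟩ := FusionSys.mem_centralizerIn.1 hz
    rw [hRR] at hzc ⊢
    exact hC z hzT hzc

open Cfsg.Agent.FusionSys Cfsg.FusionSystem in
theorem constrained_of_subnormal {Ω : Type*} [Group Ω] {T S : Subgroup Ω} {E : Cfsg.FusionSystem T}
    {F : Cfsg.FusionSystem S} {p : ℕ} (hE : E.IsSubnormalIn F p) (hpr : Fact p.Prime) (hfin : Finite S)
    (hS : IsPGroup p S) (hF : F.IsConstrained p) : E.IsConstrained p := by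
  induction hE with
  | refl => exact hF
  | step hsn hD ih =>
    have hUS := hD.1.2.2.2.1.1
    haveI := hpr
    haveI := hfin
    exact ih hpr (finite_of_le hUS) (hS.to_le hUS) (constrained_of_normal hS hF hD)


/-- Let F be a constrained saturated fusion system over a finite p-group S. Then every subsystem of F that is subnormal in F (reached from F by a finite chain of successive normal subsystems) is constrained. -/
theorem result {Ω : Type*} [Group Ω] {S : Subgroup Ω} [Finite S] (p : ℕ) [Fact p.Prime] (hS : IsPGroup p S) (F : Cfsg.FusionSystem S) (hF : F.IsConstrained p) {T : Subgroup Ω} (E : Cfsg.FusionSystem T) (hE : E.IsSubnormalIn F p) : E.IsConstrained p := by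
  exact constrained_of_subnormal hE inferInstance inferInstance hS hF

end Cfsg.Agent.S5342
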