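import Cfsg.Statements.S5115
import Cfsg.Agent.H59.TransportQS
import Cfsg.Agent.S5118
import Cfsg.Agent.S5342
import Cfsg.Agent.Thompson.ZJ

set_option autoImplicit false
open Cfsg

namespace Cfsg.Agent.S5115

open Subgroup

open Cfsg.FusionSystem Cfsg.Agent.FusionSys Cfsg.Agent.H59.Transp

section

variable {Ω Ω' : Type*} [Group Ω] [Group Ω'] {S : Subgroup Ω} {T : Subgroup Ω'}
variable {F : Cfsg.FusionSystem S} {E : Cfsg.FusionSystem T}

theorem isConstrained_transfer (j : SysEquiv F E) [Finite S] {p : ℕ} [Fact p.Prime] (hS : IsPGroup p S)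
    (h : F.IsConstrained p) : E.IsConstrained p := by
  obtain ⟨hs, Q, hn, hc⟩ := h
  obtain ⟨hQ, hx⟩ := isNormal_iff.1 hn
  refine ⟨isSaturated_target j hS hs, j.img Q, isNormal_iff.2 ⟨j.img_le hQ, fun P f hf => ?_⟩,
    j.img_le hQ, fun R hR => ?_⟩
  · obtain ⟨g, hg, hge, hgQ⟩ := hx _ _ (j.hom' P f hf)
    have hPS : j.symm.img P ≤ S := j.symm.img_le hf.le
    have h1 := j.hom _ _ hg
    rw [show imgTo j.fwd (imgTo j.bwd P ⊔ Q) = P ⊔ j.img Q from
      (img_sup j hPS hQ).trans (by rw [img_symm_img j hf.le])] at h1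
    refine ⟨_, h1, fun y hy => ?_, ?_⟩
    · show j.fwd (g (j.bwd y)) = f y
      rw [hge (j.bwd y) (j.symm.fwd_mem_img hy)]
      show j.fwd (j.bwd (f (j.fwd (j.bwd y)))) = f y
      rw [j.fwd_bwd y (hf.le hy), j.fwd_bwd _ (hf.mem_S hy)]
    · rw [j.coe_img hQ, Set.image_image]
      conv_rhs => rw [← hgQ, Set.image_image]
      exact Set.image_congr fun x hx => by
        show j.fwd (g (j.bwd (j.fwd x))) = j.fwd (g x)
        rw [j.bwd_fwd x (hQ hx)]
  · have hRT := le_of_isConj_right hR
    have h1 := j.symm.isConj_img hR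
    rw [j.symm_img_img hQ] at h1
    have h2 := img_mono j (hc.2 _ h1)
    rwa [img_centralizerIn j (j.symm.img_le hRT), img_symm_img j hRT] at h2

end

theorem step {K : Type*} [Group K] [Finite K] {H : Type*} [Group H] (SK : Sylow 2 K) (f : H →* K)
    (hf : Function.Injective f) [f.range.Normal]
    (h : (Cfsg.groupFusionSystem (SK : Subgroup K)).IsConstrained 2) :
    (Cfsg.groupFusionSystem ((SK : Subgroup K).comap f)).IsConstrained 2 ∧
      ∃ T : Sylow 2 H, (T : Subgroup H) = (SK : Subgroup K).comap f := by
  classical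
  haveI : Fact (Nat.Prime 2) := ⟨Nat.prime_two⟩
  haveI : Finite H := Finite.of_injective f hf
  have hn := Cfsg.Agent.S5118.result 2 SK f.range
  have hc := Cfsg.Agent.S5342.result 2 SK.isPGroup' _ h _ (.step (.refl _ 2) hn)
  obtain ⟨Q, hQ⟩ := Cfsg.Agent.Thompson.exists_sylow_inf_normal SK f.range
  refine ⟨?_, ?_⟩
  · have hb : ∀ y : H, Function.invFun f (f y) = y := Function.leftInverse_invFun hf
    let j : SysEquiv (Cfsg.fusionSystemOfSubgroup f.range ((SK : Subgroup K) ⊓ f.range) inf_le_right)
        (Cfsg.groupFusionSystem ((SK : Subgroup K).comap f)) :=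
      { fwd := Function.invFun f
        bwd := f
        fwd_mem := by
          rintro x ⟨hx, y, rfl⟩
          rw [hb y]; exact hx
        bwd_mem := fun y hy => ⟨hy, y, rfl⟩
        bwd_fwd := by
          rintro x ⟨-, y, rfl⟩
          rw [hb y]
        fwd_bwd := fun y _ => hb y
        fwd_mul := by
          rintro x ⟨-, a, rfl⟩ y ⟨-, b, rfl⟩
          rw [← map_mul, hb, hb, hb]
        hom := by
          intro P g hg
          obtain ⟨hP, ⟨_, ⟨k, rfl⟩, hk⟩⟩ := isMap_subgroup_iff.1 hg
          refine isMap_group_iff.2 ⟨(Subgroup.closure_le _).2 ?_, k, ?_⟩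
          · rintro _ ⟨x, hx, rfl⟩
            obtain ⟨hxS, y, rfl⟩ := hP hx
            rw [hb y]; exact hxS
          intro z hz
          have hz' : f z ∈ P := by
            have hle : imgTo (Function.invFun f) P ≤ P.comap f := by
              refine (Subgroup.closure_le _).2 ?_
              rintro _ ⟨x, hx, rfl⟩
              obtain ⟨-, y, rfl⟩ := hP hx
              rw [hb y]; exact hx
            exact hle hz
          obtain ⟨h1, h2⟩ := hk (f z) hz'
          have e : f k * f z * (f k)⁻¹ = f (k * z * k⁻¹) := by simp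
          rw [e] at h1 h2
          refine ⟨h1.1, ?_⟩
          show Function.invFun f (g (f z)) = k * z * k⁻¹
          rw [h2, hb]
        hom' := by
          intro P g hg
          obtain ⟨hP, k, hk⟩ := isMap_group_iff.1 hg
          refine isMap_subgroup_iff.2 ⟨(Subgroup.closure_le _).2 ?_, f k, ⟨k, rfl⟩, ?_⟩
          · rintro _ ⟨x, hx, rfl⟩
            exact ⟨hP hx, x, rfl⟩
          intro z hz
          have hz' : z ∈ P.map f := by
            have hle : imgTo f P ≤ P.map f := (Subgroup.closure_le _).2 fun _ h => h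
            exact hle hz
          obtain ⟨x, hx, rfl⟩ := hz'
          obtain ⟨h1, h2⟩ := hk x hx
          refine ⟨⟨?_, k * x * k⁻¹, by simp⟩, ?_⟩
          · have : f (k * x * k⁻¹) ∈ (SK : Subgroup K) := h1
            rw [map_mul, map_mul, map_inv] at this; exact this
          · show f (g (Function.invFun f (f x))) = f k * f x * (f k)⁻¹
            rw [hb, h2]; simp }
    exact isConstrained_transfer j (SK.isPGroup'.to_le inf_le_left) hc
  · let e := MonoidHom.ofInjective hf
    refine ⟨Q.comapOfInjective e.toMonoidHom e.injective ?_, ?_⟩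
    · intro x _; exact ⟨e.symm x, e.apply_symm_apply x⟩
    · ext y
      have hiff : e y ∈ (Q : Subgroup f.range) ↔ f y ∈ (SK : Subgroup K) := by
        constructor
        · intro h'
          exact (hQ.le ⟨e y, h', rfl⟩).1
        · intro h'
          obtain ⟨z, hz, hze⟩ := hQ.ge ⟨h', y, rfl⟩
          rwa [show e y = z from Subtype.ext hze.symm]
      exact hiff

/-- If the 2-fusion system of a finite group G on a Sylow 2-subgroup S is constrained, then for every subnormal subgroup H of G the 2-fusion system of H on S ∩ H is constrained. -/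
theorem result {G : Type*} [Group G] [Finite G] (S : Sylow 2 G) (hF : (Cfsg.groupFusionSystem (S : Subgroup G)).IsConstrained 2) (H : Subgroup G) (hH : H.IsSubnormal) : (Cfsg.groupFusionSystem ((S : Subgroup G).subgroupOf H)).IsConstrained 2 := by
  have key : (Cfsg.groupFusionSystem ((S : Subgroup G).subgroupOf H)).IsConstrained 2 ∧
      ∃ T : Sylow 2 H, (T : Subgroup H) = (S : Subgroup G).subgroupOf H := by
    induction hH with
    | top =>
      haveI : (⊤ : Subgroup G).subtype.range.Normal := by
        rw [Subgroup.range_subtype]; infer_instance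
      exact step S (⊤ : Subgroup G).subtype (Subgroup.subtype_injective _) hF
    | step H K hle _ hN ih =>
      obtain ⟨hcK, TK, hTK⟩ := ih
      haveI : (Subgroup.inclusion hle).range.Normal := by
        rw [Subgroup.inclusion_range]; exact hN
      rw [← hTK] at hcK
      have := step TK (Subgroup.inclusion hle) (Subgroup.inclusion_injective hle) hcK
      rwa [hTK] at this
  exact key.1

end Cfsg.Agent.S5115
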