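import Cfsg.Statements.S5119
import Cfsg.Agent.H49.Invariant
-- import your own Cfsg.Agent.* helpers here

set_option autoImplicit false
open Cfsg

namespace Cfsg.Agent.S5119

open Cfsg.Agent.FusionSys

/-- Let F be a saturated fusion system over a finite p-group S and E a subsystem of F over a subgroup T that is strongly closed in F. Then E is invariant in F (invariance under Aut_F(T) plus the Frattini condition) if and only if the strong invariance condition holds: for P ≤ Q ≤ T, every map φ of E from P into Q and every map ψ of F with source Q, the transported map ψ φ ψ⁻¹ on ψ(P) is a map of E. -/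
theorem result {Ω : Type*} [Group Ω] {S : Subgroup Ω} [Finite S] (p : ℕ) [Fact p.Prime] (hS : IsPGroup p S) (F : Cfsg.FusionSystem S) (hF : F.IsSaturated p) {T : Subgroup Ω} (E : Cfsg.FusionSystem T) (hE : E.IsSubsystemOf F) (hT : F.StronglyClosed T) : E.IsInvariantIn F ↔ ∀ (P Q : Subgroup Ω) (hPQ : P ≤ Q) (_ : Q ≤ T) (φ : P →* Ω) (_ : φ ∈ E.Hom P) (hφQ : ∀ x : P, φ x ∈ Q) (ψ : Q →* Ω) (_ : ψ ∈ F.Hom Q), ∃ χ ∈ E.Hom ((P.subgroupOf Q).map ψ), ∀ (x : P) (hx : ψ (Subgroup.inclusion hPQ x) ∈ (P.subgroupOf Q).map ψ), χ ⟨ψ (Subgroup.inclusion hPQ x), hx⟩ = ψ ⟨φ x, hφQ x⟩ := by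
  have hTS := hT.1
  have himg : ∀ {P Q : Subgroup Ω} (hPQ : P ≤ Q) (s : Ω → Ω) (ψ : Q →* Ω), (∀ y : Q, ψ y = s y) →
      ψ ∈ F.Hom Q → (P.subgroupOf Q).map ψ = imgSub s P := by
    intro P Q hPQ s ψ hs hψ
    ext y
    have hm : IsMap F Q s := ⟨ψ, hψ, hs⟩
    rw [(hm.mono hPQ).mem_imgSub]
    constructor
    · rintro ⟨z, hz, rfl⟩
      exact ⟨z, hz, (hs z).symm⟩
    · rintro ⟨x, hx, rfl⟩
      exact ⟨⟨x, hPQ hx⟩, hx, hs _⟩
  constructor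
  · rintro ⟨-, -, hi, hfr⟩ P Q hPQ hQT φ hφ hφQ ψ hψ
    obtain ⟨α, hα, ψ₀, hψ₀, he⟩ := hfr Q hQT ψ hψ
    have hs₀ := isMap_of_mem hψ₀
    obtain ⟨i, hi', hie⟩ := (hs₀.mono hPQ).exists_inv
    -- transport inside `E`
    have h1 : IsMap E (imgSub (homFun ψ₀) P) (homFun ψ₀ ∘ homFun φ ∘ i) := by
      refine (hi'.comp (isMap_of_mem hφ) fun y hy => ?_).comp hs₀ fun y hy => ?_
      · obtain ⟨x, hx, rfl⟩ := (hs₀.mono hPQ).mem_imgSub.1 hy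
        rw [hie x hx]; exact hx
      · obtain ⟨x, hx, rfl⟩ := (hs₀.mono hPQ).mem_imgSub.1 hy
        show homFun φ (i (homFun ψ₀ x)) ∈ Q
        rw [hie x hx, homFun_mem φ hx]; exact hφQ _
    obtain ⟨φ₁, hφ₁, hφ₁e⟩ := h1
    have hXT : imgSub (homFun ψ₀) P ≤ T := (E.le_of_mem hφ₁).1
    obtain ⟨χ, hχ, hχe⟩ := hi _ hXT φ₁ hφ₁ α hα
    have hψe : ∀ y : Q, ψ y = autMap α (homFun ψ₀ y) := fun y => by
      rw [homFun_coe, autMap_apply α ((E.le_of_mem hψ₀).2 y)]; exact he y _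
    have hsrc : (P.subgroupOf Q).map ψ =
        ((imgSub (homFun ψ₀) P).subgroupOf T).map (T.subtype.comp α.toMonoidHom) := by
      rw [himg hPQ (autMap α ∘ homFun ψ₀) ψ hψe hψ]
      ext y
      have hm : IsMap F Q (autMap α ∘ homFun ψ₀) := ⟨ψ, hψ, hψe⟩
      rw [(hm.mono hPQ).mem_imgSub]
      constructor
      · rintro ⟨x, hx, rfl⟩
        exact ⟨⟨_, hs₀.mem_S (hPQ hx)⟩, (hs₀.mono hPQ).mem_imgSub.2 ⟨x, hx, rfl⟩,
          (autMap_apply α (hs₀.mem_S (hPQ hx))).symm⟩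
      · rintro ⟨z, hz, rfl⟩
        obtain ⟨x, hx, hxe⟩ := (hs₀.mono hPQ).mem_imgSub.1 hz
        exact ⟨x, hx, by rw [Function.comp_apply, hxe]; exact autMap_coe α z⟩
    obtain ⟨χ', hχ', hχ'e⟩ : IsMap E ((P.subgroupOf Q).map ψ) (homFun χ) := by
      rw [hsrc]; exact isMap_of_mem hχ
    refine ⟨χ', hχ', fun x hx => ?_⟩
    rw [hχ'e]
    show homFun χ (ψ (Subgroup.inclusion hPQ x)) = _
    have hzX : homFun ψ₀ (x : Ω) ∈ imgSub (homFun ψ₀) P := (hs₀.mono hPQ).mem_imgSub.2 ⟨x, x.2, rfl⟩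
    have hval : φ₁ ⟨_, hzX⟩ = homFun ψ₀ (φ x) := by
      rw [hφ₁e]
      show homFun ψ₀ (homFun φ (i (homFun ψ₀ (x : Ω)))) = _
      rw [hie _ x.2, homFun_coe]
    have hα' : ((α ⟨_, hXT hzX⟩ : T) : Ω) ∈
        ((imgSub (homFun ψ₀) P).subgroupOf T).map (T.subtype.comp α.toMonoidHom) :=
      ⟨⟨_, hXT hzX⟩, hzX, rfl⟩
    have h2 := hχe ⟨_, hzX⟩ ((E.le_of_mem hφ₁).2 _) hα'
    rw [hψe, hψe, show ((Subgroup.inclusion hPQ x : Q) : Ω) = (x : Ω) from rfl,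
      autMap_apply α (hXT hzX), homFun_mem χ hα', h2,
      autMap_apply α (hs₀.mem_S (hφQ x))]
    exact congrArg (fun z => ((α z : T) : Ω)) (Subtype.ext hval)
  · intro h
    have hSI : H49.StrongInv F E := by
      rintro P Q f s ⟨φ, hφ, hφf⟩ hPQ hQT hfQ ⟨ψ, hψ, hψs⟩
      obtain ⟨χ, hχ, hχe⟩ := h P Q hPQ hQT φ hφ (fun x => hφf x ▸ hfQ x x.2) ψ hψ
      refine ⟨homFun χ, himg hPQ s ψ hψs hψ ▸ isMap_of_mem hχ, fun x hx => ?_⟩
      have hm : ψ (Subgroup.inclusion hPQ ⟨x, hx⟩) ∈ (P.subgroupOf Q).map ψ := ⟨_, hx, rfl⟩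
      have h1 := hχe ⟨x, hx⟩ hm
      have h2 : s x = ψ (Subgroup.inclusion hPQ ⟨x, hx⟩) := (hψs ⟨x, hPQ hx⟩).symm
      rw [h2, homFun_mem χ hm, h1, hψs]
      exact congrArg s (hφf _)
    refine ⟨hE, hT, fun P hPT φ hφ α hα => ?_, fun P hPT φ hφ => ?_⟩
    · have hα' : T.subtype.comp α.toMonoidHom ∈ F.Hom T :=
        mem_hom_of_isMap ((mem_autGroup_iff hTS).1 hα) fun x => (autMap_coe α x).symm
      obtain ⟨χ, hχ, hχe⟩ := h P T hPT le_rfl φ hφ (fun x => (E.le_of_mem hφ).2 x) _ hα'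
      exact ⟨χ, hχ, fun x hφx hαx => hχe x hαx⟩
    · obtain ⟨a, ha, g, hg, he⟩ := H49.factors_all hS hF hE hT hSI _ P _ le_rfl hPT (isMap_of_mem hφ)
      obtain ⟨α, hα, hαe⟩ := ha.exists_aut
      obtain ⟨φ₀, hφ₀, hφ₀e⟩ := hg
      refine ⟨α, hα, φ₀, hφ₀, fun x hx => ?_⟩
      rw [← homFun_coe φ x, he x x.2, ← autMap_apply α hx, hαe _ hx, hφ₀e]

end Cfsg.Agent.S5119
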