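import Cfsg.Statements.S5125
import Cfsg.Agent.S5088
import Cfsg.Agent.S5106

set_option autoImplicit false
open Cfsg
open scoped commutatorElement

namespace Cfsg.Agent.S5125

/-- Let F be a saturated fusion system over a finite p-group S and Q a subgroup strongly closed in F. If Q has a subgroup Q₁ that is normal in F, with Q/Q₁ abelian and Aut_F(Q₁) a p-group, then Q is normal in F. -/
theorem result {Ω : Type*} [Group Ω] {S : Subgroup Ω} [Finite S] (p : ℕ) [Fact p.Prime] (hS : IsPGroup p S) (F : Cfsg.FusionSystem S) (hF : F.IsSaturated p) (Q Q₁ : Subgroup Ω) (hQ : F.StronglyClosed Q) (hQ₁Q : Q₁ ≤ Q) (hQ₁ : F.IsNormal Q₁) (hab : ⁅Q, Q⁆ ≤ Q₁) (hAut : IsPGroup p ↥(F.autGroup Q₁)) : F.IsNormal Q := by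
  classical
  have hQS : Q ≤ S := hQ.1
  have hQ₁S : Q₁ ≤ S := hQ₁Q.trans hQS
  haveI : Finite Q₁ := FusionSys.finite_of_le hQ₁S
  haveI := FusionSys.finite_autGroup F hQ₁S
  have hsc1 := FusionSys.stronglyClosed_of_isNormal hQ₁
  have hSn : S ≤ Subgroup.normalizer (Q₁ : Set Ω) := FusionSys.le_normalizer_of_isNormal hQ₁
  have hfn : F.IsFullyNormalized Q₁ := ⟨hQ₁S, fun R hR => by
    obtain ⟨φ, hφ, rfl⟩ := hR
    rw [(FusionSys.weaklyClosed_of_stronglyClosed hsc1).2 φ hφ]⟩
  have hle : F.autGroup Q₁ ≤ Cfsg.autInducedBy S Q₁ := by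
    have hn := (FusionSys.isFullyAutomized_iff hS).1 (FusionSys.isFullyAutomized_of_isFullyNormalized hS hF hfn)
    obtain ⟨k, hk⟩ := hAut.index (H := (Cfsg.autInducedBy S Q₁).subgroupOf (F.autGroup Q₁))
    have hk0 : k = 0 := by
      by_contra hk0
      exact hn.2 (show p ∣ ((Cfsg.autInducedBy S Q₁).subgroupOf (F.autGroup Q₁)).index from
        hk ▸ dvd_pow_self p hk0)
    rw [hk0, pow_zero, Subgroup.index_eq_one, Subgroup.subgroupOf_eq_top] at hk
    exact hk
  have key : ∀ R : Subgroup Ω, R ≤ Q₁ → S ≤ Subgroup.normalizer (R : Set Ω) → F.StronglyClosed R := by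
    intro R hR hSR
    refine ⟨hR.trans hQ₁S, fun P hP φ hφ x => ?_⟩
    obtain ⟨α, hα, hαx⟩ := (Cfsg.Agent.S5106.result p hS F hF Q₁ hQ₁S).mp hQ₁ P (hP.trans hR) φ hφ
    obtain ⟨g, hg, hgn, rfl⟩ := FusionSys.mem_autInducedBy.mp (hle hα)
    rw [← hαx]
    show g * (x : Ω) * g⁻¹ ∈ R
    exact (Subgroup.mem_normalizer_iff.mp (hSR hg) _).mp (hP x.2)
  haveI : Group.IsNilpotent S := hS.isNilpotent
  obtain ⟨n, hn⟩ := (Subgroup.isNilpotent_iff_lowerCentralSeries S).1 inferInstance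
  set L : ℕ → Subgroup Ω := fun j => Q₁ ⊓ Subgroup.lowerCentralSeries S j with hL
  have hLn : ∀ j, S ≤ Subgroup.normalizer (Subgroup.lowerCentralSeries S j : Set Ω) := by
    intro j
    induction j with
    | zero => exact Subgroup.le_normalizer
    | succ j ih =>
      intro s hs
      refine Subgroup.mem_normalizer_iff_map_conj_eq.mpr ?_
      show (⁅Subgroup.lowerCentralSeries S j, S⁆).map _ = ⁅Subgroup.lowerCentralSeries S j, S⁆
      rw [Subgroup.map_commutator, Subgroup.mem_normalizer_iff_map_conj_eq.mp (ih hs),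
        Subgroup.mem_normalizer_iff_map_conj_eq.mp (Subgroup.le_normalizer hs)]
  have hcomm : ∀ j, ⁅Q, L j⁆ ≤ L (j + 1) := by
    intro j
    refine le_inf ?_ ?_
    · rw [Subgroup.commutator_le]
      intro a ha b hb
      rw [commutatorElement_def]
      exact Q₁.mul_mem ((Subgroup.mem_normalizer_iff.mp (hSn (hQS ha)) _).mp hb.1) (Q₁.inv_mem hb.1)
    · rw [Subgroup.commutator_comm]
      exact Subgroup.commutator_mono inf_le_right hQS
  have hLS : ∀ j, S ≤ Subgroup.normalizer (L j : Set Ω) := fun j s hs =>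
    Subgroup.mem_normalizer_iff.mpr fun x => and_congr
      (Subgroup.mem_normalizer_iff.mp (hSn hs) x) (Subgroup.mem_normalizer_iff.mp (hLn j hs) x)
  refine (Cfsg.Agent.S5088.result p hS F hF Q).mpr
    ⟨n + 1, fun i => if (i : ℕ) ≤ n then L (n - i) else Q, ?_, ?_, ?_, ?_⟩
  · simp [hL, hn]
  · simp
  · intro a b hab
    dsimp only
    have hab' : (a : ℕ) ≤ b := hab
    split_ifs with h1 h2 h2
    · exact inf_le_inf le_rfl (Subgroup.lowerCentralSeries_antitone S (by omega))
    · exact inf_le_left.trans hQ₁Q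
    · omega
    · exact le_rfl
  · intro i
    have hi := i.isLt
    simp only [Fin.val_succ, Fin.coe_castSucc]
    by_cases h1 : (i : ℕ) + 1 ≤ n
    · rw [if_pos h1, if_pos (by omega)]
      refine ⟨key _ inf_le_left (hLS _), ?_⟩
      have := hcomm (n - ((i : ℕ) + 1))
      rwa [show n - ((i : ℕ) + 1) + 1 = n - (i : ℕ) by omega] at this
    · rw [if_neg h1, if_pos (by omega)]
      refine ⟨hQ, ?_⟩
      rw [show n - (i : ℕ) = 0 by omega]
      exact le_inf hab ((Subgroup.commutator_le_self Q).trans hQS)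

end Cfsg.Agent.S5125
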