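import Cfsg.Statements.S5127
import Cfsg.Agent.H91.CentSE.Exists

set_option autoImplicit false
open Cfsg

namespace Cfsg.Agent.S5127

open Cfsg.Agent.FusionSys Cfsg.Agent.H91.CentSE

/-- Let F be a saturated fusion system over a finite p-group S and E a normal subsystem of F over T. Among the subgroups Y of C_S(T) whose centralizer system C_F(Y) contains E there is a largest one, C_S(E), and it is strongly closed in F. -/
theorem result {Ω : Type*} [Group Ω] {S : Subgroup Ω} [Finite S] (p : ℕ) [Fact p.Prime] (hS : IsPGroup p S) (F : Cfsg.FusionSystem S) (hF : F.IsSaturated p) {T : Subgroup Ω} (E : Cfsg.FusionSystem T) (hE : E.IsNormalIn F p) : ∃ C : Subgroup Ω, C ≤ Cfsg.FusionSystem.centralizerIn S T ∧ (∀ P : Subgroup Ω, E.Hom P ⊆ F.centralizerHom C P) ∧ (∀ Y : Subgroup Ω, Y ≤ Cfsg.FusionSystem.centralizerIn S T → (∀ P : Subgroup Ω, E.Hom P ⊆ F.centralizerHom Y P) → Y ≤ C) ∧ F.StronglyClosed C := by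
  classical
  refine ⟨Subgroup.closure {x | Good F E x}, ?_, fun P φ hφ => ?_, fun Y hY hYc y hy => ?_, ?_⟩
  · exact (Subgroup.closure_le _).2 fun x (hx : Good F E x) => hx.1
  · have hPT := (E.le_of_mem hφ).1
    have hval := (E.le_of_mem hφ).2
    have hcent : ∀ t ∈ T, t ∈ Cfsg.FusionSystem.centralizerIn S (Subgroup.closure {x | Good F E x}) := by
      intro t ht
      refine FusionSys.mem_centralizerIn.2 ⟨hE.1.2.2.2.1.1 ht, fun y hy => ?_⟩
      exact ((FusionSys.mem_centralizerIn.1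
        ((good_iff_mem_closure hS hF hE).2 hy).1).2 t ht).symm
    obtain ⟨g, hg, hge, hgY⟩ := exists_fixing_good hS hF hE (isMap_of_mem hφ)
    exact (Cfsg.Agent.H91.centralizerHom_iff F).2 ⟨fun x hx => hcent x (hPT hx),
      fun x => hcent _ (hval x), g, hg, fun x => (hge x x.2).trans (homFun_coe φ x), hgY⟩
  · refine Subgroup.subset_closure ⟨hY hy, fun P f hf => ?_⟩
    obtain ⟨φ, hφ, hφf⟩ := hf
    obtain ⟨-, -, g, hg, hge, hgY⟩ := (Cfsg.Agent.H91.centralizerHom_iff F).1 (hYc P hφ)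
    exact ⟨g, hg.mono (sup_le_sup_left (Subgroup.zpowers_le.2 hy) P),
      fun x hx => (hge ⟨x, hx⟩).trans (hφf ⟨x, hx⟩), hgY y hy⟩
  · refine stronglyClosed_iff.2 ⟨(Subgroup.closure_le _).2 fun x (hx : Good F E x) => hx.1.1,
      fun R f hR hf x hx => Subgroup.subset_closure ?_⟩
    exact Good.closed hS hF hE.1.2.2 hf ((good_iff_mem_closure hS hF hE).2 (hR hx)) hx

end Cfsg.Agent.S5127
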