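import Cfsg.Statements.S5133
import Cfsg.Agent.H49.FactorSaturated
-- import your own Cfsg.Agent.* helpers here

set_option autoImplicit false
open Cfsg

namespace Cfsg.Agent.S5133

/-- Let F be a saturated fusion system over a finite p-group S, F' a fusion system over S', and α : S → S' a surjective morphism of fusion systems from F to F' (α maps S onto S' and every map of F' with source P' ≤ S' is induced along α by a map of F on the full preimage of P'). Then F' is saturated. -/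
theorem result {Ω : Type*} [Group Ω] {S : Subgroup Ω} [Finite S] (p : ℕ) [Fact p.Prime] (hS : IsPGroup p S) (F : Cfsg.FusionSystem S) (hF : F.IsSaturated p) {Ω' : Type*} [Group Ω'] {S' : Subgroup Ω'} (F' : Cfsg.FusionSystem S') (α : S →* Ω') (hα : F.IsSurjectiveMorphism F' α) : F'.IsSaturated p := by
  set R := (α.ker).map S.subtype with hR
  have hker : ∀ s : S, α s = 1 ↔ (s : Ω) ∈ R := fun s =>
    ⟨fun h => ⟨s, h, rfl⟩, fun ⟨t, ht, hts⟩ => (congrArg α (Subtype.ext hts)).symm.trans ht⟩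
  obtain ⟨hm, hrange, hsurj⟩ := hα
  have hRc : F.StronglyClosed R := by
    refine ⟨Subgroup.map_subtype_le _, fun P hP φ hφ x => ?_⟩
    obtain ⟨φ', -, hPS, hφS, hP', h⟩ := hm.2 P φ hφ
    have hx : α ⟨x, hPS x.2⟩ = 1 := (hker _).2 (hP x.2)
    refine (hker ⟨φ x, hφS x⟩).1 ?_
    rw [← h x, show (⟨α ⟨x, hPS x.2⟩, hP' x⟩ : Cfsg.FusionSystem.imageAlong α P) = 1 from Subtype.ext hx,
      map_one]
  refine H49.isSaturated_factor hS hF hRc ⟨hRc.1, hker, hrange, fun P' φ' => ⟨fun h => ?_, ?_⟩⟩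
  · exact ⟨(F'.le_of_mem h).1, hsurj P' (F'.le_of_mem h).1 φ' h⟩
  · rintro ⟨hP', φ, hφ, hi⟩
    obtain ⟨φ'', hφ'', hi'⟩ := hm.2 _ φ hφ
    have himg : Cfsg.FusionSystem.imageAlong α (Cfsg.FusionSystem.preimageAlong α P') = P' := by
      refine le_antisymm ?_ fun y hy => ?_
      · rintro _ ⟨x, hx, rfl⟩
        exact (H89.mem_preimageAlong.1 hx).2
      · obtain ⟨x, rfl⟩ := hrange.ge (hP' hy)
        exact ⟨x, H89.mem_preimageAlong.2 ⟨x.2, hy⟩, rfl⟩
    have key : ∀ {Q : Subgroup Ω'} (ψ : Q →* Ω'), ψ ∈ F'.Hom Q → Cfsg.FusionSystem.InducedAlong α φ ψ →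
        Q = P' → φ' ∈ F'.Hom P' := by
      rintro Q ψ hψ hψi rfl
      rwa [H89.induced_unique (fun y hy => ?_) hi hψi]
      obtain ⟨x, rfl⟩ := hrange.ge (hP' hy)
      exact ⟨x, H89.mem_preimageAlong.2 ⟨x.2, hy⟩, rfl⟩
    exact key φ'' hφ'' hi' himg

end Cfsg.Agent.S5133
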