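import Cfsg.Statements.S5135
import Cfsg.Agent.H89.SylowLift
-- import your own Cfsg.Agent.* helpers here

set_option autoImplicit false
open Cfsg

namespace Cfsg.Agent.S5135

/-- Let G be a finite group, S a Sylow p-subgroup and H a normal subgroup of G. Then the fusion system of G/H on the image SH/H of S is the factor system of the fusion system of G on S modulo S ∩ H, read through the quotient map restricted to S: for each subgroup P' of SH/H, the conjugation maps by elements of G/H defined on P' with values in SH/H are exactly the homomorphisms induced by the conjugation maps by elements of G defined on the full preimage of P' in S with values in S. -/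
theorem result {G : Type*} [Group G] [Finite G] (p : ℕ) [Fact p.Prime] (S : Sylow p G) (H : Subgroup G) [H.Normal] : (Cfsg.groupFusionSystem (S : Subgroup G)).IsFactorSystem ((S : Subgroup G) ⊓ H) ((QuotientGroup.mk' H).comp (S : Subgroup G).subtype) (Cfsg.groupFusionSystem ((S : Subgroup G).map (QuotientGroup.mk' H))) := by
  set π := QuotientGroup.mk' H with hπ
  set θ := π.comp (S : Subgroup G).subtype with hθ
  have hθS : θ.range = (S : Subgroup G).map π := by
    rw [hθ, MonoidHom.range_comp, Subgroup.range_subtype]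
  refine ⟨inf_le_left, fun s => ?_, hθS, fun P' φ' => ⟨?_, ?_⟩⟩
  · exact (QuotientGroup.eq_one_iff (s : G)).trans ⟨fun h => ⟨s.2, h⟩, fun h => h.2⟩
  · rintro ⟨hP', hval, γ, hγ⟩
    obtain ⟨g₀, rfl⟩ := QuotientGroup.mk'_surjective H γ
    set P : Subgroup G := Cfsg.FusionSystem.preimageAlong θ P' with hPdef
    have hPS : P ≤ (S : Subgroup G) := Subgroup.map_subtype_le _
    have hPP' : ∀ x : P, π x ∈ P' := by
      rintro ⟨_, s, hs, rfl⟩
      exact hs
    have hQ : P.map (MulAut.conj g₀).toMonoidHom ≤ (S : Subgroup G) ⊔ H := by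
      rintro _ ⟨x, hx, rfl⟩
      have h := hval ⟨π x, hPP' ⟨x, hx⟩⟩
      rw [hγ] at h
      have h' : g₀ * x * g₀⁻¹ ∈ ((S : Subgroup G).map π).comap π := h
      rw [Subgroup.comap_map_eq, hπ, QuotientGroup.ker_mk'] at h'
      simpa [sup_comm] using h'
    obtain ⟨n, hn, hconj⟩ := Cfsg.Agent.H89.exists_normal_conj_into S H _ ((S.2.to_le hPS).map _) hQ
    have hmem : ∀ x : P, n * g₀ * (x : G) * (n * g₀)⁻¹ ∈ (S : Subgroup G) := fun x => by
      simpa [mul_assoc] using hconj _ ⟨x, x.2, rfl⟩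
    refine ⟨hP', Cfsg.conjHom P (n * g₀), ⟨hPS, hmem, n * g₀, fun x => rfl⟩, hPS, hmem, hPP', fun x => ?_⟩
    rw [hγ]
    show π g₀ * π x * (π g₀)⁻¹ = π (n * g₀ * (x : G) * (n * g₀)⁻¹)
    have h1 : π n = 1 := (QuotientGroup.eq_one_iff n).2 hn
    simp only [map_mul, map_inv, h1, one_mul]
  · rintro ⟨hP', φ, ⟨-, -, g, hg⟩, hP, hφ, hPP', hind⟩
    have key : ∀ y : P', ∃ x : Cfsg.FusionSystem.preimageAlong θ P',
        θ ⟨x, hP x.2⟩ = (y : G ⧸ H) := by
      intro y
      obtain ⟨s, hs⟩ : (y : G ⧸ H) ∈ θ.range := by rw [hθS]; exact hP' y.2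
      exact ⟨⟨s, s, show θ s ∈ P' from hs ▸ y.2, rfl⟩, hs⟩
    have hval : ∀ y : P', φ' y = π g * (y : G ⧸ H) * (π g)⁻¹ := by
      intro y
      obtain ⟨x, hx⟩ := key y
      have h := hind x
      rw [show (⟨θ ⟨x, hP x.2⟩, hPP' x⟩ : P') = y from Subtype.ext hx] at h
      rw [h, ← hx]
      show π (φ x) = π g * π x * (π g)⁻¹
      rw [hg x, map_mul, map_mul, map_inv]
    refine ⟨hP', fun y => ?_, π g, hval⟩
    obtain ⟨x, hx⟩ := key y
    have h := hind x
    rw [show (⟨θ ⟨x, hP x.2⟩, hPP' x⟩ : P') = y from Subtype.ext hx] at h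
    rw [h]
    exact hθS ▸ ⟨_, rfl⟩

end Cfsg.Agent.S5135
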