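import Cfsg.Statements.S5138
import Cfsg.Agent.H89.Prod.Normal
import Cfsg.Agent.H89.Gen.Largest
import Cfsg.Agent.H89.CentralizerNormal

set_option autoImplicit false
open Cfsg

namespace Cfsg.Agent.S5138

open Cfsg.FusionSystem Cfsg.Agent.FusionSys Cfsg.Agent.H89 in
theorem main {Ω : Type*} [Group Ω] {S : Subgroup Ω} [Finite S] {p : ℕ} [Fact p.Prime] (hS : IsPGroup p S) {F : Cfsg.FusionSystem S} (hF : F.IsSaturated p) {T₁ T₂ : Subgroup Ω} {E₁ : Cfsg.FusionSystem T₁} {E₂ : Cfsg.FusionSystem T₂} (hE₁ : E₁.IsNormalIn F p) (hE₂ : E₂.IsNormalIn F p) (hcomm : ∀ a ∈ T₁, ∀ b ∈ T₂, a * b = b * a)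
    (hz₁ : ∀ (P : Subgroup Ω) (f : Ω → Ω), IsMap E₁ P f → ∀ x ∈ P, x ∈ T₂ → f x = x)
    (hz₂ : ∀ (P : Subgroup Ω) (f : Ω → Ω), IsMap E₂ P f → ∀ x ∈ P, x ∈ T₁ → f x = x) :
    ∃ D : Cfsg.FusionSystem (T₁ ⊔ T₂), D.IsNormalIn F p ∧ Cfsg.FusionSystem.IsCentralProductOf E₁ E₂ D := by
  have h := Prod.ctx_of_commute hS hF hE₁ hE₂ hcomm hz₁ hz₂
  obtain ⟨U, D, hD⟩ := h.exists_centralProduct
  obtain rfl := h.eq_sup hD
  exact ⟨D, h.isNormal hD, hD⟩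

/-- Let F be a saturated fusion system over a finite p-group S and E₁, E₂ normal subsystems over T₁, T₂ with [T₁, T₂] = 1. Then there is a normal subsystem of F over T₁T₂ which, if moreover T₁ ∩ T₂ lies in the centre of E₁ and in the centre of E₂, is a central product of E₁ and E₂ (the factor system of a direct product of E₁ and E₂ modulo a subgroup of its centre meeting both factors trivially). -/
theorem result {Ω : Type*} [Group Ω] {S : Subgroup Ω} [Finite S] (p : ℕ) [Fact p.Prime] (hS : IsPGroup p S) (F : Cfsg.FusionSystem S) (hF : F.IsSaturated p) {T₁ T₂ : Subgroup Ω} (E₁ : Cfsg.FusionSystem T₁) (E₂ : Cfsg.FusionSystem T₂) (hE₁ : E₁.IsNormalIn F p) (hE₂ : E₂.IsNormalIn F p) (hc : ⁅T₁, T₂⁆ = ⊥) : ∃ D : Cfsg.FusionSystem (T₁ ⊔ T₂), D.IsNormalIn F p ∧ (T₁ ⊓ T₂ ≤ E₁.center → T₁ ⊓ T₂ ≤ E₂.center → Cfsg.FusionSystem.IsCentralProductOf E₁ E₂ D) := by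
  open Cfsg.FusionSystem Cfsg.Agent.FusionSys Cfsg.Agent.H89 in
  have hc₁ := hE₁.1.2.2.2.1
  have hc₂ := hE₂.1.2.2.2.1
  haveI : Finite T₁ := finite_of_le hc₁.1
  haveI : Finite T₂ := finite_of_le hc₂.1
  have hcomm : ∀ a ∈ T₁, ∀ b ∈ T₂, a * b = b * a := fun a ha b hb =>
    commutatorElement_eq_one_iff_mul_comm.1
      (Subgroup.mem_bot.1 (hc ▸ Subgroup.commutator_mem_commutator ha hb))
  by_cases hz : T₁ ⊓ T₂ ≤ E₁.center ∧ T₁ ⊓ T₂ ≤ E₂.center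
  · obtain ⟨D, hDn, hDc⟩ := main hS hF hE₁ hE₂ hcomm
      (fun P f hf x hx hx2 => fix_of_isCentral (isCentral_center E₁) hf hx (hz.1 ⟨hf.le hx, hx2⟩))
      (fun P f hf x hx hx1 => fix_of_isCentral (isCentral_center E₂) hf hx (hz.2 ⟨hx1, hf.le hx⟩))
    exact ⟨D, hDn, fun _ _ => hDc⟩
  have hZc := Gen.closed_inf hc₁ hc₂
  have hZn := Prod.isNormal_of_abelian hS hF hZc fun a ha b hb => hcomm a ha.1 b hb.2
  have hN := CentralizerNormal.isNormalIn hS hF hZn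
  have hle₁ : T₁ ≤ centralizerIn S (T₁ ⊓ T₂) := fun t ht => Cfsg.Agent.FusionSys.mem_centralizerIn.2
    ⟨hc₁.1 ht, fun y hy => (hcomm t ht y hy.2).symm⟩
  have hle₂ : T₂ ≤ centralizerIn S (T₁ ⊓ T₂) := fun t ht => Cfsg.Agent.FusionSys.mem_centralizerIn.2
    ⟨hc₂.1 ht, fun y hy => hcomm y hy.1 t ht⟩
  obtain ⟨M₁, ⟨hM₁, -, hM₁N⟩, -⟩ := Gen.exists_meet hS hE₁ hN
  obtain ⟨M₂, ⟨hM₂, -, hM₂N⟩, -⟩ := Gen.exists_meet hS hE₂ hN
  obtain ⟨D, hDn, -⟩ := main hS hF hM₁ hM₂ (fun a ha b hb => hcomm a ha.1 b hb.1)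
    (fun P f hf x hx hx2 => by
      obtain ⟨-, -, g, -, hge, hgZ⟩ := CentralizerNormal.isMap_centSys.1
        (Cfsg.Agent.H91.CentFocal.isMap_of_sub hM₁N.1.2.2.1 hf)
      rw [← hge x hx, hgZ x ⟨(hf.le hx).1, hx2.1⟩])
    (fun P f hf x hx hx1 => by
      obtain ⟨-, -, g, -, hge, hgZ⟩ := CentralizerNormal.isMap_centSys.1
        (Cfsg.Agent.H91.CentFocal.isMap_of_sub hM₂N.1.2.2.1 hf)
      rw [← hge x hx, hgZ x ⟨hx1.1, (hf.le hx).1⟩])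
  have key : ∃ D : Cfsg.FusionSystem (T₁ ⊔ T₂), D.IsNormalIn F p := by
    have tr : ∀ A B : Subgroup Ω, A = T₁ → B = T₂ →
        (∃ D : Cfsg.FusionSystem (A ⊔ B), D.IsNormalIn F p) →
        ∃ D : Cfsg.FusionSystem (T₁ ⊔ T₂), D.IsNormalIn F p := by
      rintro A B rfl rfl h
      exact h
    exact tr _ _ (inf_eq_left.2 hle₁) (inf_eq_left.2 hle₂) ⟨D, hDn⟩
  exact key.imp fun D h => ⟨h, fun a b => absurd ⟨a, b⟩ hz⟩

end Cfsg.Agent.S5138
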