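import Cfsg.Statements.S5139
import Cfsg.Agent.S5093
import Cfsg.Agent.Fusion.AlperinFocal
import Cfsg.Agent.FusionSys.Alperin

set_option autoImplicit false
open Cfsg

namespace Cfsg.Agent.S5139

open Cfsg.FusionSystem Cfsg.Agent.FusionSys Subgroup

universe u

variable {G : Type u} [Group G] [Finite G] {p : ℕ} [Fact p.Prime]

theorem exists_residual_realizer (S : Sylow p G) {P : Subgroup G} (hP : P ≤ S)
    {α : (groupFusionSystem (S : Subgroup G)).autGroup P}
    (hα : α ∈ pResidual p ((groupFusionSystem (S : Subgroup G)).autGroup P)) :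
    ∃ m ∈ pResidual p G, ∀ x ∈ P, autMap (α : MulAut P) x = m * x * m⁻¹ := by
  set c := conjAutHom P with hc
  have hr : c.range = (groupFusionSystem (S : Subgroup G)).autGroup P := by
    rw [range_conjAutHom P, ← autGroup_group hP]
  let c' : normalizer (P : Set G) →* (groupFusionSystem (S : Subgroup G)).autGroup P :=
    c.codRestrict _ fun m => hr ▸ ⟨m, rfl⟩
  have hsurj : Function.Surjective c' := by
    rintro ⟨β, hβ⟩
    obtain ⟨m, hm⟩ := hr.symm ▸ hβ
    exact ⟨m, Subtype.ext hm⟩
  rw [← Fusion.map_pResidual_of_surjective c' hsurj] at hα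
  obtain ⟨m, hm, hme⟩ := hα
  refine ⟨(m : G), Fusion.pResidual_le_subgroupOf _ hm, fun x hx => ?_⟩
  rw [← hme]
  exact autMap_conjAut m.2 hx

/-- Normalizers inside `O^p(G)` of tame intersections induce maps of a `p`-power index subsystem. -/
theorem isMap_tame (S : Sylow p G) {T : Subgroup G} (hT : T = (S : Subgroup G) ⊓ pResidual p G)
    (E : FusionSystem T)
    (hEi : ∀ P, P ≤ T → (pResidual p ((groupFusionSystem (S : Subgroup G)).autGroup P)).map
      ((groupFusionSystem (S : Subgroup G)).autGroup P).subtype ≤ E.autGroup P)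
    (R Q : Sylow p (pResidual p G))
    (hR : ∀ x : pResidual p G, x ∈ (R : Subgroup (pResidual p G)) ↔ (x : G) ∈ (S : Subgroup G))
    (hQ : Fusion.IsTame R Q) {x : pResidual p G}
    (hx : x ∈ normalizer
      ((((R : Subgroup (pResidual p G)) ⊓ (Q : Subgroup (pResidual p G))) :
        Subgroup (pResidual p G)) : Set (pResidual p G))) :
    IsMap E (((R : Subgroup (pResidual p G)) ⊓ (Q : Subgroup (pResidual p G))).map
      (pResidual p G).subtype) (conjMap (x : G)⁻¹) := by
  set A := (R : Subgroup (pResidual p G)) ⊓ (Q : Subgroup (pResidual p G)) with hA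
  set P := A.map (pResidual p G).subtype with hP
  have hPT : P ≤ T := by
    rintro _ ⟨a, ha, rfl⟩
    rw [hT]
    exact ⟨(hR a).1 ha.1, a.2⟩
  have hPS : P ≤ S := hPT.trans (hT.le.trans inf_le_left)
  set N := normalizer (A : Set (pResidual p G)) with hN
  have hmem : ∀ n : N, ((n : pResidual p G) : G) ∈ normalizer (P : Set G) := fun n =>
    le_normalizer_map (pResidual p G).subtype ⟨(n : pResidual p G), n.2, rfl⟩
  let f : N →* MulAut P := (conjAutHom P).comp
    (((pResidual p G).subtype.comp N.subtype).codRestrict (normalizer (P : Set G)) hmem)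
  have hf : ∀ (n : N) (y : G), y ∈ P → autMap (f n) y = conjMap ((n : pResidual p G) : G) y :=
    fun n y hy => autMap_conjAut (hmem n) hy
  let good : Subgroup N := (E.autGroup P).comap f
  have hres : pResidual p N ≤ good := Fusion.pResidual_le.mpr fun n hn => by
    have hmemF : f n ∈ (groupFusionSystem (S : Subgroup G)).autGroup P := by
      rw [autGroup_group hPS, ← range_conjAutHom P]
      exact ⟨_, rfl⟩
    refine hEi P hPT ⟨⟨f n, hmemF⟩, Fusion.mem_pResidual ?_, rfl⟩
    rw [← Subgroup.orderOf_coe]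
    exact hn.coprime_dvd_left (orderOf_map_dvd f n)
  let U : Sylow p N :=
    (R.isPGroup'.to_le (inf_le_left : (R : Subgroup (pResidual p G)) ⊓ N ≤ R)).comap_subtype.toSylow
      (fun hd => hQ.1 hd)
  have hU : (U : Subgroup N) ≤ good := fun n hn => by
    refine mem_autGroup_of_isMap ((isMap_conj E hPT ?_).congr fun y hy => hf n y hy)
    rw [hT]
    exact ⟨(hR _).1 hn.1, (n : pResidual p G).2⟩
  have htop : good = ⊤ :=
    top_le_iff.mp ((Fusion.sylow_sup_pResidual U).ge.trans (sup_le hU hres))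
  have h : f (⟨x, hx⟩⁻¹ : N) ∈ E.autGroup P :=
    (htop ▸ mem_top _ : (⟨x, hx⟩⁻¹ : N) ∈ good)
  refine (autGroup_set_subgroup hPT h).congr fun y hy => ?_
  rw [hf _ y hy]
  rfl

theorem isMap_conn (S : Sylow p G) {T : Subgroup G} (hT : T = (S : Subgroup G) ⊓ pResidual p G)
    (E : FusionSystem T)
    (hEi : ∀ P, P ≤ T → (pResidual p ((groupFusionSystem (S : Subgroup G)).autGroup P)).map
      ((groupFusionSystem (S : Subgroup G)).autGroup P).subtype ≤ E.autGroup P)
    (R : Sylow p (pResidual p G))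
    (hR : ∀ x : pResidual p G, x ∈ (R : Subgroup (pResidual p G)) ↔ (x : G) ∈ (S : Subgroup G))
    {A : Set (pResidual p G)} {g : pResidual p G} (hc : Fusion.Conn R A g) :
    ∀ P : Subgroup G, P ≤ T → (∀ y : pResidual p G, (y : G) ∈ P → y ∈ A) →
      IsMap E P (conjMap (g : G)⁻¹) := by
  induction hc with
  | refl A =>
    intro P hP _
    refine (isMap_id E hP).congr fun y _ => ?_
    simp [conjMap]
  | step A g x Q hQ hAQ hx _ ih =>
    intro P hP hPA
    have hm := (isMap_tame S hT E hEi R Q hR hQ hx).mono (R := P) fun y hy =>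
      ⟨⟨y, (hP.trans (hT.le.trans inf_le_right)) hy⟩, hAQ (hPA _ hy), rfl⟩
    have h2 := ih (imgSub (conjMap (x : G)⁻¹) P) hm.imgSub_le fun y hy => by
      obtain ⟨z, hz, hze⟩ := hm.mem_imgSub.1 hy
      refine ⟨⟨z, (hP.trans (hT.le.trans inf_le_right)) hz⟩, hPA _ hz, Subtype.ext ?_⟩
      rw [← hze, conjMap_apply, inv_inv]
      rfl
    refine (hm.comp h2 fun y hy => hm.mem_imgSub.2 ⟨y, hy, rfl⟩).congr fun y _ => ?_
    simp [conjMap, mul_assoc]

theorem main (S : Sylow p G) {T : Subgroup G} (hT : T = (S : Subgroup G) ⊓ pResidual p G)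
    (E : FusionSystem T) (hEs : E.IsSaturated p)
    (hEi : E.HasPPowerIndexIn (groupFusionSystem (S : Subgroup G)) p)
    (h : (S : Subgroup G) ⊓ pResidual p G ≤ pResidual p G) :
    ∀ P : Subgroup G,
      E.Hom P = (fusionSystemOfSubgroup (pResidual p G) ((S : Subgroup G) ⊓ pResidual p G) h).Hom P := by
  subst hT
  set F' := fusionSystemOfSubgroup (pResidual p G) ((S : Subgroup G) ⊓ pResidual p G) h with hF'
  haveI : Finite ↥((S : Subgroup G) ⊓ pResidual p G) := inferInstance
  have hTp : IsPGroup p ↥((S : Subgroup G) ⊓ pResidual p G) := S.isPGroup'.to_le inf_le_left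
  suffices hEF : E = F' by intro P; rw [hEF]
  refine le_antisymm' (le_of_autGroup_fullyNormalized hTp hEs fun P hP _ => ?_)
    (le_iff_isMap.2 fun P f hf => ?_)
  · have hPS : P ≤ S := hP.1.trans inf_le_left
    haveI := finite_autGroup E hP.1
    obtain ⟨-, U, hU⟩ := isFullyAutomized_of_isFullyNormalized hTp hEs hP
    have hle : E.autGroup P ≤ (groupFusionSystem (S : Subgroup G)).autGroup P := fun α hα =>
      mem_autGroup_of_isMap (isSubsystemOf_iff_isMap.1 hEi.1 P _ (autGroup_set_subgroup hP.1 hα))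
    have hres : pResidual p (E.autGroup P) ≤ (F'.autGroup P).subgroupOf (E.autGroup P) :=
      fun a ha => by
      obtain ⟨m, hm, hme⟩ := exists_residual_realizer S hPS
        (Fusion.map_pResidual_le (Subgroup.inclusion hle) ⟨a, ha, rfl⟩)
      refine mem_autGroup_of_isMap ⟨P.subtype.comp (a : MulAut P).toMonoidHom,
        ⟨hP.1, fun x => hP.1 (((a : MulAut P) x).2), m, hm, fun x => ?_⟩,
        fun x => (autMap_coe _ x).symm⟩
      rw [← hme x x.2]
      exact (autMap_coe _ x).symm
    have hU' : (U : Subgroup (E.autGroup P)) ≤ (F'.autGroup P).subgroupOf (E.autGroup P) := by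
      rw [hU]
      exact Subgroup.comap_mono (autInducedBy_le_autGroup F' hP.1)
    exact Subgroup.subgroupOf_eq_top.1
      (top_le_iff.mp ((Fusion.sylow_sup_pResidual U).ge.trans (sup_le hU' hres)))
  · obtain ⟨φ, ⟨hP, hφT, g, hg, hge⟩, hφf⟩ := hf
    haveI : (pResidual p G).Normal := Fusion.pResidual_normal
    let R : Sylow p (pResidual p G) := (S.isPGroup'.comap_subtype (K := pResidual p G)).toSylow
      (not_dvd_relIndex_of_normal _ _ S.not_dvd_index)
    have hc := Fusion.alperin R (A := {y | (y : G) ∈ P}) (g := (⟨g, hg⟩ : pResidual p G)⁻¹)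
      (fun y hy => (hP hy).1) (by
        rintro _ ⟨y, hy, rfl⟩
        have h2 := (hφT ⟨y, hy⟩).1
        rw [hge ⟨y, hy⟩] at h2
        show (((⟨g, hg⟩ : pResidual p G)⁻¹⁻¹ * y * (⟨g, hg⟩ : pResidual p G)⁻¹ : pResidual p G) : G) ∈
          (S : Subgroup G)
        rw [Subgroup.coe_mul, Subgroup.coe_mul, inv_inv, Subgroup.coe_inv]
        exact h2)
    refine (isMap_conn S rfl E hEi.2.2 R (fun _ => Iff.rfl) hc P hP fun y hy => hy).congr
      fun y hy => ?_
    rw [← hφf ⟨y, hy⟩, hge ⟨y, hy⟩]
    simp [conjMap]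


/-- Let G be a finite group with Sylow p-subgroup S and O^p(G) the subgroup generated by the elements of order prime to p. Then the p-residual subsystem of the fusion system of G on S — the saturated subsystem of p-power index over the hyperfocal subgroup — is the fusion system of O^p(G) on S ∩ O^p(G): its maps are exactly the conjugation maps by elements of O^p(G) between subgroups of S ∩ O^p(G). -/
theorem result {G : Type*} [Group G] [Finite G] (p : ℕ) [Fact p.Prime] (S : Sylow p G) (E : Cfsg.FusionSystem ((Cfsg.groupFusionSystem (S : Subgroup G)).hyperfocalSubgroup p)) (hE : (Cfsg.groupFusionSystem (S : Subgroup G)).IsPResidual p E) : ∃ h : (S : Subgroup G) ⊓ Cfsg.pResidual p G ≤ Cfsg.pResidual p G, ∀ P : Subgroup G, E.Hom P = (Cfsg.fusionSystemOfSubgroup (Cfsg.pResidual p G) ((S : Subgroup G) ⊓ Cfsg.pResidual p G) h).Hom P := by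
  exact ⟨inf_le_right, main S (Cfsg.Agent.S5093.result p S) E hE.1 hE.2 inf_le_right⟩

end Cfsg.Agent.S5139
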