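import Cfsg.Statements.S5147
import Cfsg.Agent.H89.CentralQuotient
import Cfsg.Agent.S5115

set_option autoImplicit false
open Cfsg

namespace Cfsg.Agent.S5147

/-- Let G be a finite group with Sylow 2-subgroup S whose 2-fusion system on S is constrained, and L a component of G (a subnormal quasisimple subgroup). Then the 2-fusion system of L/Z(L) on the image of S ∩ L is constrained. -/
theorem result {G : Type*} [Group G] [Finite G] (S : Sylow 2 G) (hF : (Cfsg.groupFusionSystem (S : Subgroup G)).IsConstrained 2) (L : Subgroup G) (hL : Cfsg.IsComponent L) : (Cfsg.groupFusionSystem (((S : Subgroup G).subgroupOf L).map (QuotientGroup.mk' (Subgroup.center L)))).IsConstrained 2 := by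
  have key : (Cfsg.groupFusionSystem ((S : Subgroup G).subgroupOf L)).IsConstrained 2 ∧
      ∃ T : Sylow 2 L, (T : Subgroup L) = (S : Subgroup G).subgroupOf L := by
    have hsub : L.IsSubnormal := hL.1
    clear hL
    induction hsub with
    | top =>
      haveI : (⊤ : Subgroup G).subtype.range.Normal := by
        rw [Subgroup.range_subtype]; infer_instance
      exact Cfsg.Agent.S5115.step S (⊤ : Subgroup G).subtype (Subgroup.subtype_injective _) hF
    | step H K hle _ hN ih =>
      obtain ⟨hcK, TK, hTK⟩ := ih
      haveI : (Subgroup.inclusion hle).range.Normal := by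
        rw [Subgroup.inclusion_range]; exact hN
      rw [← hTK] at hcK
      have := Cfsg.Agent.S5115.step TK (Subgroup.inclusion hle) (Subgroup.inclusion_injective hle) hcK
      rwa [hTK] at this
  obtain ⟨hc, T, hT⟩ := key
  rw [← hT] at hc ⊢
  haveI : Fact (Nat.Prime 2) := ⟨Nat.prime_two⟩
  exact Cfsg.Agent.H89.isConstrained_central_quotient T (Subgroup.center L) le_rfl hc

end Cfsg.Agent.S5147
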