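import Cfsg.Statements.S5151
import Cfsg.Agent.Signalizer.EBal.Normal
import Cfsg.Agent.Signalizer.FusComp.Main
import Cfsg.Agent.H89.CentralizerNormal
import Cfsg.Agent.H89.EBalClimb

set_option autoImplicit false
open Cfsg

namespace Cfsg.Agent.S5151

open Cfsg.Agent.FusionSys Cfsg.Agent.H91.CentFocal Cfsg.Agent.Signalizer.EBal
open Cfsg.FusionSystem (centralizerIn normalizerIn)

theorem component_in_layer {Ω : Type*} [Group Ω] {S : Subgroup Ω} [Finite S] {p : ℕ} [Fact p.Prime]
    (hS : IsPGroup p S) {F : FusionSystem S} (hF : F.IsSaturated p) {X : Subgroup Ω}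
    (hX : F.IsFullyNormalized X) {N : FusionSystem (normalizerIn S X)} (hN : F.IsNormalizerSystem X N)
    {T : Subgroup Ω} {E : FusionSystem T} (hE : E.IsLayerOf F p) {V : Subgroup Ω} {C : FusionSystem V}
    (hC : C.IsSubnormalIn N p) (hq : C.Quasisimple p) : V ≤ centralizerIn T X := by
  have hXS := hX.1
  have hXN : X ≤ normalizerIn S X := le_normalizerIn_self hXS
  haveI : Finite (normalizerIn S X) := finite_of_le normalizerIn_le
  have hS0 : IsPGroup p (normalizerIn S X) := hS.to_le normalizerIn_le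
  have hNs : N.IsSaturated p := FusionSys.isSaturated_normalizer hS hF hX hN
  have hXn : N.IsNormal X := by
    refine FusionSys.isNormal_iff.2 ⟨hXN, fun P f hf => ?_⟩
    obtain ⟨hP, hPv, g, hg, hge, hgm⟩ := (isMap_norm hXS hN).1 hf
    have hgS : ∀ x ∈ P ⊔ X, g x ∈ normalizerIn S X := fun _ hy => hg.mapsTo_sup
      (fun x hx => (hge x hx).symm ▸ hPv x hx) (fun z hz => hXN (hgm z hz)) hy
    haveI := finite_of_le hXS
    exact ⟨g, (isMap_norm hXS hN).2 ⟨sup_le hP hXN, hgS, g, hg.mono (sup_le le_rfl le_sup_right),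
      fun _ _ => rfl, hgm⟩, hge, (isIso_of_mapsTo (hg.mono le_sup_right) hgm).image_eq⟩
  have hVX : V ≤ centralizerIn (normalizerIn S X) X :=
    H89.ComponentFix.le_centralizerIn hC hS0 hNs hq hXn
  have hVN : V ≤ normalizerIn S X := hVX.trans FusionSys.centralizerIn_le
  have hVS : V ≤ S := hVN.trans normalizerIn_le
  have hCN := H89.CentralizerNormal.isNormalIn hS0 hNs hXn
  have hCCN := Signalizer.FusComp.subnormal_of_le hS0 hC hq hCN hVX
  haveI : Finite (centralizerIn (normalizerIn S X) X) := finite_of_le FusionSys.centralizerIn_le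
  have hcore := H89.FStar.ctx_core hS hF hE
  obtain ⟨W, D, hD⟩ := hcore.exists_centralProduct
  have hDfit : D.IsGeneralizedFittingOf F p := ⟨T, E, hE, hD⟩
  have hDn := hcore.isNormal hD
  obtain ⟨M, hM, hMD⟩ := exists_local_normal hS hDn hX hN
  obtain ⟨M', ⟨-, -, hM'⟩, -⟩ := H89.Gen.exists_meet hS0 hM hCN
  have hVW : V ≤ centralizerIn W X := by
    rcases H89.Comp.dichotomy (hS0.to_le FusionSys.centralizerIn_le) hCCN hq hM' with h | ⟨-, hfix⟩
    · exact h.trans inf_le_left
    refine (H89.EBalClimb.false_of_fixes_fitting hS hF hDfit hVS hq fun P a hP ha hco => ?_).elim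
    obtain ⟨g, hg, hge, hgR⟩ := hfix P _ ((mem_autGroup_iff hP).1 ha)
    obtain ⟨-, -, g', hg', hg'e, hg'X⟩ := H89.CentralizerNormal.isMap_centSys.1 hg
    have hg'F : IsMap F (((P ⊔ (centralizerIn W X ⊓ centralizerIn (normalizerIn S X) X))) ⊔ X) g' :=
      isMap_of_sub (norm_sub hXS hN) hg'
    have hUC : centralizerIn W X ≤ centralizerIn W X ⊓ centralizerIn (normalizerIn S X) X :=
      le_inf le_rfl fun u hu => FusionSys.mem_centralizerIn.2
        ⟨cent_le_norm hDn.1.2.2.2.1.1 hu, (FusionSys.mem_centralizerIn.1 hu).2⟩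
    have hPX : P ≤ centralizerIn S X := fun x hx => FusionSys.mem_centralizerIn.2
      ⟨hVS (hP hx), (FusionSys.mem_centralizerIn.1 (hVX (hP hx))).2⟩
    haveI := finite_of_le (hP.trans hVS)
    have haF : a ∈ F.autGroup P := mem_autGroup_of_isMap ((hg'F.mono
      ((le_sup_left : P ≤ P ⊔ _).trans le_sup_left)).congr fun x hx => by
        rw [hg'e x (Subgroup.mem_sup_left hx), hge x hx])
    refine H89.EBalClimb.climb hS hF hDn.1.2.2.2.1
      (isFullyCentralized_of_isFullyNormalized hS hF hX) hPX haF hco ⟨g', hg'F.mono ?_, fun x hx => ?_, ?_⟩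
    · exact sup_le (le_sup_left.trans le_sup_left)
        (sup_le le_sup_right ((hUC.trans le_sup_right).trans le_sup_left))
    · rw [hg'e x (Subgroup.mem_sup_left hx), hge x hx]
    · intro r hr
      have hR : X ⊔ centralizerIn W X ≤ S := sup_le hXS (fun u hu => hDn.1.2.2.2.1.1 hu.1)
      exact (hg'F.mono (sup_le le_sup_right ((hUC.trans le_sup_right).trans le_sup_left))).eqOn_sup
        (isMap_id F hR) (fun z hz => hg'X z hz)
        (fun u hu => by rw [hg'e u (Subgroup.mem_sup_right (hUC hu)), hgR u (hUC hu)]; rfl) hr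
  have hCM := H89.Gen.component_le hC hq hS0 hNs hM hVW
  have hVT : V ≤ T := le_layer_of_fitting hcore hD hq.2.1 fun P => (hCM P).trans (hMD P)
  exact fun v hv => FusionSys.mem_centralizerIn.2
    ⟨hVT hv, (FusionSys.mem_centralizerIn.1 (hVX hv)).2⟩

/-- E-balance for fusion systems: let F be a saturated fusion system over a finite p-group S, X a fully normalized subgroup and N the normalizer system of X. Then the layer of N is a subsystem of the layer of F. -/
theorem result {Ω : Type*} [Group Ω] {S : Subgroup Ω} [Finite S] (p : ℕ) [Fact p.Prime] (hS : IsPGroup p S) (F : Cfsg.FusionSystem S) (hF : F.IsSaturated p) (X : Subgroup Ω) (hX : F.IsFullyNormalized X) (N : Cfsg.FusionSystem (Cfsg.FusionSystem.normalizerIn S X)) (hN : F.IsNormalizerSystem X N) {U : Subgroup Ω} (EN : Cfsg.FusionSystem U) (hEN : EN.IsLayerOf N p) {T : Subgroup Ω} (E : Cfsg.FusionSystem T) (hE : E.IsLayerOf F p) : EN.IsSubsystemOf E := by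
  haveI : Finite (normalizerIn S X) := finite_of_le normalizerIn_le
  obtain ⟨M, hM, hME⟩ := exists_local_normal hS hE.1 hX hN
  refine fun P => (hEN.2.2 _ M hM (fun V C hC => ?_) P).trans (hME P)
  exact H89.Gen.component_le hC.1 hC.2 (hS.to_le normalizerIn_le)
    (FusionSys.isSaturated_normalizer hS hF hX hN) hM (component_in_layer hS hF hX hN hE hC.1 hC.2)

end Cfsg.Agent.S5151
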