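import Cfsg.Statements.S5153
import Cfsg.Agent.FusionSys.Saturated
-- import your own Cfsg.Agent.* helpers here

set_option autoImplicit false
open Cfsg

namespace Cfsg.Agent.S5153

open Cfsg.FusionSystem Cfsg.Agent.FusionSys

universe u

theorem step {Ω : Type u} [Group Ω] {S U : Subgroup Ω} [Finite S] {p : ℕ} [Fact p.Prime]
    (hS : IsPGroup p S) {F : FusionSystem S} (hF : F.IsSaturated p) {D : FusionSystem U}
    (hD : D.IsInvariantIn F) {P : Subgroup Ω} (hPU : P ≤ U) (hP : F.IsFullyNormalized P) :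
    D.IsFullyNormalized P := by
  refine ⟨hPU, fun Q hQ => ?_⟩
  obtain ⟨f, hf⟩ := Cfsg.Agent.FusionSys.isConj_iff.1 hQ
  have hfF : IsMap F P f := isSubsystemOf_iff_isMap.1 hD.1 P f hf.isMap
  have hPQ : F.IsConj P Q := (IsIso.mk hfF hf.image_eq).isConj
  obtain ⟨u, hu, hui, -⟩ := exists_map_to_fullyNormalized hS hF hP (isConj_symm hPQ)
  have hUS : U ≤ S := hD.2.1.1
  have hle : Cfsg.FusionSystem.normalizerIn U Q ≤ Cfsg.FusionSystem.normalizerIn S Q :=
    fun x hx => ⟨hUS hx.1, hx.2⟩
  have hu' := hu.mono hle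
  haveI : Finite (Cfsg.FusionSystem.normalizerIn U P) := finite_of_le (inf_le_left.trans hUS)
  refine card_le_of_mapsTo hu' le_rfl fun x hx => ⟨?_, ?_⟩
  · exact (stronglyClosed_iff.1 hD.2.1).2 _ u inf_le_left hu' x hx
  · rw [hui.eq_imgSub]
    exact (hu.mem_normalizerIn (le_normalizerIn_self (le_of_isConj_right hPQ)) (hle hx) hx.2).2

theorem le_of_subnormal {Ω : Type u} [Group Ω] {T S : Subgroup Ω} {E : FusionSystem T} {F : FusionSystem S}
    {p : ℕ} (h : E.IsSubnormalIn F p) : T ≤ S := by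
  induction h with
  | refl F p => exact le_rfl
  | step _ hn ih => exact ih.trans hn.1.2.2.2.1.1

theorem main {Ω : Type u} [Group Ω] {T S : Subgroup Ω} {E : FusionSystem T} {F : FusionSystem S}
    {p : ℕ} (h : E.IsSubnormalIn F p) (hp : Fact p.Prime) (hfin : Finite S) (hS : IsPGroup p S)
    (hF : F.IsSaturated p) (P : Subgroup Ω) (hPT : P ≤ T) (hP : F.IsFullyNormalized P) :
    E.IsFullyNormalized P ∧ T ≤ S := by
  induction h with
  | refl F p => exact ⟨hP, le_rfl⟩
  | @step U' S' E' D' F' p' hsub hn ih =>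
    have hU : U' ≤ S' := hn.1.2.2.2.1.1
    haveI : Finite S' := hfin
    haveI := hp
    haveI : Finite U' := finite_of_le hU
    have hTU : T ≤ U' := le_of_subnormal hsub
    obtain ⟨h1, h2⟩ := ih hp inferInstance (hS.to_le hU) hn.1.1
      (step hS hF hn.1.2.2 (hPT.trans hTU) hP)
    exact ⟨h1, h2.trans hU⟩

/-- Let F be a saturated fusion system over a finite p-group S and E a subnormal subsystem of F over T. Then every subgroup of T that is fully normalized in F is fully normalized in E. -/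
theorem result {Ω : Type*} [Group Ω] {S : Subgroup Ω} [Finite S] (p : ℕ) [Fact p.Prime] (hS : IsPGroup p S) (F : Cfsg.FusionSystem S) (hF : F.IsSaturated p) {T : Subgroup Ω} (E : Cfsg.FusionSystem T) (hE : E.IsSubnormalIn F p) (P : Subgroup Ω) (hPT : P ≤ T) (hP : F.IsFullyNormalized P) : E.IsFullyNormalized P := (main hE inferInstance inferInstance hS hF P hPT hP).1

end Cfsg.Agent.S5153
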