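import Cfsg.Statements.S5162
import Cfsg.Agent.Signalizer.FusComp.Central

set_option autoImplicit false
open Cfsg

namespace Cfsg.Agent.S5162

/-- Let F be a saturated fusion system over a finite p-group S that is a central product of two saturated subsystems F₁ (over S₁) and F₂ (over S₂) inside S. Then every component of F is a component of F₁ or a component of F₂. -/
theorem result {Ω : Type*} [Group Ω] {S : Subgroup Ω} [Finite S] (p : ℕ) [Fact p.Prime] (hS : IsPGroup p S) (F : Cfsg.FusionSystem S) (hF : F.IsSaturated p) {S₁ S₂ : Subgroup Ω} (F₁ : Cfsg.FusionSystem S₁) (F₂ : Cfsg.FusionSystem S₂) (h₁ : F₁.IsSaturated p) (h₂ : F₂.IsSaturated p) (h₁F : F₁.IsSubsystemOf F) (h₂F : F₂.IsSubsystemOf F) (hc : Cfsg.FusionSystem.IsCentralProductOf F₁ F₂ F) {T : Subgroup Ω} (C : Cfsg.FusionSystem T) (hC : C.IsComponentIn F p) : C.IsComponentIn F₁ p ∨ C.IsComponentIn F₂ p := by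
  open Cfsg.Agent.Signalizer.FusComp in
  have hg := glue_of_centralProduct hc
  open Cfsg.Agent.Signalizer.FusComp in
  have n₁ : F₁.IsNormalIn F p :=
    isNormalIn_factor hF h₁ h₁F hg.le₁ hg.le₂ hg.dec hg.comm hg.restr₁ hg.ext₁
  open Cfsg.Agent.Signalizer.FusComp in
  have n₂ : F₂.IsNormalIn F p := by
    refine isNormalIn_factor hF h₂ h₂F hg.le₂ hg.le₁ (fun s hs => ?_)
      (fun a ha b hb => (hg.comm b hb a ha).symm) hg.restr₂ hg.ext₂
    obtain ⟨a, ha, b, hb, rfl⟩ := hg.dec s hs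
    exact ⟨b, hb, a, ha, (hg.comm a ha b hb).symm⟩
  open Cfsg.Agent.Signalizer.FusComp in
  have hcent : ∀ z ∈ S₁ ⊓ S₂, ∀ s ∈ S, s * z = z * s := by
    intro z hz s hs
    obtain ⟨a, ha, b, hb, rfl⟩ := hg.dec s hs
    rw [mul_assoc, ← hg.comm z hz.1 b hb, ← mul_assoc, hg.comm a ha z hz.2, mul_assoc]
  rcases Cfsg.Agent.Signalizer.FusComp.le_left_or_right hS hC.1 hC.2 n₁ n₂ hg.dec hcent with h | h
  · exact Or.inl ⟨Cfsg.Agent.Signalizer.FusComp.subnormal_of_le hS hC.1 hC.2 n₁ h, hC.2⟩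
  · exact Or.inr ⟨Cfsg.Agent.Signalizer.FusComp.subnormal_of_le hS hC.1 hC.2 n₂ h, hC.2⟩

end Cfsg.Agent.S5162
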