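import Cfsg.Statements.S5163
import Cfsg.Agent.H89.SimpleTools
import Cfsg.Agent.H89.Unitri
import Mathlib.Algebra.CharP.Lemmas
-- import your own Cfsg.Agent.* helpers here

set_option autoImplicit false
open Cfsg

namespace Cfsg.Agent.S5163

open Cfsg.FusionSystem Cfsg.Agent.FusionSys Cfsg.Agent.H89 Cfsg.Agent.H89.Unitri
open scoped Pointwise

universe u v

variable {K : Type u} [Field K] {p : ℕ} [Fact p.Prime] [CharP K p] {n : ℕ}

local notation "SLn" => Matrix.SpecialLinearGroup (Fin n) K
local notation "U" => Cfsg.Agent.Linear.unitriSL n K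

theorem scalar_of_mem_center {z : SLn} (hz : z ∈ Subgroup.center SLn) :
    ∃ r : K, z.1 = Matrix.scalar (Fin n) r := by
  obtain ⟨r, -, hr⟩ := Matrix.SpecialLinearGroup.mem_center_iff.1 hz
  exact ⟨r, hr.symm⟩

omit [CharP K p] [Fact p.Prime] in
theorem center_inf_U {z : SLn} (hz : z ∈ Subgroup.center SLn) (hzU : z ∈ U) : z = 1 := by
  obtain ⟨r, hr⟩ := scalar_of_mem_center hz
  refine Subtype.ext (Matrix.ext fun x y => ?_)
  have h := (mem_iff.1 hzU).2 x
  rw [hr] at h
  simp only [Matrix.scalar_apply, Matrix.diagonal_apply_eq] at h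
  rw [hr, h]
  simp

theorem center_pow_eq_one {z : SLn} (hz : z ∈ Subgroup.center SLn) {e : ℕ} (h : z ^ (p ^ e) = 1) :
    z = 1 := by
  obtain ⟨r, hr⟩ := scalar_of_mem_center hz
  refine Subtype.ext (Matrix.ext fun x y => ?_)
  have h1 : (z.1 ^ (p ^ e)) x x = 1 := by
    rw [← Matrix.SpecialLinearGroup.coe_pow, h]; simp
  rw [hr, ← map_pow] at h1
  simp only [Matrix.scalar_apply, Matrix.diagonal_apply_eq] at h1
  have h2 : r = 1 := by
    have h3 : (r - 1) ^ (p ^ e) = 0 := by rw [sub_pow_char_pow, h1, one_pow, sub_self]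
    exact sub_eq_zero.1 (eq_zero_of_pow_eq_zero h3)
  rw [hr, h2]
  simp

theorem main [Fintype K] (hn : 3 ≤ n) {G : Type v} [Group G] [Finite G] (π : SLn →* G)
    (hπ : Function.Surjective π) (hker : π.ker ≤ Subgroup.center SLn) (S : Sylow p G)
    (hS : (S : Subgroup G) = (U).map π) :
    (groupFusionSystem (S : Subgroup G)).IsSimple p := by
  classical
  have hinj : ∀ u ∈ U, π u = 1 → u = 1 := fun u hu h =>
    center_inf_U (hker (MonoidHom.mem_ker.2 h)) hu
  have hcomm : ∀ u ∈ U, ∀ v ∈ U, π u * π v = π v * π u → u * v = v * u := by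
    intro u hu v hv h
    refine mul_inv_eq_one.1 (hinj _ (mul_mem (mul_mem hu hv) (Subgroup.inv_mem _ (mul_mem hv hu))) ?_)
    simp only [map_mul, map_inv, h]
    group
  have hπS : ∀ u ∈ U, π u ∈ (S : Subgroup G) := fun u hu => hS ▸ Subgroup.mem_map_of_mem π hu
  have hlift : ∀ s ∈ (S : Subgroup G), ∃ u ∈ U, π u = s := fun s hs => by
    rw [hS] at hs; exact hs
  obtain ⟨m, hm⟩ : ∃ m, n = m + 3 := ⟨n - 3, by omega⟩
  refine isSimple_of_criterion S (isSaturated_group S) ?_ ?_ ?_
  · intro hbot
    set i : Fin n := ⟨0, by omega⟩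
    set j : Fin n := ⟨1, by omega⟩
    have hij : i < j := by simp [i, j]
    have h1 : π (tv hij.ne 1) = 1 := Subgroup.mem_bot.1 (hbot ▸ hπS _ (tv_mem hij 1))
    have h2 := congrFun (congrFun (congrArg Subtype.val (hinj _ (tv_mem hij 1) h1)) i) j
    rw [tv_apply] at h2
    simp [hij.ne] at h2
  · intro T hT
    by_cases hne : T = ⊥
    · exact Or.inl hne
    refine Or.inr (le_antisymm hT.1 ?_)
    obtain ⟨z, hzT, hz1, hzc⟩ := exists_central_mem S hT hne
    obtain ⟨u, hu, rfl⟩ := hlift z (hT.1 hzT)
    subst hm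
    have hu' := eq_tv_of_central hu fun i j h => hcomm _ (tv_mem h 1) _ hu (hzc _ (hπS _ (tv_mem h 1)))
    set c := u.1 0 (Fin.last (m + 2))
    have hc : c ≠ 0 := by
      intro h
      rw [h, tv, Matrix.SpecialLinearGroup.transvection_coeff_zero] at hu'
      exact hz1 (by rw [hu', map_one])
    rw [hS, Subgroup.map_le_iff_le_comap]
    refine le_of_tv_mem fun i j hij d => ?_
    show π (tv hij.ne d) ∈ T
    by_cases hd : d = 0
    · rw [hd, tv, Matrix.SpecialLinearGroup.transvection_coeff_zero, map_one]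
      exact T.one_mem
    obtain ⟨g, hg⟩ := exists_conj_tv hn (Fin.last_pos' (n := m + 2)).ne hij.ne hc hd
    have h1 : π g * π u * (π g)⁻¹ = π (tv hij.ne d) := by
      rw [← hg, hu', map_mul, map_mul, map_inv]
    rw [← h1]
    exact mem_of_conj_mem hT hzT (h1 ▸ hπS _ (tv_mem hij d))
  · set RHS := ⨆ (R : Subgroup G) (_ : (groupFusionSystem (S : Subgroup G)).IsFullyNormalized R ∧
      (groupFusionSystem (S : Subgroup G)).IsCentric R),
      autInducedBy (pElementsOfNormalizer p R) (S : Subgroup G) with hRHS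
    set J : Subgroup SLn := (((RHS).comap (conjAutHom (S : Subgroup G))).map
      (Subgroup.normalizer ((S : Subgroup G) : Set G)).subtype).comap π with hJdef
    have hJ : ∀ g : SLn, ∀ R : Subgroup G, (groupFusionSystem (S : Subgroup G)).IsFullyNormalized R →
        (groupFusionSystem (S : Subgroup G)).IsCentric R → π g ∈ pElementsOfNormalizer p R →
        π g ∈ Subgroup.normalizer ((S : Subgroup G) : Set G) → g ∈ J := by
      intro g R hfn hcR hg hgS
      refine ⟨⟨π g, hgS⟩, ?_, rfl⟩
      show conjAutHom (S : Subgroup G) ⟨π g, hgS⟩ ∈ RHS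
      exact (le_iSup₂ (f := fun R _ => autInducedBy (pElementsOfNormalizer p R) (S : Subgroup G)) R ⟨hfn, hcR⟩)
        (mem_autInducedBy.2 ⟨π g, hg, hgS, rfl⟩)
    have hpU : IsPGroup p U :=
      (Cfsg.Agent.Linear.unitriSylowSL n K p).isPGroup'
    have hord : ∀ x : G, (∃ e, x ^ (p ^ e) = 1) → ∃ k, orderOf x = p ^ k := by
      rintro x ⟨e, he⟩
      obtain ⟨k, -, hk⟩ := (Nat.dvd_prime_pow (Fact.out : p.Prime)).1 (orderOf_dvd_of_pow_eq_one he)
      exact ⟨k, hk⟩
    have hJU : ∀ u ∈ U, u ∈ J := by
      intro u hu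
      have hnS : (S : Subgroup G) ≤ Subgroup.normalizer ((S : Subgroup G) : Set G) := Subgroup.le_normalizer
      refine hJ u S (isFullyNormalized_of_le_normalizer S le_rfl hnS)
        (isCentric_of_le_normalizer S le_rfl hnS centralizerIn_le) ?_ (hnS (hπS u hu))
      refine Subgroup.subset_closure ⟨hnS (hπS u hu), hord _ ?_⟩
      obtain ⟨e, he⟩ := hpU ⟨u, hu⟩
      refine ⟨e, ?_⟩
      rw [← map_pow, show u ^ p ^ e = 1 from congrArg Subtype.val he, map_one]
    have hnormS : ∀ g : SLn, (∀ u ∈ U, g * u * g⁻¹ ∈ U) →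
        π g ∈ Subgroup.normalizer ((S : Subgroup G) : Set G) := by
      intro g hg
      refine mem_normalizer_of_maps fun y hy => ?_
      obtain ⟨u, hu, rfl⟩ := hlift y hy
      rw [← map_inv, ← map_mul, ← map_mul]
      exact hπS _ (hg u hu)
    have hJd : ∀ (a b : Fin n) (_ : (b : ℕ) = a + 1) (hne : a ≠ b) (c : K) (hc : c ≠ 0),
        Matrix.SpecialLinearGroup.diag2n hne c hc ∈ J := by
      intro a b hab hne c hc
      have hlt : a < b := by rw [Fin.lt_def, hab]; omega
      set R := (radical (K := K) a b hab).map π with hR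
      have hRS : R ≤ (S : Subgroup G) := hS ▸ Subgroup.map_mono fun _ h => h.1
      have hnR : ∀ g : SLn, (∀ u ∈ radical (K := K) a b hab, g * u * g⁻¹ ∈ radical (K := K) a b hab) →
          π g ∈ Subgroup.normalizer (R : Set G) := by
        intro g hg
        refine mem_normalizer_of_maps ?_
        rintro _ ⟨u, hu, rfl⟩
        rw [← map_inv, ← map_mul, ← map_mul]
        exact Subgroup.mem_map_of_mem π (hg u hu)
      have hnS : (S : Subgroup G) ≤ Subgroup.normalizer (R : Set G) := by
        intro s hs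
        obtain ⟨v, hv, rfl⟩ := hlift s hs
        exact hnR v fun u hu => radical_conj hab hv hu
      have hcR : centralizerIn (S : Subgroup G) R ≤ R := by
        intro x hx
        obtain ⟨hxS, hxc⟩ := FusionSys.mem_centralizerIn.1 hx
        obtain ⟨u, hu, rfl⟩ := hlift x hxS
        refine Subgroup.mem_map_of_mem π (mem_radical_of_centralizes hn hab hu fun x y h hxy => ?_)
        exact hcomm _ (tv_mem h 1) _ hu (hxc _ (Subgroup.mem_map_of_mem π (tv_mem_radical hab h hxy 1)))
      refine hJ _ R (isFullyNormalized_of_le_normalizer S hRS hnS)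
        (isCentric_of_le_normalizer S hRS hnS hcR) ?_ (hnormS _ fun u hu => ?_)
      · have hp1 : ∀ (i j : Fin n) (hij : i ≠ j) (c : K), (tv hij c) ^ p = 1 := by
          intro i j hij c
          have : ∀ k : ℕ, (tv hij c) ^ k = tv hij (k * c) := by
            intro k
            induction k with
            | zero => simp [tv]
            | succ k ih =>
              rw [pow_succ, ih, tv, ← Matrix.SpecialLinearGroup.transvection_add]
              congr 1
              push_cast
              ring
          rw [this p, CharP.cast_eq_zero K p, zero_mul]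
          exact Matrix.SpecialLinearGroup.transvection_coeff_zero hij
        have h1 : ∀ c : K, π (tv hne c) ∈ pElementsOfNormalizer p R := fun c =>
          Subgroup.subset_closure ⟨hnS (hπS _ (tv_mem hlt c)),
            hord _ ⟨1, by rw [pow_one, ← map_pow, hp1, map_one]⟩⟩
        have h2 : ∀ c : K, π (tv hne.symm c) ∈ pElementsOfNormalizer p R := fun c =>
          Subgroup.subset_closure ⟨hnR _ fun u hu => lower_conj_radical hab hu c,
            hord _ ⟨1, by rw [pow_one, ← map_pow, hp1, map_one]⟩⟩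
        rw [Cfsg.Agent.Linear.diag2n_eq_transvections]
        simp only [map_mul]
        refine mul_mem (mul_mem (mul_mem (mul_mem (mul_mem ?_ ?_) ?_) ?_) ?_) ?_
        all_goals first | exact h1 _ | exact h2 _
      · have hu' := mem_iff.1 hu
        set t : Fin n → K := fun k => if k = a then c else if k = b then c⁻¹ else 1
        have ht : ∀ k, t k ≠ 0 := fun k => by
          simp only [t]; split_ifs <;> simp [hc]
        have hval : ∀ x y, (Matrix.SpecialLinearGroup.diag2n hne c hc * u *
            (Matrix.SpecialLinearGroup.diag2n hne c hc)⁻¹).1 x y = t x * u.1 x y * (t y)⁻¹ := by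
          intro x y
          have hinv : (Matrix.SpecialLinearGroup.diag2n hne c hc)⁻¹ =
              Matrix.SpecialLinearGroup.diag2n hne c⁻¹ (inv_ne_zero hc) := by
            refine inv_eq_of_mul_eq_one_right (Subtype.ext ?_)
            rw [Matrix.SpecialLinearGroup.coe_mul, Matrix.SpecialLinearGroup.diag2n_coe,
              Matrix.SpecialLinearGroup.diag2n_coe, Matrix.diagonal_mul_diagonal]
            refine (congrArg Matrix.diagonal (funext fun k => ?_)).trans Matrix.diagonal_one
            show (if k = a then c else if k = b then c⁻¹ else 1) *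
              (if k = a then c⁻¹ else if k = b then (c⁻¹)⁻¹ else 1) = 1
            split_ifs <;> field_simp
          rw [hinv, Matrix.SpecialLinearGroup.coe_mul, Matrix.SpecialLinearGroup.coe_mul,
            Matrix.SpecialLinearGroup.diag2n_coe, Matrix.SpecialLinearGroup.diag2n_coe,
            Matrix.mul_diagonal, Matrix.diagonal_mul]
          congr 1
          simp only [t]
          split_ifs <;> simp
        refine mem_iff.2 ⟨fun x y hxy => by rw [hval, hu'.1 x y hxy]; simp, fun x => ?_⟩
        rw [hval, hu'.2, mul_one, mul_inv_cancel₀ (ht x)]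
    intro α hα
    obtain ⟨x, -, hxn, rfl⟩ := mem_autInducedBy.1 hα
    obtain ⟨g, rfl⟩ := hπ x
    have hgU : ∀ u ∈ U, g⁻¹ * u * g ∈ U := by
      intro u hu
      have h1 : (π g)⁻¹ * π u * π g ∈ (S : Subgroup G) := by
        simpa using (Subgroup.mem_normalizer_iff.1 (Subgroup.inv_mem _ hxn) (π u)).1 (hπS u hu)
      obtain ⟨v, hv, hve⟩ := hlift _ h1
      set z := v⁻¹ * (g⁻¹ * u * g) with hz
      have hzk : z ∈ Subgroup.center SLn := hker (MonoidHom.mem_ker.2 (by
        rw [hz, map_mul, map_inv, hve]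
        simp only [map_mul, map_inv]
        group))
      obtain ⟨e₁, he₁⟩ := hpU ⟨u, hu⟩
      obtain ⟨e₂, he₂⟩ := hpU ⟨v, hv⟩
      have hu1 : u ^ (p ^ (e₁ + e₂)) = 1 := by
        rw [pow_add, pow_mul, show u ^ p ^ e₁ = 1 from congrArg Subtype.val he₁, one_pow]
      have hv1 : v ^ (p ^ (e₁ + e₂)) = 1 := by
        rw [add_comm, pow_add, pow_mul, show v ^ p ^ e₂ = 1 from congrArg Subtype.val he₂, one_pow]
      have hvz : g⁻¹ * u * g = v * z := by rw [hz]; group
      have h2 : (g⁻¹ * u * g) ^ (p ^ (e₁ + e₂)) = 1 := by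
        have h := conj_pow (i := p ^ (e₁ + e₂)) (a := g⁻¹) (b := u)
        rw [inv_inv] at h
        rw [h, hu1]; group
      rw [hvz, (show Commute v z from Subgroup.mem_center_iff.1 hzk v).mul_pow, hv1, one_mul] at h2
      rw [hvz, center_pow_eq_one hzk h2, mul_one]
      exact hv
    have hup := upper_of_normalizes hgU
    have hdet : ∏ i, g.1 i i = 1 := by
      rw [← Cfsg.Agent.Linear.blockTriangular_det (A := g.1) fun x y h => hup x y h]
      exact g.2
    have hdiag : ∀ i, g.1 i i ≠ 0 := fun i h => by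
      exact zero_ne_one ((Finset.prod_eq_zero (f := fun i => g.1 i i) (Finset.mem_univ i) h).symm.trans hdet)
    set d : SLn := ⟨Matrix.diagonal fun i => g.1 i i, by rw [Matrix.det_diagonal, hdet]⟩ with hd
    have hdi : d * ⟨Matrix.diagonal fun i => (g.1 i i)⁻¹, by
        rw [Matrix.det_diagonal, Finset.prod_inv_distrib, hdet, inv_one]⟩ = 1 := by
      refine Subtype.ext ?_
      show Matrix.diagonal _ * Matrix.diagonal _ = _
      rw [Matrix.diagonal_mul_diagonal]
      exact (congrArg Matrix.diagonal (funext fun i => mul_inv_cancel₀ (hdiag i))).trans Matrix.diagonal_one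
    have hdu : d⁻¹ * g ∈ U := by
      rw [inv_eq_of_mul_eq_one_right hdi, mem_iff]
      refine ⟨fun x y hxy => ?_, fun i => ?_⟩
      · show ((Matrix.diagonal fun i => (g.1 i i)⁻¹) * g.1) x y = 0
        rw [Matrix.diagonal_mul, hup x y hxy, mul_zero]
      · show ((Matrix.diagonal fun i => (g.1 i i)⁻¹) * g.1) i i = 1
        rw [Matrix.diagonal_mul]
        exact inv_mul_cancel₀ (hdiag i)
    have hgJ : g ∈ J := by
      rw [show g = d * (d⁻¹ * g) by group]
      exact mul_mem (diagonal_mem hJd fun x y hxy => Matrix.diagonal_apply_ne _ hxy) (hJU _ hdu)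
    obtain ⟨⟨y, hy⟩, hyJ, hye⟩ := hgJ
    have hye' : y = π g := hye
    subst hye'
    exact hyJ

/-- For a finite field K of characteristic p and n ≥ 3, the p-fusion system of the projective special linear group PSL_n(K) on a Sylow p-subgroup is simple. -/
theorem result {K : Type*} [Field K] [Fintype K] (p : ℕ) [Fact p.Prime] [CharP K p] (n : ℕ) (hn : 3 ≤ n) (S : Sylow p (Matrix.ProjectiveSpecialLinearGroup (Fin n) K)) : (Cfsg.groupFusionSystem (S : Subgroup (Matrix.ProjectiveSpecialLinearGroup (Fin n) K))).IsSimple p := by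
  have hmk : Function.Surjective
      (QuotientGroup.mk' (Subgroup.center (Matrix.SpecialLinearGroup (Fin n) K))) :=
    QuotientGroup.mk'_surjective _
  obtain ⟨g, hg⟩ := MulAction.exists_smul_eq (Matrix.ProjectiveSpecialLinearGroup (Fin n) K)
    ((Cfsg.Agent.Linear.unitriSylowSL n K p).mapSurjective hmk) S
  refine main hn ((MulAut.conj g).toMonoidHom.comp
    (QuotientGroup.mk' (Subgroup.center (Matrix.SpecialLinearGroup (Fin n) K))))
    ((MulAut.conj g).surjective.comp hmk) ?_ S ?_
  · intro z hz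
    rw [MonoidHom.mem_ker, MonoidHom.comp_apply, MulEquiv.coe_toMonoidHom] at hz
    exact (QuotientGroup.eq_one_iff z).1 ((map_eq_one_iff _ (MulAut.conj g).injective).1 hz)
  · rw [← hg, Sylow.coe_subgroup_smul, ← Subgroup.map_map]
    rfl

end Cfsg.Agent.S5163
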