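import Cfsg.Statements.S5164
import Mathlib

set_option autoImplicit false
open Cfsg

namespace Cfsg.Agent.S5164

open Equiv

variable (p : ℕ) [Fact p.Prime]

/-- The affine maps `(x, y) ↦ (x + a, y + b x + c)`. -/
def aff (a b c : ZMod p) : Perm (ZMod p × ZMod p) where
  toFun v := (v.1 + a, v.2 + b * v.1 + c)
  invFun v := (v.1 - a, v.2 - b * (v.1 - a) - c)
  left_inv v := by ext <;> simp <;> ring
  right_inv v := by ext <;> simp <;> ring

/-- The group of these maps. -/
def affGroup : Subgroup (Perm (ZMod p × ZMod p)) where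
  carrier := {e | ∃ a b c, e = aff p a b c}
  one_mem' := ⟨0, 0, 0, by ext v <;> simp [aff]⟩
  mul_mem' := by
    rintro _ _ ⟨a, b, c, rfl⟩ ⟨a', b', c', rfl⟩
    exact ⟨a' + a, b + b', b * a' + c' + c, by ext v <;> simp [aff] <;> ring⟩
  inv_mem' := by
    rintro _ ⟨a, b, c, rfl⟩
    refine ⟨-a, -b, b * a - c, ?_⟩
    rw [inv_eq_iff_mul_eq_one]
    ext v <;> simp [aff] <;> ring

lemma affGroup_isPGroup : IsPGroup p (affGroup p) := by
  let f : ZMod p × ZMod p × ZMod p → affGroup p := fun t => ⟨aff p t.1 t.2.1 t.2.2, _, _, _, rfl⟩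
  have hf : Function.Bijective f := by
    constructor
    · rintro ⟨a, b, c⟩ ⟨a', b', c'⟩ h
      have h' : aff p a b c = aff p a' b' c' := congrArg Subtype.val h
      have h0 := Equiv.congr_fun h' (0, 0)
      have h1 := Equiv.congr_fun h' (1, 0)
      simp [aff] at h0 h1
      obtain ⟨rfl, rfl⟩ := h0
      simpa using h1
    · rintro ⟨_, a, b, c, rfl⟩
      exact ⟨(a, b, c), rfl⟩
  refine IsPGroup.of_card (n := 3) ?_
  rw [← Nat.card_eq_of_bijective f hf, Nat.card_prod, Nat.card_prod, Nat.card_zmod]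
  ring

/-- Signs as permutations of two points. -/
def sgnTwo : ℤˣ →* Perm (Fin 2) where
  toFun u := if u = 1 then 1 else Equiv.swap 0 1
  map_one' := by simp
  map_mul' := by decide

lemma sign_sgnTwo : ∀ u : ℤˣ, Perm.sign (sgnTwo u) = u := by decide

variable {p}

lemma even_of_isPGroup_odd {G : Type*} [Group G] [Finite G] (hG : IsPGroup p G) (hp : p ≠ 2)
    (f : G →* ℤˣ) (g : G) : f g = 1 := by
  obtain ⟨k, hk⟩ := hG g
  have h := congrArg f hk
  rw [map_pow, map_one] at h
  rcases Int.units_eq_one_or (f g) with h1 | h1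
  · exact h1
  · rw [h1, Odd.neg_one_pow (((Fact.out : p.Prime).odd_of_ne_two hp).pow)] at h
    exact absurd h (by decide)

lemma sign_via {α β : Type*} [Fintype α] [DecidableEq α] [Fintype β] [DecidableEq β] (e : α ↪ β)
    (σ : Perm α) : Perm.sign (Perm.viaEmbeddingHom e σ) = Perm.sign σ := by
  classical
  rw [Perm.viaEmbeddingHom_apply, Perm.viaEmbedding]
  convert Perm.sign_extendDomain σ (Equiv.ofInjective e.1 e.2)

/-- A non-abelian `p`-subgroup of the alternating group. -/
lemma exists_nonabelian (n : ℕ) (h6 : 6 ≤ n) (hn : p ^ 2 ≤ n) :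
    ∃ H : Subgroup (alternatingGroup (Fin n)), IsPGroup p H ∧ ¬ IsMulCommutative H := by
  classical
  have hnc : aff p 1 0 0 * aff p 0 1 0 ≠ aff p 0 1 0 * aff p 1 0 0 := fun h => by
    have := Equiv.congr_fun h (0, 0)
    simp [aff] at this
  suffices ∃ f : affGroup p →* Perm (Fin n), Function.Injective f ∧ ∀ g, Perm.sign (f g) = 1 by
    obtain ⟨f, hfi, hfe⟩ := this
    let f' := f.codRestrict (alternatingGroup (Fin n)) fun g => Equiv.Perm.mem_alternatingGroup.mpr (hfe g)
    refine ⟨f'.range, IsPGroup.of_surjective (affGroup_isPGroup p) f'.rangeRestrict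
      f'.rangeRestrict_surjective, fun hc => hnc ?_⟩
    have := hc.is_comm.comm ⟨_, ⟨⟨aff p 1 0 0, _, _, _, rfl⟩, rfl⟩⟩ ⟨_, ⟨⟨aff p 0 1 0, _, _, _, rfl⟩, rfl⟩⟩
    have h2 := congrArg (fun z : f'.range => ((z : alternatingGroup (Fin n)) : Perm (Fin n))) this
    simp only [Subgroup.coe_mul] at h2
    have h3 := hfi (a₁ := ⟨aff p 1 0 0, _, _, _, rfl⟩ * ⟨aff p 0 1 0, _, _, _, rfl⟩)
      (a₂ := ⟨aff p 0 1 0, _, _, _, rfl⟩ * ⟨aff p 1 0 0, _, _, _, rfl⟩)
      (by rw [map_mul, map_mul]; exact h2)
    exact congrArg Subtype.val h3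
  by_cases hp : p = 2
  · have hcard : Fintype.card ((ZMod p × ZMod p) ⊕ Fin 2) ≤ Fintype.card (Fin n) := by
      rw [Fintype.card_sum, Fintype.card_prod, ZMod.card, Fintype.card_fin, Fintype.card_fin]
      subst hp; omega
    obtain ⟨e⟩ := Function.Embedding.nonempty_of_card_le hcard
    let f0 : affGroup p →* Perm ((ZMod p × ZMod p) ⊕ Fin 2) :=
      (Perm.sumCongrHom _ _).comp ((affGroup p).subtype.prod
        (sgnTwo.comp (Perm.sign.comp (affGroup p).subtype)))
    refine ⟨(Perm.viaEmbeddingHom e).comp f0, (Perm.viaEmbeddingHom_injective e).comp ?_, fun g => ?_⟩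
    · intro g g' h
      have := Perm.sumCongrHom_injective h
      exact Subtype.ext (congrArg Prod.fst this)
    · rw [MonoidHom.comp_apply]
      rw [sign_via]
      show Perm.sign (Perm.sumCongr (g : Perm (ZMod p × ZMod p))
        (sgnTwo (Perm.sign (g : Perm (ZMod p × ZMod p))))) = 1
      rw [Perm.sign_sumCongr, sign_sgnTwo, Int.units_mul_self]
  · have hcard : Fintype.card (ZMod p × ZMod p) ≤ Fintype.card (Fin n) := by
      rw [Fintype.card_prod, ZMod.card, Fintype.card_fin, ← sq]; exact hn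
    obtain ⟨e⟩ := Function.Embedding.nonempty_of_card_le hcard
    refine ⟨(Perm.viaEmbeddingHom e).comp (affGroup p).subtype,
      (Perm.viaEmbeddingHom_injective e).comp Subtype.val_injective, fun g => ?_⟩
    exact even_of_isPGroup_odd (affGroup_isPGroup p) hp
      (Perm.sign.comp ((Perm.viaEmbeddingHom e).comp (affGroup p).subtype)) g

/-- For `n < p²` an abelian subgroup of the order of a Sylow `p`-subgroup. -/
lemma exists_abelian_sylow (n : ℕ) (h6 : 6 ≤ n) (hn : n < p ^ 2) :
    ∃ P : Sylow p (alternatingGroup (Fin n)), IsMulCommutative (P : Subgroup (alternatingGroup (Fin n))) := by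
  classical
  have hp : p.Prime := Fact.out
  have hp2 : p ≠ 2 := fun h => by subst h; omega
  set k := n / p with hk
  have hkp : k < p := (Nat.div_lt_iff_lt_mul hp.pos).mpr (by rwa [← sq])
  have hcard : Fintype.card (Fin k × ZMod p) ≤ Fintype.card (Fin n) := by
    rw [Fintype.card_prod, ZMod.card, Fintype.card_fin, Fintype.card_fin]
    exact Nat.div_mul_le_self n p
  obtain ⟨e⟩ := Function.Embedding.nonempty_of_card_le hcard
  let g0 : Multiplicative (Fin k → ZMod p) →* Perm (Fin k × ZMod p) :=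
    { toFun := fun a => Equiv.prodShear (Equiv.refl _) fun i => Equiv.addLeft (a.toAdd i)
      map_one' := by ext v <;> simp
      map_mul' := fun a b => by ext v <;> simp [add_assoc] }
  have hg0 : Function.Injective g0 := fun a b h => by
    refine Multiplicative.toAdd.injective (funext fun i => ?_)
    have := congrArg Prod.snd (Equiv.congr_fun h (i, 0))
    simpa [g0] using this
  have hM : IsPGroup p (Multiplicative (Fin k → ZMod p)) := by
    refine IsPGroup.of_card (n := k) ?_
    rw [Nat.card_congr Multiplicative.toAdd, Nat.card_fun, Nat.card_zmod, Nat.card_fin]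
  let g1 := ((Perm.viaEmbeddingHom e).comp g0).codRestrict (alternatingGroup (Fin n))
    fun a => Equiv.Perm.mem_alternatingGroup.mpr
      (even_of_isPGroup_odd hM hp2 (Perm.sign.comp ((Perm.viaEmbeddingHom e).comp g0)) a)
  have hg1 : Function.Injective g1 := fun a b h =>
    hg0 (Perm.viaEmbeddingHom_injective e (congrArg Subtype.val h))
  have hc : Nat.card g1.range = p ^ (Nat.card (alternatingGroup (Fin n))).factorization p := by
    rw [← Nat.card_congr (MonoidHom.ofInjective hg1).toEquiv, Nat.card_congr Multiplicative.toAdd,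
      Nat.card_fun, Nat.card_zmod, Nat.card_fin]
    congr 1
    haveI : Nontrivial (Fin n) := Fin.nontrivial_iff_two_le.mpr (by omega)
    have h2 : 2 * Nat.card (alternatingGroup (Fin n)) = n.factorial := by
      rw [Nat.card_eq_fintype_card, two_mul_card_alternatingGroup, Fintype.card_perm, Fintype.card_fin]
    have h3 : padicValNat p n.factorial = k := by
      conv_lhs => rw [← Nat.div_add_mod n p]
      rw [padicValNat_factorial_mul_add _ (Nat.mod_lt _ hp.pos), padicValNat_factorial_mul,
        ← hk, padicValNat.eq_zero_of_not_dvd fun h => absurd ((hp.dvd_factorial).mp h) (by omega),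
        zero_add]
    rw [← h2, padicValNat.mul (by norm_num) Nat.card_pos.ne',
      padicValNat.eq_zero_of_not_dvd fun h => hp2 ((Nat.prime_dvd_prime_iff_eq hp Nat.prime_two).mp h),
      zero_add] at h3
    rw [Nat.factorization_def _ hp, h3]
  refine ⟨Sylow.ofCard g1.range hc, ⟨⟨fun x y => ?_⟩⟩⟩
  obtain ⟨_, a, rfl⟩ := x
  obtain ⟨_, b, rfl⟩ := y
  exact Subtype.ext (by
    show g1 a * g1 b = g1 b * g1 a
    rw [← map_mul, ← map_mul, mul_comm])

/-- For n ≥ 6 and a prime p, a nontrivial Sylow p-subgroup of the alternating group of degree n is abelian if and only if n < p². -/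
theorem result (n p : ℕ) (hn : 6 ≤ n) [Fact p.Prime] (S : Sylow p (alternatingGroup (Fin n))) (hS : (S : Subgroup (alternatingGroup (Fin n))) ≠ ⊥) : IsMulCommutative S ↔ n < p ^ 2 := by
  constructor
  · intro hc
    by_contra hle
    obtain ⟨H, hH, hnc⟩ := exists_nonabelian (p := p) n hn (by omega)
    obtain ⟨Q, hQ⟩ := hH.exists_le_sylow
    apply hnc
    haveI : IsMulCommutative (Q : Subgroup (alternatingGroup (Fin n))) := by
      obtain ⟨e⟩ : Nonempty ((S : Subgroup (alternatingGroup (Fin n))) ≃* Q) := ⟨S.equiv Q⟩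
      exact ⟨⟨fun x y => e.symm.injective (by rw [map_mul, map_mul]; exact hc.is_comm.comm _ _)⟩⟩
    exact ⟨⟨fun x y => Subtype.ext (congrArg (fun z : (Q : Subgroup (alternatingGroup (Fin n))) => (z : alternatingGroup (Fin n)))
      (IsMulCommutative.is_comm.comm (⟨x.1, hQ x.2⟩ : (Q : Subgroup (alternatingGroup (Fin n)))) ⟨y.1, hQ y.2⟩))⟩⟩
  · intro hlt
    obtain ⟨Q, hQ⟩ := exists_abelian_sylow n hn hlt
    exact ⟨⟨fun x y => (S.equiv Q).injective (by rw [map_mul, map_mul]; exact hQ.is_comm.comm _ _)⟩⟩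

end Cfsg.Agent.S5164
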