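import Cfsg.Statements.S5165
import Cfsg.Agent.H89.AltMain
import Cfsg.Agent.H52.PairModel

set_option autoImplicit false
open Cfsg

namespace Cfsg.Agent.S5165

/-- For n ≥ 6, a prime p with p² ≤ n, and n congruent to 0 or 1 modulo p, the p-fusion system of the alternating group of degree n on a Sylow p-subgroup is simple. -/
theorem result (n p : ℕ) (hn : 6 ≤ n) [Fact p.Prime] (hnp : p ^ 2 ≤ n) (hb : n % p ≤ 1) (S : Sylow p (alternatingGroup (Fin n))) : (Cfsg.groupFusionSystem (S : Subgroup (alternatingGroup (Fin n)))).IsSimple p := by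
  classical
  have hp2 := (Fact.out : p.Prime).two_le
  have hp4 : p + 2 ≤ n := le_trans (by nlinarith) hnp
  have hinj := (alternatingGroup (Fin n)).subtype_injective
  have hcard : p + 2 ≤ Fintype.card (Fin n) := by rwa [Fintype.card_fin]
  have hS1 : (S : Subgroup (alternatingGroup (Fin n))) ≠ ⊥ := by
    haveI : Nontrivial (Fin n) := Fin.nontrivial_iff_two_le.2 (by omega)
    refine Sylow.ne_bot_of_dvd_card S ?_
    have h2 : 2 * Nat.card (alternatingGroup (Fin n)) = n.factorial := by
      rw [two_mul_nat_card_alternatingGroup, Nat.card_perm, Nat.card_eq_fintype_card, Fintype.card_fin]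
    by_cases hp : p = 2
    · subst hp
      have h4 : 2 * 2 ∣ n.factorial := dvd_trans (by decide : 2 * 2 ∣ Nat.factorial 4)
        (Nat.factorial_dvd_factorial (by omega))
      rw [← h2] at h4
      exact Nat.dvd_of_mul_dvd_mul_left two_pos h4
    · have hd : p ∣ n.factorial := (Nat.Prime.dvd_factorial Fact.out).2 (by omega)
      rw [← h2] at hd
      exact ((Fact.out : p.Prime).dvd_mul.1 hd).resolve_left
        fun h => hp ((Nat.prime_dvd_prime_iff_eq Fact.out Nat.prime_two).1 h)
  refine Cfsg.Agent.H89.isSimple_of_auts S hS1 (fun T hT => ?_) (fun E hE hsat g hg => ?_)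
  · by_cases hne : T = ⊥
    · exact Or.inl hne
    · exact Or.inr (Cfsg.Agent.H89.AltClosed.eq_sylow hinj (Subgroup.range_subtype _)
        (fun x hx g hg => Cfsg.Agent.H89.mem_of_conj_mem hT hx hg) hcard hT.1 hne)
  by_cases hp : p = 2
  · subst hp
    exact Cfsg.Agent.FusionSys.isMap_conj E le_rfl (Cfsg.Agent.H52.selfNorm_alternating n hn S hg)
  obtain ⟨r, hr⟩ := Nat.exists_eq_add_of_le
    ((Nat.le_div_iff_mul_le (Fact.out : p.Prime).pos).2 (sq p ▸ hnp))
  haveI : Subsingleton (Fin (n % p)) := Fin.subsingleton_iff_le_one.2 hb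
  let e : ((ZMod p ⊕ Fin r) × ZMod p) ⊕ Fin (n % p) ≃ Fin n := Fintype.equivFinOfCardEq (by
    rw [Fintype.card_sum, Fintype.card_prod, Fintype.card_sum, ZMod.card, Fintype.card_fin,
      Fintype.card_fin, ← hr, mul_comm]
    exact Nat.div_add_mod n p)
  refine Cfsg.Agent.H89.AltMain.isMap_conj_sylow_all hp
    ((Equiv.permCongrHom e.symm).toMonoidHom.comp (alternatingGroup (Fin n)).subtype)
    ((Equiv.permCongrHom e.symm).injective.comp hinj) ?_ S hE hsat hg
  ext x
  rw [MonoidHom.mem_range, Equiv.Perm.mem_alternatingGroup]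
  constructor
  · rintro ⟨y, rfl⟩
    simp only [MonoidHom.comp_apply, MulEquiv.coe_toMonoidHom, Equiv.permCongrHom_coe,
      Equiv.Perm.sign_permCongr]
    exact Equiv.Perm.mem_alternatingGroup.1 y.2
  · intro hx
    refine ⟨⟨e.permCongr x, ?_⟩, ?_⟩
    · rw [Equiv.Perm.mem_alternatingGroup, Equiv.Perm.sign_permCongr]
      exact hx
    · ext z
      simp

end Cfsg.Agent.S5165
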