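import Cfsg.Statements.S5169
import Cfsg.Agent.H89.MathieuTwo

set_option autoImplicit false
open Cfsg

namespace Cfsg.Agent.S5169

theorem check : H89.MathieuTwo.checkAll [] (0 ||| 2 ^ 23) H89.MathieuTwo.m23Pc H89.MathieuTwo.m23Z
    H89.MathieuTwo.m23Fus H89.MathieuTwo.m23Words H89.MathieuTwo.m23Inv
    H89.MathieuTwo.m23Norm = true := by
  decide +kernel

/-- The 2-fusion system of the Mathieu group M₂₃ (as the explicit permutation group carved out of the automorphism group of the binary Golay code) on a Sylow 2-subgroup is simple: saturated, over a nontrivial 2-group, with no normal subsystem other than the trivial one and itself. -/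
theorem result (S : Sylow 2 Cfsg.Spor.M23) : (Cfsg.groupFusionSystem (S : Subgroup Cfsg.Spor.M23)).IsSimple 2 := by
  refine H89.MathieuTwo.isSimple_of_checkAll check Golay.spor_M23_eq (n := 79695) (by norm_num) ?_ (by decide +kernel) S
  rw [Golay.card_spor_M23]
  rfl

end Cfsg.Agent.S5169
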