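import Cfsg.Statements.S5172
import Cfsg.Agent.H89.SUMain

set_option autoImplicit false
open Cfsg

namespace Cfsg.Agent.S5172

/-- For a finite field K with q² elements of characteristic p and n ≥ 4, the p-fusion system of the projective special unitary group PSU_n(q) (realised over K) on a Sylow p-subgroup is simple. -/
theorem result {K : Type*} [Field K] [Fintype K] (p q : ℕ) [Fact p.Prime] [CharP K p] (hK : Fintype.card K = q ^ 2) (n : ℕ) (hn : 4 ≤ n) (S : Sylow p (Cfsg.PSU n K q)) : (Cfsg.groupFusionSystem (S : Subgroup (Cfsg.PSU n K q))).IsSimple p := by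
  classical
  haveI : Finite (Cfsg.SU n K q) := inferInstance
  set π := QuotientGroup.mk' (Subgroup.center (Cfsg.SU n K q))
  have hπ : Function.Surjective π := QuotientGroup.mk'_surjective _
  obtain ⟨P0⟩ : Nonempty (Sylow p (Cfsg.SU n K q)) := inferInstance
  obtain ⟨c, hc⟩ := MulAction.exists_smul_eq (Cfsg.PSU n K q) (P0.mapSurjective hπ) S
  obtain ⟨c', rfl⟩ := hπ c
  refine Cfsg.Agent.H89.SUSylow.isSimple_of_central_quotient hK hn π hπ ?_ (c' • P0) S ?_
  · rw [QuotientGroup.ker_mk']
  · rw [← hc, Sylow.coe_subgroup_smul, Sylow.coe_subgroup_smul, Sylow.coe_mapSurjective]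
    ext x
    simp only [Subgroup.mem_pointwise_smul_iff_inv_smul_mem, Subgroup.mem_map, MulAut.smul_def,
      MulAut.inv_apply, MulAut.conj_symm_apply]
    constructor
    · rintro ⟨y, hy, hye⟩
      refine ⟨c' * y * c'⁻¹, by simpa [mul_assoc] using hy, ?_⟩
      rw [map_mul, map_mul, map_inv, hye]
      group
    · rintro ⟨y, hy, rfl⟩
      exact ⟨c'⁻¹ * y * c', hy, by simp [map_mul, map_inv]⟩

end Cfsg.Agent.S5172
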