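import Cfsg.Statements.S5181
import Cfsg.Agent.H91.Rank3.Glue

set_option autoImplicit false
universe u
open Cfsg

namespace Cfsg.Agent.S5181

/-- Let p be an odd prime, S a finite p-group of sectional p-rank exactly 3, and F a saturated fusion system over S whose largest subgroup normal in F is trivial. Then either S is isomorphic to a Sylow p-subgroup of Sp(4,p), or some essential subgroup of F is not normal in S. -/
theorem result {Ω : Type u} [Group Ω] {S : Subgroup Ω} [Finite S] (p : ℕ) [Fact p.Prime] (hp : Odd p) (hS : IsPGroup p S) (hsr : Cfsg.SectionalPRankLE p 3 ↥S ∧ ¬ Cfsg.SectionalPRankLE p 2 ↥S)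
    (F : Cfsg.FusionSystem S) (hF : F.IsSaturated p) (hO : F.core = ⊥) :
    (∃ P : Sylow p ↥(Matrix.symplecticGroup (Fin 2) (ZMod p)),
        Nonempty (↥S ≃* ↥(P : Subgroup ↥(Matrix.symplecticGroup (Fin 2) (ZMod p))))) ∨
      ∃ E : Subgroup Ω, F.IsEssential p E ∧ ¬ S ≤ Subgroup.normalizer (E : Set Ω) := by
  classical
  by_cases hall : ∀ E, F.IsEssential p E → S ≤ Subgroup.normalizer (E : Set Ω)
  swap
  · push Not at hall
    exact Or.inr hall
  have hp2 : p ≠ 2 := fun h => absurd (h ▸ hp) (by decide)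
  obtain ⟨Φ, hΓ, hEss, hG⟩ := Agent.H91.Rank3.exists_fam (F := F) (fun _ => True) (fun _ _ _ _ => trivial)
    hS hp2 hsr.1 hF
  rcases Agent.H91.Rank3.Fam.main Φ hsr.2 with ⟨E1, E2, -, -, h⟩ | ⟨Q, hQ⟩
  · exact Or.inl h.1
  · exact (Agent.H91.Rank3.no_common hS hsr.1 hF hO hall hΓ (fun E hE => (hEss E).2 ⟨trivial, hE⟩) hG hQ).elim

end Cfsg.Agent.S5181
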