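import Cfsg.Statements.S5185
import Cfsg.Agent.H49.RankTwoAut
-- import your own Cfsg.Agent.* helpers here

set_option autoImplicit false
set_option linter.style.haveILetI false
universe u
open Cfsg

namespace Cfsg.Agent.S5185

/-- Let F be a saturated fusion system over a finite p-group S and H an essential subgroup of order p². Then H is elementary abelian (isomorphic to C_p × C_p) and its F-automorphism group contains a subgroup isomorphic to SL(2,p). -/
theorem result {Ω : Type u} [Group Ω] {S : Subgroup Ω} [Finite S] (p : ℕ) [Fact p.Prime] (hS : IsPGroup p S)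
    (F : Cfsg.FusionSystem S) (hF : F.IsSaturated p) (H : Subgroup Ω) (hH : F.IsEssential p H) (hcard : Nat.card H = p ^ 2) :
    Cfsg.IsElementaryAbelian p H ∧
      ∃ K : Subgroup ↥(F.autGroup H), Nonempty (↥K ≃* Matrix.SpecialLinearGroup (Fin 2) (ZMod p)) := by
  have hp := Fact.out (p := p.Prime)
  obtain ⟨hcen, -, hN, E, hE⟩ := hH
  haveI : Finite H := Finite.of_injective _ (Subgroup.inclusion_injective hcen.1)
  haveI : IsMulCommutative H := IsPGroup.isMulCommutative_of_card_eq_prime_sq hcard
  haveI : Finite (MulAut H) :=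
    Finite.of_injective (fun a : MulAut H => ((a : H ≃* H) : H → H)) DFunLike.coe_injective
  obtain ⟨Q, Q', hQ⟩ := H49.exists_two_sylow E hE
  obtain ⟨P, rfl⟩ := Sylow.mapSurjective_surjective
    (QuotientGroup.mk'_surjective ((Inn H).subgroupOf (F.autGroup H))) p Q
  obtain ⟨P', rfl⟩ := Sylow.mapSurjective_surjective
    (QuotientGroup.mk'_surjective ((Inn H).subgroupOf (F.autGroup H))) p Q'
  have hPP : P ≠ P' := fun h => hQ (by rw [h])
  have hexp : ∀ a : H, a ^ p = 1 := by
    intro a
    by_contra hne
    obtain ⟨k, hk, hak⟩ := (Nat.dvd_prime_pow hp).1 (hcard ▸ orderOf_dvd_natCard a)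
    have hk2 : k = 2 := by
      by_contra h2
      apply hne
      rw [← orderOf_dvd_iff_pow_eq_one, hak]
      exact (pow_dvd_pow p (by omega : k ≤ 1)).trans (by rw [pow_one])
    haveI : IsCyclic H := isCyclic_of_orderOf_eq_card a (by rw [hak, hk2, hcard])
    haveI : (P : Subgroup (F.autGroup H)).Normal := ⟨fun x hx g => by
      have : g * x * g⁻¹ = x := by
        refine Subtype.ext ?_
        show (g : MulAut H) * (x : MulAut H) * (g : MulAut H)⁻¹ = x
        rw [mul_inv_eq_iff_eq_mul]
        refine (IsCyclic.mulAutMulEquiv H).injective ?_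
        rw [map_mul, map_mul, mul_comm]
      rwa [this]⟩
    haveI := P.unique_of_normal this
    exact hPP (Subsingleton.elim P P')
  refine ⟨⟨inferInstance, fun a ha => congrArg Subtype.val (hexp ⟨a, ha⟩)⟩, ?_⟩
  exact H49.exists_SL2_of_two_sylow hcard hexp _ P P' hPP

end Cfsg.Agent.S5185
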