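import Cfsg.Statements.S5186
import Cfsg.Agent.H49.RankTwoFusion
-- import your own Cfsg.Agent.* helpers here

set_option autoImplicit false
universe u
open Cfsg

namespace Cfsg.Agent.S5186

/-- Let F be a saturated fusion system over a finite p-group S and H an essential subgroup of order p³. Then H is elementary abelian, or p is odd and H is extraspecial of exponent p, or p = 2 and H is the quaternion group of order 8. -/
theorem result {Ω : Type u} [Group Ω] {S : Subgroup Ω} [Finite S] (p : ℕ) [Fact p.Prime] (hS : IsPGroup p S)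
    (F : Cfsg.FusionSystem S) (hF : F.IsSaturated p) (H : Subgroup Ω) (hH : F.IsEssential p H) (hcard : Nat.card H = p ^ 3) :
    Cfsg.IsElementaryAbelian p H ∨ (Odd p ∧ Cfsg.IsExtraspecial p ↥H ∧ ∀ x ∈ H, x ^ p = 1) ∨
      (p = 2 ∧ Nonempty (↥H ≃* QuaternionGroup 2)) := by
  obtain ⟨⟨P, P', hne⟩, -⟩ := H49.essential_data hH
  haveI : Finite H := Finite.of_injective _ (Subgroup.inclusion_injective hH.1.1)
  have hHp : IsPGroup p H := hS.of_injective _ (Subgroup.inclusion_injective hH.1.1)
  have hp := Fact.out (p := p.Prime)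
  by_cases hab : IsMulCommutative H
  · letI : CommGroup H := { (inferInstance : Group H) with mul_comm := hab.is_comm.comm }
    refine Or.inl ⟨hab, ?_⟩
    have hi : p ^ 2 < (frattini H).index := by
      by_contra hle
      obtain ⟨k, -, hk, -⟩ := H49.homocyclic_of_two_sylow hHp (F.autGroup H) P P' hne (not_lt.1 hle)
      rw [hcard, ← pow_mul] at hk
      have := Nat.pow_right_injective hp.two_le hk
      omega
    have hbot : frattini H = ⊥ := by
      obtain ⟨r, hr⟩ := hHp.index (H := frattini H)
      have h := (frattini H).card_mul_index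
      rw [hr] at hi h
      have hr3 : 3 ≤ r := (Nat.pow_lt_pow_iff_right hp.one_lt).1 hi
      rw [Subgroup.eq_bot_iff_card]
      refine le_antisymm ?_ Nat.card_pos
      by_contra h1
      have : p ^ 3 < Nat.card (frattini H) * p ^ r :=
        lt_of_le_of_lt (Nat.pow_le_pow_right hp.pos hr3)
          (lt_mul_of_one_lt_left (pow_pos hp.pos r) (not_le.1 h1))
      rw [h, hcard] at this
      exact lt_irrefl _ this
    intro a ha
    have h := PGroups.pow_mem_frattini hHp (⟨a, ha⟩ : H)
    rw [hbot, Subgroup.mem_bot] at h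
    exact congrArg Subtype.val h
  · rcases H49.order_cube hcard hab (F.autGroup H) P P' hne with ⟨h1, h2, h3⟩ | h
    · exact Or.inr (Or.inl ⟨h1, h2, fun a ha => congrArg Subtype.val (h3 ⟨a, ha⟩)⟩)
    · exact Or.inr (Or.inr h)

end Cfsg.Agent.S5186
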