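import Cfsg.Statements.S5187
import Cfsg.Agent.H49.RankTwoFusion
-- import your own Cfsg.Agent.* helpers here

set_option autoImplicit false
universe u
open Cfsg

namespace Cfsg.Agent.S5187

/-- Let F be a saturated fusion system over a finite p-group S and H an abelian essential subgroup that can be generated by two elements (its Frattini quotient has order at most p²). Then H is elementary abelian of order p², or p ≤ 3 and H is homocyclic of rank two, that is isomorphic to C_{pᵏ} × C_{pᵏ} for some k. -/
theorem result {Ω : Type u} [Group Ω] {S : Subgroup Ω} [Finite S] (p : ℕ) [Fact p.Prime] (hS : IsPGroup p S)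
    (F : Cfsg.FusionSystem S) (hF : F.IsSaturated p) (H : Subgroup Ω) (hH : F.IsEssential p H) (hab : IsMulCommutative ↥H) (hrk : (frattini ↥H).index ≤ p ^ 2) :
    (Cfsg.IsElementaryAbelian p H ∧ Nat.card H = p ^ 2) ∨
      (p ≤ 3 ∧ ∃ k : ℕ, Nonempty (↥H ≃* Multiplicative (ZMod (p ^ k) × ZMod (p ^ k)))) := by
  obtain ⟨⟨P, P', hne⟩, hcore⟩ := H49.essential_data hH
  haveI : Finite H := Finite.of_injective _ (Subgroup.inclusion_injective hH.1.1)
  letI : CommGroup H := { (inferInstance : Group H) with mul_comm := hab.is_comm.comm }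
  have hHp : IsPGroup p H := hS.of_injective _ (Subgroup.inclusion_injective hH.1.1)
  have hcore' : ∀ N : Subgroup (F.autGroup H), N.Normal → IsPGroup p N → N = ⊥ := fun N hn hNp => by
    have h := hcore N hn hNp
    rwa [H49.inn_eq_bot (G := H) (fun a b => mul_comm a b), Subgroup.bot_subgroupOf, le_bot_iff] at h
  obtain ⟨k, hk1, hcard, he, hall, hexp1, h5⟩ :=
    H49.homocyclic_of_two_sylow hHp (F.autGroup H) P P' hne hrk
  by_cases hexp : ∀ x : H, x ^ p = 1
  · refine Or.inl ⟨⟨hab, fun a ha => congrArg Subtype.val (hexp ⟨a, ha⟩)⟩, ?_⟩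
    rw [hcard, hexp1 hexp, pow_one]
  · refine Or.inr ⟨?_, k, he⟩
    by_contra h
    have hp := Fact.out (p := p.Prime)
    refine hexp (h5 ?_ hcore')
    by_contra h'
    have h4 : p = 4 := by omega
    rw [h4] at hp
    norm_num at hp

end Cfsg.Agent.S5187
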