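import Cfsg.Statements.S5188
import Cfsg.Agent.H49.OrderFourth
-- import your own Cfsg.Agent.* helpers here

set_option autoImplicit false
universe u
open Cfsg

namespace Cfsg.Agent.S5188

/-- Let F be a saturated fusion system over a finite p-group S and H an essential subgroup of order p⁴. Then H is isomorphic to one of: C_p⁴ or C_{p²} × C_p × C_p (any p); C_{p²} × C_{p²} with p ∈ {2, 3}; p^{1+2}_+ × C_p with p odd (the direct product of an extraspecial group of order p³ and exponent p with a group of order p); Q₈ × C₂ (p = 2); or the non-abelian group of order p⁴ of exponent p² whose centre is cyclic of order p² (the central product of an extraspecial group of order p³ with a cyclic group of order p²; for p = 2 this is D₈ ∘ C₄). -/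
theorem result {Ω : Type u} [Group Ω] {S : Subgroup Ω} [Finite S] (p : ℕ) [Fact p.Prime] (hS : IsPGroup p S)
    (F : Cfsg.FusionSystem S) (hF : F.IsSaturated p) (H : Subgroup Ω) (hH : F.IsEssential p H) (hcard : Nat.card H = p ^ 4) :
    Cfsg.IsElementaryAbelian p H ∨
      Nonempty (↥H ≃* Multiplicative (ZMod (p ^ 2) × ZMod p × ZMod p)) ∨
      ((p = 2 ∨ p = 3) ∧ Nonempty (↥H ≃* Multiplicative (ZMod (p ^ 2) × ZMod (p ^ 2)))) ∨
      (Odd p ∧ ∃ (E : Type) (_ : Group E) (_ : Finite E), Cfsg.IsExtraspecial p E ∧ Nat.card E = p ^ 3 ∧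
        (∀ x : E, x ^ p = 1) ∧ Nonempty (↥H ≃* E × Multiplicative (ZMod p))) ∨
      (p = 2 ∧ Nonempty (↥H ≃* QuaternionGroup 2 × Multiplicative (ZMod 2))) ∨
      (¬ IsMulCommutative ↥H ∧ (∀ x ∈ H, x ^ (p ^ 2) = 1) ∧ IsCyclic ↥(Subgroup.center ↥H) ∧
        Nat.card (Subgroup.center ↥H) = p ^ 2) := by
  obtain ⟨⟨P, P', hne⟩, hcore⟩ := H49.essential_data hH
  haveI : Finite H := Finite.of_injective _ (Subgroup.inclusion_injective hH.1.1)
  by_cases hab : IsMulCommutative H
  · letI : CommGroup H := { (inferInstance : Group H) with mul_comm := hab.is_comm.comm }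
    have hcore' : ∀ N : Subgroup (F.autGroup H), N.Normal → IsPGroup p N → N = ⊥ := fun N hn hNp => by
      have h := hcore N hn hNp
      rwa [H49.inn_eq_bot (G := H) (fun a b => mul_comm a b), Subgroup.bot_subgroupOf, le_bot_iff] at h
    rcases H49.comm_order_fourth hcard (F.autGroup H) P P' hne hcore' with h | h | h
    · exact Or.inl ⟨hab, fun a ha => congrArg Subtype.val (h ⟨a, ha⟩)⟩
    · exact Or.inr (Or.inl h)
    · exact Or.inr (Or.inr (Or.inl h))
  · have hna : ¬ ∀ a b : H, a * b = b * a := fun h => hab ⟨⟨h⟩⟩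
    rcases H49.noncomm_order_fourth hcard hna (F.autGroup H) P P' hne with h | h | ⟨h1, h2, h3⟩
    · exact Or.inr (Or.inr (Or.inr (Or.inl h)))
    · exact Or.inr (Or.inr (Or.inr (Or.inr (Or.inl h))))
    · exact Or.inr (Or.inr (Or.inr (Or.inr (Or.inr
        ⟨hab, fun x hx => congrArg Subtype.val (h1 ⟨x, hx⟩), h2, h3⟩))))

end Cfsg.Agent.S5188
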