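import Cfsg.Statements.S5190
import Cfsg.Agent.S0665
import Cfsg.Agent.FusionSys.FreeFunctor
import Cfsg.Agent.FusionSys.SthreeFree

set_option autoImplicit false
universe u
open Cfsg

namespace Cfsg.Agent.S5190

/-- Let F be a saturated fusion system over a nontrivial finite p-group S that is Qd(p)-free: no model of the normalizer system of a fully normalized centric subgroup has a section isomorphic to Qd(p), the semidirect product of an elementary abelian group of order p² by SL(2,p) acting naturally. Then some nontrivial characteristic subgroup of S is normal in F. -/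
theorem result {Ω : Type u} [Group Ω] {S : Subgroup Ω} [Finite S] (p : ℕ) [Fact p.Prime] (hS : IsPGroup p S) (hS1 : S ≠ ⊥)
    (F : Cfsg.FusionSystem S) (hF : F.IsSaturated p)
    (hfree : ∀ Q : Subgroup Ω, F.IsCentric Q → F.IsFullyNormalized Q →
      ∀ E : Cfsg.FusionSystem (Cfsg.FusionSystem.normalizerIn S Q), F.IsNormalizerSystem Q E →
        ∀ (G : Type u) (_ : Group G) (ι : ↥(Cfsg.FusionSystem.normalizerIn S Q) →* G),
          E.IsModel p G ι → ¬ Cfsg.Involves ↥(Cfsg.qd p) G) :
    ∃ W : Subgroup Ω, W ≤ S ∧ W ≠ ⊥ ∧ (W.subgroupOf S).Characteristic ∧ F.IsNormal W := by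
  obtain ⟨K, hK⟩ : ∃ K, FusionSys.IsFreeFun p ↥(Cfsg.qd p) K :=
    FusionSys.exists_freeFun_qd p fun T _ _ _ hT => Cfsg.Agent.S0665.result hT
  haveI hSn : Nontrivial ↥S := (Subgroup.nontrivial_iff_ne_bot S).2 hS1
  refine ⟨(K ↥S).map S.subtype, Subgroup.map_subtype_le _, fun h => hK.ne_bot ↥S hS hSn
    ((Subgroup.map_eq_bot_iff_of_injective _ S.subtype_injective).1 h), ?_,
    FusionSys.isNormal_freeFun hK hS hF fun Q hn hc E hE L _ ι hm => hfree Q hc hn E hE L _ ι hm⟩
  have e : ((K ↥S).map S.subtype).subgroupOf S = K ↥S :=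
    Subgroup.comap_map_eq_self_of_injective S.subtype_injective _
  rw [e]
  exact Subgroup.characteristic_iff_map_eq.2 fun φ => hK.map ↥S ↥S φ

end Cfsg.Agent.S5190
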