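import Cfsg.Statements.S5191
import Cfsg.Agent.H89.SylowLift
-- import your own Cfsg.Agent.* helpers here

set_option autoImplicit false
open Cfsg

namespace Cfsg.Agent.S5191

/-- Fusion in a finite group G and in its quotient by O_{p'}(G) agree. Let S be a Sylow p-subgroup of G, N = O_{p'}(G) and P ≤ S. If an element of G/N conjugates the image of P into the image of S, then some element g of G conjugates P into S and induces the same map on P modulo N. (Together with the injectivity of S → G/N this says that g ↦ gN induces an isomorphism of the fusion system of G on S with that of G/N on SN/N.) -/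
theorem result {G : Type*} [Group G] [Finite G] {p : ℕ} [Fact p.Prime]
    [hN : (Cfsg.pPrimeCore p G).Normal] (S : Sylow p G) (P : Subgroup G) (hP : P ≤ (S : Subgroup G))
    (γ : G ⧸ Cfsg.pPrimeCore p G)
    (hγ : ∀ x ∈ P, γ * QuotientGroup.mk x * γ⁻¹ ∈ ((S : Subgroup G).map (QuotientGroup.mk' (Cfsg.pPrimeCore p G)))) :
    ∃ g : G, ∀ x ∈ P, g * x * g⁻¹ ∈ S ∧
      (QuotientGroup.mk (g * x * g⁻¹) : G ⧸ Cfsg.pPrimeCore p G) = γ * QuotientGroup.mk x * γ⁻¹ := by
  obtain ⟨g₀, rfl⟩ := QuotientGroup.mk'_surjective (Cfsg.pPrimeCore p G) γ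
  set Q : Subgroup G := P.map (MulAut.conj g₀).toMonoidHom
  have hQ : Q ≤ (S : Subgroup G) ⊔ Cfsg.pPrimeCore p G := by
    rintro _ ⟨x, hx, rfl⟩
    have h := hγ x hx
    have h' : g₀ * x * g₀⁻¹ ∈ ((S : Subgroup G).map (QuotientGroup.mk' (Cfsg.pPrimeCore p G))).comap
        (QuotientGroup.mk' (Cfsg.pPrimeCore p G)) := h
    rw [Subgroup.comap_map_eq, QuotientGroup.ker_mk'] at h'
    simpa [sup_comm] using h'
  have hQp : IsPGroup p Q := (S.2.to_le hP).map _
  obtain ⟨n, hn, hconj⟩ := Cfsg.Agent.H89.exists_normal_conj_into S (Cfsg.pPrimeCore p G) Q hQp hQ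
  refine ⟨n * g₀, fun x hx => ⟨?_, ?_⟩⟩
  · have h2 := hconj _ ⟨x, hx, rfl⟩
    simp [mul_assoc] at h2 ⊢
    exact h2
  · have h1 : (QuotientGroup.mk n : G ⧸ Cfsg.pPrimeCore p G) = 1 :=
      (QuotientGroup.eq_one_iff n).2 hn
    simp [h1]

end Cfsg.Agent.S5191
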