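import Cfsg.Statements.S5192
import Cfsg.Agent.H90.Tate

set_option autoImplicit false
open Cfsg

namespace Cfsg.Agent.S5192

open Cfsg Cfsg.FusionSystem Cfsg.Agent.H90 MulAction

universe u

section Core

variable {G X : Type u} [Group G] [MulAction (G × G) X]

/-- Orbits of the right action. -/
def rel (G X : Type u) [Group G] [MulAction (G × G) X] : Setoid X where
  r x y := ∃ b : G, ((1 : G), b) • x = y
  iseqv :=
    { refl := fun x => ⟨1, by rw [Prod.mk_one_one, one_smul]⟩
      symm := by
        rintro x y ⟨b, rfl⟩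
        exact ⟨b⁻¹, by rw [smul_smul, Prod.mk_mul_mk, mul_one, inv_mul_cancel, Prod.mk_one_one, one_smul]⟩
      trans := by
        rintro x y z ⟨b, rfl⟩ ⟨c, rfl⟩
        exact ⟨c * b, by rw [smul_smul, Prod.mk_mul_mk, mul_one]⟩ }

theorem z2 (a : ZMod 2) : a + a = 0 := by revert a; decide

theorem add_eq_of {a b c : ZMod 2} (h : a = b + c) : a + c = b := by
  rw [h, add_assoc, z2, add_zero]

/-- The transfer along a biset free on the right. -/
theorem exists_tau [Finite G] [Finite X] (μ : G → ZMod 2) (hμ : ∀ a b, μ (a * b) = μ a + μ b)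
    (hfree : ∀ (b : G) (x : X), ((1 : G), b) • x = x → b = 1) :
    ∃ τ : G → ZMod 2, (∀ a b, τ (a * b) = τ a + τ b) ∧
      (∀ a a' : G, (∃ θ : X ≃ X, ∀ (s : G) (x : X), θ (((1 : G), s) • x) = ((1 : G), s) • θ x ∧
        θ ((a, s) • x) = (a', s) • θ x) → τ a' = τ a) ∧
      ∀ i : G, i * i = 1 → Odd (Nat.card X / Nat.card G) →
        2 * Nat.card G ∣ Nat.card {x : X // ∃ j : G, μ j = 0 ∧ (i, j) • x = x} → τ i = 1 := by
  classical
  letI R : Setoid X := rel G X
  haveI := Fintype.ofFinite X
  haveI := Fintype.ofFinite (Quotient R)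
  let out : Quotient R → X := Quotient.out
  have hout : ∀ x : X, ∃ b : G, ((1 : G), b) • out ⟦x⟧ = x := fun x => Quotient.mk_out (s := R) x
  choose bb hbb using hout
  have hq : ∀ (x : X) (b : G), (⟦((1 : G), b) • x⟧ : Quotient R) = ⟦x⟧ := fun x b =>
    (Quotient.sound (s := R) ⟨b, rfl⟩).symm
  have hbmul : ∀ (x : X) (b : G), bb (((1 : G), b) • x) = b * bb x := fun x b => by
    refine inv_mul_eq_one.mp (hfree _ (out ⟦x⟧) ?_) |>.symm |>.symm
    have h1 := hbb (((1 : G), b) • x)
    rw [hq x b] at h1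
    have h2 : ((1 : G), b * bb x) • out ⟦x⟧ = ((1 : G), b) • x := by
      conv_rhs => rw [← hbb x]
      rw [smul_smul, Prod.mk_mul_mk, one_mul]
    have h3 := h2.trans h1.symm
    calc ((1 : G), (bb (((1 : G), b) • x))⁻¹ * (b * bb x)) • out ⟦x⟧
        = ((1 : G), (bb (((1 : G), b) • x))⁻¹) • ((1 : G), b * bb x) • out ⟦x⟧ := by
          rw [smul_smul, Prod.mk_mul_mk, one_mul]
      _ = _ := by rw [h3, smul_smul, Prod.mk_mul_mk, one_mul, inv_mul_cancel, Prod.mk_one_one, one_smul]
  let m : X → ZMod 2 := fun x => μ (bb x)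
  have hm : ∀ (x : X) (b : G), m (((1 : G), b) • x) = μ b + m x := fun x b => by
    show μ (bb _) = _
    rw [hbmul, hμ]
  have hcomm : ∀ (u b : G) (x : X), (u, (1 : G)) • ((1 : G), b) • x = ((1 : G), b) • (u, (1 : G)) • x :=
    fun u b x => by simp [smul_smul]
  have hd : ∀ (u : G) (x y : X), R x y →
      m ((u, (1 : G)) • x) + m x = m ((u, (1 : G)) • y) + m y := by
    rintro u x y ⟨b, rfl⟩
    rw [hcomm, hm, hm, add_add_add_comm, z2, zero_add]
  let D : G → Quotient R → ZMod 2 := fun u => Quotient.lift _ (hd u)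
  let act : G → Quotient R → Quotient R := fun u => Quotient.lift (fun x => ⟦(u, (1 : G)) • x⟧)
    (by rintro x y ⟨b, rfl⟩; exact ((congrArg _ (hcomm u b x)).trans (hq _ b)).symm)
  have hact : ∀ (u v : G) (q : Quotient R), act u (act v q) = act (u * v) q := by
    intro u v q
    induction q using Quotient.ind with
    | _ x => exact congrArg Quotient.mk'' (by simp [smul_smul])
  have hact1 : ∀ q : Quotient R, act 1 q = q := by
    intro q
    induction q using Quotient.ind with
    | _ x => exact congrArg Quotient.mk'' (by rw [Prod.mk_one_one, one_smul])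
  let actE : G → (Quotient R ≃ Quotient R) := fun u =>
    ⟨act u, act u⁻¹, fun q => by rw [hact, inv_mul_cancel, hact1],
      fun q => by rw [hact, mul_inv_cancel, hact1]⟩
  have hDmul : ∀ (u v : G) (q : Quotient R), D (u * v) q = D u (act v q) + D v q := by
    intro u v q
    induction q using Quotient.ind with
    | _ x =>
      show m _ + m _ = (m _ + m _) + (m _ + m _)
      rw [smul_smul, Prod.mk_mul_mk, one_mul]
      exact (show ∀ a b c : ZMod 2, a + c = (a + b) + (b + c) from by decide) _ _ _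
  refine ⟨fun u => ∑ q, D u q, fun a b => ?_, ?_, ?_⟩
  · simp only [hDmul, Finset.sum_add_distrib]
    rw [show ∑ q, D a (act b q) = ∑ q, D a q from Equiv.sum_comp (actE b) (D a)]
  · rintro a a' ⟨θ, hθ⟩
    have hθR : ∀ x y, R x y → R (θ x) (θ y) := by
      rintro x y ⟨b, rfl⟩
      exact ⟨b, ((hθ b x).1).symm⟩
    have hθR' : ∀ x y, R x y → R (θ.symm x) (θ.symm y) := by
      rintro x y ⟨b, rfl⟩
      refine ⟨b, θ.injective ?_⟩
      rw [(hθ b _).1, Equiv.apply_symm_apply, Equiv.apply_symm_apply]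
    let θq : Quotient R ≃ Quotient R :=
      ⟨Quotient.map θ hθR, Quotient.map θ.symm hθR',
        fun q => by
          induction q using Quotient.ind with
          | _ x => exact congrArg Quotient.mk'' (θ.symm_apply_apply x),
        fun q => by
          induction q using Quotient.ind with
          | _ x => exact congrArg Quotient.mk'' (θ.apply_symm_apply x)⟩
    have hf : ∀ x y, R x y → m (θ x) + m x = m (θ y) + m y := by
      rintro x y ⟨b, rfl⟩
      rw [(hθ b x).1, hm, hm, add_add_add_comm, z2, zero_add]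
    let f : Quotient R → ZMod 2 := Quotient.lift _ hf
    have key : ∀ q, D a' (θq q) = D a q + (f (act a q) + f q) := by
      intro q
      induction q using Quotient.ind with
      | _ x =>
        show m ((a', (1 : G)) • θ x) + m (θ x) =
          (m ((a, (1 : G)) • x) + m x) + ((m (θ ((a, (1 : G)) • x)) + m ((a, (1 : G)) • x)) + (m (θ x) + m x))
        rw [(hθ 1 x).2]
        exact (show ∀ a b c d : ZMod 2, a + d = (b + c) + ((a + b) + (d + c)) from by decide) _ _ _ _
    show ∑ q, D a' q = ∑ q, D a q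
    rw [← Equiv.sum_comp θq (D a'), Finset.sum_congr rfl fun q _ => key q, Finset.sum_add_distrib,
      Finset.sum_add_distrib, show ∑ q, f (act a q) = ∑ q, f q from Equiv.sum_comp (actE a) f, z2,
      add_zero]
  intro i hi hodd hdvd
  have hii : ∀ q, act i (act i q) = q := fun q => by rw [hact, hi, hact1]
  have hD1 : ∀ q, D i (act i q) + D i q = 0 := fun q => by
    rw [← hDmul, hi]
    induction q using Quotient.ind with
    | _ x =>
      show m _ + m _ = 0
      rw [Prod.mk_one_one, one_smul, z2]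
  set A := Finset.univ.filter fun q => act i q = q with hA
  have hsplit : ∀ g : Quotient R → ZMod 2, (∀ q, g (act i q) + g q = 0) → ∑ q, g q = ∑ q ∈ A, g q := by
    intro g hg
    rw [← Finset.sum_filter_add_sum_filter_not Finset.univ (fun q => act i q = q), add_eq_left]
    refine Finset.sum_involution (fun q _ => act i q) (fun q _ => by rw [add_comm]; exact hg q)
      (fun q hq _ => (Finset.mem_filter.mp hq).2) (fun q hq => ?_) fun q _ => hii q
    refine Finset.mem_filter.mpr ⟨Finset.mem_univ _, fun h => (Finset.mem_filter.mp hq).2 ?_⟩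
    rw [← hii q]; exact (congrArg (act i) h).trans (by rw [hii])
  -- the orbits
  let e : Quotient R × G ≃ X := Equiv.ofBijective (fun z => ((1 : G), z.2) • out z.1) (by
    refine ⟨?_, fun x => ⟨(⟦x⟧, bb x), hbb x⟩⟩
    rintro ⟨q, b⟩ ⟨q', b'⟩ h
    have h' : ((1 : G), b) • out q = ((1 : G), b') • out q' := h
    have h1 := congrArg (Quotient.mk R) h'
    rw [hq, hq] at h1
    simp only [out, Quotient.out_eq] at h1
    subst h1
    refine Prod.ext rfl (inv_mul_eq_one.mp (hfree _ (out q) ?_))
    calc ((1 : G), b⁻¹ * b') • out q = ((1 : G), b⁻¹) • ((1 : G), b') • out q := by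
          rw [smul_smul, Prod.mk_mul_mk, one_mul]
      _ = _ := by rw [← h', smul_smul, Prod.mk_mul_mk, one_mul, inv_mul_cancel, Prod.mk_one_one, one_smul])
  have hcardX : Nat.card X / Nat.card G = Nat.card (Quotient R) := by
    rw [← Nat.card_congr e, Nat.card_prod, Nat.mul_div_cancel _ Nat.card_pos]
  rw [hcardX] at hodd
  have hAone : ∑ q ∈ A, (1 : ZMod 2) = 1 := by
    rw [← hsplit (fun _ => 1) (fun _ => z2 1), Finset.sum_const, Finset.card_univ, ← Nat.card_eq_fintype_card,
      nsmul_one, ← ZMod.natCast_mod, Nat.odd_iff.mp hodd, Nat.cast_one]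
  set B := A.filter fun q => D i q = 0 with hB
  have hmemB : ∀ x : X, (⟦x⟧ : Quotient R) ∈ B ↔ ∃ j : G, μ j = 0 ∧ (i, j) • x = x := by
    intro x
    constructor
    · intro h
      obtain ⟨h1, h2⟩ := Finset.mem_filter.mp h
      obtain ⟨b, hb⟩ := Quotient.exact (s := R) (Finset.mem_filter.mp h1).2
      have h3 : m ((i, (1 : G)) • x) + m x = 0 := h2
      refine ⟨b, ?_, ?_⟩
      · have h4 := hm ((i, (1 : G)) • x) b
        rw [hb] at h4
        rw [← add_eq_of h4, add_comm]
        exact h3
      · conv_rhs => rw [← hb]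
        rw [smul_smul, Prod.mk_mul_mk, one_mul, mul_one]
    · rintro ⟨j, hj, hjx⟩
      have hb : ((1 : G), j) • (i, (1 : G)) • x = x := by
        rw [smul_smul, Prod.mk_mul_mk, one_mul, mul_one, hjx]
      refine Finset.mem_filter.mpr ⟨Finset.mem_filter.mpr ⟨Finset.mem_univ _, Quotient.sound (s := R) ⟨j, hb⟩⟩, ?_⟩
      show m ((i, (1 : G)) • x) + m x = 0
      have h4 := hm ((i, (1 : G)) • x) j
      rw [hb, hj, zero_add] at h4
      rw [← h4, z2]
  have hBcard : Nat.card {x : X // ∃ j : G, μ j = 0 ∧ (i, j) • x = x} = B.card * Nat.card G := by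
    rw [← Nat.card_eq_finsetCard, ← Nat.card_prod]
    refine Nat.card_congr ((Equiv.subtypeEquiv e fun z => ?_).symm.trans
      (Equiv.prodSubtypeFstEquivSubtypeProd (p := fun q => q ∈ B)))
    rw [show e z = ((1 : G), z.2) • out z.1 from rfl, ← hmemB, hq]
    simp only [out, Quotient.out_eq]
  rw [hBcard, mul_comm B.card, mul_comm 2] at hdvd
  obtain ⟨c, hc⟩ := Nat.dvd_of_mul_dvd_mul_left Nat.card_pos hdvd
  show ∑ q, D i q = 1
  rw [hsplit _ hD1]
  have h10 : ∀ q, (1 : ZMod 2) + D i q = if D i q = 0 then 1 else 0 := fun q => by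
    generalize D i q = a
    revert a; decide
  have hz : ∑ q ∈ A, ((1 : ZMod 2) + D i q) = 0 := by
    rw [Finset.sum_congr rfl fun q _ => h10 q, Finset.sum_boole, ← hB, hc, Nat.cast_mul,
      show ((2 : ℕ) : ZMod 2) = 0 from by decide, zero_mul]
  rw [Finset.sum_add_distrib, hAone] at hz
  have : ∀ a : ZMod 2, 1 + a = 0 → a = 1 := by decide
  exact this _ hz

/-- A free action has cardinality divisible by the order of the group. -/
theorem card_dvd_of_free {H Y : Type*} [Group H] [MulAction H Y] [Finite H] [Finite Y]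
    (h : ∀ (g : H) (y : Y), g • y = y → g = 1) : Nat.card H ∣ Nat.card Y := by
  haveI := Fintype.ofFinite (orbitRel.Quotient H Y)
  rw [Nat.card_congr (selfEquivSigmaOrbitsQuotientStabilizer H Y), Nat.card_sigma]
  refine Finset.dvd_sum fun q _ => ?_
  rw [← Subgroup.index_eq_card,
    show stabilizer H q.out = ⊥ from (Subgroup.eq_bot_iff_forall _).mpr fun g hg => h g _ hg,
    Subgroup.index_bot]

end Core

theorem main {Ω : Type u} [Group Ω] [Finite Ω] {S : Subgroup Ω}
    (hS : IsPGroup 2 ↥S) (F : Cfsg.FusionSystem S) (hF : F.IsSaturated 2)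
    (T : Subgroup Ω) (hTS : T ≤ S) (hT : T.relIndex S = 2)
    (i : Ω) (hi : i ∈ S) (hi2 : orderOf i = 2)
    (h : ∀ j : Ω, F.IsConjElt i j → F.IsFullyNormalized (Subgroup.zpowers j) → j ∉ T) :
    i ∉ F.hyperfocalSubgroup 2 := by
  classical
  obtain ⟨ι, hι, D, hD, hk, hstab⟩ := exists_biset hS hF
  haveI := Fintype.ofFinite ↥S
  have hT2 : (T.subgroupOf S).index = 2 := hT
  let μ : ↥S → ZMod 2 := fun s => if (s : Ω) ∈ T then 0 else 1
  have hμ : ∀ a b, μ (a * b) = μ a + μ b := by
    intro a b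
    have hiff : ((a * b : ↥S) : Ω) ∈ T ↔ ((a : Ω) ∈ T ↔ (b : Ω) ∈ T) :=
      Subgroup.mul_mem_iff_of_index_two hT2 (a := a) (b := b)
    show (if _ then _ else _) = (if _ then _ else _) + (if _ then _ else _)
    by_cases ha : (a : Ω) ∈ T <;> by_cases hb : (b : Ω) ∈ T <;> simp only [hiff, ha, hb, iff_true, iff_false, not_true_eq_false, true_iff, false_iff, if_true, if_false, add_zero, zero_add, z2]
  have hμT : ∀ s : ↥S, μ s = 0 ↔ (s : Ω) ∈ T := fun s => by
    show (if _ then _ else _) = _ ↔ _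
    by_cases hs : (s : Ω) ∈ T <;> simp [hs]
  -- freeness
  have htw : ∀ (x : BiSet D) (g : ↥S × ↥S), g • x = x → ∃ a b : ↥S × ↥S,
      a ∈ (D x.1).map (MulAut.conj b).toMonoidHom ∧ a = g := by
    rintro ⟨k, q⟩ g hg
    induction q using QuotientGroup.induction_on with
    | H b =>
      refine ⟨g, b, ⟨b⁻¹ * g * b, ?_, ?_⟩, rfl⟩
      · have h1 : g • (QuotientGroup.mk b : (↥S × ↥S) ⧸ D k) = QuotientGroup.mk b :=
          eq_of_heq (Sigma.mk.inj hg).2
        have h2 := QuotientGroup.eq.mp h1.symm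
        rw [mul_assoc]; exact h2
      · show b * (b⁻¹ * g * b) * b⁻¹ = g
        group
  have hfix : ∀ (x : BiSet D) (a b : ↥S), (a, b) • x = x →
      ∃ K : Subgroup (↥S × ↥S), IsTw F K ∧ (a, b) ∈ K := by
    intro x a b hx
    obtain ⟨g, c, hg, he⟩ := htw x _ hx
    exact ⟨_, (isTw_conj c (hD x.1)).1, he ▸ hg⟩
  have hfreeR : ∀ (b : ↥S) (x : BiSet D), ((1 : ↥S), b) • x = x → b = 1 := by
    intro b x hx
    obtain ⟨K, hK, hm⟩ := hfix x _ _ hx
    exact congrArg Prod.snd (hK.eq_of_fst hm K.one_mem rfl)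
  have hfreeL : ∀ (a : ↥S) (x : BiSet D), (a, (1 : ↥S)) • x = x → a = 1 := by
    intro a x hx
    obtain ⟨K, ⟨φ, hφ, hφK⟩, hm⟩ := hfix x _ _ hx
    have h1 := hφK _ hm
    refine Subtype.ext ?_
    have h2 := F.injective_of_mem hφ (h1.trans (map_one φ).symm)
    exact (Subtype.ext_iff.mp h2 :)
  obtain ⟨τ, hτm, hτs, hτi⟩ := exists_tau (X := BiSet D) μ hμ hfreeR
  have hτ1 : τ 1 = 0 := by
    have := hτm 1 1
    rw [mul_one, z2] at this
    exact this
  -- stability
  have hstable : ∀ (R : Subgroup Ω) (ψ : ↥R →* Ω) (hψ : ψ ∈ F.Hom R) (v : ↥R),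
      τ ⟨ψ v, (F.le_of_mem hψ).2 v⟩ = τ ⟨v, (F.le_of_mem hψ).1 v.2⟩ := by
    intro R ψ hψ v
    obtain ⟨θ, hθ⟩ := hstab R (F.le_of_mem hψ).1 ψ hψ
    refine hτs _ _ ⟨θ, fun s x => ⟨?_, hθ v s x⟩⟩
    have h1 := hθ 1 s x
    rw [show (⟨((1 : ↥R) : Ω), (F.le_of_mem hψ).1 (1 : ↥R).2⟩ : ↥S) = 1 from Subtype.ext rfl,
      show (⟨ψ 1, (F.le_of_mem hψ).2 1⟩ : ↥S) = 1 from Subtype.ext (map_one ψ)] at h1
    exact h1
  let K : Subgroup ↥S :=
    { carrier := {s | τ s = 0}
      one_mem' := hτ1
      mul_mem' := fun {a b} ha hb => (hτm a b).trans (by rw [ha, hb, add_zero])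
      inv_mem' := fun {a} ha => by
        have h1 := hτm a⁻¹ a
        rw [inv_mul_cancel, hτ1] at h1
        show τ a⁻¹ = 0
        rw [show τ a = 0 from ha, add_zero] at h1
        exact h1.symm }
  have hfoc : F.hyperfocalSubgroup 2 ≤ K.map S.subtype := by
    refine (hyp_le_focal F 2).trans ((Subgroup.closure_le _).2 ?_)
    rintro _ ⟨P, φ, x, hφ, rfl⟩
    refine ⟨⟨(x : Ω), (F.le_of_mem hφ).1 x.2⟩⁻¹ * ⟨φ x, (F.le_of_mem hφ).2 x⟩, ?_, rfl⟩
    show τ _ = 0
    have h1 := hτm ⟨(x : Ω), (F.le_of_mem hφ).1 x.2⟩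
      (⟨(x : Ω), (F.le_of_mem hφ).1 x.2⟩⁻¹ * ⟨φ x, (F.le_of_mem hφ).2 x⟩)
    rw [mul_inv_cancel_left, hstable P φ hφ x] at h1
    exact (add_eq_left.mp h1.symm)
  intro hmem
  obtain ⟨s, hs, hse⟩ := hfoc hmem
  obtain rfl : s = ⟨i, hi⟩ := Subtype.ext hse
  have hone : τ ⟨i, hi⟩ = 1 := by
    refine hτi _ (Subtype.ext (by show i * i = 1; rw [← sq, ← hi2, pow_orderOf_eq_one])) ?_ ?_
    · -- the degree
      have hcard : Nat.card (BiSet D) = Nat.card ↥S * ∑ k, ((src (D k)).subgroupOf S).index := by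
        rw [Nat.card_sigma, Finset.mul_sum]
        refine Finset.sum_congr rfl fun k _ => ?_
        have h1 := (D k).index_mul_card
        have h2 := ((src (D k)).subgroupOf S).index_mul_card
        rw [Nat.card_congr (Subgroup.subgroupOfEquivOfLe (src_le_top _)).toEquiv, (hD k).card_src] at h2
        rw [Nat.card_prod, ← h2] at h1
        show (D k).index = _
        refine Nat.eq_of_mul_eq_mul_right (Nat.card_pos (α := ↥(D k))) (h1.trans ?_)
        rw [← h2]; ring
      rw [hcard, Nat.mul_div_cancel_left _ Nat.card_pos, Nat.odd_iff, ← Nat.two_dvd_ne_zero]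
      exact hk
    · -- the fixed points
      let J := {j : ↥S // μ j = 0}
      let N : ↥S → ℕ := fun j => Nat.card {x : BiSet D // ((⟨i, hi⟩ : ↥S), j) • x = x}
      have e1 : Nat.card {x : BiSet D // ∃ j : ↥S, μ j = 0 ∧ ((⟨i, hi⟩ : ↥S), j) • x = x} =
          ∑ j ∈ Finset.univ.filter (fun j => μ j = 0), N j := by
        rw [← Finset.sum_attach, Finset.attach_eq_univ, ← Nat.card_sigma]
        refine (Nat.card_congr (Equiv.ofBijective
          (fun z : (Σ j : {j // j ∈ Finset.univ.filter (fun j => μ j = 0)},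
            {x : BiSet D // ((⟨i, hi⟩ : ↥S), (j : ↥S)) • x = x}) =>
            (⟨z.2.1, z.1.1, (Finset.mem_filter.mp z.1.2).2, z.2.2⟩ :
              {x : BiSet D // ∃ j : ↥S, μ j = 0 ∧ ((⟨i, hi⟩ : ↥S), j) • x = x})) ⟨?_, ?_⟩)).symm
        · rintro ⟨⟨j, hj⟩, x, hx⟩ ⟨⟨j', hj'⟩, x', hx'⟩ he
          obtain rfl : x = x' := congrArg Subtype.val he
          obtain ⟨g, c, hg, hge⟩ := htw x _ hx
          obtain ⟨Kx, hK, hm⟩ : ∃ Kx : Subgroup (↥S × ↥S), IsTw F Kx ∧
              ∀ g' : ↥S × ↥S, g' • x = x → g' ∈ Kx := by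
            refine ⟨MulAction.stabilizer (↥S × ↥S) x, ?_, fun g' hg' => hg'⟩
            obtain ⟨k, q⟩ := x
            induction q using QuotientGroup.induction_on with
            | H b =>
              convert (isTw_conj b (hD k)).1 using 1
              refine le_antisymm (fun y hy => ?_) ?_
              · refine ⟨b⁻¹ * y * b, ?_, by show b * (b⁻¹ * y * b) * b⁻¹ = y; group⟩
                have h1 : y • (QuotientGroup.mk b : (↥S × ↥S) ⧸ D k) = QuotientGroup.mk b :=
                  eq_of_heq (Sigma.mk.inj (MulAction.mem_stabilizer_iff.mp hy)).2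
                have h2 := QuotientGroup.eq.mp h1.symm
                rw [mul_assoc]; exact h2
              · rintro _ ⟨y, hy, rfl⟩
                refine Sigma.ext rfl (heq_of_eq ?_)
                show ((QuotientGroup.mk (b * y * b⁻¹ * b) : (↥S × ↥S) ⧸ D k)) = QuotientGroup.mk b
                rw [inv_mul_cancel_right]
                exact QuotientGroup.eq.mpr (by simpa using (D k).inv_mem hy)
          obtain rfl : j = j' := congrArg Prod.snd (hK.eq_of_fst (hm _ hx) (hm _ hx') rfl)
          rfl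
        · rintro ⟨x, j, hj, hx⟩
          exact ⟨⟨⟨j, Finset.mem_filter.mpr ⟨Finset.mem_univ _, hj⟩⟩, x, hx⟩, rfl⟩
      rw [e1, ← Finset.sum_fiberwise _ (fun j : ↥S => ConjClasses.mk j) N]
      refine Finset.dvd_sum fun c _ => ?_
      obtain ⟨j, rfl⟩ := ConjClasses.mk_surjective c
      have hinv : ∀ t j' : ↥S, N (t * j' * t⁻¹) = N j' := by
        intro t j'
        refine (Nat.card_congr (Equiv.subtypeEquiv (MulAction.toPerm ((1 : ↥S), t)) fun x => ?_)).symm
        rw [MulAction.toPerm_apply, smul_smul, Prod.mk_mul_mk, mul_one, inv_mul_cancel_right,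
          show ((⟨i, hi⟩ : ↥S), t * j') = ((1 : ↥S), t) * ((⟨i, hi⟩ : ↥S), j') by simp, mul_smul]
        exact (MulAction.injective _).eq_iff.symm
      by_cases hjT : μ j = 0
      swap
      · rw [Finset.sum_eq_zero fun j' hj' => ?_]
        · exact dvd_zero _
        exfalso
        obtain ⟨h1, h2⟩ := Finset.mem_filter.mp hj'
        obtain ⟨t, ht⟩ := isConj_iff.mp (ConjClasses.mk_eq_mk_iff_isConj.mp h2)
        refine hjT ?_
        rw [← ht, hμ, hμ, (Finset.mem_filter.mp h1).2, add_zero, ← hμ, mul_inv_cancel]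
        exact (hμT 1).mpr (one_mem T)
      have hfilter : (Finset.univ.filter (fun j' : ↥S => μ j' = 0)).filter
          (fun j' => ConjClasses.mk j' = ConjClasses.mk j) =
          (ConjClasses.mk j).carrier.toFinset := by
        ext j'
        simp only [Finset.mem_filter, Finset.mem_univ, true_and, Set.mem_toFinset, ConjClasses.mem_carrier_iff_mk_eq]
        refine ⟨fun h => h.2, fun h => ⟨?_, h⟩⟩
        obtain ⟨t, ht⟩ := isConj_iff.mp (ConjClasses.mk_eq_mk_iff_isConj.mp h.symm)
        rw [← ht, hμ, hμ, hjT, add_zero, ← hμ, mul_inv_cancel]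
        exact (hμT 1).mpr (one_mem T)
      rw [hfilter, Finset.sum_congr rfl (g := fun _ => N j) fun j' hj' => by
        obtain ⟨t, ht⟩ := isConj_iff.mp
          (ConjClasses.mem_carrier_iff_mk_eq.mp (Set.mem_toFinset.mp hj') |>.symm |> ConjClasses.mk_eq_mk_iff_isConj.mp)
        rw [← ht, hinv], Finset.sum_const, smul_eq_mul]
      have hcl : (ConjClasses.mk j).carrier.toFinset.card * Nat.card ↥(Subgroup.centralizer ({j} : Set ↥S)) =
          Nat.card ↥S := by
        rw [← Nat.card_eq_card_toFinset, Subgroup.nat_card_centralizer_nat_card_stabilizer,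
          ← ConjAct.orbit_eq_carrier_conjClasses]
        have h1 := (MulAction.stabilizer (ConjAct ↥S) j).index_mul_card
        rw [MulAction.index_stabilizer, ← Nat.card_coe_set_eq] at h1
        exact h1
      by_cases hN : N j = 0
      · rw [hN, mul_zero]; exact dvd_zero _
      -- `j` is conjugate to `i`
      obtain ⟨⟨x, hx⟩, -⟩ := Nat.card_ne_zero.mp hN
      obtain ⟨K', ⟨φ, hφ, hφK⟩, hm⟩ := hfix x _ _ hx
      have hij : φ ⟨i, fst_mem_src hm⟩ = (j : Ω) := hφK _ hm
      have hiz : Subgroup.zpowers i ≤ src K' := Subgroup.zpowers_le.mpr (fst_mem_src hm)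
      have hconj : F.IsConjElt i (j : Ω) := ⟨_, res_mem F hφ hiz, hij⟩
      have hnot : ¬ F.IsFullyNormalized (Subgroup.zpowers (j : Ω)) :=
        fun hc => h _ hconj hc ((hμT j).mp hjT)
      have hjo : orderOf (j : Ω) = 2 := by
        rw [← hij, orderOf_injective φ (F.injective_of_mem hφ), ← orderOf_injective (src K').subtype
          (src K').subtype_injective]
        exact hi2
      have hjS : Subgroup.zpowers (j : Ω) ≤ S := Subgroup.zpowers_le.mpr j.2
      simp only [Cfsg.FusionSystem.IsFullyNormalized, hjS, true_and, not_forall, not_le] at hnot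
      obtain ⟨Q, ⟨ψ, hψ, hψQ⟩, hQ⟩ := hnot
      have hkS : ψ ⟨(j : Ω), Subgroup.mem_zpowers _⟩ ∈ S := (F.le_of_mem hψ).2 _
      set k : ↥S := ⟨ψ ⟨(j : Ω), Subgroup.mem_zpowers _⟩, hkS⟩ with hkdef
      have hko : orderOf (k : Ω) = 2 := by
        show orderOf (ψ _) = 2
        rw [orderOf_injective ψ (F.injective_of_mem hψ), ← orderOf_injective (Subgroup.zpowers (j : Ω)).subtype
          (Subgroup.subtype_injective _)]
        exact hjo
      have hQk : Q = Subgroup.zpowers (k : Ω) := by
        rw [← hψQ]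
        ext y
        constructor
        · rintro ⟨⟨z, n, rfl⟩, rfl⟩
          refine ⟨n, ?_⟩
          show (k : Ω) ^ n = _
          rw [show (k : Ω) = ψ ⟨(j : Ω), Subgroup.mem_zpowers _⟩ from rfl, ← map_zpow]
          rfl
        · rintro ⟨n, rfl⟩
          exact ⟨⟨(j : Ω), Subgroup.mem_zpowers _⟩ ^ n, map_zpow ψ _ n⟩
      have hnc : ∀ a : ↥S, orderOf (a : Ω) = 2 →
          Nat.card ↥(normalizerIn S (Subgroup.zpowers (a : Ω))) =
            Nat.card ↥(Subgroup.centralizer ({a} : Set ↥S)) := by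
        intro a ha
        have e : (normalizerIn S (Subgroup.zpowers (a : Ω))).subgroupOf S = Subgroup.centralizer {a} := by
          ext g
          rw [Subgroup.mem_subgroupOf, Subgroup.mem_centralizer_singleton_iff]
          constructor
          · intro hg
            have h1 := (Subgroup.mem_normalizer_iff.mp hg.2 (a : Ω)).mp (Subgroup.mem_zpowers _)
            obtain ⟨n, hn⟩ := h1
            rcases Int.even_or_odd n with hn' | hn'
            · exfalso
              obtain ⟨m, rfl⟩ := hn'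
              rw [show (fun x : ℤ => (a : Ω) ^ x) (m + m) = 1 by
                show (a : Ω) ^ (m + m) = 1
                rw [← orderOf_dvd_iff_zpow_eq_one, ha]; exact ⟨m, by omega⟩] at hn
              have : (a : Ω) = 1 := by
                rw [show (a : Ω) = (g : Ω)⁻¹ * ((g : Ω) * a * (g : Ω)⁻¹) * g by group, ← hn]; group
              rw [this, orderOf_one] at ha
              omega
            · obtain ⟨m, rfl⟩ := hn'
              rw [show (fun x : ℤ => (a : Ω) ^ x) (2 * m + 1) = a by
                show (a : Ω) ^ (2 * m + 1) = a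
                rw [zpow_add, zpow_one, mul_eq_right, ← orderOf_dvd_iff_zpow_eq_one, ha]
                exact ⟨m, by push_cast; ring⟩] at hn
              exact Subtype.ext (show (g : Ω) * a = a * g by
                calc (g : Ω) * a = (g : Ω) * a * (g : Ω)⁻¹ * g := by group
                  _ = _ := by rw [← hn])
          · intro hg
            refine ⟨g.2, Subgroup.centralizer_le_normalizer _ ?_⟩
            rw [Subgroup.mem_centralizer_iff]
            rintro y ⟨n, rfl⟩
            have hc : Commute (g : Ω) (a : Ω) := congrArg Subtype.val hg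
            exact (hc.zpow_right n).symm
        rw [← e]
        exact (Nat.card_congr (Subgroup.subgroupOfEquivOfLe inf_le_left).toEquiv).symm
      rw [hQk, hnc j hjo, hnc k hko] at hQ
      -- two powers of two
      obtain ⟨a, ha⟩ := IsPGroup.iff_card.mp (hS.to_subgroup (Subgroup.centralizer ({j} : Set ↥S)))
      obtain ⟨b, hb⟩ := IsPGroup.iff_card.mp (hS.to_subgroup (Subgroup.centralizer ({k} : Set ↥S)))
      rw [ha, hb] at hQ
      have hab : a < b := (Nat.pow_lt_pow_iff_right (by norm_num)).mp hQ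
      -- translate the left point
      have hmap : IsTw F K' := ⟨φ, hφ, hφK⟩
      have hψmem : ∀ y : ↥(Subgroup.zpowers i), res φ hiz y ∈ Subgroup.zpowers (j : Ω) := by
        rintro ⟨_, n, rfl⟩
        refine ⟨n, ?_⟩
        show (j : Ω) ^ n = _
        rw [← hij, ← map_zpow]
        rfl
      have hχ := comp₂_mem F (res_mem F hφ hiz) hψ hψmem
      obtain ⟨θ, hθ⟩ := hstab _ (Subgroup.zpowers_le.mpr hi) _ hχ
      have hNk : N j = Nat.card {x : BiSet D // (k, j) • x = x} := by
        refine Nat.card_congr (Equiv.subtypeEquiv θ fun x => ?_)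
        have h1 := hθ ⟨i, Subgroup.mem_zpowers i⟩ j x
        have h2 : (⟨comp₂ ψ (res φ hiz) hψmem ⟨i, Subgroup.mem_zpowers i⟩, (F.le_of_mem hχ).2 _⟩ : ↥S) = k := by
          refine Subtype.ext ?_
          show comp₂ ψ (res φ hiz) hψmem ⟨i, _⟩ = (k : Ω)
          rw [comp₂_apply]
          exact congrArg ψ (Subtype.ext hij)
        rw [h2] at h1
        exact ⟨fun hx => by rw [← h1, hx], fun hx => θ.injective (h1.trans hx)⟩
      letI : MulAction ↥(Subgroup.centralizer ({k} : Set ↥S)) {x : BiSet D // (k, j) • x = x} :=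
        { smul := fun c x => ⟨((c : ↥S), (1 : ↥S)) • (x : BiSet D), by
            rw [smul_smul, Prod.mk_mul_mk, ← Subgroup.mem_centralizer_singleton_iff.mp c.2, mul_one,
              show ((c : ↥S) * k, j) = ((c : ↥S), (1 : ↥S)) * (k, j) by simp, mul_smul, x.2]⟩
          one_smul := fun x => Subtype.ext (by
            show (((1 : ↥(Subgroup.centralizer ({k} : Set ↥S))) : ↥S), (1 : ↥S)) • (x : BiSet D) = _
            rw [Subgroup.coe_one, Prod.mk_one_one, one_smul])
          mul_smul := fun c c' x => Subtype.ext (by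
            show (((c * c' : ↥(Subgroup.centralizer ({k} : Set ↥S))) : ↥S), (1 : ↥S)) • (x : BiSet D) = _ • _ • _
            rw [smul_smul, Prod.mk_mul_mk, one_mul, Subgroup.coe_mul]) }
      have hdvd := card_dvd_of_free (H := ↥(Subgroup.centralizer ({k} : Set ↥S)))
        (Y := {x : BiSet D // (k, j) • x = x}) fun c x hc => Subtype.ext (hfreeL c x (congrArg Subtype.val hc))
      rw [hb, ← hNk] at hdvd
      rw [ha] at hcl
      rw [← hcl]
      calc 2 * ((ConjClasses.mk j).carrier.toFinset.card * 2 ^ a)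
          = (ConjClasses.mk j).carrier.toFinset.card * 2 ^ (a + 1) := by rw [pow_succ]; ring
        _ ∣ _ := mul_dvd_mul_left _ ((pow_dvd_pow 2 hab).trans hdvd)
  exact absurd (hs.symm.trans hone) (by decide)

/-- A Thompson-type transfer for saturated fusion systems. Let F be a saturated fusion system on a finite 2-group S, T a subgroup of S of index 2, and i an involution of S such that every fully normalized F-conjugate of i lies in S but outside T. Then i does not lie in the hyperfocal subgroup of F (the Sylow group of the 2-residual subsystem). -/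
theorem result {Ω : Type*} [Group Ω] [Finite Ω] {S : Subgroup Ω}
    (hS : IsPGroup 2 ↥S) (F : Cfsg.FusionSystem S) (hF : F.IsSaturated 2)
    (T : Subgroup Ω) (hTS : T ≤ S) (hT : T.relIndex S = 2)
    (i : Ω) (hi : i ∈ S) (hi2 : orderOf i = 2)
    (h : ∀ j : Ω, F.IsConjElt i j → F.IsFullyNormalized (Subgroup.zpowers j) → j ∉ T) :
    i ∉ F.hyperfocalSubgroup 2 := by
  exact main hS F hF T hTS hT i hi hi2 h

end Cfsg.Agent.S5192
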