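import Cfsg.Statements.S5196
import Cfsg.Agent.FusionSys.CenterControl

set_option autoImplicit false
universe u
open Cfsg

namespace Cfsg.Agent.S5196

open Cfsg.Agent.FusionSys in
/-- The class of all central elements of the Sylow subgroup. -/
theorem goodClass_central {p : ℕ} [Fact p.Prime] (W : ∀ (Q : Type u) [Group Q], Subgroup Q) (hW2 : ∀ (Q R : Type u) [Group Q] [Group R] [Finite Q], IsPGroup p Q → ∀ φ : Q ≃* R, (W Q).map φ.toMonoidHom = W R) (hC : ∀ (G : Type u) [Group G] [Finite G] (P : Sylow p G), Cfsg.pCore p G ⊓ Subgroup.center G = Cfsg.pCore p G ⊓ (Subgroup.center ↥(Subgroup.normalizer (((W ↥(P : Subgroup G)).map (P : Subgroup G).subtype : Subgroup G) : Set G))).map (Subgroup.normalizer (((W ↥(P : Subgroup G)).map (P : Subgroup G).subtype : Subgroup G) : Set G)).subtype) :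
    GoodClass W p (fun G [Group G] T z => z ∈ T ∧ ∀ y ∈ T, y * z = z * y) where
  mem := fun G _ T z h => h
  restrict := fun G _ T T' z hle hcT h =>
    ⟨hcT ⟨h.1, Subgroup.mem_centralizer_iff.2 h.2⟩, fun y hy => h.2 y (hle hy)⟩
  push := fun G H _ _ T θ z h => ⟨⟨z, rfl⟩, by
    rintro _ ⟨y, rfl⟩
    rw [← map_mul, ← map_mul]
    exact congrArg θ (Subtype.ext (h.2 y y.2))⟩
  group := by
    intro G _ _ P hcon z hz hn
    have hzO : z ∈ pCore p G := hcon (Subgroup.mem_centralizer_iff.2 fun y hy =>
      hz.2 y (Cores.pCore_le_sylow P hy))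
    haveI : (W ↥(P : Subgroup G)).Characteristic :=
      Subgroup.characteristic_iff_map_eq.2 fun φ => hW2 _ _ P.isPGroup' φ
    have hPN : (P : Subgroup G) ≤ Subgroup.normalizer
        (((W ↥(P : Subgroup G)).map (P : Subgroup G).subtype : Subgroup G) : Set G) :=
      fun x hx => FusionSys.mem_normalizer_of_map_characteristic hx
    have h : z ∈ pCore p G ⊓ Subgroup.center G := by
      rw [hC G P]
      exact ⟨hzO, ⟨z, hPN hz.1⟩, Subgroup.mem_center_iff.2 fun n => Subtype.ext (hn n n.2), rfl⟩
    exact h.2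

/-- Let p be an odd prime and W a positive characteristic p-functor: W assigns to every finite p-group Q (in a fixed universe) a subgroup W(Q), nontrivial when Q is, carried to W(R) by every isomorphism Q ≅ R; assume also Z(Q) ≤ W(Q) for every finite p-group Q. Suppose W satisfies the local condition: for every finite group G with Sylow p-subgroup P, O_p(G) ∩ Z(G) = O_p(G) ∩ Z(N_G(W(P))). Then W controls weak closure of elements in every saturated fusion system F over a finite p-group S: the centre of the normalizer fusion system of W(S) in F equals the centre of F. (For p = 2 no functor satisfies the local condition, so p is taken odd.) -/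
theorem result {p : ℕ} [Fact p.Prime] (hp : p ≠ 2) (W : ∀ (Q : Type u) [Group Q], Subgroup Q) (hW1 : ∀ (Q : Type u) [Group Q] [Finite Q], IsPGroup p Q → Nontrivial Q → W Q ≠ ⊥) (hW2 : ∀ (Q R : Type u) [Group Q] [Group R] [Finite Q], IsPGroup p Q → ∀ φ : Q ≃* R, (W Q).map φ.toMonoidHom = W R) (hWZ : ∀ (Q : Type u) [Group Q] [Finite Q], IsPGroup p Q → Subgroup.center Q ≤ W Q) (hC : ∀ (G : Type u) [Group G] [Finite G] (P : Sylow p G), Cfsg.pCore p G ⊓ Subgroup.center G = Cfsg.pCore p G ⊓ (Subgroup.center ↥(Subgroup.normalizer (((W ↥(P : Subgroup G)).map (P : Subgroup G).subtype : Subgroup G) : Set G))).map (Subgroup.normalizer (((W ↥(P : Subgroup G)).map (P : Subgroup G).subtype : Subgroup G) : Set G)).subtype) {Ω : Type u} [Group Ω] {S : Subgroup Ω} [Finite S] (hS : IsPGroup p S) (F : Cfsg.FusionSystem S) (hF : F.IsSaturated p) (N : Cfsg.FusionSystem (Cfsg.FusionSystem.normalizerIn S ((W ↥S).map S.subtype))) (hN : F.IsNormalizerSystem ((W ↥S).map S.subtype) N) : N.center = F.center := by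
  have hgood := goodClass_central W hW2 hC
  have hWn : ∀ z ∈ S, z ∈ Cfsg.FusionSystem.normalizerIn S ((W ↥S).map S.subtype) := fun z hz => by
    haveI : (W ↥S).Characteristic := Subgroup.characteristic_iff_map_eq.2 fun φ => hW2 _ _ hS φ
    exact ⟨hz, FusionSys.mem_normalizer_of_map_characteristic hz⟩
  haveI : Finite ↥(Cfsg.FusionSystem.normalizerIn S ((W ↥S).map S.subtype)) :=
    Cfsg.Agent.FusionSys.finite_of_le (S := S) Cfsg.Agent.FusionSys.normalizerIn_le
  ext z
  constructor
  · intro hz
    obtain ⟨hzT, hzc⟩ := FusionSys.central_of_mem_center hz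
    exact FusionSys.mem_center_of_mem_center_normalizer hW1 hW2 hWZ hgood hS hF hN
      ⟨hzT.1, fun y hy => hzc y (hWn y hy)⟩ hz
  · intro hz
    exact FusionSys.mem_center_normalizerSystem (Subgroup.map_subtype_le _) hN hz
      (hWn z (FusionSys.central_of_mem_center hz).1)

end Cfsg.Agent.S5196
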