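import Cfsg.Statements.S5200
import Cfsg.Agent.H3.NormalCentral.Cases
import Cfsg.Agent.H89.ResidualExtend

set_option autoImplicit false
open Cfsg

namespace Cfsg.Agent.S5200

open Cfsg.FusionSystem Cfsg.Agent.FusionSys Cfsg.Agent.H91.CentFocal
open scoped commutatorElement

/-- Let F be a saturated fusion system over a finite p-group S and E a normal subsystem of F over T whose centralizer in S lies in T: every subgroup Y of C_S(T) such that E is contained in the centralizer fusion system of Y in F satisfies Y ≤ T. Then T·C_S(T)/T is abelian (the commutator subgroup of T·C_S(T) lies in T), and if p is odd then C_S(T) ≤ T. -/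
theorem result {Ω : Type*} [Group Ω] {S : Subgroup Ω} [Finite S] (p : ℕ) [Fact p.Prime] (hS : IsPGroup p S) (F : Cfsg.FusionSystem S) (hF : F.IsSaturated p) {T : Subgroup Ω} (E : Cfsg.FusionSystem T) (hE : E.IsNormalIn F p) (hCE : ∀ Y : Subgroup Ω, Y ≤ Cfsg.FusionSystem.centralizerIn S T → (∀ C : Cfsg.FusionSystem (Cfsg.FusionSystem.centralizerIn S Y), F.IsCentralizerSystem Y C → E.IsSubsystemOf C) → Y ≤ T) : ⁅T ⊔ Cfsg.FusionSystem.centralizerIn S T, T ⊔ Cfsg.FusionSystem.centralizerIn S T⁆ ≤ T ∧ (p ≠ 2 → Cfsg.FusionSystem.centralizerIn S T ≤ T) := by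
  have hT : F.StronglyClosed T := hE.1.2.2.2.1
  have hTS : T ≤ S := hT.1
  set X := Cfsg.FusionSystem.centralizerIn S T with hX
  have hin : ∀ Y : Subgroup Ω, Y ≤ X → (∀ P f, IsMap E P f → ∃ g, IsMap F (P ⊔ Y) g ∧
      (∀ x ∈ P, g x = f x) ∧ ∀ y ∈ Y, g y = y) → Y ≤ T := by
    intro Y hY hext
    refine hCE Y hY fun C hC P φ hφ => ?_
    have hTY : T ≤ Cfsg.FusionSystem.centralizerIn S Y := fun t ht =>
      FusionSys.mem_centralizerIn.2 ⟨hTS ht,
        fun y hy => ((FusionSys.mem_centralizerIn.1 (hY hy)).2 t ht).symm⟩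
    obtain ⟨g, hg, hge, hgY⟩ := hext P _ (isMap_of_mem hφ)
    rw [hC P]
    exact (H91.centralizerHom_iff F).2 ⟨(E.le_of_mem hφ).1.trans hTY,
      fun x => hTY ((E.le_of_mem hφ).2 x), g, hg,
      fun x => (hge x x.2).trans (homFun_coe φ x), hgY⟩
  refine ⟨?_, fun hp2 x hx => ?_⟩
  · have hD := H91.isCentralizerSystem_centSys F hTS
    set D := H91.centSys F hTS
    have hfocX : D.focalSubgroup ≤ X := (Subgroup.closure_le _).2 (by
      rintro _ ⟨A, φ, a, hφ, rfl⟩
      exact X.mul_mem (X.inv_mem ((D.le_of_mem hφ).1 a.2)) ((D.le_of_mem hφ).2 a))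
    have hfoc : D.focalSubgroup ≤ T :=
      hin _ hfocX fun P f hf => exists_fixing hS hF hE hD hf
    have hcomm : ∀ c ∈ X, ∀ d ∈ X, ⁅c, d⁆ ∈ T := by
      intro c hc d hd
      have hm := D.conj_mem (Subgroup.zpowers_le.2 hc) hd
      have := hfoc (Subgroup.subset_closure
        (show (c : Ω)⁻¹ * (d * c * d⁻¹) ∈ _ from ⟨_, _, ⟨c, Subgroup.mem_zpowers c⟩, hm, rfl⟩))
      have h2 := conj_mem_closed hT hc.1 this
      convert T.inv_mem h2 using 1
      rw [commutatorElement_def]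
      group
    rw [Subgroup.commutator_le]
    intro a ha b hb
    have hXT : ∀ c ∈ X, ∀ t ∈ T, t * c = c * t := fun c hc => (FusionSys.mem_centralizerIn.1 hc).2
    obtain ⟨t, ht, c, hc, rfl⟩ := H89.ResidualExtend.exists_decomp hXT ha
    obtain ⟨s, hs, d, hd, rfl⟩ := H89.ResidualExtend.exists_decomp hXT hb
    have e : ⁅t * c, s * d⁆ = ⁅t, s⁆ * ⁅c, d⁆ := by
      have h1 : Commute c s := (hXT c hc s hs).symm
      have h2 : Commute d t := (hXT d hd t ht).symm
      have h3 : Commute t c := hXT c hc t ht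
      have h4 : Commute s d := hXT d hd s hs
      rw [commutatorElement_def, commutatorElement_def, commutatorElement_def, mul_inv_rev, mul_inv_rev]
      calc t * c * (s * d) * (c⁻¹ * t⁻¹) * (d⁻¹ * s⁻¹)
          = t * (c * s) * d * c⁻¹ * t⁻¹ * d⁻¹ * s⁻¹ := by group
        _ = t * (s * c) * d * c⁻¹ * t⁻¹ * d⁻¹ * s⁻¹ := by rw [h1.eq]
        _ = t * s * (c * d * c⁻¹) * t⁻¹ * d⁻¹ * s⁻¹ := by group
        _ = t * s * ((c * d * c⁻¹) * t⁻¹) * d⁻¹ * s⁻¹ := by group
        _ = t * s * (t⁻¹ * (c * d * c⁻¹)) * d⁻¹ * s⁻¹ := by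
          rw [((h3.symm.mul_left h2).mul_left h3.symm.inv_left).inv_right.eq]
        _ = t * s * t⁻¹ * ((c * d * c⁻¹ * d⁻¹) * s⁻¹) := by group
        _ = t * s * t⁻¹ * (s⁻¹ * (c * d * c⁻¹ * d⁻¹)) := by
          rw [(((h1.mul_left h4.symm).mul_left h1.inv_left).mul_left h4.symm.inv_left).inv_right.eq]
        _ = t * s * t⁻¹ * s⁻¹ * (c * d * c⁻¹ * d⁻¹) := by group
    rw [e]
    refine T.mul_mem ?_ (hcomm c hc d hd)
    rw [commutatorElement_def]
    exact T.mul_mem (T.mul_mem (T.mul_mem ht hs) (T.inv_mem ht)) (T.inv_mem hs)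
  · obtain ⟨v, hv, hgood⟩ := H3.NormalCentral.exists_good hT hx hS hF hE hp2
    have hle : Subgroup.zpowers (x * v) ≤ T := by
      refine hin _ (Subgroup.zpowers_le.2 hgood.1) fun P f hf => ?_
      obtain ⟨g, hg, hge, hgx⟩ := hgood.2 P f hf
      exact ⟨g, hg, hge, fun y hy =>
        H91.CentSE.fix_zpowers hg (Subgroup.mem_sup_right (Subgroup.mem_zpowers _)) hgx hy⟩
    have := T.mul_mem (hle (Subgroup.mem_zpowers _)) (T.inv_mem hv)
    rwa [mul_inv_cancel_right] at this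

end Cfsg.Agent.S5200
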