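import Cfsg.Statements.S5204
import Cfsg.Agent.FusionSys.InnerControl
import Cfsg.Agent.Thompson.NormalPComplement

set_option autoImplicit false
open Cfsg

namespace Cfsg.Agent.S5204

/-- The Glauberman–Thompson normal p-complement criterion for fusion systems, p odd. Let F be a saturated fusion system over a finite p-group S with p odd, and let Z(J(S)) be the centre of the subgroup generated by the abelian subgroups of S of largest order. Then F is the inner fusion system of S if and only if the normalizer fusion system of Z(J(S)) in F is the inner fusion system of N_S(Z(J(S))) = S. -/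
theorem result {Ω : Type*} [Group Ω] {S : Subgroup Ω} [Finite S] (p : ℕ) [Fact p.Prime] (hS : IsPGroup p S) (F : Cfsg.FusionSystem S) (hF : F.IsSaturated p) (hp : p ≠ 2) : (∀ P : Subgroup Ω, F.Hom P = (Cfsg.innerFusionSystem S).Hom P) ↔ ∀ N : Cfsg.FusionSystem (Cfsg.FusionSystem.normalizerIn S (Cfsg.centerThompsonAOf S)), F.IsNormalizerSystem (Cfsg.centerThompsonAOf S) N → ∀ P : Subgroup Ω, N.Hom P = (Cfsg.innerFusionSystem (Cfsg.FusionSystem.normalizerIn S (Cfsg.centerThompsonAOf S))).Hom P := by
  have hmap : ∀ {G : Type _} [Group G] (P : Subgroup G),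
      (Agent.Thompson.zjay 0 (⊤ : Subgroup P)).map P.subtype = Agent.Thompson.zjay 0 P := fun P => by
    rw [← Agent.Thompson.zjay_map P.subtype P.subtype_injective, ← MonoidHom.range_eq_map, Subgroup.range_subtype]
  refine Agent.FusionSys.inner_iff_normalizerSystem_inner (p := p)
    (W := fun Q _ => Agent.Thompson.zjay 0 (⊤ : Subgroup Q))
    (fun Q _ _ hQ hne => Agent.Thompson.zjay_ne_bot (hQ.to_subgroup _) top_ne_bot (.inl rfl))
    (fun Q R _ _ _ _ φ => ?_) (fun G _ _ P h => ?_) hS hF
    ((hmap S).trans (Agent.Thompson.centerThompsonAOf_eq S).symm)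
  · rw [← Agent.Thompson.zjay_map φ.toMonoidHom φ.injective,
      Subgroup.map_top_of_surjective _ φ.surjective]
  · rw [hmap] at h
    exact (Agent.Thompson.hasNormalPComplement_iff_zjay hp (.inl rfl) P).2 h

end Cfsg.Agent.S5204
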