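import Cfsg.Statements.S5212
import Cfsg.Agent.H49.SupersolubleTwo
-- import your own Cfsg.Agent.* helpers here

set_option autoImplicit false
open Cfsg

namespace Cfsg.Agent.S5212

/-- Let S be a finite metacyclic 2-group that is not homocyclic abelian (a direct product of cyclic groups of one common order), not dihedral, not semidihedral and not generalized quaternion. Then every saturated fusion system over S is the inner fusion system of S. -/
theorem result {Ω : Type*} [Group Ω] {S : Subgroup Ω} [Finite S] (hS : IsPGroup 2 S) (F : Cfsg.FusionSystem S) (hF : F.IsSaturated 2) (hm : Cfsg.IsMetacyclic ↥S) (hh : ¬ ∃ n k : ℕ, Nonempty (↥S ≃* Multiplicative (Fin k → ZMod (2 ^ n)))) (hd : ¬ ∃ m : ℕ, Nonempty (↥S ≃* DihedralGroup m)) (hq : ¬ ∃ m : ℕ, Nonempty (↥S ≃* QuaternionGroup m)) (hsd : ¬ Cfsg.IsQuasiDihedral ↥S) : ∀ P : Subgroup Ω, F.Hom P = (Cfsg.innerFusionSystem S).Hom P := by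
  haveI : Fact (Nat.Prime 2) := ⟨Nat.prime_two⟩
  have hne : ¬ ((∃ n : ℕ, 0 < n ∧ Nonempty (↥S ≃* Multiplicative (ZMod (2 ^ n)) × Multiplicative (ZMod (2 ^ n)))) ∨
      (2 = 2 ∧ ((∃ n : ℕ, 2 ≤ n ∧ Nonempty (↥S ≃* DihedralGroup n)) ∨ Cfsg.IsQuasiDihedral ↥S ∨
        (∃ n : ℕ, 2 ≤ n ∧ Nonempty (↥S ≃* QuaternionGroup n))))) := by
    rintro (⟨n, -, ⟨e⟩⟩ | ⟨-, ⟨n, -, h⟩ | h | ⟨n, -, h⟩⟩)
    · refine hh ⟨n, 2, ⟨e.trans ?_⟩⟩
      exact (MulEquiv.prodMultiplicative _ _).symm.trans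
        (AddEquiv.toMultiplicative
          { toEquiv := (piFinTwoEquiv fun _ => ZMod (2 ^ n)).symm
            map_add' := fun a b => funext fun j => by fin_cases j <;> rfl })
    · exact hd ⟨n, h⟩
    · exact hsd h
    · exact hq ⟨n, h⟩
  obtain ⟨m, c, h0, h1, h2, h3⟩ := (H90.MetaSS.main hS hm).2 hne F hF
  intro P
  rw [H49.eq_inner_of_supersoluble hS hF c h0 h1 h2 h3]

end Cfsg.Agent.S5212
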