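import Cfsg.Statements.S5214
import Cfsg.Agent.S1137
import Cfsg.Agent.S1138
import Cfsg.Agent.H90.Supersoluble

set_option autoImplicit false
open Cfsg

namespace Cfsg.Agent.S5214

/-- Let S be a Suzuki 2-group (a finite nonabelian 2-group with more than one involution admitting a cyclic group of automorphisms permuting its involutions regularly). Then S is normal in every saturated fusion system over S (such a group is resistant). -/
theorem result {Ω : Type*} [Group Ω] {S : Subgroup Ω} [Finite S] (hS : IsPGroup 2 S) (F : Cfsg.FusionSystem S) (hF : F.IsSaturated 2) (hsz : Cfsg.IsSuzukiTwoGroup ↥S) : F.IsNormal S := by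
  open Cfsg.Agent.H90 in
  haveI : Fact (Nat.Prime 2) := ⟨Nat.prime_two⟩
  obtain ⟨hinv, hz2⟩ := S1137.result hsz
  obtain ⟨-, hcomm, -, -⟩ := S1138.result hsz
  set Z : Subgroup Ω := (Subgroup.center ↥S).map S.subtype
  have hSS : F.StronglyClosed S := ⟨le_rfl, fun R _ φ hφ x => (F.le_of_mem hφ).2 x⟩
  have hZS : Z ≤ S := Subgroup.map_subtype_le _
  have hZmem : ∀ x : ↥S, x * x = 1 → (x : Ω) ∈ Z := by
    intro x hx
    by_cases h1 : x = 1
    · rw [h1]
      exact Z.one_mem
    exact ⟨x, ((hinv x).1 ⟨h1, hx⟩).1, rfl⟩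
  have hZsc : F.StronglyClosed Z := by
    refine ⟨hZS, fun R hR φ hφ x => ?_⟩
    obtain ⟨z, hz, hzx⟩ := hR x.2
    have hxx : x * x = 1 := by
      refine Subtype.ext ?_
      show (x : Ω) * x = 1
      rw [← hzx]
      exact congrArg Subtype.val (hz2 z hz)
    refine hZmem ⟨φ x, (F.le_of_mem hφ).2 x⟩ (Subtype.ext ?_)
    show φ x * φ x = 1
    rw [← map_mul, hxx, map_one]
  refine isNormal_of_series hS hF hSS (fun i => if i = 0 then ⊥ else if i = 1 then Z else S) 2
    (by simp) (by simp) (monotone_nat_of_le_succ fun i => ?_) (fun i hi => ?_) fun i hi => ?_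
  · rcases i with _ | _ | i
    · simp
    · simp [hZS]
    · simp
  · interval_cases i
    · simp only [zero_add, one_ne_zero, if_false, if_true, le_bot_iff]
      rw [Subgroup.commutator_eq_bot_iff_le_centralizer]
      rintro _ ⟨z, hz, rfl⟩ y hy
      exact congrArg Subtype.val (Subgroup.mem_center_iff.1 hz ⟨y, hy⟩)
    · simp only [one_ne_zero, if_false, if_true, show ¬ (1 + 1 = 0) by omega, show ¬ (1 + 1 = 1) by omega]
      rw [Subgroup.commutator_le]
      intro a ha b hb
      refine ⟨(⟨a, ha⟩ : ↥S) * ⟨b, hb⟩ * ⟨a, ha⟩⁻¹ * ⟨b, hb⟩⁻¹, ?_, rfl⟩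
      have := hcomm (⟨a, ha⟩ : ↥S)⁻¹ (⟨b, hb⟩ : ↥S)⁻¹
      rwa [inv_inv, inv_inv] at this
  · interval_cases i
    · simp only [if_true]
      exact ⟨bot_le, fun φ hφ => eq_bot_iff.2 (by
        rintro _ ⟨x, rfl⟩
        exact (strongly_bot F).2 _ le_rfl φ hφ x)⟩
    · simp only [one_ne_zero, if_false, if_true]
      refine ⟨hZS, fun φ hφ => eq_of_le_card hZS ?_ (card_range_eq F hφ).ge⟩
      rintro _ ⟨x, rfl⟩
      exact hZsc.2 Z le_rfl φ hφ x

end Cfsg.Agent.S5214
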