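import Cfsg.Statements.S5219
import Cfsg.Agent.H90.Agemo

set_option autoImplicit false
open Cfsg
open scoped commutatorElement

namespace Cfsg.Agent.S5219

/-- Let p be a prime, n a natural number, S a nontrivial finite p-group of nilpotence class at most n(p−1)+1, and F a saturated fusion system over S with no nontrivial normal subgroup (O_p(F) = 1). Then S has exponent dividing p^(n²(p−1)+n). -/
theorem result {Ω : Type*} [Group Ω] {S : Subgroup Ω} [Finite S] (p : ℕ) [Fact p.Prime] (hS : IsPGroup p S) (F : Cfsg.FusionSystem S) (hF : F.IsSaturated p) (n : ℕ) (hS1 : S ≠ ⊥) (hcl : Subgroup.lowerCentralSeries S (n * (p - 1) + 1) = ⊥) (hcore : F.core = ⊥) : Monoid.exponent ↥S ∣ p ^ (n ^ 2 * (p - 1) + n) := by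
  have hN := Cfsg.Agent.H90.isNormal_powerClosure_center hS hF hcl
  have hbot : Cfsg.powerClosure p n (S ⊓ Subgroup.centralizer (S : Set Ω)) = ⊥ :=
    le_bot_iff.1 (hcore ▸ le_sSup hN)
  have hZ : ∀ x : ↥S, x ∈ Subgroup.center ↥S → x ^ p ^ n = 1 := fun x hx => by
    have h : ((x : Ω)) ^ p ^ n ∈ Cfsg.powerClosure p n (S ⊓ Subgroup.centralizer (S : Set Ω)) :=
      Subgroup.subset_closure ⟨x, ⟨x.2, Subgroup.mem_centralizer_iff.2 fun y hy =>
        congrArg Subtype.val (Subgroup.mem_center_iff.1 hx ⟨y, hy⟩)⟩, rfl⟩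
    rw [hbot, Subgroup.mem_bot] at h
    exact Subtype.ext h
  have key : ∀ (i : ℕ) (x : ↥S), x ∈ Subgroup.upperCentralSeries ↥S (i + 1) →
      x ^ p ^ n ∈ Subgroup.upperCentralSeries ↥S i := by
    intro i
    induction i with
    | zero =>
      intro x hx
      rw [Subgroup.upperCentralSeries_one] at hx
      simp [hZ x hx]
    | succ i ih =>
      intro x hx
      show x ^ p ^ n ∈ Subgroup.upperCentralSeriesStep (Subgroup.upperCentralSeries ↥S i)
      intro y
      have hc : ⁅x, y⁆ ∈ Subgroup.upperCentralSeries ↥S (i + 1) :=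
        (show x ∈ Subgroup.upperCentralSeriesStep (Subgroup.upperCentralSeries ↥S (i + 1)) from hx) y
      have hc' : ∀ z, ⁅⁅x, y⁆, z⁆ ∈ Subgroup.upperCentralSeries ↥S i := hc
      have hm := ih _ hc
      let π := QuotientGroup.mk' (Subgroup.upperCentralSeries ↥S i)
      have hcz : ∀ z, Commute (π ⁅x, y⁆) (π z) := fun z => by
        rw [← commutatorElement_eq_one_iff_commute, ← map_commutatorElement]
        exact (QuotientGroup.eq_one_iff _).2 (hc' z)
      have hpow : ∀ m : ℕ, π ⁅x ^ m, y⁆ = π ⁅x, y⁆ ^ m := by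
        intro m
        induction m with
        | zero => simp
        | succ m ihm =>
          rw [pow_succ', show ⁅x * x ^ m, y⁆ = x * ⁅x ^ m, y⁆ * x⁻¹ * ⁅x, y⁆ by
            simp [commutatorElement_def, mul_assoc], map_mul, map_mul, map_mul, ihm,
            ← ((hcz x).pow_left m).eq, map_inv, mul_inv_cancel_right, pow_succ]
      rw [← QuotientGroup.eq_one_iff]
      show π ⁅x ^ p ^ n, y⁆ = 1
      rw [hpow, ← map_pow]
      exact (QuotientGroup.eq_one_iff _).2 hm
  have key2 : ∀ (i : ℕ) (x : ↥S), x ∈ Subgroup.upperCentralSeries ↥S i → x ^ p ^ (n * i) = 1 := by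
    intro i
    induction i with
    | zero => intro x hx; rw [Subgroup.upperCentralSeries_zero, Subgroup.mem_bot] at hx; simp [hx]
    | succ i ih =>
      intro x hx
      rw [Nat.mul_succ, add_comm, pow_add, pow_mul]
      exact ih _ (key i x hx)
  have htop : Subgroup.upperCentralSeries ↥S (n * (p - 1) + 1) = ⊤ := by
    rw [← Subgroup.lowerCentralSeries_eq_bot_iff_upperCentralSeries_eq_top,
      ← Subgroup.map_eq_bot_iff_of_injective _ S.subtype_injective,
      Subgroup.top_subtype_lowerCentralSeries]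
    exact hcl
  refine Monoid.exponent_dvd_of_forall_pow_eq_one fun x => ?_
  rw [show n ^ 2 * (p - 1) + n = n * (n * (p - 1) + 1) by ring]
  exact key2 _ x (htop ▸ trivial)

end Cfsg.Agent.S5219
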