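import Cfsg.Statements.S5222
import Cfsg.Agent.H90.AboveCommutator
open scoped commutatorElement

set_option autoImplicit false
open Cfsg

namespace Cfsg.Agent.S5222

/-- Let F be a saturated fusion system over a finite p-group S whose normalizer fusion system of S is the inner fusion system of S (Aut_F(S) is a p-group). Then for every subgroup Q of S with [S, S] ≤ Q ≤ Φ(S), the normalizer fusion system of Q in F is the inner fusion system of N_S(Q) = S. -/
theorem result {Ω : Type*} [Group Ω] {S : Subgroup Ω} [Finite S] (p : ℕ) [Fact p.Prime] (hS : IsPGroup p S) (F : Cfsg.FusionSystem S) (hF : F.IsSaturated p) (hN : ∀ N : Cfsg.FusionSystem (Cfsg.FusionSystem.normalizerIn S S), F.IsNormalizerSystem S N → ∀ P : Subgroup Ω, N.Hom P = (Cfsg.innerFusionSystem (Cfsg.FusionSystem.normalizerIn S S)).Hom P) (Q : Subgroup Ω) (h1 : (commutator ↥S).map S.subtype ≤ Q) (h2 : Q ≤ (frattini ↥S).map S.subtype) : ∀ N : Cfsg.FusionSystem (Cfsg.FusionSystem.normalizerIn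 S Q), F.IsNormalizerSystem Q N → ∀ P : Subgroup Ω, N.Hom P = (Cfsg.innerFusionSystem (Cfsg.FusionSystem.normalizerIn S Q)).Hom P := by
  intro N hNQ P
  have hSQ : ⁅S, S⁆ ≤ Q := by
    rwa [commutator_def, Subgroup.map_commutator, ← MonoidHom.range_eq_map,
      Subgroup.range_subtype] at h1
  have hQS : Q ≤ S := h2.trans (Subgroup.map_subtype_le _)
  have hQn : ∀ g ∈ S, ∀ x ∈ Q, g * x * g⁻¹ ∈ Q := fun g hg x hx =>
    H90.conj_mem_of_le hSQ le_rfl hQS hg hx
  have htop := fun φ (hφ : φ ∈ F.Hom S) => H90.top_inner_of_normalizer hN hφ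
  set G := H90.normExtSystem F hQS hQn
  have hG : G.IsSaturated p := H90.normExtSystem_isSaturated hS hF htop hQS hSQ hQn
  have hsc : G.StronglyClosed Q := by
    refine ⟨hQS, fun R hR φ hφ x => ?_⟩
    obtain ⟨-, ψ, -, he, hm⟩ := hφ
    rw [← he x]
    exact hm ⟨x, hR x.2⟩
  have hfoc : G.focalSubgroup ≤ (frattini ↥S).map S.subtype :=
    (H90.focal_le_of_stronglyClosed hS hG hsc hSQ fun φ hφ x => by
      obtain ⟨g, hg, hh⟩ := htop φ hφ.1
      rw [hh x, show (x : Ω)⁻¹ * (g * x * g⁻¹) = ⁅(x : Ω)⁻¹, g⁆ by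
        rw [commutatorElement_def]; group]
      exact hSQ (Subgroup.commutator_mem_commutator (S.inv_mem x.2) hg)).trans h2
  have hinner := H90.inner_of_focal_le hS hG hfoc P
  have hNS : Cfsg.FusionSystem.normalizerIn S Q = S := H90.normalizerIn_eq_top_of_le hSQ le_rfl hQS
  ext φ
  rw [hNQ P, H90.mem_normalizerHom_iff F hQS]
  constructor
  · rintro ⟨hφ, hPn, -, hext⟩
    have h : φ ∈ G.Hom P := ⟨hφ, hext⟩
    rw [hinner] at h
    obtain ⟨-, g, hg, hh⟩ := h
    exact ⟨hPn, g, hNS.ge hg, hh⟩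
  · rintro ⟨hP, g, hg, hh⟩
    have h : φ ∈ G.Hom P := by
      rw [hinner]
      exact ⟨hP.trans inf_le_left, g, hg.1, hh⟩
    exact ⟨h.1, hP, fun x => hNS.ge ((F.le_of_mem h.1).2 x), h.2⟩

end Cfsg.Agent.S5222
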