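import Cfsg.Statements.S5223
import Cfsg.Agent.H90.Normal

set_option autoImplicit false
open Cfsg

namespace Cfsg.Agent.S5223

/-- Let F be a saturated fusion system over a finite p-group S. Suppose there are subgroups Q₀ = S, Q₁, …, Qₙ = 1 (not required to be nested) such that for each i < n the focal subgroup of Qᵢ (generated by the elements x⁻¹φ(x), x ∈ Qᵢ, φ a map of F defined on the cyclic group generated by x) lies in Qᵢ₊₁. Then F is the inner fusion system of S. -/
theorem result {Ω : Type*} [Group Ω] {S : Subgroup Ω} [Finite S] (p : ℕ) [Fact p.Prime] (hS : IsPGroup p S) (F : Cfsg.FusionSystem S) (hF : F.IsSaturated p) (n : ℕ) (Q : Fin (n + 1) → Subgroup Ω) (hQ0 : Q 0 = S) (hQn : Q (Fin.last n) = ⊥) (hstep : ∀ i : Fin n, Subgroup.closure {y : Ω | ∃ x ∈ Q i.castSucc, ∃ φ ∈ F.Hom (Subgroup.zpowers x), y = x⁻¹ * φ ⟨x, Subgroup.mem_zpowers x⟩} ≤ Q i.succ) : ∀ P : Subgroup Ω, F.Hom P = (Cfsg.innerFusionSystem S).Hom P := by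
  refine Cfsg.Agent.H90.eq_inner_of_autGroup_isPGroup hS hF fun R hR => ?_
  have := Cfsg.Agent.H90.finite_le hR
  refine Cfsg.Agent.H90.isPGroup_of_coprime_eq_one fun α hα => ?_
  have hhom := Cfsg.Agent.H90.hom_of_aut_mem F hR α.2
  suffices H : ∀ (k : ℕ) (hk : k ≤ n) (x : ↥R),
      (x : Ω) ∈ Q ⟨n - k, by omega⟩ → (α : MulAut ↥R) x = x from
    Subtype.ext (MulEquiv.ext fun x => H n le_rfl x (by simpa [hQ0] using hR x.2))
  intro k
  induction k with
  | zero =>
    intro _ x hx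
    rw [show (⟨n - 0, by omega⟩ : Fin (n + 1)) = Fin.last n from Fin.ext (by simp), hQn,
      Subgroup.mem_bot] at hx
    rw [show x = 1 from Subtype.ext hx, map_one]
  | succ k ih =>
    intro hk x hx
    refine Cfsg.Agent.H90.fix_of_fix_diff (hS.to_le hR) _ ?_ x (ih (by omega) _ ?_)
    · rwa [Subgroup.orderOf_coe]
    · have hz : Subgroup.zpowers (x : Ω) ≤ R := Subgroup.zpowers_le.2 x.2
      have := hstep ⟨n - (k + 1), by omega⟩ (Subgroup.subset_closure
        ⟨(x : Ω), hx, _, Cfsg.Agent.H90.res_mem F hhom hz, rfl⟩)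
      rw [show (⟨n - (k + 1), by omega⟩ : Fin n).succ = ⟨n - k, by omega⟩ from
        Fin.ext (by simp; omega)] at this
      exact this

end Cfsg.Agent.S5223
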