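import Cfsg.Statements.S5224
import Cfsg.Agent.H90.Tate

set_option autoImplicit false
open Cfsg

namespace Cfsg.Agent.S5224

/-- Tate's Theorem for fusion systems. Let F be a saturated fusion system over a finite p-group S and H a saturated fusion system over S contained in F. Then the following are equivalent: the elementary focal subgroups Φ(S)·foc agree for F and H; the focal subgroups of F and H agree; the hyperfocal subgroups of F and H agree. -/
theorem result {Ω : Type*} [Group Ω] {S : Subgroup Ω} [Finite S] (p : ℕ) [Fact p.Prime] (hS : IsPGroup p S) (F : Cfsg.FusionSystem S) (hF : F.IsSaturated p) (H : Cfsg.FusionSystem S) (hH : H.IsSaturated p) (hHF : H.IsSubsystemOf F) : (((frattini ↥S).map S.subtype ⊔ F.focalSubgroup) = ((frattini ↥S).map S.subtype ⊔ H.focalSubgroup) ↔ F.focalSubgroup = H.focalSubgroup) ∧ (F.focalSubgroup = H.focalSubgroup ↔ F.hyperfocalSubgroup p = H.hyperfocalSubgroup p) := by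
  have e1 : F.hyperfocalSubgroup p = H.hyperfocalSubgroup p → F.focalSubgroup = H.focalSubgroup :=
    fun h => by rw [H90.focal_eq hS hF, H90.focal_eq hS hH, h]
  have e2 : (frattini ↥S).map S.subtype ⊔ F.focalSubgroup =
      (frattini ↥S).map S.subtype ⊔ H.focalSubgroup →
      F.hyperfocalSubgroup p = H.hyperfocalSubgroup p := by
    intro h
    refine H90.hyp_eq_of_le_sup hS hF (fun g hg y hy => H90.hyp_conj H p hg hy)
      (H90.hyp_mono hHF p) ?_
    refine ((H90.hyp_le_focal F p).trans le_sup_right).trans (h.le.trans ?_)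
    rw [H90.focal_eq hS hH]
    exact sup_le le_sup_left
      (sup_le le_sup_right ((H90.commutator_le_frattini_map hS).trans le_sup_left))
  exact ⟨⟨fun h => e1 (e2 h), fun h => by rw [h]⟩,
    ⟨fun h => e2 (by rw [h]), e1⟩⟩

end Cfsg.Agent.S5224
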