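import Cfsg.Statements.S5233
import Cfsg.Agent.H90.GenExtraspecial
import Cfsg.Agent.H92.ExtraIso
open scoped commutatorElement

set_option autoImplicit false
open Cfsg

namespace Cfsg.Agent.S5233

/-- Let F be a saturated fusion system over a finite p-group S and P a subgroup of S strongly closed in F that is generalized extraspecial (its Frattini subgroup equals its commutator subgroup and has order p) and not isomorphic to E × A with A elementary abelian and E dihedral of order 8 (p = 2) or extraspecial of order p³ and exponent p (p odd). Then P is normal in F. -/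
theorem result {Ω : Type*} [Group Ω] {S : Subgroup Ω} [Finite S] (p : ℕ) [Fact p.Prime] (hS : IsPGroup p S) (F : Cfsg.FusionSystem S) (hF : F.IsSaturated p) (P : Subgroup Ω) (hP : F.StronglyClosed P) (hge : frattini ↥P = commutator ↥P ∧ Nat.card ↥(commutator ↥P) = p) (h2 : p = 2 → ¬ ∃ (A : Type) (_ : CommGroup A), (∀ a : A, a ^ 2 = 1) ∧ Nonempty (↥P ≃* DihedralGroup 4 × A)) (hodd : p ≠ 2 → ¬ ∃ (E : Type) (_ : Group E) (A : Type) (_ : CommGroup A), Cfsg.IsExtraspecial p E ∧ Nat.card E = p ^ 3 ∧ Monoid.exponent E = p ∧ (∀ a : A, a ^ p = 1) ∧ Nonempty (↥P ≃* E × A)) : F.IsNormal P := by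
  haveI := H90.finite_le hP.1
  have hPp : IsPGroup p ↥P := hS.to_le hP.1
  refine H90.isNormal_genExtraspecial hS hF hP hge.1 hge.2 ?_
  intro M x w hMc hMe hZM hw hxw hgen
  have hpow : ∀ g : ↥P, g ^ p ∈ commutator ↥P := fun g =>
    hge.1 ▸ PGroups.pow_mem_frattini hPp g
  obtain ⟨E, A, hxE, hwE, -, hAe, hAc, hEcard, ⟨e⟩, hextra⟩ :=
    H90.exists_split hPp hge.2 hpow M hMc hMe hZM hw hxw hgen
  haveI : Small.{0} ↥A := Countable.toSmall _
  haveI : Small.{0} ↥E := Countable.toSmall _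
  letI : CommGroup ↥A := { (inferInstance : Group ↥A) with mul_comm := hAc.1.1 }
  have hA' : ∀ a : Shrink.{0} ↥A, a ^ p = 1 := fun a => by
    apply (Shrink.mulEquiv (α := ↥A)).injective
    rw [map_pow, map_one]
    exact Subtype.ext (by simpa using hAe _ ((Shrink.mulEquiv (α := ↥A)) a).2)
  by_cases hp2 : p = 2
  · exfalso
    subst hp2
    have hsq : ∀ d ∈ commutator ↥P, d ≠ 1 → ∀ c ∈ commutator ↥P, c ≠ 1 → d = c := by
      intro d hd hd1 c hc hc1
      have hz := PGroups.zpowers_eq_of_card_eq hge.2 hc hc1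
      rw [← hz] at hd
      obtain ⟨n, rfl⟩ := (Submonoid.mem_powers_iff _ _).1
        ((isOfFinOrder_of_finite c).mem_powers_iff_mem_zpowers.2 hd)
      obtain ⟨q, rfl | rfl⟩ := Nat.even_or_odd' n
      · exact absurd (by rw [pow_mul, hMe c (hZM hc), one_pow]) hd1
      · rw [pow_succ, pow_mul, hMe c (hZM hc), one_pow, one_mul]
    have hcZ : ∀ a b : ↥P, ⁅a, b⁆ ∈ commutator ↥P := fun a b =>
      Subgroup.commutator_mem_commutator trivial trivial
    obtain ⟨r, hrE, hr2, hrw⟩ : ∃ r ∈ E, r ^ 2 ≠ 1 ∧ ⁅r, w⁆ ≠ 1 := by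
      by_cases hx2 : x ^ 2 = 1
      · refine ⟨x * w, E.mul_mem hxE hwE, ?_, ?_⟩
        · have hx : x⁻¹ = x := inv_eq_of_mul_eq_one_right (by rw [← pow_two, hx2])
          have hw' : w⁻¹ = w := inv_eq_of_mul_eq_one_right (by rw [← pow_two, hMe w hw])
          rw [show (x * w) ^ 2 = ⁅x, w⁆ by rw [commutatorElement_def, hx, hw', pow_two]; simp only [mul_assoc]]
          exact hxw
        · rwa [show ⁅x * w, w⁆ = ⁅x, w⁆ by rw [commutatorElement_def, commutatorElement_def]; group]
      · exact ⟨x, hxE, hx2, hxw⟩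
    have hcen : commutator ↥P ≤ Subgroup.center ↥P :=
      PGroups.le_center_of_card_eq hPp _ hge.2
    have hr4 : r ^ 4 = 1 := by
      rw [show (4 : ℕ) = 2 * 2 from rfl, pow_mul]
      exact hMe _ (hZM (hpow r))
    have hord : orderOf r = 4 := by
      have := orderOf_eq_prime_pow (p := 2) (n := 1) (x := r) (by simpa using hr2) (by simpa using hr4)
      simpa using this
    have hconj : w * r * w⁻¹ = r⁻¹ := by
      have h1 : ⁅w, r⁆ = r ^ 2 := hsq _ (hcZ w r) (fun h => hrw (by
        rw [← commutatorElement_inv, h, inv_one])) _ (hpow r) hr2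
      rw [show w * r * w⁻¹ = ⁅w, r⁆ * r by rw [commutatorElement_def]; group, h1, ← pow_succ]
      exact eq_inv_of_mul_eq_one_left (by rw [← pow_succ]; exact hr4)
    obtain ⟨fD⟩ := PGroups.nonempty_mulEquiv_dihedral (G := ↥E) (n := 4) (c := ⟨r, hrE⟩)
      (y := ⟨w, hwE⟩) (by rw [← hord]; exact (orderOf_injective E.subtype E.subtype_injective _).symm)
      (fun hy => by
        obtain ⟨i, hi⟩ := Subgroup.mem_zpowers_iff.1 hy
        have hi' : r ^ i = w := congrArg Subtype.val hi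
        refine hrw (commutatorElement_eq_one_iff_mul_comm.2 ?_)
        rw [← hi']
        exact (Commute.self_zpow r i).eq)
      (Subtype.ext (by simpa using hMe w hw)) (Subtype.ext hconj) (by rw [hEcard]; norm_num)
    exact h2 rfl ⟨Shrink.{0} ↥A, inferInstance, hA',
      ⟨e.symm.trans (MulEquiv.prodCongr fD Shrink.mulEquiv.symm)⟩⟩
  · refine ⟨hp2, fun hx => ?_⟩
    obtain ⟨hEx, hexp⟩ := hextra hx hp2
    refine hodd hp2 ⟨Shrink.{0} ↥E, inferInstance, Shrink.{0} ↥A, inferInstance, ?_, ?_, ?_, hA',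
      ⟨e.symm.trans (MulEquiv.prodCongr Shrink.mulEquiv.symm Shrink.mulEquiv.symm)⟩⟩
    · exact H92.isExtraspecial_of_mulEquiv (Shrink.mulEquiv (α := ↥E)).symm hEx
    · rw [← Nat.card_congr (Shrink.mulEquiv (α := ↥E)).symm.toEquiv, hEcard]
    · rw [← Monoid.exponent_eq_of_mulEquiv (Shrink.mulEquiv (α := ↥E)).symm, hexp]

end Cfsg.Agent.S5233
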