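import Cfsg.Statements.S5236
import Cfsg.Agent.H90.Normal
import Cfsg.Agent.H90.Odd

set_option autoImplicit false
open Cfsg
open scoped commutatorElement

namespace Cfsg.Agent.S5236

/-- Let p be an odd prime, F a saturated fusion system over a finite p-group S and P a subgroup of S strongly closed in F. Then P is normal in F if and only if Ω₁(P) (the subgroup generated by the elements of order p of P) has a chain of subgroups 1 = Q₀ ≤ Q₁ ≤ ⋯ ≤ Qₙ = Ω₁(P), each strongly closed in F, with [Qᵢ₊₁, P] ≤ Qᵢ for all i. -/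
theorem result {Ω : Type*} [Group Ω] {S : Subgroup Ω} [Finite S] (p : ℕ) [Fact p.Prime] (hS : IsPGroup p S) (F : Cfsg.FusionSystem S) (hF : F.IsSaturated p) (hp : p ≠ 2) (P : Subgroup Ω) (hP : F.StronglyClosed P) : F.IsNormal P ↔ ∃ (n : ℕ) (Q : Fin (n + 1) → Subgroup Ω), Q 0 = ⊥ ∧ Q (Fin.last n) = Cfsg.omegaOne p P ∧ Monotone Q ∧ (∀ i : Fin (n + 1), F.StronglyClosed (Q i)) ∧ ∀ i : Fin n, ⁅Q i.succ, P⁆ ≤ Q i.castSucc := by
  classical
  constructor
  · intro hN
    let J : ℕ → Subgroup Ω := fun k => (fun A => ⁅A, P⁆)^[k] (Cfsg.omegaOne p P)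
    have hJ : ∀ k, J (k + 1) = ⁅J k, P⁆ := fun k => Function.iterate_succ_apply' _ _ _
    have hΩn : ∀ g ∈ P, ∀ x ∈ Cfsg.omegaOne p P, g * x * g⁻¹ ∈ Cfsg.omegaOne p P := by
      intro g hg x hx
      have h : (Cfsg.omegaOne p P).map (MulAut.conj g).toMonoidHom ≤ Cfsg.omegaOne p P := by
        unfold Cfsg.omegaOne
        rw [MonoidHom.map_closure]
        refine Subgroup.closure_mono ?_
        rintro _ ⟨z, ⟨hz, hzp⟩, rfl⟩
        exact ⟨P.mul_mem (P.mul_mem hg hz) (P.inv_mem hg), by rw [← map_pow, hzp, map_one]⟩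
      exact h ⟨x, hx, rfl⟩
    have hanti : ∀ k, J (k + 1) ≤ J k := by
      intro k
      induction k with
      | zero =>
        rw [hJ]
        refine Subgroup.commutator_le.2 fun a ha b hb => ?_
        have := (Cfsg.omegaOne p P).mul_mem ha (hΩn b hb a⁻¹ (inv_mem ha))
        simpa [commutatorElement_def, mul_assoc, J] using this
      | succ k ih =>
        rw [hJ (k + 1)]
        nth_rw 2 [hJ k]
        exact Subgroup.commutator_mono ih le_rfl
    have hJP : ∀ k, J k ≤ Subgroup.lowerCentralSeries P k := by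
      intro k
      induction k with
      | zero => exact (Subgroup.closure_le _).2 fun z hz => hz.1
      | succ k ih => rw [hJ]; exact Subgroup.commutator_mono ih le_rfl
    obtain ⟨n, hn⟩ : ∃ n, Subgroup.lowerCentralSeries P n = ⊥ := by
      have := Cfsg.Agent.H90.finite_le hP.1
      have : Group.IsNilpotent ↥P := (hS.to_le hP.1).isNilpotent
      exact (Subgroup.isNilpotent_iff_lowerCentralSeries P).1 inferInstance
    have hJle : ∀ k, J k ≤ P := fun k => (hJP k).trans (Subgroup.lowerCentralSeries_le_self P k)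
    have hclosed : ∀ k, F.StronglyClosed (J k) := by
      intro k
      refine ⟨(hJle k).trans hP.1, fun R hR φ hφ x => ?_⟩
      obtain ⟨ψ, hψ, he, hm⟩ := ((Cfsg.Agent.H90.isNormal_iff_normExt F).1 hN).2 R φ hφ
      set f := Cfsg.Agent.H90.res ψ (le_sup_right : P ≤ R ⊔ P) with hf
      have hfP : ∀ y, f y ∈ P := hm
      have hk : ∀ k, ∀ y : ↥P, (y : Ω) ∈ J k → f y ∈ J k := by
        intro k
        induction k with
        | zero =>
          intro y hy
          have h : Cfsg.omegaOne p P ≤ ((Cfsg.omegaOne p P).comap f).map P.subtype := by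
            refine (Subgroup.closure_le _).2 ?_
            rintro z ⟨hz, hzp⟩
            refine ⟨⟨z, hz⟩, Subgroup.subset_closure ⟨hfP _, ?_⟩, rfl⟩
            rw [← map_pow, show (⟨z, hz⟩ : ↥P) ^ p = 1 from Subtype.ext hzp, map_one]
          obtain ⟨w, hw, hwy⟩ := h hy
          rw [← Subtype.ext hwy]
          exact hw
        | succ k ih =>
          intro y hy
          rw [hJ] at hy ⊢
          have h : ⁅J k, P⁆ ≤ (⁅J k, P⁆.comap f).map P.subtype := by
            refine Subgroup.commutator_le.2 fun a ha b hb => ?_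
            refine ⟨⁅(⟨a, hJle k ha⟩ : ↥P), ⟨b, hb⟩⁆, ?_, rfl⟩
            show f ⁅(⟨a, hJle k ha⟩ : ↥P), ⟨b, hb⟩⁆ ∈ (⁅J k, P⁆ : Subgroup Ω)
            rw [map_commutatorElement]
            exact Subgroup.commutator_mem_commutator (ih _ ha) (hfP _)
          obtain ⟨w, hw, hwy⟩ := h hy
          rw [← Subtype.ext hwy]
          exact hw
      rw [← he x]
      exact hk k ⟨x, hJle k (hR x.2)⟩ (hR x.2)
    refine ⟨n, fun i => J (n - i), le_bot_iff.1 (by simpa [hn] using hJP n), by simp [J], ?_,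
      fun i => hclosed _, fun i => ?_⟩
    · exact fun a b hab => antitone_nat_of_succ_le hanti
        (Nat.sub_le_sub_left (show (a : ℕ) ≤ b from hab) n)
    · show ⁅J (n - (i : ℕ).succ), P⁆ ≤ J (n - (i : ℕ))
      rw [← hJ, show n - (i : ℕ).succ + 1 = n - (i : ℕ) by omega]
  · rintro ⟨n, Q, h0, hn, hmono, hcl, hcent⟩
    have hPn := Cfsg.Agent.H90.normal_in_top_of_stronglyClosed F hP
    refine (Cfsg.Agent.H90.isNormal_iff_normExt F).2 ⟨hP.1, Cfsg.Agent.H90.induction hS hF _
      (Cfsg.Agent.H90.normExt_isStable F hP.1) ?_⟩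
    intro R hRS hA hR IH α hα
    have := Cfsg.Agent.H90.finite_le hRS
    by_cases hPR : P ≤ R
    · have hle : R ⊔ P ≤ R := sup_le le_rfl hPR
      exact ⟨Cfsg.Agent.H90.res _ hle,
        Cfsg.Agent.H90.res_mem F (Cfsg.Agent.H90.hom_of_aut_mem F hRS hα) hle, fun x => rfl,
        fun x => Cfsg.Agent.H90.aut_mem_of_stronglyClosed F hP hRS hα ⟨x, hPR x.2⟩ x.2⟩
    let D : ℕ → Subgroup Ω := fun k => Q ⟨min k n, by omega⟩
    have hDle : ∀ k, D k ≤ P := fun k =>
      (hmono (Fin.le_last _)).trans (hn.le.trans ((Subgroup.closure_le _).2 fun z hz => hz.1))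
    let c : ℕ → Subgroup Ω := fun k => D k ⊓ R
    have hcm : Monotone c := fun a b hab =>
      inf_le_inf_right R (hmono (show min a n ≤ min b n from min_le_min hab le_rfl))
    have hcinv : ∀ β ∈ F.autGroup R, ∀ (k : ℕ) (x : ↥R), (x : Ω) ∈ c k →
        ((β x : ↥R) : Ω) ∈ c k := fun β hβ k x hx =>
      ⟨Cfsg.Agent.H90.aut_mem_of_stronglyClosed F (hcl _) hRS hβ x hx.1, (β x).2⟩
    let d : ℕ → Subgroup Ω := fun k => if k = 0 then P ⊓ R else R
    have hdm : Monotone d := monotone_nat_of_le_succ fun k => by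
      simp only [d, Nat.succ_ne_zero, if_false]
      split_ifs
      · exact inf_le_right
      · exact le_rfl
    have hdinv : ∀ β ∈ F.autGroup R, ∀ (k : ℕ) (x : ↥R), (x : Ω) ∈ d k →
        ((β x : ↥R) : Ω) ∈ d k := by
      intro β hβ k x
      simp only [d]
      split_ifs
      · exact fun hx => ⟨Cfsg.Agent.H90.aut_mem_of_stronglyClosed F hP hRS hβ x hx.1, (β x).2⟩
      · exact fun _ => (β x).2
    have := Cfsg.Agent.H90.chainStab_normal F R c hcm hcinv
    have := Cfsg.Agent.H90.chainStab_normal F R d hdm hdinv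
    let M := Cfsg.Agent.H90.chainStab F R c hcm hcinv ⊓ Cfsg.Agent.H90.chainStab F R d hdm hdinv
    have hMn : M.Normal := inferInstanceAs
      ((Cfsg.Agent.H90.chainStab F R c hcm hcinv ⊓ Cfsg.Agent.H90.chainStab F R d hdm hdinv)).Normal
    have hMp : IsPGroup p M := by
      refine Cfsg.Agent.H90.isPGroup_of_coprime_eq_one fun β hβ =>
        Subtype.ext (Subtype.ext (MulEquiv.ext fun x => ?_))
      set b : MulAut ↥R := ((β : ↥(F.autGroup R)) : MulAut ↥R) with hb
      have hbo : (orderOf b).Coprime p := by rwa [hb, Subgroup.orderOf_coe, Subgroup.orderOf_coe]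
      have hc : ∀ (k : ℕ) (y : ↥R), (y : Ω) ∈ c k → b y = y := by
        intro k
        induction k with
        | zero =>
          intro y hy
          have hy0 : (y : Ω) ∈ Q ⟨min 0 n, by omega⟩ := hy.1
          rw [show (⟨min 0 n, by omega⟩ : Fin (n + 1)) = 0 from Fin.ext (by simp), h0,
            Subgroup.mem_bot] at hy0
          rw [show y = 1 from Subtype.ext hy0, map_one]
        | succ k ih =>
          intro y hy
          exact Cfsg.Agent.H90.fix_of_fix_diff (hS.to_le hRS) b hbo y (ih _ (β.2.1 k y hy))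
      have hD : ∀ y : ↥R, (y : Ω) ∈ P → b y = y := by
        intro y hy
        let H : Subgroup ↥R := P.subgroupOf R
        have hbH : ∀ z ∈ H, b z ∈ H := fun z hz => Subgroup.mem_subgroupOf.2
          (Cfsg.Agent.H90.aut_mem_of_stronglyClosed F hP hRS (β : ↥(F.autGroup R)).2 z hz)
        have hmap : H.map b.toMonoidHom = H := by
          refine Cfsg.Agent.H90.eq_of_le_card le_top (S := ⊤) ?_
            (Subgroup.card_map_of_injective b.injective).ge
          rintro _ ⟨z, hz, rfl⟩
          exact hbH z hz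
        let γ : MulAut ↥H := (b.subgroupMap H).trans (MulEquiv.subgroupCongr hmap)
        have hγ : ∀ (k : ℕ) (z : ↥H), (((γ ^ k) z : ↥H) : ↥R) = (b ^ k) (z : ↥R) := by
          intro k
          induction k with
          | zero => intro z; rfl
          | succ k ihk =>
            intro z
            rw [pow_succ', pow_succ']
            show b (((γ ^ k) z : ↥H) : ↥R) = b ((b ^ k) (z : ↥R))
            rw [ihk]
        have hd : orderOf γ ∣ orderOf b := orderOf_dvd_of_pow_eq_one (MulEquiv.ext fun z =>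
          Subtype.ext (by rw [hγ, pow_orderOf_eq_one]; rfl))
        have h := Cfsg.Agent.H90.fix_of_fix_order_p hp ((hS.to_le hRS).to_subgroup H) γ
          (hbo.coprime_dvd_left hd) (fun z hz => Subtype.ext (hc n _ ⟨?_, z.1.2⟩)) ⟨y, hy⟩
        · exact congrArg Subtype.val h
        · show ((z : ↥R) : Ω) ∈ Q ⟨min n n, by omega⟩
          rw [show (⟨min n n, by omega⟩ : Fin (n + 1)) = Fin.last n from Fin.ext (by simp), hn]
          exact Subgroup.subset_closure ⟨Subgroup.mem_subgroupOf.1 z.2,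
            congrArg (fun w : ↥H => (((w : ↥R)) : Ω)) hz⟩
      exact Cfsg.Agent.H90.fix_of_fix_diff (hS.to_le hRS) b hbo x
        (hD _ (β.2.2 0 x (by simp [d])).1)
    obtain ⟨g, hgP, hgR, hgN⟩ := Cfsg.Agent.H90.exists_mem_normalizer hS hRS hP.1
      (fun r hr => by
        have := Cfsg.Agent.H90.finite_le hP.1
        exact Cfsg.Agent.H90.normal_of_conj fun x hx => hPn r (hRS hr) x hx) hPR
    have hgM : (⟨_, Cfsg.Agent.H90.normAut_mem_aut F hRS (hP.1 hgP) hgN⟩ : ↥(F.autGroup R)) ∈ M := by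
      refine ⟨fun k x hx => ?_, fun k x _ => ?_⟩
      · show (x : Ω)⁻¹ * (g * x * g⁻¹) ∈ D k ⊓ R
        refine ⟨?_, R.mul_mem (R.inv_mem x.2) ((Subgroup.mem_normalizer_iff.1 hgN x).1 x.2)⟩
        rw [show (x : Ω)⁻¹ * (g * x * g⁻¹) = ⁅(x : Ω)⁻¹, g⁆ by
          simp [commutatorElement_def, mul_assoc]]
        rcases lt_or_ge k n with hk | hk
        · have h := hcent ⟨k, hk⟩
          rw [show (⟨k, hk⟩ : Fin n).succ = ⟨min (k + 1) n, by omega⟩ from Fin.ext (by simp; omega),
            show (⟨k, hk⟩ : Fin n).castSucc = ⟨min k n, by omega⟩ from Fin.ext (by simp; omega)] at h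
          exact h (Subgroup.commutator_mem_commutator (inv_mem hx.1) hgP)
        · have hn' : D k = Cfsg.omegaOne p P := by
            rw [← hn]; exact congrArg Q (Fin.ext (by simp; omega))
          have hx' : (x : Ω) ∈ Cfsg.omegaOne p P := by
            rw [← hn]
            have h1 : (x : Ω) ∈ Q ⟨min (k + 1) n, by omega⟩ := hx.1
            rwa [show (⟨min (k + 1) n, by omega⟩ : Fin (n + 1)) = Fin.last n from
              Fin.ext (by simp; omega)] at h1
          rw [hn']
          have h : (Cfsg.omegaOne p P).map (MulAut.conj g).toMonoidHom ≤ Cfsg.omegaOne p P := by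
            unfold Cfsg.omegaOne
            rw [MonoidHom.map_closure]
            refine Subgroup.closure_mono ?_
            rintro _ ⟨z, ⟨hz, hzp⟩, rfl⟩
            exact ⟨P.mul_mem (P.mul_mem hgP hz) (P.inv_mem hgP),
              by rw [← map_pow, hzp, map_one]⟩
          have h' := mul_mem (inv_mem hx') (h ⟨x, hx', rfl⟩)
          simpa [commutatorElement_def, mul_assoc] using h'
      · show (x : Ω)⁻¹ * (g * x * g⁻¹) ∈ d k
        simp only [d]
        have hxR := R.mul_mem (R.inv_mem x.2) ((Subgroup.mem_normalizer_iff.1 hgN x).1 x.2)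
        split_ifs
        · refine ⟨?_, hxR⟩
          have := P.mul_mem (hPn _ (S.inv_mem (hRS x.2)) g hgP) (P.inv_mem hgP)
          simpa [mul_assoc] using this
        · exact hxR
    obtain ⟨m, β, hm, he, X, hRX, hX, ψ, hψ, hext⟩ :=
      Cfsg.Agent.H90.aut_decomp hA hR M hMn ⟨α, hα⟩
    have hlt : Nat.card R < Nat.card X := Cfsg.Agent.H90.card_lt_of_lt
      (Cfsg.Agent.H90.src_le F hψ) (hRX.lt_of_ne fun h => hgR (h ▸ hX g (hP.1 hgP) hgN _ hgM))
    have hst := Cfsg.Agent.H90.normExt_isStable F hP.1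
    have hβ : Cfsg.Agent.H90.NormExt F P R (R.subtype.comp (β : MulAut ↥R).toMonoidHom) := by
      have h := hst.res ψ hψ (IH X ψ hψ hlt) hRX
      rwa [show Cfsg.Agent.H90.res ψ hRX = R.subtype.comp (β : MulAut ↥R).toMonoidHom from
        MonoidHom.ext fun x => hext x] at h
    obtain ⟨T, hT⟩ := hA.2
    have hmT : m ∈ (T : Subgroup ↥(F.autGroup R)) := (IsPGroup.le_sylow_of_normal hMp T) hm
    rw [hT] at hmT
    obtain ⟨a, haS, ha⟩ :=
      (Cfsg.Agent.H90.mem_autInducedBy_iff hRS).1 (Subgroup.mem_subgroupOf.1 hmT)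
    have h := hst.comp _ _ (Cfsg.Agent.H90.hom_of_aut_mem F hRS β.2)
      (Cfsg.Agent.H90.hom_of_aut_mem F hRS m.2) (fun x => ((β : MulAut ↥R) x).2) hβ
      (Cfsg.Agent.H90.normExt_conj F hRS hP.1 hPn haS ha)
    rw [show α = (m : MulAut ↥R) * (β : MulAut ↥R) from congrArg Subtype.val he]
    exact h

end Cfsg.Agent.S5236
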