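import Cfsg.Statements.S5237
import Cfsg.Agent.S0665
import Cfsg.Agent.FusionSys.FreeFunctor

set_option autoImplicit false
open Cfsg

namespace Cfsg.Agent.S5237

/-- Let S be a nontrivial finite 2-group (p = 2). Then S has a nontrivial characteristic subgroup W that is normal in every saturated fusion system over S that is S₄-free (the symmetric group of degree 4 is not involved in any model of the normalizer system of a fully normalized centric subgroup). -/
theorem result {Ω : Type*} [Group Ω] {S : Subgroup Ω} [Finite S] (hS : IsPGroup 2 S) (hS1 : S ≠ ⊥) : ∃ W : Subgroup Ω, W ≤ S ∧ W ≠ ⊥ ∧ (W.subgroupOf S).Characteristic ∧ ∀ F : Cfsg.FusionSystem S, F.IsSaturated 2 → F.IsSectionFree 2 (Equiv.Perm (Fin 4)) → F.IsNormal W := by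
  haveI : Fact (Nat.Prime 2) := ⟨Nat.prime_two⟩
  obtain ⟨K, hK⟩ := FusionSys.exists_freeFun_two fun T _ _ _ hT => Cfsg.Agent.S0665.result hT
  haveI hSn : Nontrivial ↥S := (Subgroup.nontrivial_iff_ne_bot S).2 hS1
  refine ⟨(K ↥S).map S.subtype, Subgroup.map_subtype_le _, fun h => hK.ne_bot ↥S hS hSn
    ((Subgroup.map_eq_bot_iff_of_injective _ S.subtype_injective).1 h), ?_,
    fun F hF hf => FusionSys.isNormal_freeFun hK hS hF hf⟩
  have e : ((K ↥S).map S.subtype).subgroupOf S = K ↥S :=
    Subgroup.comap_map_eq_self_of_injective S.subtype_injective _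
  rw [e]
  exact Subgroup.characteristic_iff_map_eq.2 fun φ => hK.map ↥S ↥S φ

end Cfsg.Agent.S5237
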