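import Cfsg.Statements.S5239
import Cfsg.Agent.S5238
import Cfsg.Agent.S5087
import Cfsg.Agent.S5234
import Cfsg.Agent.FusionSys.Alperin
import Cfsg.Agent.PGroups.MaxClassThreeGen
import Mathlib.GroupTheory.Perm.Basic

set_option autoImplicit false
set_option linter.style.haveILetI false
set_option linter.unusedSectionVars false
open Cfsg

namespace Cfsg.Agent.S5239

open Subgroup
open Cfsg.Agent.PGroups

universe u

/-- A group of order 81 with a core-free subgroup of index 9 is a Sylow 3-subgroup of `S₉`. -/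
theorem exists_sylow_nine {X : Type u} [Group X] [Finite X] [Fact (Nat.Prime 3)] (hX : Nat.card X = 3 ^ 4)
    (K : Subgroup X) (hK : K.index = 9) (hcore : K.normalCore = ⊥) :
    ∃ W : Sylow 3 (Equiv.Perm (Fin 9)), Nonempty (X ≃* ↥(W : Subgroup (Equiv.Perm (Fin 9)))) := by
  have hc : Nat.card (X ⧸ K) = 9 := by rw [← Subgroup.index_eq_card, hK]
  let e : X ⧸ K ≃ Fin 9 := Finite.equivFinOfCardEq hc
  let f : X →* Equiv.Perm (Fin 9) := e.permCongrHom.toMonoidHom.comp (MulAction.toPermHom X (X ⧸ K))
  have hf : Function.Injective f := by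
    refine e.permCongrHom.injective.comp ((MonoidHom.ker_eq_bot_iff _).1 ?_)
    rw [← Subgroup.normalCore_eq_ker, hcore]
  have hr : Nat.card f.range = 3 ^ 4 := by
    rw [← hX]; exact (Nat.card_congr (MonoidHom.ofInjective hf).toEquiv).symm
  have hidx : ¬ 3 ∣ f.range.index := by
    have h := f.range.card_mul_index
    rw [hr, Nat.card_perm, Nat.card_fin] at h
    rw [show Nat.factorial 9 = 362880 by rfl] at h
    omega
  exact ⟨(IsPGroup.of_card hr).toSylow hidx, ⟨MonoidHom.ofInjective hf⟩⟩

/-- Let F be a saturated fusion system over a finite 3-group S having a pearl: an F-essential subgroup E that is elementary abelian of order 9 or nonabelian of order 27. Then either S is extraspecial of order 27 and exponent 3, or S has order at least 81 and every subgroup of S can be generated by at most two elements, or S is isomorphic to the wreath product C₃ ≀ C₃ (a Sylow 3-subgroup of the symmetric group of degree 9). -/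
theorem result {Ω : Type*} [Group Ω] {S : Subgroup Ω} [Finite S] (hS : IsPGroup 3 S) (F : Cfsg.FusionSystem S) (hF : F.IsSaturated 3) [Fact (Nat.Prime 3)] (E : Subgroup Ω) (hE : F.IsEssential 3 E) (hpearl : (Nat.card E = 9 ∧ ∀ x ∈ E, x ^ 3 = 1 ∧ IsMulCommutative ↥E) ∨ (Nat.card E = 27 ∧ ¬ IsMulCommutative ↥E)) : (Cfsg.IsExtraspecial 3 ↥S ∧ Nat.card S = 27 ∧ Monoid.exponent ↥S = 3) ∨ (81 ≤ Nat.card S ∧ ∀ H : Subgroup Ω, H ≤ S → ∃ T : Finset Ω, T.card ≤ 2 ∧ Subgroup.closure (T : Set Ω) = H) ∨ (∃ W : Sylow 3 (Equiv.Perm (Fin 9)), Nonempty (↥S ≃* ↥(W : Subgroup (Equiv.Perm (Fin 9))))) := by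
  classical
  have hlt := FusionSys.lt_of_isEssential hS hF hE
  obtain ⟨hES, hcent⟩ := hE.1
  have hCE := hcent E (FusionSys.isConj_refl F hES)
  set A := E.subgroupOf S
  have hAc : Nat.card A = Nat.card E := Nat.card_congr (Subgroup.subgroupOfEquivOfLe hES).toEquiv
  have hAne : A ≠ ⊤ := fun h => hlt.not_ge (Subgroup.subgroupOf_eq_top.1 h)
  have hCA : centralizer (A : Set S) ≤ A := fun g hg => Subgroup.mem_subgroupOf.2
    (hCE (FusionSys.mem_centralizerIn.2 ⟨g.2, fun y hy =>
      congrArg Subtype.val (Subgroup.mem_centralizer_iff.1 hg ⟨y, hES hy⟩ (Subgroup.mem_subgroupOf.2 hy))⟩))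
  obtain ⟨n, hn⟩ := IsPGroup.iff_card.1 hS
  have hAcard : Nat.card A < Nat.card S :=
    lt_of_le_of_ne (Subgroup.card_le_card_group A) fun h => hAne (Subgroup.eq_top_of_card_eq A h)
  haveI := hS.isNilpotent
  have hpair : 3 ≤ n ∧ ((n = 3 ∧ Nat.card E = 9) ∨ 4 ≤ n) ∧ ∃ x : S, MaxClassPair S 3 n x := by
    rcases hpearl with ⟨hc, -⟩ | ⟨hc, hEn⟩
    · have hA2 : Nat.card A = 3 ^ 2 := hAc.trans hc
      have hn3 : 3 ≤ n := by
        rw [hA2, hn, Nat.pow_lt_pow_iff_right (by norm_num)] at hAcard
        omega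
      have hCA' : centralizer (A : Set S) = A := le_antisymm hCA fun g hg =>
        Subgroup.mem_centralizer_iff.2 fun v hv => congrArg Subtype.val
          (IsPGroup.commutative_of_card_eq_prime_sq hA2 (⟨v, hv⟩ : A) ⟨g, hg⟩)
      obtain ⟨x, -, hx⟩ := S5238.center_eq_of_self_centralizing hn3 hn hA2 hCA'
      have hcl := nilpotencyClass_of_self_centralizing n S hn A hA2 hCA'
      refine ⟨hn3, (eq_or_lt_of_le hn3).imp (fun h => ⟨h.symm, hc⟩) id, x, hn, hn3, fun h => ?_, hx⟩
      rw [Subgroup.lowerCentralSeries_eq_bot_iff_nilpotencyClass_le] at h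
      omega
    · have hA3 : Nat.card A = 3 ^ 3 := hAc.trans hc
      have hn4 : 4 ≤ n := by
        rw [hA3, hn, Nat.pow_lt_pow_iff_right (by norm_num)] at hAcard
        omega
      obtain ⟨hcl, x, hx⟩ := S5238.pair_of_cube (by omega) hn A hA3 (fun h => hEn ⟨⟨fun a b => by
        haveI := h
        have := mul_comm' ((Subgroup.subgroupOfEquivOfLe hES).symm a) ((Subgroup.subgroupOfEquivOfLe hES).symm b)
        exact (Subgroup.subgroupOfEquivOfLe hES).symm.injective (by rw [map_mul, map_mul, this])⟩⟩) hCA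
      refine ⟨by omega, Or.inr hn4, x, hn, by omega, fun h => ?_, hx⟩
      rw [Subgroup.lowerCentralSeries_eq_bot_iff_nilpotencyClass_le] at h
      omega
  obtain ⟨hn3, hcases, x, hx⟩ := hpair
  rcases hcases with ⟨rfl, -⟩ | hn4
  · -- order 27: exponent 9 would make `S` metacyclic and so normal in `F`
    have hna : center S ≠ ⊤ := fun h => by
      have hC : centralizer ({x} : Set S) = ⊤ := eq_top_iff.2 fun a _ =>
        Subgroup.mem_centralizer_iff.2 fun v _ => (Subgroup.mem_center_iff.1 (h ▸ mem_top a) v)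
      have := hx.cent
      rw [hC, Subgroup.card_top, hn] at this
      norm_num at this
    refine Or.inl ⟨S5238.isExtraspecial_card_cube hn hna, hn, ?_⟩
    have hexp : ∀ g : S, g ^ 3 = 1 := by
      by_contra hall
      push Not at hall
      obtain ⟨c, hc⟩ := hall
      obtain ⟨k, hk⟩ := IsPGroup.iff_orderOf.1 hS c
      have hk3 : k ≤ 3 := by
        have h := orderOf_dvd_natCard c
        rw [hk, hn] at h
        exact (Nat.pow_dvd_pow_iff_le_right (by norm_num)).1 h
      have hk2 : k = 2 := by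
        rcases (show k ≤ 1 ∨ k = 2 ∨ k = 3 by omega) with h | h | h
        · exact absurd (orderOf_dvd_iff_pow_eq_one.1 (by rw [hk]; exact pow_dvd_pow 3 h)) hc
        · exact h
        · exfalso
          subst h
          have ht : zpowers c = ⊤ := Subgroup.eq_top_of_card_eq _ (by rw [Nat.card_zpowers, hk, hn])
          refine hna (eq_top_iff.2 fun a _ => Subgroup.mem_center_iff.2 fun b => ?_)
          obtain ⟨i, rfl⟩ := Subgroup.mem_zpowers_iff.1 (ht ▸ mem_top a)
          obtain ⟨j, rfl⟩ := Subgroup.mem_zpowers_iff.1 (ht ▸ mem_top b)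
          exact ((Commute.refl c).zpow_zpow j i).eq
      subst hk2
      have hidx : (zpowers c).index = 3 := by
        have h := (zpowers c).card_mul_index
        rw [Nat.card_zpowers, hk, hn] at h
        omega
      haveI := normal_of_index_eq hS hidx
      have hmet : Cfsg.IsMetacyclic S := ⟨zpowers c, inferInstance, inferInstance,
        isCyclic_of_prime_card (p := 3) (by rw [← Subgroup.index_eq_card, hidx])⟩
      have hnorm := S5234.result 3 hS F hF S ⟨le_rfl, fun R _ φ hφ v => (F.le_of_mem hφ).2 v⟩ (by norm_num) hmet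
      exact hlt.not_ge ((S5087.result 3 hS F hF S).1 hnorm E (Or.inr hE)).1
    rcases (Fact.out : Nat.Prime 3).eq_one_or_self_of_dvd _ (Monoid.exponent_dvd_of_forall_pow_eq_one hexp)
      with h1 | h1
    · haveI := Monoid.exp_eq_one_iff.1 h1
      rw [Nat.card_of_subsingleton (1 : S)] at hn
      norm_num at hn
    · exact h1
  rcases hx.exists_gen_three hn4 with hgen | ⟨rfl, K, hK, hcore⟩
  · refine Or.inr (Or.inl ⟨?_, fun H hH => ?_⟩)
    · rw [hn]
      exact le_trans (by norm_num) (Nat.pow_le_pow_right (by norm_num) hn4)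
    · obtain ⟨a, b, hab⟩ := hgen (H.subgroupOf S)
      refine ⟨({a, b} : Finset S).image S.subtype, Finset.card_image_le.trans Finset.card_le_two, ?_⟩
      rw [Finset.coe_image, ← MonoidHom.map_closure, Finset.coe_pair, hab]
      exact Subgroup.map_subgroupOf_eq_of_le hH
  · exact Or.inr (Or.inr (exists_sylow_nine hn K hK hcore))

end Cfsg.Agent.S5239
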