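import Cfsg.Statements.S5243
import Cfsg.Agent.H91.Theta.Main
import Cfsg.Agent.S5110

set_option autoImplicit false
open Cfsg

namespace Cfsg.Agent.S5243

open Cfsg.Agent.FusionSys Cfsg.Agent.H91

/-- Let F be a saturated fusion system over a finite p-group S, E a normal subsystem of F over T ≤ S, and χ a surjective homomorphism from Aut_F(T) onto a nontrivial finite group Δ of order prime to p whose kernel contains Aut_E(T). Then there is a proper normal subsystem F₀ of F over S containing E such that Aut_{F₀}(S) consists of those α ∈ Aut_F(S) whose restriction to T is an element of Aut_F(T) in the kernel of χ; moreover every p'-residual subsystem O^{p'}(F) of F is contained in F₀. -/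
theorem result {Ω : Type*} [Group Ω] {S : Subgroup Ω} [Finite S] (p : ℕ) [Fact p.Prime] (hS : IsPGroup p S) (F : Cfsg.FusionSystem S) (hF : F.IsSaturated p) {T : Subgroup Ω} (hTS : T ≤ S) (E : Cfsg.FusionSystem T) (hE : E.IsNormalIn F p) {Δ : Type*} [Group Δ] [Finite Δ] [Nontrivial Δ] (hΔ : (Nat.card Δ).Coprime p) (χ : ↥(F.autGroup T) →* Δ) (hχ : Function.Surjective χ) (hker : (E.autGroup T).subgroupOf (F.autGroup T) ≤ χ.ker) : ∃ F₀ : Cfsg.FusionSystem S, F₀.IsNormalIn F p ∧ ¬ (∀ P : Subgroup Ω, F₀.Hom P = F.Hom P) ∧ E.IsSubsystemOf F₀ ∧ (∀ α : MulAut ↥S, α ∈ F₀.autGroup S ↔ α ∈ F.autGroup S ∧ ∃ β : ↥(F.autGroup T), χ β = 1 ∧ ∀ t : ↥T, (((β : MulAut ↥T) t : ↥T) : Ω) = ((α ⟨(t : Ω), hTS t.2⟩ : ↥S) : Ω)) ∧ ∀ R : Cfsg.FusionSystem S, F.IsPPrimeResidual p R → R.IsSubsystemOf F₀ := by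
  have hk : ∀ a : ↥(F.autGroup T), (a : MulAut T) ∈ E.autGroup T → χ a = 1 := fun a ha =>
    MonoidHom.mem_ker.1 (hker (Subgroup.mem_subgroupOf.2 ha))
  obtain ⟨⟨hEs, -, hEi⟩, -⟩ := id hE
  have hsat : (Theta.F0 F E χ).IsSaturated p :=
    Theta.isSaturated hS hF hEs hEi hΔ hk hχ fun D ℋ h1 h2 h3 h4 h5 =>
      Cfsg.Agent.S5110.result p hS D ℋ h1 h2 h3 h4 h5
  refine ⟨Theta.F0 F E χ, Theta.isNormalIn hS hF hEs hEi hΔ hk hχ hsat,
    Theta.ne_top hS hF hEs hEi hΔ hk hχ, Theta.sub_F0 hS hF hEs hEi hΔ hk hχ hE, fun α => ?_,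
    fun R hR => hR.2.2 _ hsat (Theta.hasPrimeToPIndexIn hS hF hEs hEi hΔ hk hχ)⟩
  refine (Theta.mem_autGroup_top hS hF hEs hEi hΔ hk hχ).trans (and_congr_right fun _ => ?_)
  constructor
  · rintro ⟨β, hβ, he⟩
    refine ⟨β, hβ, fun t => ?_⟩
    have h := he t t.2
    rw [autMap_coe, autMap_apply α (hTS t.2)] at h
    exact h
  · rintro ⟨β, hβ, he⟩
    refine ⟨β, hβ, fun x hx => ?_⟩
    rw [autMap_apply _ hx, autMap_apply α (hTS hx)]
    exact he ⟨x, hx⟩

end Cfsg.Agent.S5243
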