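import Cfsg.Statements.S5244
import Cfsg.Agent.H90.Oliver2
open Cfsg.Agent.H90
open scoped commutatorElement

set_option autoImplicit false
open Cfsg

namespace Cfsg.Agent.S5244

/-- Let p be an odd prime, S a finite nonabelian p-group with a unique abelian subgroup A of index p, and F a saturated fusion system over S with no nontrivial normal subgroup (O_p(F) = 1) in which A is not F-essential. Then some subgroup Z(S)⟨x⟩ with x ∈ S outside A is F-essential, the centre Z(S) is contained in the commutator subgroup of S, and S has maximal nilpotency class (if S has order pⁿ with n ≥ 3, the term of index n − 2 of its lower central series, counting S itself as the term of index 0, is nontrivial). -/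
theorem result {Ω : Type*} [Group Ω] {S : Subgroup Ω} [Finite S] (p : ℕ) [Fact p.Prime] (hS : IsPGroup p S) (F : Cfsg.FusionSystem S) (hF : F.IsSaturated p) (hp : p ≠ 2) (hna : ¬ IsMulCommutative ↥S) (A : Subgroup Ω) (hA : A ≤ S ∧ IsMulCommutative ↥A ∧ (A.subgroupOf S).index = p) (huniq : ∀ B : Subgroup Ω, B ≤ S → IsMulCommutative ↥B → (B.subgroupOf S).index = p → B = A) (hcore : F.core = ⊥) (hAe : ¬ F.IsEssential p A) : (∃ x ∈ S, x ∉ A ∧ F.IsEssential p ((S ⊓ Subgroup.centralizer (S : Set Ω)) ⊔ Subgroup.zpowers x)) ∧ (S ⊓ Subgroup.centralizer (S : Set Ω)) ≤ (commutator ↥S).map S.subtype ∧ ∀ n : ℕ, Nat.card S = p ^ n → 3 ≤ n → Subgroup.lowerCentralSeries S (n - 2) ≠ ⊥ := by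
  have H : Oliver.Setting S A p := ⟨hS, hp, hna, hA.1,
    fun a ha b hb => congrArg Subtype.val (hA.2.1.is_comm.comm ⟨a, ha⟩ ⟨b, hb⟩), hA.2.2, huniq⟩
  obtain ⟨P, x, hP, E, hab⟩ := Oliver.exists_abelian_ess H hF hcore hAe
  have hZD := Oliver.zc_eq_D₀ H hF hcore hAe
  rw [Oliver.zc_eq, Oliver.der_eq]
  refine ⟨⟨x, E.memS, E.notMem, ?_⟩, hZD.le.trans inf_le_right, fun n hn h3 hbot => ?_⟩
  · have e : CI.zc S ⊔ Subgroup.zpowers x = P := by
      refine le_antisymm (sup_le E.zle (Subgroup.zpowers_le.2 E.mem)) fun y hy => ?_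
      obtain ⟨a, ha, i, rfl⟩ := E.dec y hy
      exact Subgroup.mul_mem _ (Subgroup.mem_sup_left (hab ha))
        (Subgroup.mem_sup_right (zpow_mem (Subgroup.mem_zpowers x) i))
    rw [e]
    exact hP
  · have hcard : Nat.card ↥(CI.zc S) = p := by rw [hZD]; exact E.card_meet hF hP
    have hidx : ((CI.zc S).subgroupOf S).index = p ^ (n - 1) := by
      have h := Subgroup.card_mul_index ((CI.zc S).subgroupOf S)
      rw [Nat.card_congr (Subgroup.subgroupOfEquivOfLe CI.zc_le).toEquiv, hcard, hn,
        show n = n - 1 + 1 by omega, pow_succ'] at h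
      exact Nat.eq_of_mul_eq_mul_left (Fact.out : p.Prime).pos h
    refine E.max_class hF hP hidx (by omega) fun y hy => ?_
    rw [show n - 2 = n - 1 - 2 + 1 by omega] at hbot
    refine CI.mem_zc.2 ⟨?_, fun g hg => ?_⟩
    · have : ∀ k, Subgroup.lowerCentralSeries S k ≤ S := by
        intro k
        induction k with
        | zero => exact le_rfl
        | succ k ih =>
          refine Subgroup.commutator_le.2 fun a ha b hb => ?_
          rw [commutatorElement_def]
          exact S.mul_mem (S.mul_mem (S.mul_mem (ih ha) hb) (S.inv_mem (ih ha))) (S.inv_mem hb)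
      exact this _ hy
    · have h1 : ⁅y, g⁆ ∈ Subgroup.lowerCentralSeries S (n - 1 - 2 + 1) :=
        Subgroup.commutator_mem_commutator hy hg
      rw [hbot, Subgroup.mem_bot] at h1
      exact (commutatorElement_eq_one_iff_mul_comm.1 h1).symm

end Cfsg.Agent.S5244
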