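import Cfsg.Statements.S5245
import Cfsg.Agent.H90.Semidirect

set_option autoImplicit false
open Cfsg

namespace Cfsg.Agent.S5245

/-- Let F be an extremely sparse fusion system over a finite p-group S (saturated, not the inner system, and every saturated fusion system over any subgroup T of S contained in F is F itself or the inner system of T). Then S is normal in F, the focal and hyperfocal subgroups of F are both S, and Aut_F(S) is generated by the inner automorphisms of S together with a single automorphism of prime order q ≠ p (F is the fusion system of the semidirect product of S by a cyclic group of prime order). -/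
theorem result {Ω : Type*} [Group Ω] {S : Subgroup Ω} [Finite S] (p : ℕ) [Fact p.Prime] (hS : IsPGroup p S) (F : Cfsg.FusionSystem S) (hF : F.IsSaturated p) (hxs : ¬ (∀ P : Subgroup Ω, F.Hom P = (Cfsg.innerFusionSystem S).Hom P) ∧ ∀ (T : Subgroup Ω) (E : Cfsg.FusionSystem T), E.IsSaturated p → E.IsSubsystemOf F → (T = S ∧ ∀ P : Subgroup Ω, E.Hom P = F.Hom P) ∨ (∀ P : Subgroup Ω, E.Hom P = (Cfsg.innerFusionSystem T).Hom P)) : F.IsNormal S ∧ F.focalSubgroup = S ∧ F.hyperfocalSubgroup p = S ∧ ∃ (q : ℕ) (β : MulAut ↥S), q.Prime ∧ q ≠ p ∧ β ∈ F.autGroup S ∧ orderOf β = q ∧ (F.autGroup S : Subgroup (MulAut ↥S)) = Cfsg.Inn ↥S ⊔ Subgroup.zpowers β := by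
  classical
  obtain ⟨hni, hsp⟩ := hxs
  have key : ∀ (R : Subgroup Ω), R ≤ S → ∀ (q : ℕ) (β : MulAut ↥R), β ∈ F.autGroup R → q.Prime →
      q ≠ p → orderOf β = q → R = S ∧ ∀ P : Subgroup Ω, ∀ φ ∈ F.Hom P, ∃ h : P ≤ R,
        ∃ α ∈ Cfsg.Inn ↥R ⊔ Subgroup.zpowers β, ∀ x : ↥P, φ x = ((α ⟨x, h x.2⟩ : ↥R) : Ω) := by
    intro R hR q β hβ hq hqp hord
    have := Cfsg.Agent.H90.finite_le hR
    set A := Cfsg.Inn ↥R ⊔ Subgroup.zpowers β with hA
    let E := Cfsg.Agent.H90.autSystem A le_sup_left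
    have hEs : E.IsSaturated p := Cfsg.Agent.H90.autSystem_isSaturated (q := q) (hS.to_le hR) A
      le_sup_left ((Nat.coprime_primes hq Fact.out).2 hqp) fun α hα =>
        Cfsg.Agent.H90.pow_mem_inn_sup_zpowers (hord ▸ pow_orderOf_eq_one β) α hα
    have hEF : E.IsSubsystemOf F := Cfsg.Agent.H90.autSystem_isSubsystemOf F hR A le_sup_left
      (sup_le (Cfsg.Agent.H90.inn_le_autGroup F hR) (Subgroup.zpowers_le.2 hβ))
    rcases hsp R E hEs hEF with ⟨rfl, hEq⟩ | hin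
    · exact ⟨rfl, fun P φ hφ => (hEq P).ge hφ⟩
    · have hb : β ∈ E.autGroup R := by
        rw [Cfsg.Agent.H90.autSystem_autGroup]
        exact Subgroup.mem_sup_right (Subgroup.mem_zpowers β)
      have hb' : β ∈ (Cfsg.innerFusionSystem R).autGroup R :=
        Cfsg.Agent.H90.aut_mem_of_hom _
          ((hin R).le (Cfsg.Agent.H90.hom_of_aut_mem E le_rfl hb))
      obtain ⟨k, hk⟩ := Cfsg.Agent.H90.inner_autGroup_isPGroup (hS.to_le hR) le_rfl ⟨β, hb'⟩
      have hd : orderOf β ∣ p ^ k := orderOf_dvd_of_pow_eq_one (congrArg Subtype.val hk)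
      rw [hord] at hd
      exact absurd ((Nat.prime_dvd_prime_iff_eq hq Fact.out).1 (hq.dvd_of_dvd_pow hd)) hqp
  obtain ⟨R, hR, q, β, hβ, hq, hqp, hord⟩ : ∃ R ≤ S, ∃ (q : ℕ) (β : MulAut ↥R),
      β ∈ F.autGroup R ∧ q.Prime ∧ q ≠ p ∧ orderOf β = q := by
    by_contra hne
    push Not at hne
    refine hni (Cfsg.Agent.H90.eq_inner_of_autGroup_isPGroup hS hF fun R hR => ?_)
    have := Cfsg.Agent.H90.finite_le hR
    refine Cfsg.Agent.H90.isPGroup_of_coprime_eq_one fun g hg => ?_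
    by_contra h1
    obtain ⟨q, hq, hqd⟩ := Nat.exists_prime_and_dvd (mt orderOf_eq_one_iff.1 h1)
    refine hne R hR q ((g ^ (orderOf g / q) : ↥(F.autGroup R)) : MulAut ↥R) (SetLike.coe_mem _) hq
      (fun h => ?_) ?_
    · exact hq.ne_one (Nat.eq_one_of_dvd_coprimes hg hqd (h ▸ dvd_rfl))
    · rw [Subgroup.orderOf_coe, orderOf_pow_orderOf_div (orderOf_pos g).ne' hqd]
  obtain ⟨rfl, hEq⟩ := key R hR q β hβ hq hqp hord
  have hβc : (orderOf β).Coprime p := hord ▸ (Nat.coprime_primes hq Fact.out).2 hqp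
  set T : Subgroup ↥R := Subgroup.closure {c | ∃ z, c = z⁻¹ * β z} with hTdef
  have hT : T = ⊤ := by
    by_contra hne
    have hTinv : T.map β.toMonoidHom ≤ T := by
      rw [hTdef, MonoidHom.map_closure]
      refine Subgroup.closure_mono ?_
      rintro _ ⟨_, ⟨z, rfl⟩, rfl⟩
      exact ⟨β z, by simp⟩
    have hhom := Cfsg.Agent.H90.hom_of_aut_mem F le_rfl hβ
    have hle : T.map R.subtype ≤ R := Subgroup.map_subtype_le T
    have hv : ∀ x : ↥(T.map R.subtype),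
        Cfsg.Agent.H90.res (R.subtype.comp β.toMonoidHom) hle x ∈ T.map R.subtype := by
      intro x
      obtain ⟨y, hy, hyx⟩ := x.2
      refine ⟨β y, hTinv ⟨y, hy, rfl⟩, ?_⟩
      exact congrArg (fun z => ((β z : ↥R) : Ω)) (Subtype.ext hyx)
    set γ := Cfsg.Agent.H90.toAut F (Cfsg.Agent.H90.res_mem F hhom hle) hv with hγdef
    have hpow := Cfsg.Agent.H90.pow_restrict (R := R) (α := β) hle (δ := γ) fun x => rfl
    have := Cfsg.Agent.H90.finite_le hle
    have hγd : orderOf γ ∣ q := orderOf_dvd_of_pow_eq_one (MulEquiv.ext fun x => Subtype.ext (by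
      rw [hpow, ← hord, pow_orderOf_eq_one]; rfl))
    rcases hq.eq_one_or_self_of_dvd _ hγd with h1 | h1
    · refine (mt orderOf_eq_one_iff.2 (hord ▸ hq.ne_one)) (MulEquiv.ext fun x => ?_)
      refine Cfsg.Agent.H90.fix_of_fix_diff hS β hβc x (Subtype.ext ?_)
      have hx : ((x⁻¹ * β x : ↥R) : Ω) ∈ T.map R.subtype :=
        ⟨_, Subgroup.subset_closure ⟨x, rfl⟩, rfl⟩
      have h := hpow 1 ⟨_, hx⟩
      rw [pow_one, pow_one, orderOf_eq_one_iff.1 h1] at h
      exact h.symm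
    · obtain ⟨hTR, -⟩ := key _ hle q γ (Cfsg.Agent.H90.toAut_mem F _ hv) hq hqp h1
      refine hne (eq_top_iff.2 fun x _ => ?_)
      obtain ⟨y, hy, hyx⟩ := hTR.ge x.2
      rwa [← Subtype.ext hyx]
  have hA : F.autGroup R = Cfsg.Inn ↥R ⊔ Subgroup.zpowers β := by
    refine le_antisymm (fun α hα => ?_)
      (sup_le (Cfsg.Agent.H90.inn_le_autGroup F le_rfl) (Subgroup.zpowers_le.2 hβ))
    obtain ⟨h, a, ha, he⟩ := hEq R _ (Cfsg.Agent.H90.hom_of_aut_mem F le_rfl hα)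
    rwa [show α = a from MulEquiv.ext fun x => Subtype.ext (he x)]
  have hgen : ∀ U : Subgroup Ω, (∀ z : ↥R, (z : Ω)⁻¹ * ((β z : ↥R) : Ω) ∈ U) → R ≤ U := by
    intro U hU x hx
    have h : T ≤ U.comap R.subtype := (Subgroup.closure_le _).2 fun c hc => by
      obtain ⟨z, rfl⟩ := hc
      exact hU z
    exact h (hT ▸ Subgroup.mem_top (⟨x, hx⟩ : ↥R))
  refine ⟨(Cfsg.Agent.H90.isNormal_iff_normExt F).2 ⟨le_rfl, fun P φ hφ => ?_⟩, le_antisymm ?_ ?_,
    le_antisymm ?_ ?_, q, β, hq, hqp, hβ, hord, hA⟩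
  · obtain ⟨hP, a, ha, he⟩ := hEq P φ hφ
    have hle : P ⊔ R ≤ R := sup_le hP le_rfl
    exact ⟨Cfsg.Agent.H90.res (R.subtype.comp a.toMonoidHom) hle,
      Cfsg.Agent.H90.res_mem F (Cfsg.Agent.H90.hom_of_aut_mem F le_rfl (hA.ge ha)) hle,
      fun x => (he x).symm, fun x => (a _).2⟩
  · refine (Subgroup.closure_le _).2 ?_
    rintro _ ⟨P, φ, x, hφ, rfl⟩
    exact R.mul_mem (R.inv_mem (Cfsg.Agent.H90.src_le F hφ x.2))
      (Cfsg.Agent.H90.range_le F hφ ⟨x, rfl⟩)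
  · exact hgen _ fun z => Subgroup.subset_closure
      ⟨R, _, z, Cfsg.Agent.H90.hom_of_aut_mem F le_rfl hβ, rfl⟩
  · refine (Subgroup.closure_le _).2 ?_
    rintro _ ⟨P, α, x, hP, -, rfl⟩
    exact R.mul_mem (R.inv_mem (hP x.2)) (hP ((α : MulAut ↥P) x).2)
  · exact hgen _ fun z => Subgroup.subset_closure
      ⟨R, ⟨β, hβ⟩, z, le_rfl, Subgroup.subset_closure (show (orderOf (⟨β, hβ⟩ : ↥(F.autGroup R))).Coprime p by
        rw [← Subgroup.orderOf_coe]; exact hβc), rfl⟩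

end Cfsg.Agent.S5245
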