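import Cfsg.Statements.S5246
import Cfsg.Agent.H90.PStable

set_option autoImplicit false
open Cfsg

namespace Cfsg.Agent.S5246

/-- Let p be an odd prime, G a finite group and P a Sylow p-subgroup. Call a fusion system F p-stable when, for every fully normalized subgroup Q and every χ ∈ Aut_F(Q) acting quadratically on Q (that is, χ fixes a⁻¹χ(a) for every a ∈ Q; equivalently χ(a⁻¹)·a·χ(a⁻¹)·χ(χ(a)) = 1), χ lies in O_p(Aut_F(Q)). Then G is p-stable in the normalizer form (for every p-subgroup Q and x ∈ N_G(Q) with [Q, x, x] = 1, the image of x lies in O_p(N_G(Q)/C_G(Q))) if and only if the fusion system of G on P is p-stable. -/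
theorem result {Ω : Type*} [Group Ω] [Finite Ω] {p : ℕ} [Fact p.Prime] (hp : p ≠ 2) (P : Sylow p Ω) : Cfsg.IsNormalizerPStable p Ω ↔ (∀ Q : Subgroup Ω, (Cfsg.groupFusionSystem (P : Subgroup Ω)).IsFullyNormalized Q → ∀ χ : MulAut ↥Q, χ ∈ (Cfsg.groupFusionSystem (P : Subgroup Ω)).autGroup Q → (∀ a : ↥Q, (χ a⁻¹) * a * (χ a⁻¹) * (χ (χ a)) = 1) → χ ∈ ((Cfsg.pCore p ↥((Cfsg.groupFusionSystem (P : Subgroup Ω)).autGroup Q)).map ((Cfsg.groupFusionSystem (P : Subgroup Ω)).autGroup Q).subtype : Subgroup (MulAut ↥Q))) := by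
  have hautP : ∀ Q : Subgroup Ω, Q ≤ (P : Subgroup Ω) →
      (Cfsg.groupFusionSystem (P : Subgroup Ω)).autGroup Q = Cfsg.autInducedBy ⊤ Q :=
    fun Q hQ => Cfsg.Agent.FusionSys.autGroup_group hQ
  have hautT : ∀ Q : Subgroup Ω,
      (Cfsg.groupFusionSystem (⊤ : Subgroup Ω)).autGroup Q = Cfsg.autInducedBy ⊤ Q :=
    fun Q => Cfsg.Agent.FusionSys.autGroup_group le_top
  constructor
  · intro h Q hQn χ hχ hq
    have hχ' : χ ∈ (Cfsg.Agent.FusionSys.conjAutHom Q).range := by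
      rwa [Cfsg.Agent.FusionSys.range_conjAutHom, ← hautP Q hQn.1]
    obtain ⟨g, rfl⟩ := hχ'
    show Cfsg.Agent.H90.InCore p _ _
    rw [hautP Q hQn.1]
    exact (Cfsg.Agent.H90.inCore_iff_quotient Q g).2
      (h Q (P.isPGroup'.to_le hQn.1) g.1 g.2 ((Cfsg.Agent.H90.quad_iff_commutator Q g).1 hq))
  · intro hst Q hQp g hg hcomm
    refine (Cfsg.Agent.H90.inCore_iff_quotient Q ⟨g, hg⟩).1 ?_
    obtain ⟨T, hT⟩ := hQp.exists_le_sylow
    obtain ⟨a, ha⟩ := MulAction.exists_smul_eq Ω T P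
    have hφ := (Cfsg.groupFusionSystem (⊤ : Subgroup Ω)).conj_mem (P := Q) (g := a) le_top trivial
    rw [← hautT]
    have hmem : Cfsg.Agent.FusionSys.conjAutHom Q ⟨g, hg⟩ ∈
        (Cfsg.groupFusionSystem (⊤ : Subgroup Ω)).autGroup Q := by
      rw [hautT, ← Cfsg.Agent.FusionSys.range_conjAutHom]
      exact ⟨_, rfl⟩
    refine Cfsg.Agent.H90.inCore_transfer _ hφ hmem ?_
    have hle : (Cfsg.conjHom Q a).range ≤ (P : Subgroup Ω) := by
      rintro _ ⟨x, rfl⟩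
      rw [← ha, Sylow.coe_subgroup_smul]
      exact ⟨x, hT x.2, rfl⟩
    have hc := Cfsg.Agent.H90.congr_mem_autGroup _ hφ hmem
    rw [hautT, ← hautP _ hle] at hc
    rw [hautT, ← hautP _ hle]
    exact Cfsg.Agent.H90.isPStable_all _ hst hle hc
      (Cfsg.Agent.H90.quad_congr _ ((Cfsg.Agent.H90.quad_iff_commutator Q ⟨g, hg⟩).2 hcomm))

end Cfsg.Agent.S5246
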