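import Cfsg.Statements.S5247
import Cfsg.Agent.H90.PStable
import Cfsg.Agent.H90.NormalizerSystem

set_option autoImplicit false
open Cfsg

namespace Cfsg.Agent.S5247

/-- Let p be an odd prime and F a saturated fusion system over a finite p-group S. Call a fusion system E (over any subgroup) p-stable when, for every fully E-normalized subgroup Q and every χ ∈ Aut_E(Q) with χ(a⁻¹)·a·χ(a⁻¹)·χ(χ(a)) = 1 for all a ∈ Q (χ acts quadratically), χ lies in O_p(Aut_E(Q)). Then F is p-stable if and only if every normalizer fusion system N_F(R) of every non-cyclic fully F-normalized subgroup R of S is p-stable. -/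
theorem result {Ω : Type*} [Group Ω] {S : Subgroup Ω} [Finite S] (p : ℕ) [Fact p.Prime] (hS : IsPGroup p S) (F : Cfsg.FusionSystem S) (hF : F.IsSaturated p) (hp : p ≠ 2) : (∀ Q : Subgroup Ω, F.IsFullyNormalized Q → ∀ χ : MulAut ↥Q, χ ∈ F.autGroup Q → (∀ a : ↥Q, (χ a⁻¹) * a * (χ a⁻¹) * (χ (χ a)) = 1) → χ ∈ ((Cfsg.pCore p ↥(F.autGroup Q)).map (F.autGroup Q).subtype : Subgroup (MulAut ↥Q))) ↔ ∀ R : Subgroup Ω, F.IsFullyNormalized R → ¬ IsCyclic ↥R → ∀ N : Cfsg.FusionSystem (Cfsg.FusionSystem.normalizerIn S R), F.IsNormalizerSystem R N → (∀ Q : Subgroup Ω, N.IsFullyNormalized Q → ∀ χ : MulAut ↥Q, χ ∈ N.autGroup Q → (∀ a : ↥Q, (χ a⁻¹) * a * (χ a⁻¹) * (χ (χ a)) = 1) → χ ∈ ((Cfsg.pCore p ↥(N.autGroup Q)).map (N.autGroup Q).subtype : Subgroup (MulAut ↥Q))) := by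
  constructor
  · intro hst R _ _ N hN Q hQn χ hχ hq
    have hQS : Q ≤ S := hQn.1.trans inf_le_left
    have hle : N.autGroup Q ≤ F.autGroup Q := fun β hβ => by
      have : Finite ↥(Cfsg.FusionSystem.normalizerIn S R) := Cfsg.Agent.H90.finite_le inf_le_left
      have h := Cfsg.Agent.H90.hom_of_aut_mem N hQn.1 hβ
      rw [hN] at h
      exact Cfsg.Agent.H90.aut_mem_of_hom F h.1
    exact Cfsg.Agent.H90.inCore_of_le (S := S) hle hχ (Cfsg.Agent.H90.isPStable_all (S := S) F hst hQS (hle hχ) hq)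
  · intro h Q hQn χ hχ hq
    have := Cfsg.Agent.H90.finite_le hQn.1
    by_cases hc : IsCyclic ↥Q
    · show Cfsg.Agent.H90.InCore p _ _
      have hcomm : ∀ a b : MulAut ↥Q, a * b = b * a := by
        intro a b
        obtain ⟨m, hm⟩ := MonoidHom.map_cyclic a.toMonoidHom
        obtain ⟨l, hl⟩ := MonoidHom.map_cyclic b.toMonoidHom
        refine MulEquiv.ext fun x => ?_
        show a.toMonoidHom (b.toMonoidHom x) = b.toMonoidHom (a.toMonoidHom x)
        rw [hl, hm, hm, hl, ← zpow_mul, ← zpow_mul, mul_comm]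
      have hfix := (Cfsg.Agent.H90.quad_iff χ).1 hq
      have hpow : ∀ (k : ℕ) (a : ↥Q), (χ ^ k) a = a * (a⁻¹ * χ a) ^ k := by
        intro k
        induction k with
        | zero => intro a; simp
        | succ k ih =>
          intro a
          rw [pow_succ', MulAut.mul_apply, ih, map_mul, map_pow, hfix, pow_succ']
          simp [mul_assoc]
      obtain ⟨e, he⟩ := IsPGroup.iff_card.1 (hS.to_le hQn.1)
      have hχp : χ ^ p ^ e = 1 := MulEquiv.ext fun a => by
        rw [hpow, ← he, pow_card_eq_one', mul_one]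
        rfl
      have hn : (Subgroup.zpowers (⟨χ, hχ⟩ : ↥(F.autGroup Q))).Normal := ⟨fun z hz c => by
        rwa [show c * z = z * c from Subtype.ext (hcomm _ _), mul_inv_cancel_right]⟩
      have hp' : IsPGroup p ↥(Subgroup.zpowers (⟨χ, hχ⟩ : ↥(F.autGroup Q))) := by
        rintro ⟨z, i, rfl⟩
        refine ⟨e, Subtype.ext (Subtype.ext ?_)⟩
        show (χ ^ i) ^ p ^ e = 1
        rw [← zpow_natCast, ← zpow_mul, mul_comm, zpow_mul, zpow_natCast, hχp, one_zpow]
      exact ⟨_, Cfsg.Agent.Cores.le_pCore hp' (Subgroup.mem_zpowers _), rfl⟩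
    · let N := Cfsg.Agent.H90.normalizerSystem F hQn.1
      have hQN : Q ≤ Cfsg.FusionSystem.normalizerIn S Q := Cfsg.Agent.H90.le_normalizerIn hQn.1
      have : Finite ↥(Cfsg.FusionSystem.normalizerIn S Q) := Cfsg.Agent.H90.finite_le inf_le_left
      have heq : N.autGroup Q = F.autGroup Q := by
        refine le_antisymm (fun β hβ => Cfsg.Agent.H90.aut_mem_of_hom F
          (Cfsg.Agent.H90.hom_of_aut_mem N hQN hβ).1) fun β hβ => ?_
        have hb := Cfsg.Agent.H90.hom_of_aut_mem F hQn.1 hβ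
        refine Cfsg.Agent.H90.aut_mem_of_hom N ((Cfsg.Agent.H90.mem_normalizerHom_iff F hQn.1).2
          ⟨hb, hQN, fun x => hQN (β x).2, ?_⟩)
        have hle : Q ⊔ Q ≤ Q := sup_le le_rfl le_rfl
        exact ⟨_, Cfsg.Agent.H90.res_mem F hb hle, fun x => rfl, fun x => (β x).2⟩
      have hQN' : N.IsFullyNormalized Q := by
        refine ⟨hQN, ?_⟩
        rintro R ⟨φ, hφ, rfl⟩
        obtain ⟨-, -, -, ψ, hψ, he, hm⟩ := (Cfsg.Agent.H90.mem_normalizerHom_iff F hQn.1).1 hφ
        rw [show φ.range = Q from Cfsg.Agent.H90.eq_of_le_card hQn.1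
          (by rintro _ ⟨x, rfl⟩; exact he x ▸ hm x) (Cfsg.Agent.H90.card_range_eq N hφ).ge]
      have h' := h Q hQn hc N (Cfsg.Agent.H90.isNormalizerSystem_normalizerSystem F hQn.1) Q hQN' χ
        (heq.ge hχ) hq
      rw [heq] at h'
      exact h'

end Cfsg.Agent.S5247
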