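import Cfsg.Statements.S5249
import Cfsg.Agent.FusionSys.StableControl
import Cfsg.Agent.FusionSys.GlauFunctor

set_option autoImplicit false
open Cfsg

namespace Cfsg.Agent.S5249

/-- Let p be an odd prime, G a finite group in which Qd(p) (the natural semidirect product of an elementary abelian group of order p² by SL₂(p)) is not involved, and P a Sylow p-subgroup of G. Then the fusion system of G on P is a solvable fusion system. -/
theorem result {G : Type*} [Group G] [Finite G] {p : ℕ} [Fact p.Prime] (hp : p ≠ 2) (hqd : ¬ Cfsg.Involves ↥(Cfsg.qd p) G) (P : Sylow p G) : (Cfsg.groupFusionSystem (P : Subgroup G)).IsSolvableSystem := by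
  intro R hR hne _ E hE
  have hr : (Cfsg.groupFusionSystem (P : Subgroup G)).IsRealizedBy (P : Subgroup G).subtype :=
    ⟨(P : Subgroup G).subtype_injective, fun Q hQ φ hφ => ⟨fun h => h.2.2, fun h => ⟨hQ, hφ, h⟩⟩⟩
  obtain ⟨N, hN, ι', hr', hT'⟩ := Agent.FusionSys.exists_realized_factor hr
    ⟨P, (Subgroup.range_subtype _).symm⟩ hR hE
  refine Agent.FusionSys.core_ne_bot_of_realized hp ((P.isPGroup'.to_quotient _).to_subgroup _) ?_ hr' hT'
    (Agent.FusionSys.isNormalizerPStable_of_not_involves hp (Agent.FusionSys.sectionFree_of_surjective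
      (QuotientGroup.mk'_surjective _) (Agent.FusionSys.sectionFree_of_injective N.subtype_injective hqd)))
  intro h
  refine hne (le_antisymm hR.1 fun x hx => ?_)
  have : (QuotientGroup.mk ⟨x, hx⟩ : ↥(P : Subgroup G) ⧸ R.subgroupOf (P : Subgroup G)) = 1 :=
    Subgroup.mem_bot.1 (h ▸ Subgroup.mem_top _)
  exact (QuotientGroup.eq_one_iff (N := R.subgroupOf (P : Subgroup G)) ⟨x, hx⟩).1 this

end Cfsg.Agent.S5249
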