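import Cfsg.Statements.S5251
import Cfsg.Agent.H90.Normal
import Cfsg.Agent.H90.Transport

set_option autoImplicit false
open Cfsg

namespace Cfsg.Agent.S5251

/-- Let F be a saturated fusion system over a finite p-group S, E a normal subsystem of F over T, and P an F-centric subgroup of S such that P ∩ T is not E-centric. Then some F-conjugate P* of P satisfies Out_S(P*) ∩ O_p(Out_F(P*)) ≠ 1: there is an element of N_S(P*) outside P* whose conjugation action on P* lies in O_p(Aut_F(P*)). In particular P is not both centric and radical in F. -/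
theorem result {Ω : Type*} [Group Ω] {S : Subgroup Ω} [Finite S] (p : ℕ) [Fact p.Prime] (hS : IsPGroup p S) (F : Cfsg.FusionSystem S) (hF : F.IsSaturated p) {T : Subgroup Ω} (E : Cfsg.FusionSystem T) (hE : E.IsNormalIn F p) (P : Subgroup Ω) (hP : F.IsCentric P) (hPT : ¬ E.IsCentric (P ⊓ T)) : (∃ φ ∈ F.Hom P, ∃ x ∈ S ⊓ Subgroup.normalizer (φ.range : Set Ω), x ∉ φ.range ∧ ∃ α ∈ ((Cfsg.pCore p ↥(F.autGroup φ.range)).map (F.autGroup φ.range).subtype : Subgroup (MulAut ↥φ.range)), ∀ y : ↥φ.range, ((α y : ↥φ.range) : Ω) = x * (y : Ω) * x⁻¹) ∧ ¬ F.IsRadical p P := by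
  classical
  have hT := hE.1.2.2.2.1
  have := Cfsg.Agent.H90.finite_le hT.1
  have hTn := Cfsg.Agent.H90.normal_in_top_of_stronglyClosed F hT
  obtain ⟨Q, hQc, hQ⟩ : ∃ Q, E.IsConj (P ⊓ T) Q ∧
      ¬ Cfsg.FusionSystem.centralizerIn T Q ≤ Q := by
    by_contra h
    push Not at h
    exact hPT ⟨inf_le_right, h⟩
  obtain ⟨c, hc, hcQ⟩ := SetLike.not_le_iff_exists.1 hQ
  have hQF : F.IsConj (P ⊓ T) Q := by
    obtain ⟨φ, hφ, hr⟩ := hQc
    exact ⟨φ, hE.1.2.2.1 _ hφ, hr⟩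
  obtain ⟨U, hUc, hUS, hUA, hUR⟩ := Cfsg.Agent.H90.exists_rep hF (inf_le_left.trans hP.1 : P ⊓ T ≤ S)
  obtain ⟨χ, hχ, hχU, ψ, hψ, hag, -⟩ := Cfsg.Agent.H90.exists_extending hS F hUc hUA hUR
  obtain ⟨χ', hχ', hχU', ψ', hψ', hag', -⟩ := Cfsg.Agent.H90.exists_extending hS F
    (Cfsg.Agent.H90.isConj_trans F (Cfsg.Agent.H90.isConj_symm F hQF) hUc) hUA hUR
  have hQT : Q ≤ T := by
    obtain ⟨φ, hφ, hr⟩ := hQc
    exact hr ▸ Cfsg.Agent.H90.range_le E hφ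
  have hPN : P ≤ Cfsg.FusionSystem.normalizerIn S (P ⊓ T) := fun y hy => by
    have := Cfsg.Agent.H90.finite_le (inf_le_left.trans hP.1 : P ⊓ T ≤ S)
    exact ⟨hP.1 hy, Cfsg.Agent.H90.normal_of_conj fun x hx =>
      ⟨P.mul_mem (P.mul_mem hy hx.1) (P.inv_mem hy), hTn y (hP.1 hy) x hx.2⟩⟩
  have hφ := Cfsg.Agent.H90.res_mem F hψ hPN
  set φ := Cfsg.Agent.H90.res ψ hPN with hφdef
  have hφS := Cfsg.Agent.H90.range_le F hφ
  have := Cfsg.Agent.H90.finite_le hφS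
  -- the image meets `T` in `U`
  have hUT : U ≤ T := by
    rintro _ hu
    obtain ⟨y, rfl⟩ := hχU.ge hu
    exact hT.2 _ inf_le_right χ hχ y
  have hUφ : ∀ u ∈ U, u ∈ φ.range := fun u hu => by
    obtain ⟨y, rfl⟩ := hχU.ge hu
    exact ⟨⟨y, y.2.1⟩, (hag y y.2 (hPN y.2.1)).symm⟩
  have hinter : ∀ u, u ∈ φ.range → u ∈ T → u ∈ U := by
    rintro _ ⟨y, rfl⟩ hu
    obtain ⟨φ', hφ', -, hl, -⟩ := Cfsg.Agent.H90.exists_iso_inv F hφ rfl
    have hle : φ.range ⊓ T ≤ φ.range := inf_le_left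
    have hy : (y : Ω) ∈ T := by
      have h := hT.2 (φ.range ⊓ T) inf_le_right _ (Cfsg.Agent.H90.res_mem F hφ' hle)
        ⟨φ y, ⟨⟨y, rfl⟩, hu⟩⟩
      rw [← hl y ⟨y, rfl⟩]
      exact h
    exact hχU.le ⟨⟨y, y.2, hy⟩, hag _ ⟨y.2, hy⟩ _⟩
  -- a centralizing element of `T` outside `U`
  have hcN : c ∈ Cfsg.FusionSystem.normalizerIn S Q := by
    have := Cfsg.Agent.H90.finite_le (hQT.trans hT.1)
    exact ⟨hT.1 hc.1, Cfsg.Agent.H90.normal_of_conj fun x hx => by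
      rw [← Subgroup.mem_centralizer_iff.1 hc.2 x hx, mul_inv_cancel_right]; exact hx⟩
  set z := ψ' ⟨c, hcN⟩ with hz
  have hzT : z ∈ T := hT.2 (T ⊓ Cfsg.FusionSystem.normalizerIn S Q) inf_le_left _
    (Cfsg.Agent.H90.res_mem F hψ' inf_le_right) ⟨c, hc.1, hcN⟩
  have hzU : z ∈ Cfsg.FusionSystem.centralizerIn T U := by
    refine ⟨hzT, Subgroup.mem_centralizer_iff.2 fun u hu => ?_⟩
    obtain ⟨y, rfl⟩ := hχU'.ge hu
    rw [hag' y y.2 (Cfsg.Agent.H90.le_normalizerIn (hQT.trans hT.1) y.2), hz, ← map_mul, ← map_mul]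
    exact congrArg ψ' (Subtype.ext (Subgroup.mem_centralizer_iff.1 hc.2 _ y.2))
  have hzU' : z ∉ U := fun h => by
    obtain ⟨y, hy⟩ := hχU'.ge h
    rw [hag' y y.2 (Cfsg.Agent.H90.le_normalizerIn (hQT.trans hT.1) y.2), hz] at hy
    have h' := congrArg Subtype.val (F.injective_of_mem hψ' hy)
    exact hcQ ((show (y : Ω) = c from h') ▸ y.2)
  set A := Cfsg.FusionSystem.centralizerIn T U with hA
  have hAS : A ≤ S := inf_le_left.trans hT.1
  have := Cfsg.Agent.H90.finite_le hAS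
  have hAn : φ.range ≤ Subgroup.normalizer (A : Set Ω) := fun y hy => by
    have hyS := hφS hy
    refine Cfsg.Agent.H90.normal_of_conj fun a ha => ⟨hTn y hyS a ha.1,
      Subgroup.mem_centralizer_iff.2 fun u hu => ?_⟩
    have hu' : y⁻¹ * u * y ∈ U := by
      refine hinter _ (φ.range.mul_mem (φ.range.mul_mem (φ.range.inv_mem hy) (hUφ u hu)) hy) ?_
      have := hTn y⁻¹ (S.inv_mem hyS) u (hUT hu)
      simpa using this
    have h := Subgroup.mem_centralizer_iff.1 ha.2 _ hu'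
    calc u * (y * a * y⁻¹) = y * (y⁻¹ * u * y * a) * y⁻¹ := by simp [mul_assoc]
      _ = y * (a * (y⁻¹ * u * y)) * y⁻¹ := by rw [h]
      _ = _ := by simp [mul_assoc]
  obtain ⟨x, hxA, hxP, hxN⟩ := Cfsg.Agent.H90.exists_mem_normalizer hS hφS hAS hAn
    (fun h => hzU' (hinter z (h hzU) hzT))
  -- the conjugation by `x` stabilizes the chain `1 ≤ U ≤ image`
  let d : ℕ → Subgroup Ω := fun k => if k = 0 then ⊥ else if k = 1 then U else φ.range
  have hdm : Monotone d := monotone_nat_of_le_succ fun k => by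
    simp only [d]
    split_ifs <;> first
      | exact bot_le
      | exact le_rfl
      | exact hUφ
      | (exfalso; omega)
  have hdinv : ∀ β ∈ F.autGroup φ.range, ∀ (k : ℕ) (y : ↥φ.range), (y : Ω) ∈ d k →
      ((β y : ↥φ.range) : Ω) ∈ d k := by
    intro β hβ k y
    simp only [d]
    split_ifs
    · intro hy
      rw [Subgroup.mem_bot] at hy
      rw [show y = 1 from Subtype.ext hy, map_one]
      exact Subgroup.one_mem _
    · exact fun hy => hinter _ (β y).2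
        (Cfsg.Agent.H90.aut_mem_of_stronglyClosed F hT hφS hβ y (hUT hy))
    · exact fun _ => (β y).2
  have hxS := hAS hxA
  have ha := Cfsg.Agent.H90.normAut_mem_aut F hφS hxS hxN
  have hMn := Cfsg.Agent.H90.chainStab_normal F φ.range d hdm hdinv
  have hMp := Cfsg.Agent.H90.chainStab_isPGroup hS F φ.range hφS d hdm hdinv (p := p)
    (by simp [d]) (N := 2) (by simp [d])
  have hxM : (⟨_, ha⟩ : ↥(F.autGroup φ.range)) ∈
      Cfsg.Agent.H90.chainStab F φ.range d hdm hdinv := by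
    intro k y
    show (y : Ω) ∈ d (k + 1) → (y : Ω)⁻¹ * (x * y * x⁻¹) ∈ d k
    have hyR := φ.range.mul_mem (φ.range.inv_mem y.2)
      ((Subgroup.mem_normalizer_iff.1 hxN y).1 y.2)
    simp only [d, Nat.succ_ne_zero, if_false]
    split_ifs <;> intro hy <;> try (exfalso; omega)
    · rw [← Subgroup.mem_centralizer_iff.1 hxA.2 _ hy, mul_inv_cancel_right, inv_mul_cancel]
      exact Subgroup.one_mem _
    · refine hinter _ hyR ?_
      have := T.mul_mem (hTn _ (S.inv_mem (hφS y.2)) x hxA.1) (T.inv_mem hxA.1)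
      simpa [mul_assoc] using this
    · exact hyR
  have hMle : Cfsg.Agent.H90.chainStab F φ.range d hdm hdinv ≤
      Cfsg.pCore p ↥(F.autGroup φ.range) := by
    unfold Cfsg.pCore
    exact le_sSup ⟨hMn, hMp⟩
  have hcore := hMle hxM
  refine ⟨⟨φ, hφ, x, ⟨hxS, hxN⟩, hxP, _, ⟨_, hcore, rfl⟩, fun y => rfl⟩, fun hrad => ?_⟩
  let e := Cfsg.Agent.H90.autEquiv F hφ
  have hδ : e.symm ⟨_, ha⟩ ∈ Cfsg.pCore p ↥(F.autGroup P) := by
    have h1 : ((Cfsg.Agent.H90.chainStab F φ.range d hdm hdinv).map e.symm.toMonoidHom).Normal :=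
      hMn.map _ e.symm.surjective
    have h2 : (Cfsg.Agent.H90.chainStab F φ.range d hdm hdinv).map e.symm.toMonoidHom ≤
        Cfsg.pCore p ↥(F.autGroup P) := by
      unfold Cfsg.pCore
      exact le_sSup ⟨h1, hMp.map _⟩
    exact h2 ⟨_, hxM, rfl⟩
  obtain ⟨u, hu⟩ : ((e.symm ⟨_, ha⟩ : ↥(F.autGroup P)) : MulAut ↥P) ∈ Cfsg.Inn ↥P := by
    rw [← hrad.2]
    exact ⟨_, hδ, rfl⟩
  have hconj : ∀ y : ↥P, x * φ y * x⁻¹ = φ u * φ y * (φ u)⁻¹ := by
    intro y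
    have h1 := congrArg (fun a => ((((a : ↥(F.autGroup φ.range)) : MulAut ↥φ.range)
      (Cfsg.Agent.H90.imgEquiv F hφ y) : ↥φ.range) : Ω)) (e.apply_symm_apply ⟨_, ha⟩)
    refine h1.symm.trans ?_
    show φ ((((e.symm ⟨_, ha⟩ : ↥(F.autGroup P)) : MulAut ↥P))
      ((Cfsg.Agent.H90.imgEquiv F hφ).symm (Cfsg.Agent.H90.imgEquiv F hφ y))) = _
    rw [MulEquiv.symm_apply_apply, ← hu, MulAut.conj_apply, map_mul, map_mul, map_inv]
  have hcen : (φ u)⁻¹ * x ∈ Cfsg.FusionSystem.centralizerIn S φ.range := by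
    refine ⟨S.mul_mem (S.inv_mem (hφS ⟨u, rfl⟩)) hxS, Subgroup.mem_centralizer_iff.2 ?_⟩
    rintro _ ⟨y, rfl⟩
    calc φ y * ((φ u)⁻¹ * x) = (φ u)⁻¹ * (φ u * φ y * (φ u)⁻¹) * x := by simp [mul_assoc]
      _ = (φ u)⁻¹ * (x * φ y * x⁻¹) * x := by rw [hconj]
      _ = _ := by simp [mul_assoc]
  have h := φ.range.mul_mem ⟨u, rfl⟩ (hP.2 φ.range ⟨φ, hφ, rfl⟩ hcen)
  rw [mul_inv_cancel_left] at h
  exact hxP h

end Cfsg.Agent.S5251
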