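import Cfsg.Statements.S5253
import Cfsg.Agent.FusionSys.CenterControl
import Cfsg.Agent.H49.WeakClosure

set_option autoImplicit false
universe u
open Cfsg

namespace Cfsg.Agent.S5253

open Cfsg.Agent.FusionSys in
/-- The class of the `p`-th powers of central elements. -/
theorem goodClass_powers {p : ℕ} [Fact p.Prime] (W : ∀ (Q : Type u) [Group Q], Subgroup Q) (hW1 : ∀ (Q : Type u) [Group Q] [Finite Q], IsPGroup p Q → Nontrivial Q → W Q ≠ ⊥) (hW2 : ∀ (Q R : Type u) [Group Q] [Group R] [Finite Q], IsPGroup p Q → ∀ φ : Q ≃* R, (W Q).map φ.toMonoidHom = W R) (hWZ : ∀ (Q : Type u) [Group Q] [Finite Q], IsPGroup p Q → Subgroup.center Q ≤ W Q) (hq : ∀ (G : Type u) [Group G] [Finite G] (P : Sylow p G), ¬ (((W ↥(P : Subgroup G)).map (P : Subgroup G).subtype : Subgroup G)).Normal → ∃ g : G, g ∈ (P : Subgroup G) ∧ g ∉ Cfsg.pCore p G ∧ ⁅⁅Subgroup.center ↥(Cfsg.pCore p G) |>.map (Cfsg.pCore p G).subtype, Subgroup.zpowers g⁆, Subgroup.zpowers g⁆ = ⊥) :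
    GoodClass W p (fun G [Group G] T z => z ∈ T ∧ (∀ y ∈ T, y * z = z * y) ∧
      ∃ w ∈ T, (∀ y ∈ T, y * w = w * y) ∧ w ^ p = z) where
  mem := fun G _ T z h => ⟨h.1, h.2.1⟩
  restrict := fun G _ T T' z hle hcT h => by
    obtain ⟨hz, hzc, w, hw, hwc, hwp⟩ := h
    exact ⟨hcT ⟨hz, Subgroup.mem_centralizer_iff.2 hzc⟩, fun y hy => hzc y (hle hy), w,
      hcT ⟨hw, Subgroup.mem_centralizer_iff.2 hwc⟩, fun y hy => hwc y (hle hy), hwp⟩
  push := fun G H _ _ T θ z h => by
    obtain ⟨hz, hzc, w, hw, hwc, hwp⟩ := h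
    refine ⟨⟨z, rfl⟩, ?_, θ ⟨w, hw⟩, ⟨_, rfl⟩, ?_, ?_⟩
    · rintro _ ⟨y, rfl⟩
      rw [← map_mul, ← map_mul]
      exact congrArg θ (Subtype.ext (hzc y y.2))
    · rintro _ ⟨y, rfl⟩
      rw [← map_mul, ← map_mul]
      exact congrArg θ (Subtype.ext (hwc y y.2))
    · rw [← map_pow]
      exact congrArg θ (Subtype.ext hwp)
  group := by
    intro G _ _ P hcon z hz hn
    obtain ⟨hzP, hzc, w, hw, hwc, hwp⟩ := hz
    have hWF : IsCharPFunctor.{u} p W := ⟨hW1, hW2⟩
    have hWZ' : ∀ Q : Subgroup G, IsPGroup p Q →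
        Q ⊓ Subgroup.centralizer (Q : Set G) ≤ inducedFunctor W Q := fun Q hQ x hx =>
      ⟨⟨x, hx.1⟩, hWZ _ hQ (Subgroup.mem_center_iff.2 fun y =>
        Subtype.ext (Subgroup.mem_centralizer_iff.1 hx.2 y y.2)), rfl⟩
    have hwk := (H49.weakly_closed_powers P _ (Fusion.isConjugacyFunctor_inducedFunctor hWF) hWZ'
      (fun H T hTH hTp hidx hn' => ?_) _ rfl).1 z
      ⟨Subgroup.subset_closure ⟨w, ⟨hw, Subgroup.mem_centralizer_iff.2 hwc⟩, hwp⟩,
        Subgroup.mem_centralizer_iff.2 hn⟩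
    · have hzO : z ∈ pCore p G := hcon (Subgroup.mem_centralizer_iff.2 fun y hy =>
        hzc y (Cores.pCore_le_sylow P hy))
      refine Subgroup.mem_center_iff.2 fun g => mul_inv_eq_iff_eq_mul.1 (hwk g (Cores.pCore_le_sylow P ?_))
      exact Subgroup.Normal.conj_mem inferInstance z hzO g
    · let T' : Sylow p H := (hTp.comap_subtype (K := H)).toSylow hidx
      have hmap : (T' : Subgroup H).map H.subtype = T := by
        show (T.subgroupOf H).map H.subtype = T
        rw [Subgroup.map_subgroupOf_eq_of_le hTH]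
      obtain ⟨g, hg, hgO, hgc⟩ := hq H T' fun hN => hn' (by
        have h := Fusion.inducedFunctor_map hWF H.subtype (Subgroup.subtype_injective H) T'.isPGroup'
        rw [hmap] at h
        rw [h]
        haveI : (inducedFunctor W (T' : Subgroup H)).Normal := hN
        intro x hx
        refine Subgroup.le_normalizer_map H.subtype ⟨⟨x, hx⟩, ?_, rfl⟩
        rw [Subgroup.normalizer_eq_top]
        exact Subgroup.mem_top _)
      refine ⟨g, hmap ▸ ⟨g, hg, rfl⟩, fun h => hgO ?_, ?_⟩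
      · obtain ⟨y, hy, hye⟩ := h
        rwa [← Subtype.ext hye]
      · have h := congrArg (Subgroup.map H.subtype) hgc
        rw [Subgroup.map_commutator, Subgroup.map_commutator, MonoidHom.map_zpowers, Subgroup.map_bot] at h
        refine le_bot_iff.1 (le_trans (Subgroup.commutator_mono (Subgroup.commutator_mono ?_ le_rfl) le_rfl) h.le)
        rintro x ⟨⟨y, hy, rfl⟩, hx⟩
        refine ⟨y, ⟨⟨y, hy⟩, Subgroup.mem_center_iff.2 fun b => Subtype.ext (Subtype.ext ?_), rfl⟩, rfl⟩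
        exact Subgroup.mem_centralizer_iff.1 hx (b : H) ⟨b, b.2, rfl⟩

/-- Let p be a prime and W a positive characteristic p-functor with Z(Q) ≤ W(Q): W assigns to every finite p-group Q (in a fixed universe) a subgroup W(Q), nontrivial when Q is, carried to W(R) by every isomorphism Q ≅ R, and containing the centre of Q. Suppose that for every finite group G with Sylow p-subgroup P in which W(P) is not normal there is g ∈ P outside O_p(G) with [Z(O_p(G)), g, g] = 1. Then for every saturated fusion system F over a finite p-group S and every normalizer fusion system N of W(S) in F, every p-th power of an element of Z(S) that lies in the centre of N lies in the centre of F. -/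
theorem result {p : ℕ} [Fact p.Prime] (W : ∀ (Q : Type u) [Group Q], Subgroup Q) (hW1 : ∀ (Q : Type u) [Group Q] [Finite Q], IsPGroup p Q → Nontrivial Q → W Q ≠ ⊥) (hW2 : ∀ (Q R : Type u) [Group Q] [Group R] [Finite Q], IsPGroup p Q → ∀ φ : Q ≃* R, (W Q).map φ.toMonoidHom = W R) (hWZ : ∀ (Q : Type u) [Group Q] [Finite Q], IsPGroup p Q → Subgroup.center Q ≤ W Q) (hq : ∀ (G : Type u) [Group G] [Finite G] (P : Sylow p G), ¬ (((W ↥(P : Subgroup G)).map (P : Subgroup G).subtype : Subgroup G)).Normal → ∃ g : G, g ∈ (P : Subgroup G) ∧ g ∉ Cfsg.pCore p G ∧ ⁅⁅Subgroup.center ↥(Cfsg.pCore p G) |>.map (Cfsg.pCore p G).subtype, Subgroup.zpowers g⁆, Subgroup.zpowers g⁆ = ⊥) {Ω : Type u} [Group Ω] {S : Subgroup Ω} [Finite S] (hS : IsPGroup p S) (F : Cfsg.FusionSystem S) (hF : F.IsSaturated p) (N : Cfsg.FusionSystem (Cfsg.FusionSystem.normalizerIn S ((W ↥S).map S.subtype))) (hN : F.IsNormalizerSystem ((W ↥S).map S.subtype) N) : Subgroup.closure ((fun z => z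 ^ p) '' ((S ⊓ Subgroup.centralizer (S : Set Ω) : Subgroup Ω) : Set Ω)) ⊓ N.center ≤ F.center := by
  have hgood := goodClass_powers W hW1 hW2 hWZ hq
  rintro x ⟨hx, hxN⟩
  refine FusionSys.mem_center_of_mem_center_normalizer hW1 hW2 hWZ hgood hS hF hN ?_ hxN
  obtain ⟨w, hw, hwx⟩ : ∃ w ∈ (S ⊓ Subgroup.centralizer (S : Set Ω) : Subgroup Ω), w ^ p = x := by
    clear hxN
    refine Subgroup.closure_induction (fun a ha => ?_) ⟨1, one_mem _, one_pow p⟩
      (fun a b _ _ ha hb => ?_) (fun a _ ha => ?_) hx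
    · obtain ⟨w, hw, rfl⟩ := ha
      exact ⟨w, hw, rfl⟩
    · obtain ⟨v, hv, rfl⟩ := ha
      obtain ⟨w, hw, rfl⟩ := hb
      have hvw : Commute v w := Subgroup.mem_centralizer_iff.1 hw.2 v hv.1
      exact ⟨v * w, mul_mem hv hw, hvw.mul_pow p⟩
    · obtain ⟨v, hv, rfl⟩ := ha
      exact ⟨v⁻¹, inv_mem hv, inv_pow v p⟩
  subst hwx
  exact ⟨pow_mem hw.1 p, fun y hy =>
    ((show Commute y w from Subgroup.mem_centralizer_iff.1 hw.2 y hy).pow_right p).eq, w, hw.1,
    fun y hy => Subgroup.mem_centralizer_iff.1 hw.2 y hy, rfl⟩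

end Cfsg.Agent.S5253
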