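import Cfsg.Statements.S5254
import Cfsg.Agent.H90.Oliver
open Cfsg.Agent.H90

set_option autoImplicit false
open Cfsg

namespace Cfsg.Agent.S5254

/-- Let p be an odd prime, S a finite nonabelian p-group with a unique abelian subgroup A of index p, and F a saturated fusion system over S. Then every F-essential subgroup P is A, or Z(S)⟨x⟩ for some x ∈ S outside A, or (when the second centre Z₂(S) lies in A) Z₂(S)⟨x⟩ for some x ∈ S outside A; and P has index p in its normalizer in S. -/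
theorem result {Ω : Type*} [Group Ω] {S : Subgroup Ω} [Finite S] (p : ℕ) [Fact p.Prime] (hS : IsPGroup p S) (F : Cfsg.FusionSystem S) (hF : F.IsSaturated p) (hp : p ≠ 2) (hna : ¬ IsMulCommutative ↥S) (A : Subgroup Ω) (hA : A ≤ S ∧ IsMulCommutative ↥A ∧ (A.subgroupOf S).index = p) (huniq : ∀ B : Subgroup Ω, B ≤ S → IsMulCommutative ↥B → (B.subgroupOf S).index = p → B = A) (P : Subgroup Ω) (hP : F.IsEssential p P) : (P = A ∨ (∃ x ∈ S, x ∉ A ∧ P = (S ⊓ Subgroup.centralizer (S : Set Ω)) ⊔ Subgroup.zpowers x) ∨ (((upperCentralSeries ↥S 2).map S.subtype) ≤ A ∧ ∃ x ∈ S, x ∉ A ∧ P = ((upperCentralSeries ↥S 2).map S.subtype) ⊔ Subgroup.zpowers x)) ∧ (P.subgroupOf (S ⊓ Subgroup.normalizer (P : Set Ω))).index = p := by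
  have H : Oliver.Setting S A p := ⟨hS, hp, hna, hA.1,
    fun a ha b hb => congrArg Subtype.val (hA.2.1.is_comm.comm ⟨a, ha⟩ ⟨b, hb⟩), hA.2.2, huniq⟩
  rcases em (P = A) with rfl | hPA
  · refine ⟨Or.inl rfl, ?_⟩
    haveI := FusionSys.finite_of_le hA.1
    have e : S ⊓ Subgroup.normalizer (P : Set Ω) = S := inf_eq_left.2 fun g hg =>
      FusionSys.mem_normalizer_of_maps fun y hy => H.conj_mem hg hy
    rw [e]; exact hA.2.2
  obtain ⟨x, E⟩ := Oliver.exists_ess H hF hP hPA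
  refine ⟨Or.inr ?_, E.index_normalizer hF hP⟩
  rw [Oliver.zc_eq]
  by_cases hab : P ⊓ A ≤ CI.zc S
  · refine Or.inl ⟨x, E.memS, E.notMem, le_antisymm (fun y hy => ?_)
      (sup_le E.zle (Subgroup.zpowers_le.2 E.mem))⟩
    obtain ⟨a, ha, i, rfl⟩ := E.dec y hy
    exact Subgroup.mul_mem _ (Subgroup.mem_sup_left (hab ha))
      (Subgroup.mem_sup_right (zpow_mem (Subgroup.mem_zpowers x) i))
  · refine Or.inr ⟨E.z2_le hF hP, x, E.memS, E.notMem, ?_⟩
    rw [show (upperCentralSeries ↥S 2).map S.subtype = H.z2A from E.z2_eq hF hP]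
    have heq := (E.type_two hF hP hab).1
    refine le_antisymm (fun y hy => ?_)
      (sup_le (heq ▸ inf_le_left) (Subgroup.zpowers_le.2 E.mem))
    obtain ⟨a, ha, i, rfl⟩ := E.dec y hy
    exact Subgroup.mul_mem _ (Subgroup.mem_sup_left (heq.le ha))
      (Subgroup.mem_sup_right (zpow_mem (Subgroup.mem_zpowers x) i))

end Cfsg.Agent.S5254
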