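import Cfsg.Statements.S5256
import Cfsg.Agent.H90.Basic
import Cfsg.Agent.H89.Factor

set_option autoImplicit false
open Cfsg

namespace Cfsg.Agent.S5256

/-- Let F be a saturated fusion system over a finite p-group S, T a subgroup of S strongly closed in F, and E a factor system F/T realised along a homomorphism θ of S with kernel T. Then the hyperfocal subgroup of E is the image under θ of the hyperfocal subgroup of F (hyp(F/T) = T·hyp(F)/T). -/
theorem result {Ω : Type*} [Group Ω] {S : Subgroup Ω} [Finite S] (p : ℕ) [Fact p.Prime] (hS : IsPGroup p S) (F : Cfsg.FusionSystem S) (hF : F.IsSaturated p) (T : Subgroup Ω) (hT : F.StronglyClosed T) {Ω' : Type*} [Group Ω'] {S' : Subgroup Ω'} (θ : ↥S →* Ω') (E : Cfsg.FusionSystem S') (hE : F.IsFactorSystem T θ E) : E.hyperfocalSubgroup p = ((F.hyperfocalSubgroup p).subgroupOf S).map θ := by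
  classical
  obtain ⟨hsurjm, hrange, hlift⟩ := Cfsg.Agent.H89.isSurjectiveMorphism_of_factor hS hF hT hE
  have : Finite ↥S' := by
    rw [← hrange]
    exact Finite.of_surjective _ θ.rangeRestrict_surjective
  obtain ⟨hθS, hmor⟩ := hsurjm
  apply le_antisymm
  · refine (Subgroup.closure_le _).2 ?_
    rintro y ⟨P', γ, x', hP', hγ, rfl⟩
    set H := ((F.hyperfocalSubgroup p).subgroupOf S).map θ
    induction hγ using Subgroup.closure_induction generalizing x' with
    | mem g hg =>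
      obtain ⟨φ, hφ, hPS, hφS, hmem, hind⟩ := hlift P' hP' _
        (Cfsg.Agent.H90.hom_of_aut_mem E hP' g.2)
      let P := Cfsg.FusionSystem.preimageAlong θ P'
      have := Cfsg.Agent.H90.finite_le hPS
      have hv : ∀ x, φ x ∈ P := fun x => by
        refine ⟨⟨φ x, hφS x⟩, Subgroup.mem_comap.2 ?_, rfl⟩
        rw [← hind x]
        exact ((g : MulAut ↥P') ⟨θ ⟨x, hPS x.2⟩, hmem x⟩).2
      let b : ↥(F.autGroup P) := ⟨_, Cfsg.Agent.H90.toAut_mem F hφ hv⟩
      have hb1 : ∀ (k : ℕ) (x : ↥P),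
          θ ⟨((((b : MulAut ↥P) ^ k) x : ↥P) : Ω), hPS (((b : MulAut ↥P) ^ k) x).2⟩ =
            ((((g : MulAut ↥P') ^ k) ⟨θ ⟨x, hPS x.2⟩, hmem x⟩ : ↥P') : Ω') := by
        intro k
        induction k with
        | zero => intro x; rfl
        | succ k ih =>
          intro x
          rw [pow_succ', pow_succ']
          show _ = (((g : MulAut ↥P') (((g : MulAut ↥P') ^ k) ⟨θ ⟨x, hPS x.2⟩, hmem x⟩) : ↥P') : Ω')
          refine Eq.trans (hind (((b : MulAut ↥P) ^ k) x)).symm ?_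
          exact congrArg (fun z => (((g : MulAut ↥P') z : ↥P') : Ω')) (Subtype.ext (ih x))
      have := Cfsg.Agent.H90.finite_le hP'
      obtain ⟨a, m, hm, hbo⟩ := Nat.exists_eq_pow_mul_and_not_dvd
        (orderOf_pos (b : MulAut ↥P)).ne' p (Fact.out : p.Prime).ne_one
      have hgo : (orderOf (g : MulAut ↥P')).Coprime p := by rwa [Subgroup.orderOf_coe]
      obtain ⟨k, hk1, hk2⟩ := Nat.chineseRemainder (hgo.symm.pow_left a) 0 1
      have hgk : (g : MulAut ↥P') ^ k = (g : MulAut ↥P') := by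
        conv_rhs => rw [← pow_one (g : MulAut ↥P')]
        exact pow_eq_pow_iff_modEq.2 hk2
      obtain ⟨s, hs⟩ : (x' : Ω') ∈ θ.range := hrange.symm ▸ hP' x'.2
      have hsP : (s : Ω) ∈ P := ⟨s, Subgroup.mem_comap.2 (hs ▸ x'.2), rfl⟩
      have hbk : (orderOf (b ^ k : ↥(F.autGroup P))).Coprime p := by
        obtain ⟨c, hc⟩ := Nat.modEq_zero_iff_dvd.1 hk1
        have hd : orderOf (b ^ k : ↥(F.autGroup P)) ∣ m := by
          refine orderOf_dvd_of_pow_eq_one ?_
          have h1 : b ^ (p ^ a * m) = 1 := by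
            rw [← hbo, Subgroup.orderOf_coe]; exact pow_orderOf_eq_one b
          rw [← pow_mul, hc, show p ^ a * c * m = p ^ a * m * c by ring, pow_mul, h1, one_pow]
        exact Nat.Coprime.coprime_dvd_left hd
          (((Fact.out : p.Prime).coprime_iff_not_dvd.2 hm).symm)
      refine ⟨⟨(s : Ω)⁻¹ * (((b ^ k : ↥(F.autGroup P)) : MulAut ↥P) ⟨s, hsP⟩ : ↥P),
        S.mul_mem (S.inv_mem s.2) (hPS (((b ^ k : ↥(F.autGroup P)) : MulAut ↥P) ⟨s, hsP⟩).2)⟩,
        Subgroup.mem_subgroupOf.2 (Subgroup.subset_closure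
          ⟨P, b ^ k, ⟨s, hsP⟩, hPS, Subgroup.subset_closure hbk, rfl⟩), ?_⟩
      rw [show (⟨(s : Ω)⁻¹ * (((b ^ k : ↥(F.autGroup P)) : MulAut ↥P) ⟨s, hsP⟩ : ↥P), _⟩ : ↥S) =
        s⁻¹ * ⟨((((b : MulAut ↥P) ^ k) ⟨s, hsP⟩ : ↥P) : Ω), hPS (((b : MulAut ↥P) ^ k) _).2⟩
        from Subtype.ext rfl, map_mul, map_inv, hb1, hgk,
        show (⟨θ ⟨((⟨s, hsP⟩ : ↥P) : Ω), hPS hsP⟩, hmem ⟨s, hsP⟩⟩ : ↥P') = x' from Subtype.ext hs,
        hs]
    | one => simp
    | mul u v _ _ hu hv =>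
      have h := H.mul_mem (hv x') (hu ((v : MulAut ↥P') x'))
      rw [mul_assoc, mul_inv_cancel_left] at h
      exact h
    | inv u _ hu =>
      have h := H.inv_mem (hu ((u : MulAut ↥P')⁻¹ x'))
      rw [show (u : MulAut ↥P') ((u : MulAut ↥P')⁻¹ x') = x' from
        (u : MulAut ↥P').apply_symm_apply x', mul_inv_rev, inv_inv] at h
      exact h
  · rw [Subgroup.map_le_iff_le_comap]
    intro s hs
    have key : F.hyperfocalSubgroup p ≤ (((E.hyperfocalSubgroup p).comap θ)).map S.subtype := by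
      refine (Subgroup.closure_le _).2 ?_
      rintro y ⟨P, α, x, hP, hα, rfl⟩
      induction hα using Subgroup.closure_induction generalizing x with
      | mem g hg =>
        obtain ⟨φ', hφ', hPS, hgS, hmem, hind⟩ := hmor P _
          (Cfsg.Agent.H90.hom_of_aut_mem F hP g.2)
        let P' := Cfsg.FusionSystem.imageAlong θ P
        have := Cfsg.Agent.H90.finite_le (Cfsg.Agent.H90.src_le E hφ')
        have hv : ∀ z, φ' z ∈ P' := by
          rintro ⟨z, w, hw, rfl⟩
          rw [show (⟨θ w, ⟨w, hw, rfl⟩⟩ : ↥P') =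
            ⟨θ ⟨(w : Ω), hPS hw⟩, hmem ⟨w, hw⟩⟩ from rfl]; refine (hind ⟨w, hw⟩).symm ▸ ?_
          exact ⟨_, Subgroup.mem_subgroupOf.2 (((g : MulAut ↥P) ⟨w, hw⟩).2), rfl⟩
        let c : ↥(E.autGroup P') := ⟨_, Cfsg.Agent.H90.toAut_mem E hφ' hv⟩
        have hc1 : ∀ (k : ℕ) (z : ↥P),
            ((((c : MulAut ↥P') ^ k) ⟨θ ⟨z, hPS z.2⟩, hmem z⟩ : ↥P') : Ω') =
              θ ⟨((((g : MulAut ↥P) ^ k) z : ↥P) : Ω), hPS (((g : MulAut ↥P) ^ k) z).2⟩ := by
          intro k
          induction k with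
          | zero => intro z; rfl
          | succ k ih =>
            intro z
            rw [pow_succ', pow_succ']
            show φ' (((c : MulAut ↥P') ^ k) ⟨θ ⟨z, hPS z.2⟩, hmem z⟩) = _
            exact (congrArg φ' (Subtype.ext (ih z) :
              ((c : MulAut ↥P') ^ k) ⟨θ ⟨z, hPS z.2⟩, hmem z⟩ =
                ⟨_, hmem (((g : MulAut ↥P) ^ k) z)⟩)).trans (hind _)
        have hco : (orderOf c).Coprime p := by
          refine Nat.Coprime.coprime_dvd_left (orderOf_dvd_of_pow_eq_one ?_) hg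
          refine Subtype.ext (MulEquiv.ext fun z => ?_)
          obtain ⟨z, w, hw, rfl⟩ := z
          refine Subtype.ext ?_
          have h := hc1 (orderOf g) ⟨w, hw⟩
          have hg1 : (g : MulAut ↥P) ^ orderOf g = 1 :=
            congrArg Subtype.val (pow_orderOf_eq_one g)
          simpa [hg1] using h
        refine ⟨⟨(x : Ω)⁻¹ * ((g : MulAut ↥P) x : ↥P),
          S.mul_mem (S.inv_mem (hPS x.2)) (hPS ((g : MulAut ↥P) x).2)⟩, ?_, rfl⟩
        refine Subgroup.mem_comap.2 (Subgroup.subset_closure ⟨P', c, ⟨θ ⟨x, hPS x.2⟩, hmem x⟩,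
          Cfsg.Agent.H90.src_le E hφ', Subgroup.subset_closure hco, ?_⟩)
        rw [show (⟨(x : Ω)⁻¹ * ((g : MulAut ↥P) x : ↥P), _⟩ : ↥S) =
          ⟨x, hPS x.2⟩⁻¹ * ⟨((g : MulAut ↥P) x : ↥P), hPS ((g : MulAut ↥P) x).2⟩
          from Subtype.ext rfl, map_mul, map_inv]
        exact congrArg (fun z => (θ ⟨(x : Ω), hPS x.2⟩)⁻¹ * z) (hind x).symm
      | one => simp
      | mul u v _ _ hu hv =>
        have h := Subgroup.mul_mem _ (hv x) (hu ((v : MulAut ↥P) x))
        rw [mul_assoc, mul_inv_cancel_left] at h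
        exact h
      | inv u _ hu =>
        have h := Subgroup.inv_mem _ (hu ((u : MulAut ↥P)⁻¹ x))
        rw [show (u : MulAut ↥P) ((u : MulAut ↥P)⁻¹ x) = x from
          (u : MulAut ↥P).apply_symm_apply x, mul_inv_rev, inv_inv] at h
        exact h
    obtain ⟨t, ht, hts⟩ := key (Subgroup.mem_subgroupOf.1 hs)
    rw [← Subtype.ext hts]
    exact ht

end Cfsg.Agent.S5256
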