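import Cfsg.Statements.S5264
import Cfsg.Agent.Cores.FusFive.Main

set_option autoImplicit false
open Cfsg

namespace Cfsg.Agent.S5264

/-- Let p be an odd prime other than 7, S a finite p-group of order p^5, and F a saturated fusion system over S with no nontrivial normal subgroup and with hyperfocal subgroup equal to S (so F is its own p-residual subsystem). Then S has an abelian subgroup of index p. -/
theorem result {Ω : Type*} [Group Ω] {S : Subgroup Ω} [Finite S] (p : ℕ) [Fact p.Prime] (hS : IsPGroup p ↥S) (F : Cfsg.FusionSystem S) (hF : F.IsSaturated p) (hp : p ≠ 2) (hp7 : p ≠ 7) (hcard : Nat.card S = p ^ 5) (hcore : F.core = ⊥) (hhyp : F.hyperfocalSubgroup p = S) : ∃ A : Subgroup Ω, A ≤ S ∧ IsMulCommutative ↥A ∧ (A.subgroupOf S).index = p := by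
  obtain ⟨A, hA, hAc, hab⟩ :=
    Cores.FusFive.exists_abelian_index hS hF hp hp7 hcard hcore hhyp
  refine ⟨A, hA, ⟨⟨fun a b => Subtype.ext (hab a a.2 b b.2).eq⟩⟩, ?_⟩
  have h := Subgroup.card_mul_index (A.subgroupOf S)
  rw [Nat.card_congr (Subgroup.subgroupOfEquivOfLe hA).toEquiv, hAc, hcard, pow_succ _ 4] at h
  exact Nat.eq_of_mul_eq_mul_left (pow_pos (Fact.out : p.Prime).pos 4) h

end Cfsg.Agent.S5264
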