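import Cfsg.Statements.S5265
import Cfsg.Agent.H90.CenterIndex
import Cfsg.Agent.H90.Supersoluble

set_option autoImplicit false
open Cfsg

namespace Cfsg.Agent.S5265

/-- Let p be a prime, S a nontrivial finite p-group whose centre has index at most p², and F a saturated fusion system over S with no nontrivial normal subgroup and with hyperfocal subgroup equal to S. Then S is extraspecial of order p³; for odd p it has exponent p, and for p = 2 it is dihedral of order 8. -/
theorem result {Ω : Type*} [Group Ω] {S : Subgroup Ω} [Finite S] (p : ℕ) [Fact p.Prime] (hS : IsPGroup p ↥S) (F : Cfsg.FusionSystem S) (hF : F.IsSaturated p) (hS1 : S ≠ ⊥) (hcore : F.core = ⊥) (hhyp : F.hyperfocalSubgroup p = S) (hZ : (Subgroup.center ↥S).index ≤ p ^ 2) : Cfsg.IsExtraspecial p ↥S ∧ Nat.card S = p ^ 3 ∧ (p ≠ 2 → Monoid.exponent ↥S = p) ∧ (p = 2 → Nonempty (↥S ≃* DihedralGroup 4)) := by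
  have hbot : ∀ Q, F.IsNormal Q → Q = ⊥ := fun Q hQ => le_bot_iff.1 (hcore ▸ le_sSup hQ)
  have hi : (Subgroup.center ↥S).index = p ^ 2 := by
    obtain ⟨k, hk⟩ := hS.index (H := Subgroup.center ↥S)
    rw [hk] at hZ ⊢
    have h2 : k ≤ 2 := (Nat.pow_le_pow_iff_right (Fact.out : p.Prime).one_lt).1 hZ
    interval_cases k
    · exfalso
      have htop : Subgroup.center ↥S = ⊤ := Subgroup.index_eq_one.1 (by simpa using hk)
      have hab : IsMulCommutative ↥S := ⟨⟨fun a b =>
        Subgroup.mem_center_iff.1 (htop.ge (Subgroup.mem_top b)) a⟩⟩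
      exact hS1 (hbot S (Cfsg.Agent.H90.isNormal_top_of_abelian hS hab hF))
    · exact absurd (by simpa using hk) (Cfsg.Agent.PGroups.center_index_ne_prime (p := p))
    · rfl
  exact Cfsg.Agent.H90.CI.main hS hi hF hbot hS1 hhyp

end Cfsg.Agent.S5265
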