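import Cfsg.Statements.S5271
import Cfsg.Agent.H91.WeakEmb.Main

set_option autoImplicit false
open Cfsg

namespace Cfsg.Agent.S5271

open Cfsg.FusionSystem Cfsg.Agent.FusionSys
open Cfsg.FusionSystem (centralizerIn normalizerIn)
open Cfsg.Agent.H91.WeakEmb


/-- A nilpotency criterion for fusion systems. Let F be a saturated fusion system over a finite p-group S of order at least p². Call a subgroup Q of S weakly embedded in F when there is a subgroup P of S strongly closed in F such that both the product QP and the intersection Q ∩ P are strongly closed in F. Then F is the inner fusion system of S if and only if there is a subgroup D of S with 1 < D < S such that every subgroup of S of the same order as D is weakly embedded in F and, for every fully normalized subgroup H of S of that order, the normalizer fusion system of H in F is the inner fusion system of N_S(H). -/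
theorem result {Ω : Type*} [Group Ω] {S : Subgroup Ω} [Finite S] (p : ℕ) [Fact p.Prime] (hS : IsPGroup p ↥S) (F : Cfsg.FusionSystem S) (hF : F.IsSaturated p) (hcard : p ^ 2 ≤ Nat.card S) : (∀ P : Subgroup Ω, F.Hom P = (Cfsg.innerFusionSystem S).Hom P) ↔ ∃ D : Subgroup Ω, ⊥ < D ∧ D < S ∧ (∀ Q : Subgroup Ω, Q ≤ S → Nat.card ↥Q = Nat.card ↥D → ∃ P : Subgroup Ω, F.StronglyClosed P ∧ F.StronglyClosed (Q ⊔ P) ∧ F.StronglyClosed (Q ⊓ P)) ∧ (∀ H : Subgroup Ω, F.IsFullyNormalized H → Nat.card ↥H = Nat.card ↥D → ∀ N : Cfsg.FusionSystem (Cfsg.FusionSystem.normalizerIn S H), F.IsNormalizerSystem H N → ∀ P : Subgroup Ω, N.Hom P = (Cfsg.innerFusionSystem (Cfsg.FusionSystem.normalizerIn S H)).Hom P) := by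
  constructor
  · intro hin
    haveI : Nontrivial S := Finite.one_lt_card_iff_nontrivial.1
      ((Nat.one_lt_pow two_ne_zero (Fact.out : p.Prime).one_lt).trans_le hcard)
    obtain ⟨M, hM, -⟩ := (eq_top_or_exists_le_coatom (⊥ : Subgroup S)).resolve_left bot_ne_top
    haveI := PGroups.normal_of_isCoatom hS hM
    have hMi := PGroups.index_eq_of_isCoatom hS hM
    have hMc := M.card_mul_index
    rw [hMi] at hMc
    set D := M.map S.subtype with hD
    have hDc : Nat.card D = Nat.card M := Subgroup.card_subtype S M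
    have hlt : D < S := lt_of_le_of_ne (Subgroup.map_subtype_le M) fun he => by
      have : Nat.card M * p = Nat.card M := by rw [hMc, ← hDc, he]
      exact (Fact.out : p.Prime).one_lt.ne' ((mul_eq_left₀ Nat.card_pos.ne').1 this)
    refine ⟨D, bot_lt_iff_ne_bot.2 fun hb => ?_, hlt, ?_, ?_⟩
    · rw [hb, Subgroup.card_bot] at hDc
      rw [← hMc, ← hDc, one_mul] at hcard
      exact hcard.not_gt ((lt_self_pow₀ (Fact.out : p.Prime).one_lt one_lt_two))
    · intro Q hQ hQc
      haveI := finite_of_le hQ
      have hQn : (Q.subgroupOf S).Normal := by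
        refine PGroups.normal_of_isCoatom hS ⟨fun ht => ?_, fun U hU => ?_⟩
        · have h1 := congrArg (fun U : Subgroup S => Nat.card U) ht
          simp only [Subgroup.card_top, Nat.card_congr (Subgroup.subgroupOfEquivOfLe hQ).toEquiv,
            hQc, hDc] at h1
          rw [← hMc] at h1
          exact (Fact.out : p.Prime).one_lt.ne' ((mul_eq_left₀ Nat.card_pos.ne').1 h1.symm)
        · have hU' := Subgroup.card_mul_index U
          have hlt' : Nat.card (Q.subgroupOf S) < Nat.card U := by
            refine lt_of_le_of_ne (Subgroup.card_le_of_le hU.le) fun he => hU.ne ?_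
            exact Subgroup.eq_of_le_of_card_ge hU.le he.ge
          rw [Nat.card_congr (Subgroup.subgroupOfEquivOfLe hQ).toEquiv, hQc, hDc] at hlt'
          obtain ⟨j, hj⟩ := IsPGroup.iff_card.1 (hS.to_subgroup U)
          obtain ⟨i, hi⟩ := IsPGroup.iff_card.1 (hS.to_subgroup M)
          refine Subgroup.eq_top_of_le_card U ?_
          rw [← hMc, hi, hj, ← pow_succ]
          rw [hi, hj] at hlt'
          exact Nat.pow_le_pow_right (Fact.out : p.Prime).pos
            ((Nat.pow_lt_pow_iff_right (Fact.out : p.Prime).one_lt).1 hlt')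
      have hn : S ≤ Subgroup.normalizer (Q : Set Ω) :=
        (Subgroup.normal_subgroupOf_iff_le_normalizer hQ).1 hQn
      have hQsc : F.StronglyClosed Q := stronglyClosed_iff.2 ⟨hQ, fun P f hP hf x hx => by
        obtain ⟨g, hg, hge⟩ := eq_inner_iff.1 hin P f hf
        rw [hge x hx]
        exact (Subgroup.mem_normalizer_iff.1 (hn hg) x).1 (hP hx)⟩
      exact ⟨⊥, H89.stronglyClosed_bot F, by rwa [sup_bot_eq],
        by rw [inf_bot_eq]; exact H89.stronglyClosed_bot F⟩
    · intro H hH _ N hN P
      refine Set.Subset.antisymm (fun φ hφ => ?_) fun φ hφ => innerFusionSystem_le N _ hφ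
      rw [hN P] at hφ
      obtain ⟨-, hP, -, ψ, hψ, hψe, hψH⟩ := hφ
      obtain ⟨g, hg, hge⟩ := eq_inner_iff.1 hin _ _ (isMap_of_mem hψ)
      haveI := finite_of_le hH.1
      have him : (fun x => g * x * g⁻¹) '' (H : Set Ω) = H := by
        refine ((isMap_of_mem hψ).mono le_sup_right |>.congr fun x hx => ?_).image_eq_of_mapsTo fun x hx => ?_
        · exact (hge x (Subgroup.mem_sup_right hx)).symm
        · rw [← hge x (Subgroup.mem_sup_right hx)]
          have h1 : ψ ⟨x, Subgroup.mem_sup_right hx⟩ ∈ H := hψH.le ⟨_, hx, rfl⟩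
          rwa [← homFun_coe ψ] at h1
      refine ⟨hP, g, ⟨hg, Subgroup.mem_normalizer_iff.2 fun y => ⟨fun hy => ?_, fun hy => ?_⟩⟩,
        fun x => ?_⟩
      · exact him.le ⟨y, hy, rfl⟩
      · obtain ⟨z, hz, hze⟩ := him.ge hy
        simp only [mul_left_inj, mul_right_inj] at hze
        exact hze ▸ hz
      · rw [← hψe x, ← homFun_coe ψ (Subgroup.inclusion le_sup_left x)]
        exact hge x (Subgroup.mem_sup_left x.2)
  · rintro ⟨D, hD0, hDS, hweak, hinner⟩
    haveI := finite_of_le hDS.le
    obtain ⟨k, hk⟩ := IsPGroup.iff_card.1 (hS.to_le hDS.le)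
    have hk1 : 1 ≤ k := Nat.one_le_iff_ne_zero.2 fun h0 => by
      rw [h0, pow_zero] at hk
      exact hD0.ne' (Subgroup.card_eq_one.1 hk)
    have hlt : p ^ k < Nat.card S := hk ▸ lt_of_le_of_ne (Subgroup.card_le_of_le hDS.le) fun he =>
      hDS.ne (Subgroup.eq_of_le_of_card_ge hDS.le he.ge)
    exact inner_aux _ F k le_rfl hS hF hk1 hlt
      ⟨fun Q hQ hQc => hweak Q hQ (hQc.trans hk.symm),
        fun H hH hHc N hN => hinner H hH (hHc.trans hk.symm) N hN⟩

end Cfsg.Agent.S5271
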