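import Cfsg.Statements.S5273
import Cfsg.Agent.H88.SmallExp

set_option autoImplicit false
open Cfsg

namespace Cfsg.Agent.S5273

/-- Small-exponent abelian subgroups control fusion. Let E and F be saturated fusion systems over the same finite p-group S with E contained in F. Suppose that E and F have the same maps between A and B for all subgroups A, B of S that are elementary abelian when p is odd, respectively abelian of exponent dividing 4 when p = 2. Then E = F (they have the same maps on every subgroup). -/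
theorem result {Ω : Type*} [Group Ω] {S : Subgroup Ω} [Finite S] (p : ℕ) [Fact p.Prime] (hS : IsPGroup p ↥S) (E F : Cfsg.FusionSystem S) (hE : E.IsSaturated p) (hF : F.IsSaturated p) (hEF : E.IsSubsystemOf F) (hodd : p ≠ 2 → ∀ A B : Subgroup Ω, A ≤ S → B ≤ S → Cfsg.IsElementaryAbelian p A → Cfsg.IsElementaryAbelian p B → E.homSet A B = F.homSet A B) (htwo : p = 2 → ∀ A B : Subgroup Ω, A ≤ S → B ≤ S → IsMulCommutative ↥A → IsMulCommutative ↥B → (∀ a ∈ A, a ^ 4 = 1) → (∀ b ∈ B, b ^ 4 = 1) → E.homSet A B = F.homSet A B) : ∀ P : Subgroup Ω, E.Hom P = F.Hom P := by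
  have hle : E ≤ F := fun P => hEF P
  have key : ∀ (e : ℕ), (∀ A, H88.IsSmall e A → A ≤ S → ∀ B, H88.IsSmall e B → B ≤ S → E.homSet A B = F.homSet A B) →
      ∀ A, H88.IsSmall e A → ∀ f, Agent.FusionSys.IsMap F A f → Agent.FusionSys.IsMap E A f := by
    intro e he A hA f hf
    obtain ⟨φ, hφ, hφf⟩ := hf
    have hf' : Agent.FusionSys.IsMap F A f := ⟨φ, hφ, hφf⟩
    have h1 : φ ∈ F.homSet A (Agent.FusionSys.imgSub f A) :=
      ⟨hφ, fun x => hf'.mem_imgSub.2 ⟨x, x.2, (hφf x).symm⟩⟩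
    rw [← he A hA hf'.le _ (hA.image hf') hf'.imgSub_le] at h1
    exact ⟨φ, h1.1, hφf⟩
  have hFE : F ≤ E := by
    rcases eq_or_ne p 2 with rfl | hp
    · refine H88.le_of_small hS hE hF hle (key 4 fun A hA hAS B hB hBS => ?_) (n := 2) (by norm_num) (by norm_num)
        (fun x hx => by rw [show 4 = 2 * 2 from rfl, pow_mul, hx, one_pow]) (fun _ _ h => h)
      exact htwo rfl A B hAS hBS ⟨⟨fun a b => Subtype.ext (hA.1 a a.2 b b.2)⟩⟩
        ⟨⟨fun a b => Subtype.ext (hB.1 a a.2 b b.2)⟩⟩ hA.2 hB.2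
    · refine H88.le_of_small hS hE hF hle (key p fun A hA hAS B hB hBS => ?_) (n := 1) (by rw [pow_one]; exact hp)
        (pow_one p).symm (fun x hx => hx) (fun h => absurd h hp)
      exact hodd hp A B hAS hBS ⟨⟨⟨fun a b => Subtype.ext (hA.1 a a.2 b b.2)⟩⟩, hA.2⟩
        ⟨⟨⟨fun a b => Subtype.ext (hB.1 a a.2 b b.2)⟩⟩, hB.2⟩
  exact fun P => Set.Subset.antisymm (hle P) (hFE P)

end Cfsg.Agent.S5273
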