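import Cfsg.Statements.S5274
import Cfsg.Agent.FusionSys.Saturated

set_option autoImplicit false
open Cfsg

namespace Cfsg.Agent.S5274
open Cfsg Cfsg.FusionSystem Cfsg.Agent.FusionSys

variable {Ω : Type*} [Group Ω] {S : Subgroup Ω} {F : FusionSystem S}

theorem centralizerIn_eq_self (Q : Subgroup Ω) (h : ∀ y ∈ Q, ∀ x ∈ S, y * x = x * y) :
    centralizerIn S Q = S :=
  le_antisymm centralizerIn_le fun x hx =>
    FusionSys.mem_centralizerIn.2 ⟨hx, fun y hy => h y hy x hx⟩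

theorem commute_zpowers {z x : Ω} (h : z * x = x * z) :
    ∀ y ∈ Subgroup.zpowers z, y * x = x * y := by
  rintro _ ⟨k, rfl⟩
  exact (Commute.zpow_left h k).eq

variable [Finite S]

/-- A map sending `x` to the central element `z` extends to the centralizer of `x`. -/
theorem extend_to_central (hS : IsPGroup 2 S) (hF : F.IsSaturated 2) {x z : Ω} {f : Ω → Ω}
    (hf : IsMap F (Subgroup.zpowers x) f) (hfx : f x = z)
    (hz : ∀ y ∈ S, z * y = y * z) :
    ∃ g, IsMap F (centralizerIn S (Subgroup.zpowers x) ⊔ Subgroup.zpowers x) g ∧ g x = z := by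
  have hzc : ∀ y ∈ imgSub f (Subgroup.zpowers x), ∀ s ∈ S, y * s = s * y := by
    intro y hy s hs
    obtain ⟨a, ⟨k, rfl⟩, rfl⟩ := hf.mem_imgSub.1 hy
    have hx := Subgroup.mem_zpowers x
    have key : f (x ^ k) = z ^ k := by
      obtain ⟨φ, -, hφ⟩ := hf
      have h1 := map_zpow φ ⟨x, hx⟩ k
      rw [hφ, hφ] at h1
      simpa [hfx] using h1
    show f (x ^ k) * s = s * f (x ^ k)
    rw [key]
    exact (Commute.zpow_left (hz s hs) k).eq
  have hfc : F.IsFullyCentralized (imgSub f (Subgroup.zpowers x)) := by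
    refine ⟨hf.imgSub_le, fun R _ => ?_⟩
    rw [centralizerIn_eq_self _ hzc]
    exact Nat.card_le_card_of_injective _ (Subgroup.inclusion_injective centralizerIn_le)
  obtain ⟨g, hg, he⟩ := receptive_extend (receptive_of_isFullyCentralized hS hF hfc) hf.isIso
    (N := centralizerIn S (Subgroup.zpowers x)) fun y hy => hf.inExt_of_centralizes hy
  exact ⟨g, hg, (he x (Subgroup.mem_zpowers x)).trans hfx⟩

/-- Fusion of central elements is realised on `S`. -/
theorem map_on_top (hS : IsPGroup 2 S) (hF : F.IsSaturated 2) {z z' : Ω} {f : Ω → Ω}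
    (hf : IsMap F (Subgroup.zpowers z) f) (hfx : f z = z') (hzS : z ∈ S)
    (hz : ∀ y ∈ S, z * y = y * z) (hz' : ∀ y ∈ S, z' * y = y * z') :
    ∃ g, IsMap F S g ∧ g z = z' := by
  obtain ⟨g, hg, hgz⟩ := extend_to_central hS hF hf hfx hz'
  refine ⟨g, hg.mono ?_, hgz⟩
  rw [centralizerIn_eq_self _ fun y hy s hs => commute_zpowers (hz s hs) y hy]
  exact le_sup_left

theorem central_image {g : Ω → Ω} (hg : IsMap F S g) {z : Ω} (hzS : z ∈ S)
    (hz : ∀ y ∈ S, z * y = y * z) : g z ∈ S ∧ ∀ y ∈ S, g z * y = y * g z := by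
  refine ⟨hg.mem_S hzS, fun y hy => ?_⟩
  have hsurj : g '' (S : Set Ω) = S := by
    refine Set.eq_of_subset_of_ncard_le (Set.image_subset_iff.2 fun a ha => hg.mem_S ha) ?_
      (Set.toFinite _)
    rw [Set.ncard_image_of_injOn hg.injOn]
  obtain ⟨a, ha, rfl⟩ : y ∈ g '' (S : Set Ω) := hsurj.symm ▸ hy
  rw [← hg.map_mul hzS ha, hz a ha, hg.map_mul ha hzS]

/-- A central element conjugate to its inverse is an involution. -/
theorem sq_eq_one_of_rev (hS : IsPGroup 2 S) (hF : F.IsSaturated 2) {z : Ω} {g : Ω → Ω}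
    (hg : IsMap F S g) (hgz : g z = z⁻¹) (hzS : z ∈ S) (hz : ∀ y ∈ S, z * y = y * z) :
    z ^ 2 = 1 := by
  haveI : Fact (Nat.Prime 2) := ⟨Nat.prime_two⟩
  haveI := finite_autGroup F (le_refl S)
  obtain ⟨Q, hQ, hA, -⟩ := hF S le_rfl
  have hQS : Q = S := SetLike.coe_injective <|
    Set.eq_of_subset_of_ncard_le hA.1 (le_of_eq (by
      rw [← Nat.card_coe_set_eq, ← Nat.card_coe_set_eq]; exact card_eq_of_isConj hQ)) (Set.toFinite _)
  subst hQS
  obtain ⟨hQ', T, hT⟩ := hA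
  have himg : g '' (Q : Set Ω) = Q := by
    refine Set.eq_of_subset_of_ncard_le (Set.image_subset_iff.2 fun a ha => hg.mem_S ha) ?_
      (Set.toFinite _)
    rw [Set.ncard_image_of_injOn hg.injOn]
  obtain ⟨α, hα, hαg⟩ := (IsIso.mk hg himg).exists_aut
  have hrev : ∀ n : ℕ, (α ^ n : MulAut Q) ⟨z, hzS⟩ =
      if Even n then (⟨z, hzS⟩ : Q) else (⟨z, hzS⟩ : Q)⁻¹ := by
    have h1 : α ⟨z, hzS⟩ = (⟨z, hzS⟩ : Q)⁻¹ :=
      Subtype.ext (by rw [← autMap_apply α hzS, hαg z hzS, hgz]; rfl)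
    intro n
    induction n with
    | zero => simp
    | succ n ih =>
      rw [pow_succ', MulAut.mul_apply, ih]
      by_cases hn : Even n
      · rw [if_pos hn, if_neg (by simpa [Nat.even_add_one] using hn), h1]
      · rw [if_neg hn, if_pos (Nat.even_add_one.2 hn), map_inv, h1, inv_inv]
  haveI : (T : Subgroup (F.autGroup Q)).Normal := ⟨by
    intro β hβ γ
    rw [hT, Subgroup.mem_subgroupOf] at hβ ⊢
    obtain ⟨s, hs, hsn, hse⟩ := mem_autInducedBy.1 hβ
    refine mem_autInducedBy.2 ⟨((γ : MulAut Q) ⟨s, hs⟩ : Q), SetLike.coe_mem _,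
      Subgroup.le_normalizer (SetLike.coe_mem _), MulEquiv.ext fun y => Subtype.ext ?_⟩
    have : ((γ : MulAut Q) * (β : MulAut Q) * (γ : MulAut Q)⁻¹) y =
        (γ : MulAut Q) ⟨s, hs⟩ * y * ((γ : MulAut Q) ⟨s, hs⟩)⁻¹ := by
      rw [MulAut.mul_apply, MulAut.mul_apply, hse,
        show (conjAut hsn) ((γ : MulAut Q)⁻¹ y) = ⟨s, hs⟩ * ((γ : MulAut Q)⁻¹ y) * ⟨s, hs⟩⁻¹ from rfl,
        map_mul, map_mul, map_inv, MulAut.apply_inv_self]
    exact congrArg Subtype.val this⟩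
  have hm := Subgroup.pow_index_mem (T : Subgroup (F.autGroup Q)) ⟨α, hα⟩
  have hodd : ¬ Even ((T : Subgroup (F.autGroup Q)).index) := fun h =>
    T.not_dvd_index (even_iff_two_dvd.1 h)
  rw [hT, Subgroup.mem_subgroupOf] at hm
  obtain ⟨s, hs, hsn, hse⟩ := mem_autInducedBy.1 hm
  rw [Subgroup.coe_pow, ← hT] at hse
  have h2 := hrev ((T : Subgroup (F.autGroup Q)).index)
  rw [if_neg hodd, hse] at h2
  have h3 : s * z * s⁻¹ = z⁻¹ := congrArg Subtype.val h2
  rw [show s * z * s⁻¹ = z by rw [← hz s hs]; group] at h3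
  rw [pow_two]
  nth_rw 2 [h3]
  simp

/-- No element of order above two is inverted inside `S`. -/
theorem sq_eq_one_of_inverted (hS : IsPGroup 2 S) (hF : F.IsSaturated 2)
    (h : ∀ x ∈ S, ∃ z ∈ S ⊓ Subgroup.centralizer (S : Set Ω), F.IsConjElt x z)
    {r s : Ω} (hr : r ∈ S) (hs : s ∈ S) (hrs : s * r * s⁻¹ = r⁻¹) : r ^ 2 = 1 := by
  obtain ⟨z, ⟨hzS, hzc⟩, φ, hφ, hφz⟩ := h r hr
  have hz : ∀ y ∈ S, z * y = y * z := fun y hy => (Subgroup.mem_centralizer_iff.1 hzc y hy).symm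
  have hR : Subgroup.zpowers r ≤ S := Subgroup.zpowers_le.2 hr
  set f := homFun φ with hfdef
  have hf : IsMap F (Subgroup.zpowers r) f := isMap_of_mem hφ
  have hfr : f r = z := by rw [hfdef, homFun_mem φ (Subgroup.mem_zpowers r)]; exact hφz
  obtain ⟨i, hi, hinv⟩ := hf.exists_inv
  have hzi : z ∈ imgSub f (Subgroup.zpowers r) :=
    hf.mem_imgSub.2 ⟨r, Subgroup.mem_zpowers r, hfr⟩
  have hi' := hi.mono (Subgroup.zpowers_le.2 hzi)
  have hmem : ∀ y ∈ Subgroup.zpowers z, i y ∈ Subgroup.zpowers r := by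
    intro y hy
    obtain ⟨a, ha, rfl⟩ := hf.mem_imgSub.1 (Subgroup.zpowers_le.2 hzi hy)
    rwa [hinv a ha]
  have hc : ∀ y ∈ Subgroup.zpowers r, conjMap s y ∈ Subgroup.zpowers r := by
    rintro _ ⟨k, rfl⟩
    refine ⟨-k, ?_⟩
    show r ^ (-k) = s * r ^ k * s⁻¹
    rw [← conj_zpow, hrs, inv_zpow, zpow_neg]
  have hm := (hi'.comp (isMap_conj F hR hs) hmem).comp hf fun y hy => hc _ (hmem y hy)
  have hval : (f ∘ conjMap s ∘ i) z = z⁻¹ := by
    have : i z = r := by rw [← hfr, hinv r (Subgroup.mem_zpowers r)]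
    show f (s * i z * s⁻¹) = z⁻¹
    rw [this, hrs, hf.map_inv (Subgroup.mem_zpowers r), hfr]
  obtain ⟨g, hg, hgz⟩ := map_on_top hS hF hm hval hzS hz
    (fun y hy => (Commute.inv_left (hz y hy)).eq)
  have hz2 := sq_eq_one_of_rev hS hF hg hgz hzS hz
  refine hf.injOn (Subgroup.pow_mem _ (Subgroup.mem_zpowers r) 2) (Subgroup.one_mem _) ?_
  rw [hf.map_pow (Subgroup.mem_zpowers r), hfr, hz2, hf.map_one]

/-- A central square of an element is the square of a central element. -/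
theorem exists_central_root (hS : IsPGroup 2 S) (hF : F.IsSaturated 2)
    (h : ∀ x ∈ S, ∃ z ∈ S ⊓ Subgroup.centralizer (S : Set Ω), F.IsConjElt x z)
    {s : Ω} (hs : s ∈ S) (hc : ∀ y ∈ S, s ^ 2 * y = y * s ^ 2) :
    ∃ v ∈ S, (∀ y ∈ S, v * y = y * v) ∧ v ^ 2 = s ^ 2 := by
  obtain ⟨z, ⟨hzS, hzc⟩, φ, hφ, hφz⟩ := h s hs
  have hz : ∀ y ∈ S, z * y = y * z := fun y hy => (Subgroup.mem_centralizer_iff.1 hzc y hy).symm
  set f := homFun φ with hfdef
  have hf : IsMap F (Subgroup.zpowers s) f := isMap_of_mem hφ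
  have hfs : f s = z := by rw [hfdef, homFun_mem φ (Subgroup.mem_zpowers s)]; exact hφz
  obtain ⟨i, hi, hinv⟩ := hf.exists_inv
  have hzi : z ^ 2 ∈ imgSub f (Subgroup.zpowers s) :=
    Subgroup.pow_mem _ (hf.mem_imgSub.2 ⟨s, Subgroup.mem_zpowers s, hfs⟩) 2
  have hi' := hi.mono (Subgroup.zpowers_le.2 hzi)
  have hval : i (z ^ 2) = s ^ 2 := by
    rw [← hfs, ← hf.map_pow (Subgroup.mem_zpowers s),
      hinv _ (Subgroup.pow_mem _ (Subgroup.mem_zpowers s) 2)]
  obtain ⟨g, hg, hgz⟩ := map_on_top hS hF hi' hval (S.pow_mem hzS 2)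
    (fun y hy => (Commute.pow_left (hz y hy) 2).eq) hc
  obtain ⟨h1, h2⟩ := central_image hg hzS hz
  exact ⟨g z, h1, h2, by rw [← hg.map_pow hzS, hgz]⟩

theorem commute_all (hS : IsPGroup 2 S) (hF : F.IsSaturated 2)
    (h : ∀ x ∈ S, ∃ z ∈ S ⊓ Subgroup.centralizer (S : Set Ω), F.IsConjElt x z) :
    ∀ a ∈ S, ∀ b ∈ S, a * b = b * a := by
  have hinvol : ∀ t ∈ S, ∀ u ∈ S, t ^ 2 = 1 → u ^ 2 = 1 → t * u = u * t := by
    intro t ht u hu ht2 hu2
    rw [pow_two] at ht2 hu2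
    have ti : t⁻¹ = t := inv_eq_of_mul_eq_one_right ht2
    have ui : u⁻¹ = u := inv_eq_of_mul_eq_one_right hu2
    have hr := sq_eq_one_of_inverted hS hF h (S.mul_mem ht hu) ht
      (show t * (t * u) * t⁻¹ = (t * u)⁻¹ by rw [mul_inv_rev, ← mul_assoc t t u, ht2, one_mul, ui])
    rw [pow_two] at hr
    have := inv_eq_of_mul_eq_one_right hr
    rw [mul_inv_rev, ti, ui] at this
    exact this.symm
  -- the last power outside a subgroup
  have hlast : ∀ (P : Ω → Prop), P 1 → ∀ x ∈ S, ¬ P x → ∃ y ∈ S, ¬ P y ∧ P (y ^ 2) := by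
    intro P h1 x hx hP
    obtain ⟨k, hk⟩ := hS ⟨x, hx⟩
    have hk' : x ^ 2 ^ k = 1 := congrArg Subtype.val hk
    classical
    have hex : ∃ n, P (x ^ 2 ^ n) := ⟨k, by rw [hk']; exact h1⟩
    have h0 : Nat.find hex ≠ 0 := fun h0 => hP (by simpa [h0] using Nat.find_spec hex)
    obtain ⟨m, hm⟩ := Nat.exists_eq_succ_of_ne_zero h0
    refine ⟨x ^ 2 ^ m, S.pow_mem hx _, Nat.find_min hex (by omega), ?_⟩
    rw [← pow_mul, ← pow_succ, show m + 1 = Nat.find hex from hm.symm]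
    exact Nat.find_spec hex
  by_contra hcon
  simp only [not_forall] at hcon
  obtain ⟨a, ha, b, hb, hab⟩ := hcon
  -- a noncentral involution
  obtain ⟨x, hx, hxn, hx2⟩ := hlast (fun x => ∀ y ∈ S, x * y = y * x) (fun y _ => by simp) a ha
    fun h => hab (h b hb)
  obtain ⟨v, hv, hvc, hv2⟩ := exists_central_root hS hF h hx hx2
  have ht2 : (x * v⁻¹) ^ 2 = 1 := by
    rw [(Commute.inv_right (hvc x hx).symm).mul_pow, inv_pow, hv2, mul_inv_cancel]
  have htS : x * v⁻¹ ∈ S := S.mul_mem hx (S.inv_mem hv)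
  have htn : ¬ ∀ y ∈ S, (x * v⁻¹) * y = y * (x * v⁻¹) := fun ht => hxn fun y hy => by
    have := (Commute.mul_left (ht y hy) (hvc y hy)).eq
    rwa [inv_mul_cancel_right] at this
  simp only [not_forall] at htn
  obtain ⟨w, hw, hwn⟩ := htn
  -- an element acting nontrivially on the involutions, with square acting trivially
  obtain ⟨s, hs, hsn, hs2⟩ := hlast (fun x => ∀ e ∈ S, e ^ 2 = 1 → x * e = e * x)
    (fun e _ _ => by simp) w hw fun h => hwn (h _ htS ht2).symm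
  obtain ⟨z, ⟨hzS, hzc⟩, φ, hφ, hφz⟩ := h (s ^ 2) (S.pow_mem hs 2)
  have hz : ∀ y ∈ S, z * y = y * z := fun y hy => (Subgroup.mem_centralizer_iff.1 hzc y hy).symm
  obtain ⟨g, hg, hgz⟩ := extend_to_central hS hF (isMap_of_mem hφ)
    ((homFun_mem φ (Subgroup.mem_zpowers _)).trans hφz) hz
  set R := centralizerIn S (Subgroup.zpowers (s ^ 2)) ⊔ Subgroup.zpowers (s ^ 2)
  have hmemR : ∀ y ∈ S, s ^ 2 * y = y * s ^ 2 → y ∈ R := fun y hy hc =>
    le_sup_left (b := Subgroup.zpowers (s ^ 2))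
      (FusionSys.mem_centralizerIn.2 ⟨hy, commute_zpowers hc⟩)
  have hsR : s ∈ R := hmemR s hs (by rw [← pow_succ, ← pow_succ'])
  have hgs : g s ^ 2 = z := by rw [← hg.map_pow hsR, hgz]
  obtain ⟨v', hv', hvc', hv2'⟩ := exists_central_root hS hF h (hg.mem_S hsR) (by rwa [hgs])
  have hw2 : (g s * v'⁻¹) ^ 2 = 1 := by
    rw [(Commute.inv_right (hvc' _ (hg.mem_S hsR)).symm).mul_pow, inv_pow, hv2', mul_inv_cancel]
  refine hsn fun e he he2 => ?_
  have heR : e ∈ R := hmemR e he (hs2 e he he2)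
  have hge2 : g e ^ 2 = 1 := by rw [← hg.map_pow heR, he2, hg.map_one]
  have hcomm := (Commute.mul_left
    (hinvol _ (S.mul_mem (hg.mem_S hsR) (S.inv_mem hv')) _ (hg.mem_S heR) hw2 hge2)
    (hvc' _ (hg.mem_S heR))).eq
  rw [inv_mul_cancel_right, ← hg.map_mul hsR heR, ← hg.map_mul heR hsR] at hcomm
  exact hg.injOn (mul_mem hsR heR) (mul_mem heR hsR) hcomm

/-- Let F be a saturated fusion system over a finite 2-group S. Suppose that every element of S is F-conjugate to an element of the centre Z(S) (some map of F defined on the cyclic subgroup it generates sends it into Z(S)). Then S is abelian. -/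
theorem result {Ω : Type*} [Group Ω] {S : Subgroup Ω} [Finite S] (hS : IsPGroup 2 ↥S) (F : Cfsg.FusionSystem S) (hF : F.IsSaturated 2) (h : ∀ x ∈ S, ∃ z ∈ S ⊓ Subgroup.centralizer (S : Set Ω), F.IsConjElt x z) : IsMulCommutative ↥S := by
  refine ⟨⟨fun a b => Subtype.ext ?_⟩⟩
  exact commute_all hS hF h a a.2 b b.2

end Cfsg.Agent.S5274
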