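import Cfsg.Statements.S5275
import Cfsg.Agent.FusionSys.FamilyControl
import Cfsg.Agent.Thompson.Replacement

set_option autoImplicit false
open Cfsg

namespace Cfsg.Agent.S5275

/-- A Glauberman–Thompson nilpotency criterion for fusion systems relative to a strongly closed subgroup. Let p be an odd prime, F a saturated fusion system over a finite p-group S, and D a subgroup of S that is strongly closed in F. Let Z(J(D)) be the centre of the subgroup of D generated by the abelian subgroups of D of largest order. Then F is the inner fusion system of S if and only if the normalizer fusion system of Z(J(D)) in F is the inner fusion system of N_S(Z(J(D))) = S. -/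
theorem result {Ω : Type*} [Group Ω] {S : Subgroup Ω} [Finite S] (p : ℕ) [Fact p.Prime] (hS : IsPGroup p ↥S) (F : Cfsg.FusionSystem S) (hF : F.IsSaturated p) (hp : p ≠ 2) (D : Subgroup Ω) (hD : F.StronglyClosed D) : (∀ P : Subgroup Ω, F.Hom P = (Cfsg.innerFusionSystem S).Hom P) ↔ ∀ N : Cfsg.FusionSystem (Cfsg.FusionSystem.normalizerIn S (Cfsg.centerThompsonAOf D)), F.IsNormalizerSystem (Cfsg.centerThompsonAOf D) N → ∀ P : Subgroup Ω, N.Hom P = (Cfsg.innerFusionSystem (Cfsg.FusionSystem.normalizerIn S (Cfsg.centerThompsonAOf D))).Hom P := by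
  obtain ⟨hDS, hsc⟩ := FusionSys.stronglyClosed_iff.1 hD
  haveI := FusionSys.finite_of_le hDS
  set D' : Subgroup S := D.subgroupOf S with hD'
  have hDD : D'.map S.subtype = D := Subgroup.map_subgroupOf_eq_of_le hDS
  have hm : Thompson.maxIn 0 D = Subgroup.map S.subtype '' Thompson.maxIn 0 D' := by
    rw [← Thompson.maxIn_map _ S.subtype_injective, hDD]
  have hne : (Thompson.maxIn 0 D).Nonempty := hm ▸ (Thompson.maxIn_nonempty 0 D').image _
  have hN : S ≤ Subgroup.normalizer (D : Set Ω) := fun x hx => FusionSys.mem_normalizer_of_maps fun y hy =>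
    hsc D _ le_rfl (FusionSys.isMap_conj F hDS hx) y hy
  have hax : FusionSys.FamilyAxioms F (Thompson.maxIn 0 D) := by
    refine ⟨fun A hA => hA.1.trans hDS, fun A hA => hA.2.1.1, hne, ?_, ?_⟩
    · intro Q hQ _ α hα x hxQ hx
      rw [FusionSys.Family.mem_core] at hx ⊢
      intro A hA hAQ
      haveI := FusionSys.finite_of_le hQ
      set β := FusionSys.autMap ((α⁻¹ : MulAut Q)) with hβ
      have hβm : FusionSys.IsMap F Q β := (FusionSys.mem_autGroup_iff hQ).1 (inv_mem hα)
      have hA2 : FusionSys.imgSub β A ∈ Thompson.maxIn 0 D := by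
        have hβA := hβm.mono hAQ
        refine Thompson.mem_maxIn_of_card_eq hA (fun w hw => ?_) ⟨?_, fun a _ => pow_zero a⟩ hβA.isIso.card_eq.symm
        · obtain ⟨a, ha, rfl⟩ := hβA.mem_imgSub.1 hw
          exact hsc A β hA.1 hβA a ha
        · refine Thompson.isMulCommutative_iff_forall.mpr fun a ha b hb => ?_
          obtain ⟨a', ha', rfl⟩ := hβA.mem_imgSub.1 ha
          obtain ⟨b', hb', rfl⟩ := hβA.mem_imgSub.1 hb
          rw [← hβA.map_mul ha' hb', ← hβA.map_mul hb' ha', hA.2.1.comm ha' hb']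
      have hA2Q : FusionSys.imgSub β A ≤ Q := fun w hw => by
        obtain ⟨a, ha, rfl⟩ := (hβm.mono hAQ).mem_imgSub.1 hw
        exact FusionSys.autMap_mem _ (hAQ ha)
      obtain ⟨a, ha, hax⟩ := (hβm.mono hAQ).mem_imgSub.1 (hx _ hA2 hA2Q)
      rw [← hax, hβ, ← FusionSys.autMap_mul _ _ (hAQ ha), mul_inv_cancel, FusionSys.autMap_one (hAQ ha)]
      exact ha
    · intro B hB hSB hcl hex
      set B' : Subgroup S := B.subgroupOf S
      have hBB : B'.map S.subtype = B := Subgroup.map_subgroupOf_eq_of_le hB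
      haveI : B'.Normal := FusionSys.normal_subgroupOf_of_le hSB
      haveI : D'.Normal := FusionSys.normal_subgroupOf_of_le hN
      have hcc : ⁅B', B'⁆.map S.subtype = ⁅B, B⁆ := by rw [Subgroup.map_commutator, hBB]
      have hle : ∀ {X Y : Subgroup S}, X.map S.subtype ≤ Y.map S.subtype → X ≤ Y := fun h =>
        (Subgroup.map_le_map_iff_of_injective S.subtype_injective).mp h
      obtain ⟨U, hU, hBU, hnBU⟩ := hex
      rw [hm] at hU
      obtain ⟨U', hU', rfl⟩ := hU
      obtain ⟨A, hA, h1, h2, h3⟩ := Thompson.exists_normalized_of_family hp hS (.inl rfl) (D := D') rfl B'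
        (by
          have h := congrArg (Subgroup.map S.subtype) (rfl : ⁅⁅B', B'⁆, B'⁆ = ⁅⁅B', B'⁆, B'⁆)
          refine (Subgroup.map_eq_bot_iff_of_injective _ S.subtype_injective).mp ?_
          rw [Subgroup.map_commutator, hcc, hBB, hcl])
        ⟨U', hU', hle (hcc ▸ hBU), fun h => hnBU (hBB ▸ Subgroup.map_mono h)⟩
      refine ⟨A.map S.subtype, hm ▸ ⟨A, hA, rfl⟩, hcc ▸ Subgroup.map_mono h1,
        fun h => h2 (hle (hBB ▸ h)), ?_⟩
      rw [← hBB]
      exact (Subgroup.map_mono h3).trans (Subgroup.le_normalizer_map _)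
  refine FusionSys.family_inner_iff hS hp hF hax ?_
  rw [Thompson.centerThompsonAOf_eq]
  ext x
  rw [FusionSys.Family.mem_core]
  constructor
  · intro h
    obtain ⟨A, hA⟩ := hne
    refine ⟨Thompson.le_jay hA (h A hA (hA.1.trans hDS)), ?_⟩
    have hle : Thompson.jay 0 D ≤ Subgroup.centralizer ({x} : Set Ω) := sSup_le fun A hA a ha =>
      Subgroup.mem_centralizer_singleton_iff.2 (hA.2.1.comm ha (h A hA (hA.1.trans hDS)))
    exact Subgroup.mem_centralizer_iff.2 fun a ha => Subgroup.mem_centralizer_singleton_iff.1 (hle ha)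
  · intro hx A hA _
    rw [← hDD, Thompson.zjay_map _ S.subtype_injective] at hx
    obtain ⟨x', hx', rfl⟩ := hx
    rw [hm] at hA
    obtain ⟨A', hA', rfl⟩ := hA
    exact ⟨x', Thompson.zjay_zero_le hA' hx', rfl⟩

end Cfsg.Agent.S5275
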