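import Cfsg.Statements.S5278
import Cfsg.Agent.H62.CenterSubgroupClosed

set_option autoImplicit false
open Cfsg

namespace Cfsg.Agent.S5278

open Cfsg.Agent.FusionSys in
/-- Let p be an odd prime, F a saturated fusion system over a finite p-group S, and T a subgroup of Z(S) such that the normalizer fusion system of J(S) in F is contained in the normalizer fusion system of T, J(S) being the subgroup generated by the abelian subgroups of S of largest order. Then either T is weakly closed in F, or Aut_F(T) has a nontrivial cyclic subgroup X of order prime to p that permutes transitively the non-identity elements of the commutator [T, X] (the subgroup of T generated by the elements ψ(t)·t⁻¹ with ψ in X and t in T). -/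
theorem result {Ω : Type*} [Group Ω] {S : Subgroup Ω} [Finite S] (p : ℕ) [Fact p.Prime] (hS : IsPGroup p ↥S) (F : Cfsg.FusionSystem S) (hF : F.IsSaturated p) (hp : p ≠ 2) (T : Subgroup Ω) (hT : T ≤ S ⊓ Subgroup.centralizer (S : Set Ω)) (hJT : ∀ NJ : Cfsg.FusionSystem (Cfsg.FusionSystem.normalizerIn S (Cfsg.thompsonSubgroupAOf S)), F.IsNormalizerSystem (Cfsg.thompsonSubgroupAOf S) NJ → ∀ NT : Cfsg.FusionSystem (Cfsg.FusionSystem.normalizerIn S T), F.IsNormalizerSystem T NT → NJ.IsSubsystemOf NT) : F.WeaklyClosed T ∨ ∃ X : Subgroup (MulAut ↥T), X ≤ F.autGroup T ∧ X ≠ ⊥ ∧ IsCyclic ↥X ∧ (Nat.card ↥X).Coprime p ∧ ∀ a b : ↥T, a ∈ Subgroup.closure {y : ↥T | ∃ ψ ∈ X, ∃ t : ↥T, y = ψ t * t⁻¹} → b ∈ Subgroup.closure {y : ↥T | ∃ ψ ∈ X, ∃ t : ↥T, y = ψ t * t⁻¹} → a ≠ 1 → b ≠ 1 → ∃ ψ ∈ X, ψ a = b := by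
  refine H62.CentralSub.weaklyClosed_or_transitive hS hF hp hT fun β hβ t ht => ?_
  have hTS : T ≤ S := hT.trans inf_le_left
  have hWS : thompsonSubgroupAOf S ≤ S := H59.thompsonAOf_le S
  have hsub := hJT _ (H90.isNormalizerSystem_normalizerSystem F hWS) _ (H90.isNormalizerSystem_normalizerSystem F hTS)
  set W := thompsonSubgroupAOf S with hW
  obtain ⟨φ, hφ, hφe⟩ := hβ.isMap
  haveI := finite_of_le hWS
  have hNW : W ≤ Cfsg.FusionSystem.normalizerIn S W := le_normalizerIn_self hWS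
  have hφW : ∀ x : W, φ x ∈ W := fun x => (hφe x) ▸ hβ.mem x.2
  have hm : φ ∈ F.normalizerHom W W := by
    refine (H90.mem_normalizerHom_iff F hWS).2 ⟨hφ, hNW, fun x => hNW (hφW x), ?_⟩
    exact ⟨φ.comp (Subgroup.inclusion (sup_le le_rfl le_rfl)),
      H90.res_mem F hφ (sup_le le_rfl le_rfl), fun _ => rfl, fun x => hφW _⟩
  obtain ⟨-, -, -, ψ, -, hψe, hψm⟩ := (H90.mem_normalizerHom_iff F hTS).1 (hsub W hm)
  have hTW : T ≤ W := H62.CentralSub.le_thompsonA hT le_rfl hTS
  have h1 := hψm ⟨t, ht⟩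
  have h2 := hψe ⟨t, hTW ht⟩
  rw [← hφe ⟨t, hTW ht⟩, ← h2]
  exact h1

end Cfsg.Agent.S5278
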