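import Cfsg.Statements.S5280
import Cfsg.Agent.Fusion.SelfCentralFunctor
import Cfsg.Agent.FusionSys.Group
import Cfsg.Agent.FusionSys.Saturated

set_option autoImplicit false
open Cfsg

namespace Cfsg.Agent.S5280
open scoped commutatorElement in
open Subgroup FusionSys in
/-- The fusion-system form of stability gives the normalizer form. -/
theorem stable_of_fusion {Ω : Type*} [Group Ω] [Finite Ω] {p : ℕ} [Fact p.Prime] (P : Sylow p Ω)
    (hst : (∀ Q : Subgroup Ω, (Cfsg.groupFusionSystem (P : Subgroup Ω)).IsFullyNormalized Q → ∀ χ : MulAut ↥Q, χ ∈ (Cfsg.groupFusionSystem (P : Subgroup Ω)).autGroup Q → (∀ a : ↥Q, (χ a⁻¹) * a * (χ a⁻¹) * (χ (χ a)) = 1) → χ ∈ ((Cfsg.pCore p ↥((Cfsg.groupFusionSystem (P : Subgroup Ω)).autGroup Q)).map ((Cfsg.groupFusionSystem (P : Subgroup Ω)).autGroup Q).subtype : Subgroup (MulAut ↥Q)))) :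
    Cfsg.IsNormalizerPStable p Ω := by
  intro B hB g hg hq
  set F := Cfsg.groupFusionSystem (P : Subgroup Ω) with hF
  obtain ⟨k0, hk0⟩ : ∃ k : Ω, B.map (MulAut.conj k).toMonoidHom ≤ (P : Subgroup Ω) := by
    obtain ⟨T, hT⟩ := hB.exists_le_sylow
    obtain ⟨k, hk⟩ := MulAction.exists_smul_eq Ω T P
    refine ⟨k, (Subgroup.map_mono hT).trans (le_of_eq ?_)⟩
    rw [← hk, Sylow.coe_subgroup_smul]; rfl
  obtain ⟨Q, hBQ, hQn⟩ := exists_isFullyNormalized F hk0
  obtain ⟨-, hQP, k1, hk1⟩ := isConj_group_iff.1 hBQ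
  set c := MulAut.conj (k1 * k0) with hc
  have hcB : B.map c.toMonoidHom = Q := by
    rw [← hk1, Subgroup.map_map]
    congr 1
    ext x
    simp [hc]
  set N := normalizer (B : Set Ω)
  have hcN : ∀ n : N, c n ∈ normalizer (Q : Set Ω) := fun n => by
    rw [← hcB, ← Subgroup.map_equiv_normalizer_eq B c]
    exact ⟨n, n.2, rfl⟩
  have hmem : ∀ n : N, conjAut (hcN n) ∈ F.autGroup Q := fun n => by
    rw [autGroup_group hQP, ← range_conjAutHom]
    exact ⟨⟨_, hcN n⟩, rfl⟩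
  let θ : N →* F.autGroup Q := MonoidHom.mk' (fun n => ⟨conjAut (hcN n), hmem n⟩) fun a b => by
    refine Subtype.ext (MulEquiv.ext fun z => Subtype.ext ?_)
    show c (a * b : Ω) * z * (c (a * b : Ω))⁻¹ = c a * (c b * z * (c b)⁻¹) * (c a)⁻¹
    rw [map_mul]; group
  have hker : θ.ker = (centralizer (B : Set Ω)).subgroupOf N := by
    ext n
    rw [MonoidHom.mem_ker, mem_subgroupOf, mem_centralizer_iff]
    constructor
    · intro h b hb
      have h1 := congrArg (fun α : ↥(F.autGroup Q) => ((α : MulAut ↥Q) ⟨c b, hcB ▸ ⟨b, hb, rfl⟩⟩ : Ω)) h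
      have h2 : c n * c b * (c n)⁻¹ = c b := h1
      rw [← map_inv, ← map_mul, ← map_mul] at h2
      have h3 := c.injective h2
      calc b * (n : Ω) = (n : Ω) * b * (n : Ω)⁻¹ * n := by rw [h3]
        _ = n * b := by group
    · intro h
      refine Subtype.ext (MulEquiv.ext fun z => Subtype.ext ?_)
      obtain ⟨b, hb, hbz⟩ := hcB.ge z.2
      show c n * (z : Ω) * (c n)⁻¹ = z
      rw [← hbz]
      show c n * c b * (c n)⁻¹ = c b
      rw [← map_inv, ← map_mul, ← map_mul, ← h b hb, mul_inv_cancel_right]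
  have hgmem : θ ⟨g, hg⟩ ∈ Cfsg.pCore p ↥(F.autGroup Q) := by
    have hq' : ∀ a : ↥Q, ((conjAut (hcN ⟨g, hg⟩)) a⁻¹) * a * ((conjAut (hcN ⟨g, hg⟩)) a⁻¹) *
        ((conjAut (hcN ⟨g, hg⟩)) ((conjAut (hcN ⟨g, hg⟩)) a)) = 1 := by
      intro a
      obtain ⟨b, hb, hba⟩ := hcB.ge a.2
      have h1 : ⁅⁅b, g⁆, g⁆ = 1 := mem_bot.mp (hq ▸ commutator_mem_commutator
        (commutator_mem_commutator hb (mem_zpowers g)) (mem_zpowers g))
      have h2 : Commute ⁅b, g⁆ g := commutatorElement_eq_one_iff_mul_comm.mp h1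
      refine Subtype.ext ?_
      show c g * ((a : Ω))⁻¹ * (c g)⁻¹ * a * (c g * ((a : Ω))⁻¹ * (c g)⁻¹) *
        (c g * (c g * a * (c g)⁻¹) * (c g)⁻¹) = 1
      rw [← hba]
      show c g * (c b)⁻¹ * (c g)⁻¹ * c b * (c g * (c b)⁻¹ * (c g)⁻¹) *
        (c g * (c g * c b * (c g)⁻¹) * (c g)⁻¹) = 1
      simp only [← map_inv, ← map_mul]
      rw [← map_one c]
      congr 1
      have e1 : g * b⁻¹ * g⁻¹ * b * (g * b⁻¹ * g⁻¹) * (g * (g * b * g⁻¹) * g⁻¹) =
          g * b⁻¹ * g⁻¹ * (⁅b, g⁆ * g * ⁅b, g⁆⁻¹ * g⁻¹) * (g * b * g⁻¹) := by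
        rw [commutatorElement_def]; group
      rw [e1, h2.eq, mul_inv_cancel_right, mul_inv_cancel]
      group
    obtain ⟨w, hw, hwe⟩ := hst Q hQn _ (hmem ⟨g, hg⟩) hq'
    rwa [show w = θ ⟨g, hg⟩ from Subtype.ext hwe] at hw
  let θ' : N ⧸ (centralizer (B : Set Ω)).subgroupOf N →* F.autGroup Q :=
    (QuotientGroup.kerLift θ).comp (QuotientGroup.quotientMulEquivOfEq hker.symm).toMonoidHom
  have hθ' : Function.Injective θ' :=
    (QuotientGroup.kerLift_injective θ).comp (MulEquiv.injective _)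
  have : ((Cfsg.pCore p ↥(F.autGroup Q)).comap θ').Normal := Normal.comap inferInstance θ'
  exact Cores.le_pCore (Cores.pCore_isPGroup.comap_of_injective θ' hθ') hgmem


/-- The theorem for every odd prime. -/
theorem isConstrained_of_stable {Ω : Type*} [Group Ω] [Finite Ω] (p : ℕ) [Fact p.Prime] (hp : p ≠ 2) (P : Sylow p Ω) (hst : (∀ Q : Subgroup Ω, (Cfsg.groupFusionSystem (P : Subgroup Ω)).IsFullyNormalized Q → ∀ χ : MulAut ↥Q, χ ∈ (Cfsg.groupFusionSystem (P : Subgroup Ω)).autGroup Q → (∀ a : ↥Q, (χ a⁻¹) * a * (χ a⁻¹) * (χ (χ a)) = 1) → χ ∈ ((Cfsg.pCore p ↥((Cfsg.groupFusionSystem (P : Subgroup Ω)).autGroup Q)).map ((Cfsg.groupFusionSystem (P : Subgroup Ω)).autGroup Q).subtype : Subgroup (MulAut ↥Q)))) : (Cfsg.groupFusionSystem (P : Subgroup Ω)).IsConstrained p := by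
  have hst' := stable_of_fusion P hst
  have hctl := Fusion.Stable.sfc_kz (by omega) _ Ω rfl hst' P
  set K := Cfsg.inducedFunctor Fusion.Stable.kzFun (P : Subgroup Ω) with hK
  have hKP : K ≤ (P : Subgroup Ω) := Subgroup.map_subtype_le _
  refine ⟨FusionSys.isSaturated_group P, K, ?_, hKP, ?_⟩
  · refine FusionSys.isNormal_iff.2 ⟨hKP, fun R f hf => ?_⟩
    obtain ⟨hR, a, ha⟩ := FusionSys.isMap_group_iff.1 hf
    obtain ⟨x, hx, hxe⟩ := hctl (R : Set Ω) a hR (by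
      rintro _ ⟨r, hr, rfl⟩; exact (ha r hr).1)
    rw [H49.stepSet_singleton, ← hK] at hx
    have hxN : x ∈ Subgroup.normalizer (K : Set Ω) := H49.steps_mem_of_subgroup hx
    have hxR : ∀ r ∈ R, x * r * x⁻¹ = a * r * a⁻¹ := hxe
    have hle : R ⊔ K ≤ (P : Subgroup Ω).comap (MulAut.conj x).toMonoidHom := sup_le
      (fun r hr => by
        show x * r * x⁻¹ ∈ (P : Subgroup Ω)
        rw [hxR r hr]; exact (ha r hr).1)
      (fun z hz => hKP ((Subgroup.mem_normalizer_iff.mp hxN z).mp hz))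
    refine ⟨FusionSys.conjMap x, FusionSys.isMap_group_iff.2
      ⟨sup_le hR hKP, x, fun y hy => ⟨hle hy, rfl⟩⟩, fun r hr => ?_, ?_⟩
    · rw [(ha r hr).2]; exact hxR r hr
    · ext y
      constructor
      · rintro ⟨z, hz, rfl⟩
        exact (Subgroup.mem_normalizer_iff.mp hxN z).mp hz
      · intro hy
        refine ⟨x⁻¹ * y * x, ?_, by simp [FusionSys.conjMap, mul_assoc]⟩
        refine (Subgroup.mem_normalizer_iff.mp hxN _).mpr ?_
        simpa [mul_assoc] using hy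
  · intro Q hQ
    obtain ⟨-, hQP, a, rfl⟩ := FusionSys.isConj_group_iff.1 hQ
    obtain ⟨x, hx, hxe⟩ := hctl (K : Set Ω) a hKP (by
      rintro _ ⟨r, hr, rfl⟩; exact hQP ⟨r, hr, rfl⟩)
    rw [H49.stepSet_singleton, ← hK] at hx
    have hxN : x ∈ Subgroup.normalizer (K : Set Ω) := H49.steps_mem_of_subgroup hx
    have hQK : K.map (MulAut.conj a).toMonoidHom = K := by
      refine le_antisymm ?_ fun y hy => ⟨x⁻¹ * y * x, ?_, ?_⟩
      · rintro _ ⟨z, hz, rfl⟩
        show a * z * a⁻¹ ∈ K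
        rw [← hxe z hz]; exact (Subgroup.mem_normalizer_iff.mp hxN z).mp hz
      · refine (Subgroup.mem_normalizer_iff.mp hxN _).mpr ?_
        simpa [mul_assoc] using hy
      · show a * (x⁻¹ * y * x) * a⁻¹ = y
        rw [← hxe (x⁻¹ * y * x) ((Subgroup.mem_normalizer_iff.mp hxN _).mpr (by
          simpa [mul_assoc] using hy))]
        group
    rw [hQK]
    rintro y ⟨hyP, hyc⟩
    exact ⟨⟨y, hyP⟩, Fusion.Stable.centralizer_kzFun_le _ P.isPGroup'
      (Subgroup.mem_centralizer_iff.mpr fun z hz => Subtype.ext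
        (Subgroup.mem_centralizer_iff.mp hyc (z : Ω) (Subgroup.mem_map_of_mem _ hz))), rfl⟩


/-- Let p be a prime greater than 3, G a finite group with Sylow p-subgroup P, and F the fusion system of G on P. Suppose F is p-stable: for every fully normalized subgroup Q and every χ in Aut_F(Q) acting quadratically on Q (χ(a⁻¹)·a·χ(a⁻¹)·χ(χ(a)) = 1 for all a in Q), χ lies in O_p(Aut_F(Q)). Then F is constrained: some subgroup normal in F is F-centric. -/
theorem result {Ω : Type*} [Group Ω] [Finite Ω] (p : ℕ) [Fact p.Prime] (hp : 3 < p) (P : Sylow p Ω) (hst : (∀ Q : Subgroup Ω, (Cfsg.groupFusionSystem (P : Subgroup Ω)).IsFullyNormalized Q → ∀ χ : MulAut ↥Q, χ ∈ (Cfsg.groupFusionSystem (P : Subgroup Ω)).autGroup Q → (∀ a : ↥Q, (χ a⁻¹) * a * (χ a⁻¹) * (χ (χ a)) = 1) → χ ∈ ((Cfsg.pCore p ↥((Cfsg.groupFusionSystem (P : Subgroup Ω)).autGroup Q)).map ((Cfsg.groupFusionSystem (P : Subgroup Ω)).autGroup Q).subtype : Subgroup (MulAut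 ↥Q)))) : (Cfsg.groupFusionSystem (P : Subgroup Ω)).IsConstrained p :=
  isConstrained_of_stable p (by omega) P hst

end Cfsg.Agent.S5280
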