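import Cfsg.Statements.S5281
import Cfsg.Agent.Fusion.CentricRadicalExt

set_option autoImplicit false
open Cfsg

namespace Cfsg.Agent.S5281

open Cfsg.FusionSystem Cfsg.Agent.FusionSys

universe u

variable {Ω : Type u} [Group Ω] {S : Subgroup Ω} [Finite S] {p : ℕ} [Fact p.Prime]
  {F : FusionSystem S}

/-- The quadratic automorphisms at `Q` lie in the `p`-core. -/
def PS {T : Subgroup Ω} (p : ℕ) (E : FusionSystem T) (Q : Subgroup Ω) : Prop :=
  ∀ χ : MulAut ↥Q, χ ∈ E.autGroup Q → (∀ a : ↥Q, (χ a⁻¹) * a * (χ a⁻¹) * (χ (χ a)) = 1) →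
    χ ∈ ((Cfsg.pCore p ↥(E.autGroup Q)).map (E.autGroup Q).subtype : Subgroup (MulAut ↥Q))

theorem PS.transport {T : Subgroup Ω} {E : FusionSystem T} {P Q : Subgroup Ω}
    (h : PS p E Q) (hc : E.IsConj P Q) : PS p E P := by
  obtain ⟨f, hf⟩ := isConj_iff.1 hc
  intro χ hχ hq
  let e : E.autGroup P ≃* E.autGroup Q :=
    (hf.autEquiv.subgroupMap (E.autGroup P)).trans (MulEquiv.subgroupCongr hf.map_autGroup)
  have h1 := h (hf.autEquiv χ) (hf.autEquiv_mem_autGroup hχ) fun a => by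
    obtain ⟨b, rfl⟩ := hf.equiv.surjective a
    have he : ∀ c, hf.autEquiv χ (hf.equiv c) = hf.equiv (χ c) := fun c => by
      show hf.equiv (χ (hf.equiv.symm (hf.equiv c))) = _
      rw [MulEquiv.symm_apply_apply]
    have h2 := congrArg hf.equiv (hq b)
    rw [map_mul, map_mul, map_mul, map_one] at h2
    rw [← map_inv hf.equiv, he, he, he]
    exact h2
  obtain ⟨y, hy, hye⟩ := h1
  rw [← Cores.pCore_map_mulEquiv e] at hy
  obtain ⟨x, hx, rfl⟩ := hy
  exact ⟨x, hx, hf.autEquiv.injective hye⟩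

theorem ps_of_fullyNormalized {T : Subgroup Ω} [Finite T] {E : FusionSystem T}
    (h : ∀ Q, E.IsFullyNormalized Q → PS p E Q) {Q : Subgroup Ω} (hQ : Q ≤ T) : PS p E Q := by
  obtain ⟨Q', hQQ', hQ'⟩ := exists_isFullyNormalized E hQ
  exact (h Q' hQ').transport hQQ'

theorem main (hS : IsPGroup p S) (hF : F.IsSaturated p) :
    (∀ Q, F.IsFullyNormalized Q → PS p F Q) ↔
      ∀ R : Subgroup Ω, F.IsFullyNormalized R → F.IsCentric R → F.IsRadical p R →
        ∀ N : FusionSystem (normalizerIn S R), F.IsNormalizerSystem R N →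
          ∀ Q, N.IsFullyNormalized Q → PS p N Q := by
  constructor
  · intro h R hR _ _ N hN Q hQ χ hχ hq
    have hk := isKSys_normalizer_iff.1 hN
    have hle : N.autGroup Q ≤ F.autGroup Q := hk.autGroup_le hQ.1
    obtain ⟨x, hx, hxe⟩ := ps_of_fullyNormalized h (hQ.1.trans normalizerIn_le) χ (hle hχ) hq
    let i : N.autGroup Q →* F.autGroup Q := Subgroup.inclusion hle
    haveI : ((pCore p (F.autGroup Q)).comap i).Normal := (pCore_normal p _).comap i
    refine ⟨⟨χ, hχ⟩, Cores.le_pCore (N := (pCore p (F.autGroup Q)).comap i)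
      (Cores.pCore_isPGroup.comap_of_injective i (Subgroup.inclusion_injective hle)) ?_, rfl⟩
    rw [Subgroup.mem_comap]
    exact (show x = i ⟨χ, hχ⟩ from Subtype.ext hxe) ▸ hx
  · intro h Q₀ hQ₀
    obtain ⟨Q, R, hQQ, hR, hc, hr, hext⟩ := Fusion.RadicalExt.exists_radical hS hF hQ₀.1
    obtain ⟨N, hN⟩ := exists_normalizerSystem F hR.1
    haveI : Finite ↥(normalizerIn S R) := finite_of_le normalizerIn_le
    have h1 : PS p N Q := ps_of_fullyNormalized (h R hR hc hr N hN)
      (hext.1.trans (le_normalizerIn_self hR.1))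
    have h2 : PS p F Q := by
      unfold PS at h1 ⊢
      rw [Fusion.RadicalExt.autGroup_normalizer_eq hR.1 hext hN] at h1
      exact h1
    exact h2.transport hQQ


/-- Let p be an odd prime and F a saturated fusion system over a finite p-group S. Call a fusion system E (over any subgroup) p-stable when, for every fully E-normalized subgroup Q and every χ in Aut_E(Q) with χ(a⁻¹)·a·χ(a⁻¹)·χ(χ(a)) = 1 for all a in Q (χ acts quadratically), χ lies in O_p(Aut_E(Q)). Then F is p-stable if and only if the normalizer fusion system of R in F is p-stable for every fully F-normalized, F-centric, F-radical subgroup R of S. -/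
theorem result {Ω : Type*} [Group Ω] {S : Subgroup Ω} [Finite S] (p : ℕ) [Fact p.Prime] (hS : IsPGroup p ↥S) (F : Cfsg.FusionSystem S) (hF : F.IsSaturated p) (hp : p ≠ 2) : (∀ Q : Subgroup Ω, F.IsFullyNormalized Q → ∀ χ : MulAut ↥Q, χ ∈ F.autGroup Q → (∀ a : ↥Q, (χ a⁻¹) * a * (χ a⁻¹) * (χ (χ a)) = 1) → χ ∈ ((Cfsg.pCore p ↥(F.autGroup Q)).map (F.autGroup Q).subtype : Subgroup (MulAut ↥Q))) ↔ ∀ R : Subgroup Ω, F.IsFullyNormalized R → F.IsCentric R → F.IsRadical p R → ∀ N : Cfsg.FusionSystem (Cfsg.FusionSystem.normalizerIn S R), F.IsNormalizerSystem R N → (∀ Q : Subgroup Ω, N.IsFullyNormalized Q → ∀ χ : MulAut ↥Q, χ ∈ N.autGroup Q → (∀ a : ↥Q, (χ a⁻¹) * a * (χ a⁻¹) * (χ (χ a)) = 1) → χ ∈ ((Cfsg.pCore p ↥(N.autGroup Q)).map (N.autGroup Q).subtype : Subgroup (MulAut ↥Q))) := by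
  exact main hS hF

end Cfsg.Agent.S5281
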