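import Cfsg.Statements.S5289
import Cfsg.Agent.S5234
import Cfsg.Agent.PGroups.RankTwoDichotomy
import Cfsg.Agent.PGroups.RankTwoStructure
import Cfsg.Agent.PGroups.RankTwoResistant

set_option autoImplicit false
set_option linter.style.haveILetI false
set_option linter.unusedSectionVars false
open Cfsg

namespace Cfsg.Agent.S5289

open Subgroup
open scoped commutatorElement
open Cfsg.Agent.FusionSys

variable {G : Type*} [Group G] [Finite G] {p : ℕ} [hp : Fact p.Prime]

/-- The consequences of a presentation `⟨x, y, a⟩` over the subgroup `W` of elements of order dividing `p`. -/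
theorem generators_facts (W : Subgroup G) (hW : ∀ g : G, g ∈ W ↔ g ^ p = 1)
    (hWc : Nat.card W = p ^ 3) {m : ℕ} (hm : 1 ≤ m) (hc : Nat.card G = p ^ (m + 3)) {x y a : G}
    (hgen : Subgroup.closure ({x, y, a} : Set G) = ⊤) (hx : x ^ p = 1) (hy : y ^ p = 1)
    (ha : a ^ p ^ (m + 1) = 1) :
    a ^ p ^ m ≠ 1 ∧ (a ^ p ^ m) ^ p = 1 ∧ ∀ g : G, ∃ i : ℤ, ∃ w ∈ W, g = a ^ i * w := by
  haveI : W.Normal := ⟨fun v hv g => by
    rw [hW] at hv ⊢; rw [conj_pow, hv]; simp⟩
  have htop : zpowers a ⊔ W = ⊤ := by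
    rw [eq_top_iff, ← hgen, Subgroup.closure_le]
    rintro g (rfl | rfl | rfl)
    exacts [Subgroup.mem_sup_right ((hW _).2 hx), Subgroup.mem_sup_right ((hW _).2 hy),
      Subgroup.mem_sup_left (mem_zpowers g)]
  have hidx : W.index = p ^ m := by
    have h1 := W.card_mul_index
    rw [hWc, hc, pow_add, mul_comm (p ^ m)] at h1
    exact Nat.eq_of_mul_eq_mul_left (pow_pos hp.out.pos 3) h1
  set q := QuotientGroup.mk' W
  have hqtop : zpowers (q a) = ⊤ := by
    rw [← MonoidHom.map_zpowers, ← Subgroup.map_top_of_surjective q (QuotientGroup.mk'_surjective W), ← htop,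
      Subgroup.map_sup, (Subgroup.map_eq_bot_iff W).2 (QuotientGroup.ker_mk' W).ge, sup_bot_eq]
  have ho : orderOf (q a) = p ^ m := by
    rw [← Nat.card_zpowers, hqtop, Subgroup.card_top, ← hidx]
    rfl
  refine ⟨fun h => ?_, by rw [← pow_mul, ← pow_succ, ha], fun g => ?_⟩
  · obtain ⟨m', rfl⟩ : ∃ m', m = m' + 1 := ⟨m - 1, (Nat.sub_add_cancel hm).symm⟩
    have h1 : q (a ^ p ^ m') = 1 := (QuotientGroup.eq_one_iff _).2 ((hW _).2 (by rw [← pow_mul, ← pow_succ, h]))
    rw [map_pow, ← orderOf_dvd_iff_pow_eq_one, ho, Nat.pow_dvd_pow_iff_le_right hp.out.one_lt] at h1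
    omega
  · have hg : g ∈ zpowers a ⊔ W := htop ▸ mem_top g
    obtain ⟨b, hb, w, hw, rfl⟩ := Subgroup.mem_sup_of_normal_right.1 hg
    obtain ⟨i, rfl⟩ := Subgroup.mem_zpowers_iff.1 hb
    exact ⟨i, w, hw, rfl⟩

/-- Every element of `W` is a product of powers of `y`, `z` and `x`. -/
theorem exists_form (hG : IsPGroup p G) (W : Subgroup G) (hWc : Nat.card W = p ^ 3) {x y z : G} {s : ℤ}
    (hx : x ∈ W) (hy : y ∈ W) (hxy : x⁻¹ * y * x = y * z ^ s) (hzs : z ^ s ≠ 1) (hxz : Commute x z)
    (hyz : Commute y z) {w : G} (hw : w ∈ W) : ∃ j l k : ℤ, w = y ^ j * z ^ l * x ^ k := by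
  have hyx : y * x * y⁻¹ = x * z ^ s := by
    calc y * x * y⁻¹ = x * (x⁻¹ * y * x) * y⁻¹ := by group
      _ = x * (y * z ^ s) * y⁻¹ := by rw [hxy]
      _ = x * z ^ s := by rw [(hyz.zpow_right s).eq]; group
  have swap : ∀ j k : ℤ, x ^ k * y ^ j = y ^ j * z ^ (-(s * j * k)) * x ^ k := by
    intro j k
    have h1 : x⁻¹ * y ^ j * x = y ^ j * z ^ (s * j) := by
      have h' : x⁻¹ * y ^ j * x = (x⁻¹ * y * x⁻¹⁻¹) ^ j := by rw [conj_zpow, inv_inv]
      rw [h', inv_inv, hxy, (hyz.zpow_right s).mul_zpow, ← zpow_mul]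
    have h2 : y ^ j * x * (y ^ j)⁻¹ = x * z ^ (s * j) := by
      calc y ^ j * x * (y ^ j)⁻¹ = x * (x⁻¹ * y ^ j * x) * (y ^ j)⁻¹ := by group
        _ = _ := by rw [h1, (hyz.zpow_zpow j (s * j)).eq]; group
    have h3 : y ^ j * x ^ k * (y ^ j)⁻¹ = x ^ k * z ^ (s * j * k) := by
      rw [← conj_zpow, h2, (hxz.zpow_right _).mul_zpow, ← zpow_mul]
    calc x ^ k * y ^ j = y ^ j * x ^ k * (y ^ j)⁻¹ * (z ^ (s * j * k))⁻¹ * y ^ j := by rw [h3]; group
      _ = y ^ j * x ^ k * ((y ^ j)⁻¹ * z ^ (-(s * j * k))) * y ^ j := by group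
      _ = y ^ j * (x ^ k * z ^ (-(s * j * k))) := by rw [(hyz.zpow_zpow j _).inv_left.eq]; group
      _ = _ := by rw [(hxz.zpow_zpow k _).eq, ← mul_assoc (y ^ j)]
  have hne : ⁅x, y⁆ ≠ 1 := by
    intro h
    rw [commutatorElement_eq_one_iff_mul_comm] at h
    apply hzs
    rw [mul_assoc, ← h, inv_mul_cancel_left] at hxy
    exact left_eq_mul.1 hxy
  have h := PGroups.le_closure_pair_of_card_cube hG hWc hx hy hne hw
  clear hw
  induction h using Subgroup.closure_induction with
  | mem v hv =>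
    rcases hv with rfl | rfl
    · exact ⟨0, 0, 1, by simp⟩
    · exact ⟨1, 0, 0, by simp⟩
  | one => exact ⟨0, 0, 0, by simp⟩
  | mul u v _ _ hu hv =>
    obtain ⟨j, l, k, rfl⟩ := hu
    obtain ⟨j', l', k', rfl⟩ := hv
    refine ⟨j + j', l + -(s * j' * k) + l', k + k', ?_⟩
    calc y ^ j * z ^ l * x ^ k * (y ^ j' * z ^ l' * x ^ k')
        = y ^ j * z ^ l * (x ^ k * y ^ j') * z ^ l' * x ^ k' := by group
      _ = y ^ j * (z ^ l * y ^ j') * z ^ (-(s * j' * k)) * (x ^ k * z ^ l') * x ^ k' := by rw [swap]; group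
      _ = _ := by rw [← (hyz.zpow_zpow j' l).eq, (hxz.zpow_zpow k l').eq, zpow_add, zpow_add, zpow_add, zpow_add]; group
  | inv u _ hu =>
    obtain ⟨j, l, k, rfl⟩ := hu
    refine ⟨-j, -l + -(s * -j * -k), -k, ?_⟩
    calc (y ^ j * z ^ l * x ^ k)⁻¹ = x ^ (-k) * (z ^ (-l) * y ^ (-j)) := by group
      _ = x ^ (-k) * y ^ (-j) * z ^ (-l) := by rw [← (hyz.zpow_zpow (-j) (-l)).eq]; group
      _ = y ^ (-j) * z ^ (-(s * -j * -k)) * (x ^ (-k) * z ^ (-l)) := by rw [swap]; group
      _ = _ := by rw [(hxz.zpow_zpow (-k) (-l)).eq, add_comm (-l), zpow_add]; group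

/-- Let p ≥ 5 be a prime and S a finite p-group of p-rank two (it has an elementary abelian subgroup of order p² and none of order p³) which is not the extraspecial group of order p³ and exponent p. Then S is resistant: for every saturated fusion system F over S, S is normal in F, that is, every map of F extends to an F-automorphism of S. -/
theorem result {Ω : Type*} [Group Ω] {S : Subgroup Ω} [Finite S] (p : ℕ) [Fact p.Prime] (hS : IsPGroup p S)
    (F : Cfsg.FusionSystem S) (hF : F.IsSaturated p)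
    (hp : 5 ≤ p)
    (hrank2 : ∃ E : Subgroup Ω, E ≤ S ∧ Cfsg.IsElementaryAbelian p E ∧ Nat.card E = p ^ 2)
    (hrank3 : ∀ E : Subgroup Ω, E ≤ S → Cfsg.IsElementaryAbelian p E → Nat.card E ≤ p ^ 2)
    (hnotE : ¬ (Nat.card S = p ^ 3 ∧ Monoid.exponent ↥S = p)) : F.IsNormal S := by
  have hpp : p.Prime := Fact.out
  have hclosed : F.StronglyClosed S := ⟨le_rfl, fun R _ φ hφ v => (F.le_of_mem hφ).2 v⟩
  have hrk : ∀ E : Subgroup S, Cfsg.IsElementaryAbelian p E → Nat.card E ≤ p ^ 2 := by
    intro E hE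
    rw [← Subgroup.card_map_of_injective S.subtype_injective]
    refine hrank3 _ (Subgroup.map_subtype_le E) ⟨PGroups.isMulCommutative_of_comm fun u hu v hv => ?_,
      fun u hu => ?_⟩
    · obtain ⟨u', hu', rfl⟩ := hu
      obtain ⟨v', hv', rfl⟩ := hv
      haveI := hE.1
      exact congrArg (fun w : E => ((w : S) : Ω)) (mul_comm' (⟨u', hu'⟩ : E) ⟨v', hv'⟩)
    · obtain ⟨u', hu', rfl⟩ := hu
      rw [← map_pow, hE.2 u' hu', map_one]
  rcases PGroups.rank_two_trichotomy hS (by omega) hrk with hmet | ⟨h3, -⟩ | ⟨W, hW, hWc, hWn⟩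
  · exact S5234.result p hS F hF S hclosed (by omega) hmet
  · omega
  rcases PGroups.structure_of_omega_cube hS (by omega) W hW hWc hWn with
    ⟨n, x, y, a, hn, hc, hgen, hx, hy, ha, hxa, hya, hxy⟩ |
      ⟨n, s, x, y, a, hn, hc, hs, hgen, hx, hy, ha, hya, hxy, hxa⟩
  · have hn4 : 4 ≤ n := by
      by_contra h
      obtain rfl : n = 3 := by omega
      refine hnotE ⟨hc, ?_⟩
      have hWtop : W = ⊤ := Subgroup.eq_top_of_card_eq W (hWc.trans hc.symm)
      have hall : ∀ g : S, g ^ p = 1 := fun g => (hW g).1 (hWtop ▸ mem_top g)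
      rcases hpp.eq_one_or_self_of_dvd _ (Monoid.exponent_dvd_of_forall_pow_eq_one hall) with h1 | h1
      · haveI := Monoid.exp_eq_one_iff.1 h1
        rw [Nat.card_of_subsingleton (1 : S)] at hc
        exact absurd hc.symm (Nat.one_lt_pow (by norm_num) hpp.one_lt).ne'
      · exact h1
    obtain ⟨m, rfl⟩ : ∃ m, n = m + 3 := ⟨n - 3, by omega⟩
    rw [Nat.add_sub_cancel] at hxy
    rw [show m + 3 - 2 = m + 1 by omega] at ha
    obtain ⟨hz1, hzp, -⟩ := generators_facts W hW hWc (by omega : 1 ≤ m) hc hgen hx hy ha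
    set z := a ^ p ^ m
    have hza : ∀ g : S, Commute a g := by
      intro g
      have hg : g ∈ Subgroup.closure ({x, y, a} : Set S) := hgen ▸ mem_top g
      induction hg using Subgroup.closure_induction with
      | mem g hg =>
        rcases hg with rfl | rfl | rfl
        exacts [hxa.symm, hya.symm, Commute.refl g]
      | one => exact Commute.one_right a
      | mul u v _ _ hu hv => exact hu.mul_right hv
      | inv u _ hu => exact hu.inv_right
    have hzc : ∀ g : S, Commute z g := fun g => (hza g).pow_left _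
    set N := zpowers z
    haveI : N.Normal := ⟨fun v hv g => by
      obtain ⟨l, rfl⟩ := Subgroup.mem_zpowers_iff.1 hv
      rw [← ((hzc g).zpow_left l).eq, mul_inv_cancel_right]
      exact hv⟩
    set q := QuotientGroup.mk' N
    have hqxy : Commute (q x) (q y) := by
      show _ = _
      rw [← map_mul, ← map_mul]
      refine ((QuotientGroup.eq).2 ?_).symm
      rw [show (y * x)⁻¹ * (x * y) = (y⁻¹ * (x⁻¹ * y * x))⁻¹ by group, hxy, inv_mul_cancel_left]
      exact inv_mem (mem_zpowers z)
    have hq : ∀ g h : S, Commute (q g) (q h) := by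
      have key : ∀ v ∈ ({x, y, a} : Set S), ∀ g : S, Commute (q v) (q g) := by
        intro v hv g
        have hg : g ∈ Subgroup.closure ({x, y, a} : Set S) := hgen ▸ mem_top g
        induction hg using Subgroup.closure_induction with
        | mem g hg =>
          rcases hv with rfl | rfl | rfl <;> rcases hg with rfl | rfl | rfl
          all_goals first
            | exact Commute.refl _
            | exact hqxy
            | exact hqxy.symm
            | exact (hza _).map q
            | exact ((hza _).map q).symm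
        | one => rw [map_one]; exact Commute.one_right _
        | mul u w _ _ hu hw => rw [map_mul]; exact hu.mul_right hw
        | inv u _ hu => rw [map_inv]; exact hu.inv_right
      intro g h
      have hg : g ∈ Subgroup.closure ({x, y, a} : Set S) := hgen ▸ mem_top g
      induction hg using Subgroup.closure_induction with
      | mem g hg => exact key g hg h
      | one => rw [map_one]; exact Commute.one_left _
      | mul u w _ _ hu hw => rw [map_mul]; exact hu.mul_left hw
      | inv u _ hu => rw [map_inv]; exact hu.inv_left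
    have hpow : ∀ g : S, g ^ p ^ m ∈ N := by
      intro g
      rw [← QuotientGroup.eq_one_iff]
      show q (g ^ p ^ m) = 1
      have hg : g ∈ Subgroup.closure ({x, y, a} : Set S) := hgen ▸ mem_top g
      rw [map_pow]
      induction hg using Subgroup.closure_induction with
      | mem g hg =>
        obtain ⟨m', rfl⟩ : ∃ m', m = m' + 1 := ⟨m - 1, by omega⟩
        rcases hg with rfl | rfl | rfl
        · rw [← map_pow, pow_succ', pow_mul, hx, one_pow, map_one]
        · rw [← map_pow, pow_succ', pow_mul, hy, one_pow, map_one]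
        · rw [← map_pow]; exact (QuotientGroup.eq_one_iff _).2 (mem_zpowers z)
      | one => simp
      | mul u w _ _ hu hw => rw [map_mul, (hq u w).mul_pow, hu, hw, one_mul]
      | inv u _ hu => rw [map_inv, inv_pow, hu, inv_one]
    have hzc' : ∀ g ∈ S, Commute (z : Ω) g := fun g hg => (hzc ⟨g, hg⟩).map S.subtype
    have hzle : zpowers (z : Ω) ≤ S := zpowers_le.2 z.2
    have hmemN : ∀ v : S, v ∈ N → (v : Ω) ∈ zpowers (z : Ω) := by
      intro v hv
      obtain ⟨l, rfl⟩ := Subgroup.mem_zpowers_iff.1 hv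
      exact ⟨l, by simp⟩
    refine H90.isNormal_of_series hS hF hclosed
      (fun k => if k = 0 then ⊥ else if k = 1 then zpowers (z : Ω) else S) 2 (by simp) (by simp) ?_ ?_ ?_
    · refine monotone_nat_of_le_succ fun k => ?_
      match k with
      | 0 => simp
      | 1 => simpa using hzle
      | k + 2 => simp
    · intro k hk
      rw [Subgroup.commutator_le]
      intro g₁ hg₁ g hg
      match k, hk, hg₁ with
      | 0, _, hg₁ =>
        obtain ⟨l, rfl⟩ := Subgroup.mem_zpowers_iff.1 (by simpa using hg₁)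
        simp [commutatorElement_eq_one_iff_mul_comm, ((hzc' g hg).zpow_left l).eq]
      | 1, _, hg₁ =>
        have hg₁S : g₁ ∈ S := by simpa using hg₁
        have h1 : ⁅(⟨g₁, hg₁S⟩ : S), ⟨g, hg⟩⁆ ∈ N := by
          rw [← QuotientGroup.eq_one_iff]
          show q _ = 1
          rw [map_commutatorElement, commutatorElement_eq_one_iff_mul_comm]
          exact hq _ _
        simpa [commutatorElement_def] using hmemN _ h1
    · intro k hk
      match k, hk with
      | 0, _ =>
        rw [weaklyClosed_iff]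
        refine ⟨bot_le, fun f hf => bot_unique fun v hv => ?_⟩
        obtain ⟨w, hw, rfl⟩ := hf.mem_imgSub.1 hv
        simp_all [hf.map_one]
      | 1, _ =>
        rw [weaklyClosed_iff]
        refine ⟨by simpa using hzle, fun f hf => ?_⟩
        simp only [one_ne_zero, if_false, if_true] at hf ⊢
        haveI := finite_of_le hzle
        refine SetLike.coe_injective (hf.coe_imgSub.trans (hf.image_eq_of_mapsTo fun v hv => ?_))
        obtain ⟨l, rfl⟩ := Subgroup.mem_zpowers_iff.1 hv
        rw [PGroups.isMap_map_zpow hf (mem_zpowers _)]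
        refine zpow_mem ?_ l
        refine PGroups.map_mem_zpowers_of_root (u := (a : Ω)) (m := m) hS hF z.2 hzc'
          (by rw [← SubmonoidClass.coe_pow, hzp]; rfl) (fun h => hz1 (Subtype.ext h))
          (fun g hg => hmemN _ (hpow ⟨g, hg⟩)) a.2 (SubmonoidClass.coe_pow a _).symm hf ?_
        exact (hza ⟨f (z : Ω), hf.mem_S (mem_zpowers _)⟩).map S.subtype
  · obtain ⟨m, rfl⟩ : ∃ m, n = m + 3 := ⟨n - 3, by omega⟩
    rw [Nat.add_sub_cancel] at hxy
    rw [show m + 3 - 2 = m + 1 by omega] at ha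
    obtain ⟨hz1, hzp, hdec⟩ := generators_facts W hW hWc (by omega : 1 ≤ m) hc hgen hx hy ha
    set z := a ^ p ^ m with hz
    have hsp : ¬ (p : ℤ) ∣ (s : ℤ) := by
      rw [Int.natCast_dvd_natCast]
      intro h
      rcases hs with rfl | hs
      · have := Nat.le_of_dvd one_pos h; omega
      · exact hs (by rw [(ZMod.natCast_eq_zero_iff s p).2 h]; exact ⟨0, by simp⟩)
    have hxy' : x⁻¹ * y * x = y * z ^ (s : ℤ) := by
      rw [zpow_natCast, hz, ← pow_mul, mul_comm (p ^ m), hxy]
    have hyz : Commute y z := (show Commute y a from hya).pow_right _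
    have hxz : Commute x z := by
      have h : x⁻¹ * z * x = z := by
        rw [hz]
        calc x⁻¹ * a ^ p ^ m * x = (x⁻¹ * a * x⁻¹⁻¹) ^ p ^ m := by rw [conj_pow, inv_inv]
          _ = y ^ p ^ m * a ^ p ^ m := by rw [inv_inv, hxa, (show Commute y a from hya).mul_pow]
          _ = a ^ p ^ m := by
            obtain ⟨m', hm'⟩ : ∃ m', m = m' + 1 := ⟨m - 1, by omega⟩
            rw [hm', pow_succ' p m', pow_mul, hy, one_pow, one_mul]
      calc x * z = x * (x⁻¹ * z * x) := by rw [h]
        _ = z * x := by group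
    have hzs : z ^ (s : ℤ) ≠ 1 := fun h =>
      hsp ((orderOf_eq_prime hzp hz1) ▸ orderOf_dvd_iff_zpow_eq_one.2 h)
    have H : PGroups.RankTwoFrame S (W.map S.subtype) p m (s : ℤ) (a : Ω) (x : Ω) (y : Ω) (z : Ω) := by
      refine
        { ha := a.2, hm := by omega, hs := hsp, mem_W := ?_, hx := ⟨x, (hW x).2 hx, rfl⟩,
          hy := ⟨y, (hW y).2 hy, rfl⟩, hya := (show Commute y a from hya).map S.subtype,
          haz := (SubmonoidClass.coe_pow a _).symm, hxy := ?_, hxa := ?_, hz1 := fun h => hz1 (Subtype.ext h),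
          zp := ?_, decomp := ?_, decompW := ?_ }
      · intro g
        constructor
        · rintro ⟨g', hg', rfl⟩
          exact ⟨g'.2, by rw [← map_pow, (hW g').1 hg', map_one]⟩
        · rintro ⟨hg, hgp⟩
          exact ⟨⟨g, hg⟩, (hW _).2 (Subtype.ext (by simpa using hgp)), rfl⟩
      · simpa using congrArg Subtype.val hxy'
      · simpa using congrArg Subtype.val hxa
      · simpa using congrArg Subtype.val hzp
      · intro g hg
        obtain ⟨i, w, hw, he⟩ := hdec ⟨g, hg⟩
        exact ⟨i, w, ⟨w, hw, rfl⟩, by simpa using congrArg Subtype.val he⟩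
      · rintro _ ⟨w, hw, rfl⟩
        obtain ⟨j, l, k, rfl⟩ := exists_form hS W hWc ((hW x).2 hx) ((hW y).2 hy) hxy' hzs hxz hyz hw
        exact ⟨j, l, k, by simp⟩
    exact H.isNormal hS hF hp

end Cfsg.Agent.S5289
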