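import Cfsg.Statements.S5290
import Cfsg.Agent.H90.WeaklyNormal

set_option autoImplicit false
open Cfsg Cfsg.FusionSystem

namespace Cfsg.Agent.S5290

/-- Let F be a saturated fusion system over a finite p-group S and Q a subgroup of S. Then Q is normal in F (F = N_F(Q)) if and only if the inner fusion system of Q, consisting of the conjugations by elements of Q on subgroups of Q, is a weakly normal subsystem of F (both saturated, Q strongly closed, invariant under F-conjugation, with the Frattini property). -/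
theorem result {Ω : Type*} [Group Ω] {S : Subgroup Ω} [Finite S] (p : ℕ) [Fact p.Prime] (hS : IsPGroup p S)
    (F : Cfsg.FusionSystem S) (hF : F.IsSaturated p)
    (Q : Subgroup Ω) (hQ : Q ≤ S) :
    F.IsNormal Q ↔ (Cfsg.innerFusionSystem Q).IsWeaklyNormalIn F p := by
  have hfin := Cfsg.Agent.H90.finite_le hQ
  constructor
  · intro hN
    have hsc := Cfsg.Agent.H90.stronglyClosed_of_isNormal F hN
    refine ⟨Cfsg.Agent.H90.inner_isSaturated (hS.to_le hQ), hF, ?_, hsc, ?_, ?_⟩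
    · rintro P φ ⟨hP, g, hg, h⟩
      exact Cfsg.Agent.H90.mem_of_agree F (F.conj_mem (hP.trans hQ) (hQ hg)) h
    · rintro P hPT φ ⟨-, g, hg, h⟩ α hα
      refine ⟨conjHom _ ((α ⟨g, hg⟩ : ↥Q) : Ω), (innerFusionSystem Q).conj_mem ?_ (α ⟨g, hg⟩).2,
        fun x hφx hαx => ?_⟩
      · rintro _ ⟨y, -, rfl⟩
        exact (α y).2
      · rw [show (⟨φ x, hφx⟩ : ↥Q) = ⟨g, hg⟩ * ⟨x, hPT x.2⟩ * ⟨g, hg⟩⁻¹ from Subtype.ext (h x)]
        rw [map_mul, map_mul, map_inv]
        rfl
    · intro P hP φ hφ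
      obtain ⟨ψ, hψ, he, hm⟩ := ((Cfsg.Agent.H90.isNormal_iff_normExt F).1 hN).2 P φ hφ
      have hv : ∀ x : ↥Q, Cfsg.Agent.H90.res ψ le_sup_right x ∈ Q := hm
      refine ⟨_, Cfsg.Agent.H90.toAut_mem F (Cfsg.Agent.H90.res_mem F hψ le_sup_right) hv,
        P.subtype, Cfsg.Agent.H90.subtype_mem (innerFusionSystem Q) hP, fun x hx => ?_⟩
      rw [← he x]
      rfl
  · intro hW
    refine Cfsg.Agent.H90.isNormal_of_weaklyNormal hS hW ?_ fun α _ x _ => (α x).2
    refine (Cfsg.Agent.H90.isNormal_iff_normExt _).2 ⟨le_rfl, ?_⟩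
    rintro P φ ⟨hP, g, hg, h⟩
    exact ⟨conjHom _ g, (innerFusionSystem Q).conj_mem (sup_le hP le_rfl) hg, fun x => (h x).symm,
      fun x => Q.mul_mem (Q.mul_mem hg x.2) (Q.inv_mem hg)⟩

end Cfsg.Agent.S5290
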