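import Cfsg.Statements.S5291
import Cfsg.Agent.H90.WeaklyNormal

set_option autoImplicit false
open Cfsg

namespace Cfsg.Agent.S5291

/-- Let F be a saturated fusion system over a finite p-group S and E a weakly normal subsystem of F over a subgroup T. Suppose a subgroup R of T is normal in E (E = N_E(R)), and let R* be the subgroup of T generated by the images of R under all maps of F with source R. Then R* is normal in F (F = N_F(R*)). -/
theorem result {Ω : Type*} [Group Ω] {S : Subgroup Ω} [Finite S] (p : ℕ) [Fact p.Prime] (hS : IsPGroup p S)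
    (F : Cfsg.FusionSystem S) (hF : F.IsSaturated p)
    {T : Subgroup Ω} (E : Cfsg.FusionSystem T) (hE : E.IsWeaklyNormalIn F p)
    (R : Subgroup Ω) (hR : E.IsNormal R) :
    F.IsNormal (Subgroup.closure {x : Ω | ∃ φ ∈ F.Hom R, ∃ r : R, x = φ r}) := by
  classical
  have hT := hE.2.2.2.1
  have : Finite ↥T := Cfsg.Agent.H90.finite_le hT.1
  have hRE := (Cfsg.Agent.H90.isNormal_iff_normExt E).1 hR
  -- every image of `R` lies in the image of `R` under an automorphism of `T`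
  have himg : ∀ φ ∈ F.Hom R, ∀ r : ↥R, ∃ α ∈ F.autGroup T,
      φ r ∈ (R.subgroupOf T).map (T.subtype.comp α.toMonoidHom) := by
    intro φ hφ r
    obtain ⟨α, hα, φ₀, hφ₀, he⟩ := hE.2.2.2.2.2 R hR.1 φ hφ
    obtain ⟨ψ, hψ, he0, hm⟩ := hRE.2 R φ₀ hφ₀
    have h0 : φ₀ r ∈ R := (he0 r) ▸ hm r
    exact ⟨α, hα, ⟨φ₀ r, hR.1 h0⟩, Subgroup.mem_subgroupOf.2 h0, (he r (hR.1 h0)).symm⟩
  let W : Set (Subgroup Ω) :=
    (fun α : MulAut ↥T => (R.subgroupOf T).map (T.subtype.comp α.toMonoidHom)) ''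
      {α | α ∈ F.autGroup T}
  have hW : ∀ V ∈ W, E.IsNormal V := by
    rintro _ ⟨α, hα, rfl⟩
    exact Cfsg.Agent.H90.isNormal_image hE.2.2 hR hα
  have hWfin : W.Finite := (Set.toFinite _).image _
  have hsup : ∀ V : Set (Subgroup Ω), V.Finite → V ⊆ W → E.IsNormal (sSup V) := by
    intro V hV
    induction V, hV using Set.Finite.induction_on with
    | empty => intro _; rw [sSup_empty]; exact Cfsg.Agent.H90.isNormal_bot E
    | insert _ _ ih =>
      intro h
      rw [sSup_insert]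
      exact Cfsg.Agent.H90.isNormal_sup E (hW _ (h (Set.mem_insert _ _)))
        (ih ((Set.subset_insert _ _).trans h))
  have heq : Subgroup.closure {x : Ω | ∃ φ ∈ F.Hom R, ∃ r : R, x = φ r} = sSup W := by
    refine le_antisymm ((Subgroup.closure_le _).2 ?_) (sSup_le ?_)
    · rintro _ ⟨φ, hφ, r, rfl⟩
      obtain ⟨α, hα, h⟩ := himg φ hφ r
      exact le_sSup (show (R.subgroupOf T).map (T.subtype.comp α.toMonoidHom) ∈ W from
        ⟨α, hα, rfl⟩) h
    · rintro _ ⟨α, hα, rfl⟩ _ ⟨y, hy, rfl⟩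
      exact Subgroup.subset_closure ⟨_, Cfsg.Agent.H90.autApply_hom F hT.1 hα hR.1,
        ⟨y, Subgroup.mem_subgroupOf.1 hy⟩, rfl⟩
  refine Cfsg.Agent.H90.isNormal_of_weaklyNormal hS hE (heq ▸ hsup W hWfin subset_rfl) ?_
  intro α hα x hx
  have hle : Subgroup.closure {x : Ω | ∃ φ ∈ F.Hom R, ∃ r : R, x = φ r} ≤
      ((Subgroup.closure {x : Ω | ∃ φ ∈ F.Hom R, ∃ r : R, x = φ r}).comap
        (T.subtype.comp α.toMonoidHom)).map T.subtype := by
    refine (Subgroup.closure_le _).2 ?_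
    rintro _ ⟨φ, hφ, r, rfl⟩
    have hv : ∀ z, φ z ∈ T := hT.2 R hR.1 φ hφ
    exact ⟨⟨φ r, hv r⟩, Subgroup.subset_closure ⟨_, Cfsg.Agent.H90.comp₂_mem F hφ
      (Cfsg.Agent.H90.hom_of_aut_mem F hT.1 hα) hv, r, rfl⟩, rfl⟩
  obtain ⟨y, hy, hyx⟩ := hle hx
  rw [← Subtype.ext hyx]
  exact hy

end Cfsg.Agent.S5291
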