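import Cfsg.Statements.S5293
import Cfsg.Agent.H91.CentFocal.Fix

set_option autoImplicit false
open Cfsg

namespace Cfsg.Agent.S5293

open Cfsg.Agent.FusionSys Cfsg.Agent.H91.CentFocal

/-- Let F be a saturated fusion system over a finite p-group S, E a normal subsystem of F over T ≤ S, and C the join of the subgroups X ≤ C_S(T) such that E is contained in the centralizer system C_F(X). Then for the centralizer fusion system C_F(T) over C_S(T), the focal subgroup of C_F(T) is contained in C. -/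
theorem result {Ω : Type*} [Group Ω] {S : Subgroup Ω} [Finite S] (p : ℕ) [Fact p.Prime] (hS : IsPGroup p S)
    (F : Cfsg.FusionSystem S) (hF : F.IsSaturated p)
    {T : Subgroup Ω} (E : Cfsg.FusionSystem T) (hE : E.IsNormalIn F p)
    (C : Subgroup Ω)
    (hC : C = sSup {X : Subgroup Ω | X ≤ Cfsg.FusionSystem.centralizerIn S T ∧ ∀ P : Subgroup Ω, E.Hom P ⊆ F.centralizerHom X P})
    (D : Cfsg.FusionSystem (Cfsg.FusionSystem.centralizerIn S T)) (hD : F.IsCentralizerSystem T D) :
    D.focalSubgroup ≤ C := by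
  subst hC
  refine le_sSup ⟨?_, fun P φ hφ => ?_⟩
  · refine (Subgroup.closure_le _).2 ?_
    rintro _ ⟨A, ψ, x, hψ, rfl⟩
    exact Subgroup.mul_mem _ (Subgroup.inv_mem _ ((D.le_of_mem hψ).1 x.2)) ((D.le_of_mem hψ).2 x)
  · have hPT := (E.le_of_mem hφ).1
    have hval := (E.le_of_mem hφ).2
    have hcl := hE.1.2.2.2.1
    obtain ⟨g, hg, hge, hgY⟩ := exists_fixing hS hF hE hD (isMap_of_mem hφ)
    have hcent : ∀ t ∈ T, t ∈ Cfsg.FusionSystem.centralizerIn S D.focalSubgroup := by
      intro t ht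
      refine FusionSys.mem_centralizerIn.2 ⟨hcl.1 ht, fun y hy => ?_⟩
      have hyC : y ∈ Cfsg.FusionSystem.centralizerIn S T := by
        refine (Subgroup.closure_le _).2 ?_ hy
        rintro _ ⟨A, ψ, x, hψ, rfl⟩
        exact Subgroup.mul_mem _ (Subgroup.inv_mem _ ((D.le_of_mem hψ).1 x.2))
          ((D.le_of_mem hψ).2 x)
      exact ((FusionSys.mem_centralizerIn.1 hyC).2 t ht).symm
    exact (Cfsg.Agent.H91.centralizerHom_iff F).2 ⟨fun x hx => hcent x (hPT hx),
      fun x => hcent _ (hval x), g, hg, fun x => (hge x x.2).trans (homFun_coe φ x), hgY⟩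

end Cfsg.Agent.S5293
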