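import Cfsg.Statements.S5294
import Cfsg.Agent.H91.Fix

set_option autoImplicit false
universe u
open Cfsg

namespace Cfsg.Agent.S5294


/-- Let F be a saturated fusion system over a finite p-group S whose centre Z(S) lies in the largest subgroup O_p(F) normal in F. Then the centre Z(F) of F is a direct factor of Z(S): there is a subgroup K of Z(S) with Z(F) ∩ K = 1 and Z(F)K = Z(S). -/
theorem result {Ω : Type u} [Group Ω] {S : Subgroup Ω} [Finite S] (p : ℕ) [Fact p.Prime] (hS : IsPGroup p S)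
    (F : Cfsg.FusionSystem S) (hF : F.IsSaturated p) (hZ : (S ⊓ Subgroup.centralizer (S : Set Ω)) ≤ F.core) :
    ∃ K : Subgroup Ω, K ≤ (S ⊓ Subgroup.centralizer (S : Set Ω)) ∧ F.center ⊓ K = ⊥ ∧ F.center ⊔ K = (S ⊓ Subgroup.centralizer (S : Set Ω)) := by
  open Cfsg.Agent.FusionSys Cfsg.Agent.H91 Cfsg.FusionSystem in
  classical
  have hn : F.IsNormal F.core := Cfsg.Agent.H89.isNormal_core F
  have hN : normalizerIn S F.core = S := by
    refine le_antisymm normalizerIn_le fun s hs => ⟨hs, ?_⟩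
    haveI := finite_of_le hn.1
    refine mem_normalizer_of_maps fun y hy => ?_
    obtain ⟨g, -, hgS, hgQ⟩ := (isNormal_iff.1 hn).2 S _ (isMap_conj F le_rfl hs)
    have h := hgQ.le ⟨y, hy, rfl⟩
    rw [hgS y (hn.1 hy)] at h
    exact h
  have hfn : F.IsFullyNormalized F.core :=
    ⟨hn.1, fun Q _ => by rw [hN]; exact Subgroup.card_le_of_le normalizerIn_le⟩
  refine exists_center_complement hS hn.1 hN (isFullyAutomized_of_isFullyNormalized hS hF hfn) hZ
    ?_ ?_ (center_le_inter F)
  · intro x hxS hxc hfix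
    have hxQ : x ∈ F.core := hZ ⟨hxS, Subgroup.mem_centralizer_iff.2 fun s hs => (hxc s hs).eq⟩
    refine mem_center_of_fixes hS hF hxS hxc fun Q hQn hQc α hα => ?_
    obtain ⟨g, hg, hgQ', hgR⟩ := (isNormal_iff.1 hn).2 Q _ ((mem_autGroup_iff hQn.1).1 hα)
    have hiso : IsIso F F.core F.core g := ⟨hg.mono le_sup_right, hgR⟩
    obtain ⟨β, hβ, hβe⟩ := hiso.exists_aut
    rw [← hgQ' x (mem_centric hxS hxc hQc), ← hβe x hxQ]
    exact hfix β hβ
  · intro x hx α hα
    exact fixes_center F ((mem_autGroup_iff hn.1).1 hα) hx (hZ (center_le_inter F hx))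

end Cfsg.Agent.S5294
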