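import Cfsg.Statements.S5295
import Cfsg.Agent.H91.Fix

set_option autoImplicit false
universe u
open Cfsg

namespace Cfsg.Agent.S5295


/-- Let F be a saturated fusion system over a finite p-group S with p odd. Then the centre Z(F) of F is a direct factor of Z(S): there is a subgroup K of Z(S) with Z(F) ∩ K = 1 and Z(F)K = Z(S). (At the prime 2 this can fail.) -/
theorem result {Ω : Type u} [Group Ω] {S : Subgroup Ω} [Finite S] (p : ℕ) [Fact p.Prime] (hp : p ≠ 2) (hS : IsPGroup p S)
    (F : Cfsg.FusionSystem S) (hF : F.IsSaturated p) :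
    ∃ K : Subgroup Ω, K ≤ (S ⊓ Subgroup.centralizer (S : Set Ω)) ∧ F.center ⊓ K = ⊥ ∧ F.center ⊔ K = (S ⊓ Subgroup.centralizer (S : Set Ω)) := by
  open Cfsg.Agent.FusionSys Cfsg.Agent.H91 Cfsg.FusionSystem in
  classical
  set J := Cfsg.thompsonSubgroupOf p S with hJ
  set K := J ⊔ centralizerIn S J with hK
  have hJS : J ≤ S := thompson_le p S
  have hKS : K ≤ S := sup_le hJS centralizerIn_le
  have hNJ : normalizerIn S J = S :=
    le_antisymm normalizerIn_le ((normalizerIn_self S).ge.trans (normalizerIn_le_thompson F le_rfl))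
  have hN : normalizerIn S K = S :=
    le_antisymm normalizerIn_le (hNJ.ge.trans (normalizerIn_le_sup_centralizerIn J))
  have hfn : F.IsFullyNormalized K :=
    ⟨hKS, fun Q _ => by rw [hN]; exact Subgroup.card_le_of_le normalizerIn_le⟩
  have hZK : S ⊓ Subgroup.centralizer (S : Set Ω) ≤ K := fun x hx => Subgroup.mem_sup_right
    ⟨hx.1, Subgroup.centralizer_le hJS hx.2⟩
  refine exists_center_complement hS hKS hN (isFullyAutomized_of_isFullyNormalized hS hF hfn) hZK
    ?_ ?_ (center_le_inter F)
  · intro x hxS hxc hfix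
    obtain ⟨k, hk⟩ := hS ⟨x, hxS⟩
    have hk' : x ^ p ^ k = 1 := by simpa using congrArg Subtype.val hk
    have hxK : x ∈ K := hZK ⟨hxS, Subgroup.mem_centralizer_iff.2 fun s hs => (hxc s hs).eq⟩
    refine mem_center_of_fixes hS hF hxS hxc (fixes_of_fixes_thompson hS hF hp k x hxS hxc hk'
      fun β hβ => ?_)
    obtain ⟨α, hα, he⟩ := hβ.exists_aut
    rw [← he x hxK]
    exact hfix α hα
  · intro x hx α hα
    exact fixes_center F ((mem_autGroup_iff hKS).1 hα) hx (hZK (center_le_inter F hx))

end Cfsg.Agent.S5295
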