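import Cfsg.Statements.S5296
import Cfsg.Agent.H91.SmallControl

set_option autoImplicit false
universe u
open Cfsg

namespace Cfsg.Agent.S5296

open Cfsg.Agent.H91 Cfsg.Agent.FusionSys

/-- Small-exponent abelian subgroups of the hyperfocal subgroup control fusion. Let E and F be saturated fusion systems over the same finite p-group S with E contained in F. Suppose that E and F have the same maps between A and B for all subgroups A, B of the hyperfocal subgroup of F that are elementary abelian when p is odd, respectively abelian of exponent dividing 4 when p = 2. Then E = F. -/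
theorem result {Ω : Type u} [Group Ω] {S : Subgroup Ω} [Finite S] (p : ℕ) [Fact p.Prime] (hS : IsPGroup p S)
    (E F : Cfsg.FusionSystem S) (hE : E.IsSaturated p) (hF : F.IsSaturated p) (hEF : E.IsSubsystemOf F)
    (hodd : p ≠ 2 → ∀ A B : Subgroup Ω, A ≤ (F.hyperfocalSubgroup p) → B ≤ (F.hyperfocalSubgroup p) →
      Cfsg.IsElementaryAbelian p A → Cfsg.IsElementaryAbelian p B → E.homSet A B = F.homSet A B)
    (htwo : p = 2 → ∀ A B : Subgroup Ω, A ≤ (F.hyperfocalSubgroup p) → B ≤ (F.hyperfocalSubgroup p) →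
      IsMulCommutative ↥A → IsMulCommutative ↥B → (∀ a ∈ A, a ^ 4 = 1) → (∀ b ∈ B, b ^ 4 = 1) → E.homSet A B = F.homSet A B) :
    ∀ P : Subgroup Ω, E.Hom P = F.Hom P := by
  have hle : E ≤ F := hEF
  have hagree : AgreesOn p E F (F.hyperfocalSubgroup p) := by
    intro A f hA hAH hf hfH
    set B := imgSub f A with hB
    have hBi : IsIso F A B f := hf.isIso
    have hBH : B ≤ F.hyperfocalSubgroup p := fun z hz => by
      obtain ⟨a, ha, rfl⟩ := hBi.exists_preimage hz
      exact hfH a ha
    have hBa : ∀ x ∈ B, ∀ y ∈ B, x * y = y * x := by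
      intro x hx y hy
      obtain ⟨a, ha, rfl⟩ := hBi.exists_preimage hx
      obtain ⟨b, hb, rfl⟩ := hBi.exists_preimage hy
      rw [← hf.map_mul ha hb, hA.1 a ha b hb, hf.map_mul hb ha]
    have hBp : ∀ x ∈ B, x ^ smallExp p = 1 := by
      intro x hx
      obtain ⟨a, ha, rfl⟩ := hBi.exists_preimage hx
      rw [← hf.map_pow ha, hA.2 a ha, hf.map_one]
    have hAc : IsMulCommutative ↥A := ⟨⟨fun a b => Subtype.ext (hA.1 a a.2 b b.2)⟩⟩
    have hBc : IsMulCommutative ↥B := ⟨⟨fun a b => Subtype.ext (hBa a a.2 b b.2)⟩⟩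
    obtain ⟨φ, hφ, hφf⟩ := hf
    have hmem : φ ∈ F.homSet A B := ⟨hφ, fun x => (hφf x).symm ▸ hBi.mem x.2⟩
    have h : E.homSet A B = F.homSet A B := by
      by_cases h2 : p = 2
      · have he : smallExp p = 4 := by rw [smallExp, if_pos h2]
        exact htwo h2 A B hAH hBH hAc hBc (fun a ha => he ▸ hA.2 a ha) (fun b hb => he ▸ hBp b hb)
      · have he : smallExp p = p := by rw [smallExp, if_neg h2]
        exact hodd h2 A B hAH hBH
          ⟨hAc, fun a ha => by have := hA.2 a ha; rwa [he] at this⟩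
          ⟨hBc, fun b hb => by have := hBp b hb; rwa [he] at this⟩
    exact ⟨φ, (h.symm ▸ hmem : φ ∈ E.homSet A B).1, hφf⟩
  have h' := le_of_agreesOn (p := p) _ S E F hS hE hF hle hagree rfl
  exact fun P => Set.Subset.antisymm (hle P) (h' P)

end Cfsg.Agent.S5296
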