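import Cfsg.Statements.S5297
import Cfsg.Agent.H91.SmallFix

set_option autoImplicit false
universe u
open Cfsg

namespace Cfsg.Agent.S5297


/-- Let F be a saturated fusion system over a finite p-group S. If every map of F between cyclic subgroups of the hyperfocal subgroup of F of order p or 4 is a map of the normalizer system of S (it extends to a map of F defined on all of S), then S is normal in F. -/
theorem result {Ω : Type u} [Group Ω] {S : Subgroup Ω} [Finite S] (p : ℕ) [Fact p.Prime] (hS : IsPGroup p S)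
    (F : Cfsg.FusionSystem S) (hF : F.IsSaturated p)
    (h : ∀ A B : Subgroup Ω, A ≤ (F.hyperfocalSubgroup p) → B ≤ (F.hyperfocalSubgroup p) → IsCyclic ↥A → (Nat.card ↥A = p ∨ Nat.card ↥A = 4) → IsCyclic ↥B → (Nat.card ↥B = p ∨ Nat.card ↥B = 4) →
      F.homSet A B ⊆ F.normalizerHom S A) :
    F.IsNormal S := by
  open Cfsg.Agent.FusionSys Cfsg.Agent.H91 Cfsg.FusionSystem in
  classical
  refine Cfsg.Agent.FusionSys.isNormal_of_centricRadical hS hF fun P hPn hPc hPr => ?_
  suffices hSP : S ≤ P by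
    refine ⟨hSP, fun α hα => ?_⟩
    rw [le_antisymm hSP hPn.1]
    exact image_autMap α
  have hPS := hPn.1
  haveI := finite_autGroup F hPS
  haveI := finite_of_le (inf_le_left.trans hPS : P ⊓ F.hyperfocalSubgroup p ≤ S)
  obtain ⟨C, hC⟩ := exists_isSmallCore (p := p) hS hPS (F.hyperfocalSubgroup p)
  have hst := mem_traceStab_hyperfocal hS hF hPn
  have hCP : C ≤ P := hC.le.trans inf_le_left
  have hcard : ∀ y : Ω, y ≠ 1 → IsSmall p y →
      Nat.card (Subgroup.zpowers y) = p ∨ Nat.card (Subgroup.zpowers y) = 4 := by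
    intro y hy1 hy
    rw [Nat.card_zpowers]
    rcases hy with hy | ⟨h2, hy⟩
    · exact Or.inl (orderOf_eq_prime hy hy1)
    · subst h2
      obtain ⟨j, hj, he⟩ := (Nat.dvd_prime_pow Nat.prime_two).1
        (show orderOf y ∣ 2 ^ 2 from orderOf_dvd_of_pow_eq_one hy)
      interval_cases j
      · exact absurd (orderOf_eq_one_iff.1 he) hy1
      · exact Or.inl he
      · exact Or.inr he
  have hγ : ∀ (α : F.autGroup P) (i : ℕ), ∀ x ∈ C, x ∈ upperSeries S i →
      autMap (α : MulAut P) x ∈ upperSeries S i := by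
    intro α i x hx hxi
    have hm := (mem_autGroup_iff hPS).1 α.2
    by_cases hx1 : x = 1
    · subst hx1
      rw [hm.map_one]
      exact one_mem _
    have hy := hC.invariant _ (hst α) x hx
    have hxP : x ∈ P := hCP hx
    have hne : autMap (α : MulAut P) x ≠ 1 := fun e => hx1 (hm.injOn hxP P.one_mem (e.trans hm.map_one.symm))
    obtain ⟨φ, hφ, hφe⟩ := hm.mono (Subgroup.zpowers_le.2 hxP)
    obtain ⟨-, -, -, ψ, hψ, hψe, hψS⟩ := h (Subgroup.zpowers x) (Subgroup.zpowers (autMap (α : MulAut P) x))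
      (Subgroup.zpowers_le.2 (hC.le hx).2) (Subgroup.zpowers_le.2 (hC.le hy).2) inferInstance
      (hcard x hx1 (hC.small x hx)) inferInstance (hcard _ hne (hC.small _ hy))
      (show φ ∈ F.homSet _ _ from ⟨hφ, fun y => by
        obtain ⟨i, hi⟩ := Subgroup.mem_zpowers_iff.1 y.2
        rw [hφe y, ← hi, isMap_zpow hm hxP]
        exact zpow_mem (Subgroup.mem_zpowers _) i⟩)
    have hgS : IsMap F S (homFun ψ) := (isMap_of_mem hψ).mono le_sup_right
    obtain ⟨γ, -, hγe⟩ := (isIso_of_mapsTo hgS fun y hy => hgS.mem_S hy).exists_aut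
    have e : homFun ψ x = autMap (α : MulAut P) x := by
      rw [homFun_mem ψ (Subgroup.mem_sup_left (Subgroup.mem_zpowers x))]
      exact (hψe ⟨x, Subgroup.mem_zpowers x⟩).trans (hφe _)
    rw [← e, ← hγe x (hPS hxP)]
    exact autMap_upperSeries hxi
  let M : Subgroup (F.autGroup P) :=
    { carrier := {a | ∀ i, ∀ x ∈ C, x ∈ upperSeries S (i + 1) → x⁻¹ * autMap (a : MulAut P) x ∈ upperSeries S i}
      one_mem' := fun i x hx _ => by
        rw [autMap_apply _ (hCP hx)]
        show x⁻¹ * x ∈ _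
        rw [inv_mul_cancel]
        exact one_mem _
      mul_mem' := fun {a b} ha hb i x hx hxi => by
        have h1 := mul_mem (hb i x hx hxi) (ha i _ (hC.invariant _ (hst b) x hx) (hγ b (i + 1) x hx hxi))
        rw [Subgroup.coe_mul, autMap_mul _ _ (hCP hx)]
        simpa [mul_assoc] using h1
      inv_mem' := fun {a} ha i x hx hxi => by
        have h1 := inv_mem (ha i _ (hC.invariant _ (hst a⁻¹) x hx) (hγ a⁻¹ (i + 1) x hx hxi))
        rw [show autMap (a : MulAut P) (autMap ((a⁻¹ : F.autGroup P) : MulAut P) x) = x from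
          autMap_inv_apply (a : MulAut P) (hCP hx)] at h1
        simpa using h1 }
  haveI : M.Normal := ⟨fun a ha c i x hx hxi => by
    set y := autMap ((c⁻¹ : F.autGroup P) : MulAut P) x with hy
    have hyC : y ∈ C := hC.invariant _ (hst c⁻¹) x hx
    have hd := ha i y hyC (hγ c⁻¹ (i + 1) x hx hxi)
    have hay : autMap (a : MulAut P) y ∈ C := hC.invariant _ (hst a) y hyC
    have h1 := hγ c i _ (C.mul_mem (C.inv_mem hyC) hay) hd
    have hm := (mem_autGroup_iff hPS).1 c.2
    rw [hm.map_mul (P.inv_mem (hCP hyC)) (hCP hay), hm.map_inv (hCP hyC),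
      show autMap (c : MulAut P) y = x from autMap_inv_apply (c : MulAut P) (hCP hx)] at h1
    rw [Subgroup.coe_mul, autMap_mul _ _ (hCP hx), Subgroup.coe_mul, autMap_mul _ _ (hCP hyC)]
    exact h1⟩
  refine le_of_radical hS hPc hPr M (fun a ha hco => Subtype.ext ?_) fun s hs i x hx hxi => ?_
  · exact hC.faithful _ hco (diff_mem_hyperfocal hPS a (by rwa [← Subgroup.orderOf_coe]))
      (fix_of_chain hS hPS hCP hco (hC.invariant _ (hst a)) ha)
  · rw [autMap_conjAut hs.2 (hCP hx), conjMap_apply]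
    exact comm_mem_upperSeries' hxi hs.1

end Cfsg.Agent.S5297
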