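import Cfsg.Statements.S5298
import Cfsg.Agent.H91.SmallFix

set_option autoImplicit false
universe u
open Cfsg

namespace Cfsg.Agent.S5298


/-- Let F be a saturated fusion system over a finite p-group S. If every map of F between cyclic subgroups of the hyperfocal subgroup of F of order p or 4 is conjugation by an element of S, then F is the inner fusion system of S. -/
theorem result {Ω : Type u} [Group Ω] {S : Subgroup Ω} [Finite S] (p : ℕ) [Fact p.Prime] (hS : IsPGroup p S)
    (F : Cfsg.FusionSystem S) (hF : F.IsSaturated p)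
    (h : ∀ A B : Subgroup Ω, A ≤ (F.hyperfocalSubgroup p) → B ≤ (F.hyperfocalSubgroup p) → IsCyclic ↥A → (Nat.card ↥A = p ∨ Nat.card ↥A = 4) → IsCyclic ↥B → (Nat.card ↥B = p ∨ Nat.card ↥B = 4) →
      F.homSet A B ⊆ (Cfsg.innerFusionSystem S).Hom A) :
    ∀ P : Subgroup Ω, F.Hom P = (Cfsg.innerFusionSystem S).Hom P := by
  open Cfsg.Agent.FusionSys Cfsg.Agent.H91 Cfsg.FusionSystem in
  refine fun P => Cfsg.Agent.H90.eq_inner_of_autGroup_isPGroup hS hF (fun R hR => ?_) P
  haveI := finite_autGroup F hR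
  refine Cfsg.Agent.H90.isPGroup_of_coprime_eq_one fun α hα => ?_
  haveI := finite_of_le (inf_le_left.trans hR : R ⊓ F.hyperfocalSubgroup p ≤ S)
  obtain ⟨C, hC⟩ := exists_isSmallCore (p := p) hS hR (F.hyperfocalSubgroup p)
  have hco : (orderOf (α : MulAut R)).Coprime p := by rwa [Subgroup.orderOf_coe]
  have hd := diff_mem_hyperfocal hR α hα
  have hinv := hC.invariant _ (mem_traceStab_of_diff hd)
  refine Subtype.ext (hC.faithful _ hco hd (fix_of_chain hS hR (hC.le.trans inf_le_left) hco hinv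
    fun i x hx hxi => ?_))
  obtain ⟨t, ht, hte⟩ : ∃ t ∈ S, autMap (α : MulAut R) x = t * x * t⁻¹ := by
    have hm := (mem_autGroup_iff hR).1 α.2
    by_cases hx1 : x = 1
    · subst hx1
      exact ⟨1, S.one_mem, by rw [hm.map_one]; simp⟩
    have hxR : x ∈ R := (hC.le hx).1
    have hcard : ∀ y : Ω, y ≠ 1 → IsSmall p y →
        Nat.card (Subgroup.zpowers y) = p ∨ Nat.card (Subgroup.zpowers y) = 4 := by
      intro y hy1 hy
      rw [Nat.card_zpowers]
      rcases hy with hy | ⟨h2, hy⟩
      · exact Or.inl (orderOf_eq_prime hy hy1)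
      · subst h2
        obtain ⟨j, hj, he⟩ := (Nat.dvd_prime_pow Nat.prime_two).1
          (show orderOf y ∣ 2 ^ 2 from orderOf_dvd_of_pow_eq_one hy)
        interval_cases j
        · exact absurd (orderOf_eq_one_iff.1 he) hy1
        · exact Or.inl he
        · exact Or.inr he
    have hne : autMap (α : MulAut R) x ≠ 1 := fun e => hx1 (hm.injOn hxR R.one_mem (e.trans hm.map_one.symm))
    obtain ⟨φ, hφ, hφe⟩ := hm.mono (Subgroup.zpowers_le.2 hxR)
    obtain ⟨-, t, ht, hte⟩ := h (Subgroup.zpowers x) (Subgroup.zpowers (autMap (α : MulAut R) x))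
      (Subgroup.zpowers_le.2 (hC.le hx).2) (Subgroup.zpowers_le.2 (hC.le (hinv x hx)).2) inferInstance
      (hcard x hx1 (hC.small x hx)) inferInstance (hcard _ hne (hC.small _ (hinv x hx)))
      (show φ ∈ F.homSet _ _ from ⟨hφ, fun y => by
        obtain ⟨i, hi⟩ := Subgroup.mem_zpowers_iff.1 y.2
        rw [hφe y, ← hi, isMap_zpow hm hxR]
        exact zpow_mem (Subgroup.mem_zpowers _) i⟩)
    exact ⟨t, ht, (hφe ⟨x, Subgroup.mem_zpowers x⟩).symm.trans (hte _)⟩
  rw [hte]
  exact comm_mem_upperSeries' hxi ht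

end Cfsg.Agent.S5298
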