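import Cfsg.Statements.S5299

set_option autoImplicit false
universe u
open Cfsg

namespace Cfsg.Agent.S5299


/-- Let F be a saturated fusion system over a finite p-group S, H a finite group and Q a p-subgroup of H. If Q is not involved in S (no section of S is isomorphic to Q), then F is H-free: H is involved in no model of the normalizer system of a fully normalized centric subgroup. -/
theorem result {Ω : Type u} [Group Ω] {S : Subgroup Ω} [Finite S] (p : ℕ) [Fact p.Prime] (hS : IsPGroup p S)
    (F : Cfsg.FusionSystem S) (hF : F.IsSaturated p) (H : Type*) [Group H] [Finite H] (Q : Subgroup H) (hQ : IsPGroup p Q)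
    (hfree : ¬ Cfsg.Involves (↥Q) (↥S)) : F.IsSectionFree p H := by
  intro R hR hRc N hN L _ ι hmod hinv
  obtain ⟨hfinL, ⟨hinj, -⟩, ⟨T, hT⟩, -⟩ := hmod
  obtain ⟨K, K', hK', ⟨e⟩⟩ := hinv
  obtain ⟨PH, hPH⟩ := hQ.exists_le_sylow
  let T0 : Sylow p ↥K := default
  let f : ↥K →* H := e.toMonoidHom.comp (QuotientGroup.mk' (K'.subgroupOf K))
  have hf : Function.Surjective f := e.surjective.comp (QuotientGroup.mk'_surjective _)
  obtain ⟨h, hh⟩ := MulAction.exists_smul_eq H PH (T0.mapSurjective hf)
  -- a conjugate of `Q` lies in the image of a Sylow `p`-subgroup of `K`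
  have hQ' : Q.map (MulAut.conj h).toMonoidHom ≤ (T0 : Subgroup K).map f := by
    rw [← Sylow.coe_mapSurjective hf T0, ← hh]
    exact Subgroup.map_mono hPH
  obtain ⟨Lp, hLp⟩ := (T0.2.map K.subtype).exists_le_sylow
  obtain ⟨l, hl⟩ := MulAction.exists_smul_eq L Lp T
  set U : Subgroup K := (T0 : Subgroup K) ⊓ (Q.map (MulAut.conj h).toMonoidHom).comap f with hU
  -- the map carrying elements of `U` into `S`
  have hUS : ∀ u : U, (MulAut.conj l ((u : K) : L)) ∈ ι.range := by
    intro u
    rw [← hT, ← hl]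
    exact Subgroup.mem_map_of_mem _ (hLp ⟨u, u.2.1, rfl⟩)
  let ψ : ↥U →* ↥S := (Subgroup.inclusion (show Cfsg.FusionSystem.normalizerIn S R ≤ S from inf_le_left)).comp
    (((MonoidHom.ofInjective hinj).symm.toMonoidHom).comp
      (((MulAut.conj l).toMonoidHom.comp (K.subtype.comp U.subtype)).codRestrict ι.range hUS))
  have hψ : Function.Injective ψ := by
    intro a b hab
    have h1 := Subgroup.inclusion_injective inf_le_left hab
    have h2 := (MonoidHom.ofInjective hinj).symm.injective h1
    have h3 : MulAut.conj l ((a : K) : L) = MulAut.conj l ((b : K) : L) := congrArg Subtype.val h2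
    exact Subtype.ext (Subtype.ext ((MulAut.conj l).injective h3))
  let g : ↥U →* ↥(Q.map (MulAut.conj h).toMonoidHom) :=
    (f.comp U.subtype).codRestrict _ fun u => u.2.2
  have hg : Function.Surjective g := by
    rintro ⟨q, hq⟩
    obtain ⟨k, hk, rfl⟩ := hQ' hq
    exact ⟨⟨k, hk, hq⟩, Subtype.ext rfl⟩
  let eU : ↥U ≃* ↥ψ.range := MonoidHom.ofInjective hψ
  let g2 : ↥ψ.range →* ↥Q := (Q.equivMapOfInjective _ (MulAut.conj h).injective).symm.toMonoidHom.comp
    (g.comp eU.symm.toMonoidHom)
  have hg2 : Function.Surjective g2 :=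
    (Q.equivMapOfInjective _ (MulAut.conj h).injective).symm.surjective.comp (hg.comp eU.symm.surjective)
  have hkk : (g2.ker.map ψ.range.subtype).subgroupOf ψ.range = g2.ker := by
    rw [Subgroup.subgroupOf, Subgroup.comap_map_eq_self_of_injective ψ.range.subtype_injective]
  haveI : ((g2.ker.map ψ.range.subtype).subgroupOf ψ.range).Normal := hkk.symm ▸ g2.normal_ker
  exact hfree ⟨ψ.range, g2.ker.map ψ.range.subtype, ‹_›,
    ⟨(QuotientGroup.quotientMulEquivOfEq hkk).trans (QuotientGroup.quotientKerEquivOfSurjective g2 hg2)⟩⟩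

end Cfsg.Agent.S5299
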