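import Cfsg.Statements.S5300
import Cfsg.Agent.H91.SmallFix

set_option autoImplicit false
universe u
open Cfsg

namespace Cfsg.Agent.S5300


/-- Let F be a saturated fusion system over a finite p-group S. If every cyclic subgroup of the focal subgroup of F of order p (of order 2 or 4 when p = 2) is normal in S, then S is normal in F. -/
theorem result {Ω : Type u} [Group Ω] {S : Subgroup Ω} [Finite S] (p : ℕ) [Fact p.Prime] (hS : IsPGroup p S)
    (F : Cfsg.FusionSystem S) (hF : F.IsSaturated p)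
    (hnorm : ∀ x ∈ F.focalSubgroup, (x ^ p = 1 ∨ (p = 2 ∧ x ^ 4 = 1)) → ∀ s ∈ S, s * x * s⁻¹ ∈ Subgroup.zpowers x) :
    F.IsNormal S := by
  open Cfsg.Agent.FusionSys Cfsg.Agent.H91 Cfsg.FusionSystem in
  classical
  refine Cfsg.Agent.FusionSys.isNormal_of_centricRadical hS hF fun P hPn hPc hPr => ?_
  suffices hSP : S ≤ P by
    refine ⟨hSP, fun α hα => ?_⟩
    rw [le_antisymm hSP hPn.1]
    exact image_autMap α
  have hPS := hPn.1
  haveI := finite_of_le hPS
  haveI := finite_autGroup F hPS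
  haveI := finite_of_le (inf_le_left.trans hPS : P ⊓ F.focalSubgroup ≤ S)
  obtain ⟨C, hC⟩ := exists_isSmallCore (p := p) hS hPS F.focalSubgroup
  have hst : ∀ α : F.autGroup P, (α : MulAut P) ∈ traceStab P (P ⊓ F.focalSubgroup) := fun α =>
    mem_traceStab_of_diff (diff_mem_focal hPS α)
  have hCP : C ≤ P := hC.le.trans inf_le_left
  have hp : p.Prime := Fact.out
  have hk : ∀ x ∈ C, ∀ s ∈ S, ∃ k : ℕ, s * x * s⁻¹ = x ^ k := by
    intro x hx s hs
    have hfin : IsOfFinOrder x := by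
      obtain ⟨j, hj⟩ := hS ⟨x, hPS (hCP hx)⟩
      exact isOfFinOrder_iff_pow_eq_one.2 ⟨p ^ j, pow_pos hp.pos j, congrArg Subtype.val hj⟩
    obtain ⟨k, hk⟩ := hfin.mem_zpowers_iff_mem_range_orderOf.1 (hnorm x (hC.le hx).2 (hC.small x hx) s hs) |>
      fun h => (Finset.mem_image.1 h).imp fun a ha => ha.2
    exact ⟨k, hk.symm⟩
  have hcent : ∀ x ∈ C, x ^ p = 1 → ∀ s ∈ S, s * x * s⁻¹ = x := by
    intro x hx hxp s hs
    obtain ⟨k, hk⟩ := hk x hx s hs
    have hpow : ∀ n : ℕ, s ^ n * x * (s ^ n)⁻¹ = x ^ k ^ n := by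
      intro n
      induction n with
      | zero => simp
      | succ n ih =>
        calc s ^ (n + 1) * x * (s ^ (n + 1))⁻¹ = s ^ n * (s * x * s⁻¹) * (s ^ n)⁻¹ := by group
          _ = (s ^ n * x * (s ^ n)⁻¹) ^ k := by rw [hk, conj_pow]
          _ = _ := by rw [ih, ← pow_mul, pow_succ]
    obtain ⟨j, hj⟩ := hS ⟨s, hs⟩
    have h1 := hpow (p ^ j)
    rw [show s ^ p ^ j = 1 by simpa using congrArg Subtype.val hj, one_mul, inv_one, mul_one] at h1
    have hmod : (k : ZMod p) ^ p ^ j = (k : ZMod p) := ZMod.pow_card_pow _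
    rw [← Nat.cast_pow, ZMod.natCast_eq_natCast_iff] at hmod
    rw [hk]
    refine Eq.trans ?_ h1.symm
    exact pow_eq_pow_iff_modEq.2 (hmod.symm.of_dvd (orderOf_dvd_of_pow_eq_one hxp))
  have hdiff : ∀ x ∈ C, ∀ s ∈ S, (x⁻¹ * (s * x * s⁻¹)) ^ p = 1 := by
    intro x hx s hs
    rcases hC.small x hx with hxp | ⟨h2, hx4⟩
    · rw [hcent x hx hxp s hs, inv_mul_cancel, one_pow]
    obtain ⟨k, hk⟩ := hk x hx s hs
    subst h2
    rw [hk, (Commute.pow_right (Commute.refl x) k).inv_left.mul_pow, inv_pow]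
    rcases Nat.even_or_odd k with ⟨m, rfl⟩ | ⟨m, rfl⟩
    · have h2 : (s * x * s⁻¹) ^ 2 = 1 := by
        rw [hk, ← pow_mul, show (m + m) * 2 = 4 * m by ring, pow_mul, hx4, one_pow]
      rw [conj_pow] at h2
      have hx2 : x ^ 2 = 1 := by
        have := mul_eq_one_iff_eq_inv.1 h2
        rw [inv_inv, mul_eq_left] at this
        exact this
      rw [hx2, inv_one, one_mul, ← pow_mul, mul_comm, pow_mul, hx2, one_pow]
    · rw [← pow_mul, show (2 * m + 1) * 2 = 2 + 4 * m by ring, pow_add, pow_mul, hx4, one_pow, mul_one,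
        inv_mul_cancel]
  let M : Subgroup (F.autGroup P) :=
    { carrier := {a | ∀ x ∈ C, (x⁻¹ * autMap (a : MulAut P) x) ^ p = 1 ∧ (x ^ p = 1 → autMap (a : MulAut P) x = x)}
      one_mem' := fun x hx => by
        rw [autMap_apply _ (hCP hx)]
        show (x⁻¹ * x) ^ p = 1 ∧ (x ^ p = 1 → x = x)
        exact ⟨by rw [inv_mul_cancel, one_pow], fun _ => rfl⟩
      mul_mem' := fun {a b} ha hb x hx => by
        have hbx := hC.invariant _ (hst b) x hx
        obtain ⟨hb1, hb2⟩ := hb x hx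
        obtain ⟨ha1, ha2⟩ := ha _ hbx
        rw [Subgroup.coe_mul, autMap_mul _ _ (hCP hx)]
        refine ⟨?_, fun hxp => by rw [hb2 hxp]; exact (ha x hx).2 hxp⟩
        set d := x⁻¹ * autMap (b : MulAut P) x with hd
        set e := (autMap (b : MulAut P) x)⁻¹ * autMap (a : MulAut P) (autMap (b : MulAut P) x) with he
        rw [show x⁻¹ * autMap (a : MulAut P) (autMap (b : MulAut P) x) = d * e by rw [hd, he]; group]
        have heC : e ∈ C := C.mul_mem (C.inv_mem hbx) (hC.invariant _ (hst a) _ hbx)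
        have hdS : d ∈ S := hPS (hCP (C.mul_mem (C.inv_mem hx) hbx))
        rw [(show Commute d e from mul_inv_eq_iff_eq_mul.1 (hcent e heC ha1 d hdS)).mul_pow, hb1, ha1, one_mul]
      inv_mem' := fun {a} ha x hx => by
        have hy := hC.invariant _ (hst a⁻¹) x hx
        obtain ⟨ha1, ha2⟩ := ha _ hy
        rw [show autMap (a : MulAut P) (autMap ((a⁻¹ : F.autGroup P) : MulAut P) x) = x from
          autMap_inv_apply (a : MulAut P) (hCP hx)] at ha1 ha2
        refine ⟨?_, fun hxp => ?_⟩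
        · rw [← inv_eq_one, ← inv_pow, mul_inv_rev, inv_inv]
          exact ha1
        · refine (ha2 ?_).symm
          have hm := (mem_autGroup_iff hPS).1 (a⁻¹).2
          rw [← hm.map_pow (hCP hx), hxp, hm.map_one] }
  haveI : M.Normal := ⟨fun a ha c x hx => by
    set y := autMap ((c⁻¹ : F.autGroup P) : MulAut P) x with hy
    have hyC : y ∈ C := hC.invariant _ (hst c⁻¹) x hx
    have hay : autMap (a : MulAut P) y ∈ C := hC.invariant _ (hst a) y hyC
    obtain ⟨h1, h2⟩ := ha y hyC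
    have hm := (mem_autGroup_iff hPS).1 c.2
    have hcy : autMap (c : MulAut P) y = x := autMap_inv_apply (c : MulAut P) (hCP hx)
    rw [Subgroup.coe_mul, autMap_mul _ _ (hCP hx), Subgroup.coe_mul, autMap_mul _ _ (hCP hyC)]
    refine ⟨?_, fun hxp => ?_⟩
    · have h3 := congrArg (autMap (c : MulAut P)) h1
      rwa [hm.map_pow (P.mul_mem (P.inv_mem (hCP hyC)) (hCP hay)), hm.map_one,
        hm.map_mul (P.inv_mem (hCP hyC)) (hCP hay), hm.map_inv (hCP hyC), hcy] at h3
    · have hyp : y ^ p = 1 := by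
        have hm' := (mem_autGroup_iff hPS).1 (c⁻¹).2
        rw [hy, ← hm'.map_pow (hCP hx), hxp, hm'.map_one]
      rw [h2 hyp, hcy]⟩
  refine le_of_radical hS hPc hPr M (fun a ha hco => Subtype.ext ?_) fun s hs x hx => ?_
  · refine hC.faithful _ hco (diff_mem_focal hPS a) fun x hx => ?_
    have hax := hC.invariant _ (hst a) x hx
    have hdC : x⁻¹ * autMap (a : MulAut P) x ∈ C := C.mul_mem (C.inv_mem hx) hax
    have hfix := (ha _ hdC).2 (ha x hx).1
    have hd : (⟨x, hCP hx⟩ : P)⁻¹ * (a : MulAut P) ⟨x, hCP hx⟩ = ⟨_, hCP hdC⟩ :=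
      Subtype.ext (by rw [Subgroup.coe_mul, ← autMap_coe]; rfl)
    have h1 := Cfsg.Agent.H90.fix_of_fix_diff (hS.to_le hPS) (a : MulAut P) hco ⟨x, hCP hx⟩ (by
      rw [hd]
      exact Subtype.ext ((autMap_apply _ _).symm.trans hfix))
    rw [autMap_apply _ (hCP hx), h1]
  · show (x⁻¹ * autMap (conjAut hs.2) x) ^ p = 1 ∧ (x ^ p = 1 → autMap (conjAut hs.2) x = x)
    rw [autMap_conjAut hs.2 (hCP hx), conjMap_apply]
    exact ⟨hdiff x hx s hs.1, fun hxp => hcent x hx hxp s hs.1⟩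

end Cfsg.Agent.S5300
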