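import Cfsg.Statements.S5301
import Cfsg.Agent.FusionSys.Normal

set_option autoImplicit false
universe u
open Cfsg

namespace Cfsg.Agent.S5301

/-- Let F be a saturated fusion system over a finite p-group S. If for every subgroup P of S that is fully normalized, centric and radical in F the automorphism group that F induces on P has a normal Sylow p-subgroup, then S is normal in F. -/
theorem result {Ω : Type u} [Group Ω] {S : Subgroup Ω} [Finite S] (p : ℕ) [Fact p.Prime] (hS : IsPGroup p S)
    (F : Cfsg.FusionSystem S) (hF : F.IsSaturated p)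
    (hcl : ∀ P : Subgroup Ω, F.IsFullyNormalized P → F.IsCentric P → F.IsRadical p P →
      ∃ R : Sylow p ↥(F.autGroup P), (R : Subgroup ↥(F.autGroup P)).Normal) :
    F.IsNormal S := by
  refine FusionSys.isNormal_of_centricRadical hS hF fun P hn hc hr => ?_
  have hPS : P = S := by
    by_contra h
    obtain ⟨x, hx, hxP⟩ := SetLike.exists_of_lt
      (FusionSys.lt_normalizerIn hS (lt_of_le_of_ne hc.1 h))
    refine hxP (FusionSys.mem_of_conjAut_mem_inn (FusionSys.centralizerIn_le_of_isCentric hc) hc.1
      hx.1 hx.2 ?_)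
    obtain ⟨R, hR⟩ := hcl P hn hc hr
    haveI := FusionSys.finite_autGroup F hc.1
    haveI := hR
    rw [← hr.2]
    have hx' : FusionSys.conjAut hx.2 ∈ F.autGroup P := FusionSys.conjAut_mem_autGroup F hc.1 hx
    refine ⟨⟨_, hx'⟩, le_sSup (show (R : Subgroup (F.autGroup P)) ∈
      {N : Subgroup (F.autGroup P) | N.Normal ∧ IsPGroup p N} from ⟨hR, R.isPGroup'⟩) ?_, rfl⟩
    obtain ⟨R', hR'⟩ := ((FusionSys.isPGroup_autInducedBy hS P).of_equiv
      (Subgroup.subgroupOfEquivOfLe (FusionSys.autInducedBy_le_autGroup F hc.1)).symm).exists_le_sylow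
    have : R' = R := by
      haveI := Sylow.unique_of_normal R hR
      exact Subsingleton.elim _ _
    exact this ▸ hR' (Subgroup.mem_subgroupOf.2
      (FusionSys.mem_autInducedBy.2 ⟨x, hx.1, hx.2, rfl⟩))
  subst hPS
  refine ⟨le_rfl, fun α _ => FusionSys.image_autMap α⟩

end Cfsg.Agent.S5301
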