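import Cfsg.Statements.S5306

set_option autoImplicit false
open Cfsg

namespace Cfsg.Agent.S5306

variable {X : Type*} [Group X]

/-- The maximal elementary abelian subgroups of `P`, as subgroups of the ambient group. -/
def maxEl (p : ℕ) (P : Subgroup X) : Set (Subgroup X) :=
  {A | A ≤ P ∧ Cfsg.IsElementaryAbelian p A ∧
    ∀ B : Subgroup X, B ≤ P → Cfsg.IsElementaryAbelian p B → Nat.card B ≤ Nat.card A}

theorem isEA_map {Y : Type*} [Group Y] {p : ℕ} (f : X →* Y) {A : Subgroup X}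
    (hA : Cfsg.IsElementaryAbelian p A) : Cfsg.IsElementaryAbelian p (A.map f) := by
  refine ⟨⟨⟨?_⟩⟩, ?_⟩
  · rintro ⟨_, a, ha, rfl⟩ ⟨_, b, hb, rfl⟩
    have := congrArg Subtype.val (hA.1.is_comm.comm ⟨a, ha⟩ ⟨b, hb⟩)
    exact Subtype.ext (show f a * f b = f b * f a by rw [← map_mul, ← map_mul]; exact congrArg f this)
  · rintro _ ⟨a, ha, rfl⟩
    rw [← map_pow, hA.2 a ha, map_one]

theorem isEA_of_map {Y : Type*} [Group Y] {p : ℕ} (f : X →* Y) (hf : Function.Injective f)
    {A : Subgroup X} (hA : Cfsg.IsElementaryAbelian p (A.map f)) :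
    Cfsg.IsElementaryAbelian p A := by
  refine ⟨⟨⟨fun a b => Subtype.ext (hf ?_)⟩⟩, fun a ha => hf ?_⟩
  · have := congrArg Subtype.val (hA.1.is_comm.comm ⟨f a, a, a.2, rfl⟩ ⟨f b, b, b.2, rfl⟩)
    simpa using this
  · rw [map_pow, map_one]; exact hA.2 _ ⟨a, ha, rfl⟩

theorem card_map_inj {Y : Type*} [Group Y] (f : X →* Y) (hf : Function.Injective f)
    (A : Subgroup X) : Nat.card (A.map f) = Nat.card A :=
  (Nat.card_congr (A.equivMapOfInjective f hf).toEquiv).symm

theorem thompson_eq (p : ℕ) (P : Subgroup X) :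
    Cfsg.thompsonSubgroupOf p P = sSup (maxEl p P) := by
  apply le_antisymm
  · refine Subgroup.map_le_iff_le_comap.2 (sSup_le fun A hA => Subgroup.map_le_iff_le_comap.1 (le_sSup ?_))
    refine ⟨Subgroup.map_subtype_le A, isEA_map _ hA.1, fun B hB hBe => ?_⟩
    have hB' : (B.subgroupOf P).map P.subtype = B := Subgroup.map_subgroupOf_eq_of_le hB
    rw [card_map_inj _ P.subtype_injective, ← hB', card_map_inj _ P.subtype_injective]
    exact hA.2 _ (isEA_of_map P.subtype P.subtype_injective (hB'.symm ▸ hBe))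
  · refine sSup_le fun A hA => ?_
    have hA' : (A.subgroupOf P).map P.subtype = A := Subgroup.map_subgroupOf_eq_of_le hA.1
    rw [← hA']
    refine Subgroup.map_mono (le_sSup ⟨isEA_of_map P.subtype P.subtype_injective (hA'.symm ▸ hA.2.1), fun B hB => ?_⟩)
    rw [← card_map_inj _ P.subtype_injective (A.subgroupOf P), hA', ← card_map_inj _ P.subtype_injective B]
    exact hA.2.2 _ (Subgroup.map_subtype_le B) (isEA_map _ hB)

theorem map_maxEl {p : ℕ} {P : Subgroup X} (e : X ≃* X) {A : Subgroup X} (hA : A ∈ maxEl p P) :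
    A.map e.toMonoidHom ∈ maxEl p (P.map e.toMonoidHom) := by
  refine ⟨Subgroup.map_mono hA.1, isEA_map _ hA.2.1, fun B hB hBe => ?_⟩
  have h1 : B.map e.symm.toMonoidHom ≤ P := by
    rintro _ ⟨b, hb, rfl⟩
    obtain ⟨a, ha, rfl⟩ := hB hb
    simpa using ha
  rw [card_map_inj _ e.injective A, ← card_map_inj e.symm.toMonoidHom e.symm.injective B]
  exact hA.2.2 _ h1 (isEA_map _ hBe)

theorem thompson_map (p : ℕ) (P : Subgroup X) (e : X ≃* X) :
    Cfsg.thompsonSubgroupOf p (P.map e.toMonoidHom) =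
      (Cfsg.thompsonSubgroupOf p P).map e.toMonoidHom := by
  simp only [thompson_eq]
  apply le_antisymm
  · refine sSup_le fun A hA => ?_
    have h := map_maxEl e.symm hA
    rw [Subgroup.map_map, show e.symm.toMonoidHom.comp e.toMonoidHom = MonoidHom.id X from by ext; simp,
      Subgroup.map_id] at h
    have := Subgroup.map_mono (f := e.toMonoidHom) (le_sSup h)
    rwa [Subgroup.map_map, show e.toMonoidHom.comp e.symm.toMonoidHom = MonoidHom.id X from by ext; simp,
      Subgroup.map_id] at this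
  · exact Subgroup.map_le_iff_le_comap.2 (sSup_le fun A hA =>
      Subgroup.map_le_iff_le_comap.1 (le_sSup (map_maxEl e hA)))

/-- If a Sylow subgroup contains `J(P)`, its Thompson subgroup is `J(P)`. -/
theorem thompson_of_le [Finite X] {p : ℕ} [Fact p.Prime] (P Q : Sylow p X)
    (h : Cfsg.thompsonSubgroupOf p (P : Subgroup X) ≤ Q) :
    Cfsg.thompsonSubgroupOf p (Q : Subgroup X) = Cfsg.thompsonSubgroupOf p (P : Subgroup X) := by
  obtain ⟨g, hg⟩ := MulAction.exists_smul_eq X P Q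
  have hQ : (Q : Subgroup X) = (P : Subgroup X).map (MulAut.conj g).toMonoidHom := by
    rw [← hg]; rfl
  refine (Subgroup.eq_of_le_of_card_ge ?_ ?_).symm
  · rw [thompson_eq, thompson_eq] at *
    refine sSup_le fun A hA => le_sSup ⟨(le_sSup hA).trans h, hA.2.1, fun B hB hBe => ?_⟩
    have h1 : B.map (MulAut.conj g).symm.toMonoidHom ≤ (P : Subgroup X) := by
      rintro _ ⟨b, hb, rfl⟩
      obtain ⟨a, ha, rfl⟩ := hQ ▸ hB hb
      simpa [mul_assoc] using SetLike.mem_coe.1 ha
    rw [← card_map_inj (MulAut.conj g).symm.toMonoidHom (MulAut.conj g).symm.injective B]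
    exact hA.2.2 _ h1 (isEA_map _ hBe)
  · rw [hQ, thompson_map, card_map_inj _ (MulAut.conj g).injective]


/-- Let P be a Sylow p-subgroup of the finite group X and J = J(P) its Thompson subgroup (generated by the elementary abelian subgroups of P of largest order). If x and y lie in the centre of J and y = g x g⁻¹ for some g in X, then y = n x n⁻¹ for some n in the normalizer N_X(J). -/
theorem result {X : Type*} [Group X] [Finite X] (p : ℕ) [Fact p.Prime] (P : Sylow p X) (J : Subgroup X) (hJ : J = Cfsg.thompsonSubgroupOf p (P : Subgroup X))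
    (x y : X) (hx : x ∈ J ∧ ∀ j ∈ J, Commute j x) (hy : y ∈ J ∧ ∀ j ∈ J, Commute j y) (g : X) (hg : g * x * g⁻¹ = y) :
    ∃ n ∈ Subgroup.normalizer (J : Set X), n * x * n⁻¹ = y := by
  subst hJ
  obtain ⟨hxJ, hxc⟩ := hx
  obtain ⟨hyJ, hyc⟩ := hy
  set J := Cfsg.thompsonSubgroupOf p (P : Subgroup X) with hJdef
  set C := Subgroup.centralizer ({y} : Set X) with hC
  have hJP : J ≤ (P : Subgroup X) := Subgroup.map_subtype_le _
  have hJC : J ≤ C := fun j hj => Subgroup.mem_centralizer_singleton_iff.2 (hyc j hj).eq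
  set J' := J.map (MulAut.conj g).toMonoidHom with hJ'
  have hJ'C : J' ≤ C := by
    rintro _ ⟨j, hj, rfl⟩
    refine Subgroup.mem_centralizer_singleton_iff.2 ?_
    rw [← hg]
    simpa [mul_assoc] using congrArg (fun t => g * t * g⁻¹) (hxc j hj).eq
  have hJp : IsPGroup p J := P.2.to_le hJP
  have h1 : IsPGroup p (J.subgroupOf C) := hJp.of_equiv (Subgroup.subgroupOfEquivOfLe hJC).symm
  have h2 : IsPGroup p (J'.subgroupOf C) :=
    (hJp.map _).of_equiv (Subgroup.subgroupOfEquivOfLe hJ'C).symm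
  obtain ⟨P1, hP1⟩ := h1.exists_le_sylow
  obtain ⟨P2, hP2⟩ := h2.exists_le_sylow
  obtain ⟨c, hc⟩ := MulAction.exists_smul_eq C P2 P1
  have h3 : IsPGroup p ((P1 : Subgroup C).map C.subtype) := P1.2.map _
  obtain ⟨R, hR⟩ := h3.exists_le_sylow
  have hJR : J ≤ R := fun j hj => hR ⟨⟨j, hJC hj⟩, hP1 hj, rfl⟩
  have hJR' : J.map (MulAut.conj ((c : X) * g)).toMonoidHom ≤ R := by
    rintro _ ⟨j, hj, rfl⟩
    have hm : g * j * g⁻¹ ∈ J' := ⟨j, hj, rfl⟩
    refine hR ⟨c * ⟨g * j * g⁻¹, hJ'C hm⟩ * c⁻¹, ?_, ?_⟩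
    · rw [← hc]
      exact Subgroup.smul_mem_pointwise_smul _ (MulAut.conj c) _ (hP2 hm)
    · simp [mul_assoc]
  have e1 : Cfsg.thompsonSubgroupOf p (R : Subgroup X) = J := thompson_of_le P R hJR
  obtain ⟨R', hR'⟩ : ∃ R' : Sylow p X, (R' : Subgroup X) = (P : Subgroup X).map (MulAut.conj ((c : X) * g)).toMonoidHom :=
    ⟨((c : X) * g) • P, rfl⟩
  have e2 : Cfsg.thompsonSubgroupOf p (R' : Subgroup X) = J.map (MulAut.conj ((c : X) * g)).toMonoidHom := by
    rw [hR', thompson_map]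
  have e3 := thompson_of_le R' R (e2 ▸ hJR')
  rw [e1, e2] at e3
  refine ⟨(c : X) * g, ?_, ?_⟩
  · rw [Subgroup.mem_set_normalizer_iff]
    intro h
    conv_rhs => rw [e3]
    refine ⟨fun hh => ⟨h, hh, rfl⟩, fun ⟨k, hk, he⟩ => ?_⟩
    have : k = h := (MulAut.conj ((c : X) * g)).injective he
    exact this ▸ hk
  · have := Subgroup.mem_centralizer_singleton_iff.1 c.2
    calc (c : X) * g * x * ((c : X) * g)⁻¹ = (c : X) * (g * x * g⁻¹) * (c : X)⁻¹ := by group
      _ = y := by rw [hg, this, mul_inv_cancel_right]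

end Cfsg.Agent.S5306
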