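import Cfsg.Statements.S5311
import Cfsg.Agent.H59.ComponentImage

set_option autoImplicit false
open Cfsg

namespace Cfsg.Agent.S5311

open Subgroup

/-- The layer of a saturated fusion system F over a finite p-group S is characteristic in F: for every automorphism α of S that is an automorphism of F (α and its inverse are morphisms from F to F) and every layer E of F over T, α carries T onto T and, for every map φ of E with source P, the map induced by α on α(P) (that is, α ∘ φ ∘ α⁻¹) is a map of E. -/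
theorem result {Ω : Type*} [Group Ω] {S : Subgroup Ω} [Finite S] (p : ℕ) [Fact p.Prime] (hS : IsPGroup p S) (F : Cfsg.FusionSystem S) (hF : F.IsSaturated p)
    (α : ↥S ≃* ↥S) (hα : F.IsMorphism F (S.subtype.comp α.toMonoidHom))
    (hα' : F.IsMorphism F (S.subtype.comp α.symm.toMonoidHom))
    {T : Subgroup Ω} (E : Cfsg.FusionSystem T) (hE : E.IsLayerOf F p) :
    Cfsg.FusionSystem.imageAlong (S.subtype.comp α.toMonoidHom) T = T ∧
      ∀ (P : Subgroup Ω) (φ : ↥P →* Ω), φ ∈ E.Hom P →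
        ∀ φ' : ↥(Cfsg.FusionSystem.imageAlong (S.subtype.comp α.toMonoidHom) P) →* Ω,
          Cfsg.FusionSystem.InducedAlong (S.subtype.comp α.toMonoidHom) φ φ' →
            φ' ∈ E.Hom (Cfsg.FusionSystem.imageAlong (S.subtype.comp α.toMonoidHom) P) := by
  have key : ∀ j : Cfsg.Agent.FusionSys.SysEquiv F F,
      E.IsSubsystemOf (Cfsg.Agent.H59.Transp.imgSys j hE.1.1.2.2.1) := by
    intro j
    refine hE.2.2 _ _ (Cfsg.Agent.H59.Transp.isNormalIn_img j hS hE.1) fun V C hC => ?_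
    obtain ⟨V', C', hC', k, hk⟩ := Cfsg.Agent.H59.Transp.exists_component_img j.symm hS hC
    refine Cfsg.Agent.FusionSys.isSubsystemOf_iff_isMap.2 fun P f hf => ?_
    have hCF := Cfsg.Agent.H59.Transp.subnormal_sub hC.1
    have hVS := Cfsg.Agent.H59.Transp.subnormal_le hC.1
    have h1 := k.hom P f hf
    have h2 := Cfsg.Agent.FusionSys.isSubsystemOf_iff_isMap.1 (hE.2.1 V' C' hC') _ _ h1
    have h3 := Cfsg.Agent.H59.Transp.isMap_imgSys j hE.1.1.2.2.1 h2
    have hPS : P ≤ S := hf.le.trans hVS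
    rw [hk, show j.img (Cfsg.Agent.FusionSys.imgTo j.symm.fwd P) = P from
      Cfsg.Agent.H59.Transp.img_symm_img j hPS] at h3
    refine h3.congr fun x hx => ?_
    show f x = j.fwd (j.bwd (f (k.bwd (j.bwd x))))
    have e : k.bwd (j.bwd x) = x := by
      have := k.bwd_fwd x (hf.le hx)
      rwa [hk] at this
    rw [e, j.fwd_bwd _ (hVS (hf.mem_S hx))]
  let j := Cfsg.Agent.H59.Transp.equivOfAut α hα hα'
  have hsub := Cfsg.Agent.FusionSys.isSubsystemOf_iff_isMap.1 (key j.symm)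
  have hTS : T ≤ S := hE.1.1.2.2.2.1.1
  have hsub' : T ≤ j.img T := Cfsg.Agent.FusionSys.le_of_isSubsystemOf (key j)
  have hsub'' : j.img T ≤ T :=
    (Cfsg.Agent.H59.Transp.img_mono j (Cfsg.Agent.FusionSys.le_of_isSubsystemOf (key j.symm))).trans_eq
      (Cfsg.Agent.H59.Transp.img_symm_img j hTS)
  have himg : ∀ Q : Subgroup Ω, Q ≤ S →
      Cfsg.FusionSystem.imageAlong (S.subtype.comp α.toMonoidHom) Q = j.img Q := by
    intro Q hQ
    refine le_antisymm ?_ ((Subgroup.closure_le _).2 ?_)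
    · rintro _ ⟨x, hx, rfl⟩
      exact Subgroup.subset_closure ⟨x, hx, Cfsg.Agent.FusionSys.homFun_coe _ x⟩
    · rintro _ ⟨x, hx, rfl⟩
      exact ⟨⟨x, hQ hx⟩, hx, (Cfsg.Agent.FusionSys.homFun_mem _ (hQ hx)).symm⟩
  refine ⟨(himg T hTS).trans (le_antisymm hsub'' hsub'), fun P φ hφ φ' hind => ?_⟩
  have h1 := hsub P _ (Cfsg.Agent.FusionSys.isMap_of_mem hφ)
  have h2 := Cfsg.Agent.H59.Transp.isMap_of_imgSys j.symm _ h1
  have hPT : P ≤ T := (E.le_of_mem hφ).1
  have hPS : P ≤ S := hPT.trans hTS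
  refine Cfsg.Agent.FusionSys.mem_hom_of_isMap (by rw [himg P hPS]; exact h2) fun y => ?_
  obtain ⟨hP, hφS, hP', he⟩ := hind
  obtain ⟨s, hs, hy⟩ := y.2
  have hs' : (s : Ω) ∈ P := hs
  rw [show y = ⟨_, hP' ⟨(s : Ω), hs'⟩⟩ from Subtype.ext hy.symm, he ⟨(s : Ω), hs'⟩]
  show _ = j.fwd (Cfsg.Agent.FusionSys.homFun φ (j.bwd ((S.subtype.comp α.toMonoidHom) s)))
  have e : (S.subtype.comp α.toMonoidHom) s = j.fwd s := (Cfsg.Agent.FusionSys.homFun_coe _ s).symm
  rw [e, j.bwd_fwd _ s.2, Cfsg.Agent.FusionSys.homFun_mem φ hs']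
  exact (Cfsg.Agent.FusionSys.homFun_mem (S.subtype.comp α.toMonoidHom) _).symm

end Cfsg.Agent.S5311
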