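import Cfsg.Statements.S5315
import Cfsg.Agent.H91.Fix
import Cfsg.Agent.H89.Factor

set_option autoImplicit false
open Cfsg

namespace Cfsg.Agent.S5315


/-- An analogue of Grün's lemma for fusion systems. Let F be a saturated fusion system over a finite p-group S that is perfect in the sense that its hyperfocal subgroup is all of S (F coincides with its p-residual subsystem). Then the second centre of F equals its centre: every fusion system over S/(Z(F) ∩ S) that is the factor system of F modulo its centre Z(F), read through the quotient map, has trivial centre. -/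
theorem result {Ω : Type*} [Group Ω] {S : Subgroup Ω} [Finite S] (p : ℕ) [Fact p.Prime] (hS : IsPGroup p S) (F : Cfsg.FusionSystem S) (hF : F.IsSaturated p)
    (hperf : F.hyperfocalSubgroup p = S)
    (E : Cfsg.FusionSystem (⊤ : Subgroup (↥S ⧸ (F.center).subgroupOf S)))
    (hE : F.IsFactorSystem F.center (QuotientGroup.mk' ((F.center).subgroupOf S)) E) : E.center = ⊥ := by
  open Cfsg.Agent.FusionSys Cfsg.Agent.H91 Cfsg.Agent.H89 Cfsg.FusionSystem in
  classical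
  set θ := QuotientGroup.mk' ((F.center).subgroupOf S) with hθdef
  have hker : KerEq θ F.center := hE.2.1
  have hZS : F.center ≤ S := hE.1
  have hZc : ∀ z ∈ F.center, ∀ s ∈ S, s * z = z * s := fun z hz s hs =>
    Subgroup.mem_centralizer_iff.1 (center_le_inter F hz).2 s hs
  have hsc : F.StronglyClosed F.center := stronglyClosed_iff.2 ⟨hZS, fun R f hR hf x hx =>
    (fixes_center F hf (hR hx) hx).symm ▸ hR hx⟩
  have hrange : θ.range = ⊤ := hE.2.2.1
  -- maps on sources containing the centre, seen in the factor system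
  have hkey : ∀ (P : Subgroup Ω) (f : Ω → Ω), IsMap F P f → F.center ≤ P →
      ∀ y : S, θ y ∈ E.center → ∃ (R : Subgroup Ω) (g : Ω → Ω), IsMap F R g ∧ (y : Ω) ∈ R ∧ P ≤ R ∧
        (y : Ω)⁻¹ * g y ∈ F.center ∧ ∀ x ∈ P, (f x)⁻¹ * g x ∈ F.center := by
    intro P f hf hZP y hy
    have hPS := hf.le
    set P' := imageAlong θ P with hP'
    have hpre : preimageAlong θ P' = P := by
      rw [preimageAlong_imageAlong hker hZS hPS, sup_eq_left.2 hZP]
    obtain ⟨φ, hφ, hφf⟩ := (hpre.symm ▸ hf : IsMap F (preimageAlong θ P') f)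
    obtain ⟨φ', hind⟩ := exists_induced hker hsc (imageAlong_le.trans le_rfl) hφ
    have hφ' : φ' ∈ E.Hom P' := (hE.2.2.2 P' φ').2 ⟨le_top, φ, hφ, hind⟩
    obtain ⟨χ, hχ, hχe, hχfix⟩ := (isCentral_center E).2 P' φ' hφ'
    obtain ⟨-, ψ, hψ, hψS0, hψS, hψP, hψe⟩ := (hE.2.2.2 _ χ).1 hχ
    obtain ⟨hφS0, hφS, hφP, hφe⟩ := hind
    have hyR : (y : Ω) ∈ preimageAlong θ (P' ⊔ E.center) :=
      mem_preimageAlong.2 ⟨y.2, Subgroup.mem_sup_right hy⟩
    have hPR : P ≤ preimageAlong θ (P' ⊔ E.center) := fun x hx =>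
      mem_preimageAlong.2 ⟨hPS hx, Subgroup.mem_sup_left ⟨⟨x, hPS hx⟩, hx, rfl⟩⟩
    refine ⟨_, homFun ψ, isMap_of_mem hψ, hyR, hPR, ?_, fun x hx => ?_⟩
    · rw [homFun_mem ψ hyR]
      have h1 := (hχfix ⟨θ y, hy⟩).symm.trans (hψe ⟨(y : Ω), hyR⟩)
      exact (hker (y⁻¹ * ⟨ψ ⟨(y : Ω), hyR⟩, hψS _⟩)).1 (by rw [map_mul, map_inv, ← h1, inv_mul_cancel])
    · rw [homFun_mem ψ (hPR hx)]
      have hxp : x ∈ preimageAlong θ P' := hpre.symm ▸ hx
      have h1 := (hψe ⟨x, hPR hx⟩).symm.trans ((hχe ⟨_, hφP ⟨x, hxp⟩⟩).trans (hφe ⟨x, hxp⟩))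
      have h2 := (hker (⟨φ ⟨x, hxp⟩, hφS _⟩⁻¹ * ⟨ψ ⟨x, hPR hx⟩, hψS _⟩)).1
        (by rw [map_mul, map_inv, h1, inv_mul_cancel])
      simpa [hφf ⟨x, hxp⟩] using h2
  -- the preimage of the centre is central in `S`
  rw [eq_bot_iff]
  intro e he
  obtain ⟨y, rfl⟩ := QuotientGroup.mk'_surjective _ e
  rw [Subgroup.mem_bot]
  refine (hker y).2 ?_
  have hcomm : ∀ x : S, (x : Ω) * y * (x : Ω)⁻¹ * (y : Ω)⁻¹ ∈ F.center := fun x => by
    refine (hker (x * y * x⁻¹ * y⁻¹)).1 ?_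
    have h := Subgroup.mem_centralizer_iff.1 (center_le_inter E he).2 (θ x) (Subgroup.mem_top _)
    rw [map_mul, map_mul, map_mul, map_inv, map_inv, h, mul_inv_cancel_right, mul_inv_cancel]
  have hycent : ∀ s ∈ S, Commute s (y : Ω) := by
    intro s hs
    rw [← hperf] at hs
    induction hs using Subgroup.closure_induction with
    | one => exact Commute.one_left _
    | mul a b _ _ ha hb => exact ha.mul_left hb
    | inv a _ ha => exact ha.inv_left
    | mem w hw =>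
      obtain ⟨P, α, x, hPS, -, rfl⟩ := hw
      obtain ⟨g₀, hg₀, hg₀e, hg₀Z⟩ := (isCentral_iff.1 (isCentral_center F)).2 P _
        ((mem_autGroup_iff hPS).1 α.2)
      obtain ⟨R, g, hg, hyR, hPR, hgy, hgx⟩ := hkey (P ⊔ F.center) g₀ hg₀ le_sup_right y he
      have hxS : (x : Ω) ∈ S := hPS x.2
      have hxR : (x : Ω) ∈ R := hPR (Subgroup.mem_sup_left x.2)
      have ha' := hgx x (Subgroup.mem_sup_left x.2)
      rw [hg₀e x x.2, autMap_coe] at ha'
      set a := (((α : MulAut P) x : P) : Ω) with ha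
      have haS : a ∈ S := hPS ((α : MulAut P) x).2
      have hc := hcomm ⟨x, hxS⟩
      have h1 := fixes_center F hg hc (R.mul_mem (R.mul_mem (R.mul_mem hxR hyR) (R.inv_mem hxR)) (R.inv_mem hyR))
      rw [hg.map_mul (R.mul_mem (R.mul_mem hxR hyR) (R.inv_mem hxR)) (R.inv_mem hyR), hg.map_conj hxR hyR,
        hg.map_inv hyR] at h1
      obtain ⟨z₁, hz₁, e1⟩ : ∃ z ∈ F.center, g y = y * z := ⟨_, hgy, by group⟩
      obtain ⟨z₂, hz₂, e2⟩ : ∃ z ∈ F.center, g x = a * z := ⟨_, ha', by group⟩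
      rw [e1, e2] at h1
      have h2 : a * (y : Ω) * a⁻¹ = x * y * (x : Ω)⁻¹ := by
        have hz₂y : z₂ * ((y : Ω) * z₁) * z₂⁻¹ = y * z₁ := by
          rw [← hZc z₂ hz₂ _ (S.mul_mem y.2 (hZS hz₁)), mul_inv_cancel_right]
        have hz₁a : a * z₁ * a⁻¹ = z₁ := by rw [hZc z₁ hz₁ a haS, mul_inv_cancel_right]
        refine mul_right_cancel (b := (y : Ω)⁻¹) ?_
        calc a * (y : Ω) * a⁻¹ * (y : Ω)⁻¹ = a * y * a⁻¹ * (a * z₁ * a⁻¹) * (y * z₁)⁻¹ := by rw [hz₁a]; group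
          _ = a * (y * z₁) * a⁻¹ * (y * z₁)⁻¹ := by group
          _ = a * (z₂ * (y * z₁) * z₂⁻¹) * a⁻¹ * (y * z₁)⁻¹ := by rw [hz₂y]
          _ = a * z₂ * (y * z₁) * (a * z₂)⁻¹ * (y * z₁)⁻¹ := by group
          _ = _ := h1
      show ((x : Ω)⁻¹ * a) * y = y * ((x : Ω)⁻¹ * a)
      calc (x : Ω)⁻¹ * a * y = (x : Ω)⁻¹ * (a * y * a⁻¹) * a := by group
        _ = (x : Ω)⁻¹ * (x * y * (x : Ω)⁻¹) * a := by rw [h2]
        _ = _ := by group
  refine mem_center_of_fixes hS hF y.2 hycent fun Q hQn hQc α hα => ?_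
  have hyQ : (y : Ω) ∈ Q := mem_centric y.2 hycent hQc
  have hZQ : F.center ≤ Q := fun z hz => mem_centric (hZS hz) (fun s hs => hZc z hz s hs) hQc
  have hdiff : ∀ β : F.autGroup Q, (y : Ω)⁻¹ * autMap (β : MulAut Q) y ∈ F.center := by
    intro β
    obtain ⟨R, g, -, -, -, hgy, hgx⟩ := hkey Q _ ((mem_autGroup_iff hQn.1).1 β.2) hZQ y he
    have := F.center.mul_mem hgy (F.center.inv_mem (hgx y hyQ))
    rwa [mul_inv_rev, inv_inv, mul_assoc, mul_inv_cancel_left] at this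
  let lam : F.autGroup Q →* F.center := MonoidHom.mk' (fun β => ⟨_, hdiff β⟩) fun β γ => Subtype.ext (by
    show (y : Ω)⁻¹ * autMap ((β * γ : F.autGroup Q) : MulAut Q) y =
      (y : Ω)⁻¹ * autMap (β : MulAut Q) y * ((y : Ω)⁻¹ * autMap (γ : MulAut Q) y)
    obtain ⟨z, hz, ez⟩ : ∃ z ∈ F.center, autMap (γ : MulAut Q) y = y * z := ⟨_, hdiff γ, by group⟩
    have hm := (mem_autGroup_iff hQn.1).1 β.2
    rw [Subgroup.coe_mul, autMap_mul _ _ hyQ, ez, hm.map_mul hyQ (hZQ hz),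
      fixes_center F hm hz (hZQ hz)]
    group)
  haveI := finite_autGroup F hQn.1
  haveI := finite_of_le hZS
  obtain ⟨-, T, hT⟩ := isFullyAutomized_of_isFullyNormalized hS hF hQn
  have hTker : (T : Subgroup (F.autGroup Q)) ≤ lam.ker := by
    intro β hβ
    rw [hT] at hβ
    obtain ⟨s, hs, hsn, hse⟩ := mem_autInducedBy.1 (Subgroup.mem_subgroupOf.1 hβ)
    refine Subtype.ext ?_
    show (y : Ω)⁻¹ * autMap (β : MulAut Q) y = 1
    rw [hse, autMap_conjAut hsn hyQ, conjMap_apply, (hycent s hs).eq, mul_inv_cancel_right, inv_mul_cancel]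
  obtain ⟨k, hk⟩ := IsPGroup.iff_card.1 ((hS.to_le hZS).to_subgroup lam.range)
  have h1 : lam.ker.index ∣ (T : Subgroup (F.autGroup Q)).index := Subgroup.index_dvd_of_le hTker
  rw [Subgroup.index_ker, hk] at h1
  have hk0 : k = 0 := by
    by_contra hk0
    exact T.not_dvd_index ((dvd_pow_self p hk0).trans h1)
  rw [hk0, pow_zero] at hk
  have h2 : lam ⟨α, hα⟩ ∈ (⊥ : Subgroup F.center) :=
    (Subgroup.eq_bot_of_card_eq lam.range hk) ▸ ⟨⟨α, hα⟩, rfl⟩
  exact (inv_mul_eq_one.1 (congrArg Subtype.val (Subgroup.mem_bot.1 h2))).symm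

end Cfsg.Agent.S5315
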