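import Cfsg.Statements.S5317
import Cfsg.Agent.S5340
import Cfsg.Agent.FusionSys.Group
import Cfsg.Agent.FusionSys.Alperin
import Cfsg.Agent.H90.Normal
import Cfsg.Agent.H27.QuaternionSylow
import Cfsg.Agent.H55.SLTwoClasses

set_option autoImplicit false
open Cfsg

namespace Cfsg.Agent.S5317

open Matrix in
theorem trace_eq_zero_of_sq_eq_neg_one {F : Type*} [Field F] (X : Matrix.SpecialLinearGroup (Fin 2) F)
    (h : X * X = -1) : (X : Matrix (Fin 2) (Fin 2) F).trace = 0 := by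
  have hi : X⁻¹ = -X := inv_eq_of_mul_eq_one_right (by rw [mul_neg, h, neg_neg])
  have e : ((-X : Matrix.SpecialLinearGroup (Fin 2) F) : Matrix (Fin 2) (Fin 2) F) =
      (X : Matrix (Fin 2) (Fin 2) F).trace • (1 : Matrix (Fin 2) (Fin 2) F) +
        (-1 : F) • (X : Matrix (Fin 2) (Fin 2) F) := hi ▸ Cfsg.Agent.Linear.SL_inv_eq X
  have e' := congrFun (congrFun e 0) 0
  simp at e'
  exact e'

theorem coprime_dihedral_aut {D : Type*} [Group D] [Finite D] {k : ℕ} (hk : 2 ≤ k) {c y : D}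
    (hc : orderOf c = 2 ^ k) (hy : y ∉ Subgroup.zpowers c)
    (hcov : ∀ g : D, ∃ j : ℕ, g = c ^ j ∨ g = y * c ^ j)
    (hinv : ∀ j : ℕ, (y * c ^ j) * (y * c ^ j) = 1)
    (α : MulAut D) (hα : (orderOf α).Coprime 2) : α = 1 := by
  set m := orderOf α with hm
  have hαc : orderOf (α c) = 2 ^ k := by rw [← hc]; exact orderOf_injective α.toMonoidHom α.injective c
  obtain ⟨u, hu⟩ : ∃ u : ℕ, α c = c ^ u := by
    obtain ⟨j, hj | hj⟩ := hcov (α c)
    · exact ⟨j, hj⟩
    · exfalso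
      have hd : orderOf (α c) ∣ 2 := orderOf_dvd_of_pow_eq_one (by rw [pow_two, hj, hinv])
      rw [hαc] at hd
      have := Nat.le_of_dvd two_pos hd
      have : 2 ^ 2 ≤ 2 ^ k := Nat.pow_le_pow_right two_pos hk
      omega
  have hpow : ∀ t : ℕ, (α ^ t) c = c ^ u ^ t := by
    intro t
    induction t with
    | zero => simp
    | succ t ih =>
      rw [pow_succ, MulAut.mul_apply, hu, map_pow, ih, ← pow_mul, ← pow_succ]
  have hu1 : α c = c := by
    have h1 := hpow m
    rw [hm, pow_orderOf_eq_one, MulAut.one_apply] at h1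
    have h2 : (u : ZMod (2 ^ k)) ^ m = 1 := by
      rw [← hm] at h1
      have h3 := pow_eq_pow_iff_modEq.1 (show c ^ 1 = c ^ u ^ m by rw [pow_one]; exact h1)
      rw [hc, ← ZMod.natCast_eq_natCast_iff, Nat.cast_one, Nat.cast_pow] at h3
      exact h3.symm
    have hm0 : m ≠ 0 := fun h => by rw [h] at hα; simp at hα
    obtain ⟨w, hw⟩ := IsUnit.of_pow_eq_one h2 hm0
    have hw1 : w = 1 := by
      refine orderOf_eq_one_iff.1 (Nat.eq_one_of_dvd_coprimes (hα.pow_right k)
        (orderOf_dvd_of_pow_eq_one (Units.ext (by rw [Units.val_pow_eq_pow_val, hw, h2, Units.val_one]))) ?_)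
      refine (orderOf_dvd_natCard w).trans ?_
      rw [Nat.card_eq_fintype_card, ZMod.card_units_eq_totient, Nat.totient_prime_pow Nat.prime_two (by omega)]
      rw [show (2 : ℕ) - 1 = 1 from rfl, mul_one]
      exact pow_dvd_pow 2 (Nat.sub_le k 1)
    have hu' : ((u : ℕ) : ZMod (2 ^ k)) = ((1 : ℕ) : ZMod (2 ^ k)) := by
      rw [← hw, hw1, Units.val_one, Nat.cast_one]
    rw [hu]
    conv_rhs => rw [← pow_one c]
    rw [pow_eq_pow_iff_modEq, hc]
    exact (ZMod.natCast_eq_natCast_iff _ _ _).1 hu'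
  have hfix : ∀ j : ℕ, α (c ^ j) = c ^ j := fun j => by rw [map_pow, hu1]
  obtain ⟨v, hv⟩ : ∃ v : ℕ, α y = y * c ^ v := by
    obtain ⟨j, hj | hj⟩ := hcov (α y)
    · exact absurd (α.injective (hj.trans (hfix j).symm) ▸ pow_mem (Subgroup.mem_zpowers c) j) hy
    · exact ⟨j, hj⟩
  have hy' : ∀ t : ℕ, (α ^ t) y = y * c ^ (v * t) := by
    intro t
    induction t with
    | zero => simp
    | succ t ih =>
      rw [pow_succ', MulAut.mul_apply, ih, map_mul, hfix, hv, mul_assoc, ← pow_add]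
      congr 2
      ring
  have hv1 : c ^ v = 1 := by
    have h1 := hy' m
    rw [hm, pow_orderOf_eq_one, MulAut.one_apply, left_eq_mul] at h1
    refine orderOf_eq_one_iff.1 (Nat.eq_one_of_dvd_coprimes (hα.pow_right k)
      (orderOf_dvd_of_pow_eq_one (by rw [← pow_mul]; exact h1)) ?_)
    rw [← hc]
    exact orderOf_pow_dvd v
  ext g
  obtain ⟨j, rfl | rfl⟩ := hcov g
  · exact hfix j
  · rw [map_mul, hfix, hv, hv1, mul_one]; rfl

theorem psl_fusion_simple {F : Type*} [Field F] [Fintype F] (hodd : Odd (Fintype.card F))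
    (h16 : 16 ∣ Fintype.card F ^ 2 - 1)
    (S : Sylow 2 (Matrix.ProjectiveSpecialLinearGroup (Fin 2) F)) :
    (Cfsg.groupFusionSystem (S : Subgroup (Matrix.ProjectiveSpecialLinearGroup (Fin 2) F))).IsSimple 2 := by
  open Cfsg.Agent.FusionSys Cfsg.FusionSystem Cfsg.Agent.H55 Cfsg.Agent.Linear in
  classical
  haveI : Fact (Nat.Prime 2) := ⟨Nat.prime_two⟩
  have h2 : (2 : F) ≠ 0 := two_ne_zero_of_odd_card hodd
  -- a Sylow subgroup of `SL₂` above `S`
  let π : Matrix.SpecialLinearGroup (Fin 2) F →* Matrix.ProjectiveSpecialLinearGroup (Fin 2) F :=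
    QuotientGroup.mk' _
  have hπ : Function.Surjective π := QuotientGroup.mk'_surjective _
  obtain ⟨P₀⟩ : Nonempty (Sylow 2 (Matrix.SpecialLinearGroup (Fin 2) F)) := inferInstance
  obtain ⟨g, hg⟩ := MulAction.exists_smul_eq (Matrix.ProjectiveSpecialLinearGroup (Fin 2) F) (P₀.mapSurjective hπ) S
  obtain ⟨g', rfl⟩ := hπ g
  set P := g' • P₀ with hP
  have hPS : (P : Subgroup _).map π = (S : Subgroup _) := by
    rw [← hg, hP, Sylow.coe_subgroup_smul, Sylow.coe_subgroup_smul]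
    ext z
    constructor
    · rintro ⟨_, ⟨a, ha, rfl⟩, rfl⟩
      exact ⟨π a, ⟨a, ha, rfl⟩, by simp⟩
    · rintro ⟨_, ⟨a, ha, rfl⟩, rfl⟩
      exact ⟨_, ⟨a, ha, rfl⟩, by simp⟩
  obtain ⟨k, -, ⟨e⟩⟩ := Cfsg.Agent.H27.QuaternionSylow.sylow_equiv_quaternion hodd P
  have hk : 2 ≤ k := by
    have h : 2 ^ 4 ∣ Nat.card (P : Subgroup (Matrix.SpecialLinearGroup (Fin 2) F)) :=
      P.pow_dvd_card_of_pow_dvd_card (by rw [card_SL_two]; exact Dvd.dvd.mul_left h16 _)
    rw [Nat.card_congr e.toEquiv, Nat.card_eq_fintype_card, QuaternionGroup.card] at h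
    have h1 := Nat.le_of_dvd (by positivity) h
    by_contra hk
    have : 2 ^ k ≤ 2 ^ 1 := Nat.pow_le_pow_right two_pos (by omega)
    omega
  let ψ : QuaternionGroup (2 ^ k) →* Matrix.SpecialLinearGroup (Fin 2) F :=
    (Subgroup.subtype _).comp e.symm.toMonoidHom
  have hψ : Function.Injective ψ := Subtype.val_injective.comp e.symm.injective
  let f := π.comp ψ
  have hfS : ∀ z, f z ∈ (S : Subgroup _) := fun z => hPS ▸ ⟨ψ z, (e.symm z).2, rfl⟩
  have hfsurj : ∀ s ∈ (S : Subgroup _), ∃ z, f z = s := by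
    intro s hs
    rw [← hPS] at hs
    obtain ⟨a, ha, rfl⟩ := hs
    exact ⟨e ⟨a, ha⟩, congrArg π (congrArg Subtype.val (e.symm_apply_apply ⟨a, ha⟩))⟩
  haveI : NeZero (2 ^ k) := ⟨(pow_pos two_pos k).ne'⟩
  have hneg : ψ (QuaternionGroup.a ((2 ^ k : ℕ) : ZMod (2 * 2 ^ k))) = -1 := by
    refine (eq_one_or_neg_one_of_sq h2 ?_).resolve_left fun h => ?_
    · rw [← map_mul, QuaternionGroup.a_mul_a, ← Nat.cast_add, ← two_mul, ZMod.natCast_self,
        ← QuaternionGroup.one_def, map_one]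
    · rw [← map_one ψ] at h
      have h' := hψ h
      rw [QuaternionGroup.one_def, QuaternionGroup.a.injEq, ZMod.natCast_eq_zero_iff] at h'
      have := Nat.le_of_dvd (pow_pos two_pos k) h'
      have hp : 0 < 2 ^ k := pow_pos two_pos k
      omega
  have hker : ∀ z, f z = 1 ↔ z = 1 ∨ z = QuaternionGroup.a ((2 ^ k : ℕ) : ZMod (2 * 2 ^ k)) := by
    intro z
    show π (ψ z) = 1 ↔ _
    rw [show π (ψ z) = toPSL (ψ z) from rfl, toPSL_two_eq_one_iff, ← hψ.eq_iff, ← map_one ψ,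
      ← hψ.eq_iff (a := z) (b := QuaternionGroup.a _), hneg, map_one]
  let Sg : Subgroup (Matrix.ProjectiveSpecialLinearGroup (Fin 2) F) := (S : Subgroup _)
  let c : Sg := ⟨f (QuaternionGroup.a 1), hfS _⟩
  let y : Sg := ⟨f (QuaternionGroup.xa 0), hfS _⟩
  have hfa : ∀ j : ℕ, f (QuaternionGroup.a ((j : ℕ) : ZMod (2 * 2 ^ k))) = (c : Matrix.ProjectiveSpecialLinearGroup (Fin 2) F) ^ j := by
    intro j
    rw [← QuaternionGroup.a_one_pow, map_pow]
  have hyj : ∀ j : ℕ, f (QuaternionGroup.xa ((j : ℕ) : ZMod (2 * 2 ^ k))) = (y * c ^ j : Sg) := by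
    intro j
    rw [Subgroup.coe_mul, SubmonoidClass.coe_pow, ← hfa, ← map_mul, QuaternionGroup.xa_mul_a, zero_add]
  have hc : orderOf c = 2 ^ k := by
    obtain ⟨i, rfl⟩ : ∃ i, k = i + 1 := ⟨k - 1, by omega⟩
    refine orderOf_eq_prime_pow (fun h => ?_) ?_
    · have h' : (c : Matrix.ProjectiveSpecialLinearGroup (Fin 2) F) ^ 2 ^ i = 1 := by
        rw [← SubmonoidClass.coe_pow, h]; rfl
      rw [← hfa, hker] at h'
      have hp2 := pow_pos (two_pos : 0 < 2) i
      have he : 2 ^ (i + 1) = 2 * 2 ^ i := pow_succ' 2 i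
      rcases h' with h' | h'
      · rw [QuaternionGroup.one_def, QuaternionGroup.a.injEq, ZMod.natCast_eq_zero_iff] at h'
        have := Nat.le_of_dvd hp2 h'
        omega
      · rw [QuaternionGroup.a.injEq, ZMod.natCast_eq_natCast_iff', Nat.mod_eq_of_lt (by omega),
          Nat.mod_eq_of_lt (by omega)] at h'
        omega
    · refine Subtype.ext ?_
      rw [SubmonoidClass.coe_pow, ← hfa]
      exact (hker _).2 (Or.inr rfl)
  have hy : y ∉ Subgroup.zpowers c := by
    intro h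
    obtain ⟨j, hj⟩ : ∃ j : ℕ, c ^ j = y :=
      Submonoid.mem_powers_iff _ _ |>.1 (mem_powers_iff_mem_zpowers.2 h)
    have h' : f (QuaternionGroup.a ((j : ℕ) : ZMod (2 * 2 ^ k))) = f (QuaternionGroup.xa 0) := by
      rw [hfa, ← SubmonoidClass.coe_pow, hj]
    have h'' : f ((QuaternionGroup.a ((j : ℕ) : ZMod (2 * 2 ^ k)))⁻¹ * QuaternionGroup.xa 0) = 1 := by
      rw [map_mul, map_inv, h', inv_mul_cancel]
    rcases (hker _).1 h'' with e1 | e1
    · rw [inv_mul_eq_one] at e1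
      simp at e1
    · rw [inv_mul_eq_iff_eq_mul, QuaternionGroup.a_mul_a] at e1
      simp at e1
  have hcov : ∀ s : Sg, ∃ j : ℕ, s = c ^ j ∨ s = y * c ^ j := by
    intro s
    obtain ⟨z, hz⟩ := hfsurj s s.2
    cases z with
    | a i =>
      refine ⟨i.val, Or.inl (Subtype.ext ?_)⟩
      rw [SubmonoidClass.coe_pow, ← hfa, ZMod.natCast_val, ZMod.cast_id, hz]
    | xa i =>
      refine ⟨i.val, Or.inr (Subtype.ext ?_)⟩
      rw [← hyj, ZMod.natCast_val, ZMod.cast_id, hz]
  have hinv : ∀ j : ℕ, (y * c ^ j) * (y * c ^ j) = 1 := by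
    intro j
    refine Subtype.ext ?_
    rw [Subgroup.coe_mul, ← hyj, ← map_mul, QuaternionGroup.xa_mul_xa, add_sub_cancel_right]
    exact (hker _).2 (Or.inr rfl)
  have hyne : ∀ j : ℕ, y * c ^ j ≠ 1 := fun j h => hy (by
    rw [eq_inv_of_mul_eq_one_left h]; exact inv_mem (pow_mem (Subgroup.mem_zpowers c) j))
  have hord : ∀ j : ℕ, orderOf ((y * c ^ j : Sg) : Matrix.ProjectiveSpecialLinearGroup (Fin 2) F) = 2 := by
    intro j
    rw [Subgroup.orderOf_coe]
    exact orderOf_eq_prime (by rw [pow_two, hinv]) (hyne j)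
  -- one class of involutions
  have hclass : ∀ a b : Matrix.ProjectiveSpecialLinearGroup (Fin 2) F, orderOf a = 2 → orderOf b = 2 →
      ∃ t, t * a * t⁻¹ = b := by
    have hlift : ∀ a : Matrix.ProjectiveSpecialLinearGroup (Fin 2) F, orderOf a = 2 →
        ∃ X : Matrix.SpecialLinearGroup (Fin 2) F, π X = a ∧ ¬ IsScalarTwo (X : Matrix (Fin 2) (Fin 2) F) ∧
          (X : Matrix (Fin 2) (Fin 2) F).trace = 0 := by
      intro a ha
      obtain ⟨X, rfl⟩ := hπ a
      have hne : toPSL X ≠ 1 := fun h => by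
        rw [show π X = 1 from h, orderOf_one] at ha; exact absurd ha (by norm_num)
      have hsq : toPSL (X * X) = 1 := by
        show π (X * X) = 1
        have h := pow_orderOf_eq_one (π X)
        rw [ha, pow_two] at h
        rw [map_mul, h]
      refine ⟨X, rfl, not_scalar_of_ne_one hne, trace_eq_zero_of_sq_eq_neg_one X ?_⟩
      refine ((toPSL_two_eq_one_iff _).1 hsq).resolve_left fun h => hne ((toPSL_two_eq_one_iff X).2 ?_)
      exact eq_one_or_neg_one_of_sq h2 h
    intro a b ha hb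
    obtain ⟨X, rfl, hX, hXt⟩ := hlift a ha
    obtain ⟨Y, rfl, hY, hYt⟩ := hlift b hb
    obtain ⟨t, ht⟩ := isConj_iff.1 (isConj_of_trace_eq hX hY (hXt.trans hYt.symm) (Or.inr (by
      rw [hXt, zero_pow two_ne_zero]
      intro h
      exact mul_ne_zero h2 h2 (by rw [h]; norm_num))))
    exact ⟨π t, by rw [← map_inv, ← map_mul, ← map_mul, ht]⟩
  have hFsat := isSaturated_group S
  refine Cfsg.Agent.S5340.result 2 S.isPGroup' _ hFsat ?_ ?_ ?_ ?_
  · intro hbot
    have h := hord 0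
    rw [show ((y * c ^ 0 : Sg) : Matrix.ProjectiveSpecialLinearGroup (Fin 2) F) = 1 from
      Subgroup.mem_bot.1 (hbot ▸ (y * c ^ 0 : Sg).2), orderOf_one] at h
    exact absurd h (by norm_num)
  · refine le_antisymm ((Subgroup.closure_le _).2 fun x hx => hx.1) fun s hs => ?_
    have hgen : ∀ j : ℕ, ((y * c ^ j : Sg) : Matrix.ProjectiveSpecialLinearGroup (Fin 2) F) ∈
        Subgroup.closure {x | x ∈ (S : Subgroup _) ∧ orderOf x = 2} := fun j =>
      Subgroup.subset_closure ⟨(y * c ^ j : Sg).2, hord j⟩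
    have hcg : ∀ j : ℕ, ((c ^ j : Sg) : Matrix.ProjectiveSpecialLinearGroup (Fin 2) F) ∈
        Subgroup.closure {x | x ∈ (S : Subgroup _) ∧ orderOf x = 2} := fun j => by
      have h := mul_mem (inv_mem (hgen 0)) (hgen j)
      rwa [pow_zero, mul_one, ← Subgroup.coe_inv, ← Subgroup.coe_mul, inv_mul_cancel_left] at h
    obtain ⟨j, hj | hj⟩ := hcov ⟨s, hs⟩
    · exact (show s = _ from congrArg Subtype.val hj) ▸ hcg j
    · exact (show s = _ from congrArg Subtype.val hj) ▸ hgen j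
  · intro A B hA hB hAc hBc
    have key : ∀ A : Subgroup (Matrix.ProjectiveSpecialLinearGroup (Fin 2) F), Nat.card A = 2 →
        ∃ a, orderOf a = 2 ∧ A = Subgroup.zpowers a := by
      intro A hA
      obtain ⟨a, ha⟩ := exists_prime_orderOf_dvd_card' (G := A) 2 (dvd_of_eq hA.symm)
      refine ⟨a, by rw [Subgroup.orderOf_coe, ha], (Subgroup.eq_of_le_of_card_ge (Subgroup.zpowers_le.2 a.2) ?_).symm⟩
      rw [Nat.card_zpowers, Subgroup.orderOf_coe, ha, hA]
    obtain ⟨a, ha, rfl⟩ := key A hAc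
    obtain ⟨b, hb, rfl⟩ := key B hBc
    obtain ⟨t, ht⟩ := hclass a b ha hb
    refine isConj_group_iff.2 ⟨hA, hB, t, ?_⟩
    rw [MonoidHom.map_zpowers]
    exact congrArg Subgroup.zpowers ht
  · haveI : Finite Sg := inferInstance
    obtain ⟨-, T, hT⟩ := isFullyAutomized_of_isFullyNormalized S.isPGroup' hFsat (isFullyNormalized_S _)
    refine le_antisymm (fun α hα => ?_) (inn_le_autGroup _ le_rfl)
    haveI := finite_autGroup (groupFusionSystem (S : Subgroup (Matrix.ProjectiveSpecialLinearGroup (Fin 2) F))) (le_refl _)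
    have htop : IsPGroup 2 (⊤ : Subgroup ((groupFusionSystem (S : Subgroup (Matrix.ProjectiveSpecialLinearGroup (Fin 2) F))).autGroup (S : Subgroup _))) :=
      (Cfsg.Agent.H90.isPGroup_of_coprime_eq_one fun β hβ => Subtype.ext
        (coprime_dihedral_aut hk hc hy hcov hinv (β : MulAut Sg)
          (by rw [Subgroup.orderOf_coe]; exact hβ))).to_subgroup _
    have h : (⟨α, hα⟩ : (groupFusionSystem (S : Subgroup (Matrix.ProjectiveSpecialLinearGroup (Fin 2) F))).autGroup (S : Subgroup _)) ∈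
        (T : Subgroup _) := (T.is_maximal' htop le_top) ▸ Subgroup.mem_top _
    rw [hT, Subgroup.mem_subgroupOf] at h
    rwa [inn_eq_autInducedBy_self]


/-- Let F be a finite field of odd order q with q² ≡ 1 mod 16 (so that a Sylow 2-subgroup of PSL(2,q), dihedral of order the 2-part of (q²−1)/2, has order at least 8). Then the 2-fusion system of PSL(2,F) on a Sylow 2-subgroup is simple: saturated, over a nontrivial 2-group, with no normal subsystem other than the trivial one and itself. -/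
theorem result {F : Type*} [Field F] [Fintype F] (hodd : Fintype.card F % 2 = 1) (h16 : 16 ∣ Fintype.card F ^ 2 - 1)
    (S : Sylow 2 (Matrix.ProjectiveSpecialLinearGroup (Fin 2) F)) :
    (Cfsg.groupFusionSystem (S : Subgroup (Matrix.ProjectiveSpecialLinearGroup (Fin 2) F))).IsSimple 2 := by
  exact psl_fusion_simple (Nat.odd_iff.2 hodd) h16 S

end Cfsg.Agent.S5317
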