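import Cfsg.Statements.S5318
import Cfsg.Agent.H91.PSLThree
import Cfsg.Agent.S5339
import Cfsg.Agent.FusionSys.Group

set_option autoImplicit false
open Cfsg

namespace Cfsg.Agent.S5318

open Cfsg.Agent.FusionSys

theorem simple_of_model {G : Type*} [Group G] [Finite G] {p : ℕ} [Fact p.Prime] (S : Sylow p G)
    {S1 : Subgroup G} {c : G} (hc : ∀ x, x ∈ (S : Subgroup G) ↔ c⁻¹ * x * c ∈ S1) (hne : S1 ≠ ⊥)
    (haut : ∀ g : G, (∀ x ∈ S1, g * x * g⁻¹ ∈ S1) → ∃ s ∈ S1, ∀ x ∈ S1, g * x * g⁻¹ = s * x * s⁻¹)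
    (hcl : ∀ T : Subgroup G, T ≤ S1 → T ≠ ⊥ →
      (∀ x ∈ T, ∀ g : G, g * x * g⁻¹ ∈ S1 → g * x * g⁻¹ ∈ T) → T = S1) :
    (Cfsg.groupFusionSystem (S : Subgroup G)).IsSimple p := by
  have hS1 : ∀ x, x ∈ S1 ↔ c * x * c⁻¹ ∈ (S : Subgroup G) := fun x => by
    rw [hc, show c⁻¹ * (c * x * c⁻¹) * c = x by group]
  refine S5339.result p S.isPGroup' _ (isSaturated_group S) ?_ ?_ ?_
  · intro h
    refine hne (le_bot_iff.1 fun x hx => ?_)
    have h1 := (hS1 x).1 hx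
    rw [h, Subgroup.mem_bot, mul_inv_eq_one, mul_eq_left] at h1
    exact h1
  · rw [autGroup_group le_rfl]
    refine le_antisymm (fun α hα => ?_) (fun α hα => ?_)
    · obtain ⟨g, -, hg, rfl⟩ := mem_autInducedBy.1 hα
      obtain ⟨s, hs, he⟩ := haut (c⁻¹ * g * c) fun x hx => by
        have h1 := (Subgroup.mem_normalizer_iff.1 hg _).1 ((hS1 x).1 hx)
        have h2 := (hc _).1 h1
        rwa [show c⁻¹ * (g * (c * x * c⁻¹) * g⁻¹) * c = c⁻¹ * g * c * x * (c⁻¹ * g * c)⁻¹ by group] at h2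
      refine ⟨⟨c * s * c⁻¹, (hS1 s).1 hs⟩, MulEquiv.ext fun y => Subtype.ext ?_⟩
      have h := he _ ((hc y).1 y.2)
      show c * s * c⁻¹ * (y : G) * (c * s * c⁻¹)⁻¹ = g * (y : G) * g⁻¹
      calc c * s * c⁻¹ * (y : G) * (c * s * c⁻¹)⁻¹
          = c * (s * (c⁻¹ * y * c) * s⁻¹) * c⁻¹ := by group
        _ = g * (y : G) * g⁻¹ := by rw [← h]; group
    · obtain ⟨g, rfl⟩ := hα
      exact mem_autInducedBy.2 ⟨g, Subgroup.mem_top _, Subgroup.le_normalizer g.2,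
        MulEquiv.ext fun y => Subtype.ext rfl⟩
  · intro T hT
    obtain ⟨hTS, hsc⟩ := stronglyClosed_iff.1 hT
    by_cases hb : T = ⊥
    · exact Or.inl hb
    refine Or.inr (le_antisymm hTS ?_)
    have h0 := hcl (T.comap (MulAut.conj c).toMonoidHom)
      (fun x hx => (hS1 x).2 (hTS hx)) ?_ ?_
    · intro y hy
      have h : c⁻¹ * y * c ∈ T.comap (MulAut.conj c).toMonoidHom := h0.ge ((hc y).1 hy)
      have h' : c * (c⁻¹ * y * c) * c⁻¹ ∈ T := h
      rwa [show c * (c⁻¹ * y * c) * c⁻¹ = y by group] at h'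
    · intro h
      refine hb (le_bot_iff.1 fun y hy => ?_)
      have hm : c⁻¹ * y * c ∈ T.comap (MulAut.conj c).toMonoidHom := by
        show c * (c⁻¹ * y * c) * c⁻¹ ∈ T
        rwa [show c * (c⁻¹ * y * c) * c⁻¹ = y by group]
      rw [h, Subgroup.mem_bot] at hm
      rw [Subgroup.mem_bot, show y = c * (c⁻¹ * y * c) * c⁻¹ by group, hm]
      group
    · intro x hx g hg
      set x' := c * x * c⁻¹ with hx'
      set g' := c * g * c⁻¹ with hg'
      have hxT : x' ∈ T := hx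
      have e : c * (g * x * g⁻¹) * c⁻¹ = g' * x' * g'⁻¹ := by rw [hx', hg']; group
      have hS : g' * x' * g'⁻¹ ∈ (S : Subgroup G) := e ▸ (hS1 _).1 hg
      have hP : Subgroup.zpowers x' ≤ (S : Subgroup G).comap (MulAut.conj g').toMonoidHom :=
        Subgroup.zpowers_le.2 hS
      have hmap : IsMap (Cfsg.groupFusionSystem (S : Subgroup G)) (Subgroup.zpowers x') (conjMap g') :=
        isMap_group_iff.2 ⟨Subgroup.zpowers_le.2 (hTS hxT), g', fun z hz => ⟨hP hz, rfl⟩⟩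
      show c * (g * x * g⁻¹) * c⁻¹ ∈ T
      rw [e]
      exact hsc _ _ (Subgroup.zpowers_le.2 hxT) hmap x' (Subgroup.mem_zpowers x')


/-- For a finite field F of odd order, the 2-fusion system of PSL(3,F) on a Sylow 2-subgroup (semidihedral or wreathed according as |F| ≡ 3 or 1 mod 4) is simple. -/
theorem result {F : Type*} [Field F] [Fintype F] (hodd : Fintype.card F % 2 = 1) (S : Sylow 2 (Matrix.ProjectiveSpecialLinearGroup (Fin 3) F)) :
    (Cfsg.groupFusionSystem (S : Subgroup (Matrix.ProjectiveSpecialLinearGroup (Fin 3) F))).IsSimple 2 := by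
  have h2 : (2 : F) ≠ 0 := Ring.two_ne_zero (fun h => by
    have := FiniteField.even_card_of_char_two h
    omega)
  obtain ⟨S1, hS1⟩ := H91.PSL3.exists_sylow (F := F) h2
  obtain ⟨c, hc⟩ := MulAction.exists_smul_eq (Matrix.ProjectiveSpecialLinearGroup (Fin 3) F) S1 S
  refine simple_of_model S (S1 := H91.PSL3.sOne) (c := c) (fun x => ?_) ?_ (fun g hg => ?_)
    (fun T h1 h2' h3 => H91.PSL3.eq_sOne_of_closed h2 h1 h2' h3)
  · rw [← hc, Sylow.coe_subgroup_smul, hS1, Subgroup.mem_pointwise_smul_iff_inv_smul_mem]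
    simp [MulAut.smul_def]
  · intro h
    have hd : H91.PSL3.psi (H91.PSL3.dU (F := F)) ∈ H91.PSL3.sOne := ⟨_, H91.PSL3.dU_mem_sT, rfl⟩
    rw [h, Subgroup.mem_bot] at hd
    have e := H91.PSL3.psi_injOn H91.PSL3.dU_mem_sT (one_mem _) (hd.trans (map_one _).symm)
    exact H91.PSL3.dU_not_cA h2 (e ▸ one_mem _)
  · obtain ⟨a, rfl, s, hs, he⟩ := H91.PSL3.normalizer_sOne h2 hg
    refine ⟨_, ⟨s, hs, rfl⟩, ?_⟩
    rintro _ ⟨x, hx, rfl⟩
    rw [← map_inv, ← map_mul, ← map_mul, he x hx, map_mul, map_mul, map_inv]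

end Cfsg.Agent.S5318
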