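import Cfsg.Statements.S5319
import Cfsg.Agent.H91.PSUThree
import Cfsg.Agent.S5318

set_option autoImplicit false
open Cfsg

namespace Cfsg.Agent.S5319


/-- Let q be an odd prime power and F a field with q² elements. Then the 2-fusion system of PSU(3,q) (realised as the special unitary group of the standard Hermitian form over F modulo its centre) on a Sylow 2-subgroup is simple. -/
theorem result {F : Type*} [Field F] [Fintype F] (q : ℕ) (hq : Fintype.card F = q ^ 2) (hodd : q % 2 = 1) (S : Sylow 2 (Cfsg.PSU 3 F q)) :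
    (Cfsg.groupFusionSystem (S : Subgroup (Cfsg.PSU 3 F q))).IsSimple 2 := by
  have h2 := H91.PSU3.two_ne_zero_of_odd hq hodd
  obtain ⟨S1, hS1⟩ := H91.PSU3.exists_sylowU hq h2
  obtain ⟨c, hc⟩ := MulAction.exists_smul_eq (Cfsg.PSU 3 F q) S1 S
  refine S5318.simple_of_model S (S1 := H91.PSU3.sOneU hq) (c := c) (fun x => ?_) ?_ (fun g hg => ?_)
    (fun T h1 h2' h3 => H91.PSU3.eq_sOneU_of_closed hq h2 h1 h2' h3)
  · rw [← hc, Sylow.coe_subgroup_smul, hS1, Subgroup.mem_pointwise_smul_iff_inv_smul_mem]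
    simp [MulAut.smul_def]
  · intro h
    have hd : (⟨H91.PSL3.dU, H91.PSU3.dU_mem hq⟩ : H91.PSU3.uG F q).1 ∈ H91.PSU3.sU F q :=
      ⟨H91.PSL3.dU_mem_sT, H91.PSU3.dU_mem hq⟩
    have hd' : H91.PSU3.psiU hq ⟨H91.PSL3.dU, H91.PSU3.dU_mem hq⟩ ∈ H91.PSU3.sOneU hq := ⟨_, hd, rfl⟩
    rw [h, Subgroup.mem_bot] at hd'
    have e := H91.PSU3.psiU_injOn hq hd (one_mem (H91.PSU3.sU F q)) (hd'.trans (map_one _).symm)
    have e' : (H91.PSL3.dU : GL (Fin 2) F) = 1 := congrArg Subtype.val e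
    exact H91.PSL3.dU_not_cA h2 (by rw [e']; exact one_mem _)
  · obtain ⟨a, rfl, s, hs, he⟩ := H91.PSU3.normalizer_sOneU hq h2 hg
    refine ⟨_, ⟨s, hs, rfl⟩, ?_⟩
    rintro _ ⟨x, hx, rfl⟩
    rw [← map_inv, ← map_mul, ← map_mul, he x hx, map_mul, map_mul, map_inv]

end Cfsg.Agent.S5319
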