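import Cfsg.Statements.S5320
import Cfsg.Agent.H91.PSpFourSimple

set_option autoImplicit false
open Cfsg

namespace Cfsg.Agent.S5320


/-- For a finite field F of odd order, the 2-fusion system of the projective symplectic group PSp(4,F) on a Sylow 2-subgroup is simple. -/
theorem result {F : Type*} [Field F] [Fintype F] (hodd : Fintype.card F % 2 = 1) (S : Sylow 2 (Cfsg.PSp 2 F)) :
    (Cfsg.groupFusionSystem (S : Subgroup (Cfsg.PSp 2 F))).IsSimple 2 := by
  have h2 : (2 : F) ≠ 0 := Ring.two_ne_zero (fun h => by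
    have := FiniteField.even_card_of_char_two h
    omega)
  set mk := QuotientGroup.mk' (Subgroup.center (Matrix.symplecticGroup (Fin 2) F)) with hmk
  have hsur : Function.Surjective mk := QuotientGroup.mk'_surjective _
  have hker : mk.ker = Subgroup.center (Matrix.symplecticGroup (Fin 2) F) := QuotientGroup.ker_mk' _
  obtain ⟨S1, hS1⟩ := H91.PSp4.exists_sylow (π := mk) hsur hker h2
  obtain ⟨c, hc⟩ := MulAction.exists_smul_eq (Cfsg.PSp 2 F) S1 S
  refine H91.PSp4.isSimple (π := ((MulAut.conj c).toMonoidHom.comp mk)) ((MulAut.conj c).surjective.comp hsur)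
    ?_ h2 S ?_
  · rw [← MonoidHom.comap_ker, (MonoidHom.ker_eq_bot_iff _).2 (MulAut.conj c).injective,
      MonoidHom.comap_bot, hker]
  · rw [← hc, Sylow.coe_subgroup_smul, hS1, ← Subgroup.map_map]
    rfl

end Cfsg.Agent.S5320
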