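import Cfsg.Statements.S5321
import Cfsg.Agent.Compute.J2.Model
import Cfsg.Agent.Compute.J2.FusionCheck

set_option autoImplicit false
open Cfsg

namespace Cfsg.Agent.S5321

/-- For a finite group G isomorphic to the Hall–Janko group J₂ (as constructed in the problem's definitions), the 2-fusion system of G on a Sylow 2-subgroup is simple: saturated, over a nontrivial 2-group, with no normal subsystem other than the trivial one and itself. -/
theorem result {G : Type*} [Group G] [Finite G] (hG : Cfsg.Spor.IsoJ2 G) (S : Sylow 2 G) : (Cfsg.groupFusionSystem (S : Subgroup G)).IsSimple 2 := by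
  obtain ⟨e⟩ := hG
  have heq : ∀ a b : ℕ, Compute.J2.quoOps.eqv a b = true → a = b := fun a b h => by
    rw [Compute.J2.eqv_quo] at h
    exact Nat.eq_of_beq_eq_true h
  obtain ⟨P, R, c, hcert, hP, hidx⟩ : ∃ (P R : Subgroup Compute.J2.quoGrp) (c : Compute.J2.quoGrp),
      FusionSys.SimpleCert 2 P R c ∧ IsPGroup 2 P ∧ ¬ 2 ∣ P.index :=
    Compute.cert_of_checkFusion Compute.J2.quoSound heq Compute.J2.quoChain_ok _ Compute.J2.fusion_ok
      ⟨4725, ⟨2362, rfl⟩, Compute.J2.card_quoGrp⟩
  have φ : Compute.J2.quoGrp ≃* G := (e.trans Compute.J2.equivJ2).symm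
  have : Fact (Nat.Prime 2) := ⟨Nat.prime_two⟩
  exact (hcert.map φ).isSimple (hP.map _)
    (by rwa [show (P.map φ.toMonoidHom).index = P.index from Subgroup.index_map_equiv P φ]) S

end Cfsg.Agent.S5321
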