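import Cfsg.Statements.S5326
import Cfsg.Agent.FusionSys.Alperin

set_option autoImplicit false
open Cfsg

namespace Cfsg.Agent.S5326

open Cfsg.Agent.FusionSys Cfsg.FusionSystem in
theorem exists_missing_class {Ω : Type*} [Group Ω] {S : Subgroup Ω} [Finite S] (p : ℕ) [Fact p.Prime]
    (hS : IsPGroup p S) (F : Cfsg.FusionSystem S) (hF : F.IsSaturated p) {Q : Subgroup Ω}
    (hQn : F.IsFullyNormalized Q) (hQS : Q < S) (hH : extAut F Q ≠ F.autGroup Q) :
    ∃ E : Cfsg.FusionSystem S, (∀ R : Subgroup Ω, R ≤ S → ¬ F.IsConj Q R → F.autGroup R ≤ E.autGroup R) ∧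
      ¬ F ≤ E := by
  classical
  set H := extAut F Q with hHdef
  let NMap : Subgroup Ω → (Ω → Ω) → Prop := fun P u =>
    IsMap F (normalizerIn S P) u ∧ IsIso F P Q u ∧ ∀ x ∈ normalizerIn S P, u x ∈ normalizerIn S Q
  let Φ : Subgroup Ω → (Ω → Ω) → Prop := fun P f =>
    F.IsConj Q P → IsMap F P f → ∀ u u', NMap P u → NMap (imgSub f P) u' →
      ∃ h ∈ H, ∀ x ∈ P, u' (f x) = autMap h (u x)
  have hNex : ∀ P, F.IsConj Q P → ∃ u, NMap P u := fun P hP =>
    exists_map_to_fullyNormalized hS hF hQn (isConj_symm hP)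
  -- restrictions of maps on larger sources are good
  have hbig : ∀ (P R : Subgroup Ω) (f : Ω → Ω), P < R → IsMap F R f → Φ P f := by
    intro P R f hlt hf hP _ u u' hu hu'
    have hRS := hf.le
    have hPS : P ≤ S := hlt.le.trans hRS
    haveI := finite_of_le hRS
    set R₁ := R ⊓ Subgroup.normalizer (P : Set Ω) with hR₁
    have hPR₁ : P < R₁ := lt_inf_normalizer_of_lt (hS.to_le hRS) hlt
    have hR₁N : R₁ ≤ normalizerIn S P := inf_le_inf_right _ hRS
    have hu₁ : IsMap F R₁ u := hu.1.mono hR₁N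
    obtain ⟨v, hv, hvl⟩ := hu₁.exists_inv
    have hvR : ∀ y ∈ imgSub u R₁, v y ∈ R₁ := fun y hy => by
      obtain ⟨x, hx, rfl⟩ := hu₁.mem_imgSub.1 hy
      rwa [hvl x hx]
    have hg : IsMap F (imgSub u R₁) (u' ∘ (f ∘ v)) :=
      (hv.comp (hf.mono inf_le_left) hvR).comp hu'.1 fun y hy =>
        (hf.mono inf_le_left).mem_normalizerIn hPR₁.le (hvR y hy) (hvR y hy).2
    have hQlt : Q < imgSub u R₁ := by
      refine lt_of_le_of_ne (fun y hy => ?_) fun heq => ?_
      · obtain ⟨x, hx, rfl⟩ := hu.2.1.exists_preimage hy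
        exact hu₁.mem_imgSub.2 ⟨x, hPR₁.le hx, rfl⟩
      · obtain ⟨x, hx, hxP⟩ := SetLike.exists_of_lt hPR₁
        have hux : u x ∈ Q := heq.ge (hu₁.mem_imgSub.2 ⟨x, hx, rfl⟩)
        obtain ⟨y, hy, hye⟩ := hu.2.1.exists_preimage hux
        exact hxP (hu₁.injOn (hPR₁.le hy) hx hye ▸ hy)
    haveI := finite_of_le hQn.1
    have hgQ : ∀ y ∈ Q, (u' ∘ (f ∘ v)) y ∈ Q := by
      intro y hy
      obtain ⟨x, hx, rfl⟩ := hu.2.1.exists_preimage hy
      show u' (f (v (u x))) ∈ Q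
      rw [hvl x (hPR₁.le hx)]
      exact hu'.2.1.mem (Subgroup.subset_closure ⟨x, hx, rfl⟩)
    have hgi : IsIso F Q Q (u' ∘ (f ∘ v)) :=
      ⟨hg.mono hQlt.le, (hg.mono hQlt.le).image_eq_of_mapsTo hgQ⟩
    obtain ⟨h, -, he⟩ := hgi.exists_aut
    refine ⟨h, mem_extAut hQlt hg fun y hy => (he y hy).symm, fun x hx => ?_⟩
    rw [he _ (hu.2.1.mem hx)]
    show u' (f x) = u' (f (v (u x)))
    rw [hvl x (hPR₁.le hx)]
  have hlt : ∀ P, F.IsConj Q P → P < S := fun P hP => by
    refine lt_of_le_of_ne (le_of_isConj_right hP) ?_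
    rintro rfl
    exact hQS.ne (eq_S_of_isConj (isConj_symm hP))
  let E : Cfsg.FusionSystem S := subSys F Φ
    (fun P f g h he hP hg u u' hu hu' => by
      have heq : imgSub g P = imgSub f P := congrArg Subgroup.closure (Set.image_congr he)
      obtain ⟨k, hk, hke⟩ := h hP (hg.congr fun x hx => (he x hx).symm) u u' hu (heq ▸ hu')
      exact ⟨k, hk, fun x hx => by rw [he x hx]; exact hke x hx⟩)
    (fun P a hP ha hc => hbig P S (conjMap a) (hlt P hc) (isMap_conj F le_rfl ha) hc)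
    (fun P R f g hf hg hm h1 h2 hP _ u u' hu hu' => by
      set P₂ := imgSub f P with hP₂
      have hP₂R : P₂ ≤ R := fun y hy => by
        obtain ⟨x, hx, rfl⟩ := hf.mem_imgSub.1 hy
        exact hm x hx
      have hc₂ : F.IsConj Q P₂ := isConj_trans hP hf.isIso.isConj
      have heq : imgSub g P₂ = imgSub (g ∘ f) P := by
        refine congrArg Subgroup.closure ?_
        rw [hf.coe_imgSub, Set.image_comp]
      have h2' : Φ P₂ g := by
        rcases hP₂R.eq_or_lt with hR | hR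
        · rwa [hR]
        · exact hbig P₂ R g hR hg
      obtain ⟨w, hw⟩ := hNex P₂ hc₂
      obtain ⟨k₁, hk₁, he₁⟩ := h1 hP hf u w hu hw
      obtain ⟨k₂, hk₂, he₂⟩ := h2' hc₂ (hg.mono hP₂R) w u' hw (heq ▸ hu')
      refine ⟨k₂ * k₁, H.mul_mem hk₂ hk₁, fun x hx => ?_⟩
      show u' (g (f x)) = _
      rw [he₂ _ (hf.isIso.mem hx), he₁ x hx, autMap_mul _ _ (hu.2.1.mem hx)])
    (fun P R f g hf hg hinv h1 hR _ u u' hu hu' => by
      have hfR : imgSub f P = R := hf.eq_imgSub.symm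
      have hgP : imgSub g R = P := hg.eq_imgSub.symm
      obtain ⟨k, hk, hke⟩ := h1 (isConj_trans hR (isConj_symm hf.isConj)) hf.isMap u' u (hgP ▸ hu')
        (hfR ▸ hu)
      refine ⟨k⁻¹, H.inv_mem hk, fun y hy => ?_⟩
      obtain ⟨x, hx, rfl⟩ := hf.exists_preimage hy
      have hu'x : u' x ∈ Q := (hgP ▸ hu' : NMap P u').2.1.mem hx
      rw [hinv x hx, hke x hx, ← autMap_mul _ _ hu'x, inv_mul_cancel, autMap_apply _ hu'x]
      rfl)
  refine ⟨E, fun R hR hRc α hα => ?_, fun hle => ?_⟩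
  · obtain ⟨φ, hφ, hφe⟩ := (mem_autGroup_iff hR).1 hα
    exact mem_autGroup_of_isMap ⟨φ, ⟨hφ, fun hc => absurd hc hRc⟩, hφe⟩
  · refine hH (le_antisymm (extAut_le_autGroup F Q) fun α hα => ?_)
    obtain ⟨φ, hφ, hφe⟩ := le_iff_isMap.1 hle Q _ ((mem_autGroup_iff hQn.1).1 hα)
    have hag : ∀ x ∈ Q, homFun φ x = autMap α x := fun x hx => (homFun_mem φ hx).trans (hφe ⟨x, hx⟩)
    have heq : imgSub (homFun φ) Q = Q := by
      rw [imgSub, Set.image_congr hag, image_autMap, Subgroup.closure_eq]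
    have hid : NMap Q id := ⟨isMap_id F normalizerIn_le, isIso_id F hQn.1, fun x hx => hx⟩
    obtain ⟨h, hh, he⟩ := hφ.2 (isConj_refl F hQn.1) (isMap_of_mem hφ.1) id id hid (heq.symm ▸ hid)
    exact (aut_ext fun x hx => (hag x hx).symm.trans (he x hx) : α = h) ▸ hh


/-- Let F be a saturated fusion system over a finite p-group S and Q an essential subgroup. Then the F-conjugacy class of Q cannot be left out of a generating family: there is a fusion system E over S whose automorphism group of every subgroup R ≤ S not F-conjugate to Q contains Aut_F(R), and yet E does not contain every map of F. -/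
theorem result {Ω : Type*} [Group Ω] {S : Subgroup Ω} [Finite S] (p : ℕ) [Fact p.Prime] (hS : IsPGroup p S) (F : Cfsg.FusionSystem S) (hF : F.IsSaturated p) (Q : Subgroup Ω) (hQ : F.IsEssential p Q) : ∃ E : Cfsg.FusionSystem S, (∀ R : Subgroup Ω, R ≤ S → ¬ F.IsConj Q R → F.autGroup R ≤ E.autGroup R) ∧ ¬ F ≤ E := by
  open Cfsg.Agent.FusionSys in
  refine exists_missing_class p hS F hF hQ.2.1 (lt_of_isEssential hS hF hQ) fun h => ?_
  rcases extAut_dichotomy hS hF (lt_of_isEssential hS hF hQ) hQ.2.1 with ⟨h1, -⟩ | ⟨-, h1⟩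
  · exact h1 hQ
  · haveI := finite_autGroup F hQ.1.1
    refine (isStronglyPEmbedded_iff.1 h1).2.1 ?_
    rw [h, Subgroup.subgroupOf_self, Subgroup.map_top_of_surjective _ (QuotientGroup.mk'_surjective _)]

end Cfsg.Agent.S5326
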