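import Cfsg.Statements.S5327
import Cfsg.Agent.FusionSys.Basic

set_option autoImplicit false
open Cfsg

namespace Cfsg.Agent.S5327

open Cfsg.Agent.FusionSys

variable {Ω : Type*} [Group Ω] {S : Subgroup Ω}

/-- The maps of `F` all of whose restrictions to subgroups conjugate to `P₀` lie in `E`. -/
def testSystem (F E : Cfsg.FusionSystem S) (P₀ : Subgroup Ω) : Cfsg.FusionSystem S where
  Hom P := {φ | φ ∈ F.Hom P ∧ ∀ R : Subgroup Ω, R ≤ P → F.IsConj P₀ R → IsMap E R (homFun φ)}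
  le_of_mem h := F.le_of_mem h.1
  injective_of_mem h := F.injective_of_mem h.1
  conj_mem := by
    intro P g hP hg
    refine ⟨F.conj_mem hP hg, fun R hR _ => ?_⟩
    exact (isMap_conj E (hR.trans hP) hg).congr fun x hx => homFun_mem _ (hR hx)
  comp_mem := by
    intro P Q φ ψ hφ hψ h
    refine ⟨F.comp_mem hφ.1 hψ.1 h, fun R hR hn => ?_⟩
    have h1 := hφ.2 R hR hn
    have h1' := h1.isIso
    have hle : imgSub (homFun φ) R ≤ Q := by
      intro y hy
      obtain ⟨x, hx, rfl⟩ := h1.mem_imgSub.1 hy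
      rw [homFun_mem φ (hR hx)]
      exact h ⟨x, hR hx⟩
    have h2 := hψ.2 _ hle (isConj_trans hn ((isMap_of_mem hφ.1).mono hR).isIso.isConj)
    refine (h1.comp h2 fun x hx => h1'.mem hx).congr fun x hx => ?_
    rw [homFun_mem _ (hR hx), Function.comp_apply, homFun_mem φ (hR hx), homFun_mem ψ (h ⟨x, hR hx⟩)]
    rfl
  inv_mem := by
    intro P φ hφ
    obtain ⟨ψ, hψ, hinv⟩ := F.inv_mem hφ.1
    refine ⟨ψ, ⟨hψ, fun R hR hn => ?_⟩, hinv⟩
    set R' : Subgroup Ω := (R.comap φ).map P.subtype with hR'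
    have hR'P : R' ≤ P := Subgroup.map_subtype_le _
    have himg : homFun φ '' (R' : Set Ω) = R := by
      ext y
      constructor
      · rintro ⟨_, ⟨x, hx, rfl⟩, rfl⟩
        rw [show homFun φ (P.subtype x) = φ x from homFun_coe φ x]
        exact hx
      · intro hy
        obtain ⟨x, rfl⟩ := hR hy
        exact ⟨x, ⟨x, hy, rfl⟩, homFun_coe φ x⟩
    have hF : IsIso F R' R (homFun φ) := ⟨(isMap_of_mem hφ.1).mono hR'P, himg⟩
    have hE : IsIso E R' R (homFun φ) := ⟨hφ.2 R' hR'P (isConj_trans hn (isConj_symm hF.isConj)), himg⟩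
    obtain ⟨k, hk, -, hk2⟩ := hE.exists_symm
    refine hk.isMap.congr fun y hy => ?_
    obtain ⟨x, rfl⟩ := hR hy
    have hkx := hk2 (φ x) hy
    have hkP : k (φ x) ∈ P := hR'P (hk.mem hy)
    rw [homFun_mem φ hkP] at hkx
    have : (⟨k (φ x), hkP⟩ : P) = x := F.injective_of_mem hφ.1 hkx
    rw [homFun_mem ψ ⟨x, rfl⟩, hinv x, ← congrArg Subtype.val this]

theorem mem_testSystem_autGroup (F E : Cfsg.FusionSystem S) (P₀ : Subgroup Ω) {R : Subgroup Ω}
    (h : ∀ α : MulAut R, R.subtype.comp α.toMonoidHom ∈ F.Hom R → ∀ R' : Subgroup Ω, R' ≤ R →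
      F.IsConj P₀ R' → IsMap E R' (autMap α)) :
    F.autGroup R ≤ (testSystem F E P₀).autGroup R :=
  (Subgroup.closure_le _).2 fun α hα => Subgroup.subset_closure ⟨hα, h α hα⟩


/-- Let F be a saturated fusion system over a finite p-group S. Call a family of subgroups of S generating when every fusion system over S whose automorphism group of each member R contains Aut_F(R) contains every map of F. If two families are each closed under F-conjugacy and each generating, then their intersection is generating. -/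
theorem result {Ω : Type*} [Group Ω] {S : Subgroup Ω} [Finite S] (p : ℕ) [Fact p.Prime] (hS : IsPGroup p S) (F : Cfsg.FusionSystem S) (hF : F.IsSaturated p) (𝒬₁ 𝒬₂ : Set (Subgroup Ω)) (h₁ : ∀ R ∈ 𝒬₁, ∀ R' : Subgroup Ω, F.IsConj R R' → R' ∈ 𝒬₁) (h₂ : ∀ R ∈ 𝒬₂, ∀ R' : Subgroup Ω, F.IsConj R R' → R' ∈ 𝒬₂) (hg₁ : ∀ E : Cfsg.FusionSystem S, (∀ R ∈ 𝒬₁, F.autGroup R ≤ E.autGroup R) → F ≤ E) (hg₂ : ∀ E : Cfsg.FusionSystem S, (∀ R ∈ 𝒬₂, F.autGroup R ≤ E.autGroup R) → F ≤ E) (E : Cfsg.FusionSystem S) (hE : ∀ R ∈ 𝒬₁ ∩ 𝒬₂, F.autGroup R ≤ E.autGroup R) : F ≤ E := by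
  have hfin : ∀ P : Subgroup Ω, P ≤ S → Finite P := fun P hP => finite_of_le hP
  have key : ∀ k : ℕ, ∀ (P : Subgroup Ω) (f : Ω → Ω), Nat.card S ≤ Nat.card P + k → IsMap F P f → IsMap E P f := by
    intro k
    induction k using Nat.strong_induction_on with
    | _ k ih =>
    intro P f hk hf
    set n := Nat.card P with hn
    have big : ∀ (R : Subgroup Ω) (g : Ω → Ω), n < Nat.card R → IsMap F R g → IsMap E R g := by
      intro R g hR hg
      have := Subgroup.card_le_of_le hg.le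
      exact ih (k - (Nat.card R - n)) (by omega) R g (by omega) hg
    have aux : ∀ (𝒬 : Set (Subgroup Ω)),
        (∀ E : Cfsg.FusionSystem S, (∀ R ∈ 𝒬, F.autGroup R ≤ E.autGroup R) → F ≤ E) →
        (∀ R ∈ 𝒬, F.IsConj P R → F.autGroup R ≤ E.autGroup R) → IsMap E P f := by
      intro 𝒬 hgen heq
      obtain ⟨φ, hφ, hφf⟩ := hf
      have hle := hgen (testSystem F E P) fun R hR => mem_testSystem_autGroup F E P fun α hα R' hR' hn' => by
        have hRS : R ≤ S := (F.le_of_mem hα).1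
        have := hfin R hRS
        have hc : n = Nat.card R' := card_eq_of_isConj hn'
        rcases eq_or_lt_of_le (Subgroup.card_le_of_le hR') with heq' | hlt
        · have e : R' = R := Subgroup.eq_of_le_of_card_ge hR' heq'.ge
          subst e
          exact autGroup_set_subgroup hRS (heq R' hR hn' (Subgroup.subset_closure hα))
        · exact (big R _ (by omega) (isMap_of_mem hα)).mono hR'
      exact ((hle P hφ).2 P le_rfl (isConj_refl F (F.le_of_mem hφ).1)).congr fun x hx => by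
        rw [homFun_mem φ hx]; exact (hφf ⟨x, hx⟩).symm
    by_cases h1' : P ∈ 𝒬₁
    · by_cases h2' : P ∈ 𝒬₂
      · exact aux 𝒬₁ hg₁ fun R hR hc => hE R ⟨hR, h₂ P h2' R hc⟩
      · exact aux 𝒬₂ hg₂ fun R hR hc => absurd (h₂ R hR P (isConj_symm hc)) h2'
    · exact aux 𝒬₁ hg₁ fun R hR hc => absurd (h₁ R hR P (isConj_symm hc)) h1'
  exact le_iff_isMap.2 fun P f hf => key (Nat.card S) P f (Nat.le_add_left _ _) hf

end Cfsg.Agent.S5327
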