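import Cfsg.Statements.S5329
import Cfsg.Agent.H90.Tate
import Cfsg.Agent.H89.Join
open scoped IsMulCommutative commutatorElement

set_option autoImplicit false
open Cfsg

namespace Cfsg.Agent.S5329

/-- For a saturated fusion system F over a finite p-group S, the focal subgroup and the derived subgroup of S meet the centre Z(F) of the system in the same subgroup: foc(F) ∩ Z(F) = S′ ∩ Z(F). -/
theorem result {Ω : Type*} [Group Ω] {S : Subgroup Ω} [Finite S] (p : ℕ) [Fact p.Prime] (hS : IsPGroup p S) (F : Cfsg.FusionSystem S) (hF : F.IsSaturated p) : F.focalSubgroup ⊓ F.center = ⁅(S : Subgroup Ω), (S : Subgroup Ω)⁆ ⊓ F.center := by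
  classical
  refine le_antisymm (le_inf ?_ inf_le_right)
    (inf_le_inf_right _ (H90.commutator_le_focal F))
  rintro x ⟨hx, hxz⟩
  have hz : F.IsCentral F.center := H89.isCentral_center F
  let T : Subgroup ↥S := ⊤
  let mkE : ↥S →* ↥S ⧸ commutator ↥S := QuotientGroup.mk' _
  have hcomm : ∀ a b : ↥S ⧸ commutator ↥S, a * b = b * a := by
    intro a b
    induction a using QuotientGroup.induction_on with
    | _ a =>
      induction b using QuotientGroup.induction_on with
      | _ b =>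
        refine (QuotientGroup.eq (s := commutator ↥S)).2 ?_
        rw [show (a * b)⁻¹ * (b * a) = ⁅b⁻¹, a⁻¹⁆ by rw [commutatorElement_def]; group]
        exact Subgroup.commutator_mem_commutator trivial trivial
  have hC : ∀ y ∈ T, mkE y ∈ Subgroup.center (↥S ⧸ commutator ↥S) := fun y _ =>
    Subgroup.mem_center_iff.2 fun g => hcomm _ _
  obtain ⟨k, t, hk, hinv, -, hfix⟩ := H90.exists_transfer hS hF T mkE hC
    (fun P φ hφ => ⟨1, fun u => trivial⟩)
  let g : ↥S →* ↥(Subgroup.center (↥S ⧸ commutator ↥S)) :=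
    (powMonoidHom k).comp (mkE.codRestrict _ fun y => hC y trivial) * t
  have hxS : x ∈ S := H90.focal_le F hx
  have hg : g ⟨x, hxS⟩ = 1 := by
    have key : ∀ y (hy : y ∈ F.focalSubgroup), g ⟨y, H90.focal_le F hy⟩ = 1 := by
      intro y hy
      induction hy using Subgroup.closure_induction with
      | mem y hy =>
        obtain ⟨P, φ, u, hφ, rfl⟩ := hy
        have h1 : g ⟨u, H90.src_le F hφ u.2⟩ = g ⟨φ u, (F.le_of_mem hφ).2 u⟩ :=
          Subtype.ext (hinv P φ hφ u trivial)
        refine Eq.trans ?_ (inv_mul_cancel (g ⟨u, H90.src_le F hφ u.2⟩))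
        conv_rhs => arg 2; rw [h1]
        rw [← map_inv, ← map_mul]
        rfl
      | one => exact map_one g
      | mul a b ha hb iha ihb =>
        exact (map_mul g ⟨a, H90.focal_le F ha⟩ ⟨b, H90.focal_le F hb⟩).trans
          (by rw [iha, ihb, one_mul])
      | inv a ha iha =>
        exact (map_inv g ⟨a, H90.focal_le F ha⟩).trans (by rw [iha, inv_one])
    exact key x hx
  have hext : ∀ (P : Subgroup Ω) (φ : ↥P →* Ω), φ ∈ F.Hom P →
      ∀ z ∈ F.center, ∀ h : z ∈ P, φ ⟨z, h⟩ = z := by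
    intro P φ hφ z hzc h
    obtain ⟨ψ, -, hψ1, hψ2⟩ := hz.2 P φ hφ
    rw [← hψ1]
    exact (congrArg ψ (Subtype.ext rfl)).trans (hψ2 ⟨z, hzc⟩)
  have ht : t ⟨x, hxS⟩ = 1 := by
    refine hfix ⟨x, hxS⟩ (fun a => ?_)
      fun P φ hφ n h => hext P φ hφ _ (F.center.pow_mem hxz n) h
    have h1 := hext S _ (F.conj_mem le_rfl a.2) x hxz hxS
    refine Subtype.ext ?_
    show x * (a : Ω) = a * x
    simp only [conjHom, MonoidHom.comp_apply, MulEquiv.coe_toMonoidHom, MulAut.conj_apply,
      Subgroup.coe_subtype] at h1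
    conv_lhs => rw [← h1]
    group
  have h1 : mkE ⟨x, hxS⟩ ^ k * (t ⟨x, hxS⟩ : ↥S ⧸ commutator ↥S) = 1 :=
    congrArg Subtype.val hg
  rw [ht, Subgroup.coe_one, mul_one] at h1
  obtain ⟨m, hm⟩ := hS ⟨x, hxS⟩
  have h2 : mkE ⟨x, hxS⟩ ^ p ^ m = 1 := by rw [← map_pow, hm, map_one]
  have h3 := pow_gcd_eq_one.2 ⟨h1, h2⟩
  rw [Nat.Coprime.gcd_eq_one (Nat.Coprime.pow_right m
      (((Fact.out : p.Prime).coprime_iff_not_dvd.2 hk).symm)), pow_one,
    QuotientGroup.mk'_apply, QuotientGroup.eq_one_iff] at h3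
  have h4 := Subgroup.mem_map_of_mem S.subtype h3
  rwa [commutator_def, Subgroup.map_commutator, ← MonoidHom.range_eq_map,
    Subgroup.range_subtype] at h4

end Cfsg.Agent.S5329
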