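import Cfsg.Statements.S5330
import Cfsg.Agent.H91.AbelianSys
import Cfsg.Agent.H91.Fix

set_option autoImplicit false
open Cfsg

namespace Cfsg.Agent.S5330


/-- Let F be a saturated fusion system over a finite abelian p-group S. Then S is the internal direct product of the centre of the system and the focal subgroup: Z(F) ∩ foc(F) = 1 and Z(F)·foc(F) = S. -/
theorem result {Ω : Type*} [Group Ω] {S : Subgroup Ω} [Finite S] (p : ℕ) [Fact p.Prime] (hS : IsPGroup p S) (F : Cfsg.FusionSystem S) (hF : F.IsSaturated p) (hab : ∀ x ∈ S, ∀ y ∈ S, x * y = y * x) : F.center ⊓ F.focalSubgroup = ⊥ ∧ F.center ⊔ F.focalSubgroup = S := by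
  open Cfsg.Agent.FusionSys Cfsg.Agent.H91 Cfsg.FusionSystem in
  classical
  letI : CommGroup S := { (inferInstance : Group S) with
    mul_comm := fun a b => Subtype.ext (hab a a.2 b b.2) }
  haveI := finite_autGroup F (le_refl S)
  let _ : Fintype (F.autGroup S) := Fintype.ofFinite _
  set n := Nat.card (F.autGroup S) with hn
  have hcop : n.Coprime p := coprime_card_autGroup_of_abelian hS hF hab
  -- the norm map
  let N : S →* S := ∏ α : F.autGroup S, ((α : MulAut S) : S ≃* S).toMonoidHom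
  have hN : ∀ x, N x = ∏ α : F.autGroup S, (α : MulAut S) x := fun x => MonoidHom.finset_prod_apply _ _ _
  have hNinv : ∀ (β : F.autGroup S) (x : S), N ((β : MulAut S) x) = N x := by
    intro β x
    rw [hN, hN]
    exact Equiv.prod_comp (Equiv.mulRight β) (fun α : F.autGroup S => (α : MulAut S) x)
  have hNfix : ∀ (β : F.autGroup S) (x : S), (β : MulAut S) (N x) = N x := by
    intro β x
    rw [hN, map_prod]
    exact Equiv.prod_comp (Equiv.mulLeft β) (fun α : F.autGroup S => (α : MulAut S) x)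
  have hfoc : ∀ (β : F.autGroup S) (x : S), (x : Ω)⁻¹ * ((β : MulAut S) x : S) ∈ F.focalSubgroup := by
    intro β x
    obtain ⟨φ, hφ, he⟩ := (mem_autGroup_iff le_rfl).1 β.2
    exact Subgroup.subset_closure ⟨S, φ, x, hφ, by rw [he x, autMap_coe]⟩
  have hker : ∀ y ∈ F.focalSubgroup, ∃ hy : y ∈ S, N ⟨y, hy⟩ = 1 := by
    intro y hy
    induction hy using Subgroup.closure_induction with
    | mem y hy =>
      obtain ⟨P, φ, x, hφ, rfl⟩ := hy
      obtain ⟨α, hα, hαe⟩ := exists_aut_of_abelian hS hF hab (isMap_of_mem hφ)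
      have hxS : (x : Ω) ∈ S := (F.le_of_mem hφ).1 x.2
      have e := hαe x x.2
      rw [autMap_apply α hxS, homFun_coe] at e
      refine ⟨e ▸ S.mul_mem (S.inv_mem hxS) (α ⟨x, hxS⟩).2, ?_⟩
      have : (⟨(x : Ω)⁻¹ * φ x, e ▸ S.mul_mem (S.inv_mem hxS) (α ⟨x, hxS⟩).2⟩ : S) =
          ⟨x, hxS⟩⁻¹ * α ⟨x, hxS⟩ := Subtype.ext (congrArg ((x : Ω)⁻¹ * ·) e.symm)
      rw [this, map_mul, map_inv, hNinv ⟨α, hα⟩, inv_mul_cancel]
    | one => exact ⟨S.one_mem, map_one N⟩
    | mul a b _ _ ha hb =>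
      obtain ⟨ha, ea⟩ := ha
      obtain ⟨hb, eb⟩ := hb
      exact ⟨S.mul_mem ha hb, by rw [show (⟨a * b, S.mul_mem ha hb⟩ : S) = ⟨a, ha⟩ * ⟨b, hb⟩ from rfl,
        map_mul, ea, eb, one_mul]⟩
    | inv a _ ha =>
      obtain ⟨ha, ea⟩ := ha
      exact ⟨S.inv_mem ha, by rw [show (⟨a⁻¹, S.inv_mem ha⟩ : S) = ⟨a, ha⟩⁻¹ from rfl, map_inv, ea, inv_one]⟩
  have hroot : ∀ x : S, ∃ m : ℕ, (x ^ n) ^ m = x := by
    intro x
    obtain ⟨k, hk⟩ := hS x
    exact exists_pow_eq_self_of_coprime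
      ((Nat.Coprime.coprime_dvd_right (orderOf_dvd_of_pow_eq_one hk) (hcop.pow_right k)))
  refine ⟨(Subgroup.eq_bot_iff_forall _).2 fun x hx => ?_, le_antisymm
    (sup_le ((center_le_inter F).trans inf_le_left) fun y hy => (hker y hy).1) fun x hx => ?_⟩
  · obtain ⟨hxS, h1⟩ := hker x hx.2
    have h2 : N ⟨x, hxS⟩ = ⟨x, hxS⟩ ^ n := by
      rw [hN, hn, Nat.card_eq_fintype_card, ← Finset.card_univ, ← Finset.prod_const]
      refine Finset.prod_congr rfl fun α _ => Subtype.ext ?_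
      rw [← autMap_coe]
      exact fixes_center F ((mem_autGroup_iff le_rfl).1 α.2) hx.1 hxS
    obtain ⟨m, hm⟩ := hroot ⟨x, hxS⟩
    rw [← h2, h1, one_pow] at hm
    exact (congrArg Subtype.val hm).symm
  · set X : S := ⟨x, hx⟩
    have hz : (N X : Ω) ∈ F.center := by
      refine mem_center_of_fixes hS hF (N X).2 (fun s hs => hab s hs _ (N X).2) fun Q _ hQc α hα => ?_
      have hQ : Q = S := le_antisymm hQc.1 fun y hy => centralizerIn_le_of_isCentric hQc
        (FusionSys.mem_centralizerIn.2 ⟨hy, fun w hw => hab w (hQc.1 hw) y hy⟩)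
      subst hQ
      rw [autMap_coe]
      exact congrArg Subtype.val (hNfix ⟨α, hα⟩ X)
    have hf : ((X ^ n * (N X)⁻¹ : S) : Ω) ∈ F.focalSubgroup := by
      have e : X ^ n * (N X)⁻¹ = (∏ α : F.autGroup S, (X⁻¹ * (α : MulAut S) X))⁻¹ := by
        rw [Finset.prod_mul_distrib, Finset.prod_const, hN, hn, Nat.card_eq_fintype_card, Finset.card_univ,
          mul_inv_rev, inv_pow, inv_inv, mul_comm]
      rw [e]
      refine F.focalSubgroup.inv_mem ?_
      show _ ∈ (F.focalSubgroup.comap S.subtype)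
      exact Subgroup.prod_mem _ fun α _ => hfoc α X
    obtain ⟨m, hm⟩ := hroot X
    have h3 : ((X ^ n : S) : Ω) ∈ F.center ⊔ F.focalSubgroup := by
      have := Subgroup.mul_mem _ (Subgroup.mem_sup_right (S := F.center) hf)
        (Subgroup.mem_sup_left (T := F.focalSubgroup) hz)
      rwa [← Subgroup.coe_mul, inv_mul_cancel_right] at this
    have h4 := Subgroup.pow_mem _ h3 m
    rwa [← SubmonoidClass.coe_pow, hm] at h4

end Cfsg.Agent.S5330
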