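import Cfsg.Statements.S5331
import Cfsg.Agent.H91.AbelianSys

set_option autoImplicit false
open Cfsg

namespace Cfsg.Agent.S5331

theorem two_torsion {a : ℕ} (ha : 1 ≤ a) (c : ZMod (2 ^ a)) (hc : c + c = 0) :
    c = 0 ∨ c = ((2 ^ (a - 1) : ℕ) : ZMod (2 ^ a)) := by
  obtain ⟨b, rfl⟩ : ∃ b, a = b + 1 := ⟨a - 1, by omega⟩
  have h2 : 2 ^ (b + 1) = 2 * 2 ^ b := by ring
  have h : 2 ^ (b + 1) ∣ c.val + c.val := by
    rw [← ZMod.natCast_eq_zero_iff, Nat.cast_add, ZMod.natCast_val, ZMod.cast_id, hc]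
  have hlt := ZMod.val_lt c
  obtain ⟨t, ht⟩ := h
  have ht2 : t < 2 := by
    by_contra hh
    have : 2 ^ (b + 1) * 2 ≤ 2 ^ (b + 1) * t := Nat.mul_le_mul_left _ (by omega)
    omega
  have hcast : c = (c.val : ZMod (2 ^ (b + 1))) := by rw [ZMod.natCast_val, ZMod.cast_id]
  interval_cases t
  · left
    rw [hcast, show c.val = 0 by omega, Nat.cast_zero]
  · right
    rw [hcast, show c.val = 2 ^ (b + 1 - 1) by rw [Nat.add_sub_cancel]; omega]

theorem odd_order_fix {n : ℕ} {a : Fin n → ℕ} (ha : StrictMono a) (ha1 : ∀ i, 1 ≤ a i)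
    (β : ((i : Fin n) → ZMod (2 ^ a i)) →+ ((i : Fin n) → ZMod (2 ^ a i))) (hinj : Function.Injective β)
    {m : ℕ} (hm : Odd m) (hit : ∀ x, β^[m] x = x) (x : (i : Fin n) → ZMod (2 ^ a i)) : β x = x := by
  have key : ∀ x d : (i : Fin n) → ZMod (2 ^ a i), β x = x + d → β d = d → d + d = 0 → d = 0 := by
    intro x d hx hd hd2
    have hk : ∀ k : ℕ, β^[k] x = x + k • d := by
      intro k
      induction k with
      | zero => simp
      | succ k ih => rw [Function.iterate_succ_apply', ih, map_add, hx, map_nsmul, hd, succ_nsmul', add_assoc]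
    have h := hk m
    rw [hit, eq_comm, add_eq_left] at h
    obtain ⟨r, rfl⟩ := hm
    rwa [add_nsmul, one_nsmul, mul_comm, mul_nsmul', two_nsmul, hd2, smul_zero, zero_add] at h
  have htor : ∀ (k : ℕ) (j : ℕ), n ≤ j + k → ∀ f : (i : Fin n) → ZMod (2 ^ a i), f + f = 0 →
      (∀ i : Fin n, (i : ℕ) < j → f i = 0) → β f = f := by
    intro k
    induction k with
    | zero =>
      intro j hj f _ hz
      rw [show f = 0 from funext fun i => hz i (by omega), map_zero]
    | succ k ih =>
      intro j hj f hf hz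
      by_cases hjn : n ≤ j + k
      · exact ih j hjn f hf hz
      obtain ⟨jj, hjj⟩ : ∃ i : Fin n, (i : ℕ) = j := ⟨⟨j, by omega⟩, rfl⟩
      have next' : ∀ g, g + g = 0 → (∀ i : Fin n, (i : ℕ) < j → g i = 0) → g jj = 0 → β g = g :=
        fun g hg hg1 hg2 => ih (j + 1) (by omega) g hg fun i hi => by
          rcases Nat.lt_succ_iff_lt_or_eq.1 hi with h | h
          · exact hg1 i h
          · rw [show i = jj from Fin.ext (h.trans hjj.symm)]; exact hg2
      by_cases hfj : f jj = 0
      · exact next' f hf hz hfj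
      have hpt : ∀ i, f i + f i = 0 := fun i => congrFun hf i
      -- `f` is divisible by `2 ^ (a j - 1)`
      have hdiv : ∀ i, ∃ c : ZMod (2 ^ a i), f i = (2 ^ (a jj - 1) : ℕ) • c := by
        intro i
        rcases two_torsion (ha1 i) _ (hpt i) with h | h
        · exact ⟨0, by rw [h, smul_zero]⟩
        · rcases lt_or_ge (i : ℕ) j with hi | hi
          · exact ⟨0, by rw [hz i hi, smul_zero]⟩
          · have hle : a jj ≤ a i := ha.monotone (show jj ≤ i from by rw [Fin.le_def]; omega)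
            refine ⟨((2 ^ (a i - a jj) : ℕ) : ZMod (2 ^ a i)), ?_⟩
            rw [h, nsmul_eq_mul, ← Nat.cast_mul, ← pow_add]
            congr 2
            have := ha1 jj
            omega
      choose g hg using hdiv
      have hfg : f = (2 ^ (a jj - 1) : ℕ) • g := funext hg
      have hlow : ∀ i : Fin n, (i : ℕ) < j → β f i = 0 := by
        intro i hi
        have hlt : a i < a jj := ha (show i < jj from by rw [Fin.lt_def]; omega)
        obtain ⟨r, hr⟩ : 2 ^ a i ∣ 2 ^ (a jj - 1) := Nat.pow_dvd_pow 2 (by omega)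
        rw [hfg, map_nsmul, Pi.smul_apply, hr, nsmul_eq_mul, Nat.cast_mul, ZMod.natCast_self, zero_mul,
          zero_mul]
      have hβ2 : β f + β f = 0 := by rw [← map_add, hf, map_zero]
      rcases two_torsion (ha1 jj) _ (congrFun hβ2 jj) with h | h
      · have h2 := next' (β f) hβ2 hlow h
        exact hinj h2
      · have hfv := (two_torsion (ha1 jj) _ (hpt jj)).resolve_left hfj
        have hd2 : β f - f + (β f - f) = 0 := by
          rw [sub_add_sub_comm, hf, hβ2, sub_zero]
        have hd := next' (β f - f) hd2 (fun i hi => by rw [Pi.sub_apply, hlow i hi, hz i hi, sub_zero])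
          (by rw [Pi.sub_apply, h, hfv, sub_self])
        exact sub_eq_zero.1 (key f (β f - f) (add_sub_cancel f (β f)).symm hd hd2)
  have hall : ∀ (k : ℕ) (x : (i : Fin n) → ZMod (2 ^ a i)), (2 ^ k : ℕ) • x = 0 → β x = x := by
    intro k
    induction k with
    | zero => intro x hx; rw [pow_zero, one_nsmul] at hx; rw [hx, map_zero]
    | succ k ih =>
      intro x hx
      have h2 : β (x + x) = x + x := ih _ (by rw [← two_nsmul, ← mul_nsmul, ← pow_succ', hx])
      rw [map_add] at h2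
      have hd2 : β x - x + (β x - x) = 0 := by rw [sub_add_sub_comm, h2, sub_self]
      exact sub_eq_zero.1 (key x (β x - x) (add_sub_cancel x (β x)).symm
        (htor n 0 (by omega) _ hd2 fun i hi => absurd hi (Nat.not_lt_zero _)) hd2)
  refine hall (∑ i, a i) x (funext fun i => ?_)
  obtain ⟨r, hr⟩ : 2 ^ a i ∣ 2 ^ (∑ i, a i) :=
    Nat.pow_dvd_pow 2 (Finset.single_le_sum (fun j _ => Nat.zero_le _) (Finset.mem_univ i))
  rw [Pi.smul_apply, hr, nsmul_eq_mul, Nat.cast_mul, ZMod.natCast_self, zero_mul, zero_mul, Pi.zero_apply]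


/-- Let S be a finite abelian 2-group that is a direct product of cyclic groups of pairwise distinct orders 2^{a_1} < 2^{a_2} < ⋯ < 2^{a_n} (all a_i ≥ 1). Then every saturated fusion system over S is the inner one: its maps are exactly the conjugations by elements of S. -/
theorem result {Ω : Type*} [Group Ω] {S : Subgroup Ω} [Finite S] (n : ℕ) (a : Fin n → ℕ) (ha : StrictMono a) (ha1 : ∀ i, 1 ≤ a i) (e : ↥S ≃* Multiplicative ((i : Fin n) → ZMod (2 ^ a i))) (F : Cfsg.FusionSystem S) (hF : F.IsSaturated 2) (P : Subgroup Ω) : F.Hom P = (Cfsg.innerFusionSystem S).Hom P := by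
  open Cfsg.Agent.FusionSys Cfsg.Agent.H91 Cfsg.FusionSystem in
  classical
  haveI : Fact (Nat.Prime 2) := ⟨Nat.prime_two⟩
  have hab : ∀ x ∈ S, ∀ y ∈ S, x * y = y * x := fun x hx y hy =>
    congrArg Subtype.val (e.injective (by rw [map_mul, map_mul, mul_comm]) :
      (⟨x, hx⟩ : S) * ⟨y, hy⟩ = ⟨y, hy⟩ * ⟨x, hx⟩)
  obtain ⟨-, hS⟩ : True ∧ IsPGroup 2 S := ⟨trivial, IsPGroup.of_equiv (fun x => ⟨∑ i, a i, by
    refine congrArg Multiplicative.ofAdd (funext fun i => ?_ : (2 ^ (∑ i, a i) : ℕ) • x.toAdd = 0)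
    obtain ⟨r, hr⟩ : 2 ^ a i ∣ 2 ^ (∑ i, a i) :=
      Nat.pow_dvd_pow 2 (Finset.single_le_sum (fun j _ => Nat.zero_le _) (Finset.mem_univ i))
    rw [Pi.smul_apply, hr, nsmul_eq_mul, Nat.cast_mul, ZMod.natCast_self, zero_mul, zero_mul, Pi.zero_apply]⟩)
    e.symm⟩
  haveI := finite_autGroup F (le_refl S)
  have hid : ∀ α ∈ F.autGroup S, ∀ y ∈ S, autMap α y = y := by
    intro α hα
    let β : ((i : Fin n) → ZMod (2 ^ a i)) →+ ((i : Fin n) → ZMod (2 ^ a i)) :=
      AddMonoidHom.mk' (fun x => (e (α (e.symm (Multiplicative.ofAdd x)))).toAdd)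
        fun x y => by rw [ofAdd_add, map_mul, map_mul, map_mul, toAdd_mul]
    have hit : ∀ (k : ℕ) x, β^[k] x = (e ((α ^ k) (e.symm (Multiplicative.ofAdd x)))).toAdd := by
      intro k x
      induction k with
      | zero => simp
      | succ k ih =>
        rw [Function.iterate_succ_apply', ih, pow_succ']
        simp [β, MulAut.mul_apply]
    have hodd : Odd (orderOf α) := by
      have h1 : orderOf α ∣ Nat.card (F.autGroup S) := by
        rw [← Subgroup.orderOf_mk α hα]; exact orderOf_dvd_natCard _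
      exact Nat.coprime_two_right.1 ((coprime_card_autGroup_of_abelian hS hF hab).coprime_dvd_left h1)
    intro y hy
    have h := odd_order_fix ha ha1 β (fun u v huv => by simpa [β] using huv) hodd
      (fun x => by rw [hit, pow_orderOf_eq_one]; simp) (e ⟨y, hy⟩).toAdd
    rw [autMap_apply α hy]
    exact congrArg Subtype.val (show α ⟨y, hy⟩ = ⟨y, hy⟩ by simpa [β] using h)
  refine Set.Subset.antisymm ?_ (innerFusionSystem_le F P)
  intro φ hφ
  have hm := isMap_of_mem hφ
  obtain ⟨α, hα, hαe⟩ := exists_aut_of_abelian hS hF hab hm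
  exact mem_hom_iff_isMap.2 (isMap_inner_iff.2 ⟨hm.le, 1, S.one_mem, fun y hy => by
    rw [← hαe y hy, hid α hα y (hm.le hy), one_mul, inv_one, mul_one]⟩)

end Cfsg.Agent.S5331
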