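import Cfsg.Statements.S5332
import Cfsg.Agent.H91.NormSat
import Cfsg.Agent.H91.Nilpotency

set_option autoImplicit false
open Cfsg

namespace Cfsg.Agent.S5332


/-- Let p be odd and F a saturated fusion system over a finite p-group S that is not the inner system of S. Then F contains a saturated constrained subsystem over S that is itself not the inner system. -/
theorem result {Ω : Type*} [Group Ω] {S : Subgroup Ω} [Finite S] (p : ℕ) [Fact p.Prime] (hS : IsPGroup p S) (F : Cfsg.FusionSystem S) (hF : F.IsSaturated p) (hp : p ≠ 2) (hne : ∃ P : Subgroup Ω, F.Hom P ≠ (Cfsg.innerFusionSystem S).Hom P) : ∃ E : Cfsg.FusionSystem S, E ≤ F ∧ E.IsConstrained p ∧ ∃ P : Subgroup Ω, E.Hom P ≠ (Cfsg.innerFusionSystem S).Hom P := by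
  open Cfsg.Agent.FusionSys Cfsg.Agent.H91 Cfsg.FusionSystem in
  classical
  by_cases hex : ∃ L : Subgroup Ω, F.IsCentric L ∧ normalizerIn S L = S ∧ ¬ F.autGroup L ≤ autInducedBy S L
  · obtain ⟨L, hL, hLN, hnot⟩ := hex
    have hn : S ≤ Subgroup.normalizer (L : Set Ω) := fun s hs => (hLN.ge hs).2
    haveI := finite_of_le hL.1
    refine ⟨normSys F L hL.1 hn, normSys_le hL.1 hn, ⟨normSys_isSaturated hS hF hL hn, L,
      normSys_isNormal hL.1 hn, normSys_isCentric hL hn⟩, L, fun heq => hnot fun α hα => ?_⟩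
    rw [← normSys_autGroup_self (F := F) hL.1 hn] at hα
    obtain ⟨φ, hφ, hφe⟩ := (mem_autGroup_iff hL.1).1 hα
    rw [heq] at hφ
    obtain ⟨-, a, ha, hae⟩ := isMap_inner_iff.1 (⟨φ, hφ, hφe⟩ : IsMap (innerFusionSystem S) L (autMap α))
    refine mem_autInducedBy.2 ⟨a, ha, hn ha, aut_ext fun y hy => ?_⟩
    rw [hae y hy, autMap_conjAut _ hy]
    rfl
  · push Not at hex
    obtain ⟨P, hP⟩ := hne
    refine absurd ?_ hP
    have hle : F ≤ innerFusionSystem S := le_of_aut F _ hS hF fun Q h1 h2 =>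
      (aut_inner_of_normal hS hF hp hex Q h1 h2).trans (autInducedBy_le_autGroup _ h1.1)
    exact Set.Subset.antisymm (hle P) (innerFusionSystem_le F P)

end Cfsg.Agent.S5332
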