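import Cfsg.Statements.S5333
import Cfsg.Agent.H91.CentSys

set_option autoImplicit false
open Cfsg

namespace Cfsg.Agent.S5333

open Cfsg.Agent.FusionSys Cfsg.Agent.H91 Cfsg.FusionSystem in
theorem le_of_centralizers {Ω : Type*} [Group Ω] {S : Subgroup Ω} [Finite S] (p : ℕ) [Fact p.Prime]
    (hS : IsPGroup p S) (F F' : Cfsg.FusionSystem S) (hF' : F'.IsSaturated p) (hle : F' ≤ F)
    (hZ : ∀ Z : Subgroup Ω, Z ≤ S → Nat.card Z = p → F'.IsFullyCentralized Z → F.Hom Z = F'.Hom Z ∧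
      ∀ (C C' : Cfsg.FusionSystem (centralizerIn S Z)), F.IsCentralizerSystem Z C →
        F'.IsCentralizerSystem Z C' → ∀ P : Subgroup Ω, C.Hom P = C'.Hom P) : F ≤ F' := by
  refine le_iff_isMap.2 fun P f hf => ?_
  have hPS := hf.le
  haveI := finite_of_le hPS
  rcases eq_or_ne P ⊥ with hP | hP
  · refine (isMap_id F' hPS).congr fun x hx => ?_
    rw [hP, Subgroup.mem_bot] at hx
    rw [hx, hf.map_one]; rfl
  haveI : Nontrivial P := (Subgroup.nontrivial_iff_ne_bot P).2 hP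
  haveI := (hS.to_le hPS).center_nontrivial
  obtain ⟨n, hn⟩ := IsPGroup.iff_card.1 ((hS.to_le hPS).to_subgroup (Subgroup.center P))
  have hn0 : n ≠ 0 := fun h => by rw [h, pow_zero] at hn; exact absurd hn Finite.one_lt_card.ne'
  obtain ⟨z, hz⟩ := exists_prime_orderOf_dvd_card' (G := Subgroup.center P) p (hn ▸ dvd_pow_self p hn0)
  set Z := Subgroup.zpowers ((z : P) : Ω) with hZdef
  have hZP : Z ≤ P := Subgroup.zpowers_le.2 (z : P).2
  have hZcard : Nat.card Z = p := by rw [Nat.card_zpowers, Subgroup.orderOf_coe, Subgroup.orderOf_coe, hz]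
  have hPC : P ≤ centralizerIn S Z := fun x hx => FusionSys.mem_centralizerIn.2 ⟨hPS hx, fun y hy => by
    obtain ⟨i, rfl⟩ := Subgroup.mem_zpowers_iff.1 hy
    exact ((show Commute ((z : P) : Ω) x from
      (congrArg Subtype.val (Subgroup.mem_center_iff.1 z.2 ⟨x, hx⟩)).symm).zpow_left i).eq⟩
  have hfZ : IsIso F Z (imgSub f Z) f := (hf.mono hZP).isIso
  set Z1 := imgSub f Z with hZ1
  obtain ⟨Z', hc, hn'⟩ := exists_isFullyNormalized F' (hZP.trans hPS)
  have hfc := isFullyCentralized_of_isFullyNormalized hS hF' hn'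
  obtain ⟨hHom, hC⟩ := hZ Z' hfc.1 (by rw [← card_eq_of_isConj hc, hZcard]) hfc
  have hR := receptive_of_isFullyCentralized hS hF' hfc
  obtain ⟨u₀, hu₀⟩ := isConj_iff.1 hc
  obtain ⟨u, hu, hue⟩ := receptive_extend hR hu₀ (N := centralizerIn S Z)
    fun x hx => hu₀.isMap.inExt_of_centralizes hx
  have hui : IsIso F' Z Z' u := hu₀.congr hue
  obtain ⟨ui, huii, hl, hr⟩ := hui.exists_symm
  have hFiso : IsMap F Z' (f ∘ ui) := (le_iff_isMap.1 hle _ _ huii.isMap).comp (hf.mono hZP)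
    fun x hx => huii.mem hx
  have hF'iso : IsMap F' Z' (f ∘ ui) := by
    obtain ⟨φ, hφ, he⟩ := hFiso
    exact ⟨φ, hHom ▸ hφ, he⟩
  have hfZ' : IsIso F' Z Z1 f := ⟨(hui.isMap.comp hF'iso fun x hx => hui.mem hx).congr fun x hx => by
    show f x = f (ui (u x)); rw [hl x hx], hfZ.image_eq⟩
  obtain ⟨fi, hfi, hfl, -⟩ := hfZ'.exists_symm
  obtain ⟨k, hk, hke⟩ := receptive_extend hR (hfi.comp hui) (N := centralizerIn S Z1)
    fun x hx => (hfi.comp hui).isMap.inExt_of_centralizes hx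
  have hfC : ∀ x ∈ P, f x ∈ centralizerIn S Z1 := fun x hx =>
    hf.mem_centralizerIn hZP hx (FusionSys.mem_centralizerIn.1 (hPC hx)).2
  have huP : IsMap F' P u := hu.mono (hPC.trans le_sup_left)
  obtain ⟨v, hv, hvl⟩ := huP.exists_inv
  set P' := imgSub u P with hP'
  have hvP : ∀ y ∈ P', v y ∈ P := by
    intro y hy
    obtain ⟨x, hx, rfl⟩ := huP.mem_imgSub.1 hy
    rwa [hvl x hx]
  have hZ'P : Z' ≤ P' := fun y hy => by
    obtain ⟨x, hx, rfl⟩ := hui.exists_preimage hy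
    exact huP.mem_imgSub.2 ⟨x, hZP hx, rfl⟩
  have hgF : IsMap F P' (k ∘ (f ∘ v)) := ((le_iff_isMap.1 hle _ _ hv).comp hf hvP).comp
    (le_iff_isMap.1 hle _ _ hk) fun y hy => Subgroup.mem_sup_left (hfC _ (hvP y hy))
  have hgZ : ∀ y ∈ Z', (k ∘ (f ∘ v)) y = y := by
    intro y hy
    obtain ⟨x, hx, rfl⟩ := hui.exists_preimage hy
    show k (f (v (u x))) = u x
    rw [hvl x (hZP hx), hke _ (hfZ.mem hx)]
    show u (fi (f x)) = u x
    rw [hfl x hx]
  have hP'C : P' ≤ centralizerIn S Z' := fun y hy => by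
    obtain ⟨x, hx, rfl⟩ := huP.mem_imgSub.1 hy
    exact hui.mem_centralizerIn_of_extends hu le_sup_right (fun _ _ => rfl)
      (Subgroup.mem_sup_left (hPC hx)) (hPC hx)
  have hgC : ∀ y ∈ P', (k ∘ (f ∘ v)) y ∈ centralizerIn S Z' := fun y hy =>
    (hfi.comp hui).mem_centralizerIn_of_extends hk le_sup_right hke
      (Subgroup.mem_sup_left (hfC _ (hvP y hy))) (hfC _ (hvP y hy))
  obtain ⟨ψ, hψ, hψe⟩ := hgF
  have hmem : ψ ∈ F.centralizerHom Z' P' := (centralizerHom_iff F).2 ⟨hP'C, fun x => (hψe x).symm ▸ hgC x x.2,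
    k ∘ (f ∘ v), (show IsMap F P' (k ∘ (f ∘ v)) from ⟨ψ, hψ, hψe⟩).mono (sup_le le_rfl hZ'P),
    fun x => (hψe x).symm, hgZ⟩
  have hmem' : ψ ∈ (centSys F' hfc.1).Hom P' :=
    hC (centSys F hfc.1) (centSys F' hfc.1) (isCentralizerSystem_centSys F hfc.1)
      (isCentralizerSystem_centSys F' hfc.1) P' ▸ hmem
  have hgF' : IsMap F' P' (k ∘ (f ∘ v)) := ⟨ψ, hmem'.1, hψe⟩
  have hkf : IsMap F' P (k ∘ f) := (huP.comp hgF' fun x hx => huP.mem_imgSub.2 ⟨x, hx, rfl⟩).congr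
    fun x hx => by show k (f x) = k (f (v (u x))); rw [hvl x hx]
  obtain ⟨j, hj, hjl⟩ := hk.exists_inv
  exact (hkf.comp hj fun x hx => hk.mem_imgSub.2 ⟨f x, Subgroup.mem_sup_left (hfC x hx), rfl⟩).congr
    fun x hx => (hjl _ (Subgroup.mem_sup_left (hfC x hx))).symm


/-- Let F′ ≤ F be saturated fusion systems over the same finite p-group S. Suppose that for every subgroup Z ≤ S of order p that is fully centralized in F′, the maps of F and of F′ with source Z coincide and the centralizer systems C_F(Z) and C_{F′}(Z) coincide. Then F = F′. -/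
theorem result {Ω : Type*} [Group Ω] {S : Subgroup Ω} [Finite S] (p : ℕ) [Fact p.Prime] (hS : IsPGroup p S) (F : Cfsg.FusionSystem S) (hF : F.IsSaturated p) (F' : Cfsg.FusionSystem S) (hF' : F'.IsSaturated p) (hle : F' ≤ F) (hZ : ∀ Z : Subgroup Ω, Z ≤ S → Nat.card Z = p → F'.IsFullyCentralized Z → F.Hom Z = F'.Hom Z ∧ ∀ (C C' : Cfsg.FusionSystem (Cfsg.FusionSystem.centralizerIn S Z)), F.IsCentralizerSystem Z C → F'.IsCentralizerSystem Z C' → ∀ P : Subgroup Ω, C.Hom P = C'.Hom P) (P : Subgroup Ω) : F.Hom P = F'.Hom P := by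
  exact Set.Subset.antisymm (le_of_centralizers p hS F F' hF' hle hZ P) (hle P)

end Cfsg.Agent.S5333
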