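import Cfsg.Statements.S5334
import Cfsg.Agent.FusionSys.Centric

set_option autoImplicit false
open Cfsg

namespace Cfsg.Agent.S5334

/-- Let F′ ≤ F be saturated fusion systems over the same finite p-group S, let Q and R be F-centric subgroups, φ a map of F with source Q and values in R, and ψ a map of F with source R. If two of φ, ψ and the composite ψ ∘ φ are maps of F′ then so is the third. -/
theorem result {Ω : Type*} [Group Ω] {S : Subgroup Ω} [Finite S] (p : ℕ) [Fact p.Prime] (hS : IsPGroup p S) (F : Cfsg.FusionSystem S) (hF : F.IsSaturated p) (F' : Cfsg.FusionSystem S) (hF' : F'.IsSaturated p) (hle : F' ≤ F) (Q R : Subgroup Ω) (hQ : F.IsCentric Q) (hR : F.IsCentric R) (φ : ↥Q →* Ω) (hφ : φ ∈ F.Hom Q) (hφR : ∀ x : Q, φ x ∈ R) (ψ : ↥R →* Ω) (hψ : ψ ∈ F.Hom R) : (φ ∈ F'.Hom Q → ψ ∈ F'.Hom R → ψ.comp (φ.codRestrict R hφR) ∈ F'.Hom Q) ∧ (ψ ∈ F'.Hom R → ψ.comp (φ.codRestrict R hφR) ∈ F'.Hom Q → φ ∈ F'.Hom Q) ∧ (φ ∈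 F'.Hom Q → ψ.comp (φ.codRestrict R hφR) ∈ F'.Hom Q → ψ ∈ F'.Hom R) := by
  have hi := (FusionSys.isMap_of_mem hφ).isIso
  have hle' : FusionSys.imgSub (FusionSys.homFun φ) Q ≤ R := fun y hy => by
    obtain ⟨x, hx, rfl⟩ := hi.exists_preimage hy
    rw [FusionSys.homFun_mem φ hx]
    exact hφR _
  have hcomp : ∀ x ∈ Q, FusionSys.homFun (ψ.comp (φ.codRestrict R hφR)) x =
      FusionSys.homFun ψ (FusionSys.homFun φ x) := fun x hx => by
    rw [FusionSys.homFun_mem _ hx, FusionSys.homFun_mem φ hx, FusionSys.homFun_mem ψ (hφR ⟨x, hx⟩)]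
    rfl
  refine ⟨fun h1 h2 => F'.comp_mem h1 h2 hφR, fun h1 h2 => ?_, fun h1 h2 => ?_⟩
  · obtain ⟨g, hg, hge⟩ := (FusionSys.isMap_of_mem h1).exists_inv
    refine FusionSys.mem_hom_iff_isMap.2 (((FusionSys.isMap_of_mem h2).comp hg fun x hx => ?_).congr
      fun x hx => ?_)
    · rw [hcomp x hx]
      exact (FusionSys.isMap_of_mem h1).mem_imgSub.2 ⟨_, hle' (hi.mem hx), rfl⟩
    · rw [Function.comp_apply, hcomp x hx, hge _ (hle' (hi.mem hx))]
  · obtain ⟨g, hg, hge⟩ := (FusionSys.isMap_of_mem h1).exists_inv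
    refine FusionSys.mem_hom_iff_isMap.2 (FusionSys.isMap_of_centric_restrict hS hF hF' hle
      (FusionSys.isCentric_of_isConj hQ hi.isConj) hle' (FusionSys.isMap_of_mem hψ) ?_)
    refine (hg.comp (FusionSys.isMap_of_mem h2) fun y hy => ?_).congr fun y hy => ?_
    · obtain ⟨x, hx, rfl⟩ := hi.exists_preimage hy
      rw [hge x hx]
      exact hx
    · obtain ⟨x, hx, rfl⟩ := hi.exists_preimage hy
      rw [Function.comp_apply, hge x hx, hcomp x hx]

end Cfsg.Agent.S5334
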