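import Cfsg.Statements.S5338
import Cfsg.Agent.FusionSys.Alperin

set_option autoImplicit false
open Cfsg

namespace Cfsg.Agent.S5338

/-- Let F be a saturated fusion system over a finite p-group S and F′ ≤ F a saturated subsystem over all of S that is invariant under F in the conjugation sense: for every map φ of F with source Q and every map ψ of F′ between subgroups R ≤ Q (with values in Q), the transported map φψφ⁻¹ defined on φ(R) is again a map of F′. If moreover Aut_{F′}(S) = Aut_F(S), then F′ = F. -/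
theorem result {Ω : Type*} [Group Ω] {S : Subgroup Ω} [Finite S] (p : ℕ) [Fact p.Prime] (hS : IsPGroup p S) (F : Cfsg.FusionSystem S) (hF : F.IsSaturated p) (F' : Cfsg.FusionSystem S) (hF' : F'.IsSaturated p) (hle : F' ≤ F) (hinv : ∀ (Q : Subgroup Ω) (φ : ↥Q →* Ω), φ ∈ F.Hom Q → ∀ (R : Subgroup Ω) (hRQ : R ≤ Q) (ψ : ↥R →* Ω), ψ ∈ F'.Hom R → ∀ (hψQ : ∀ x : R, ψ x ∈ Q), ∃ χ ∈ F'.Hom ((R.subgroupOf Q).map φ), ∀ (x : R) (hx : φ ⟨(x : Ω), hRQ x.2⟩ ∈ (R.subgroupOf Q).map φ), χ ⟨φ ⟨(x : Ω), hRQ x.2⟩, hx⟩ = φ ⟨ψ x, hψQ x⟩) (htop : F'.autGroup S = F.autGroup S) (P : Subgroup Ω) : F'.Hom P = F.Hom P := by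
  refine Set.Subset.antisymm (hle P) (FusionSys.le_of_autGroup_fullyNormalized hS hF ?_ P)
  intro R hR big α hα
  by_cases hRS : R = S
  · subst hRS
    rwa [htop]
  have hlt : R < S := lt_of_le_of_ne hR.1 hRS
  haveI := FusionSys.finite_autGroup F hR.1
  have hle' : F'.autGroup R ≤ F.autGroup R := fun β hβ => FusionSys.mem_autGroup_of_isMap
    (FusionSys.le_iff_isMap.1 hle _ _ ((FusionSys.mem_autGroup_iff hR.1).1 hβ))
  set N := (F'.autGroup R).subgroupOf (F.autGroup R) with hN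
  haveI : N.Normal := by
    refine ⟨?_⟩
    rintro ⟨β, hβ⟩ hβN ⟨γ, hγ⟩
    rw [Subgroup.mem_subgroupOf] at hβN ⊢
    obtain ⟨φ, hφ, hφe⟩ := (FusionSys.mem_autGroup_iff hR.1).1 hγ
    obtain ⟨ψ, hψ, hψe⟩ := (FusionSys.mem_autGroup_iff hR.1).1 hβN
    have hψR : ∀ x : R, ψ x ∈ R := fun x => (hψe x).symm ▸ FusionSys.autMap_mem β x.2
    obtain ⟨χ, hχ, hχe⟩ := hinv R φ hφ R le_rfl ψ hψ hψR
    have hT : (R.subgroupOf R).map φ = R := by
      refine le_antisymm ?_ fun x hx => ⟨⟨_, FusionSys.autMap_mem γ⁻¹ hx⟩,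
        Subgroup.mem_subgroupOf.2 (FusionSys.autMap_mem γ⁻¹ hx),
        (hφe _).trans (FusionSys.autMap_inv_apply γ hx)⟩
      rintro _ ⟨x, -, rfl⟩
      rw [hφe]
      exact FusionSys.autMap_mem γ x.2
    refine FusionSys.mem_autGroup_of_isMap ?_
    have hχ' := FusionSys.isMap_of_mem hχ
    replace hχ' := hχ'.mono hT.ge
    refine hχ'.congr fun y hy => ?_
    have hy' := FusionSys.autMap_inv_apply γ hy
    have hxR := FusionSys.autMap_mem γ⁻¹ hy
    have hmem : φ ⟨_, hxR⟩ ∈ (R.subgroupOf R).map φ :=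
      ⟨⟨_, hxR⟩, Subgroup.mem_subgroupOf.2 hxR, rfl⟩
    have h1 := hχe ⟨_, hxR⟩ hmem
    have h2 : FusionSys.homFun χ y = χ ⟨φ ⟨_, hxR⟩, hmem⟩ := by
      rw [← FusionSys.homFun_mem χ hmem, hφe, hy']
    show FusionSys.autMap (γ * β * γ⁻¹) y = FusionSys.homFun χ y
    rw [h2, h1, hφe, FusionSys.autMap_mul _ _ hy, FusionSys.autMap_mul _ _ hxR]
    show _ = FusionSys.autMap γ (ψ ⟨_, hxR⟩)
    rw [hψe]
  obtain ⟨-, T, hT⟩ := FusionSys.isFullyAutomized_of_isFullyNormalized hS hF hR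
  have hTN : (T : Subgroup (F.autGroup R)) ≤ N := by
    rw [hT]
    exact fun x hx => FusionSys.autInducedBy_le_autGroup F' hR.1 hx
  have hmem : (⟨α, hα⟩ : F.autGroup R) ∈
      Subgroup.normalizer ((T : Subgroup (F.autGroup R)) : Set (F.autGroup R)) ⊔ N :=
    (Sylow.normalizer_sup_eq_top' T hTN).ge (Subgroup.mem_top _)
  obtain ⟨n, hn, m, hm, he⟩ := Subgroup.mem_sup_of_normal_right.1 hmem
  have hnE : (n : MulAut R) ∈ F'.autGroup R := by
    obtain ⟨g, hg, hge⟩ := FusionSys.receptive_extend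
      (FusionSys.receptive_of_isFullyNormalized hS hF hR) (FusionSys.isIso_autMap hR.1 n.2)
      (N := FusionSystem.normalizerIn S R) fun x hx => by
        refine FusionSys.inExt_autMap hx.1 hx.2 ?_
        have hc : (⟨_, FusionSys.conjAut_mem_autGroup F hR.1 hx⟩ : F.autGroup R) ∈
            (T : Subgroup (F.autGroup R)) := by
          rw [hT]
          exact FusionSys.mem_autInducedBy.2 ⟨x, hx.1, hx.2, rfl⟩
        have := (Subgroup.mem_normalizer_iff.1 hn _).1 hc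
        rw [hT] at this
        exact this
    refine FusionSys.mem_autGroup_of_isMap (((big _ g ?_ (hg.mono le_sup_left)).mono
      (FusionSys.le_normalizerIn_self hR.1)).congr fun x hx => (hge x hx).symm)
    exact FusionSys.card_lt_card_normalizerIn hS hlt
  have : α = (n : MulAut R) * (m : MulAut R) := (congrArg Subtype.val he).symm
  rw [this]
  exact mul_mem hnE hm

end Cfsg.Agent.S5338
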