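import Cfsg.Statements.S5341
import Cfsg.Agent.FusionSys.Saturated

set_option autoImplicit false
open Cfsg

namespace Cfsg.Agent.S5341


/-- Let F be a saturated fusion system over a finite p-group S, T a subgroup strongly closed in F, and F′ any fusion system over T all of whose maps are maps of F. For a subgroup Q ≤ T: if Q is fully centralized in F then it is fully centralized in F′, and if Q is fully normalized in F then it is fully normalized in F′. -/
theorem result {Ω : Type*} [Group Ω] {S : Subgroup Ω} [Finite S] (p : ℕ) [Fact p.Prime] (hS : IsPGroup p S) (F : Cfsg.FusionSystem S) (hF : F.IsSaturated p) (T : Subgroup Ω) (hT : F.StronglyClosed T) (F' : Cfsg.FusionSystem T) (hsub : F'.IsSubsystemOf F) (Q : Subgroup Ω) (hQT : Q ≤ T) : (F.IsFullyCentralized Q → F'.IsFullyCentralized Q) ∧ (F.IsFullyNormalized Q → F'.IsFullyNormalized Q) := by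
  open Cfsg.Agent.FusionSys Cfsg.FusionSystem in
  classical
  have hTS := hT.1
  haveI := finite_of_le hTS
  have hconj : ∀ R, F'.IsConj Q R → R ≤ T ∧ F.IsConj R Q := fun R hR => by
    obtain ⟨f, hf⟩ := isConj_iff.1 hR
    exact ⟨hf.target_le,
      isConj_symm (IsIso.mk (isSubsystemOf_iff_isMap.1 hsub _ _ hf.isMap) hf.image_eq).isConj⟩
  refine ⟨fun h => ⟨hQT, fun R hR => ?_⟩, fun h => ⟨hQT, fun R hR => ?_⟩⟩
  · obtain ⟨hRT, hc⟩ := hconj R hR
    obtain ⟨f, hf⟩ := isConj_iff.1 hc
    obtain ⟨g, hg, he⟩ := receptive_extend (receptive_of_isFullyCentralized hS hF h) hf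
      (N := centralizerIn S R) fun x hx => hf.isMap.inExt_of_centralizes hx
    have hle : centralizerIn T R ≤ centralizerIn S R := inf_le_inf_right _ hTS
    haveI := finite_of_le (S := T) (P := centralizerIn T Q) centralizerIn_le
    refine card_le_of_mapsTo hg (hle.trans le_sup_left) fun x hx => ?_
    exact ⟨(stronglyClosed_iff.1 hT).2 _ g centralizerIn_le
      (hg.mono (hle.trans le_sup_left)) x hx,
      (hf.mem_centralizerIn_of_extends hg le_sup_right he (Subgroup.mem_sup_left (hle hx)) (hle hx)).2⟩
  · obtain ⟨hRT, hc⟩ := hconj R hR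
    obtain ⟨g, hg, hgi, hgm⟩ := exists_map_to_fullyNormalized hS hF h hc
    have hle : normalizerIn T R ≤ normalizerIn S R := inf_le_inf_right _ hTS
    haveI := finite_of_le (S := T) (P := normalizerIn T Q) normalizerIn_le
    exact card_le_of_mapsTo hg hle fun x hx =>
      ⟨(stronglyClosed_iff.1 hT).2 _ g normalizerIn_le (hg.mono hle) x hx, (hgm x (hle hx)).2⟩

end Cfsg.Agent.S5341
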