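import Cfsg.Statements.S5350
import Cfsg.Agent.Components.TTStructure
import Cfsg.Agent.Components.TTZStar

set_option autoImplicit false
open Cfsg
open Cfsg.Agent.Components

namespace Cfsg.Agent.S5350

/-- Let D be a conjugacy class of 3-transpositions generating the finite group G, with at least two members, and d a member of D. Then the set of members w of D whose commuting partners in D (other than w) are exactly those of d (other than d) coincides with the set of members of D lying in the coset of d modulo the largest normal 3-subgroup of G, and also with the orbit of d under conjugation by that normal 3-subgroup. -/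
theorem result {G : Type*} [Group G] [Finite G] {D : Set G} (hD : Cfsg.IsThreeTranspositionClass D) (hD2 : ∃ a ∈ D, ∃ b ∈ D, a ≠ b) {d : G} (hd : d ∈ D) : {w : G | w ∈ D ∧ {y : G | y ∈ D ∧ y ≠ d ∧ Commute d y} = {y : G | y ∈ D ∧ y ≠ w ∧ Commute w y}} = {w : G | w ∈ D ∧ d⁻¹ * w ∈ Cfsg.pCore 3 G} ∧ {w : G | w ∈ D ∧ {y : G | y ∈ D ∧ y ≠ d ∧ Commute d y} = {y : G | y ∈ D ∧ y ≠ w ∧ Commute w y}} = {w : G | ∃ g ∈ Cfsg.pCore 3 G, w = g * d * g⁻¹} := by
  have h1 : ∀ v, v ∈ D ∧ ttNb D d = ttNb D v → d * v ∈ Cfsg.pCore 3 G :=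
    fun v hv => sameNb_mul_mem_pCore_three zStarTheorem hD hd hv.1 hv.2
  constructor <;> ext v
  · exact ⟨fun hv => ⟨hv.1, (mul_mem_coset_iff hD.1 hd _).2 (h1 v hv)⟩,
      fun hv => ⟨hv.1, ttNb_eq_of_pCore_three hD.1 hd hv.1 ((mul_mem_coset_iff hD.1 hd _).1 hv.2)⟩⟩
  · constructor
    · exact fun hv => exists_conj_of_pCore_three hD.1 hd hv.1 (h1 v hv)
    · rintro ⟨g, hg, rfl⟩
      obtain ⟨hm, hc⟩ := coset_of_conj hD hd hg
      exact ⟨hm, ttNb_eq_of_pCore_three hD.1 hd hm ((mul_mem_coset_iff hD.1 hd _).1 hc)⟩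

end Cfsg.Agent.S5350
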