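import Cfsg.Statements.S5351
import Cfsg.Agent.Components.TTStructure
import Cfsg.Agent.Components.TTZStar

set_option autoImplicit false
open Cfsg
open Cfsg.Agent.Components

namespace Cfsg.Agent.S5351

/-- Let D be a conjugacy class of 3-transpositions generating the finite group G, with at least two members. Then for every prime p > 3 the largest normal p-subgroup of G is central, and exactly one of the following holds: the largest normal 2-subgroup of G is not central; the largest normal 3-subgroup of G is not central; the layer of G (the product of its components) is non-trivial. -/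
theorem result {G : Type*} [Group G] [Finite G] {D : Set G} (hD : Cfsg.IsThreeTranspositionClass D) (hD2 : ∃ a ∈ D, ∃ b ∈ D, a ≠ b) : (∀ p : ℕ, p.Prime → 3 < p → Cfsg.pCore p G ≤ Subgroup.center G) ∧ ((¬ Cfsg.pCore 2 G ≤ Subgroup.center G ∧ Cfsg.pCore 3 G ≤ Subgroup.center G ∧ Cfsg.layer G = ⊥) ∨ (Cfsg.pCore 2 G ≤ Subgroup.center G ∧ ¬ Cfsg.pCore 3 G ≤ Subgroup.center G ∧ Cfsg.layer G = ⊥) ∨ (Cfsg.pCore 2 G ≤ Subgroup.center G ∧ Cfsg.pCore 3 G ≤ Subgroup.center G ∧ Cfsg.layer G ≠ ⊥)) := by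
  refine ⟨fun p hp h3 => pCore_le_center_of_gt_three hD hp h3, ?_⟩
  by_cases h2 : Cfsg.pCore 2 G ≤ Subgroup.center G
  · by_cases h3 : Cfsg.pCore 3 G ≤ Subgroup.center G
    · refine Or.inr (Or.inr ⟨h2, h3, fun h => ?_⟩)
      obtain ⟨L, hL⟩ := exists_component_of_central hD hD2 h2 h3
      exact layer_eq_bot_iff.1 h L hL
    · exact Or.inr (Or.inl ⟨h2, h3, layer_eq_bot_of_three zStarTheorem hD h3⟩)
  · refine Or.inl ⟨h2, ?_, layer_eq_bot_of_two hD h2⟩
    by_contra h3
    obtain ⟨d, hd, -⟩ := hD.2.1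
    obtain ⟨v, hv, hvd, hvz⟩ := exists_ne_mul_mem hD h2 hd
    obtain ⟨w, hw, hwd, hwz⟩ := exists_ne_mul_mem hD h3 hd
    have hvn : v ∈ ttNb D w := ttNb_eq_of_pCore_three hD.1 hd hw hwz ▸
      (⟨hv, hvd, commute_of_pCore_two hD.1 hd hv hvz⟩ : v ∈ ttNb D d)
    exact noncommute_of_pCore_three hD.1 hd hw hwd hwz
      ((twin_of_pCore_two hD.1 hd hv hvz w hw).1 hvn.2.2.symm)

end Cfsg.Agent.S5351
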