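import Cfsg.Statements.S5355
import Cfsg.Agent.Components.TTCore
import Cfsg.Agent.S5344

set_option autoImplicit false
open Cfsg
open Cfsg.Agent.Components

namespace Cfsg.Agent.S5355

/-- Let D be a conjugacy class of 3-transpositions generating the finite group G, with at least two members, and d a member of D. Suppose that every member of D commuting with d commutes with exactly the same members of D as d does, and that exactly one member of D other than d commutes with d. Then G is isomorphic to the symmetric group of degree 4. -/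
theorem result {G : Type*} [Group G] [Finite G] {D : Set G} (hD : Cfsg.IsThreeTranspositionClass D) (hD2 : ∃ a ∈ D, ∃ b ∈ D, a ≠ b) {d : G} (hd : d ∈ D) (hV : {y : G | y ∈ D ∧ Commute d y} = {v : G | v ∈ D ∧ ∀ e ∈ D, Commute v e ↔ Commute d e}) (hm : {y : G | y ∈ D ∧ Commute d y}.ncard = 2) : Nonempty (G ≃* Equiv.Perm (Fin 4)) := by
  have hvx : ∃ v, v ∈ D ∧ v ≠ d ∧ Commute d v ∧
      ∀ y ∈ D, Commute d y → y = d ∨ y = v := by
    obtain ⟨p, q, hpq, hset⟩ := Set.ncard_eq_two.1 hm
    have hdm : d ∈ {y : G | y ∈ D ∧ Commute d y} := ⟨hd, Commute.refl d⟩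
    rw [hset] at hdm
    rcases hdm with rfl | hdq
    · have hq : q ∈ {y : G | y ∈ D ∧ Commute d y} := by rw [hset]; simp
      refine ⟨q, hq.1, hpq.symm, hq.2, fun y hy hc => ?_⟩
      have h' : y ∈ {y : G | y ∈ D ∧ Commute d y} := ⟨hy, hc⟩
      rw [hset] at h'
      simpa using h'
    · rw [Set.mem_singleton_iff] at hdq
      have hp : p ∈ {y : G | y ∈ D ∧ Commute d y} := by rw [hset]; simp
      refine ⟨p, hp.1, hdq ▸ hpq, hp.2, fun y hy hc => ?_⟩
      have : y = p ∨ y = q := by
        have h' : y ∈ {y : G | y ∈ D ∧ Commute d y} := ⟨hy, hc⟩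
        rw [hset] at h'
        simpa using h'
      exact this.symm.imp (fun e => e.trans hdq.symm) id
  obtain ⟨v, hv, hvd, hdv, huniq⟩ := hvx
  -- every member has one commuting partner
  have hpart : ∀ x ∈ D, ∃ y ∈ D, y ≠ x ∧ Commute x y ∧
      ∀ q ∈ D, Commute x q → q = x ∨ q = y := by
    intro x hx
    obtain ⟨g, rfl⟩ := H44.tt_class_conj hD hd hx
    refine ⟨g * v * g⁻¹, H44.tt_invariant hD g hv,
      fun e => hvd (mul_left_cancel (mul_right_cancel e)), (H44.commute_conj_iff g d v).2 hdv,
      fun q hq hc => ?_⟩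
    have hc' : Commute d (g⁻¹ * q * g⁻¹⁻¹) := by
      rw [← H44.commute_conj_iff g, show g * (g⁻¹ * q * g⁻¹⁻¹) * g⁻¹ = q by group]; exact hc
    rcases huniq _ (H44.tt_invariant hD g⁻¹ hq) hc' with e | e
    · exact Or.inl (by rw [← e]; group)
    · exact Or.inr (by rw [← e]; group)
  choose! f hfD hfne hfc hfu using hpart
  have huq : ∀ x ∈ D, ∀ q ∈ D, q ≠ x → Commute x q → q = f x := fun x hx q hq hne hc =>
    (hfu x hx q hq hc).resolve_left hne
  have hconjf : ∀ g : G, ∀ x ∈ D, f (g * x * g⁻¹) = g * f x * g⁻¹ := fun g x hx =>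
    (huq _ (H44.tt_invariant hD g hx) _ (H44.tt_invariant hD g (hfD x hx))
      (fun e => hfne x hx (mul_left_cancel (mul_right_cancel e)))
      ((H44.commute_conj_iff g _ _).2 (hfc x hx))).symm
  let z : G → G := fun x => x * f x
  have hz2 : ∀ x ∈ D, z x * z x = 1 := fun x hx => by
    rw [← pow_two]; exact sq_eq_one_of_commute hD.1 hx (hfD x hx) (hfc x hx)
  have hzO : ∀ x ∈ D, z x ∈ Cfsg.pCore 2 G := by
    intro x hx
    obtain ⟨g, rfl⟩ := H44.tt_class_conj hD hd hx
    have h1 : f d = v := (huq d hd v hv hvd hdv).symm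
    have h2 : d * v ∈ Cfsg.pCore 2 G :=
      twin_mul_mem_pCore_two hD hd hv (hV.subset ⟨hv, hdv⟩).2
    show g * d * g⁻¹ * f (g * d * g⁻¹) ∈ _
    rw [hconjf g d hd, h1, show g * d * g⁻¹ * (g * v * g⁻¹) = g * (d * v) * g⁻¹ by group]
    exact (inferInstance : (Cfsg.pCore 2 G).Normal).conj_mem _ h2 g
  have hzconj : ∀ g : G, ∀ x ∈ D, z (g * x * g⁻¹) = g * z x * g⁻¹ := fun g x hx => by
    show g * x * g⁻¹ * f (g * x * g⁻¹) = g * (x * f x) * g⁻¹
    rw [hconjf g x hx]; group
  have hK : ∀ x ∈ D, ∀ y ∈ D, ¬ Commute x y → x * z y * x = z x * z y := by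
    intro x hx y hy hc
    have hyf : ¬ Commute x (f y) := by
      intro h
      have h1 := huq x hx (f y) (hfD y hy) (fun e => hc (e ▸ (hfc y hy).symm)) h
      rcases hfu (f y) (hfD y hy) x hx h.symm with e | e
      · exact hc (e ▸ (hfc y hy).symm)
      · have h2 := huq (f y) (hfD y hy) y hy (hfne y hy).symm (hfc y hy).symm
        exact hc (by rw [e, ← h2])
    have iy : (z y)⁻¹ = z y := inv_eq_of_mul_eq_one_right (hz2 y hy)
    set q := z y * x * z y with hq
    have hqD : q ∈ D := by
      have := H44.tt_invariant hD (z y) hx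
      rwa [iy] at this
    have hqO : x * q ∈ Cfsg.pCore 2 G := by
      rw [hq, show x * (z y * x * z y) = x * z y * x * z y by group]
      refine mul_mem ?_ (hzO y hy)
      have := (inferInstance : (Cfsg.pCore 2 G).Normal).conj_mem _ (hzO y hy) x
      rwa [H44.tt_conj_eq hD.1 hx] at this
    have hxx := H44.tt_mul_self hD.1 hx
    have hne : q ≠ x := by
      intro e
      have h1 : x * z y * x = z y := by
        calc x * z y * x = q * z y * x := by rw [e]
          _ = z y * (x * (z y * z y) * x) := by rw [hq]; group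
          _ = z y := by rw [hz2 y hy, mul_one, hxx, mul_one]
      have h2 : x * z y * x = y * (x * z y * x) * f y := by
        calc x * z y * x = (x * y * x) * (x⁻¹ * x⁻¹) * (x * f y * x) := by simp only [z]; group
          _ = (y * x * y) * (f y * x * f y) := by
            rw [← mul_inv_rev, hxx, inv_one, mul_one, H44.tt_braid hD.1 hx hy hc,
              H44.tt_braid hD.1 hx (hfD y hy) hyf]
          _ = _ := by simp only [z]; group
      rw [h1] at h2
      have h3 : z y = 1 := by
        rw [h2]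
        show y * (y * f y) * f y = 1
        rw [← mul_assoc, H44.tt_mul_self hD.1 hy, one_mul, H44.tt_mul_self hD.1 (hfD y hy)]
      exact hfne y hy (by rw [eq_inv_of_mul_eq_one_right h3, H44.tt_inv hD.1 hy])
    have hfx := huq x hx q hqD hne (commute_of_pCore_two hD.1 hx hqD hqO)
    show x * z y * x = x * f x * z y
    rw [← hfx, hq]
    simp only [mul_assoc, hz2 y hy, mul_one]
  -- three blocks
  obtain ⟨e, he, hde⟩ := exists_noncommute hD hD2 hd
  have hg : d * e * d ∈ D := by
    rw [← H44.tt_conj_eq hD.1 hd]; exact H44.tt_invariant hD d he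
  have hzg : z (d * e * d) = z d * z e := by
    rw [← H44.tt_conj_eq hD.1 hd, hzconj d e he, H44.tt_conj_eq hD.1 hd, hK d hd e he hde]
  have hall : ∀ q ∈ D, Commute d q ∨ Commute e q ∨ Commute (d * e * d) q := by
    intro q hq
    by_contra h
    push Not at h
    obtain ⟨h1, h2, h3⟩ := h
    have k1 := hK q hq d hd fun c => h1 c.symm
    have k2 := hK q hq e he fun c => h2 c.symm
    have k3 := hK q hq _ hg fun c => h3 c.symm
    rw [hzg] at k3
    have hqq := H44.tt_mul_self hD.1 hq
    have hcm : z q * z d * z q = z d := by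
      have hs : z q * z d * (z q * z d) = 1 := by
        rw [← k1, show q * z d * q * (q * z d * q) = q * (z d * (q * q) * z d) * q by group, hqq,
          mul_one, hz2 d hd, mul_one, hqq]
      calc z q * z d * z q = z q * z d * z q * (z d * z d) := by rw [hz2 d hd, mul_one]
        _ = (z q * z d * (z q * z d)) * z d := by group
        _ = z d := by rw [hs, one_mul]
    have k4 : q * (z d * z e) * q = z d * z e := by
      calc q * (z d * z e) * q = (q * z d * q) * (q⁻¹ * q⁻¹) * (q * z e * q) := by group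
        _ = z q * z d * z q * z e := by
          rw [← mul_inv_rev, hqq, inv_one, mul_one, k1, k2]; group
        _ = _ := by rw [hcm]
    rw [k3, mul_eq_right] at k4
    exact hfne q hq (by rw [eq_inv_of_mul_eq_one_right k4, H44.tt_inv hD.1 hq])
  obtain ⟨φ, hinj, ha, hb, hc⟩ := Cfsg.Agent.S5344.result hD.1 hd he hv hvd.symm hdv hde
    (fun h => hde ((hV.subset ⟨hv, hdv⟩).2 e he |>.1 h.symm))
  refine ⟨(MulEquiv.ofBijective φ ⟨hinj, ?_⟩).symm⟩
  rw [← MonoidHom.range_eq_top, ← top_le_iff, ← hD.2.2, Subgroup.closure_le]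
  have hmd : d ∈ φ.range := ⟨_, ha⟩
  have hme : e ∈ φ.range := ⟨_, hb⟩
  have hmv : v ∈ φ.range := ⟨_, hc⟩
  have hfd : f d = v := (huq d hd v hv hvd hdv).symm
  have hmfe : f e ∈ φ.range := by
    have he' : d * e * d * (d * e)⁻¹ = e := by
      rw [H44.tt_braid hD.1 hd he hde]; group
    rw [← he', hconjf (d * e) d hd, hfd]
    exact mul_mem (mul_mem (mul_mem hmd hme) hmv) (inv_mem (mul_mem hmd hme))
  intro q hq
  rcases hall q hq with h | h | h
  · rcases hfu d hd q hq h with rfl | rfl
    exacts [hmd, hfd.symm ▸ hmv]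
  · rcases hfu e he q hq h with rfl | rfl
    exacts [hme, hmfe]
  · rcases hfu _ hg q hq h with rfl | rfl
    · exact mul_mem (mul_mem hmd hme) hmd
    · rw [← H44.tt_conj_eq hD.1 hd, hconjf d e he]
      exact mul_mem (mul_mem hmd hmfe) (inv_mem hmd)

end Cfsg.Agent.S5355
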