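import Cfsg.Statements.S5358
import Cfsg.Agent.Orthogonal.Basic

set_option autoImplicit false
open scoped MatrixGroups
open Cfsg

namespace Cfsg.Agent.S5358

theorem mulVec_eq {F : Type*} [Field F] {n : ℕ} (Q : QuadraticForm F (Fin n → F)) (v x : Fin n → F) :
    (Cfsg.reflectionMatrix (⇑Q) v).mulVec x = x - ((Q v)⁻¹ * QuadraticMap.polar (⇑Q) v x) • v := by
  rw [Orthogonal.reflectionMatrix_mulVec, Orthogonal.rO_app]

theorem commute_iff_orth {F : Type*} [Field F] {n : ℕ} (Q : QuadraticForm F (Fin n → F))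
    (h2 : (2 : F) ≠ 0) {u v : Fin n → F} (hu : Q u ≠ 0) (huv : Q u = Q v) (h1 : v ≠ u) (h1' : v ≠ -u) :
    Commute (Cfsg.reflectionMatrix (⇑Q) u) (Cfsg.reflectionMatrix (⇑Q) v) ↔
      QuadraticMap.polar (⇑Q) u v = 0 := by
  constructor
  · intro h
    by_contra hne
    set P := QuadraticMap.polar (⇑Q) u v with hP
    have hx := congrArg (fun M => Matrix.mulVec M u) h.eq
    simp only [← Matrix.mulVec_mulVec, mulVec_eq, ← huv, QuadraticMap.polar_sub_right,
      QuadraticMap.polar_smul_right, QuadraticMap.polar_comm (⇑Q) v u, ← hP, smul_eq_mul] at hx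
    have key : ((Q u)⁻¹ ^ 2 * P) • (P • u) =
        ((Q u)⁻¹ ^ 2 * P) • (QuadraticMap.polar (⇑Q) u u • v) := by
      funext i
      have := congrFun hx i
      simp only [Pi.sub_apply, Pi.smul_apply, smul_eq_mul] at this ⊢
      linear_combination this
    have hk0 : (Q u)⁻¹ ^ 2 * P ≠ 0 := mul_ne_zero (pow_ne_zero _ (inv_ne_zero hu)) hne
    have key' : P • u = QuadraticMap.polar (⇑Q) u u • v := smul_right_injective _ hk0 key
    have hs : QuadraticMap.polar (⇑Q) u u = 2 * Q u := by
      rw [QuadraticMap.polar_self, two_smul, two_mul]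
    rw [hs] at key'
    obtain ⟨k, hk⟩ : ∃ k : F, v = k • u := ⟨(2 * Q u)⁻¹ * P, by
      rw [← smul_smul, key', smul_smul, inv_mul_cancel₀ (mul_ne_zero h2 hu), one_smul]⟩
    have hk2 : k * k = 1 := by
      have h := huv
      rw [hk, QuadraticMap.map_smul, smul_eq_mul] at h
      exact mul_right_cancel₀ hu (h.symm.trans (one_mul _).symm)
    rcases mul_self_eq_one_iff.1 hk2 with e | e
    · exact h1 (by rw [hk, e, one_smul])
    · exact h1' (by rw [hk, e, neg_one_smul])
  · intro h
    refine Matrix.ext_iff_mulVec.2 fun x => ?_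
    simp only [← Matrix.mulVec_mulVec, mulVec_eq, QuadraticMap.polar_sub_right,
      QuadraticMap.polar_smul_right, QuadraticMap.polar_comm (⇑Q) v u, h, smul_zero, sub_zero]
    abel


/-- Let Q be a non-degenerate quadratic form on the n-dimensional coordinate space over the field with three elements and u, v vectors of the same non-zero norm Q(u) = Q(v) spanning different lines (v ≠ u and v ≠ −u). Then the reflection matrices of u and v commute if and only if u and v are orthogonal for the polar form of Q. -/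
theorem result (n : ℕ) (Q : QuadraticForm (ZMod 3) (Fin n → ZMod 3)) (hQ : (QuadraticMap.polarBilin Q).Nondegenerate) (u v : Fin n → ZMod 3) (hu : Q u ≠ 0) (huv : Q u = Q v) (h1 : v ≠ u) (h2 : v ≠ -u) : Commute (Cfsg.reflectionMatrix (⇑Q) u) (Cfsg.reflectionMatrix (⇑Q) v) ↔ QuadraticMap.polar (⇑Q) u v = 0 := by
  exact commute_iff_orth Q (by decide) hu huv h1 h2

end Cfsg.Agent.S5358
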