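import Cfsg.Statements.S5363

set_option autoImplicit false
open Cfsg

namespace Cfsg.Agent.S5363


/-- Let D be a conjugation-invariant set of involutions of a finite group G. Then every product of two members of D has odd order or order 2 if and only if, for every a in D and every b in D different from a and commuting with a, the members of D commuting with a b are exactly those commuting with both a and b. -/
theorem result {G : Type*} [Group G] [Finite G] {D : Set G} (hinv : ∀ d ∈ D, orderOf d = 2) (hconj : ∀ g : G, ∀ d ∈ D, g * d * g⁻¹ ∈ D) : (∀ a ∈ D, ∀ b ∈ D, Odd (orderOf (a * b)) ∨ orderOf (a * b) = 2) ↔ ∀ a ∈ D, ∀ b ∈ D, b ≠ a → Commute a b → {y : G | y ∈ D ∧ Commute (a * b) y} = {y : G | y ∈ D ∧ Commute a y} ∩ {y : G | y ∈ D ∧ Commute b y} := by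
  have hsq : ∀ a ∈ D, a * a = 1 := fun a ha => by rw [← pow_two, ← hinv a ha]; exact pow_orderOf_eq_one a
  have hi : ∀ a ∈ D, a⁻¹ = a := fun a ha => inv_eq_of_mul_eq_one_right (hsq a ha)
  constructor
  · intro h a ha b hb hba hab
    ext y
    simp only [Set.mem_setOf_eq, Set.mem_inter_iff]
    refine ⟨fun ⟨hy, hc⟩ => ?_, fun ⟨⟨hy, h1⟩, _, h2⟩ => ⟨hy, h1.mul_left h2⟩⟩
    have key : ∀ a ∈ D, ∀ b ∈ D, b ≠ a → Commute a b → Commute (a * b) y → Commute a y := by
      intro a ha b hb hba hab hc
      rcases h a ha y hy with ho | ho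
      · set c := a * b with hcdef
        have hca : Commute c a := (Commute.refl a).mul_left hab.symm
        have hcc : c * c = 1 := by
          rw [hcdef, mul_assoc, ← mul_assoc b, ← hab.eq, mul_assoc, hsq b hb, mul_one, hsq a ha]
        have hc1 : c ≠ 1 := fun h1 => hba ((eq_inv_of_mul_eq_one_right h1).trans (hi a ha))
        have hco : orderOf c = 2 := orderOf_eq_prime (by rw [pow_two, hcc]) hc1
        have hb' : b = c * a := by rw [hca.eq, hcdef, ← mul_assoc, hsq a ha, one_mul]
        have hcay : Commute c (a * y) := hca.mul_right hc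
        have hcop : Nat.Coprime (orderOf c) (orderOf (a * y)) := by
          rw [hco]; exact Nat.coprime_two_left.2 ho
        have hord : orderOf (b * y) = 2 * orderOf (a * y) := by
          rw [hb', mul_assoc, hcay.orderOf_mul_eq_mul_orderOf_of_coprime hcop, hco]
        rcases h b hb y hy with ho' | ho'
        · rw [hord] at ho'
          exact absurd ho' (Nat.not_odd_iff_even.2 (even_two_mul _))
        · rw [hord] at ho'
          have : a * y = 1 := orderOf_eq_one_iff.1 (by omega)
          rw [show y = a from (eq_inv_of_mul_eq_one_right this).trans (hi a ha)]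
      · have h2 : (a * y) * (a * y) = 1 := by rw [← pow_two, ← ho]; exact pow_orderOf_eq_one _
        have := inv_eq_of_mul_eq_one_right h2
        rw [mul_inv_rev, hi a ha, hi y hy] at this
        exact this.symm
    exact ⟨⟨hy, key a ha b hb hba hab hc⟩, hy, key b hb a ha hba.symm hab.symm (hab.eq ▸ hc)⟩
  · intro h a ha b hb
    by_contra hcon
    rw [not_or, Nat.not_odd_iff_even] at hcon
    obtain ⟨heven, hne2⟩ := hcon
    obtain ⟨k, hk⟩ := even_iff_exists_two_mul.1 heven
    set w := a * b with hw
    set z := w ^ k with hz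
    have hinvol : a * w * a⁻¹ = w⁻¹ := by
      rw [hw, hi a ha, mul_inv_rev, hi a ha, hi b hb, ← mul_assoc, hsq a ha, one_mul]
    have hzz : z * z = 1 := by rw [hz, ← pow_add, ← two_mul, ← hk, pow_orderOf_eq_one]
    have hzi : z⁻¹ = z := inv_eq_of_mul_eq_one_right hzz
    have haz : Commute a z := by
      have h1 : a * z * a⁻¹ = z := by rw [hz, ← conj_pow, hinvol, inv_pow, ← hz, hzi]
      exact mul_inv_eq_iff_eq_mul.1 h1
    by_cases hkpos : orderOf w = 0
    · exact absurd hkpos (orderOf_pos w).ne'
    have hz1 : z ≠ 1 := fun h1 => by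
      have := Nat.le_of_dvd (by omega) (orderOf_dvd_of_pow_eq_one h1); omega
    have hwz : Commute w z := Commute.self_pow w k
    have hpowconj : ∀ j : ℕ, w ^ j * a * (w ^ j)⁻¹ = w ^ (j + j) * a := by
      intro j
      rw [pow_add, mul_assoc (w ^ j) (w ^ j) a, mul_assoc]
      congr 1
      have : a * w ^ j * a⁻¹ = (w ^ j)⁻¹ := by rw [← conj_pow, hinvol, inv_pow]
      rw [← this, hi a ha, ← mul_assoc a (a * w ^ j), ← mul_assoc a a, hsq a ha, one_mul]
    -- `z * a` is a member of `D`
    have hzaD : z * a ∈ D := by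
      rcases Nat.even_or_odd k with ⟨j, hj⟩ | ⟨j, hj⟩
      · rw [hz, hj, ← hpowconj]
        exact hconj _ _ ha
      · have hwb : w * b = a := by rw [hw, mul_assoc, hsq b hb, mul_one]
        have hawi : a * w⁻¹ = w * a := by
          rw [hw, mul_inv_rev, hi a ha, hi b hb, mul_assoc]
        have : z * a = w ^ (j + 1) * b * (w ^ (j + 1))⁻¹ := by
          calc z * a = w * (w ^ (j + j) * a) := by rw [hz, hj, ← mul_assoc, ← pow_succ', two_mul]
            _ = w ^ (j + 1) * a * (w ^ j)⁻¹ := by rw [← hpowconj, ← mul_assoc, ← mul_assoc, ← pow_succ']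
            _ = w ^ j * (a * w⁻¹) * (w ^ j)⁻¹ := by rw [hawi, pow_succ, mul_assoc (w ^ j) w a]
            _ = _ := by rw [pow_succ, mul_inv_rev (w ^ j) w, mul_assoc (w ^ j) w b, hwb]; simp only [mul_assoc]
        rw [this]
        exact hconj _ _ hb
    have hne : z * a ≠ a := fun h1 => hz1 (mul_eq_right.1 h1)
    have hcomm : Commute a (z * a) := haz.mul_right (Commute.refl a)
    have hprod : a * (z * a) = z := by rw [← mul_assoc, haz.eq, mul_assoc, hsq a ha, mul_one]
    have := h a ha (z * a) hzaD hne hcomm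
    rw [hprod] at this
    have hzb : b ∈ {y : G | y ∈ D ∧ Commute z y} := by
      refine ⟨hb, ?_⟩
      have hb' : b = a * w := by rw [hw, ← mul_assoc, hsq a ha, one_mul]
      rw [hb']; exact haz.symm.mul_right hwz.symm
    rw [this] at hzb
    have hab : Commute a b := hzb.1.2
    have h2 : w ^ 2 = 1 := by rw [hw, hab.mul_pow, pow_two, pow_two, hsq a ha, hsq b hb, one_mul]
    have := Nat.le_of_dvd (by norm_num) (orderOf_dvd_of_pow_eq_one h2)
    have : orderOf w = 1 ∨ orderOf w = 2 := by omega
    omega

end Cfsg.Agent.S5363
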