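import Cfsg.Statements.S5364

set_option autoImplicit false
open Cfsg

namespace Cfsg.Agent.S5364


/-- Let D be a conjugation-invariant set of involutions of a finite group G and t an involution in the centre of G such that d t does not lie in D for any d in D. If the images of the members of D in G modulo the subgroup generated by t satisfy the 3-transposition order conditions (each has order 2 and any two have product of order at most 3), then so do the members of D. -/
theorem result {G : Type*} [Group G] [Finite G] {D : Set G} (hinv : ∀ d ∈ D, orderOf d = 2) (hconj : ∀ g : G, ∀ d ∈ D, g * d * g⁻¹ ∈ D) (t : G) (ht : orderOf t = 2) (htZ : t ∈ Subgroup.center G) (hDt : ∀ d ∈ D, d * t ∉ D) [(Subgroup.zpowers t).Normal] (himg : Cfsg.IsThreeTranspositionSet ((QuotientGroup.mk : G → G ⧸ Subgroup.zpowers t) '' D)) : Cfsg.IsThreeTranspositionSet D := by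
  refine ⟨hinv, fun d hd e he => ?_⟩
  have ht2 : t * t = 1 := by rw [← pow_two, ← ht]; exact pow_orderOf_eq_one t
  have hti : t⁻¹ = t := inv_eq_of_mul_eq_one_right ht2
  have hdd : d * d = 1 := by rw [← pow_two, ← hinv d hd]; exact pow_orderOf_eq_one d
  have hee : e * e = 1 := by rw [← pow_two, ← hinv e he]; exact pow_orderOf_eq_one e
  have hdi : d⁻¹ = d := inv_eq_of_mul_eq_one_right hdd
  have hei : e⁻¹ = e := inv_eq_of_mul_eq_one_right hee
  have hcases : ∀ k : ℕ, (((d * e : G) : G ⧸ Subgroup.zpowers t)) ^ k = 1 → (d * e) ^ k = 1 ∨ (d * e) ^ k = t := by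
    intro k hk
    rw [← QuotientGroup.mk_pow, QuotientGroup.eq_one_iff] at hk
    obtain ⟨j, hj⟩ := hk
    rcases Int.even_or_odd j with ⟨i, rfl⟩ | ⟨i, rfl⟩
    · left
      rw [← hj]
      show t ^ (i + i) = 1
      rw [zpow_add, ← (Commute.refl t).mul_zpow, ht2, one_zpow]
    · right
      rw [← hj]
      show t ^ (2 * i + 1) = t
      rw [zpow_add, zpow_mul, zpow_ofNat, pow_two, ht2, one_zpow, one_mul, zpow_one]
  rcases himg.2 _ (Set.mem_image_of_mem _ hd) _ (Set.mem_image_of_mem _ he) with h | h
  · rcases hcases 2 (by simpa using h) with h' | h'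
    · exact Or.inl h'
    · exfalso
      refine hDt e he ?_
      have hc := hconj d e he
      rw [hdi] at hc
      have : e * t = d * e * d⁻¹ * 1 := by
        have h1 : d * e * d * e = t := by rw [← h']; simp [pow_two, mul_assoc]
        have h2 : t * e = e * t := (Subgroup.mem_center_iff.1 htZ e).symm
        rw [← h2, ← h1, hdi, mul_one]
        simp [mul_assoc, hee]
      rw [this, mul_one, hdi]
      exact hc
  · rcases hcases 3 (by simpa using h) with h' | h'
    · exact Or.inr h'
    · exfalso
      refine hDt e he ?_
      have hc := hconj (d * e) d hd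
      rw [mul_inv_rev, hdi, hei] at hc
      have : e * t = d * e * d * (e * d) := by
        have h1 : d * e * d * e * d * e = t := by rw [← h']; simp [pow_succ, mul_assoc]
        have h2 : t * e = e * t := (Subgroup.mem_center_iff.1 htZ e).symm
        rw [← h2, ← h1]
        simp [mul_assoc, hee]
      rw [this]
      exact hc

end Cfsg.Agent.S5364
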