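import Cfsg.Statements.S5370
import Cfsg.Agent.H70.FiTwentyTwo.Main

set_option autoImplicit false
open Cfsg

namespace Cfsg.Agent.S5370

/-- Uniqueness of the 3-transposition groups of type M(22). Let G₁ and G₂ be finite groups with trivial centres, each generated by a conjugation-invariant set of 3-transpositions Dᵢ on which it acts primitively, such that for some member d of Dᵢ the subgroup generated by the members of Dᵢ other than d commuting with d has central largest normal 2- and 3-subgroups, and suppose each Gᵢ with Dᵢ is of type M(22). Then there is an isomorphism from G₁ to G₂ carrying D₁ onto D₂. -/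
theorem result {G₁ G₂ : Type*} [Group G₁] [Finite G₁] [Group G₂] [Finite G₂] {D₁ : Set G₁} {D₂ : Set G₂} (hD₁ : Cfsg.IsThreeTranspositionGroup D₁) (hprim₁ : Cfsg.IsPrimitiveUnderConj D₁) (hZ₁ : Subgroup.center G₁ = ⊥) (d₁ : G₁) (hd₁ : d₁ ∈ D₁) (h3₁ : Cfsg.pCore 3 ↥(Subgroup.closure {y : G₁ | y ∈ D₁ ∧ y ≠ d₁ ∧ Commute d₁ y}) ≤ Subgroup.center ↥(Subgroup.closure {y : G₁ | y ∈ D₁ ∧ y ≠ d₁ ∧ Commute d₁ y})) (h2₁ : Cfsg.pCore 2 ↥(Subgroup.closure {y : G₁ | y ∈ D₁ ∧ y ≠ d₁ ∧ Commute d₁ y}) ≤ Subgroup.center ↥(Subgroup.closure {y : G₁ | y ∈ D₁ ∧ y ≠ d₁ ∧ Commute d₁ y})) (hD₂ : Cfsg.IsThreeTranspositionGroup D₂) (hprim₂ : Cfsg.IsPrimitiveUnderConj D₂) (hZ₂ : Subgroup.center G₂ = ⊥) (d₂ : G₂) (hd₂ : d₂ ∈ D₂) (h3₂ : Cfsg.pCore 3 ↥(Subgroup.closure {y : G₂ | y ∈ D₂ ∧ y ≠ d₂ ∧ Commute d₂ y}) ≤ Subgroup.center ↥(Subgroup.closure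 {y : G₂ | y ∈ D₂ ∧ y ≠ d₂ ∧ Commute d₂ y})) (h2₂ : Cfsg.pCore 2 ↥(Subgroup.closure {y : G₂ | y ∈ D₂ ∧ y ≠ d₂ ∧ Commute d₂ y}) ≤ Subgroup.center ↥(Subgroup.closure {y : G₂ | y ∈ D₂ ∧ y ≠ d₂ ∧ Commute d₂ y})) (ht₁ : Cfsg.IsOfTypeM22 G₁ D₁) (ht₂ : Cfsg.IsOfTypeM22 G₂ D₂) : ∃ e : G₁ ≃* G₂, e '' D₁ = D₂ := by
  have hc₁ := Cfsg.Agent.H93.class_of_group hD₁ hprim₁
  have hc₂ := Cfsg.Agent.H93.class_of_group hD₂ hprim₂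
  obtain ⟨φ₁, h₁⟩ := Cfsg.Agent.H70.FiTwentyTwo.iso_fi22 hc₁ ht₁
  obtain ⟨φ₂, h₂⟩ := Cfsg.Agent.H70.FiTwentyTwo.iso_fi22 hc₂ ht₂
  refine ⟨φ₁.symm.trans φ₂, ?_⟩
  obtain ⟨c₁, -, e₁⟩ := hc₁.2.1
  obtain ⟨c₂, -, e₂⟩ := hc₂.2.1
  set x₁ := φ₁ (PresentedGroup.of Cfsg.Spor.Fi22.Gen.a) with hx₁
  set x₂ := φ₂ (PresentedGroup.of Cfsg.Spor.Fi22.Gen.a) with hx₂
  have f₁ : D₁ = conjugatesOf x₁ :=
    e₁.trans (IsConj.conjugatesOf_eq (e₁ ▸ h₁ _ : x₁ ∈ conjugatesOf c₁))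
  have f₂ : D₂ = conjugatesOf x₂ :=
    e₂.trans (IsConj.conjugatesOf_eq (e₂ ▸ h₂ _ : x₂ ∈ conjugatesOf c₂))
  have he : (φ₁.symm.trans φ₂) x₁ = x₂ := by simp [hx₁, hx₂]
  rw [f₁, f₂, ← he]
  ext y
  constructor
  · rintro ⟨z, hz, rfl⟩
    exact ((φ₁.symm.trans φ₂).toMonoidHom.map_isConj hz)
  · intro hy
    refine ⟨(φ₁.symm.trans φ₂).symm y, ?_, MulEquiv.apply_symm_apply _ _⟩
    have := (φ₁.symm.trans φ₂).symm.toMonoidHom.map_isConj hy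
    rwa [MulEquiv.coe_toMonoidHom, MulEquiv.symm_apply_apply] at this

end Cfsg.Agent.S5370
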