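import Cfsg.Statements.S5377
import Cfsg.Agent.H47.TwoU62.Main
import Cfsg.Agent.H70.FiTwentyTwo.Main
import Cfsg.Agent.H93.Exist.Fi23Type

set_option autoImplicit false
open Cfsg

namespace Cfsg.Agent.S5377

/-- Let G be a finite group with an involution d whose centralizer C is quasisimple with C modulo the subgroup generated by d isomorphic to the projective special unitary group of dimension 6 over the field with four elements, and suppose some conjugate of d other than d commutes with d. Then the conjugacy class of d is a class of 3-transpositions generating G, and G with this class is of type M(22). -/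
theorem result {G : Type*} [Group G] [Finite G] (d : G) (hd : orderOf d = 2) (hq : Cfsg.IsQuasisimple (Subgroup.centralizer ({d} : Set G))) [((Subgroup.zpowers d).subgroupOf (Subgroup.centralizer ({d} : Set G))).Normal] (K : Type) [Field K] [Fintype K] (hK : Fintype.card K = 4) (e : (Subgroup.centralizer ({d} : Set G)) ⧸ (Subgroup.zpowers d).subgroupOf (Subgroup.centralizer ({d} : Set G)) ≃* Cfsg.PSU 6 K 2) (hnwc : ∃ g : G, g * d * g⁻¹ ∈ Subgroup.centralizer ({d} : Set G) ∧ g * d * g⁻¹ ≠ d) : Cfsg.IsThreeTranspositionClass (conjugatesOf d) ∧ Cfsg.IsOfTypeM22 G (conjugatesOf d) := by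
  have h := H47.TwoU62.Hyp.of_quotient hd hq.1.commutator_eq_top hK e hnwc
  refine ⟨h.tt_class, ?_⟩
  obtain ⟨p, hc⟩ := H70.FiTwentyTwo.exists_config h.geo (mem_conjugatesOf_self (a := d))
  obtain ⟨φ, hφ⟩ := H70.FiTwentyTwo.config_iso h.geo hc
  let ψ : H93.Exist.G22 ≃* G := φ
  have ht : ψ (H87.Fi22.Transp.t : H93.Exist.G22) ∈ conjugatesOf d := by
    have e0 : ψ (H87.Fi22.Transp.t : H93.Exist.G22) = φ (PresentedGroup.of Cfsg.Spor.Fi22.Gen.a) := rfl
    rw [e0, hφ]
    exact hc.mem _
  have himg : ψ '' conjugatesOf (H87.Fi22.Transp.t : H93.Exist.G22) = conjugatesOf d := by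
    rw [IsConj.conjugatesOf_eq (show IsConj d _ from ht)]
    ext y
    constructor
    · rintro ⟨x, hx, rfl⟩
      obtain ⟨g, rfl⟩ := isConj_iff.mp hx
      exact isConj_iff.mpr ⟨ψ g, by rw [map_mul, map_mul, map_inv]⟩
    · intro hy
      obtain ⟨g, rfl⟩ := isConj_iff.mp hy
      exact ⟨ψ.symm g * _ * (ψ.symm g)⁻¹, isConj_iff.mpr ⟨ψ.symm g, rfl⟩, by
        rw [map_mul, map_mul, map_inv, ψ.apply_symm_apply]⟩
  have h22 := H93.type22_transfer ψ H93.Exist.type22
  rwa [himg] at h22

end Cfsg.Agent.S5377
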