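import Cfsg.Statements.S5383
import Cfsg.Agent.H55.Suz.Seven

set_option autoImplicit false
open Cfsg

namespace Cfsg.Agent.S5383

/-- Let G be a finite group of Suzuki sporadic type (involution z with generalized Fitting subgroup Q of its centralizer C extraspecial of order 2^7, C/Q the commutator subgroup of the isometry group of the elliptic quadratic form in dimension 6 over the field with two elements, z not weakly closed in Q). Then for every Sylow 7-subgroup B of G, the centralizer of B is isomorphic to the direct product of a cyclic group of order 7 and the alternating group of degree 4, and the normalizer of B has order 504. -/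
theorem result {G : Type*} [Group G] [Finite G] (z : G) (hz : orderOf z = 2) (Q : Subgroup (Subgroup.centralizer ({z} : Set G))) [Q.Normal] (hF : Cfsg.generalizedFittingSubgroup (Subgroup.centralizer ({z} : Set G)) = Q) (hQ : Cfsg.IsExtraspecial 2 Q) (hcard : Nat.card Q = 2 ^ 7) (e : (Subgroup.centralizer ({z} : Set G)) ⧸ Q ≃* Cfsg.Omega (ZMod 2) (Cfsg.quadFormMinus 2 (ZMod 2) 1 1)) (hnwc : ∃ g : G, (∃ hq : g * z * g⁻¹ ∈ Subgroup.centralizer ({z} : Set G), (⟨g * z * g⁻¹, hq⟩ : Subgroup.centralizer ({z} : Set G)) ∈ Q) ∧ g * z * g⁻¹ ≠ z) (B : Sylow 7 G) : Nonempty (↥(Subgroup.centralizer ((B : Subgroup G) : Set G)) ≃* Multiplicative (ZMod 7) × alternatingGroup (Fin 4)) ∧ Nat.card ↥(Subgroup.normalizer ((B : Subgroup G) : Set G)) = 504 := by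
  obtain ⟨h⟩ := Cfsg.Agent.H73.Suz.setup_of hz Q hF hQ hcard e hnwc
  obtain ⟨s, w, t, om, hh, F⟩ := Cfsg.Agent.H55.Suz.exists_frame h
  obtain ⟨g, r, D⟩ := Cfsg.Agent.H55.Suz.exists_five_data F.P
  haveI : Fact (Nat.Prime 7) := ⟨by norm_num⟩
  obtain ⟨y, hy, hyp⟩ := F.exists_order (p := 7) (Or.inr rfl)
  have h7 : 7 ∣ Nat.card G := hyp ▸ orderOf_dvd_natCard y
  have hB : Nat.card (B : Subgroup G) = 7 := by
    obtain ⟨n, hn⟩ := IsPGroup.iff_card.mp B.2
    have h1 : 7 ^ 1 ∣ Nat.card (B : Subgroup G) := B.pow_dvd_card_of_pow_dvd_card (by simpa using h7)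
    rw [hn, Nat.pow_dvd_pow_iff_le_right (by norm_num)] at h1
    have h2 : n ≤ 1 := by
      by_contra h3
      exact F.not_49 D ((pow_dvd_pow 7 (by omega : 2 ≤ n)).trans
        (hn ▸ Subgroup.card_subgroup_dvd_card _))
    rw [hn, show n = 1 by omega, pow_one]
  obtain ⟨b, hb⟩ := exists_prime_orderOf_dvd_card' (G := (B : Subgroup G)) 7 (by rw [hB])
  have hb' : orderOf (b : G) = 7 := by rw [Subgroup.orderOf_coe, hb]
  have hBeq : (B : Subgroup G) = Subgroup.zpowers (b : G) :=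
    (Subgroup.eq_of_le_of_card_ge (Subgroup.zpowers_le.mpr b.2)
      (by rw [Nat.card_zpowers, hb', hB])).symm
  obtain ⟨d, i, hd⟩ := Cfsg.Agent.H55.Suz.conj_of_not_sq (by norm_num) (F.not_49 D) hyp hb'
  obtain ⟨⟨eC⟩, hN⟩ := Cfsg.Agent.H55.Suz.transport (by norm_num) hb' hyp hd
  obtain ⟨eA⟩ := F.C7_equiv D hy hyp
  rw [hBeq, Cfsg.Agent.H55.Suz.CyclicNorm.centralizer_zpowers', hN,
    F.card_N (Or.inr rfl) hy hyp, F.card_C7 D hy hyp]
  exact ⟨⟨eC.trans eA⟩, rfl⟩

end Cfsg.Agent.S5383
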