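import Cfsg.Statements.S5384
import Cfsg.Agent.H55.Suz.FiveOrbits
-- import your own Cfsg.Agent.* helpers here

set_option autoImplicit false
open Cfsg

namespace Cfsg.Agent.S5384

/-- Let G be a finite group of Suzuki sporadic type (involution z with generalized Fitting subgroup Q of its centralizer C extraspecial of order 2^7, C/Q the commutator subgroup of the isometry group of the elliptic quadratic form in dimension 6 over the field with two elements, z not weakly closed in Q). Then G has exactly two conjugacy classes of subgroups of order 5, and the normalizer of a Sylow 5-subgroup P of G has order 600, with P of order 25 and N(P)/P isomorphic to the direct product of a cyclic group of order 4 and the symmetric group of degree 3. -/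
theorem result {G : Type*} [Group G] [Finite G] (z : G) (hz : orderOf z = 2) (Q : Subgroup (Subgroup.centralizer ({z} : Set G))) [Q.Normal] (hF : Cfsg.generalizedFittingSubgroup (Subgroup.centralizer ({z} : Set G)) = Q) (hQ : Cfsg.IsExtraspecial 2 Q) (hcard : Nat.card Q = 2 ^ 7) (e : (Subgroup.centralizer ({z} : Set G)) ⧸ Q ≃* Cfsg.Omega (ZMod 2) (Cfsg.quadFormMinus 2 (ZMod 2) 1 1)) (hnwc : ∃ g : G, (∃ hq : g * z * g⁻¹ ∈ Subgroup.centralizer ({z} : Set G), (⟨g * z * g⁻¹, hq⟩ : Subgroup.centralizer ({z} : Set G)) ∈ Q) ∧ g * z * g⁻¹ ≠ z) (P : Sylow 5 G) : (∃ A B : Subgroup G, Nat.card A = 5 ∧ Nat.card B = 5 ∧ (∀ g : G, A.map (MulAut.conj g).toMonoidHom ≠ B) ∧ ∀ C : Subgroup G, Nat.card C = 5 → ∃ g : G, C.map (MulAut.conj g).toMonoidHom = A ∨ C.map (MulAut.conj g).toMonoidHom = B) ∧ Nat.card (P : Subgroup G) = 25 ∧ Nat.card ↥(Subgroup.normalizer ((P : Subgroup G) : Set G)) = 600 ∧ Nonempty (↥(Subgroup.normalizer ((P : Subgroup G) : Set G)) ⧸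 (P : Subgroup G).subgroupOf (Subgroup.normalizer ((P : Subgroup G) : Set G)) ≃* Multiplicative (ZMod 4) × Equiv.Perm (Fin 3)) := by
  obtain ⟨h⟩ := Cfsg.Agent.H73.Suz.setup_of hz Q hF hQ hcard e hnwc
  obtain ⟨s, w, t, om, hh, F⟩ := Cfsg.Agent.H55.Suz.exists_frame h
  obtain ⟨g, r, D⟩ := Cfsg.Agent.H55.Suz.exists_five_data F.P
  haveI : Fact (Nat.Prime 5) := ⟨by norm_num⟩
  obtain ⟨a, b, haP, hbP, hA, hB, -⟩ := F.exists_in_sylow D P
  obtain ⟨hN, -, hcov⟩ := F.card_N_five D P haP hbP hA hB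
  refine ⟨⟨Subgroup.zpowers a, Subgroup.zpowers b, by rw [Nat.card_zpowers, hA.1],
    by rw [Nat.card_zpowers, hB.1], fun x hx => ?_, fun C hC => ?_⟩, F.dvd_25 D, hN,
    F.quotient_equiv D P⟩
  · rw [MonoidHom.map_zpowers] at hx
    have h1 : x * a * x⁻¹ ∈ Subgroup.zpowers b := hx ▸ Subgroup.mem_zpowers _
    rw [← mem_powers_iff_mem_zpowers, Submonoid.mem_powers_iff] at h1
    obtain ⟨n, hn⟩ := h1
    exact F.not_AB ((F.kind_conj hA.1 hB.1 hn.symm).1 hA) hB
  · obtain ⟨c, hc⟩ := exists_prime_orderOf_dvd_card' (G := C) 5 (by rw [hC])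
    have hc5 : orderOf (c : G) = 5 := by rw [Subgroup.orderOf_coe, hc]
    have hCc : C = Subgroup.zpowers (c : G) :=
      (Subgroup.eq_of_le_of_card_ge (Subgroup.zpowers_le.mpr c.2)
        (by rw [Nat.card_zpowers, hc5, hC])).symm
    obtain ⟨P', hP'⟩ := (IsPGroup.of_card (p := 5) (n := 1) (G := C)
      (by rw [hC, pow_one])).exists_le_sylow
    obtain ⟨d, hd⟩ := MulAction.exists_smul_eq G P' P
    have hdP : d * (c : G) * d⁻¹ ∈ (P : Subgroup G) := by
      rw [← hd]; exact ⟨c, hP' c.2, rfl⟩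
    have hd1 : d * (c : G) * d⁻¹ ≠ 1 := fun e => by
      have := Cfsg.Agent.H65.orderOf_conj' d (c : G)
      rw [e, orderOf_one, hc5] at this
      norm_num at this
    rcases hcov _ hdP hd1 with ⟨x, -, hx⟩ | ⟨x, -, hx⟩
    · refine ⟨x⁻¹ * d, Or.inl ?_⟩
      rw [hCc, MonoidHom.map_zpowers]
      congr 1
      show x⁻¹ * d * (c : G) * (x⁻¹ * d)⁻¹ = a
      calc x⁻¹ * d * (c : G) * (x⁻¹ * d)⁻¹ = x⁻¹ * (d * (c : G) * d⁻¹) * x := by group
        _ = a := by rw [← hx]; group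
    · refine ⟨x⁻¹ * d, Or.inr ?_⟩
      rw [hCc, MonoidHom.map_zpowers]
      congr 1
      show x⁻¹ * d * (c : G) * (x⁻¹ * d)⁻¹ = b
      calc x⁻¹ * d * (c : G) * (x⁻¹ * d)⁻¹ = x⁻¹ * (d * (c : G) * d⁻¹) * x := by group
        _ = b := by rw [← hx]; group

end Cfsg.Agent.S5384
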