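import Cfsg.Statements.S5385
import Cfsg.Agent.H13.ConwayFive.Main
-- import your own Cfsg.Agent.* helpers here

set_option autoImplicit false
open Cfsg

namespace Cfsg.Agent.S5385

/-- Let G be a finite group of Conway type (involution z with generalized Fitting subgroup Q of its centralizer C extraspecial of order 2^9, C/Q the commutator subgroup of the isometry group of the hyperbolic quadratic form in dimension 8 over the field with two elements, z not weakly closed in Q), and let B be a subgroup of C of order 5 such that the centralizer of B in Q is extraspecial of order 32 containing no elementary abelian subgroup of order 8 (the quaternion-times-dihedral type). Then the layer L of the centralizer of B in G is isomorphic to the Hall–Janko group and the centralizer of L is isomorphic to the alternating group of degree 5. -/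
theorem result {G : Type*} [Group G] [Finite G] (z : G) (hz : orderOf z = 2) (Q : Subgroup (Subgroup.centralizer ({z} : Set G))) [Q.Normal] (hF : Cfsg.generalizedFittingSubgroup (Subgroup.centralizer ({z} : Set G)) = Q) (hQ : Cfsg.IsExtraspecial 2 Q) (hcard : Nat.card Q = 2 ^ 9) (e : (Subgroup.centralizer ({z} : Set G)) ⧸ Q ≃* Cfsg.Omega (ZMod 2) (Cfsg.quadFormPlus 4 (ZMod 2))) (hnwc : ∃ g : G, (∃ hq : g * z * g⁻¹ ∈ Subgroup.centralizer ({z} : Set G), (⟨g * z * g⁻¹, hq⟩ : Subgroup.centralizer ({z} : Set G)) ∈ Q) ∧ g * z * g⁻¹ ≠ z) (B : Subgroup (Subgroup.centralizer ({z} : Set G))) (hB : Nat.card B = 5) (hCQ : Cfsg.IsExtraspecial 2 ↥(Q ⊓ Subgroup.centralizer (B : Set (Subgroup.centralizer ({z} : Set G))))) (hCQcard : Nat.card ↥(Q ⊓ Subgroup.centralizer (B : Set (Subgroup.centralizer ({z} : Set G)))) = 32) (hminus : ∀ A : Subgroup (Subgroup.centralizer ({z} : Set G)), A ≤ Q ⊓ Subgroup.centralizer (B : Set (Subgroup.centralizer ({z} : Set G))) → Cfsg.IsElementaryAbelian 2 A → Nat.card A ≤ 4) : Cfsg.Spor.IsoJ2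 ↥(Cfsg.layer ↥(Subgroup.centralizer ((B.map (Subgroup.subtype (Subgroup.centralizer ({z} : Set G)))) : Set G))) ∧ Nonempty (↥(Subgroup.centralizer (((Cfsg.layer ↥(Subgroup.centralizer ((B.map (Subgroup.subtype (Subgroup.centralizer ({z} : Set G)))) : Set G))).map (Subgroup.subtype _)) : Set G)) ≃* alternatingGroup (Fin 5)) := by
  classical
  obtain ⟨h⟩ := H73.Conway.setup_of hz Q hF hQ hcard e hnwc
  haveI : Fact (Nat.Prime 5) := ⟨by norm_num⟩
  obtain ⟨⟨g, hg⟩, hgo⟩ := exists_prime_orderOf_dvd_card' (G := B) 5 (by rw [hB])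
  rw [Subgroup.orderOf_mk] at hgo
  have hBg : B = Subgroup.zpowers g :=
    (Subgroup.eq_of_le_of_card_ge (Subgroup.zpowers_le.mpr hg)
      (by rw [hB, Nat.card_zpowers, hgo])).symm
  set b : G := (g : G)
  have hbz : b * z = z * b := Subgroup.mem_centralizer_singleton_iff.mp g.2
  have hb5 : b ^ 5 = 1 := by
    have := congrArg Subtype.val (hgo ▸ pow_orderOf_eq_one g : g ^ 5 = 1)
    simpa using this
  have hb1 : b ≠ 1 := fun e1 => by
    have : g = 1 := Subtype.ext e1
    rw [this, orderOf_one] at hgo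
    norm_num at hgo
  have hcB : Subgroup.centralizer ((B.map (Subgroup.centralizer ({z} : Set G)).subtype : Subgroup G) : Set G) =
      Subgroup.centralizer ({b} : Set G) := by
    rw [hBg, MonoidHom.map_zpowers, Subgroup.zpowers_eq_closure, Subgroup.centralizer_closure]
    rfl
  have hc32 : Nat.card ↥(Q.map (Subgroup.centralizer ({z} : Set G)).subtype ⊓ Subgroup.centralizer ({b} : Set G)) = 32 := by
    rw [← hCQcard]
    refine Nat.card_congr (Equiv.ofBijective
      (fun x => (⟨⟨(x : G), ?_⟩, ?_, ?_⟩ :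
        ↥(Q ⊓ Subgroup.centralizer (B : Set (Subgroup.centralizer ({z} : Set G)))))) ⟨fun x y exy => ?_, fun x => ?_⟩)
    · obtain ⟨q, hq, hqe⟩ := (Subgroup.mem_inf.mp x.2).1
      exact hqe ▸ q.2
    · obtain ⟨q, hq, hqe⟩ := (Subgroup.mem_inf.mp x.2).1
      exact (Subtype.ext hqe : q = ⟨(x : G), _⟩) ▸ hq
    · rw [hBg, Subgroup.zpowers_eq_closure, Subgroup.centralizer_closure]
      exact Subgroup.mem_centralizer_singleton_iff.mpr (Subtype.ext
        (Subgroup.mem_centralizer_singleton_iff.mp (Subgroup.mem_inf.mp x.2).2))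
    · exact Subtype.ext (Subtype.mk.inj (Subtype.mk.inj exy))
    · obtain ⟨x, hxQ, hxB⟩ := x
      exact ⟨⟨(x : G), ⟨x, hxQ, rfl⟩, Subgroup.mem_centralizer_singleton_iff.mpr
        (congrArg Subtype.val (Subgroup.mem_centralizer_iff.mp hxB g hg).symm)⟩, rfl⟩
  obtain ⟨h', hρ⟩ := H13.ConwayFive.exists_normal h hbz hb5 hb1 hc32
  rw [hcB]
  exact (H13.ConwayFive.Five.layer_spec (h := h') (b := b) ⟨hbz, hb5, hρ⟩)

end Cfsg.Agent.S5385
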