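import Cfsg.Statements.S5393
import Cfsg.Agent.H92.Golay
import Cfsg.Agent.Golay.CodeFacts

set_option autoImplicit false
open Cfsg

namespace Cfsg.Agent.S5393

/-- The length-24 code built from the squares modulo 23 contains the all-ones word, and the code modulo the all-ones word is an irreducible module over the field with two elements for the code's automorphism group: a subspace of the code that contains the all-ones word and is invariant under every coordinate permutation preserving the code is either the span of the all-ones word or the whole code. -/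
theorem result : (fun _ : Cfsg.GolayPt => (1 : ZMod 2)) ∈ Cfsg.golayCode ∧ ∀ W : Submodule (ZMod 2) (Cfsg.GolayPt → ZMod 2), (fun _ => (1 : ZMod 2)) ∈ W → W ≤ Cfsg.golayCode → (∀ σ ∈ Cfsg.M24, ∀ w ∈ W, (fun p => w (σ.symm p)) ∈ W) → W = Submodule.span (ZMod 2) {fun _ => (1 : ZMod 2)} ∨ W = Cfsg.golayCode := by
  classical
  refine ⟨Cfsg.Agent.H92.Golay.one_mem, fun W h1 hle hinv => ?_⟩
  have : Fact (Nat.Prime 23) := ⟨by norm_num⟩
  let T : Equiv.Perm Cfsg.GolayPt := Cfsg.Agent.Golay.transl
  have hT := Cfsg.Agent.Golay.transl_mem
  have hTinv : T⁻¹ ∈ Cfsg.M24 := Cfsg.M24.inv_mem hT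
  let π : Equiv.Perm W :=
    { toFun := fun w => ⟨fun p => w.1 (T.symm p), hinv T hT w.1 w.2⟩
      invFun := fun w => ⟨fun p => w.1 (T p), hinv T⁻¹ hTinv w.1 w.2⟩
      left_inv := fun w => Subtype.ext (funext fun p => by simp)
      right_inv := fun w => Subtype.ext (funext fun p => by simp) }
  have hiter : ∀ (n : ℕ) (w : W) (p : Cfsg.GolayPt),
      ((π ^ n) w).1 p = w.1 ((T.symm ^ n) p) := by
    intro n
    induction n with
    | zero => intro w p; rfl
    | succ n ih =>
      intro w p
      rw [pow_succ, Equiv.Perm.mul_apply, ih, pow_succ', Equiv.Perm.mul_apply]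
      rfl
  have hT23 : ∀ p : Cfsg.GolayPt, (T.symm ^ 23) p = p := by decide +kernel
  have hπ : π ^ 23 ^ 1 = 1 := by
    ext w p
    rw [pow_one, hiter, hT23]
    rfl
  have hmod := Equiv.Perm.card_compl_support_modEq (p := 23) (n := 1) hπ
  have h0 : (0 : Cfsg.GolayPt → ZMod 2) ∈ W := W.zero_mem
  have hfix : π.supportᶜ = ({⟨0, h0⟩, ⟨_, h1⟩} : Finset W) := by
    ext w
    simp only [Finset.mem_compl, Equiv.Perm.mem_support, ne_eq, not_not, Finset.mem_insert,
      Finset.mem_singleton]
    constructor
    · intro hw
      have hst : ∀ p, w.1 (T.symm p) = w.1 p := fun p =>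
        congrFun (congrArg Subtype.val hw) p
      have hstep : ∀ n : ℕ, w.1 (some (n : ZMod 23)) = w.1 (some 0) := by
        intro n
        induction n with
        | zero => simp
        | succ n ih =>
          have h := hst (T (some (n : ZMod 23)))
          rw [Equiv.symm_apply_apply] at h
          rw [← ih, h]
          simp [T, Cfsg.Agent.Golay.transl]
      have hconst : ∀ x : ZMod 23, w.1 (some x) = w.1 (some 0) := fun x => by
        rw [← ZMod.natCast_rightInverse x]; exact hstep _
      have hnone : w.1 none = w.1 (some 0) := by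
        by_contra hne
        have hw' : w.1 + (fun _ => w.1 (some 0)) ∈ Cfsg.golayCode := by
          refine Submodule.add_mem _ (hle w.2) ?_
          have := Submodule.smul_mem Cfsg.golayCode (w.1 (some 0)) Cfsg.Agent.H92.Golay.one_mem
          refine (congrArg (· ∈ Cfsg.golayCode) (funext fun p => ?_)).mp this
          simp
        have h := Cfsg.Agent.H92.Golay.dot_eq_zero hw' Cfsg.Agent.H92.Golay.one_mem
        rw [Cfsg.Agent.H92.Golay.dot, Fintype.sum_option, Finset.sum_eq_zero (s := Finset.univ)] at h
        · simp only [Pi.add_apply, Pi.one_apply, mul_one, add_zero] at h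
          exact hne (eq_neg_of_add_eq_zero_left h |>.trans (CharTwo.neg_eq _))
        · intro x _
          simp only [Pi.add_apply, hconst x]
          rw [CharTwo.add_self_eq_zero, zero_mul]
      rcases (show w.1 (some 0) = 0 ∨ w.1 (some 0) = 1 from by
          generalize w.1 (some 0) = a; revert a; decide) with hb | hb
      · refine Or.inl (Subtype.ext (funext fun p => ?_))
        rcases p with _ | x
        · exact hnone.trans hb
        · exact (hconst x).trans hb
      · refine Or.inr (Subtype.ext (funext fun p => ?_))
        rcases p with _ | x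
        · exact hnone.trans hb
        · exact (hconst x).trans hb
    · rintro (rfl | rfl) <;> exact Subtype.ext (funext fun p => rfl)
  have hne : (⟨0, h0⟩ : W) ≠ ⟨_, h1⟩ := fun h => by
    have := congrFun (congrArg Subtype.val h) none
    exact absurd this (by decide : (0 : ZMod 2) ≠ 1)
  rw [hfix, Finset.card_pair hne, ← Nat.card_eq_fintype_card,
    Module.natCard_eq_pow_finrank (K := ZMod 2), Nat.card_zmod] at hmod
  have hk : Module.finrank (ZMod 2) W ≤ 12 :=
    (Submodule.finrank_mono hle).trans Cfsg.Agent.Golay.finrank_golayCode.le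
  have hk' : Module.finrank (ZMod 2) W = 1 ∨ Module.finrank (ZMod 2) W = 12 := by
    have : ∀ k ≤ 12, 2 ≡ 2 ^ k [MOD 23] → k = 1 ∨ k = 12 := by decide +kernel
    exact this _ hk hmod
  rcases hk' with hk1 | hk12
  · left
    refine (Submodule.eq_of_le_of_finrank_eq
      ((Submodule.span_singleton_le_iff_mem _ _).mpr h1) ?_).symm
    rw [hk1, finrank_span_singleton]
    intro h
    exact absurd (congrFun h none) (by decide : (1 : ZMod 2) ≠ 0)
  · right
    exact Submodule.eq_of_le_of_finrank_eq hle (hk12.trans Cfsg.Agent.Golay.finrank_golayCode.symm)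

end Cfsg.Agent.S5393
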