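import Cfsg.Statements.S5396
import Cfsg.Agent.H92.ExtGroup

set_option autoImplicit false
open Cfsg

namespace Cfsg.Agent.S5396

open Cfsg.Agent.H92.F2Forms Cfsg.Agent.H92.ExtGroup

/-- `n` pairs of coordinates. -/
abbrev Pairs (n : ℕ) : Type := Fin n → ZMod 2 × ZMod 2

/-- The cocycle: `Σ a_i b'_i`, plus `a_0 a'_0 + b_0 b'_0` in the minus case (`m = true`). -/
def cocycle (n : ℕ) (m : Bool) : Pairs n →+ Pairs n →+ ZMod 2 where
  toFun v :=
    { toFun := fun w => ∑ i, ((v i).1 * (w i).2 +
        if m ∧ i.1 = 0 then (v i).1 * (w i).1 + (v i).2 * (w i).2 else 0)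
      map_zero' := by simp
      map_add' := fun w w' => by
        rw [← Finset.sum_add_distrib]
        refine Finset.sum_congr rfl fun i _ => ?_
        simp only [Pi.add_apply, Prod.fst_add, Prod.snd_add]
        split_ifs <;> ring }
  map_zero' := by ext w; simp
  map_add' v v' := by
    apply AddMonoidHom.ext
    intro w
    simp only [AddMonoidHom.coe_mk, ZeroHom.coe_mk, AddMonoidHom.add_apply]
    rw [← Finset.sum_add_distrib]
    refine Finset.sum_congr rfl fun i _ => ?_
    simp only [Pi.add_apply, Prod.fst_add, Prod.snd_add]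
    split_ifs <;> ring

theorem cocycle_apply (n : ℕ) (m : Bool) (v w : Pairs n) : cocycle n m v w =
    ∑ i, ((v i).1 * (w i).2 +
      if m ∧ i.1 = 0 then (v i).1 * (w i).1 + (v i).2 * (w i).2 else 0) := rfl

/-- The polar form. -/
def polar (n : ℕ) (m : Bool) : Pairs n →+ Pairs n →+ ZMod 2 := cocycle n m + (cocycle n m).flip

theorem polar_apply (n : ℕ) (m : Bool) (v w : Pairs n) :
    polar n m v w = ∑ i, ((v i).1 * (w i).2 + (w i).1 * (v i).2) := by
  show cocycle n m v w + cocycle n m w v = _
  rw [cocycle_apply, cocycle_apply, ← Finset.sum_add_distrib]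
  refine Finset.sum_congr rfl fun i _ => ?_
  have : ∀ a b c d : ZMod 2, ∀ e : Bool,
      (a * d + if e then a * c + b * d else 0) + (c * b + if e then c * a + d * b else 0) =
        a * d + c * b := by decide
  simpa [Bool.and_eq_true] using this (v i).1 (v i).2 (w i).1 (w i).2 (m && (i.1 == 0))

theorem polar_nondeg (n : ℕ) (m : Bool) (w : Pairs n) (h : ∀ v, polar n m v w = 0) : w = 0 := by
  funext i
  have h1 := h (Pi.single i (1, 0))
  have h2 := h (Pi.single i (0, 1))
  rw [polar_apply, Finset.sum_eq_single i] at h1 h2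
  · simp at h1 h2
    exact Prod.ext h2 h1
  all_goals intros; simp_all [Pi.single_apply]

theorem isQuad (n : ℕ) (m : Bool) : IsQuad (fun v => cocycle n m v v) (polar n m) where
  add v w := by
    show cocycle n m (v + w) (v + w) = _ + _ + (cocycle n m v w + cocycle n m w v)
    simp only [map_add, AddMonoidHom.add_apply]
    ring
  nondeg := polar_nondeg n m

theorem gauss_sum (n : ℕ) (hn : 1 ≤ n) (m : Bool) :
    ∑ v : Pairs n, chi (cocycle n m v v) = (if m then -1 else 1) * 2 ^ n := by
  simp only [cocycle_apply, chi_sum]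
  rw [← Fintype.prod_sum (fun i (p : ZMod 2 × ZMod 2) => chi (p.1 * p.2 +
    if m = true ∧ (i : Fin n).1 = 0 then p.1 * p.1 + p.2 * p.2 else 0))]
  obtain ⟨k, rfl⟩ : ∃ k, n = k + 1 := ⟨n - 1, by omega⟩
  rw [Fin.prod_univ_succ]
  have h1 : ∑ p : ZMod 2 × ZMod 2, chi (p.1 * p.2) = 2 := by decide
  have h2 : ∑ p : ZMod 2 × ZMod 2, chi (p.1 * p.2 + (p.1 * p.1 + p.2 * p.2)) = -2 := by decide
  cases m <;> simp [h1, h2, pow_succ] <;> ring

/-- The standard totally singular subgroup. -/
def singW (n : ℕ) (m : Bool) : AddSubgroup (Pairs n) where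
  carrier := {v | ∀ i, (v i).2 = 0 ∧ (m = true → i.1 = 0 → (v i).1 = 0)}
  zero_mem' := fun i => ⟨rfl, fun _ _ => rfl⟩
  add_mem' := fun {a b} ha hb i => ⟨by simp [(ha i).1, (hb i).1],
    fun h h' => by simp [(ha i).2 h h', (hb i).2 h h']⟩
  neg_mem' := fun {a} ha i => ⟨by simp [(ha i).1], fun h h' => by simp [(ha i).2 h h']⟩

theorem singW_sing (n : ℕ) (m : Bool) (v : Pairs n) (hv : v ∈ singW n m) : cocycle n m v v = 0 := by
  rw [cocycle_apply]
  refine Finset.sum_eq_zero fun i _ => ?_
  rw [(hv i).1]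
  split_ifs with h
  · rw [(hv i).2 h.1 h.2]; simp
  · simp

theorem card_singW (n : ℕ) (hn : 1 ≤ n) (m : Bool) :
    Nat.card (singW n m) = 2 ^ (if m then n - 1 else n) := by
  cases m
  · let e : singW n false ≃ (Fin n → ZMod 2) :=
      { toFun := fun v i => (v.1 i).1
        invFun := fun f => ⟨fun i => (f i, 0), fun i => ⟨rfl, fun h => nomatch h⟩⟩
        left_inv := fun v => Subtype.ext (funext fun i => Prod.ext rfl (v.2 i).1.symm)
        right_inv := fun f => rfl }
    rw [Nat.card_congr e, Nat.card_fun, Nat.card_zmod, Nat.card_fin]; rfl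
  · obtain ⟨k, rfl⟩ : ∃ k, n = k + 1 := ⟨n - 1, by omega⟩
    let e : singW (k + 1) true ≃ (Fin k → ZMod 2) :=
      { toFun := fun v i => (v.1 i.succ).1
        invFun := fun f => ⟨Fin.cons 0 (fun i => (f i, 0)), fun i => by
          refine Fin.cases ?_ ?_ i
          · simp
          · intro j; simp⟩
        left_inv := fun v => by
          refine Subtype.ext (funext fun i => ?_)
          refine Fin.cases ?_ ?_ i
          · exact (Prod.ext ((v.2 0).2 rfl rfl) (v.2 0).1).symm
          · intro j; exact Prod.ext rfl (v.2 j.succ).1.symm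
        right_inv := fun f => funext fun i => rfl }
    rw [Nat.card_congr e, Nat.card_fun, Nat.card_zmod, Nat.card_fin]; simp

theorem exists_group (n : ℕ) (hn : 1 ≤ n) (m : Bool) :
    ∃ (E : Type) (_ : Group E) (_ : Finite E), Cfsg.IsExtraspecial 2 E ∧
      Nat.card E = 2 ^ (2 * n + 1) ∧
      sSup {k : ℕ | ∃ A : Subgroup E, Cfsg.IsElementaryAbelian 2 A ∧ Nat.card A = 2 ^ k} =
        (if m then n else n + 1) := by
  classical
  have h2 : ∀ v : Pairs n, v + v = 0 := fun v => funext fun i =>
    Prod.ext (CharTwo.add_self_eq_zero _) (CharTwo.add_self_eq_zero _)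
  have hV : Nat.card (Pairs n) = 2 ^ (2 * n) := by
    rw [Nat.card_fun, Nat.card_prod, Nat.card_zmod, Nat.card_fin, pow_mul]; norm_num
  refine ⟨Ext (cocycle n m), inferInstance, inferInstance,
    isExtraspecial h2 hV (polar_nondeg n m) ?_, by rw [card_ext, hV, pow_succ], ?_⟩
  · by_contra h
    push Not at h
    have := polar_nondeg n m (Pi.single ⟨0, hn⟩ (1, 0)) (fun v => h v _)
    simpa using congrFun this ⟨0, hn⟩
  refine IsGreatest.csSup_eq ⟨?_, ?_⟩
  · obtain ⟨A, hA, hAc⟩ := elementary_exists h2 (singW_sing n m)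
    refine ⟨A, hA, ?_⟩
    rw [hAc, card_singW n hn]
    cases m
    · simp [pow_succ, mul_comm]
    · have : n = n - 1 + 1 := by omega
      conv_rhs => rw [if_pos rfl, this, pow_succ, mul_comm]
      simp
  · rintro k ⟨A, hA, hAk⟩
    obtain ⟨W, hW, hle⟩ := elementary_bound hA
    have hsq := (isQuad n m).card_sq_le hW
    rw [hV, show 2 ^ (2 * n) = 2 ^ n * 2 ^ n by rw [two_mul, pow_add]] at hsq
    have hWle : Nat.card W ≤ 2 ^ n := Nat.mul_self_le_mul_self_iff.mp hsq
    cases m
    · have : 2 ^ k ≤ 2 ^ (n + 1) := by rw [← hAk, pow_succ]; omega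
      simpa using (Nat.pow_le_pow_iff_right (le_refl 2)).mp this
    · have hlt : Nat.card W < 2 ^ n := by
        refine lt_of_le_of_ne hWle fun he => ?_
        have hg := (isQuad n true).gauss hW (by rw [he, hV, two_mul, pow_add])
        rw [gauss_sum n hn, he] at hg
        simp at hg
        have : (0 : ℤ) < 2 ^ n := by positivity
        omega
      have : 2 ^ k < 2 ^ (n + 1) := by rw [← hAk, pow_succ]; omega
      have := (Nat.pow_lt_pow_iff_right (le_refl 2)).mp this
      simp
      omega

/-- For every n ≥ 1 there exist finite extraspecial 2-groups of order 2^(2n+1) whose 2-rank (the largest rank of an elementary abelian subgroup) is n, and ones whose 2-rank is n + 1 (so for each such order there are two non-isomorphic extraspecial 2-groups, told apart by their 2-rank). -/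
theorem result (n : ℕ) (hn : 1 ≤ n) : ∀ r ∈ ({n, n + 1} : Set ℕ), ∃ (E : Type) (_ : Group E) (_ : Finite E), Cfsg.IsExtraspecial 2 E ∧ Nat.card E = 2 ^ (2 * n + 1) ∧ sSup {k : ℕ | ∃ A : Subgroup E, Cfsg.IsElementaryAbelian 2 A ∧ Nat.card A = 2 ^ k} = r := by
  intro r hr
  rcases hr with rfl | hr
  · simpa using exists_group r hn true
  · rw [Set.mem_singleton_iff] at hr
    subst hr
    simpa using exists_group n hn false

end Cfsg.Agent.S5396
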