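import Cfsg.Statements.S5397
import Cfsg.Agent.PGroups.ConwayA.Split

set_option autoImplicit false
open Cfsg

namespace Cfsg.Agent.S5397

/-- Let G be a finite group of Conway type (involution z with generalized Fitting subgroup Q of its centralizer C extraspecial of order 2^9, C/Q the commutator subgroup of the isometry group of the hyperbolic quadratic form in dimension 8 over the field with two elements, z not weakly closed in Q). Then G has an elementary abelian subgroup A of order 2^11 containing z whose normalizer N is a split extension of A with N/A isomorphic to the automorphism group of the length-24 code built from the squares modulo 23, and N has exactly two orbits on the non-identity elements of A. -/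
theorem result {G : Type*} [Group G] [Finite G] (z : G) (hz : orderOf z = 2) (Q : Subgroup (Subgroup.centralizer ({z} : Set G))) [Q.Normal] (hF : Cfsg.generalizedFittingSubgroup (Subgroup.centralizer ({z} : Set G)) = Q) (hQ : Cfsg.IsExtraspecial 2 Q) (hcard : Nat.card Q = 2 ^ 9) (e : (Subgroup.centralizer ({z} : Set G)) ⧸ Q ≃* Cfsg.Omega (ZMod 2) (Cfsg.quadFormPlus 4 (ZMod 2))) (hnwc : ∃ g : G, (∃ hq : g * z * g⁻¹ ∈ Subgroup.centralizer ({z} : Set G), (⟨g * z * g⁻¹, hq⟩ : Subgroup.centralizer ({z} : Set G)) ∈ Q) ∧ g * z * g⁻¹ ≠ z) : ∃ A : Subgroup G, Cfsg.IsElementaryAbelian 2 A ∧ Nat.card A = 2 ^ 11 ∧ z ∈ A ∧ ∃ _ : (A.subgroupOf (Subgroup.normalizer (A : Set G))).Normal, Nonempty (↥(Subgroup.normalizer (A : Set G)) ⧸ A.subgroupOf (Subgroup.normalizer (A : Set G)) ≃* ↥Cfsg.M24) ∧ (∃ K : Subgroup ↥(Subgroup.normalizer (A : Set G)), (A.subgroupOf (Subgroup.normalizer (A : Set G))).IsComplement' K) ∧ ∃ a ∈ A, ∃ b ∈ A, a ≠ 1 ∧ b ≠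 1 ∧ (∀ n ∈ Subgroup.normalizer (A : Set G), n * a * n⁻¹ ≠ b) ∧ ∀ c ∈ A, c ≠ 1 → ∃ n ∈ Subgroup.normalizer (A : Set G), n * c * n⁻¹ = a ∨ n * c * n⁻¹ = b := by
  obtain ⟨h0⟩ := Cfsg.Agent.H73.Conway.setup_of hz Q hF hQ hcard e hnwc
  obtain ⟨s, w, P0⟩ := Cfsg.Agent.H73.Conway.exists_setup_pair h0
  obtain ⟨h, P, hGd⟩ := Cfsg.Agent.PGroups.ConwayA.exists_good P0
  obtain ⟨l, hl, hob⟩ := Cfsg.Agent.PGroups.ConwayA.exists_gauge h P hGd
  obtain ⟨Ψ, hΨ, hrel, hker, hN⟩ :=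
    Cfsg.Agent.PGroups.ConwayA.mathieu_surj h P hGd hl hob
  obtain ⟨b, hb, hb1, hnb, htwo⟩ :=
    Cfsg.Agent.PGroups.ConwayA.two_orbits h P hGd hl hob hΨ hrel
  have hnorm : ((Cfsg.Agent.PGroups.ConwayA.AU h).subgroupOf
      (Subgroup.normalizer (Cfsg.Agent.PGroups.ConwayA.AU h : Set G))).Normal := by
    rw [← hker]; infer_instance
  refine ⟨Cfsg.Agent.PGroups.ConwayA.AU h, Cfsg.Agent.PGroups.ConwayA.AU_elementary h P hGd,
    by rw [Cfsg.Agent.PGroups.ConwayA.card_AU h]; norm_num,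
    Cfsg.Agent.PGroups.ConwayA.eU_le_AU h (Cfsg.Agent.PGroups.ConwayA.z_mem_eU h), hnorm,
    ⟨(QuotientGroup.quotientMulEquivOfEq hker.symm).trans
      (QuotientGroup.quotientKerEquivOfSurjective Ψ hΨ)⟩,
    Cfsg.Agent.PGroups.ConwayA.exists_split h P hGd hN,
    z, Cfsg.Agent.PGroups.ConwayA.eU_le_AU h (Cfsg.Agent.PGroups.ConwayA.z_mem_eU h),
    b, hb, h.z_ne, hb1, fun n hn he => hnb ⟨n, hn, he⟩, htwo⟩

end Cfsg.Agent.S5397
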