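import Cfsg.Statements.S5400
import Cfsg.Agent.H93.Invol24
import Cfsg.Agent.H61.M24.Count

set_option autoImplicit false
open Cfsg

namespace Cfsg.Agent.S5400

/-- Let G be a finite group with trivial centre generated by a conjugation-invariant set D of 3-transpositions on which it acts primitively, such that for some d in D the subgroup generated by the members of D other than d commuting with d has central largest normal 2- and 3-subgroups, and suppose G with D is of type M(24). Then G has exactly 4 conjugacy classes of involutions: every involution is a product of m distinct pairwise commuting members of D for some m between 1 and 4; for each such m these products form one non-empty conjugacy class; and the value of m is determined by the involution. -/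
theorem result {G : Type*} [Group G] [Finite G] {D : Set G} (hD : Cfsg.IsThreeTranspositionGroup D) (hprim : Cfsg.IsPrimitiveUnderConj D) (d : G) (hd : d ∈ D) (h3 : Cfsg.pCore 3 ↥(Subgroup.closure {y : G | y ∈ D ∧ y ≠ d ∧ Commute d y}) ≤ Subgroup.center ↥(Subgroup.closure {y : G | y ∈ D ∧ y ≠ d ∧ Commute d y})) (h2 : Cfsg.pCore 2 ↥(Subgroup.closure {y : G | y ∈ D ∧ y ≠ d ∧ Commute d y}) ≤ Subgroup.center ↥(Subgroup.closure {y : G | y ∈ D ∧ y ≠ d ∧ Commute d y})) (ht : Cfsg.IsOfTypeM24 G D) : (∀ x : G, orderOf x = 2 → ∃ m : ℕ, 1 ≤ m ∧ m ≤ 4 ∧ (∃ l : List G, l.Nodup ∧ l.length = m ∧ (∀ a ∈ l, a ∈ D) ∧ (∀ a ∈ l, ∀ b ∈ l, Commute a b) ∧ l.prod = x)) ∧ (∀ m : ℕ, 1 ≤ m → m ≤ 4 → (∃ x : G, orderOf x = 2 ∧ (∃ l : List G, l.Nodup ∧ l.length = m ∧ (∀ a ∈ l, a ∈ D) ∧ (∀ a ∈ l, ∀ b ∈ l, Commute a b) ∧ l.prod = x)) ∧ ∀ x y : G, (∃ l : List G, l.Nodup ∧ l.length = m ∧ (∀ a ∈ l, a ∈ D) ∧ (∀ a ∈ l, ∀ b ∈ l, Commute a b) ∧ l.prod = x) → (∃ l : List G, l.Nodup ∧ l.length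 = m ∧ (∀ a ∈ l, a ∈ D) ∧ (∀ a ∈ l, ∀ b ∈ l, Commute a b) ∧ l.prod = y) → IsConj x y) ∧ ∀ (m m' : ℕ) (x : G), 1 ≤ m → m ≤ 4 → 1 ≤ m' → m' ≤ 4 → (∃ l : List G, l.Nodup ∧ l.length = m ∧ (∀ a ∈ l, a ∈ D) ∧ (∀ a ∈ l, ∀ b ∈ l, Commute a b) ∧ l.prod = x) → (∃ l : List G, l.Nodup ∧ l.length = m' ∧ (∀ a ∈ l, a ∈ D) ∧ (∀ a ∈ l, ∀ b ∈ l, Commute a b) ∧ l.prod = x) → m = m' := by
  classical
  have hg := Cfsg.Agent.H61.M24.geo24 hD hprim ht
  have hcore := hg.data.core
  have hind := hg.data.ind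
  have hres : ∀ a ∈ D, Cfsg.Agent.H93.M23Data (Cfsg.Agent.H93.resSet D a) ∧
      Cfsg.Agent.H93.Geo23 (Cfsg.Agent.H93.resSet D a) := fun a ha =>
    ⟨(hg.data.res a ha).2, (hg.data.res a ha).1⟩
  have htwo : ∀ a ∈ D, ∀ k : ↥(Cfsg.Agent.H93.nbSub D a),
      k ∈ Subgroup.center ↥(Cfsg.Agent.H93.nbSub D a) → (k : G) = 1 ∨ (k : G) = a :=
    fun a ha k hk => (hg.center_iff ha k).mp hk
  have sq : ∀ l : List G, (∀ a ∈ l, a ∈ D) → (∀ a ∈ l, ∀ b ∈ l, Commute a b) → l.prod * l.prod = 1 := by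
    intro l
    induction l with
    | nil => intros; simp
    | cons e l ih =>
      intro hm hc
      have c : Commute e l.prod := Commute.list_prod_right l e fun b hb =>
        hc e List.mem_cons_self b (List.mem_cons_of_mem _ hb)
      have q := ih (fun a ha => hm a (List.mem_cons_of_mem _ ha)) fun a ha b hb =>
        hc a (List.mem_cons_of_mem _ ha) b (List.mem_cons_of_mem _ hb)
      rw [List.prod_cons, show e * l.prod * (e * l.prod) = e * (l.prod * e) * l.prod by group, ← c.eq,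
        show e * (e * l.prod) * l.prod = (e * e) * (l.prod * l.prod) by group, q,
        hcore.tt.sq e (hm e List.mem_cons_self), one_mul]
  refine ⟨fun x hx => ?_, fun m h1 h4 => ⟨?_, ?_⟩, ?_⟩
  · have hx2 : x * x = 1 := by rw [← pow_two, ← hx, pow_orderOf_eq_one]
    obtain ⟨l, lm, lc, lp⟩ := Cfsg.Agent.H93.Upper24.invol_list hcore hg.cent htwo hres hd hx2
    obtain ⟨l', hnd, hlen, hm, hc, hp⟩ :=
      Cfsg.Agent.H93.Upper24.shorten hcore hind htwo hres l.length l le_rfl lm lc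
    refine ⟨l'.length, ?_, hlen, l', hnd, rfl, hm, hc, hp.trans lp⟩
    by_contra h0
    have e : l' = [] := List.eq_nil_of_length_eq_zero (by omega)
    rw [e, List.prod_nil, lp] at hp
    rw [← hp, orderOf_one] at hx
    omega
  · obtain ⟨l, hnd, hlen, hm, hc⟩ := Cfsg.Agent.H93.Upper24.exists_four hcore hres hd
    have hl : (l.take m).length = m := by rw [List.length_take, hlen]; omega
    have hm' : ∀ a ∈ l.take m, a ∈ D := fun a ha => hm a (List.mem_of_mem_take ha)
    have hc' : ∀ a ∈ l.take m, ∀ b ∈ l.take m, Commute a b := fun a ha b hb =>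
      hc a (List.mem_of_mem_take ha) b (List.mem_of_mem_take hb)
    have hnd' : (l.take m).Nodup := hnd.sublist (List.take_sublist m l)
    refine ⟨(l.take m).prod, orderOf_eq_prime (by rw [pow_two]; exact sq _ hm' hc') fun e => ?_,
      l.take m, hnd', hl, hm', hc', rfl⟩
    have := Cfsg.Agent.H93.Upper24.length_unique hcore hind (l.take m).length (l.take m) []
      (by simp) (by rw [hl]; simp; omega) hnd' List.nodup_nil hm' (by simp) hc' (by simp)
      (by rw [e, List.prod_nil])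
    simp only [hl, List.length_nil] at this
    omega
  · rintro x y ⟨l, hnd, hl, hm, hc, rfl⟩ ⟨l', hnd', hl', hm', hc', rfl⟩
    exact Cfsg.Agent.H93.Upper24.conj_prod hcore hres h1 h4 hnd hnd' hl hl' hm hm' hc hc'
  · rintro m m' x - h4 - h4' ⟨l, hnd, rfl, hm, hc, hp⟩ ⟨l', hnd', rfl, hm', hc', hp'⟩
    by_cases h8 : l.length + l'.length ≤ 7
    · exact Cfsg.Agent.H93.Upper24.length_unique hcore hind _ l l' le_rfl h8 hnd hnd' hm hm' hc hc'
        (hp.trans hp'.symm)
    · omega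

end Cfsg.Agent.S5400
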