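import Cfsg.Statements.S5405
import Cfsg.Agent.H92.OrthH1Four

set_option autoImplicit false
open scoped MatrixGroups
open Cfsg

namespace Cfsg.Agent.S5405

open Cfsg.Agent.Orthogonal

theorem transport {ι : Type} [Fintype ι] [DecidableEq ι] (Q : QuadraticForm (ZMod 2) (ι → ZMod 2))
    (h : ∀ c : ↥(commutator (O Q)) → (ι → ZMod 2),
      (∀ g g', c (g * g') = c g + ((g : O Q) : (ι → ZMod 2) ≃ₗ[ZMod 2] (ι → ZMod 2)) (c g')) →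
      ∃ v, ∀ g, c g = ((g : O Q) : (ι → ZMod 2) ≃ₗ[ZMod 2] (ι → ZMod 2)) v - v)
    (f : ↥(Cfsg.Omega (ZMod 2) (⇑Q)) → (ι → ZMod 2))
    (hf : ∀ g g' : ↥(Cfsg.Omega (ZMod 2) (⇑Q)), f (g * g') = f g + Matrix.mulVec
      (((g : ↥(Cfsg.isometryGroup (ZMod 2) (⇑Q))) : GL ι (ZMod 2)) : Matrix ι ι (ZMod 2)) (f g')) :
    ∃ v, ∀ g : ↥(Cfsg.Omega (ZMod 2) (⇑Q)), f g = Matrix.mulVec
      (((g : ↥(Cfsg.isometryGroup (ZMod 2) (⇑Q))) : GL ι (ZMod 2)) : Matrix ι ι (ZMod 2)) v - v := by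
  have hm : ∀ g : ↥(commutator (O Q)), (toO Q).symm (g : O Q) ∈ Cfsg.Omega (ZMod 2) (⇑Q) := fun g => by
    rw [mem_omega_iff, MulEquiv.apply_symm_apply]; exact g.2
  obtain ⟨v, hv⟩ := h (fun g => f ⟨_, hm g⟩) (fun g g' => by
    have e : (⟨_, hm (g * g')⟩ : ↥(Cfsg.Omega (ZMod 2) (⇑Q))) = ⟨_, hm g⟩ * ⟨_, hm g'⟩ :=
      Subtype.ext (map_mul (toO Q).symm (g : O Q) (g' : O Q))
    rw [e, hf, toO_symm_apply])
  refine ⟨v, fun g => ?_⟩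
  have hg : toO Q (g : ↥(Cfsg.isometryGroup (ZMod 2) (⇑Q))) ∈ commutator (O Q) :=
    (mem_omega_iff Q _).1 g.2
  have e : (⟨_, hm ⟨_, hg⟩⟩ : ↥(Cfsg.Omega (ZMod 2) (⇑Q))) = g :=
    Subtype.ext ((toO Q).symm_apply_apply _)
  have := hv ⟨_, hg⟩
  rw [e] at this
  rw [this, toO_apply]

theorem add_self (n : ℕ) (x : Fin n ⊕ Fin n → ZMod 2) : x + x = 0 := Cfsg.Agent.H92.OrthH1.add_self' x

/-- An order-three isometry of `Fin m ⊕ Fin m`, for `m = 4`. -/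
def fPlus (v : Fin 4 ⊕ Fin 4 → ZMod 2) : Fin 4 ⊕ Fin 4 → ZMod 2 :=
  Sum.elim ![v (.inl 1), v (.inl 0) + v (.inl 1), v (.inl 3), v (.inl 2) + v (.inl 3)]
    ![v (.inr 0) + v (.inr 1), v (.inr 0), v (.inr 2) + v (.inr 3), v (.inr 2)]

/-- An order-three isometry for the minus form in dimension six. -/
def fMinus (v : (Fin 2 ⊕ Fin 2) ⊕ Fin 2 → ZMod 2) : (Fin 2 ⊕ Fin 2) ⊕ Fin 2 → ZMod 2 :=
  Sum.elim (Sum.elim ![v (.inl (.inl 1)), v (.inl (.inl 0)) + v (.inl (.inl 1))]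
    ![v (.inl (.inr 0)) + v (.inl (.inr 1)), v (.inl (.inr 0))])
    ![v (.inr 1), v (.inr 0) + v (.inr 1)]

theorem fPlus_add (x y : Fin 4 ⊕ Fin 4 → ZMod 2) : fPlus (x + y) = fPlus x + fPlus y := by
  funext i
  rcases i with i | i <;> fin_cases i <;> simp [fPlus] <;> abel

theorem fMinus_add (x y : (Fin 2 ⊕ Fin 2) ⊕ Fin 2 → ZMod 2) : fMinus (x + y) = fMinus x + fMinus y := by
  funext i
  rcases i with (i | i) | i <;> fin_cases i <;> simp [fMinus] <;> abel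

theorem fPlus_rel (x : Fin 4 ⊕ Fin 4 → ZMod 2) : fPlus (fPlus x) = fPlus x + x := by
  have h : ∀ a b : ZMod 2, a + b + a = b ∧ b = a + (a + b) ∧ a = a + b + b := by decide
  funext i
  rcases i with i | i <;> fin_cases i <;> simp [fPlus] <;>
    first | abel | grind

theorem fMinus_rel (x : (Fin 2 ⊕ Fin 2) ⊕ Fin 2 → ZMod 2) : fMinus (fMinus x) = fMinus x + x := by
  funext i
  rcases i with (i | i) | i <;> fin_cases i <;> simp [fMinus] <;>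
    first | abel | grind

theorem dec6 : ∀ a b c d e f : ZMod 2,
    b * (c + d) + (a + b) * c + (f + f * (e + f) + (e + f)) = a * c + b * d + (e + e * f + f) := by
  decide

theorem fpf_exists {ι : Type} [Fintype ι] (Q : QuadraticForm (ZMod 2) (ι → ZMod 2))
    (f : (ι → ZMod 2) → (ι → ZMod 2)) (hadd : ∀ x y, f (x + y) = f x + f y)
    (hrel : ∀ x, f (f x) = f x + x) (hq : ∀ x, Q (f x) = Q x) :
    ∃ a : O Q, Cfsg.Agent.H92.OrthH1.Fpf Q a := by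
  have h3 : ∀ x, f (f (f x)) = x := fun x => by
    rw [hrel, hrel, add_comm (f x) x, Cfsg.Agent.H92.OrthH1.add_right_cancel']
  let L : (ι → ZMod 2) →ₗ[ZMod 2] (ι → ZMod 2) := (AddMonoidHom.mk' f hadd).toZModLinearMap 2
  let e : (ι → ZMod 2) ≃ₗ[ZMod 2] (ι → ZMod 2) :=
    LinearEquiv.ofLinearMap L (L.comp L) (LinearMap.ext h3) (LinearMap.ext fun x => h3 x)
  exact ⟨⟨e, hq⟩, ⟨hrel⟩⟩

/-- Vanishing of first cohomology on the natural module for three small orthogonal groups over the field with two elements: for the commutator subgroup of the isometry group of the elliptic quadratic form in dimension 4, of the elliptic form in dimension 6, and of the hyperbolic form in dimension 8, every crossed homomorphism into the natural module (a map f with f(gh) = f(g) + g·f(h)) is principal (of the form g ↦ g·v − v). -/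
theorem result : (∀ f : ↥(Cfsg.Omega (ZMod 2) (Cfsg.quadFormMinus 1 (ZMod 2) 1 1)) → ((Fin 1 ⊕ Fin 1) ⊕ Fin 2 → ZMod 2), (∀ g h : ↥(Cfsg.Omega (ZMod 2) (Cfsg.quadFormMinus 1 (ZMod 2) 1 1)), f (g * h) = f g + Matrix.mulVec (((g : ↥(Cfsg.isometryGroup (ZMod 2) (Cfsg.quadFormMinus 1 (ZMod 2) 1 1))) : GL ((Fin 1 ⊕ Fin 1) ⊕ Fin 2) (ZMod 2)) : Matrix ((Fin 1 ⊕ Fin 1) ⊕ Fin 2) ((Fin 1 ⊕ Fin 1) ⊕ Fin 2) (ZMod 2)) (f h)) → ∃ v : (Fin 1 ⊕ Fin 1) ⊕ Fin 2 → ZMod 2, ∀ g : ↥(Cfsg.Omega (ZMod 2) (Cfsg.quadFormMinus 1 (ZMod 2) 1 1)), f g = Matrix.mulVec (((g : ↥(Cfsg.isometryGroup (ZMod 2) (Cfsg.quadFormMinus 1 (ZMod 2) 1 1))) : GL ((Fin 1 ⊕ Fin 1) ⊕ Fin 2) (ZMod 2)) : Matrix ((Fin 1 ⊕ Fin 1) ⊕ Fin 2) ((Fin 1 ⊕ Fin 1) ⊕ Fin 2) (ZMod 2)) v - v) ∧ (∀ f : ↥(Cfsg.Omega (ZMod 2) (Cfsg.quadFormMinus 2 (ZMod 2) 1 1)) → ((Fin 2 ⊕ Fin 2) ⊕ Fin 2 → ZMod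 2), (∀ g h : ↥(Cfsg.Omega (ZMod 2) (Cfsg.quadFormMinus 2 (ZMod 2) 1 1)), f (g * h) = f g + Matrix.mulVec (((g : ↥(Cfsg.isometryGroup (ZMod 2) (Cfsg.quadFormMinus 2 (ZMod 2) 1 1))) : GL ((Fin 2 ⊕ Fin 2) ⊕ Fin 2) (ZMod 2)) : Matrix ((Fin 2 ⊕ Fin 2) ⊕ Fin 2) ((Fin 2 ⊕ Fin 2) ⊕ Fin 2) (ZMod 2)) (f h)) → ∃ v : (Fin 2 ⊕ Fin 2) ⊕ Fin 2 → ZMod 2, ∀ g : ↥(Cfsg.Omega (ZMod 2) (Cfsg.quadFormMinus 2 (ZMod 2) 1 1)), f g = Matrix.mulVec (((g : ↥(Cfsg.isometryGroup (ZMod 2) (Cfsg.quadFormMinus 2 (ZMod 2) 1 1))) : GL ((Fin 2 ⊕ Fin 2) ⊕ Fin 2) (ZMod 2)) : Matrix ((Fin 2 ⊕ Fin 2) ⊕ Fin 2) ((Fin 2 ⊕ Fin 2) ⊕ Fin 2) (ZMod 2)) v - v) ∧ (∀ f : ↥(Cfsg.Omega (ZMod 2) (Cfsg.quadFormPlus 4 (ZMod 2))) → (Fin 4 ⊕ Fin 4 → ZMod 2), (∀ g h : ↥(Cfsg.Omega (ZMod 2) (Cfsg.quadFormPlus 4 (ZMod 2))), f (g * h) = f g + Matrix.mulVec (((g : ↥(Cfsg.isometryGroup (ZMod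 2) (Cfsg.quadFormPlus 4 (ZMod 2)))) : GL (Fin 4 ⊕ Fin 4) (ZMod 2)) : Matrix (Fin 4 ⊕ Fin 4) (Fin 4 ⊕ Fin 4) (ZMod 2)) (f h)) → ∃ v : Fin 4 ⊕ Fin 4 → ZMod 2, ∀ g : ↥(Cfsg.Omega (ZMod 2) (Cfsg.quadFormPlus 4 (ZMod 2))), f g = Matrix.mulVec (((g : ↥(Cfsg.isometryGroup (ZMod 2) (Cfsg.quadFormPlus 4 (ZMod 2)))) : GL (Fin 4 ⊕ Fin 4) (ZMod 2)) : Matrix (Fin 4 ⊕ Fin 4) (Fin 4 ⊕ Fin 4) (ZMod 2)) v - v) := by
  refine ⟨fun f hf => ?_, fun f hf => ?_, fun f hf => ?_⟩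
  · exact transport (formMinus (ZMod 2) 1 1 1) Cfsg.Agent.H92.OrthH1Four.principal f hf
  · obtain ⟨a, ha⟩ := fpf_exists (formMinus (ZMod 2) 2 1 1) fMinus fMinus_add fMinus_rel (by
      intro x
      show Cfsg.quadFormMinus 2 (ZMod 2) 1 1 (fMinus x) = Cfsg.quadFormMinus 2 (ZMod 2) 1 1 x
      simp [Cfsg.quadFormMinus, fMinus, Fin.sum_univ_two]
      exact dec6 _ _ _ _ _ _)
    exact transport (formMinus (ZMod 2) 2 1 1) (fun c hc => Cfsg.Agent.H92.OrthH1.principal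
      (formMinus_nondeg (F := ZMod 2) (m := 2) (by decide)) (by rw [finrank_formMinus]; norm_num)
      ha c hc) f hf
  · obtain ⟨a, ha⟩ := fpf_exists (formPlus (ZMod 2) 4) fPlus fPlus_add fPlus_rel (by
      intro x
      show Cfsg.quadFormPlus 4 (ZMod 2) (fPlus x) = Cfsg.quadFormPlus 4 (ZMod 2) x
      simp [Cfsg.quadFormPlus, fPlus, Fin.sum_univ_four]
      grind)
    exact transport (formPlus (ZMod 2) 4) (fun c hc => Cfsg.Agent.H92.OrthH1.principal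
      (formPlus_nondeg (F := ZMod 2) (m := 4)) (by rw [finrank_formPlus]; norm_num)
      ha c hc) f hf

end Cfsg.Agent.S5405
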