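import Cfsg.Statements.S5408
import Cfsg.Agent.H92.LeechForm

set_option autoImplicit false
open Cfsg

namespace Cfsg.Agent.S5408

/-- Let G be a finite group of Monster type at the involution z with Q the extraspecial normal subgroup of order 2^25 of C = C_G(z) (so C/Q is identified with the first Conway group with Q modulo its centre the Leech lattice modulo 2, and z is not weakly closed in Q). Then Q is of plus type: it contains an elementary abelian subgroup of order 2^13. -/
theorem result {G : Type*} [Group G] [Finite G] (z : G) (Q : Subgroup (Subgroup.centralizer ({z} : Set G))) [Q.Normal] (hM : Cfsg.IsOfMonsterType z Q) : ∃ E : Subgroup Q, Cfsg.IsElementaryAbelian 2 E ∧ Nat.card E = 2 ^ 13 := by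
  classical
  obtain ⟨⟨hz, -, hQ, hcard, -⟩, e, ψ, hψadd, hψsurj, hψker, hψconj⟩ := hM
  have : Fact (Nat.Prime 2) := ⟨Nat.prime_two⟩
  have hcen : Nat.card (Subgroup.center Q) = 2 := hQ.2
  obtain ⟨z0, hz0, hu⟩ := (Nat.card_eq_two_iff' (1 : Subgroup.center Q)).mp hcen
  have hcent : ∀ a ∈ Subgroup.center Q, ∀ b : Q, b * a = a * b :=
    fun a ha b => Subgroup.mem_center_iff.mp ha b
  have hdich : ∀ a ∈ Subgroup.center Q, a = 1 ∨ a = (z0 : Q) := by
    intro a ha
    by_cases h : (⟨a, ha⟩ : Subgroup.center Q) = 1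
    · exact Or.inl (congrArg Subtype.val h)
    · exact Or.inr (congrArg Subtype.val (hu _ h))
  have hz0' : (z0 : Q) ≠ 1 := fun h => hz0 (Subtype.ext h)
  have hsqc : ∀ a ∈ Subgroup.center Q, a * a = 1 := by
    intro a ha
    have : (⟨a, ha⟩ : Subgroup.center Q) ^ Nat.card (Subgroup.center Q) = 1 := pow_card_eq_one'
    rw [hcen, pow_two] at this
    exact congrArg Subtype.val this
  let δ : Q → ZMod 2 := fun a => if a = 1 then 0 else 1
  have δmul : ∀ a ∈ Subgroup.center Q, ∀ b ∈ Subgroup.center Q, δ (a * b) = δ a + δ b := by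
    intro a ha b hb
    have h2 := hsqc _ z0.2
    rcases hdich a ha with rfl | rfl <;> rcases hdich b hb with rfl | rfl <;>
      simp [δ, h2, hz0'] <;> rfl
  have hcm : ∀ a b : Q, a * b * a⁻¹ * b⁻¹ ∈ Subgroup.center Q := fun a b =>
    hQ.1.2.2 ▸ Subgroup.commutator_mem_commutator (Subgroup.mem_top a) (Subgroup.mem_top b)
  have hsq : ∀ a : Q, a * a ∈ Subgroup.center Q := by
    intro a
    obtain ⟨v, hv⟩ := hψsurj (QuotientGroup.mk a)
    have h1 : ψ (v + v) = 1 := (hψker _).mpr ⟨v, rfl⟩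
    rw [hψadd, hv, ← QuotientGroup.mk_mul, QuotientGroup.eq_one_iff] at h1
    exact h1
  let lift : Cfsg.leechLattice → Q := fun v => (ψ v).out
  have hlift : ∀ v, (QuotientGroup.mk (lift v) : Q ⧸ Subgroup.center Q) = ψ v :=
    fun v => Quotient.out_eq _
  have hrep : ∀ v q, ψ v = QuotientGroup.mk q → ∃ a ∈ Subgroup.center Q, lift v = q * a := by
    intro v q hv
    refine ⟨q⁻¹ * lift v, QuotientGroup.eq.mp (hv.symm.trans (hlift v).symm), by group⟩
  let f : Cfsg.leechLattice → ZMod 2 := fun v => δ (lift v * lift v)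
  let c : Cfsg.leechLattice → Cfsg.leechLattice → ZMod 2 :=
    fun v w => δ (lift v * lift w * (lift v)⁻¹ * (lift w)⁻¹)
  have hf : ∀ v q, ψ v = QuotientGroup.mk q → f v = δ (q * q) := by
    intro v q hv
    obtain ⟨a, ha, he⟩ := hrep v q hv
    show δ (lift v * lift v) = _
    rw [he, show q * a * (q * a) = q * q * (a * a) from by
      rw [mul_assoc q a, ← mul_assoc a q, ← hcent a ha q]; group, hsqc a ha, mul_one]
  have hc : ∀ v w q r, ψ v = QuotientGroup.mk q → ψ w = QuotientGroup.mk r →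
      c v w = δ (q * r * q⁻¹ * r⁻¹) := by
    intro v w q r hv hw
    obtain ⟨a, ha, he⟩ := hrep v q hv
    obtain ⟨b, hb, he'⟩ := hrep w r hw
    show δ (lift v * lift w * (lift v)⁻¹ * (lift w)⁻¹) = _
    rw [he, he']
    congr 1
    have e1 : ∀ y, a * y = y * a := fun y => (hcent a ha y).symm
    have e2 : ∀ y, b * y = y * b := fun y => (hcent b hb y).symm
    calc q * a * (r * b) * (q * a)⁻¹ * (r * b)⁻¹
        = q * (a * (r * b)) * a⁻¹ * q⁻¹ * b⁻¹ * r⁻¹ := by group
      _ = q * r * (b * q⁻¹) * b⁻¹ * r⁻¹ := by rw [e1]; group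
      _ = q * r * q⁻¹ * r⁻¹ := by rw [e2]; group
  have inv : Cfsg.Agent.H92.Leech.InvForm f c := by
    refine ⟨fun v w => ?_, fun u v w => ?_, fun w => ?_, fun g v => ?_⟩
    · set q := lift v
      set r := lift w
      have hv : ψ v = QuotientGroup.mk q := (hlift v).symm
      have hw : ψ w = QuotientGroup.mk r := (hlift w).symm
      have hcrq := hcm r q
      rw [hf (v + w) (q * r) (by rw [hψadd, hv, hw, QuotientGroup.mk_mul]),
        hf v q hv, hf w r hw]
      have key : q * r * (q * r) = (q * q) * (r * r) * (r * q * r⁻¹ * q⁻¹) := by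
        calc q * r * (q * r) = q * ((r * q * r⁻¹ * q⁻¹) * q) * r * r := by group
          _ = q * (q * (r * q * r⁻¹ * q⁻¹)) * r * r := by rw [← hcent _ hcrq q]
          _ = q * q * ((r * q * r⁻¹ * q⁻¹) * (r * r)) := by group
          _ = q * q * ((r * r) * (r * q * r⁻¹ * q⁻¹)) := by rw [← hcent _ hcrq (r * r)]
          _ = _ := by group
      rw [key, δmul _ ((Subgroup.center Q).mul_mem (hsq q) (hsq r)) _ hcrq,
        δmul _ (hsq q) _ (hsq r), hc v w q r hv hw]
      congr 1
      have : q * r * q⁻¹ * r⁻¹ = (r * q * r⁻¹ * q⁻¹)⁻¹ := by group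
      rw [this]
      rcases hdich _ hcrq with h | h <;> rw [h]
      · simp
      · congr 1; exact (inv_eq_of_mul_eq_one_left (hsqc _ z0.2)).symm
    · set q := lift u
      set p := lift v
      set r := lift w
      rw [hc (u + v) w (q * p) r (by rw [hψadd, ← hlift u, ← hlift v, QuotientGroup.mk_mul])
        (hlift w).symm, hc u w q r (hlift u).symm (hlift w).symm,
        hc v w p r (hlift v).symm (hlift w).symm, ← δmul _ (hcm q r) _ (hcm p r)]
      congr 1
      calc q * p * r * (q * p)⁻¹ * r⁻¹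
          = q * ((p * r * p⁻¹ * r⁻¹) * r) * q⁻¹ * r⁻¹ := by group
        _ = q * (r * (p * r * p⁻¹ * r⁻¹)) * q⁻¹ * r⁻¹ := by rw [← hcent _ (hcm p r) r]
        _ = q * r * ((p * r * p⁻¹ * r⁻¹) * (q⁻¹ * r⁻¹)) := by group
        _ = q * r * ((q⁻¹ * r⁻¹) * (p * r * p⁻¹ * r⁻¹)) := by rw [← hcent _ (hcm p r) (q⁻¹ * r⁻¹)]
        _ = _ := by group
    · rw [hf (w + w) 1 (by rw [(hψker _).mpr ⟨w, rfl⟩, QuotientGroup.mk_one])]
      simp [δ]
    · obtain ⟨m, hm⟩ := e.surjective (QuotientGroup.mk g : Cfsg.Spor.Co1)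
      obtain ⟨h, rfl⟩ := QuotientGroup.mk_surjective m
      set q := lift v
      have hq : ψ v = QuotientGroup.mk q := (hlift v).symm
      rw [hf (g • v) _ (hψconj h g hm.symm v q hq), hf v q hq]
      congr 1
      apply Subtype.ext
      show h * (q : Subgroup.centralizer ({z} : Set G)) * h⁻¹ * (h * q * h⁻¹) = q * q
      rcases hdich _ (hsq q) with hq2 | hq2
      · have : (q : Subgroup.centralizer ({z} : Set G)) * q = 1 := congrArg Subtype.val hq2
        rw [show h * (q : Subgroup.centralizer ({z} : Set G)) * h⁻¹ * (h * q * h⁻¹)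
          = h * (q * q) * h⁻¹ from by group, this]
        simp
      · rw [show h * (q : Subgroup.centralizer ({z} : Set G)) * h⁻¹ * (h * q * h⁻¹)
          = h * (q * q) * h⁻¹ from by group]
        -- conjugation fixes the unique non-trivial central element
        have hmem : (⟨h * (z0 : Q) * h⁻¹, (inferInstance : Q.Normal).conj_mem _ (z0 : Q).2 h⟩ : Q)
            ∈ Subgroup.center Q := by
          rw [Subgroup.mem_center_iff]
          intro x
          apply Subtype.ext
          have := congrArg Subtype.val (hcent (z0 : Q) z0.2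
            ⟨h⁻¹ * x * h, by simpa using (inferInstance : Q.Normal).conj_mem _ x.2 h⁻¹⟩)
          change h⁻¹ * (x : Subgroup.centralizer ({z} : Set G)) * h *
            ((z0 : Q) : Subgroup.centralizer ({z} : Set G)) = _ * (h⁻¹ * x * h) at this
          show (x : Subgroup.centralizer ({z} : Set G)) * (h * _ * h⁻¹) = h * _ * h⁻¹ * x
          calc (x : Subgroup.centralizer ({z} : Set G)) * (h * ((z0 : Q) : Subgroup.centralizer ({z} : Set G)) * h⁻¹)
              = h * (h⁻¹ * x * h * ((z0 : Q) : Subgroup.centralizer ({z} : Set G))) * h⁻¹ := by group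
            _ = _ := by rw [this]; group
        rw [show (q : Subgroup.centralizer ({z} : Set G)) * q
          = ((z0 : Q) : Subgroup.centralizer ({z} : Set G)) from congrArg Subtype.val hq2]
        rcases hdich _ hmem with h1 | h1
        · exfalso
          apply hz0'
          apply Subtype.ext
          have := congrArg Subtype.val h1
          simpa using this
        · exact congrArg Subtype.val h1
  let A := AddSubgroup.closure {w | ∃ i j, Cfsg.Agent.H92.Leech.vec i j = w}
  have hψ0 : ψ 0 = 1 := (hψker 0).mpr ⟨0, by simp⟩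
  have hψneg : ∀ v, ψ (-v) = (ψ v)⁻¹ := by
    intro v
    rw [eq_inv_iff_mul_eq_one, ← hψadd, neg_add_cancel, hψ0]
  let W : Subgroup Q :=
    { carrier := {q | ∃ v ∈ A, ψ v = QuotientGroup.mk q}
      one_mem' := ⟨0, A.zero_mem, by rw [hψ0, QuotientGroup.mk_one]⟩
      mul_mem' := by
        rintro a b ⟨v, hv, hva⟩ ⟨w, hw, hwb⟩
        exact ⟨v + w, A.add_mem hv hw, by rw [hψadd, hva, hwb, QuotientGroup.mk_mul]⟩
      inv_mem' := by
        rintro a ⟨v, hv, hva⟩
        exact ⟨-v, A.neg_mem hv, by rw [hψneg, hva, QuotientGroup.mk_inv]⟩ }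
  have hW2 : ∀ q ∈ W, q * q = 1 := by
    rintro q ⟨v, hv, hvq⟩
    have := inv.vanish_closure hv
    rw [hf v q hvq] at this
    by_contra hne
    simp [δ, hne] at this
  -- 2^13 elements of W
  let F : (Fin 12 → Fin 2) × Subgroup.center Q → W := fun p =>
    ⟨lift (Cfsg.Agent.H92.Leech.X p.1) * p.2, Cfsg.Agent.H92.Leech.X p.1,
      Cfsg.Agent.H92.Leech.X_mem p.1, by
        rw [QuotientGroup.mk_mul, hlift, (QuotientGroup.eq_one_iff (p.2 : Q)).mpr p.2.2, mul_one]⟩
  have hF : Function.Injective F := by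
    rintro ⟨ε, a⟩ ⟨η, b⟩ hab
    have h1 : lift (Cfsg.Agent.H92.Leech.X ε) * (a : Q) = lift (Cfsg.Agent.H92.Leech.X η) * b :=
      congrArg Subtype.val hab
    have h2 := congrArg (QuotientGroup.mk (s := Subgroup.center Q)) h1
    rw [QuotientGroup.mk_mul, QuotientGroup.mk_mul, hlift, hlift,
      (QuotientGroup.eq_one_iff (a : Q)).mpr a.2, (QuotientGroup.eq_one_iff (b : Q)).mpr b.2,
      mul_one, mul_one] at h2
    obtain rfl : ε = η := Cfsg.Agent.H92.Leech.X_congr ((hψker _).mp (by
      rw [sub_eq_add_neg, hψadd, hψneg, h2, mul_inv_cancel]))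
    exact Prod.ext rfl (Subtype.ext (mul_left_cancel h1))
  have hle : 2 ^ 13 ≤ Nat.card W := by
    have h := Nat.card_le_card_of_injective F hF
    rw [Nat.card_prod, hcen, Nat.card_fun, Nat.card_fin, Nat.card_fin] at h
    exact h
  obtain ⟨E, hE, hEcard⟩ : ∃ E : Subgroup W, E ≤ ⊤ ∧ Nat.card E = 2 ^ 13 := by
    obtain ⟨n, hn⟩ := IsPGroup.iff_card.mp (hQ.1.1.to_subgroup W)
    obtain ⟨E, hE⟩ := Sylow.exists_subgroup_card_pow_prime (G := W) 2 (n := 13) (by
      rw [hn]; exact pow_dvd_pow 2 ((Nat.pow_le_pow_iff_right (le_refl 2)).mp (hn ▸ hle)))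
    exact ⟨E, le_top, hE⟩
  refine ⟨E.map W.subtype, ⟨⟨⟨?_⟩⟩, ?_⟩, ?_⟩
  · rintro ⟨a, ha⟩ ⟨b, hb⟩
    apply Subtype.ext
    show a * b = b * a
    have haW : a ∈ W := Subgroup.map_subtype_le _ ha
    have hbW : b ∈ W := Subgroup.map_subtype_le _ hb
    have e1 := hW2 _ (W.mul_mem haW hbW)
    have ia : a⁻¹ = a := inv_eq_of_mul_eq_one_left (hW2 a haW)
    have ib : b⁻¹ = b := inv_eq_of_mul_eq_one_left (hW2 b hbW)
    calc a * b = (a * b)⁻¹ := (inv_eq_of_mul_eq_one_left e1).symm
      _ = b * a := by rw [mul_inv_rev, ia, ib]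
  · intro a ha
    rw [pow_two]
    exact hW2 a (Subgroup.map_subtype_le _ ha)
  · rw [← Nat.card_congr (E.equivMapOfInjective _ W.subtype_injective).toEquiv]
    exact hEcard

end Cfsg.Agent.S5408
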