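import Cfsg.Statements.S5410
import Cfsg.Agent.H92.MonsterCross

set_option autoImplicit false
open Cfsg

namespace Cfsg.Agent.S5410

/-- Let G be a finite group of Monster type at the involution z with Q the extraspecial normal subgroup of order 2^25 of C = C_G(z) (so C/Q is identified with the first Conway group with Q modulo its centre the Leech lattice modulo 2, and z is not weakly closed in Q). Let g in G with s = g z g⁻¹ a member of Q other than z, let X be the image in C/Q of the centralizer of s in C, and let E be the image in C/Q of the intersection of g Q g⁻¹ with C. Then E is a normal subgroup of X, elementary abelian of order 2^11, and it has a complement in X isomorphic to the Mathieu group of degree 24 (the automorphism group of the length-24 binary Golay code). -/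
theorem result {G : Type*} [Group G] [Finite G] (z : G) (Q : Subgroup (Subgroup.centralizer ({z} : Set G))) [Q.Normal] (hM : Cfsg.IsOfMonsterType z Q) (s : G) (hsQ : ∃ hsc : s ∈ Subgroup.centralizer ({z} : Set G), (⟨s, hsc⟩ : Subgroup.centralizer ({z} : Set G)) ∈ Q) (hs : IsConj z s) (hs1 : s ≠ z) (g : G) (hg : g * z * g⁻¹ = s) (X E : Subgroup ((Subgroup.centralizer ({z} : Set G)) ⧸ Q)) (hX : X = ((Subgroup.centralizer ({z} : Set G) ⊓ Subgroup.centralizer ({s} : Set G)).subgroupOf (Subgroup.centralizer ({z} : Set G))).map (QuotientGroup.mk' Q)) (hE : E = (((Q.map (Subgroup.centralizer ({z} : Set G)).subtype).map (MulAut.conj g).toMonoidHom ⊓ Subgroup.centralizer ({z} : Set G)).subgroupOf (Subgroup.centralizer ({z} : Set G))).map (QuotientGroup.mk' Q)) : E ≤ X ∧ (∀ x ∈ X, ∀ y ∈ E, x * y * x⁻¹ ∈ E) ∧ Cfsg.IsElementaryAbelian 2 E ∧ Nat.card E = 2 ^ 11 ∧ ∃ K : Subgroup ((Subgroup.centralizer ({z} : Set G)) ⧸ Q), K ≤ X ∧ E ⊓ K = ⊥ ∧ E ⊔ K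 = X ∧ Nonempty (K ≃* Cfsg.M24) := by
  obtain ⟨hS, e, ψ, hiso⟩ := hM
  have S : Cfsg.Agent.H92.MonsterQ.Setting z Q e ψ := ⟨hS, hiso⟩
  obtain ⟨sc, hsm⟩ := hsQ
  obtain ⟨v, Sv, ι, hSc, hSle, hScen, hSab, hSsq, hι, hιinj, hιS, hsplit, hSnorm, hXi, hEi, hEc, -⟩ :=
    Cfsg.Agent.H92.MonsterCross.cross S (x := ⟨⟨s, sc⟩, hsm⟩) g hg hs1
  let π : Co0 →* Spor.Co1 := QuotientGroup.mk' (Subgroup.center Co0)
  let f : Co0 →* _ ⧸ Q := e.symm.toMonoidHom.comp π
  have key : ∀ H : Subgroup (Subgroup.centralizer ({z} : Set G)),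
      H.map (QuotientGroup.mk' Q) = (H.map (e.toMonoidHom.comp (QuotientGroup.mk' Q))).map e.symm.toMonoidHom := fun H => by
    rw [Subgroup.map_map, ← MonoidHom.comp_assoc]
    congr 1
    ext q
    simp
  have hX' : X = (Cfsg.Agent.H92.LeechTwo.classStab v).map f := by
    rw [hX, key]
    exact (congrArg (Subgroup.map e.symm.toMonoidHom) hXi).trans (Subgroup.map_map _ _ _)
  have hE' : E = Sv.map f := by
    rw [hE, key]
    exact (congrArg (Subgroup.map e.symm.toMonoidHom) hEi).trans (Subgroup.map_map _ _ _)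
  have hker : ∀ γ : Co0, f γ = 1 → γ ∈ Subgroup.center Co0 := fun γ h => by
    have h' : e.symm (π γ) = 1 := h
    exact (QuotientGroup.eq_one_iff γ).1 ((map_eq_one_iff e.symm e.symm.injective).1 h')
  have hιf : Function.Injective (f.comp ι) := by
    rw [← MonoidHom.ker_eq_bot_iff, Subgroup.eq_bot_iff_forall]
    exact fun σ h => hιS σ (hScen (hker _ (MonoidHom.mem_ker.1 h)))
  subst hX' hE'
  refine ⟨Subgroup.map_mono hSle, ?_, ⟨⟨⟨?_⟩⟩, ?_⟩, ?_, (f.comp ι).range, ?_, ?_, ?_,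
    ⟨(MonoidHom.ofInjective hιf).symm⟩⟩
  · rintro _ ⟨γ, hγ, rfl⟩ _ ⟨a, ha, rfl⟩
    exact ⟨_, hSnorm γ hγ a ha, by rw [map_mul, map_mul, map_inv]⟩
  · rintro ⟨_, a, ha, rfl⟩ ⟨_, b, hb, rfl⟩
    exact Subtype.ext (show f a * f b = f b * f a by rw [← map_mul, ← map_mul, hSab a ha b hb])
  · rintro _ ⟨a, ha, rfl⟩
    rw [pow_two, ← map_mul, hSsq a ha, map_one]
  · rw [← Subgroup.map_map, Subgroup.card_map_of_injective e.symm.injective, hEc]
    norm_num
  · rintro _ ⟨σ, rfl⟩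
    exact ⟨ι σ, hι σ, rfl⟩
  · rw [Subgroup.eq_bot_iff_forall]
    rintro _ ⟨⟨a, ha, rfl⟩, σ, hσ⟩
    have h1 : f (a⁻¹ * ι σ) = 1 := by
      rw [map_mul, map_inv, show f (ι σ) = f a from hσ, inv_mul_cancel]
    have h2 : ι σ ∈ Sv := by
      rw [show ι σ = a * (a⁻¹ * ι σ) by group]
      exact mul_mem ha (hScen (hker _ h1))
    rw [← hσ, hιS σ h2, map_one]
  · refine le_antisymm (sup_le (Subgroup.map_mono hSle) ?_) ?_
    · rintro _ ⟨σ, rfl⟩
      exact ⟨ι σ, hι σ, rfl⟩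
    · rintro _ ⟨γ, hγ, rfl⟩
      obtain ⟨a, ha, σ, rfl⟩ := hsplit γ hγ
      rw [map_mul]
      exact Subgroup.mul_mem_sup ⟨a, ha, rfl⟩ ⟨σ, rfl⟩

end Cfsg.Agent.S5410
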