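import Cfsg.Statements.S5411
import Cfsg.Agent.H92.MonsterQ

set_option autoImplicit false
open Cfsg

namespace Cfsg.Agent.S5411

/-- Let G be a finite group of Monster type at the involution z with Q the extraspecial normal subgroup of order 2^25 of C = C_G(z) (so C/Q is identified with the first Conway group with Q modulo its centre the Leech lattice modulo 2, and z is not weakly closed in Q). Then C acts transitively by conjugation on the involutions of Q that are not conjugate to z in G. -/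
theorem result {G : Type*} [Group G] [Finite G] (z : G) (Q : Subgroup (Subgroup.centralizer ({z} : Set G))) [Q.Normal] (hM : Cfsg.IsOfMonsterType z Q) (s t : G) (hsQ : ∃ hsc : s ∈ Subgroup.centralizer ({z} : Set G), (⟨s, hsc⟩ : Subgroup.centralizer ({z} : Set G)) ∈ Q) (htQ : ∃ htc : t ∈ Subgroup.centralizer ({z} : Set G), (⟨t, htc⟩ : Subgroup.centralizer ({z} : Set G)) ∈ Q) (hs2 : orderOf s = 2) (ht2 : orderOf t = 2) (hs : ¬ IsConj z s) (ht : ¬ IsConj z t) : ∃ h ∈ Subgroup.centralizer ({z} : Set G), h * s * h⁻¹ = t := by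
  obtain ⟨hS, e, ψ, hiso⟩ := hM
  have S : Cfsg.Agent.H92.MonsterQ.Setting z Q e ψ := ⟨hS, hiso⟩
  obtain ⟨sc, hsm⟩ := hsQ
  obtain ⟨tc, htm⟩ := htQ
  have key : ∀ (x : Q), orderOf (Cfsg.Agent.H92.MonsterQ.vG x) = 2 →
      ¬ IsConj z (Cfsg.Agent.H92.MonsterQ.vG x) →
      ∃ v, ψ v = QuotientGroup.mk x ∧ Cfsg.Agent.H92.LeechTwo.nrm v = 32 := by
    intro x hx2 hxn
    obtain ⟨zQ, hzv, -, -, hZ⟩ := Cfsg.Agent.H92.MonsterQ.exists_zQ S
    have hxc : x ∉ Subgroup.center Q := fun h => by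
      rcases (hZ x).1 h with rfl | rfl
      · rw [show Cfsg.Agent.H92.MonsterQ.vG (1 : Q) = 1 from rfl, orderOf_one] at hx2
        norm_num at hx2
      · exact hxn (by rw [hzv])
    have hxx : x * x = 1 := Cfsg.Agent.H92.MonsterQ.vG_injective (by
      show Cfsg.Agent.H92.MonsterQ.vG x * Cfsg.Agent.H92.MonsterQ.vG x = 1
      rw [← pow_two, ← hx2, pow_orderOf_eq_one])
    obtain ⟨v, hv, hn | hn⟩ := Cfsg.Agent.H92.MonsterQ.type_of_involution S hxc hxx
    · exact ⟨v, hv, hn⟩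
    · exact absurd (Cfsg.Agent.H92.MonsterQ.isConj_of_type S hv hn).1 hxn
  obtain ⟨v, hv, hvn⟩ := key ⟨⟨s, sc⟩, hsm⟩ hs2 hs
  obtain ⟨w, hw, hwn⟩ := key ⟨⟨t, tc⟩, htm⟩ ht2 ht
  obtain ⟨h, hh⟩ := Cfsg.Agent.H92.MonsterQ.conj_of_same S hv hw (Or.inl ⟨hvn, hwn⟩)
  exact ⟨h, h.2, hh⟩

end Cfsg.Agent.S5411
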