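import Cfsg.Statements.S5412
import Cfsg.Agent.H74.Monster.BabyType

set_option autoImplicit false
open Cfsg

namespace Cfsg.Agent.S5412

/-- Let G be a finite group of Monster type at the involution z with Q the extraspecial normal subgroup of order 2^25 of C = C_G(z) (so C/Q is identified with the first Conway group with Q modulo its centre the Leech lattice modulo 2, and z is not weakly closed in Q). Let t be an involution of Q not conjugate to z in G. Then the centralizer of t modulo the subgroup generated by t is a group of Baby Monster type (an involution whose centralizer D has generalized Fitting subgroup R extraspecial of order 2^23 with D/R identified with the second Conway group acting on R modulo its centre as on the vectors of the Leech lattice modulo 2 orthogonal to a short vector, modulo that vector; the involution not weakly closed in R). -/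
theorem result {G : Type*} [Group G] [Finite G] (z : G) (Q : Subgroup (Subgroup.centralizer ({z} : Set G))) [Q.Normal] (hM : Cfsg.IsOfMonsterType z Q) (t : G) (htQ : ∃ htc : t ∈ Subgroup.centralizer ({z} : Set G), (⟨t, htc⟩ : Subgroup.centralizer ({z} : Set G)) ∈ Q) (ht2 : orderOf t = 2) (ht : ¬ IsConj z t) [hn : ((Subgroup.zpowers t).subgroupOf (Subgroup.centralizer ({t} : Set G))).Normal] : Cfsg.IsOfBabyMonsterType (↥(Subgroup.centralizer ({t} : Set G)) ⧸ (Subgroup.zpowers t).subgroupOf (Subgroup.centralizer ({t} : Set G))) := by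
  obtain ⟨hS, e, ψ, hiso⟩ := hM
  have S : Cfsg.Agent.H92.MonsterQ.Setting z Q e ψ := ⟨hS, hiso⟩
  obtain ⟨htc, htq⟩ := htQ
  set tQ : Q := ⟨⟨t, htc⟩, htq⟩ with htQdef
  have hvt : Cfsg.Agent.H92.MonsterQ.vG tQ = t := rfl
  obtain ⟨zQ, hzv, -, -, hZ⟩ := Cfsg.Agent.H92.MonsterQ.exists_zQ S
  have ht1 : t ≠ 1 := fun h => by rw [h, orderOf_one] at ht2; omega
  have htc' : tQ ∉ Subgroup.center Q := fun h => by
    rcases (hZ tQ).1 h with h | h
    · exact ht1 (congrArg Cfsg.Agent.H92.MonsterQ.vG h)
    · exact ht (by rw [← hvt, h, hzv])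
  have htt : tQ * tQ = 1 := Cfsg.Agent.H92.MonsterQ.vG_injective (by
    show t * t = 1
    rw [← pow_two, ← ht2, pow_orderOf_eq_one])
  obtain ⟨v, hv, hn⟩ := Cfsg.Agent.H74.Monster.short_class S htc' htt ht
  obtain ⟨γ, hγ⟩ := Cfsg.Agent.Golay.co0_transitive_min v Cfsg.Spor.leechU hn (by decide +kernel)
  obtain ⟨e', ψ', S', hψ'⟩ := Cfsg.Agent.H74.Monster.exists_twist S γ
  exact Cfsg.Agent.H74.Monster.babyType S' (tQ := tQ) (by rw [← hγ, hψ', hv]) htt hvt

end Cfsg.Agent.S5412
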