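import Cfsg.Statements.S5416
import Cfsg.Agent.H74.Monster.SevenHeld
-- import your own Cfsg.Agent.* helpers here

set_option autoImplicit false
open Cfsg

namespace Cfsg.Agent.S5416

/-- Let G be a finite group of Monster type at the involution z with Q the extraspecial normal subgroup of order 2^25 of C = C_G(z) (so C/Q is identified with the first Conway group with Q modulo its centre the Leech lattice modulo 2, and z is not weakly closed in Q). Let s be a conjugate of z in Q other than z and let B be a Sylow 7-subgroup of the joint centralizer of z and s. Then the centralizer of B modulo B is a group of Held type (an involution whose centralizer D has generalized Fitting subgroup R extraspecial of order 2^7 with D/R isomorphic to SL(3, 2), exactly 29 of its conjugates lying in R, and the involution not weakly closed in R). -/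
theorem result {G : Type*} [Group G] [Finite G] (z : G) (Q : Subgroup (Subgroup.centralizer ({z} : Set G))) [Q.Normal] (hM : Cfsg.IsOfMonsterType z Q) (s : G) (hsQ : ∃ hsc : s ∈ Subgroup.centralizer ({z} : Set G), (⟨s, hsc⟩ : Subgroup.centralizer ({z} : Set G)) ∈ Q) (hs : IsConj z s) (hs1 : s ≠ z) (B : Subgroup G) (hB : B ≤ Subgroup.centralizer ({z, s} : Set G)) (hBp : Nat.card B = 7 ^ (Nat.card ↥(Subgroup.centralizer ({z, s} : Set G))).factorization 7) [hn : (B.subgroupOf (Subgroup.centralizer (B : Set G))).Normal] : Cfsg.IsOfHeldType (↥(Subgroup.centralizer (B : Set G)) ⧸ B.subgroupOf (Subgroup.centralizer (B : Set G))) := by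
  classical
  haveI : Fact (Nat.Prime 7) := ⟨by norm_num⟩
  obtain ⟨hS, e, ψ, hiso⟩ := hM
  have S : Cfsg.Agent.H92.MonsterQ.Setting z Q e ψ := ⟨hS, hiso⟩
  obtain ⟨hsc, hsq⟩ := hsQ
  set x : Q := ⟨⟨s, hsc⟩, hsq⟩ with hxdef
  have hxs : Cfsg.Agent.H92.MonsterQ.vG x = s := rfl
  obtain ⟨v, hv, hn64⟩ := Cfsg.Agent.H92.MonsterQ.conj_z_type S (x := x) hs hs1
  obtain ⟨γ, hγ⟩ := Cfsg.Agent.H92.LeechTwo.orbit_sixtyfour hn64 (Cfsg.Agent.H92.LeechTwo.nrm_axis none)
  obtain ⟨e1, ψ1, S1, hψ1, -⟩ := Cfsg.Agent.H65.MonsterFive.twist S γ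
  have hx1 : ψ1 (Cfsg.Agent.Golay.axisVec none) = QuotientGroup.mk x := by
    rw [← (Cfsg.Agent.H92.MonsterQ.psi_cg S1).2 hγ, hψ1, hv]
  obtain ⟨h7, h49⟩ := Cfsg.Agent.H74.Monster.SevenCent.joint_seven S1 hx1
  rw [hxs] at h7 h49
  have hB7 : Nat.card B = 7 := by
    obtain ⟨k, hk⟩ := h7
    have hk0 : k ≠ 0 := fun h => by
      rw [h, mul_zero] at hk
      exact Nat.card_pos.ne' hk
    have hk7 : ¬ 7 ∣ k := fun h => h49 (hk ▸ Nat.mul_dvd_mul_left 7 h)
    rw [hBp, hk, Nat.factorization_mul (by norm_num) hk0, Finsupp.add_apply,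
      Nat.Prime.factorization_self (by norm_num), Nat.factorization_eq_zero_of_not_dvd hk7, add_zero, pow_one]
  have hBC : B ≤ Subgroup.centralizer ({z} : Set G) := hB.trans (Subgroup.centralizer_le (by simp))
  have hb7of : ∀ b ∈ B, b ≠ 1 → orderOf b = 7 ∧ Subgroup.zpowers b = B := by
    intro b hb hb1
    have h := Subgroup.orderOf_dvd_natCard B hb
    rw [hB7] at h
    rcases (Nat.dvd_prime (by norm_num)).1 h with h1 | h1
    · exact absurd (orderOf_eq_one_iff.1 h1) hb1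
    · exact ⟨h1, Subgroup.eq_of_le_of_card_ge (Subgroup.zpowers_le.2 hb)
        (by rw [Nat.card_zpowers, h1, hB7])⟩
  obtain ⟨⟨b0, hb0⟩, hb01⟩ : ∃ b : B, b ≠ 1 :=
    haveI : Nontrivial B := Finite.one_lt_card_iff_nontrivial.1 (by rw [hB7]; norm_num)
    exists_ne 1
  have hb01' : b0 ≠ 1 := fun h => hb01 (Subtype.ext h)
  obtain ⟨ho0, -⟩ := hb7of b0 hb0 hb01'
  have hmem : Cfsg.Agent.H65.MonsterFive.phi e1 ⟨b0, hBC hb0⟩ ∈
      Cfsg.Agent.Golay.crossStab.map (QuotientGroup.mk' (Subgroup.center Co0)) := by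
    rw [← Cfsg.Agent.H65.MonsterFive.joint_image S1 hx1, hxs]
    exact ⟨⟨b0, hBC hb0⟩, Subgroup.mem_subgroupOf.2 (hB hb0), rfl⟩
  obtain ⟨β0, hβ0, hβ0e⟩ := hmem
  set β := β0 ^ 8 with hβdef
  have hb07 : (⟨b0, hBC hb0⟩ : Subgroup.centralizer ({z} : Set G)) ^ 7 = 1 :=
    Subtype.ext (ho0 ▸ pow_orderOf_eq_one b0)
  have hπβ : (QuotientGroup.mk β : Spor.Co1) = Cfsg.Agent.H65.MonsterFive.phi e1 ⟨b0, hBC hb0⟩ := by
    show QuotientGroup.mk' (Subgroup.center Co0) (β0 ^ 8) = _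
    rw [map_pow, hβ0e, ← map_pow, pow_succ, hb07, one_mul]
  have hπne : (QuotientGroup.mk β : Spor.Co1) ≠ 1 := fun h => by
    rw [hπβ] at h
    have hq := Cfsg.Agent.H65.MonsterFive.phi_eq_one.1 h
    have hd : orderOf b0 ∣ 2 ^ 25 := by
      rw [← hS.2.2.2.1]
      have := orderOf_dvd_natCard (⟨⟨b0, hBC hb0⟩, hq⟩ : Q)
      rwa [← Subgroup.orderOf_coe, ← Subgroup.orderOf_coe] at this
    rw [ho0] at hd
    norm_num at hd
  have hβ7 : orderOf β = 7 := by
    refine orderOf_eq_prime ?_ fun h => hπne (by rw [h]; rfl)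
    have h7' : (QuotientGroup.mk (β0 ^ 7) : Spor.Co1) = 1 := by
      show QuotientGroup.mk' (Subgroup.center Co0) (β0 ^ 7) = 1
      rw [map_pow, hβ0e, ← map_pow, hb07, map_one]
    have hc := (QuotientGroup.eq_one_iff _).1 h7'
    have h2 : (⟨β0 ^ 7, hc⟩ : Subgroup.center Co0) ^ 2 = 1 := by
      rw [← Cfsg.Agent.Golay.card_center_co0]; exact pow_card_eq_one'
    have h2' : (β0 ^ 7) ^ 2 = 1 := congrArg Subtype.val h2
    rw [hβdef, ← pow_mul, show 8 * 7 = 7 * 2 * 4 by norm_num, pow_mul, pow_mul, h2', one_pow]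
  obtain ⟨l, hl, hlβ⟩ := Cfsg.Agent.H74.Monster.SevenCent.conj_zpowers_prime
    Cfsg.Agent.H74.Monster.SevenCent.crossStab_seven Cfsg.Agent.H74.Monster.SevenCent.gam_mem
    (pow_mem hβ0 8) Cfsg.Agent.H74.Monster.SevenCent.orderOf_gam hβ7
  obtain ⟨e2, ψ2, S2, hψ2, he2⟩ := Cfsg.Agent.H65.MonsterFive.twist S1 l
  have hx2 : ψ2 (Cfsg.Agent.Golay.axisVec none) = QuotientGroup.mk x := by
    rw [← hx1, ← hψ2 (Cfsg.Agent.Golay.axisVec none)]
    exact ((Cfsg.Agent.H92.MonsterQ.psi_cg S2).2 (show Cfsg.Agent.H92.LeechTwo.Cg _ _ by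
      have := hl
      rwa [← Cfsg.Agent.H65.MonsterFive.classStab_none, Cfsg.Agent.H92.LeechTwo.mem_classStab] at this)).symm
  have hφ2 : Cfsg.Agent.H65.MonsterFive.phi e2 ⟨b0, hBC hb0⟩ = QuotientGroup.mk (l * β * l⁻¹) := by
    show e2 (QuotientGroup.mk _) = _
    rw [he2, QuotientGroup.mk_mul, QuotientGroup.mk_mul, QuotientGroup.mk_inv, hπβ]
    rfl
  obtain ⟨i, hi⟩ := Subgroup.mem_zpowers_iff.1 hlβ
  have hi7 : ¬ (7 : ℤ) ∣ i := fun ⟨m, hm⟩ => by
    apply hπne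
    have h1 : l * β * l⁻¹ = 1 := by
      rw [← hi, hm, zpow_mul, zpow_ofNat, Cfsg.Agent.H74.Monster.SevenCent.gam_pow, one_zpow]
    rw [conj_eq_one_iff] at h1
    rw [h1]; rfl
  obtain ⟨j, hj⟩ : ∃ j : ℤ, i * j % 7 = 1 := by
    obtain h | h | h | h | h | h :
        i % 7 = 1 ∨ i % 7 = 2 ∨ i % 7 = 3 ∨ i % 7 = 4 ∨ i % 7 = 5 ∨ i % 7 = 6 := by omega
    · exact ⟨1, by omega⟩
    · exact ⟨4, by omega⟩
    · exact ⟨5, by omega⟩
    · exact ⟨2, by omega⟩
    · exact ⟨3, by omega⟩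
    · exact ⟨6, by omega⟩
  set b := b0 ^ j with hbdef
  have hbB : b ∈ B := zpow_mem hb0 j
  have hbe : Cfsg.Agent.H65.MonsterFive.phi e2 ⟨b, hBC hbB⟩ =
      QuotientGroup.mk Cfsg.Agent.H74.Monster.SevenCent.gam := by
    rw [show (⟨b, hBC hbB⟩ : Subgroup.centralizer ({z} : Set G)) = ⟨b0, hBC hb0⟩ ^ j from
      Subtype.ext (by rw [Subgroup.coe_zpow]), map_zpow, hφ2, ← hi, ← QuotientGroup.mk_zpow, ← zpow_mul,
      ← zpow_mod_orderOf, Cfsg.Agent.H74.Monster.SevenCent.orderOf_gam]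
    rw [show ((7 : ℕ) : ℤ) = 7 from rfl, hj, zpow_one]
  have hb1 : b ≠ 1 := fun h => by
    have h1 : (⟨b, hBC hbB⟩ : Subgroup.centralizer ({z} : Set G)) = 1 := Subtype.ext h
    rw [h1, map_one] at hbe
    have hc := (QuotientGroup.eq_one_iff _).1 hbe.symm
    have := orderOf_dvd_natCard (⟨_, hc⟩ : Subgroup.center Co0)
    rw [Cfsg.Agent.Golay.card_center_co0, ← Subgroup.orderOf_coe,
      Cfsg.Agent.H74.Monster.SevenCent.orderOf_gam] at this
    omega
  obtain ⟨hob, hzb⟩ := hb7of b hbB hb1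
  subst hzb
  have hbs : b * Cfsg.Agent.H92.MonsterQ.vG x = Cfsg.Agent.H92.MonsterQ.vG x * b :=
    (Subgroup.mem_centralizer_iff.1 (hB hbB) s (by simp)).symm
  exact Cfsg.Agent.H74.Monster.SevenCent.held_type S2 hx2 hob (hBC hbB) hbs hbe

end Cfsg.Agent.S5416
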