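import Cfsg.Statements.S5423
import Cfsg.Agent.H92.AffineParabolic
import Cfsg.Agent.H92.LargeBasic
import Cfsg.Agent.H92.LargeSimple
import Cfsg.Agent.S5420

set_option autoImplicit false
open Cfsg

namespace Cfsg.Agent.S5423

/-- Let G be a finite group that is the split extension of an elementary abelian normal subgroup U of order 2^(n+1), n ≥ 1, by its full automorphism group: U has a complement M in G whose conjugation action on U is faithful and realizes every automorphism of U. Let Z be a subgroup of U of order 2 and Q the largest normal 2-subgroup of the centralizer C of Z. Then Q is extraspecial of order 2^(2n+1) with an elementary abelian subgroup of order 2^(n+1) (plus type), Q is a large extraspecial 2-subgroup of G, and C is the split extension of Q by the general linear group of degree n over the field with two elements. -/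
theorem result {G : Type*} [Group G] [Finite G] (n : ℕ) (hn : 1 ≤ n) (U M : Subgroup G) [U.Normal] (hU : Cfsg.IsElementaryAbelian 2 U) (hUcard : Nat.card ↥U = 2 ^ (n + 1)) (hUM : U ⊓ M = ⊥) (hUM' : U ⊔ M = ⊤) (hfaith : ∀ m ∈ M, (∀ u ∈ U, m * u * m⁻¹ = u) → m = 1) (hfull : ∀ φ : ↥U ≃* ↥U, ∃ m ∈ M, ∀ u : ↥U, ((φ u : ↥U) : G) = m * u * m⁻¹) (Z : Subgroup G) (hZU : Z ≤ U) (hZ : Nat.card ↥Z = 2) (Q : Subgroup G) (hQ : Q = (Cfsg.pCore 2 ↥(Subgroup.centralizer (Z : Set G))).map (Subgroup.centralizer (Z : Set G)).subtype) : Cfsg.IsExtraspecial 2 ↥Q ∧ Nat.card ↥Q = 2 ^ (2 * n + 1) ∧ (∃ E : Subgroup G, E ≤ Q ∧ Cfsg.IsElementaryAbelian 2 E ∧ Nat.card ↥E = 2 ^ (n + 1)) ∧ Cfsg.IsLargeExtraspecial Q ∧ ∃ K : Subgroup G, K ≤ Subgroup.centralizer (Z : Set G) ∧ Q ⊓ K = ⊥ ∧ Q ⊔ K = Subgroup.centralizer (Z : Set G) ∧ Nonempty (↥K ≃* Matrix.GeneralLinearGroup (Fin n) (ZMod 2)) := by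
  classical
  haveI : Fact (Nat.Prime 2) := ⟨Nat.prime_two⟩
  obtain ⟨⟨ζ, hζZ⟩, hζ1', huniq⟩ := (Nat.card_eq_two_iff' (⟨1, one_mem _⟩ : Z)).mp hZ
  have hζ1 : ζ ≠ 1 := fun e => hζ1' (Subtype.ext e)
  have hZeq : ∀ x ∈ Z, x = 1 ∨ x = ζ := by
    intro x hx
    by_cases h1 : x = 1
    · exact Or.inl h1
    · exact Or.inr (congrArg Subtype.val (huniq ⟨x, hx⟩ (fun e => h1 (congrArg Subtype.val e))))
  have hCeq : Subgroup.centralizer (Z : Set G) = Subgroup.centralizer ({ζ} : Set G) := by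
    refine le_antisymm (Subgroup.centralizer_le (by simpa using hζZ)) ?_
    intro c hc
    rw [Subgroup.mem_centralizer_iff]
    intro x hx
    rcases hZeq x hx with rfl | rfl
    · simp
    · exact (Subgroup.mem_centralizer_singleton_iff.mp hc).symm
  obtain ⟨e⟩ := Cfsg.Agent.H92.AffineParabolic.exists_equiv U M hU hUcard hUM hUM' hfaith hfull
    (hZU hζZ) hζ1
  rw [hCeq] at hQ ⊢
  obtain ⟨hE, hcard, hEl, hcen, hnorm, K, hK1, hK2, hK3, ⟨eK⟩⟩ :=
    Cfsg.Agent.H92.SLParabolic.transfer _ e hn Q hQ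
  have hUC : U ≤ Subgroup.centralizer ({ζ} : Set G) := fun u hu =>
    Subgroup.mem_centralizer_singleton_iff.mpr
      (congrArg Subtype.val (hU.1.1.comm (⟨u, hu⟩ : U) ⟨ζ, hZU hζZ⟩))
  have hU2 : IsPGroup 2 U := IsPGroup.of_card (n := n + 1) hUcard
  have hUQ : U ≤ Q := by
    intro u hu
    rw [hQ]
    exact ⟨⟨u, hUC hu⟩, Cfsg.Agent.Cores.le_pCore
      (N := U.subgroupOf (Subgroup.centralizer ({ζ} : Set G))) hU2.comap_subtype hu, rfl⟩
  have hζQ : ζ ∈ Q := hUQ (hZU hζZ)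
  have hQC : ∀ q ∈ Q, q * ζ = ζ * q := by
    intro q hq
    rw [hQ] at hq
    obtain ⟨u, -, rfl⟩ := hq
    exact Subgroup.mem_centralizer_singleton_iff.mp u.2
  have hζc : ζ ∈ (Subgroup.center Q).map Q.subtype := by
    rw [Cfsg.Agent.H92.center_map_eq_inf]
    exact ⟨hζQ, Subgroup.mem_centralizer_iff.mpr hQC⟩
  haveI : Finite Q := Nat.finite_of_card_ne_zero (by rw [hcard]; positivity)
  refine ⟨hE, hcard, hEl, ?_, K, hK1, hK2, hK3, ⟨eK.trans (MulEquiv.ofBijective
    Matrix.SpecialLinearGroup.toGL ⟨Matrix.SpecialLinearGroup.toGL_injective, ?_⟩)⟩⟩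
  · refine Cfsg.Agent.S5420.result Q hE ?_ ?_ ?_
    · refine le_antisymm (fun c hc => ?_) Cfsg.Agent.H92.center_map_le_centralizer
      rw [Cfsg.Agent.H92.center_map_eq_inf]
      exact ⟨hcen c (Subgroup.mem_centralizer_singleton_iff.mpr
        (Subgroup.mem_centralizer_iff.mp hc ζ hζQ).symm)
        (fun q hq => Subgroup.mem_centralizer_iff.mp hc q hq), hc⟩
    · intro c hc
      have hcC : c ∈ Subgroup.centralizer ({ζ} : Set G) := Subgroup.mem_centralizer_singleton_iff.mpr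
        (Subgroup.mem_centralizer_iff.mp hc ζ hζc).symm
      refine Subgroup.mem_normalizer_iff.mpr fun x => ⟨fun hx => hnorm c hcC x hx, fun hx => ?_⟩
      simpa [mul_assoc] using hnorm c⁻¹ (inv_mem hcC) _ hx
    · intro x hx
      rcases Cfsg.Agent.H92.eq_one_or_center hE hζc hζ1 hx with rfl | rfl
      · exact one_mem _
      · exact Cfsg.Agent.Cores.le_pCore hU2 (hZU hζZ)
  · intro g
    have hdet : (g : Matrix (Fin n) (Fin n) (ZMod 2)).det = 1 :=
      ((Cfsg.Agent.H92.SLParabolic.two_cases _).resolve_left (g.isUnit.map Matrix.detMonoidHom).ne_zero)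
    exact ⟨⟨(g : Matrix (Fin n) (Fin n) (ZMod 2)), hdet⟩, Units.ext rfl⟩

end Cfsg.Agent.S5423
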