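import Cfsg.Statements.S5424
import Cfsg.Agent.H92.SLParabolic
import Cfsg.Agent.H92.QuotLarge

set_option autoImplicit false
open Cfsg

namespace Cfsg.Agent.S5424

/-- Let G be the special linear group of degree n + 2 over the field with two elements, n ≥ 2, let z be a transvection, and let Q be the largest normal 2-subgroup of the centralizer C of z. Then Q is extraspecial of order 2^(2n+1) with an elementary abelian subgroup of order 2^(n+1) (plus type), Q is a large extraspecial 2-subgroup of G, and C is the split extension of Q by the special linear group of degree n over the field with two elements. -/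
theorem result (n : ℕ) (hn : 2 ≤ n) (z : Matrix.SpecialLinearGroup (Fin (n + 2)) (ZMod 2)) (hz : (z : Matrix (Fin (n + 2)) (Fin (n + 2)) (ZMod 2)) = Matrix.transvection 0 1 1) (Q : Subgroup (Matrix.SpecialLinearGroup (Fin (n + 2)) (ZMod 2))) (hQ : Q = (Cfsg.pCore 2 ↥(Subgroup.centralizer ({z} : Set (Matrix.SpecialLinearGroup (Fin (n + 2)) (ZMod 2))))).map (Subgroup.centralizer ({z} : Set (Matrix.SpecialLinearGroup (Fin (n + 2)) (ZMod 2)))).subtype) : Cfsg.IsExtraspecial 2 ↥Q ∧ Nat.card ↥Q = 2 ^ (2 * n + 1) ∧ (∃ E : Subgroup (Matrix.SpecialLinearGroup (Fin (n + 2)) (ZMod 2)), E ≤ Q ∧ Cfsg.IsElementaryAbelian 2 E ∧ Nat.card ↥E = 2 ^ (n + 1)) ∧ Cfsg.IsLargeExtraspecial Q ∧ ∃ K : Subgroup (Matrix.SpecialLinearGroup (Fin (n + 2)) (ZMod 2)), K ≤ Subgroup.centralizer ({z} : Set (Matrix.SpecialLinearGroup (Fin (n + 2)) (ZMod 2))) ∧ Q ⊓ K = ⊥ ∧ Q ⊔ K = Subgroup.centralizer ({z} : Set (Matrix.SpecialLinearGroup (Fin (n + 2)) (ZMod 2))) ∧ Nonempty (↥K ≃* Matrix.SpecialLinearGroup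 (Fin n) (ZMod 2)) := by
  classical
  haveI : Fact (Nat.Prime 2) := ⟨Nat.prime_two⟩
  have hzT : z = Cfsg.Agent.H92.SLParabolic.zT :=
    Subtype.ext (hz.trans Cfsg.Agent.H92.SLParabolic.zT_coe.symm)
  subst hzT
  obtain ⟨hE, hcard, hEl, hcen, hnorm, hK⟩ :=
    Cfsg.Agent.H92.SLParabolic.transfer (Cfsg.Agent.H92.SLParabolic.C n) (MulEquiv.refl _)
      (by omega : 1 ≤ n) Q hQ
  refine ⟨hE, hcard, hEl, ?_, hK⟩
  have hmem : ∀ r c t, Cfsg.Agent.H92.SLParabolic.unip r c t ∈ Q := fun r c t => hQ ▸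
    ⟨_, Cfsg.Agent.H92.SLParabolic.unip_mem_pCore (n := n) r c t, rfl⟩
  have hzQ : Cfsg.Agent.H92.SLParabolic.zT ∈ Q := hmem 0 0 1
  have hQC : ∀ q ∈ Q, q ∈ Cfsg.Agent.H92.SLParabolic.C n := by
    intro q hq
    rw [hQ] at hq
    obtain ⟨u, -, rfl⟩ := hq
    exact u.2
  have hz1 : (Cfsg.Agent.H92.SLParabolic.zT : Matrix.SpecialLinearGroup (Fin (n + 2)) (ZMod 2)) ≠ 1 := by
    intro e
    have h := congrArg (fun g : Matrix.SpecialLinearGroup (Fin (n + 2)) (ZMod 2) =>
      Cfsg.Agent.H92.SLParabolic.mx g 0 1) e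
    have h' : (1 : ZMod 2) = (1 : Matrix (Fin (n + 2)) (Fin (n + 2)) (ZMod 2)) 0 1 := h
    simp at h'
  obtain ⟨k⟩ : Nonempty (Fin n) := ⟨⟨0, by omega⟩⟩
  let w : Matrix.SpecialLinearGroup (Fin (n + 2)) (ZMod 2) :=
    ⟨Matrix.transvection 1 (Fin.succ (Fin.succ k)) 1,
      Matrix.det_transvection_of_ne _ _ (by simp [Fin.ext_iff]) 1⟩
  have hww : w * Cfsg.Agent.H92.SLParabolic.zT * w⁻¹
      = Cfsg.Agent.H92.SLParabolic.unip (Pi.single k 1) 0 1 := by
    rw [mul_inv_eq_iff_eq_mul]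
    apply Subtype.ext
    show Matrix.transvection 1 k.succ.succ 1 * Cfsg.Agent.H92.SLParabolic.blk 1 0 0 1
      = Cfsg.Agent.H92.SLParabolic.blk 1 (Pi.single k 1) 0 1 * Matrix.transvection 1 k.succ.succ 1
    have hL : ∀ (M : Matrix (Fin (n + 2)) (Fin (n + 2)) (ZMod 2)) (a b i j : Fin (n + 2)),
        (Matrix.transvection a b (1 : ZMod 2) * M : Matrix _ _ (ZMod 2)) i j = if i = a then M i j + M b j else M i j := by
      intro M a b i j
      split_ifs with h
      · subst h; rw [Matrix.transvection_mul_apply_same, one_mul]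
      · exact Matrix.transvection_mul_apply_of_ne _ _ _ _ h _ _
    have hR : ∀ (M : Matrix (Fin (n + 2)) (Fin (n + 2)) (ZMod 2)) (a b i j : Fin (n + 2)),
        (M * Matrix.transvection a b (1 : ZMod 2) : Matrix _ _ (ZMod 2)) i j = if j = b then M i j + M i a else M i j := by
      intro M a b i j
      split_ifs with h
      · subst h; rw [Matrix.mul_transvection_apply_same, one_mul]
      · exact Matrix.mul_transvection_apply_of_ne _ _ _ _ h _ _
    ext i j
    rw [hL, hR]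
    induction i using Cfsg.Agent.H92.SLParabolic.forall_split <;>
      induction j using Cfsg.Agent.H92.SLParabolic.forall_split <;>
      simp [Matrix.one_apply, Pi.single_apply, Fin.ext_iff, CharTwo.add_self_eq_zero, eq_comm]
    all_goals (split_ifs <;> simp [CharTwo.add_self_eq_zero])
  refine Cfsg.Agent.H92.large_of_conj (z := Cfsg.Agent.H92.SLParabolic.zT) (g := w) hE ?_ ?_ hz1 ?_
    (fun c hc q hq => hnorm c (Subgroup.mem_centralizer_singleton_iff.mpr hc) q hq) ?_ ?_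
  · rw [hcard, show (32 : ℕ) = 2 ^ 5 by norm_num]
    exact Nat.pow_le_pow_right (by norm_num) (by omega)
  · rw [Cfsg.Agent.H92.center_map_eq_inf]
    exact ⟨hzQ, Subgroup.mem_centralizer_iff.mpr fun q hq =>
      Subgroup.mem_centralizer_singleton_iff.mp (hQC q hq)⟩
  · intro c hc
    exact hcen c (Subgroup.mem_centralizer_singleton_iff.mpr
      (Subgroup.mem_centralizer_iff.mp hc _ hzQ).symm) (fun q hq => Subgroup.mem_centralizer_iff.mp hc q hq)
  · rw [hww]; exact hmem _ _ _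
  · rw [hww]
    intro e
    have h := congrArg (fun g : Matrix.SpecialLinearGroup (Fin (n + 2)) (ZMod 2) =>
      Cfsg.Agent.H92.SLParabolic.mx g 0 (Fin.succ (Fin.succ k))) e
    simp [Cfsg.Agent.H92.SLParabolic.mx, Cfsg.Agent.H92.SLParabolic.unip,
      Cfsg.Agent.H92.SLParabolic.zT] at h

end Cfsg.Agent.S5424
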