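import Cfsg.Statements.S5425
import Cfsg.Agent.H95.GolayLarge2
open Cfsg.Agent.H95 Cfsg.Agent.Golay
open scoped Pointwise

set_option autoImplicit false
open Cfsg

namespace Cfsg.Agent.S5425

lemma eq_inv_of_fixed_point_free {G : Type*} [Group G] [Finite G] {K : Subgroup G} {z : G}
    (hz : z * z = 1) (hn : ∀ k ∈ K, z * k * z⁻¹ ∈ K) (hfpf : ∀ k ∈ K, z * k = k * z → k = 1) :
    ∀ k ∈ K, z * k * z⁻¹ = k⁻¹ := by
  let f : K → K := fun k => ⟨k.1⁻¹ * (z * k.1 * z⁻¹), mul_mem (inv_mem k.2) (hn _ k.2)⟩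
  have hf : Function.Injective f := by
    intro a b h
    have e : a.1⁻¹ * (z * a.1 * z⁻¹) = b.1⁻¹ * (z * b.1 * z⁻¹) := congrArg Subtype.val h
    have e1 : z * a.1 * z⁻¹ = a.1 * b.1⁻¹ * (z * b.1 * z⁻¹) := by
      rw [mul_assoc (a.1), ← e, mul_inv_cancel_left]
    have e2 : z * (a.1 * b.1⁻¹) = a.1 * b.1⁻¹ * z := by
      calc z * (a.1 * b.1⁻¹) = (z * a.1 * z⁻¹) * (z * b.1 * z⁻¹)⁻¹ * z := by group
        _ = a.1 * b.1⁻¹ * z := by rw [e1, mul_inv_cancel_right]
    exact Subtype.ext (mul_inv_eq_one.1 (hfpf _ (mul_mem a.2 (inv_mem b.2)) e2))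
  intro k hk
  obtain ⟨a, ha⟩ := Finite.injective_iff_surjective.1 hf ⟨k, hk⟩
  have e : a.1⁻¹ * (z * a.1 * z⁻¹) = k := congrArg Subtype.val ha
  have hzi : z⁻¹ = z := inv_eq_of_mul_eq_one_right hz
  rw [← e]
  calc z * (a.1⁻¹ * (z * a.1 * z⁻¹)) * z⁻¹ = (z * a.1⁻¹ * z) * a.1 * (z⁻¹ * z⁻¹) := by group
    _ = (z * a.1⁻¹ * z⁻¹) * a.1 := by rw [hzi, hz, mul_one]
    _ = (a.1⁻¹ * (z * a.1 * z⁻¹))⁻¹ := by group

/-- In the Mathieu group of degree 24 (the automorphism group of the length-24 binary Golay code, acting on the 24 coordinates), let z be an involution whose fixed points form an octad (the support of a code word of weight 8), and let Q be the largest normal 2-subgroup of the centralizer C of z. Then Q is extraspecial of order 2^7 with an elementary abelian subgroup of order 16 (plus type), Q is a large extraspecial 2-subgroup, and C is the split extension of Q by the special linear group of degree 3 over the field with two elements. -/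
theorem result (z : ↥Cfsg.M24) (hz : orderOf z = 2) (hfix : (Finset.univ.filter fun p : Cfsg.GolayPt => (z : Equiv.Perm Cfsg.GolayPt) p = p) ∈ Cfsg.octads) (Q : Subgroup ↥Cfsg.M24) (hQ : Q = (Cfsg.pCore 2 ↥(Subgroup.centralizer ({z} : Set ↥Cfsg.M24))).map (Subgroup.centralizer ({z} : Set ↥Cfsg.M24)).subtype) : Cfsg.IsExtraspecial 2 ↥Q ∧ Nat.card ↥Q = 2 ^ 7 ∧ (∃ E : Subgroup ↥Cfsg.M24, E ≤ Q ∧ Cfsg.IsElementaryAbelian 2 E ∧ Nat.card ↥E = 2 ^ 4) ∧ Cfsg.IsLargeExtraspecial Q ∧ ∃ K : Subgroup ↥Cfsg.M24, K ≤ Subgroup.centralizer ({z} : Set ↥Cfsg.M24) ∧ Q ⊓ K = ⊥ ∧ Q ⊔ K = Subgroup.centralizer ({z} : Set ↥Cfsg.M24) ∧ Nonempty (↥K ≃* Matrix.SpecialLinearGroup (Fin 3) (ZMod 2)) := by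
  subst hQ
  have hz2 : z * z = 1 := by rw [← pow_two]; exact hz ▸ pow_orderOf_eq_one z
  have hzne : (z : Equiv.Perm GolayPt) ≠ 1 := fun e => by
    rw [show z = 1 from Subtype.ext e, orderOf_one] at hz; omega
  obtain ⟨k0, hk0, ek⟩ := conj_invEight z.2 hzne hfix
  set k : M24 := ⟨k0, hk0⟩
  set φ : M24 ≃* M24 := MulAut.conj k⁻¹ with hφ
  have hφz : φ invEightElt = z := Subtype.ext (by
    show k0⁻¹ * mkPerm invEight * k0⁻¹⁻¹ = z.1
    rw [← ek]; group)
  obtain ⟨Q0, K0, hd0, ⟨ι⟩, hT0, hmov0⟩ := exists_centData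
  set Q := Q0.map φ.toMonoidHom
  set K := K0.map φ.toMonoidHom
  have hd : CentData z Q K := hφz ▸ hd0.map φ
  have hmov : ∀ k ∈ K, (∀ x ∈ Q, k * x * k⁻¹ * x⁻¹ = 1 ∨ k * x * k⁻¹ * x⁻¹ = z) → k = 1 := by
    rintro _ ⟨a, ha, rfl⟩ h
    show φ a = 1
    rw [hmov0 a ha fun x hx => ?_, map_one]
    have h' : φ a * φ x * (φ a)⁻¹ * (φ x)⁻¹ = 1 ∨ φ a * φ x * (φ a)⁻¹ * (φ x)⁻¹ = φ invEightElt :=
      hφz ▸ h _ ⟨x, hx, rfl⟩
    rw [← map_inv, ← map_inv, ← map_mul, ← map_mul, ← map_mul] at h'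
    exact h'.imp (fun e => φ.injective (e.trans φ.map_one.symm)) (fun e => φ.injective e)
  set F := Finset.univ.filter fun p => (z : Equiv.Perm GolayPt) p = p with hF
  have hT : ∀ w : M24, (∀ p ∈ F, (w : Equiv.Perm GolayPt) p = p) → w ∈ Q := by
    intro w hw
    refine ⟨k * w * k⁻¹, hT0 _ fun p hp => ?_, ?_⟩
    · have hp' : k0⁻¹ p ∈ F := by
        rw [hF, Finset.mem_filter]
        refine ⟨Finset.mem_univ _, k0.injective ?_⟩
        have := hp
        rw [show (invEightElt : Equiv.Perm GolayPt) = k0 * z.1 * k0⁻¹ from ek.symm] at this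
        rw [Equiv.Perm.mul_apply, Equiv.Perm.mul_apply] at this
        rw [this, Equiv.Perm.coe_inv, Equiv.apply_symm_apply]
      show k0 (w.1 (k0⁻¹ p)) = p
      rw [hw _ hp', Equiv.Perm.coe_inv, Equiv.apply_symm_apply]
    · show k⁻¹ * (k * w * k⁻¹) * k⁻¹⁻¹ = w
      group
  have hC := card_centralizer_invEight z hfix
  obtain ⟨hdec, hnorm⟩ := hd.conj_mem hC
  have hcore := hd.pCore_eq hC
  obtain ⟨hes, hzc⟩ := hd.isExtraspecial
  rw [hcore]
  have hiota : Nonempty (↥K ≃* Matrix.SpecialLinearGroup (Fin 3) (ZMod 2)) :=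
    ⟨((Subgroup.equivMapOfInjective K0 φ.toMonoidHom φ.injective).symm).trans ι⟩
  have hFo : F ∈ Cfsg.octads := hfix
  refine ⟨hes, by rw [hd.card_Q]; norm_num, ?_, ⟨hes, ?_, ?_, ?_⟩, K, hd.K_le, ?_, ?_, hiota⟩
  · refine ⟨(M24 ⊓ fixingSubgroup (Equiv.Perm GolayPt) (F : Set GolayPt)).subgroupOf M24, ?_, ?_, ?_⟩
    · intro w hw
      rw [Subgroup.mem_subgroupOf, Subgroup.mem_inf, mem_fixingSubgroup_iff] at hw
      exact hT w fun p hp => hw.2 p (Finset.mem_coe.2 hp)
    · have hsq : ∀ w ∈ (M24 ⊓ fixingSubgroup (Equiv.Perm GolayPt) (F : Set GolayPt)).subgroupOf M24,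
          w * w = 1 := fun w hw => Subtype.ext ((octad_fixing hFo).2 w.1 hw)
      refine ⟨⟨⟨fun a b => Subtype.ext ?_⟩⟩, fun a ha => by rw [pow_two]; exact hsq a ha⟩
      have h1 := hsq _ a.2
      have h2 := hsq _ b.2
      have h3 := hsq _ (mul_mem a.2 b.2)
      show a.1 * b.1 = b.1 * a.1
      calc a.1 * b.1 = (a.1 * b.1)⁻¹ := (inv_eq_of_mul_eq_one_right h3).symm
        _ = b.1 * a.1 := by
          rw [mul_inv_rev, inv_eq_of_mul_eq_one_right h1, inv_eq_of_mul_eq_one_right h2]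
    · rw [Nat.card_congr (Subgroup.subgroupOfEquivOfLe inf_le_left).toEquiv, (octad_fixing hFo).1]
      norm_num
  · refine le_antisymm (fun x hx => ?_) ?_
    · rw [Subgroup.mem_centralizer_iff] at hx
      have hxC : x ∈ Subgroup.centralizer ({z} : Set M24) :=
        Subgroup.mem_centralizer_singleton_iff.2 (hx z hd.z_mem).symm
      obtain ⟨q, hq, a, ha, rfl⟩ := hdec x hxC
      have ha1 : a = 1 := hmov a ha fun y hy => by
        have hy' := hd.norm a ha y hy
        have e : q * (a * y * a⁻¹) * q⁻¹ = y := by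
          calc q * (a * y * a⁻¹) * q⁻¹ = q * a * y * (q * a)⁻¹ := by group
            _ = y := by rw [← hx y hy, mul_inv_cancel_right]
        have : a * y * a⁻¹ = q⁻¹ * y * q := by
          conv_rhs => rw [← e]
          group
        rw [this]
        have := hd.comm_Q q⁻¹ (inv_mem hq) y hy
        rwa [inv_inv] at this
      subst ha1
      rw [mul_one] at hx hxC ⊢
      rw [hzc]
      rcases hd.center_Q q hq (fun y hy => (hx y hy).symm) with e | e <;> rw [e]
      · exact one_mem _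
      · exact Subgroup.mem_zpowers _
    · rw [hzc, Subgroup.zpowers_le, Subgroup.mem_centralizer_iff]
      exact fun y hy => Subgroup.mem_centralizer_singleton_iff.1 (hd.Q_le hy)
  · rw [hzc]
    intro x hx
    have hxC : x ∈ Subgroup.centralizer ({z} : Set M24) := by
      rw [Subgroup.mem_centralizer_iff] at hx
      exact Subgroup.mem_centralizer_singleton_iff.2 (hx z (Subgroup.mem_zpowers z)).symm
    rw [Subgroup.mem_normalizer_iff]
    intro y
    refine ⟨fun hy => hnorm x hxC y hy, fun hy => ?_⟩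
    have := hnorm x⁻¹ (inv_mem hxC) _ hy
    rwa [show x⁻¹ * (x * y * x⁻¹) * x⁻¹⁻¹ = y by group] at this
  · intro L hodd hQL
    have hLn : ∀ q ∈ Q, ∀ l ∈ L, q * l * q⁻¹ ∈ L := fun q hq l hl =>
      (Subgroup.mem_normalizer_iff.1 (hQL hq) l).1 hl
    have hpow : ∀ l ∈ L, l ^ Nat.card L = 1 := fun l hl =>
      congrArg Subtype.val (pow_card_eq_one' (x := (⟨l, hl⟩ : L)))
    have hcop : Nat.Coprime (2 ^ 7) (Nat.card L) :=
      Nat.Coprime.pow_left 7 (Nat.coprime_two_left.2 hodd)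
    have hdisjQL : ∀ l ∈ L, l ∈ Q → l = 1 := by
      intro l hl hlQ
      have h128 : l ^ 2 ^ 7 = 1 := by
        have := congrArg Subtype.val (pow_card_eq_one' (x := (⟨l, hlQ⟩ : Q)))
        rw [hd.card_Q] at this
        simpa using this
      have := (pow_gcd_eq_one (a := l)).2 ⟨h128, hpow l hl⟩
      rwa [hcop, pow_one] at this
    -- no odd element normalised by the core centralises z
    have hfpf : ∀ l ∈ L, z * l = l * z → l = 1 := by
      intro l hl hc
      have hlC : l ∈ Subgroup.centralizer ({z} : Set M24) :=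
        Subgroup.mem_centralizer_singleton_iff.2 hc.symm
      have hcen : ∀ y ∈ Q, y * l = l * y := by
        intro y hy
        have h1 : y * l * y⁻¹ * l⁻¹ ∈ L := mul_mem (hLn y hy l hl) (inv_mem hl)
        have h2 : y * l * y⁻¹ * l⁻¹ ∈ Q := by
          rw [show y * l * y⁻¹ * l⁻¹ = y * (l * y⁻¹ * l⁻¹) by group]
          exact mul_mem hy (hnorm l hlC _ (inv_mem hy))
        have := hdisjQL _ h1 h2
        rw [mul_inv_eq_one, mul_inv_eq_iff_eq_mul] at this
        exact this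
      obtain ⟨q, hq, a, ha, hla⟩ := hdec l hlC
      have ha1 : a = 1 := hmov a ha fun y hy => by
        have e : a * y * a⁻¹ = q⁻¹ * y * q := by
          have e1 : q * a * y = y * (q * a) := by rw [← hla]; exact (hcen y hy).symm
          calc a * y * a⁻¹ = q⁻¹ * (q * a * y) * a⁻¹ := by group
            _ = q⁻¹ * y * q := by rw [e1]; group
        rw [e]
        have := hd.comm_Q q⁻¹ (inv_mem hq) y hy
        rwa [inv_inv] at this
      exact hdisjQL l hl (by rw [hla, ha1, mul_one]; exact hq)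
    -- the other translations also act without fixed points
    have hother : ∀ e : M24, (∀ p ∈ F, (e : Equiv.Perm GolayPt) p = p) → e ≠ 1 → e ≠ z →
        ∀ l ∈ L, e * l * e⁻¹ = l⁻¹ := by
      intro e he hne1 hnez
      have heQ := hT e he
      have hene : (e : Equiv.Perm GolayPt) ≠ 1 := fun h => hne1 (Subtype.ext h)
      obtain ⟨he2, hefix⟩ := fix_eq_of_fixing hFo e.2 hene he
      obtain ⟨b, hb, eb⟩ := conj_invEight e.2 hene (hefix ▸ hFo)
      set g : M24 := ⟨b, hb⟩⁻¹ * k with hg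
      have hge : g * z * g⁻¹ = e := Subtype.ext (by
        show b⁻¹ * k0 * z.1 * (b⁻¹ * k0)⁻¹ = e.1
        calc b⁻¹ * k0 * z.1 * (b⁻¹ * k0)⁻¹ = b⁻¹ * (k0 * z.1 * k0⁻¹) * b := by group
          _ = e.1 := by rw [ek, ← eb]; group)
      have hgF : (g : Equiv.Perm GolayPt) • F = F := by
        have h1 : (Finset.univ.filter fun p => (g.1 * z.1 * g.1⁻¹) p = p) = g.1 • F :=
          fix_set_conj g z.1
        rw [show g.1 * z.1 * g.1⁻¹ = e.1 from congrArg Subtype.val hge, hefix] at h1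
        exact h1.symm
      have hzQe : g⁻¹ * z * g ∈ Q := hT _ fun p hp => by
        have hgp : (g : Equiv.Perm GolayPt) p ∈ F := by
          rw [← hgF]; exact Finset.smul_mem_smul_finset hp
        show g.1⁻¹ (z.1 (g.1 p)) = p
        rw [(Finset.mem_filter.1 hgp).2, Equiv.Perm.coe_inv, Equiv.symm_apply_apply]
      refine eq_inv_of_fixed_point_free (Subtype.ext (by rw [← pow_two]; exact he2))
        (hLn e heQ) fun l hl hc => hfpf l hl ?_
      have hlC : g⁻¹ * l * g ∈ Subgroup.centralizer ({z} : Set M24) := by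
        rw [Subgroup.mem_centralizer_singleton_iff]
        rw [← hge] at hc
        calc g⁻¹ * l * g * z = g⁻¹ * (l * (g * z * g⁻¹)) * g := by group
          _ = z * (g⁻¹ * l * g) := by rw [← hc]; group
      have h1 : z * l * z⁻¹ * l⁻¹ ∈ L := mul_mem (hLn z hd.z_mem l hl) (inv_mem hl)
      have h2 : g⁻¹ * (z * l * z⁻¹ * l⁻¹) * g ∈ Q := by
        rw [show g⁻¹ * (z * l * z⁻¹ * l⁻¹) * g
          = (g⁻¹ * z * g) * ((g⁻¹ * l * g) * (g⁻¹ * z * g)⁻¹ * (g⁻¹ * l * g)⁻¹) by group]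
        exact mul_mem hzQe (hnorm _ hlC _ (inv_mem hzQe))
      have h128 : (z * l * z⁻¹ * l⁻¹) ^ 2 ^ 7 = 1 := by
        have := congrArg Subtype.val (pow_card_eq_one' (x := (⟨_, h2⟩ : Q)))
        rw [hd.card_Q] at this
        have h' : (g⁻¹ * (z * l * z⁻¹ * l⁻¹) * g⁻¹⁻¹) ^ 2 ^ 7 = 1 := by
          rw [inv_inv]; simpa using this
        rw [conj_pow, conj_eq_one_iff] at h'
        exact h'
      have := (pow_gcd_eq_one (a := z * l * z⁻¹ * l⁻¹)).2 ⟨h128, hpow _ h1⟩
      rw [hcop, pow_one, mul_inv_eq_one, mul_inv_eq_iff_eq_mul] at this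
      exact this
    have hzi := eq_inv_of_fixed_point_free hz2 (hLn z hd.z_mem) hfpf
    obtain ⟨E0, hE0⟩ : ∃ e : M24, (∀ p ∈ F, (e : Equiv.Perm GolayPt) p = p) ∧ e ≠ 1 ∧ e ≠ z := by
      have h16 := (octad_fixing hFo).1
      set Fx := M24 ⊓ fixingSubgroup (Equiv.Perm GolayPt) (F : Set GolayPt) with hFx
      by_contra hall
      push Not at hall
      have hle : Fx ≤ Subgroup.zpowers (z : Equiv.Perm GolayPt) := by
        intro w hw
        rw [hFx, Subgroup.mem_inf, mem_fixingSubgroup_iff] at hw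
        by_cases h1 : w = 1
        · rw [h1]; exact one_mem _
        · have := hall ⟨w, hw.1⟩ (fun p hp => hw.2 p (Finset.mem_coe.2 hp))
            (fun e => h1 (congrArg Subtype.val e))
          rw [show w = z.1 from congrArg Subtype.val this]
          exact Subgroup.mem_zpowers _
      have := Subgroup.card_le_of_le hle
      rw [h16, Nat.card_zpowers, Subgroup.orderOf_coe, hz] at this
      omega
    obtain ⟨he, hne1, hnez⟩ := hE0
    have hzF : ∀ p ∈ F, (z : Equiv.Perm GolayPt) p = p := fun p hp => (Finset.mem_filter.1 hp).2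
    have hze : ∀ p ∈ F, ((z * E0 : M24) : Equiv.Perm GolayPt) p = p := fun p hp => by
      rw [Subgroup.coe_mul, Equiv.Perm.mul_apply, he p hp, hzF p hp]
    have i2 := hother E0 he hne1 hnez
    have i3 := hother (z * E0) hze (fun h => hnez (by
        rw [← inv_eq_of_mul_eq_one_right h]; exact inv_eq_of_mul_eq_one_right hz2))
      (fun h => hne1 (mul_eq_left.1 h))
    rw [Subgroup.eq_bot_iff_forall]
    intro l hl
    have h := i3 l hl
    rw [show z * E0 * l * (z * E0)⁻¹ = z * (E0 * l * E0⁻¹) * z⁻¹ by group, i2 l hl,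
      hzi _ (inv_mem hl), inv_inv] at h
    have hl2 : l ^ 2 = 1 := by rw [pow_two]; nth_rewrite 1 [h]; exact inv_mul_cancel l
    have := (pow_gcd_eq_one (a := l)).2 ⟨hl2, hpow l hl⟩
    rwa [Nat.coprime_two_left.2 hodd, pow_one] at this
  · rw [Subgroup.eq_bot_iff_forall]
    exact fun x hx => hd.disj x hx.2 hx.1
  · refine le_antisymm (sup_le hd.Q_le hd.K_le) fun x hx => ?_
    obtain ⟨q, hq, a, ha, rfl⟩ := hdec x hx
    exact mul_mem (Subgroup.mem_sup_left hq) (Subgroup.mem_sup_right ha)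

end Cfsg.Agent.S5425
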