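import Cfsg.Statements.S5427
import Cfsg.Agent.H92.LargeSimple
import Cfsg.Agent.S5421
import Cfsg.Agent.S5422

set_option autoImplicit false
open Cfsg

namespace Cfsg.Agent.S5427

/-- Let z be an involution of the finite group G whose centralizer C has generalized Fitting subgroup Q, an extraspecial 2-group of width at least 2 (order 2^(2w+1), w ≥ 2). Let K be a subgroup of G such that the subgroup U generated by the K-conjugates of z is abelian and C is generated by the C-conjugates of U. Suppose that either some K-conjugate of z other than z lies in Q, or some element u of U ∩ Q outside the subgroup generated by z has z in the largest normal 2-subgroup of its centralizer. Then G is simple and Q is a large extraspecial 2-subgroup of G. -/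
theorem result {G : Type*} [Group G] [Finite G] (z : G) (hz : orderOf z = 2) (Q : Subgroup G) (hQC : Q ≤ Subgroup.centralizer ({z} : Set G)) (hF : (Cfsg.generalizedFittingSubgroup ↥(Subgroup.centralizer ({z} : Set G))).map (Subgroup.centralizer ({z} : Set G)).subtype = Q) (hQ : Cfsg.IsExtraspecial 2 ↥Q) (w : ℕ) (hw : 2 ≤ w) (hcard : Nat.card ↥Q = 2 ^ (2 * w + 1)) (K U : Subgroup G) (hU : U = Subgroup.closure {x : G | ∃ k ∈ K, x = k * z * k⁻¹}) (hUab : IsMulCommutative ↥U) (hgen : Subgroup.closure {x : G | ∃ c ∈ Subgroup.centralizer ({z} : Set G), ∃ u ∈ U, x = c * u * c⁻¹} = Subgroup.centralizer ({z} : Set G)) (h3 : (∃ k ∈ K, k * z * k⁻¹ ∈ Q ∧ k * z * k⁻¹ ≠ z) ∨ ∃ u ∈ U ⊓ Q, u ∉ Subgroup.zpowers z ∧ (∃ hz' : z ∈ Subgroup.centralizer ({u} : Set G), (⟨z, hz'⟩ : ↥(Subgroup.centralizer ({u} : Set G))) ∈ Cfsg.pCore 2 ↥(Subgroup.centralizer ({u} : Set G)))) : IsSimpleGroup G ∧ Cfsg.IsLargeExtraspecial Q := by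
  classical
  obtain ⟨hzZ, hL2, hconj, hL3⟩ := Cfsg.Agent.H92.centralizer_setting hQC hF
  have hz1 : z ≠ 1 := fun e => by simp [e] at hz
  have hZ2 := fun {x : G} (hx : x ∈ (Subgroup.center Q).map Q.subtype) =>
    Cfsg.Agent.H92.eq_one_or_center hQ hzZ hz1 hx
  have hzU : ∀ k ∈ K, k * z * k⁻¹ ∈ U := fun k hk => hU ▸ Subgroup.subset_closure ⟨k, hk, rfl⟩
  have hlarge : Cfsg.IsLargeExtraspecial Q := by
    rcases h3 with ⟨k, hk, hkQ, hkne⟩ | ⟨u, ⟨huU, huQ⟩, huz, hz', hcore⟩
    · refine (Cfsg.Agent.S5422.result Q hQ hL2 hL3 w hw hcard k ?_ ?_).2.2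
      · intro h
        rcases hZ2 ((Subgroup.mem_normalizer_iff.mp h z).mp hzZ) with h' | h'
        · exact hz1 (conj_eq_one_iff.mp h')
        · exact hkne h'
      · rintro _ ⟨x, hx, rfl⟩
        rcases hZ2 hx with rfl | rfl
        · simp
        · simpa using hkQ
    · have hu1 : u ≠ 1 := fun e => huz (e ▸ one_mem _)
      have huu : u * u = 1 := by
        have key : ∀ x ∈ U, x * x = 1 := by
          intro x hx
          rw [hU] at hx
          induction hx using Subgroup.closure_induction with
          | mem x hx =>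
            obtain ⟨k, -, rfl⟩ := hx
            rw [conj_mul, ← pow_two, ← hz, pow_orderOf_eq_one, mul_one, mul_inv_cancel]
          | one => simp
          | mul a b ha hb iha ihb =>
            have hc : b * a = a * b := by
              have := (hUab.is_comm.comm (⟨b, hU ▸ hb⟩ : U) ⟨a, hU ▸ ha⟩)
              exact congrArg Subtype.val this
            calc a * b * (a * b) = a * (b * a) * b := by group
              _ = (a * a) * (b * b) := by rw [hc]; group
              _ = 1 := by rw [iha, ihb, one_mul]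
          | inv a _ ha => rw [← mul_inv_rev, ha, inv_one]
        exact key u huU
      refine Cfsg.Agent.S5421.result Q hQ hL2 hL3 u huQ ?_
        (orderOf_eq_prime (by rw [pow_two, huu]) hu1) ?_
      · intro h
        rcases hZ2 h with e | e
        · exact hu1 e
        · exact huz (e ▸ Subgroup.mem_zpowers _)
      · intro x hx
        rcases hZ2 hx with rfl | rfl
        · exact one_mem _
        · exact ⟨_, hcore, rfl⟩
  haveI : Nontrivial G := ⟨⟨z, 1, hz1⟩⟩
  refine ⟨⟨fun N hN => ?_⟩, hlarge⟩
  haveI := hN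
  rw [or_iff_not_imp_left]
  intro hNbot
  have hzN : z ∈ N := Cfsg.Agent.H92.center_mem_normal hlarge hzZ hz1 hNbot
  have hUN : U ≤ N := by
    rw [hU, Subgroup.closure_le]
    rintro x ⟨k, -, rfl⟩
    exact hN.conj_mem z hzN k
  have hHN : Subgroup.centralizer ({z} : Set G) ≤ N := by
    rw [← hgen, Subgroup.closure_le]
    rintro x ⟨c, -, u, hu, rfl⟩
    exact hN.conj_mem u (hUN hu) c
  exact Cfsg.Agent.H92.eq_top_of_centralizer_center_le hQ.1.1
    (fun x hx => hZ2 (hL2 ▸ hx)) hz1 (Cfsg.Agent.H92.center_map_le hzZ) hHN (hQC.trans hHN)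

end Cfsg.Agent.S5427
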