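import Cfsg.Statements.S5428
import Cfsg.Agent.H92.QuotOdd

set_option autoImplicit false
open Cfsg

namespace Cfsg.Agent.S5428

/-- Let z be an involution of the finite group G whose centralizer C has generalized Fitting subgroup Q extraspecial (as a 2-group), let A be a subgroup of C of odd order, and let R be the centralizer of A in Q; suppose R has order at least 32, the largest normal subgroup of odd order of the centralizer of the subgroup generated by A and R lies in A, the order of that centralizer is not divisible by 4, and g is an element of G with g z g⁻¹ in R but outside the centre Z of Q. Let M be the subgroup generated by A and the centralizer of A (A is normal in it). Then: the centralizer in M of the subgroup generated by R and A, joined with A, equals the subgroup generated by A and Z; the image of R in M/A is a large extraspecial 2-subgroup of M/A; and g z g⁻¹ is conjugate to z inside the subgroup generated by R and the centralizer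 of A in g Q g⁻¹. -/
theorem result {G : Type*} [Group G] [Finite G] (z : G) (hz : orderOf z = 2) (Q : Subgroup G) (hQC : Q ≤ Subgroup.centralizer ({z} : Set G)) (hF : (Cfsg.generalizedFittingSubgroup ↥(Subgroup.centralizer ({z} : Set G))).map (Subgroup.centralizer ({z} : Set G)).subtype = Q) (hQ : Cfsg.IsExtraspecial 2 ↥Q) (A : Subgroup G) (hA : A ≤ Subgroup.centralizer ({z} : Set G)) (hAodd : Odd (Nat.card ↥A)) (R : Subgroup G) (hR : R = Q ⊓ Subgroup.centralizer (A : Set G)) (hR32 : 32 ≤ Nat.card ↥R) (hO : (Cfsg.oddCore ↥(Subgroup.centralizer ((A ⊔ R : Subgroup G) : Set G))).map (Subgroup.centralizer ((A ⊔ R : Subgroup G) : Set G)).subtype ≤ A) (h4 : ¬ 4 ∣ Nat.card ↥(Subgroup.centralizer ((A ⊔ R : Subgroup G) : Set G))) (g : G) (hgR : g * z * g⁻¹ ∈ R) (hgZ : g * z * g⁻¹ ∉ ((Subgroup.center ↥Q).map Q.subtype)) (M : Subgroup G) (hM : M = Subgroup.centralizer (A : Set G) ⊔ A) [hn : (A.subgroupOf M).Normal] : (M ⊓ Subgroup.centralizer ((R ⊔ A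 : Subgroup G) : Set G)) ⊔ A = A ⊔ ((Subgroup.center ↥Q).map Q.subtype) ∧ Cfsg.IsLargeExtraspecial ((R.subgroupOf M).map (QuotientGroup.mk' (A.subgroupOf M))) ∧ ∃ x ∈ R ⊔ ((Q).map (MulAut.conj g).toMonoidHom ⊓ Subgroup.centralizer (A : Set G)), x * (g * z * g⁻¹) * x⁻¹ = z := by
  classical
  haveI : Fact (Nat.Prime 2) := ⟨Nat.prime_two⟩
  obtain ⟨hzZ, hL2, hconj, hL3⟩ := Cfsg.Agent.H92.centralizer_setting hQC hF
  have hzz : z * z = 1 := by rw [← pow_two, ← hz, pow_orderOf_eq_one]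
  have hz1 : z ≠ 1 := fun e => by simp [e] at hz
  have hzQ : z ∈ Q := Cfsg.Agent.H92.center_map_le hzZ
  set s := g * z * g⁻¹ with hsdef
  have hRQ : R ≤ Q := hR ▸ inf_le_left
  have hRA : ∀ r ∈ R, ∀ a ∈ A, a * r = r * a := fun r hr a ha =>
    Subgroup.mem_centralizer_iff.mp (hR ▸ hr : r ∈ Q ⊓ Subgroup.centralizer (A : Set G)).2 a ha
  have hinR : ∀ {q : G}, q ∈ Q → (∀ a ∈ A, a * q = q * a) → q ∈ R := fun {q} h1 h2 =>
    hR ▸ ⟨h1, Subgroup.mem_centralizer_iff.mpr h2⟩
  have hAz : ∀ a ∈ A, a * z = z * a := fun a ha => Subgroup.mem_centralizer_singleton_iff.mp (hA ha)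
  have hAQ : ∀ a ∈ A, ∀ q ∈ Q, a * q * a⁻¹ ∈ Q := fun a ha q hq => hconj q hq a (hA ha)
  have hsQ : s ∈ Q := hRQ hgR
  have hsne : s ≠ z := fun e => hgZ (e ▸ hzZ)
  have h : Cfsg.Agent.H92.PairSetting Q z g :=
    ⟨hQ, hL2, hL3, hzZ, hz1, hsQ, hsne, hR32.trans (Subgroup.card_le_of_le hRQ)⟩
  have hzR := h.z_mem_R
  have hsA : ∀ a ∈ A, a * s = s * a := hRA s hgR
  have hss : s * s = 1 := h.s_sq
  obtain ⟨x, hxQ, hxA, hxs⟩ := Cfsg.Agent.H92.exists_moving_fixed hQ hzZ hz1 hAodd hAQ hsQ hsA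
    h.s_ne_one hsne
  obtain ⟨y, hyR, hyA, hyz⟩ : ∃ y ∈ (Q).map (MulAut.conj g).toMonoidHom,
      (∀ a ∈ A, a * y = y * a) ∧ y * z * y⁻¹ = z * s := by
    set A' := A.map (MulAut.conj g⁻¹).toMonoidHom with hA'
    have hA'odd : Odd (Nat.card A') := by
      rw [hA', ← Nat.card_congr (A.equivMapOfInjective _ (MulEquiv.injective _)).toEquiv]
      exact hAodd
    have hmemA' : ∀ {b : G}, b ∈ A' → g * b * g⁻¹ ∈ A := by
      rintro _ ⟨a, ha, rfl⟩
      simpa [mul_assoc] using ha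
    have hA'z : ∀ b ∈ A', b ∈ Subgroup.centralizer ({z} : Set G) := by
      intro b hb
      rw [Subgroup.mem_centralizer_singleton_iff]
      have e := hsA _ (hmemA' hb)
      calc b * z = g⁻¹ * ((g * b * g⁻¹) * s) * g := by rw [hsdef]; group
        _ = g⁻¹ * (s * (g * b * g⁻¹)) * g := by rw [e]
        _ = z * b := by rw [hsdef]; group
    have hz'Q : g⁻¹ * z * g ∈ Q := Cfsg.Agent.H92.PairSetting.mem_R.mp hzR
    obtain ⟨r, hr, hrA, hrz⟩ := Cfsg.Agent.H92.exists_moving_fixed hQ hzZ hz1 hA'odd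
      (fun b hb q hq => hconj q hq b (hA'z b hb)) hz'Q (fun b hb => by
        calc b * (g⁻¹ * z * g) = g⁻¹ * ((g * b * g⁻¹) * z) * g := by group
          _ = g⁻¹ * (z * (g * b * g⁻¹)) * g := by rw [hAz _ (hmemA' hb)]
          _ = _ := by group)
      (fun e => hz1 (by
        calc z = g * (g⁻¹ * z * g) * g⁻¹ := by group
          _ = 1 := by rw [e]; group))
      (fun e => hsne (by
        calc s = g * (g⁻¹ * z * g) * g⁻¹ := by rw [e]
          _ = z := by group))
    refine ⟨g * r * g⁻¹, Cfsg.Agent.H92.PairSetting.mem_R.mpr (by simpa [mul_assoc] using hr),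
      fun a ha => ?_, ?_⟩
    · have e := hrA (g⁻¹ * a * g) ⟨a, ha, by simp⟩
      calc a * (g * r * g⁻¹) = g * ((g⁻¹ * a * g) * r) * g⁻¹ := by group
        _ = g * (r * (g⁻¹ * a * g)) * g⁻¹ := by rw [e]
        _ = _ := by group
    · calc g * r * g⁻¹ * z * (g * r * g⁻¹)⁻¹ = g * (r * (g⁻¹ * z * g) * r⁻¹) * g⁻¹ := by group
        _ = s * z := by rw [hrz, hsdef]; group
        _ = z * s := h.z_comm hsQ
  have hys : y * s = s * y := h.R_comm hyR
  have hk := Cfsg.Agent.H92.exists_swap_of_moves hss hxs hyz hys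
  have hyC : y ∈ Subgroup.centralizer (A : Set G) := Subgroup.mem_centralizer_iff.mpr hyA
  have hxR : x ∈ R := hinR hxQ hxA
  have hzR' : z ∈ R := hinR hzQ hAz
  -- the shape of `M`
  have hMmem : ∀ m ∈ M, ∃ c ∈ Subgroup.centralizer (A : Set G), ∃ a ∈ A, m = c * a := by
    intro m hm
    rw [hM, sup_comm, ← Subgroup.closure_eq A, ← Subgroup.closure_eq (Subgroup.centralizer _),
      ← Subgroup.closure_union] at hm
    induction hm using Subgroup.closure_induction with
    | mem m hm =>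
      rw [Subgroup.closure_eq] at *
      rcases hm with hm | hm
      · exact ⟨1, one_mem _, m, hm, (one_mul m).symm⟩
      · exact ⟨m, hm, 1, one_mem _, (mul_one m).symm⟩
    | one => exact ⟨1, one_mem _, 1, one_mem _, (one_mul 1).symm⟩
    | mul m n _ _ hm hn' =>
      obtain ⟨c, hc, a, ha, rfl⟩ := hm
      obtain ⟨c', hc', a', ha', rfl⟩ := hn'
      refine ⟨c * c', mul_mem hc hc', a * a', mul_mem ha ha', ?_⟩
      calc c * a * (c' * a') = c * (a * c') * a' := by group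
        _ = _ := by rw [Subgroup.mem_centralizer_iff.mp hc' a ha]; group
    | inv m _ hm =>
      obtain ⟨c, hc, a, ha, rfl⟩ := hm
      exact ⟨c⁻¹, inv_mem hc, a⁻¹, inv_mem ha, by
        rw [mul_inv_rev, Subgroup.mem_centralizer_iff.mp (inv_mem hc) a⁻¹ (inv_mem ha)]⟩
  have hCM : Subgroup.centralizer (A : Set G) ≤ M := hM ▸ le_sup_left
  have hAM : A ≤ M := hM ▸ le_sup_right
  set D := Subgroup.centralizer ((A ⊔ R : Subgroup G) : Set G) with hDdef
  have hzD : z ∈ D := by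
    rw [hDdef, Subgroup.mem_centralizer_iff]
    intro u hu
    have hle : A ⊔ R ≤ Subgroup.centralizer ({z} : Set G) := sup_le hA (hRQ.trans hQC)
    exact Subgroup.mem_centralizer_singleton_iff.mp (hle hu)
  have hDc : ∀ d ∈ D, (∀ a ∈ A, a * d = d * a) ∧ ∀ r ∈ R, r * d = d * r := fun d hd =>
    ⟨fun a ha => Subgroup.mem_centralizer_iff.mp hd a (Subgroup.mem_sup_left ha),
      fun r hr => Subgroup.mem_centralizer_iff.mp hd r (Subgroup.mem_sup_right hr)⟩
  have hDsplit : ∀ d ∈ D, d ∈ A ∨ d * z ∈ A := by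
    intro d hd
    have hzD2 : orderOf (⟨z, hzD⟩ : D) = 2 := by rw [← Subgroup.orderOf_coe]; exact hz
    rcases Cfsg.Agent.H92.mem_oddCore_or hzD2
      (fun u => Subtype.ext ((hDc u u.2).2 z hzR').symm) h4 ⟨d, hd⟩ with e | e
    · exact Or.inl (hO ⟨_, e, rfl⟩)
    · exact Or.inr (hO ⟨_, e, rfl⟩)
  refine ⟨?_, ?_, y * x, mul_mem (Subgroup.mem_sup_right ⟨hyR, hyC⟩) (Subgroup.mem_sup_left hxR), hk⟩
  · refine le_antisymm (sup_le ?_ le_sup_left) (sup_le le_sup_right ?_)
    · rintro d ⟨-, hd⟩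
      rw [sup_comm] at hd
      rcases hDsplit d hd with e | e
      · exact Subgroup.mem_sup_left e
      · have : d = (d * z) * z := by rw [mul_assoc, hzz, mul_one]
        rw [this]
        exact mul_mem (Subgroup.mem_sup_left e) (Subgroup.mem_sup_right hzZ)
    · intro u hu
      rcases Cfsg.Agent.H92.eq_one_or_center hQ hzZ hz1 hu with rfl | rfl
      · exact one_mem _
      · refine Subgroup.mem_sup_left ⟨hCM (Subgroup.mem_centralizer_iff.mpr hAz), ?_⟩
        rw [sup_comm]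
        exact hzD
  -- the quotient
  set T := A.subgroupOf M with hT
  have hRC : ∀ r ∈ R, r ∈ Subgroup.centralizer (A : Set G) := fun r hr =>
    Subgroup.mem_centralizer_iff.mpr (hRA r hr)
  have hRM : R ≤ M := fun r hr => hCM (hRC r hr)
  let f : ↥R →* ↥M ⧸ T := (QuotientGroup.mk' T).comp (Subgroup.inclusion hRM)
  have hfker : ∀ r : R, f r = 1 ↔ (r : G) ∈ A := fun r => by
    show QuotientGroup.mk' T _ = 1 ↔ _
    rw [QuotientGroup.mk'_apply, QuotientGroup.eq_one_iff, hT, Subgroup.mem_subgroupOf]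
    rfl
  have hr4 : ∀ r ∈ R, r ^ 4 = 1 := by
    intro r hr
    have e : r ^ 4 = (r * r) * (r * r) := by rw [show (4 : ℕ) = 2 + 2 from rfl, pow_add, pow_two]
    rw [e]
    rcases Cfsg.Agent.H92.eq_one_or_center hQ hzZ hz1
      (Cfsg.Agent.H92.sq_mem_center_map hQ (hRQ hr)) with e' | e' <;> rw [e']
    · exact mul_one 1
    · exact hzz
  have hfinj : Function.Injective f := by
    rw [injective_iff_map_eq_one]
    intro r hr
    exact Subtype.ext (Cfsg.Agent.H92.eq_one_of_pow_four hAodd ((hfker r).mp hr) (hr4 r r.2))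
  have hrange : (R.subgroupOf M).map (QuotientGroup.mk' T) = f.range := by
    ext u
    constructor
    · rintro ⟨a, ha, rfl⟩; exact ⟨⟨a, ha⟩, rfl⟩
    · rintro ⟨a, rfl⟩; exact ⟨Subgroup.inclusion hRM a, a.2, rfl⟩
  -- elements of `C(A)` centralising modulo `A`
  have hfix : ∀ c ∈ Subgroup.centralizer (A : Set G), ∀ r ∈ R,
      c * r * c⁻¹ * r⁻¹ ∈ A → c * r = r * c := by
    intro c hc r hr he
    set e := c * r * c⁻¹ * r⁻¹ with hedef
    have her : Commute e r := hRA r hr e he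
    have e1 : (c * r * c⁻¹) ^ 4 = 1 := by rw [conj_pow, hr4 r hr, mul_one, mul_inv_cancel]
    have e2 : c * r * c⁻¹ = e * r := by rw [hedef]; group
    rw [e2, her.mul_pow, hr4 r hr, mul_one] at e1
    have := Cfsg.Agent.H92.eq_one_of_pow_four hAodd he e1
    rw [hedef, mul_inv_eq_one, mul_inv_eq_iff_eq_mul] at this
    exact this
  have hsplit : ∀ m : M, ∃ c : M, (c : G) ∈ Subgroup.centralizer (A : Set G) ∧
      QuotientGroup.mk' T m = QuotientGroup.mk' T c := by
    intro m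
    obtain ⟨c, hc, a, ha, e⟩ := hMmem m m.2
    refine ⟨⟨c, hCM hc⟩, hc, ?_⟩
    rw [QuotientGroup.mk'_apply, QuotientGroup.mk'_apply, QuotientGroup.eq, hT, Subgroup.mem_subgroupOf]
    show (m : G)⁻¹ * c ∈ A
    rw [e]
    simpa using inv_mem ha
  show Cfsg.IsLargeExtraspecial ((R.subgroupOf M).map (QuotientGroup.mk' T))
  rw [hrange]
  have hfz : f ⟨z, hzR'⟩ ≠ 1 := fun e =>
    hz1 (congrArg Subtype.val (hfinj (e.trans f.map_one.symm)))
  have hzc : ∀ u ∈ f.range, u * f ⟨z, hzR'⟩ = f ⟨z, hzR'⟩ * u := by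
    rintro _ ⟨a, rfl⟩
    rw [← map_mul, ← map_mul, (Subtype.ext (h.z_comm (hRQ a.2)) : a * ⟨z, hzR'⟩ = ⟨z, hzR'⟩ * a)]
  have hRex : Cfsg.IsExtraspecial 2 R := by
    rw [hR]
    exact Cfsg.Agent.H92.fixed_isExtraspecial hQ hzZ hz1 hAodd hAQ (by rw [← hR]; omega)
  have hkM : (y * x)⁻¹ ∈ M := inv_mem (mul_mem (hCM hyC) (hRM hxR))
  have hks : QuotientGroup.mk' T ⟨_, hkM⟩ * f ⟨z, hzR'⟩ * (QuotientGroup.mk' T ⟨_, hkM⟩)⁻¹
      = f ⟨s, hgR⟩ := by
    show QuotientGroup.mk' T ⟨_, hkM⟩ * QuotientGroup.mk' T ⟨z, hRM hzR'⟩ * _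
      = QuotientGroup.mk' T ⟨s, hRM hgR⟩
    rw [← map_inv, ← map_mul, ← map_mul]
    congr 1
    apply Subtype.ext
    show (y * x)⁻¹ * z * (y * x)⁻¹⁻¹ = s
    rw [← hk]; group
  refine Cfsg.Agent.H92.large_of_conj (z := f ⟨z, hzR'⟩)
    (Cfsg.Agent.H92.isExtraspecial_of_mulEquiv (MonoidHom.ofInjective hfinj) hRex)
    (by rw [← Nat.card_congr (MonoidHom.ofInjective hfinj).toEquiv]; exact hR32) ?_ hfz ?_ ?_
    (g := QuotientGroup.mk' T ⟨_, hkM⟩) (hks ▸ ⟨_, rfl⟩) ?_
  · rw [Cfsg.Agent.H92.center_map_eq_inf]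
    exact ⟨⟨_, rfl⟩, Subgroup.mem_centralizer_iff.mpr fun u hu => hzc u hu⟩
  · intro u hu
    induction u using QuotientGroup.induction_on with | H m =>
    obtain ⟨c, hc, hmc⟩ := hsplit m
    rw [QuotientGroup.mk'_apply] at hmc
    rw [hmc] at hu ⊢
    have hcom : ∀ r ∈ R, (c : G) * r = r * c := by
      intro r hr
      apply hfix c hc r hr
      have e := Subgroup.mem_centralizer_iff.mp hu (f ⟨r, hr⟩) ⟨_, rfl⟩
      have e' : QuotientGroup.mk' T (c * ⟨r, hRM hr⟩ * c⁻¹ * (⟨r, hRM hr⟩ : M)⁻¹) = 1 := by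
        rw [map_mul, map_mul, map_mul, map_inv, map_inv]
        change QuotientGroup.mk' T c * f ⟨r, hr⟩ * (QuotientGroup.mk' T c)⁻¹ * (f ⟨r, hr⟩)⁻¹ = 1
        change f ⟨r, hr⟩ * QuotientGroup.mk' T c = QuotientGroup.mk' T c * f ⟨r, hr⟩ at e
        rw [← e, mul_inv_cancel_right, mul_inv_cancel]
      rw [QuotientGroup.mk'_apply, QuotientGroup.eq_one_iff, hT, Subgroup.mem_subgroupOf] at e'
      exact e'
    have hcD : (c : G) ∈ D := by
      rw [hDdef, Subgroup.mem_centralizer_iff]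
      intro u hu
      have hle : A ⊔ R ≤ Subgroup.centralizer ({(c : G)} : Set G) := sup_le
        (fun a ha => Subgroup.mem_centralizer_singleton_iff.mpr
          (Subgroup.mem_centralizer_iff.mp hc a ha))
        (fun r hr => Subgroup.mem_centralizer_singleton_iff.mpr (hcom r hr).symm)
      exact Subgroup.mem_centralizer_singleton_iff.mp (hle hu)
    rcases hDsplit c hcD with e | e
    · have : (QuotientGroup.mk c : ↥M ⧸ T) = 1 := (QuotientGroup.eq_one_iff c).mpr e
      show QuotientGroup.mk c ∈ f.range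
      rw [this]; exact one_mem _
    · refine ⟨⟨z, hzR'⟩, ?_⟩
      show (QuotientGroup.mk (⟨z, hRM hzR'⟩ : M) : ↥M ⧸ T) = QuotientGroup.mk c
      rw [QuotientGroup.eq, hT, Subgroup.mem_subgroupOf]
      show z⁻¹ * (c : G) ∈ A
      rw [inv_eq_of_mul_eq_one_right hzz, ← hcom z hzR']
      exact e
  · intro u hu v hv
    induction u using QuotientGroup.induction_on with | H m =>
    obtain ⟨c, hc, hmc⟩ := hsplit m
    rw [QuotientGroup.mk'_apply] at hmc
    rw [hmc] at hu ⊢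
    obtain ⟨a, rfl⟩ := hv
    have hcz : (c : G) * z = z * c := by
      apply hfix c hc z hzR'
      have e' : QuotientGroup.mk' T (c * ⟨z, hRM hzR'⟩ * c⁻¹ * (⟨z, hRM hzR'⟩ : M)⁻¹) = 1 := by
        rw [map_mul, map_mul, map_mul, map_inv, map_inv]
        change QuotientGroup.mk' T c * f ⟨z, hzR'⟩ * (QuotientGroup.mk' T c)⁻¹ * (f ⟨z, hzR'⟩)⁻¹ = 1
        change QuotientGroup.mk' T c * f ⟨z, hzR'⟩ = f ⟨z, hzR'⟩ * QuotientGroup.mk' T c at hu
        rw [hu, mul_inv_cancel_right, mul_inv_cancel]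
      rw [QuotientGroup.mk'_apply, QuotientGroup.eq_one_iff, hT, Subgroup.mem_subgroupOf] at e'
      exact e'
    have hm : (c : G) * a * (c : G)⁻¹ ∈ R := hinR
      (hconj _ (hRQ a.2) c (Subgroup.mem_centralizer_singleton_iff.mpr hcz))
      (Subgroup.mem_centralizer_iff.mp (Subgroup.mul_mem _ (Subgroup.mul_mem _ hc (hRC a a.2))
        (Subgroup.inv_mem _ hc)))
    exact ⟨⟨_, hm⟩, rfl⟩
  · rw [hks]
    exact fun e => hsne (congrArg Subtype.val (hfinj e))

end Cfsg.Agent.S5428
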