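import Cfsg.Statements.S5429
import Cfsg.Agent.H92.QuotInvolution

set_option autoImplicit false
open Cfsg

namespace Cfsg.Agent.S5429

/-- Let z be an involution of the finite group G with centralizer C whose generalized Fitting subgroup Q is extraspecial of width at least 3 (order 2^(2w+1), w ≥ 3); let g be an element of G with g z g⁻¹ in Q but outside the centre Z of Q, and t an involution lying in both Q and g Q g⁻¹ that is not conjugate to z; write P for the centralizer of t in Q and suppose that the elements of C acting trivially by conjugation on P modulo the subgroup generated by t and z are exactly the elements of Q. Then the image of P in the centralizer of t modulo the subgroup generated by t is a large extraspecial 2-subgroup there, and g z g⁻¹ is conjugate to z inside the subgroup generated by P and the centralizer of t in g Q g⁻¹. -/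
theorem result {G : Type*} [Group G] [Finite G] (z : G) (hz : orderOf z = 2) (Q : Subgroup G) (hQC : Q ≤ Subgroup.centralizer ({z} : Set G)) (hF : (Cfsg.generalizedFittingSubgroup ↥(Subgroup.centralizer ({z} : Set G))).map (Subgroup.centralizer ({z} : Set G)).subtype = Q) (hQ : Cfsg.IsExtraspecial 2 ↥Q) (w : ℕ) (hw : 3 ≤ w) (hcard : Nat.card ↥Q = 2 ^ (2 * w + 1)) (g : G) (hgQ : g * z * g⁻¹ ∈ Q) (hgZ : g * z * g⁻¹ ∉ ((Subgroup.center ↥Q).map Q.subtype)) (t : G) (ht : orderOf t = 2) (htQ : t ∈ Q ⊓ (Q).map (MulAut.conj g).toMonoidHom) (htz : ¬ IsConj z t) (P : Subgroup G) (hP : P = Q ⊓ Subgroup.centralizer ({t} : Set G)) (hCP : ∀ c ∈ Subgroup.centralizer ({z} : Set G), (∀ x ∈ P, ∃ y ∈ Subgroup.closure ({t, z} : Set G), c * x * c⁻¹ = x * y) ↔ c ∈ Q) [hn : ((Subgroup.zpowers t).subgroupOf (Subgroup.centralizer ({t} : Set G))).Normal] : Cfsg.IsLargeExtraspecial ((P.subgroupOf (Subgroup.centralizer ({t} : Set G))).map (QuotientGroup.mk' ((Subgroup.zpowers t).subgroupOf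 (Subgroup.centralizer ({t} : Set G))))) ∧ ∃ x ∈ P ⊔ ((Q).map (MulAut.conj g).toMonoidHom ⊓ Subgroup.centralizer ({t} : Set G)), x * (g * z * g⁻¹) * x⁻¹ = z := by
  classical
  haveI : Fact (Nat.Prime 2) := ⟨Nat.prime_two⟩
  obtain ⟨hzZ, hL2, hconj, hL3⟩ := Cfsg.Agent.H92.centralizer_setting hQC hF
  have hzz : z * z = 1 := by rw [← pow_two, ← hz, pow_orderOf_eq_one]
  have htt : t * t = 1 := by rw [← pow_two, ← ht, pow_orderOf_eq_one]
  have hz1 : z ≠ 1 := fun e => by simp [e] at hz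
  have ht1 : t ≠ 1 := fun e => by simp [e] at ht
  have htne : t ≠ z := fun e => htz (by rw [e])
  set s := g * z * g⁻¹ with hsdef
  have hzs : IsConj z s := isConj_iff.mpr ⟨g, rfl⟩
  have hzQ : z ∈ Q := Cfsg.Agent.H92.center_map_le hzZ
  have hsne : s ≠ z := fun e => hgZ (e ▸ hzZ)
  have h128 : 128 ≤ Nat.card ↥Q := by
    rw [hcard, show (128 : ℕ) = 2 ^ 7 by norm_num]
    exact Nat.pow_le_pow_right (by norm_num) (by omega)
  have h : Cfsg.Agent.H92.PairSetting Q z g :=
    ⟨hQ, hL2, hL3, hzZ, hz1, hgQ, hsne, le_trans (by norm_num) h128⟩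
  have hzR := h.z_mem_R
  obtain ⟨htQ', htR⟩ := htQ
  have hts : t * s = s * t := h.R_comm htR
  have htz' : t * z = z * t := h.z_comm htQ'
  have hss : s * s = 1 := h.s_sq
  -- `zs` is conjugate to `z`
  obtain ⟨x₀, hx₀, hx₀s⟩ := h.exists_x
  have hzzs : IsConj z (z * s) := hzs.trans (isConj_iff.mpr ⟨x₀, hx₀s⟩)
  have hnzs : t ≠ z * s := fun e => htz (e ▸ hzzs)
  -- an element of `P` moving `s`
  have hsP : s ∈ P := hP ▸ ⟨hgQ, Subgroup.mem_centralizer_singleton_iff.mpr hts.symm⟩
  obtain ⟨x, hxP, hxs⟩ : ∃ x ∈ P, x * s * x⁻¹ = z * s := by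
    by_contra hcon
    push Not at hcon
    have := Cfsg.Agent.H92.four_of_central_centralizer hQ hzZ hz1 htQ' htt ht1 htne hgQ hts.symm
      (fun q hq hqt => by
        by_contra hne
        exact hcon q (hP ▸ ⟨hq, Subgroup.mem_centralizer_singleton_iff.mpr hqt⟩)
          (Cfsg.Agent.H92.move_of_not_commute hQ hzZ hz1 hq hgQ hne))
    rcases this with e | e | e | e
    · exact h.s_ne_one e
    · exact hsne e
    · exact htz (e ▸ hzs)
    · apply hnzs
      rw [e, ← mul_assoc, hzz, one_mul]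
  -- an element of `C_{Q^g}(t)` moving `z`
  obtain ⟨y, hyR, hyt, hyz⟩ : ∃ y ∈ (Q).map (MulAut.conj g).toMonoidHom,
      y * t = t * y ∧ y * z * y⁻¹ = z * s := by
    set t' := g⁻¹ * t * g with ht'
    set z' := g⁻¹ * z * g with hz'
    have ht'Q : t' ∈ Q := Cfsg.Agent.H92.PairSetting.mem_R.mp htR
    have hz'Q : z' ∈ Q := Cfsg.Agent.H92.PairSetting.mem_R.mp hzR
    have hback : ∀ {a b : G}, g⁻¹ * a * g = b → a = g * b * g⁻¹ := fun {a b} e => by rw [← e]; group
    have hcom : z' * t' = t' * z' := by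
      calc z' * t' = g⁻¹ * (z * t) * g := by rw [hz', ht']; group
        _ = g⁻¹ * (t * z) * g := by rw [htz']
        _ = t' * z' := by rw [hz', ht']; group
    by_contra hcon
    push Not at hcon
    have := Cfsg.Agent.H92.four_of_central_centralizer hQ hzZ hz1 ht'Q
      (by rw [ht', show g⁻¹ * t * g * (g⁻¹ * t * g) = g⁻¹ * (t * t) * g by group, htt]; group)
      (fun e => ht1 (by rw [hback e]; group))
      (fun e => htz (by rw [hback e]; exact hzs)) hz'Q hcom
      (fun q hq hqt => by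
        by_contra hne
        apply hcon (g * q * g⁻¹) (Cfsg.Agent.H92.PairSetting.mem_R.mpr (by simpa [mul_assoc] using hq))
        · calc g * q * g⁻¹ * t = g * (q * t') * g⁻¹ := by rw [ht']; group
            _ = g * (t' * q) * g⁻¹ := by rw [hqt]
            _ = t * (g * q * g⁻¹) := by rw [ht']; group
        · have e := Cfsg.Agent.H92.move_of_not_commute hQ hzZ hz1 hq hz'Q hne
          calc g * q * g⁻¹ * z * (g * q * g⁻¹)⁻¹ = g * (q * z' * q⁻¹) * g⁻¹ := by rw [hz']; group
            _ = s * z := by rw [e, hz', hsdef]; group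
            _ = z * s := h.z_comm hgQ)
    rcases this with e | e | e | e
    · exact hz1 (by rw [hback e]; group)
    · exact hsne (by rw [hsdef, ← hback e])
    · exact htne (by rw [hback e, ht']; group)
    · apply hnzs
      have e' : z = s * t := by rw [hback e, ht', hsdef]; group
      rw [e', mul_assoc, hts, ← mul_assoc, hss, one_mul]
  have hys : y * s = s * y := h.R_comm hyR
  have hk := Cfsg.Agent.H92.exists_swap_of_moves hss hxs hyz hys
  refine ⟨?_, y * x, mul_mem (Subgroup.mem_sup_right ⟨hyR,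
    Subgroup.mem_centralizer_singleton_iff.mpr hyt⟩) (Subgroup.mem_sup_left hxP), hk⟩
  -- the quotient
  set C := Subgroup.centralizer ({t} : Set G) with hC
  set T := (Subgroup.zpowers t).subgroupOf C with hT
  have hmemT : ∀ {a : G} (ha : a ∈ C), QuotientGroup.mk' T ⟨a, ha⟩ = 1 ↔ (a = 1 ∨ a = t) := by
    intro a ha
    rw [QuotientGroup.mk'_apply, QuotientGroup.eq_one_iff, hT, Subgroup.mem_subgroupOf]
    constructor
    · intro hm
      obtain ⟨i, hi⟩ := Subgroup.mem_zpowers_iff.mp hm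
      have hi' : a = t ^ i := hi.symm
      rw [hi']
      rcases Int.even_or_odd i with ⟨j, rfl⟩ | ⟨j, rfl⟩
      · left; rw [← two_mul, zpow_mul, zpow_two, htt, one_zpow]
      · right; rw [zpow_add, zpow_mul, zpow_two, htt, one_zpow, zpow_one, one_mul]
    · rintro (rfl | rfl)
      · exact one_mem _
      · exact Subgroup.mem_zpowers _
  have hPQ : ∀ {a : G}, a ∈ P → a ∈ Q ∧ a * t = t * a := fun {a} ha => by
    rw [hP] at ha
    exact ⟨ha.1, Subgroup.mem_centralizer_singleton_iff.mp ha.2⟩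
  have hinP : ∀ {q : G}, q ∈ Q → q ∈ C → q ∈ P := fun {q} h1 h2 => hP ▸ ⟨h1, h2⟩
  have hPC : P ≤ C := fun a ha => Subgroup.mem_centralizer_singleton_iff.mpr (hPQ ha).2
  have hzP : z ∈ P := hP ▸ ⟨hzQ, Subgroup.mem_centralizer_singleton_iff.mpr htz'.symm⟩
  let f : ↥P →* ↥C ⧸ T := (QuotientGroup.mk' T).comp (Subgroup.inclusion hPC)
  have hrange : (P.subgroupOf C).map (QuotientGroup.mk' T) = f.range := by
    ext u
    constructor
    · rintro ⟨a, ha, rfl⟩; exact ⟨⟨a, ha⟩, rfl⟩
    · rintro ⟨a, rfl⟩; exact ⟨Subgroup.inclusion hPC a, a.2, rfl⟩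
  show Cfsg.IsLargeExtraspecial ((P.subgroupOf C).map (QuotientGroup.mk' T))
  rw [hrange]
  have hfker : ∀ a : P, f a = 1 ↔ ((a : G) = 1 ∨ (a : G) = t) := fun a => hmemT _
  have hff : ∀ a b : P, f a = f b ↔ ((a : G)⁻¹ * b = 1 ∨ (a : G)⁻¹ * b = t) := by
    intro a b
    rw [← inv_mul_eq_one, ← map_inv, ← map_mul, hfker]
    simp
  -- the only conjugate of `z` among `z, zt`
  obtain ⟨a₀, ha₀, ha₀t⟩ : ∃ a ∈ Q, a * t * a⁻¹ = z * t := by
    by_contra hcon
    push Not at hcon
    have : t ∈ (Subgroup.center Q).map Q.subtype := by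
      rw [Cfsg.Agent.H92.center_map_eq_inf]
      refine ⟨htQ', Subgroup.mem_centralizer_iff.mpr fun q hq => ?_⟩
      by_contra hne
      exact hcon q hq (Cfsg.Agent.H92.move_of_not_commute hQ hzZ hz1 hq htQ' hne)
    rcases Cfsg.Agent.H92.eq_one_or_center hQ hzZ hz1 this with e | e
    · exact ht1 e
    · exact htne e
  have hfix : ∀ c : G, (z⁻¹ * (c * z * c⁻¹) = 1 ∨ z⁻¹ * (c * z * c⁻¹) = t) → c * z = z * c := by
    intro c hc
    rcases hc with e | e
    · exact mul_inv_eq_iff_eq_mul.mp (inv_mul_eq_one.mp e).symm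
    · exfalso
      apply htz
      rw [inv_mul_eq_iff_eq_mul] at e
      exact (isConj_iff.mpr ⟨c, e⟩).trans (isConj_iff.mpr ⟨a₀, ha₀t⟩).symm
  set ζ : f.range := ⟨f ⟨z, hzP⟩, _, rfl⟩ with hζ
  have hfz : f ⟨z, hzP⟩ ≠ 1 := fun e => by
    rcases (hfker _).mp e with e | e
    · exact hz1 e
    · exact htne e.symm
  have hzc : ∀ u ∈ f.range, u * f ⟨z, hzP⟩ = f ⟨z, hzP⟩ * u := by
    rintro _ ⟨a, rfl⟩
    rw [← map_mul, ← map_mul, (Subtype.ext (h.z_comm (hPQ a.2).1) : a * ⟨z, hzP⟩ = ⟨z, hzP⟩ * a)]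
  have hPcard : 2 * Nat.card ↥P = Nat.card ↥Q := by
    rw [hP]; exact Cfsg.Agent.H92.two_mul_card_centralizer hQ hzZ hz1 htQ' ht1 htne
  have htP : t ∈ P := hP ▸ ⟨htQ', Subgroup.mem_centralizer_singleton_iff.mpr rfl⟩
  have hrc : 2 * Nat.card f.range = Nat.card ↥P := by
    have hk2 : Nat.card f.ker = 2 := by
      rw [Nat.card_eq_two_iff' (⟨1, one_mem _⟩ : f.ker)]
      refine ⟨⟨⟨t, htP⟩, (hfker _).mpr (Or.inr rfl)⟩,
        fun e => ht1 (congrArg (fun u : f.ker => ((u : P) : G)) e), ?_⟩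
      rintro ⟨b, hb⟩ hb1
      rcases (hfker b).mp hb with e | e
      · exact absurd (Subtype.ext (Subtype.ext e)) hb1
      · exact Subtype.ext (Subtype.ext e)
    rw [← Subgroup.card_mul_index f.ker, hk2, Subgroup.index_ker]
  have h32 : 32 ≤ Nat.card f.range := by omega
  have hextra : Cfsg.IsExtraspecial 2 f.range := by
    have hp : IsPGroup 2 f.range := (hQ.1.1.to_le (show P ≤ Q from fun a ha => (hPQ ha).1)).of_surjective
      f.rangeRestrict f.rangeRestrict_surjective
    refine Cfsg.Agent.H92.isExtraspecial_of_center_two hp (ζ := ζ) (fun e => hfz (congrArg Subtype.val e))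
      (fun u => Subtype.ext (hzc u u.2)) ?_ ?_ ?_ (by omega)
    · rintro ⟨_, a, rfl⟩ hu
      have hc : ∀ q ∈ Q, q * t = t * q → q * (a : G) = (a : G) * q := by
        intro q hq hqt
        have hqP : q ∈ P := hP ▸ ⟨hq, Subgroup.mem_centralizer_singleton_iff.mpr hqt⟩
        have e := congrArg Subtype.val (hu ⟨f ⟨q, hqP⟩, _, rfl⟩)
        simp only [Subgroup.coe_mul, ← map_mul] at e
        have e' := (hff _ _).mp e.symm
        simp only [Subgroup.coe_mul] at e'
        by_contra hne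
        have e2 := Cfsg.Agent.H92.move_of_not_commute hQ hzZ hz1 hq (hPQ a.2).1 hne
        have e3 : ((a : G) * q)⁻¹ * (q * (a : G)) = z := by
          calc ((a : G) * q)⁻¹ * (q * (a : G)) = q⁻¹ * (a : G)⁻¹ * (q * (a : G) * q⁻¹) * q := by group
            _ = q⁻¹ * ((a : G)⁻¹ * (z * (a : G))) * q := by rw [e2]; group
            _ = z := by
              rw [← h.z_comm (hPQ a.2).1, inv_mul_cancel_left, mul_assoc, ← h.z_comm hq,
                inv_mul_cancel_left]
        rw [e3] at e'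
        rcases e' with e' | e'
        · exact hz1 e'
        · exact htne e'.symm
      rcases Cfsg.Agent.H92.four_of_central_centralizer hQ hzZ hz1 htQ' htt ht1 htne (hPQ a.2).1
        (hPQ a.2).2 hc with e | e | e | e
      · exact Or.inl (Subtype.ext ((hfker a).mpr (Or.inl e)))
      · exact Or.inr (Subtype.ext (congrArg f (Subtype.ext e : a = ⟨z, hzP⟩)))
      · exact Or.inl (Subtype.ext ((hfker a).mpr (Or.inr e)))
      · refine Or.inr (Subtype.ext ((hff a ⟨z, hzP⟩).mpr (Or.inr ?_)))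
        rw [e, mul_inv_rev, inv_mul_cancel_right, inv_eq_of_mul_eq_one_right htt]
    · rintro ⟨_, a, rfl⟩ ⟨_, b, rfl⟩
      rcases Cfsg.Agent.H92.comm_of_extraspecial hQ hzZ hz1 (hPQ a.2).1 (hPQ b.2).1 with e | e
      · left
        apply Subtype.ext
        simp only [Subgroup.coe_mul, Subgroup.coe_inv, ← map_mul, ← map_inv]
        exact (hfker _).mpr (Or.inl (by simpa using e))
      · right
        apply Subtype.ext
        simp only [hζ, Subgroup.coe_mul, Subgroup.coe_inv, ← map_mul, ← map_inv]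
        exact congrArg f (Subtype.ext (by simpa using e))
    · rintro ⟨_, a, rfl⟩
      rcases Cfsg.Agent.H92.eq_one_or_center hQ hzZ hz1
        (Cfsg.Agent.H92.sq_mem_center_map hQ (hPQ a.2).1) with e | e
      · left
        apply Subtype.ext
        simp only [Subgroup.coe_mul, ← map_mul]
        exact (hfker _).mpr (Or.inl (by simpa using e))
      · right
        apply Subtype.ext
        simp only [hζ, Subgroup.coe_mul, ← map_mul]
        exact congrArg f (Subtype.ext (by simpa using e))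
  have hkC : (y * x)⁻¹ ∈ C := inv_mem (mul_mem (Subgroup.mem_centralizer_singleton_iff.mpr hyt)
    (hPC hxP))
  have hks : QuotientGroup.mk' T ⟨_, hkC⟩ * f ⟨z, hzP⟩ * (QuotientGroup.mk' T ⟨_, hkC⟩)⁻¹
      = f ⟨s, hsP⟩ := by
    show QuotientGroup.mk' T ⟨_, hkC⟩ * QuotientGroup.mk' T ⟨z, hPC hzP⟩ * _
      = QuotientGroup.mk' T ⟨s, hPC hsP⟩
    rw [← map_inv, ← map_mul, ← map_mul]
    congr 1
    apply Subtype.ext
    show (y * x)⁻¹ * z * (y * x)⁻¹⁻¹ = s
    rw [← hk]; group
  refine Cfsg.Agent.H92.large_of_conj (z := f ⟨z, hzP⟩) hextra h32 ?_ hfz ?_ ?_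
    (g := QuotientGroup.mk' T ⟨_, hkC⟩) (hks ▸ ⟨_, rfl⟩) ?_
  · rw [Cfsg.Agent.H92.center_map_eq_inf]
    exact ⟨⟨_, rfl⟩, Subgroup.mem_centralizer_iff.mpr fun u hu => hzc u hu⟩
  · intro c hc
    induction c using QuotientGroup.induction_on with | H c =>
    have key : ∀ a : P, (a : G)⁻¹ * ((c : G) * a * (c : G)⁻¹) = 1 ∨
        (a : G)⁻¹ * ((c : G) * a * (c : G)⁻¹) = t := by
      intro a
      have e := Subgroup.mem_centralizer_iff.mp hc (f a) ⟨a, rfl⟩
      have e' : QuotientGroup.mk' T ((Subgroup.inclusion hPC a)⁻¹ *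
          (c * Subgroup.inclusion hPC a * c⁻¹)) = 1 := by
        change f a * QuotientGroup.mk' T c = QuotientGroup.mk' T c * f a at e
        rw [map_mul, map_mul, map_mul, map_inv, map_inv]
        change (f a)⁻¹ * (QuotientGroup.mk' T c * f a * (QuotientGroup.mk' T c)⁻¹) = 1
        rw [← e, mul_inv_cancel_right, inv_mul_cancel]
      exact (hmemT _).mp e'
    have hcQ : (c : G) ∈ Q := by
      refine (hCP c (Subgroup.mem_centralizer_singleton_iff.mpr (hfix c (key ⟨z, hzP⟩)))).mp ?_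
      intro a ha
      refine ⟨_, ?_, (mul_inv_cancel_left a _).symm⟩
      rcases key ⟨a, ha⟩ with e | e <;> simp only at e <;> rw [e]
      · exact one_mem _
      · exact Subgroup.subset_closure (by simp)
    have hcP : (c : G) ∈ P := hP ▸ ⟨hcQ, c.2⟩
    exact ⟨⟨c, hcP⟩, rfl⟩
  · intro c hc u hu
    induction c using QuotientGroup.induction_on with | H c =>
    obtain ⟨a, rfl⟩ := hu
    have e' : QuotientGroup.mk' T ((Subgroup.inclusion hPC ⟨z, hzP⟩)⁻¹ *
        (c * Subgroup.inclusion hPC ⟨z, hzP⟩ * c⁻¹)) = 1 := by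
      change QuotientGroup.mk' T c * f ⟨z, hzP⟩ = f ⟨z, hzP⟩ * QuotientGroup.mk' T c at hc
      rw [map_mul, map_mul, map_mul, map_inv, map_inv]
      change (f ⟨z, hzP⟩)⁻¹ * (QuotientGroup.mk' T c * f ⟨z, hzP⟩ * (QuotientGroup.mk' T c)⁻¹) = 1
      rw [hc, mul_inv_cancel_right, inv_mul_cancel]
    have hcz := hfix c ((hmemT _).mp e')
    have hm : (c : G) * a * (c : G)⁻¹ ∈ P := hinP (hconj _ (hPQ a.2).1 c
      (Subgroup.mem_centralizer_singleton_iff.mpr hcz)) (C.mul_mem (C.mul_mem c.2 (hPC a.2)) (C.inv_mem c.2))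
    exact ⟨⟨_, hm⟩, rfl⟩
  · rw [hks]
    intro e
    rcases (hff _ _).mp e with e | e
    · exact hsne (inv_mul_eq_one.mp e)
    · apply hnzs
      rw [← e, inv_eq_of_mul_eq_one_right hss, h.z_comm hgQ]

end Cfsg.Agent.S5429
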