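import Cfsg.Statements.S5430
import Cfsg.Agent.H92.PairLocal

set_option autoImplicit false
open Cfsg

namespace Cfsg.Agent.S5430

/-- Let Q be a large extraspecial 2-subgroup of the finite group G (extraspecial; centralizer equal to its centre; normal in the centralizer of its centre; normalizing no non-trivial subgroup of odd order) with centre generated by z, an involution, of width w ≥ 2 (order 2^(2w+1)); let g be an element outside the centralizer H of z with g z g⁻¹ in Q; write V for the subgroup generated by z and g z g⁻¹, X for the subgroup generated by Q and g Q g⁻¹, R for the subgroup generated by the centralizer of z in g Q g⁻¹ and the centralizer of g z g⁻¹ in Q, and E for the intersection of Q and g Q g⁻¹. Then R is the centralizer of V in X and is the largest normal 2-subgroup of X, and X/R is isomorphic to the symmetric group of degree 3; moreover the normalizer of V is the product of X and the centralizer of V in H, X is normal in it, and modulo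 R it is the direct product of X/R and of the centralizer of V in H modulo R. -/
theorem result {G : Type*} [Group G] [Finite G] (Q : Subgroup G) (hQ : Cfsg.IsLargeExtraspecial Q) (z : G) (hz : ((Subgroup.center ↥Q).map Q.subtype) = Subgroup.zpowers z) (hz2 : orderOf z = 2) (w : ℕ) (hw : 2 ≤ w) (hcard : Nat.card ↥Q = 2 ^ (2 * w + 1)) (g : G) (hgH : g ∉ Subgroup.centralizer ({z} : Set G)) (hgQ : g * z * g⁻¹ ∈ Q) (V X R E : Subgroup G) (hV : V = Subgroup.closure ({z, g * z * g⁻¹} : Set G)) (hX : X = Q ⊔ (Q).map (MulAut.conj g).toMonoidHom) (hR : R = ((Q).map (MulAut.conj g).toMonoidHom ⊓ Subgroup.centralizer ({z} : Set G)) ⊔ (Q ⊓ Subgroup.centralizer ({g * z * g⁻¹} : Set G))) (hE : E = Q ⊓ (Q).map (MulAut.conj g).toMonoidHom) : R = X ⊓ Subgroup.centralizer (V : Set G) ∧ R = (Cfsg.pCore 2 ↥X).map X.subtype ∧ (∃ h : (R.subgroupOf X).Normal, Nonempty (↥X ⧸ R.subgroupOf X ≃* Equiv.Perm (Fin 3))) ∧ Subgroup.normalizer (V : Set G) = X ⊔ (Subgroup.centralizer ({z} : Set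 G) ⊓ Subgroup.centralizer (V : Set G)) ∧ (∀ y ∈ Subgroup.normalizer (V : Set G), ∀ x ∈ X, y * x * y⁻¹ ∈ X) ∧ R ≤ Subgroup.centralizer ({z} : Set G) ⊓ Subgroup.centralizer (V : Set G) ∧ (∀ x ∈ X, ∀ c ∈ Subgroup.centralizer ({z} : Set G) ⊓ Subgroup.centralizer (V : Set G), x * c * x⁻¹ * c⁻¹ ∈ R) ∧ X ⊓ (Subgroup.centralizer ({z} : Set G) ⊓ Subgroup.centralizer (V : Set G)) = R := by
  classical
  obtain ⟨hL1, hL2, hL3, -⟩ := hQ
  have hzmem : z ∈ (Subgroup.center ↥Q).map Q.subtype := by rw [hz]; exact Subgroup.mem_zpowers z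
  have hz1 : z ≠ 1 := fun e => by rw [e, orderOf_one] at hz2; omega
  have hne : g * z * g⁻¹ ≠ z := fun e => hgH
    (Subgroup.mem_centralizer_singleton_iff.mpr (mul_inv_eq_iff_eq_mul.mp e))
  have h32 : 32 ≤ Nat.card ↥Q := by
    rw [hcard, show (32 : ℕ) = 2 ^ 5 by norm_num]
    exact Nat.pow_le_pow_right (by norm_num) (by omega)
  have h : Cfsg.Agent.H92.PairSetting Q z g := ⟨hL1, hL2, hL3, hzmem, hz1, hgQ, hne, h32⟩
  have hR' : R = Cfsg.Agent.H92.PairSetting.core Q z g := hR
  subst hV hX hR'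
  set V := Subgroup.closure ({z, g * z * g⁻¹} : Set G) with hVdef
  set X := Q ⊔ Q.map (MulAut.conj g).toMonoidHom with hXdef
  set C := Subgroup.centralizer (V : Set G) with hCdef
  have hinf : Subgroup.centralizer ({z} : Set G) ⊓ C = C := by
    refine inf_eq_right.mpr fun c hc => ?_
    exact Subgroup.mem_centralizer_singleton_iff.mpr
      (Cfsg.Agent.H92.PairSetting.centralizer_V_iff.mp hc).1
  rw [hinf]
  have hXC : Cfsg.Agent.H92.PairSetting.core Q z g = X ⊓ C := h.X_inf_CV.symm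
  obtain ⟨e, he, hker⟩ := h.exists_equiv_perm
  have hn : ((Cfsg.Agent.H92.PairSetting.core Q z g).subgroupOf X).Normal :=
    hker ▸ MonoidHom.normal_ker e
  have hcoreX : Cfsg.Agent.H92.PairSetting.core Q z g ≤ X :=
    Cfsg.Agent.H92.PairSetting.core_le_X
  have hzV : z ∈ V := Subgroup.subset_closure (by simp)
  have hsV : g * z * g⁻¹ ∈ V := Subgroup.subset_closure (by simp)
  have hXN : X ≤ Subgroup.normalizer (V : Set G) := by
    intro n hn
    have key : ∀ m ∈ X, ∀ v ∈ V, m * v * m⁻¹ ∈ V := by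
      intro m hm v hv
      induction hv using Subgroup.closure_induction with
      | mem v hv =>
        have hv3 : v = z ∨ v = g * z * g⁻¹ ∨ v = z * (g * z * g⁻¹) := by
          rcases hv with e' | e'
          · exact Or.inl e'
          · exact Or.inr (Or.inl e')
        rcases h.conj_three hm ⟨v, hv3⟩ with e' | e' | e' <;> simp only at e' <;> rw [e'] <;>
          first | exact hzV | exact hsV | exact V.mul_mem hzV hsV
      | one => simp
      | mul a b _ _ ha hb => simpa [mul_assoc] using V.mul_mem ha hb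
      | inv a _ ha => simpa [mul_assoc] using V.inv_mem ha
    refine Subgroup.mem_normalizer_iff.mpr fun v => ⟨fun hv => key n hn v hv, fun hv => ?_⟩
    simpa [mul_assoc] using key n⁻¹ (X.inv_mem hn) _ hv
  have hCN : C ≤ Subgroup.normalizer (V : Set G) := by
    intro c hc
    refine Subgroup.mem_normalizer_iff.mpr fun v => ⟨fun hv => ?_, fun hv => ?_⟩
    · rw [← Subgroup.mem_centralizer_iff.mp hc v hv]; simpa using hv
    · have h1 := Subgroup.mem_centralizer_iff.mp hc _ hv
      have h2 : c * v * c⁻¹ = v := by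
        calc c * v * c⁻¹ = c⁻¹ * (c * (c * v * c⁻¹)) := by group
          _ = c⁻¹ * ((c * v * c⁻¹) * c) := by rw [h1]
          _ = v := by group
      rwa [h2] at hv
  have hcomm : ∀ x ∈ X, ∀ c ∈ C, x * c * x⁻¹ * c⁻¹ ∈ Cfsg.Agent.H92.PairSetting.core Q z g :=
    fun x hx c hc => h.commutator_mem_core hx hc
  have hCX : ∀ c ∈ C, ∀ x ∈ X, c * x * c⁻¹ ∈ X := by
    intro c hc x hx
    have := X.mul_mem (X.inv_mem (hcoreX (hcomm x hx c hc))) hx
    have e' : (x * c * x⁻¹ * c⁻¹)⁻¹ * x = c * x * c⁻¹ := by group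
    rwa [e'] at this
  have hNle : Subgroup.normalizer (V : Set G) ≤ X ⊔ C := by
    intro n hn
    have hT : ∀ m ∈ Subgroup.normalizer (V : Set G), ∀ t : Cfsg.Agent.H92.PairSetting.Three z g,
        m * t.1 * m⁻¹ = z ∨ m * t.1 * m⁻¹ = g * z * g⁻¹ ∨ m * t.1 * m⁻¹ = z * (g * z * g⁻¹) := by
      intro m hm t
      have htV : t.1 ∈ V := by
        rcases t.2 with e' | e' | e' <;> rw [e'] <;>
          first | exact hzV | exact hsV | exact V.mul_mem hzV hsV
      rcases h.mem_closure_pair ((Subgroup.mem_normalizer_iff.mp hm t.1).mp htV) with e' | e'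
      · exfalso
        have e1 : t.1 = 1 := conj_eq_one_iff.mp e'
        rcases t.2 with e'' | e'' | e'' <;> rw [e''] at e1
        · exact h.hz1 e1
        · exact h.s_ne_one e1
        · exact h.zs_ne.1 e1
      · exact e'
    let σ : Equiv.Perm (Cfsg.Agent.H92.PairSetting.Three z g) :=
      { toFun := fun t => ⟨_, hT n hn t⟩
        invFun := fun t => ⟨_, hT n⁻¹ (Subgroup.inv_mem _ hn) t⟩
        left_inv := fun t => Subtype.ext (by simp [mul_assoc])
        right_inv := fun t => Subtype.ext (by simp [mul_assoc]) }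
    obtain ⟨m, hm⟩ := h.act_surjective σ
    have hmem : (m : G)⁻¹ * n ∈ C := by
      refine Cfsg.Agent.H92.PairSetting.centralizer_V_iff.mpr ⟨?_, ?_⟩
      · have e' : (m : G) * z * (m : G)⁻¹ = n * z * n⁻¹ :=
          congrArg Subtype.val (Equiv.ext_iff.mp hm ⟨z, Or.inl rfl⟩)
        calc (m : G)⁻¹ * n * z = (m : G)⁻¹ * (n * z * n⁻¹) * n := by group
          _ = _ := by rw [← e']; group
      · have e' : (m : G) * (g * z * g⁻¹) * (m : G)⁻¹ = n * (g * z * g⁻¹) * n⁻¹ :=
          congrArg Subtype.val (Equiv.ext_iff.mp hm ⟨_, Or.inr (Or.inl rfl)⟩)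
        calc (m : G)⁻¹ * n * (g * z * g⁻¹) = (m : G)⁻¹ * (n * (g * z * g⁻¹) * n⁻¹) * n := by group
          _ = _ := by rw [← e']; group
    simpa using (X ⊔ C).mul_mem (Subgroup.mem_sup_left m.2) (Subgroup.mem_sup_right hmem)
  refine ⟨hXC, ?_, ⟨hn, ?_⟩, le_antisymm hNle (sup_le hXN hCN), ?_, h.core_le_CV, hcomm,
    hXC.symm⟩
  · refine le_antisymm ?_ ?_
    · have hle : (Cfsg.Agent.H92.PairSetting.core Q z g).subgroupOf X ≤ Cfsg.pCore 2 ↥X :=
        le_sSup ⟨hn, h.core_isPGroup.comap_subtype⟩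
      intro u hu
      exact ⟨⟨u, hcoreX hu⟩, hle hu, rfl⟩
    · rintro u ⟨v, hv, rfl⟩
      have : Fact (Nat.Prime 2) := ⟨Nat.prime_two⟩
      suffices v ∈ e.ker by rw [hker] at this; exact this
      have hpn : (Cfsg.pCore 2 ↥X).Normal := Cfsg.pCore_normal 2 _
      have hNn : ((Cfsg.pCore 2 ↥X).map e).Normal := hpn.map e he
      have hNp : IsPGroup 2 ((Cfsg.pCore 2 ↥X).map e) :=
        (Cfsg.Agent.H92.isPGroup_pCore 2).map e
      by_contra hne'
      have hσ : e v ∈ (Cfsg.pCore 2 ↥X).map e := ⟨v, hv, rfl⟩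
      have hσ1 : e v ≠ 1 := hne'
      generalize e v = σ at hσ hσ1
      have htwo : ∀ ρ : Equiv.Perm (Fin 3), ρ ∈ (Cfsg.pCore 2 ↥X).map e → ρ ^ 3 = 1 → ρ = 1 := by
        intro ρ hρ h3
        obtain ⟨k, hk⟩ := hNp ⟨ρ, hρ⟩
        have hk' : ρ ^ 2 ^ k = 1 := congrArg Subtype.val hk
        have h1 : orderOf ρ ∣ Nat.gcd (2 ^ k) 3 :=
          Nat.dvd_gcd (orderOf_dvd_of_pow_eq_one hk') (orderOf_dvd_of_pow_eq_one h3)
        rw [Nat.Coprime.pow_left k (by norm_num : Nat.Coprime 2 3), Nat.dvd_one,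
          orderOf_eq_one_iff] at h1
        exact h1
      have hfin : ∀ ρ : Equiv.Perm (Fin 3), ρ ≠ 1 → ρ ^ 3 = 1 ∨
          ∃ τ : Equiv.Perm (Fin 3), (ρ * (τ * ρ * τ⁻¹)) ^ 3 = 1 ∧ ρ * (τ * ρ * τ⁻¹) ≠ 1 := by
        decide +kernel
      rcases hfin σ hσ1 with h3 | ⟨τ, h3, h4⟩
      · exact hσ1 (htwo σ hσ h3)
      · exact h4 (htwo _ (Subgroup.mul_mem _ hσ (hNn.conj_mem σ hσ τ)) h3)
  · exact ⟨(QuotientGroup.quotientMulEquivOfEq hker.symm).trans
      (QuotientGroup.quotientKerEquivOfSurjective e he)⟩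
  · intro y hy x hx
    have hle : X ⊔ C ≤ Subgroup.normalizer (X : Set G) := by
      refine sup_le Subgroup.le_normalizer (fun c hc => ?_)
      refine Subgroup.mem_normalizer_iff.mpr fun x => ⟨hCX c hc x, fun hx => ?_⟩
      simpa [mul_assoc] using hCX c⁻¹ (C.inv_mem hc) _ hx
    exact (Subgroup.mem_normalizer_iff.mp (hle (hNle hy)) x).mp hx

end Cfsg.Agent.S5430
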