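import Cfsg.Statements.S5431
import Cfsg.Agent.H92.PairLocal

set_option autoImplicit false
open Cfsg

namespace Cfsg.Agent.S5431

/-- Let Q be a large extraspecial 2-subgroup of the finite group G (extraspecial; centralizer equal to its centre; normal in the centralizer of its centre; normalizing no non-trivial subgroup of odd order) with centre generated by z, an involution, of width w ≥ 2 (order 2^(2w+1)); let g be an element outside the centralizer H of z with g z g⁻¹ in Q; write V for the subgroup generated by z and g z g⁻¹, X for the subgroup generated by Q and g Q g⁻¹, R for the subgroup generated by the centralizer of z in g Q g⁻¹ and the centralizer of g z g⁻¹ in Q, and E for the intersection of Q and g Q g⁻¹. Then V is the centre of R, E lies in the second centre of R, R is nilpotent of class at most 3, E and R/E are elementary abelian, R/E is the direct product of the images of the centralizer of g z g⁻¹ in Q and of the centralizer of z in g Q g⁻¹ (R is their product and they meet in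 E), and the commutator subgroup of X and E lies in V. -/
theorem result {G : Type*} [Group G] [Finite G] (Q : Subgroup G) (hQ : Cfsg.IsLargeExtraspecial Q) (z : G) (hz : ((Subgroup.center ↥Q).map Q.subtype) = Subgroup.zpowers z) (hz2 : orderOf z = 2) (w : ℕ) (hw : 2 ≤ w) (hcard : Nat.card ↥Q = 2 ^ (2 * w + 1)) (g : G) (hgH : g ∉ Subgroup.centralizer ({z} : Set G)) (hgQ : g * z * g⁻¹ ∈ Q) (V X R E : Subgroup G) (hV : V = Subgroup.closure ({z, g * z * g⁻¹} : Set G)) (hX : X = Q ⊔ (Q).map (MulAut.conj g).toMonoidHom) (hR : R = ((Q).map (MulAut.conj g).toMonoidHom ⊓ Subgroup.centralizer ({z} : Set G)) ⊔ (Q ⊓ Subgroup.centralizer ({g * z * g⁻¹} : Set G))) (hE : E = Q ⊓ (Q).map (MulAut.conj g).toMonoidHom) : (Subgroup.center ↥R).map R.subtype = V ∧ E ≤ (Subgroup.upperCentralSeries ↥R 2).map R.subtype ∧ Subgroup.upperCentralSeries ↥R 3 = ⊤ ∧ Cfsg.IsElementaryAbelian 2 E ∧ (∀ x ∈ R, ∀ y ∈ R, x * y * x⁻¹ * y⁻¹ ∈ E ∧ x ^ 2 ∈ E) ∧ ((Q).map (MulAut.conj g).toMonoidHom ⊓ Subgroup.centralizer ({z} : Set G))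 ⊓ (Q ⊓ Subgroup.centralizer ({g * z * g⁻¹} : Set G)) = E ∧ ⁅X, E⁆ ≤ V := by
  classical
  obtain ⟨hL1, hL2, hL3, -⟩ := hQ
  have hzmem : z ∈ (Subgroup.center ↥Q).map Q.subtype := by rw [hz]; exact Subgroup.mem_zpowers z
  have hz1 : z ≠ 1 := fun e => by rw [e, orderOf_one] at hz2; omega
  have hne : g * z * g⁻¹ ≠ z := fun e => hgH
    (Subgroup.mem_centralizer_singleton_iff.mpr (mul_inv_eq_iff_eq_mul.mp e))
  have h32 : 32 ≤ Nat.card ↥Q := by
    rw [hcard, show (32 : ℕ) = 2 ^ 5 by norm_num]
    exact Nat.pow_le_pow_right (by norm_num) (by omega)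
  have h : Cfsg.Agent.H92.PairSetting Q z g := ⟨hL1, hL2, hL3, hzmem, hz1, hgQ, hne, h32⟩
  have hR' : R = Cfsg.Agent.H92.PairSetting.core Q z g := hR
  subst hV hX hE hR'
  set s := g * z * g⁻¹ with hs
  set V := Subgroup.closure ({z, s} : Set G) with hVdef
  set Qg := Q.map (MulAut.conj g).toMonoidHom with hQg
  set K := Cfsg.Agent.H92.PairSetting.core Q z g with hKdef
  set E := Q ⊓ Qg with hEdef
  have hzV : z ∈ V := Subgroup.subset_closure (by simp)
  have hsV : s ∈ V := Subgroup.subset_closure (by simp)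
  have hVQ : V ≤ Q := h.V_le_Q
  have hVR : V ≤ Qg := h.V_le_R
  have hVE : V ≤ E := le_inf hVQ hVR
  have hEC : E ≤ Subgroup.centralizer (V : Set G) := fun e he =>
    Cfsg.Agent.H92.PairSetting.centralizer_V_iff.mpr
      ⟨h.z_comm (Subgroup.mem_inf.mp he).1, h.R_comm (Subgroup.mem_inf.mp he).2⟩
  have hA : ∀ a : G, a ∈ Q ⊓ Subgroup.centralizer ({s} : Set G) ↔
      a ∈ Q ∧ a ∈ Subgroup.centralizer (V : Set G) := fun a => by rw [h.A_eq]; exact Subgroup.mem_inf
  have hB : ∀ a : G, a ∈ Qg ⊓ Subgroup.centralizer ({z} : Set G) ↔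
      a ∈ Qg ∧ a ∈ Subgroup.centralizer (V : Set G) := fun a => by rw [h.B_eq]; exact Subgroup.mem_inf
  have hAK : Q ⊓ Subgroup.centralizer ({s} : Set G) ≤ K := le_sup_right
  have hBK : Qg ⊓ Subgroup.centralizer ({z} : Set G) ≤ K := le_sup_left
  have hEK : E ≤ K := fun e he => hAK ((hA e).mpr ⟨(Subgroup.mem_inf.mp he).1, hEC he⟩)
  have hKC : K ≤ Subgroup.centralizer (V : Set G) := h.core_le_CV
  have hmeet : (Qg ⊓ Subgroup.centralizer ({z} : Set G)) ⊓ (Q ⊓ Subgroup.centralizer ({s} : Set G))
      = E := by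
    refine le_antisymm (le_inf (inf_le_right.trans inf_le_left) (inf_le_left.trans inf_le_left)) ?_
    exact le_inf (fun e he => (hB e).mpr ⟨(Subgroup.mem_inf.mp he).2, hEC he⟩)
      (fun e he => (hA e).mpr ⟨(Subgroup.mem_inf.mp he).1, hEC he⟩)
  -- commutators with `E`
  have hQE : ∀ q ∈ Q, ∀ e ∈ E, q * e * q⁻¹ * e⁻¹ ∈ V := by
    intro q hq e he
    rcases h.eq_z (Cfsg.Agent.H92.commutator_mem_center_map hL1 hq (Subgroup.mem_inf.mp he).1)
      with e' | e' <;> rw [e']
    · exact V.one_mem
    · exact hzV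
  have hRE : ∀ r ∈ Qg, ∀ e ∈ E, r * e * r⁻¹ * e⁻¹ ∈ V := by
    intro r hr e he
    rcases h.R_commutator hr (Subgroup.mem_inf.mp he).2 with e' | e' <;> rw [e']
    · exact V.one_mem
    · exact hsV
  have hR2 : ∀ r ∈ Qg, r * r = 1 ∨ r * r = s := by
    intro r hr
    have hr' := Cfsg.Agent.H92.PairSetting.mem_R.mp hr
    have e : r * r = g * ((g⁻¹ * r * g) * (g⁻¹ * r * g)) * g⁻¹ := by group
    rcases h.eq_z (Cfsg.Agent.H92.sq_mem_center_map hL1 hr') with e' | e' <;> rw [e'] at e
    · left; rw [e]; group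
    · exact Or.inr e
  have hVconj : ∀ x ∈ Q ⊔ Qg, ∀ v ∈ V, x * v * x⁻¹ ∈ V := by
    intro x hx v hv
    induction hv using Subgroup.closure_induction with
    | mem v hv =>
      have hv3 : v = z ∨ v = g * z * g⁻¹ ∨ v = z * (g * z * g⁻¹) := by
        rcases hv with e' | e'
        · exact Or.inl e'
        · exact Or.inr (Or.inl e')
      rcases h.conj_three hx ⟨v, hv3⟩ with e' | e' | e' <;> simp only at e' <;> rw [e'] <;>
        first | exact hzV | exact hsV | exact V.mul_mem hzV hsV
    | one => simp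
    | mul a b _ _ ha hb => simpa [mul_assoc] using V.mul_mem ha hb
    | inv a _ ha => simpa [mul_assoc] using V.inv_mem ha
  have hEconj : ∀ x ∈ Q ⊔ Qg, ∀ e ∈ E, x * e * x⁻¹ * e⁻¹ ∈ V := by
    intro x hx
    rw [Subgroup.sup_eq_closure] at hx
    induction hx using Subgroup.closure_induction with
    | mem x hx => exact fun e he => hx.elim (fun hq => hQE x hq e he) (fun hr => hRE x hr e he)
    | one => intro e _; simp
    | mul a b ha hb iha ihb =>
      intro e he
      have haX : a ∈ Q ⊔ Qg := by rw [Subgroup.sup_eq_closure]; exact ha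
      have := V.mul_mem (hVconj a haX _ (ihb e he)) (iha e he)
      simpa [mul_assoc] using this
    | inv a ha iha =>
      intro e he
      have haX : a⁻¹ ∈ Q ⊔ Qg := by
        rw [Subgroup.sup_eq_closure]; exact Subgroup.inv_mem _ ha
      have := hVconj a⁻¹ haX _ (V.inv_mem (iha e he))
      simpa [mul_assoc] using this
  have hKX : K ≤ Q ⊔ Qg := Cfsg.Agent.H92.PairSetting.core_le_X
  have hEnorm : ∀ x ∈ Q ⊔ Qg, ∀ e ∈ E, x * e * x⁻¹ ∈ E := fun x hx e he => by
    simpa using E.mul_mem (hVE (hEconj x hx e he)) he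
  -- commutators and squares in `K`
  have hgen : ∀ a, (a ∈ Qg ∧ a ∈ Subgroup.centralizer (V : Set G)) ∨
      (a ∈ Q ∧ a ∈ Subgroup.centralizer (V : Set G)) → ∀ b,
      (b ∈ Qg ∧ b ∈ Subgroup.centralizer (V : Set G)) ∨
      (b ∈ Q ∧ b ∈ Subgroup.centralizer (V : Set G)) → a * b * a⁻¹ * b⁻¹ ∈ E := by
    intro a ha b hb
    rcases ha with ⟨ha, haC⟩ | ⟨ha, haC⟩ <;> rcases hb with ⟨hb, hbC⟩ | ⟨hb, hbC⟩
    · rcases h.R_commutator ha hb with e | e <;> rw [e]
      · exact E.one_mem
      · exact hVE hsV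
    · refine Subgroup.mem_inf.mpr ⟨Q.mul_mem (h.CV_norm haC hb) (Q.inv_mem hb), ?_⟩
      simpa [mul_assoc] using Qg.mul_mem ha (h.CV_normR hbC (Qg.inv_mem ha))
    · refine Subgroup.mem_inf.mpr ⟨?_, Qg.mul_mem (h.CV_normR haC hb) (Qg.inv_mem hb)⟩
      simpa [mul_assoc] using Q.mul_mem ha (h.CV_norm hbC (Q.inv_mem ha))
    · rcases h.eq_z (Cfsg.Agent.H92.commutator_mem_center_map hL1 ha hb) with e | e <;> rw [e]
      · exact E.one_mem
      · exact hVE hzV
  have hKgen : K = Subgroup.closure {a | (a ∈ Qg ∧ a ∈ Subgroup.centralizer (V : Set G)) ∨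
      (a ∈ Q ∧ a ∈ Subgroup.centralizer (V : Set G))} := by
    show (Qg ⊓ Subgroup.centralizer ({z} : Set G)) ⊔ (Q ⊓ Subgroup.centralizer ({s} : Set G)) = _
    rw [Subgroup.sup_eq_closure]
    congr 1
    ext a
    exact or_congr (hB a) (hA a)
  have hcomm1 : ∀ a, (a ∈ Qg ∧ a ∈ Subgroup.centralizer (V : Set G)) ∨
      (a ∈ Q ∧ a ∈ Subgroup.centralizer (V : Set G)) → ∀ y ∈ K, a * y * a⁻¹ * y⁻¹ ∈ E := by
    intro a ha y hy
    rw [hKgen] at hy
    induction hy using Subgroup.closure_induction with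
    | mem b hb => exact hgen a ha b hb
    | one => simp
    | mul b c hb _ ihb ihc =>
      have hbX : b ∈ Q ⊔ Qg := hKX (by rw [hKgen]; exact hb)
      have := E.mul_mem ihb (hEnorm b hbX _ ihc)
      simpa [mul_assoc] using this
    | inv b hb ihb =>
      have hbX : b ∈ Q ⊔ Qg := hKX (by rw [hKgen]; exact hb)
      have := hEnorm b⁻¹ (Subgroup.inv_mem _ hbX) _ (E.inv_mem ihb)
      simpa [mul_assoc] using this
  have hcomm : ∀ x ∈ K, ∀ y ∈ K, x * y * x⁻¹ * y⁻¹ ∈ E := by
    intro x hx y hy
    have hx' := hx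
    rw [hKgen] at hx'
    induction hx' using Subgroup.closure_induction generalizing y with
    | mem a ha => exact hcomm1 a ha y hy
    | one => simp
    | mul a b ha hb iha ihb =>
      have haK : a ∈ K := by rw [hKgen]; exact ha
      have hbK : b ∈ K := by rw [hKgen]; exact hb
      have := E.mul_mem (hEnorm a (hKX haK) _ (ihb hbK y hy)) (iha haK y hy)
      simpa [mul_assoc] using this
    | inv a ha iha =>
      have haK : a ∈ K := by rw [hKgen]; exact ha
      have := hEnorm a⁻¹ (Subgroup.inv_mem _ (hKX haK)) _ (E.inv_mem (iha haK y hy))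
      simpa [mul_assoc] using this
  have hsq : ∀ x ∈ K, x ^ 2 ∈ E := by
    intro x hx
    have hx' := hx
    rw [hKgen] at hx'
    induction hx' using Subgroup.closure_induction with
    | mem a ha =>
      rw [pow_two]
      rcases ha with ⟨ha, -⟩ | ⟨ha, -⟩
      · rcases hR2 a ha with e | e <;> rw [e]
        · exact E.one_mem
        · exact hVE hsV
      · rcases h.eq_z (Cfsg.Agent.H92.sq_mem_center_map hL1 ha) with e | e <;> rw [e]
        · exact E.one_mem
        · exact hVE hzV
    | one => simp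
    | mul a b ha hb iha ihb =>
      have haK : a ∈ K := by rw [hKgen]; exact ha
      have hbK : b ∈ K := by rw [hKgen]; exact hb
      have e : (a * b) ^ 2 = a ^ 2 * (a⁻¹ * b * a⁻¹⁻¹ * b⁻¹) * b ^ 2 := by
        simp only [pow_two]; group
      rw [e]
      exact E.mul_mem (E.mul_mem (iha haK) (hcomm _ (K.inv_mem haK) _ hbK)) (ihb hbK)
    | inv a ha iha =>
      have haK : a ∈ K := by rw [hKgen]; exact ha
      rw [inv_pow]; exact E.inv_mem (iha haK)
  -- `C(Q ∩ C(V)) = V`, hence `Z(K) = V`
  have hcenter : ∀ c : G, (∀ a ∈ Q, a ∈ Subgroup.centralizer (V : Set G) → c * a = a * c) →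
      c ∈ V := by
    intro c hc
    have hVC : ∀ v ∈ V, v ∈ Subgroup.centralizer (V : Set G) := fun v hv => hEC (hVE hv)
    have hcz : c * z = z * c := hc z h.z_mem (hVC z hzV)
    have hcs : c * s = s * c := hc s h.hs (hVC s hsV)
    have hcN := h.centralizer_z_le hcz
    obtain ⟨x, hx, hxs⟩ := h.exists_x
    rw [← hs] at hxs
    have hxz := h.z_comm hx
    have hcos : ∀ q ∈ Q, q ∈ Subgroup.centralizer (V : Set G) ∨
        x⁻¹ * q ∈ Subgroup.centralizer (V : Set G) := by
      intro q hq
      rcases h.conj_cases hq with e | e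
      · exact Or.inl (((hA q).mp (Subgroup.mem_inf.mpr ⟨hq,
          Subgroup.mem_centralizer_singleton_iff.mpr (mul_inv_eq_iff_eq_mul.mp e)⟩)).2)
      · refine Or.inr (((hA _).mp (Subgroup.mem_inf.mpr ⟨Q.mul_mem (Q.inv_mem hx) hq,
          Subgroup.mem_centralizer_singleton_iff.mpr ?_⟩)).2)
        rw [← hs] at e
        calc x⁻¹ * q * s = x⁻¹ * (q * s * q⁻¹) * q := by group
          _ = x⁻¹ * (x * s * x⁻¹) * q := by rw [e, hxs]
          _ = _ := by group
    have hZQ : ∀ d, (∀ a ∈ Q, a ∈ Subgroup.centralizer (V : Set G) → d * a = a * d) →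
        d * x = x * d → d ∈ V := by
      intro d hd hdx
      have : d ∈ Subgroup.centralizer (Q : Set G) := by
        rw [Subgroup.mem_centralizer_iff]
        intro q hq
        rcases hcos q hq with e | e
        · exact (hd q hq e).symm
        · have h1 := hd _ (Q.mul_mem (Q.inv_mem hx) hq) e
          calc q * d = x * (x⁻¹ * q * d) := by group
            _ = (x * d) * (x⁻¹ * q) := by rw [← h1, mul_assoc]
            _ = d * q := by rw [← hdx]; group
      rw [hL2] at this
      rcases h.eq_z this with e | e <;> rw [e]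
      · exact V.one_mem
      · exact hzV
    set y := x⁻¹ * (c * x * c⁻¹) with hy
    have hyQ : y ∈ Q := Q.mul_mem (Q.inv_mem hx) ((Subgroup.mem_normalizer_iff.mp hcN x).mp hx)
    have hyA : ∀ a ∈ Q, a ∈ Subgroup.centralizer (V : Set G) → y * a = a * y := by
      intro a ha haC
      have hb : x⁻¹⁻¹ * a * x⁻¹ ∈ Subgroup.centralizer (V : Set G) := by
        rw [inv_inv]; exact h.conj_mem_CV (Or.inl hx) haC
      rw [inv_inv] at hb
      have hbQ : x * a * x⁻¹ ∈ Q := Q.mul_mem (Q.mul_mem hx ha) (Q.inv_mem hx)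
      have h1 := hc _ hbQ hb
      have h2 := hc a ha haC
      have : (c * x * c⁻¹) * a * (c * x * c⁻¹)⁻¹ = x * a * x⁻¹ := by
        calc (c * x * c⁻¹) * a * (c * x * c⁻¹)⁻¹ = c * x * (c⁻¹ * (a * c)) * x⁻¹ * c⁻¹ := by group
          _ = c * (x * a * x⁻¹) * c⁻¹ := by rw [← h2]; group
          _ = _ := by rw [h1]; group
      calc y * a = x⁻¹ * ((c * x * c⁻¹) * a * (c * x * c⁻¹)⁻¹) * (c * x * c⁻¹) := by rw [hy]; group
        _ = a * y := by rw [this, hy]; group
    have hx2 : (x * y) * (x * y) = x * x := by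
      rw [hy]
      have hxx : x * x ∈ V := by
        rcases h.eq_z (Cfsg.Agent.H92.sq_mem_center_map hL1 hx) with e | e <;> rw [e]
        · exact V.one_mem
        · exact hzV
      have h1 := hc (x * x) (Q.mul_mem hx hx) (hVC _ hxx)
      calc x * (x⁻¹ * (c * x * c⁻¹)) * (x * (x⁻¹ * (c * x * c⁻¹))) = c * (x * x) * c⁻¹ := by group
        _ = x * x := by rw [h1]; group
    have hyV : y ∈ V := by
      by_cases hyx : y * x = x * y
      · exact hZQ y hyA hyx
      · have e := h.comm_eq hx hyQ (fun e => hyx e.symm)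
        have hys : y * s ∈ V := by
          refine hZQ _ (fun a ha haC => ?_) ?_
          · calc y * s * a = y * (s * a) := mul_assoc _ _ _
              _ = y * (a * s) := by rw [Subgroup.mem_centralizer_iff.mp haC s hsV]
              _ = a * (y * s) := by rw [← mul_assoc, hyA a ha haC, mul_assoc]
          · have : x * (y * s) * x⁻¹ = y * s := by
              calc x * (y * s) * x⁻¹ = (x * y * x⁻¹) * (x * s * x⁻¹) := by group
                _ = (z * y) * (z * s) := by rw [e, hxs]
                _ = z * (y * z) * s := by group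
                _ = z * z * (y * s) := by rw [h.z_comm hyQ]; group
                _ = y * s := by rw [h.z_sq, one_mul]
            conv_lhs => rw [← this]
            group
        simpa [mul_assoc] using V.mul_mem hys (V.inv_mem hsV)
    have hcxc : c * x * c⁻¹ = x * y := by rw [hy]; group
    rcases h.mem_closure_pair hyV with e | e | e | e <;> rw [← hs] at *
    · exact hZQ c hc (by rw [e, mul_one] at hcxc; exact mul_inv_eq_iff_eq_mul.mp hcxc)
    · -- `c s` commutes with `x`
      have hcsx : (c * s) * x = x * (c * s) := by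
        have hsx : s * x = z * (x * s) := by
          calc s * x = z * z * (s * x) := by rw [h.z_sq, one_mul]
            _ = z * (z * s) * x := by group
            _ = z * (x * s * x⁻¹) * x := by rw [hxs]
            _ = _ := by group
        calc c * s * x = c * (z * (x * s)) := by rw [mul_assoc, hsx]
          _ = z * (c * x * c⁻¹) * c * s := by rw [← mul_assoc c z, hcz]; group
          _ = z * (x * z) * c * s := by rw [hcxc, e]
          _ = z * z * (x * (c * s)) := by rw [hxz]; group
          _ = x * (c * s) := by rw [h.z_sq, one_mul]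
      have := hZQ (c * s) (fun a ha haC => by
        calc c * s * a = c * (s * a) := mul_assoc _ _ _
          _ = c * (a * s) := by rw [Subgroup.mem_centralizer_iff.mp haC s hsV]
          _ = a * (c * s) := by rw [← mul_assoc, hc a ha haC, mul_assoc]) hcsx
      simpa [mul_assoc] using V.mul_mem this (V.inv_mem hsV)
    all_goals
      exfalso
      rw [e] at hx2
      have hsx : s * x = z * (x * s) := by
        calc s * x = z * z * (s * x) := by rw [h.z_sq, one_mul]
          _ = z * (z * s) * x := by group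
          _ = z * (x * s * x⁻¹) * x := by rw [hxs]
          _ = _ := by group
      have hss : s * s = 1 := h.s_sq
      have hsz : s * z = z * s := h.z_comm h.hs
      have key : (x * s) * (x * s) = z * (x * x) := by
        calc (x * s) * (x * s) = x * (s * x) * s := by group
          _ = x * z * x * (s * s) := by rw [hsx]; group
          _ = z * (x * x) := by rw [hxz, hss, mul_one, mul_assoc]
      have hzc : ∀ w ∈ Q, z * w = w * z := fun w hw => (h.z_comm hw).symm
    · rw [key] at hx2; exact h.hz1 (mul_eq_right.mp hx2)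
    · have key' : (x * (z * s)) * (x * (z * s)) = z * (x * x) := by
        calc (x * (z * s)) * (x * (z * s)) = x * z * s * (x * z) * s := by group
          _ = z * (x * s) * (z * x) * s := by rw [hxz]; group
          _ = z * (x * s * z) * x * s := by group
          _ = z * (z * (x * s)) * x * s := by rw [← hzc (x * s) (Q.mul_mem hx h.hs)]
          _ = z * z * ((x * s) * (x * s)) := by group
          _ = _ := by rw [key, h.z_sq, one_mul]
      rw [key'] at hx2; exact h.hz1 (mul_eq_right.mp hx2)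
  have hZV : (Subgroup.center ↥K).map K.subtype = V := by
    rw [Cfsg.Agent.H92.center_map_eq_inf]
    refine le_antisymm (fun c hc => ?_) (le_inf (hVE.trans hEK) (fun v hv => ?_))
    · obtain ⟨hcK, hcC⟩ := Subgroup.mem_inf.mp hc
      exact hcenter c fun a ha haC =>
        (Subgroup.mem_centralizer_iff.mp hcC a (hAK ((hA a).mpr ⟨ha, haC⟩))).symm
    · rw [Subgroup.mem_centralizer_iff]
      intro k hk
      exact (Subgroup.mem_centralizer_iff.mp (hKC hk) v hv).symm
  have hucs1 : ∀ x : K, (x : G) ∈ V → x ∈ Subgroup.upperCentralSeries ↥K 1 := by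
    intro x hx
    rw [Subgroup.upperCentralSeries_one]
    rw [← hZV] at hx
    obtain ⟨y, hy, hyx⟩ := hx
    exact (Subtype.ext hyx : y = x) ▸ hy
  have hucs2 : ∀ x : K, (x : G) ∈ E → x ∈ Subgroup.upperCentralSeries ↥K 2 := by
    intro x hx
    rw [Subgroup.mem_upperCentralSeries_succ_iff]
    intro y
    apply hucs1
    show (x : G) * (y : G) * (x : G)⁻¹ * (y : G)⁻¹ ∈ V
    have := V.inv_mem (hEconj y (hKX y.2) x hx)
    simpa [mul_assoc] using this
  refine ⟨hZV, fun e he => ⟨⟨e, hEK he⟩, hucs2 ⟨e, hEK he⟩ he, rfl⟩, ?_, ?_,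
    fun x hx y hy => ⟨hcomm x hx y hy, hsq x hx⟩, hmeet, ?_⟩
  · rw [eq_top_iff]
    intro x _
    rw [Subgroup.mem_upperCentralSeries_succ_iff]
    intro y
    exact hucs2 _ (hcomm x x.2 y y.2)
  · refine ⟨⟨⟨?_⟩⟩, fun a ha => ?_⟩
    · rintro ⟨a, ha⟩ ⟨b, hb⟩
      apply Subtype.ext
      show a * b = b * a
      obtain ⟨haQ, haR⟩ := Subgroup.mem_inf.mp ha
      obtain ⟨hbQ, hbR⟩ := Subgroup.mem_inf.mp hb
      have hc1 := h.eq_z (Cfsg.Agent.H92.commutator_mem_center_map hL1 haQ hbQ)
      have hc : a * b * a⁻¹ * b⁻¹ = 1 := by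
        rcases hc1 with e | e
        · exact e
        · rcases h.R_commutator haR hbR with e' | e'
          · exact e'
          · exact absurd (e'.symm.trans e) h.hne
      rw [mul_inv_eq_one, mul_inv_eq_iff_eq_mul] at hc
      exact hc
    · obtain ⟨haQ, haR⟩ := Subgroup.mem_inf.mp ha
      rw [pow_two]
      rcases h.eq_z (Cfsg.Agent.H92.sq_mem_center_map hL1 haQ) with e | e
      · exact e
      · rcases hR2 a haR with e' | e'
        · exact e'
        · exact absurd (e'.symm.trans e) h.hne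
  · rw [Subgroup.commutator_le]
    intro x hx e he
    exact hEconj x hx e he

end Cfsg.Agent.S5431
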