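import Cfsg.Statements.S5432
import Cfsg.Agent.H92.ExtraForm

set_option autoImplicit false
open Cfsg

namespace Cfsg.Agent.S5432

/-- Let E be an extraspecial 2-group of order 2^(2n+1), n ≥ 1. If E contains an elementary abelian subgroup of order 2^(n+1) (plus type), then its outer automorphism group is isomorphic to the full isometry group of the hyperbolic quadratic form in dimension 2n over the field with two elements; otherwise (minus type) it is isomorphic to the full isometry group of the elliptic quadratic form in dimension 2n over that field. -/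
theorem result {E : Type*} [Group E] [Finite E] (hE : Cfsg.IsExtraspecial 2 E) (n : ℕ) (hn : 1 ≤ n) (hcard : Nat.card E = 2 ^ (2 * n + 1)) : ((∃ A : Subgroup E, Cfsg.IsElementaryAbelian 2 A ∧ Nat.card ↥A = 2 ^ (n + 1)) → Nonempty (Cfsg.Out E ≃* Cfsg.isometryGroup (ZMod 2) (Cfsg.quadFormPlus n (ZMod 2)))) ∧ ((¬ ∃ A : Subgroup E, Cfsg.IsElementaryAbelian 2 A ∧ Nat.card ↥A = 2 ^ (n + 1)) → Nonempty (Cfsg.Out E ≃* Cfsg.isometryGroup (ZMod 2) (Cfsg.quadFormMinus (n - 1) (ZMod 2) 1 1))) := by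
  obtain ⟨m, rfl⟩ : ∃ m, n = m + 1 := ⟨n - 1, by omega⟩
  rcases Cfsg.Agent.H92.ExtraForm.exists_formMap hE (m + 1) hn hcard with ⟨⟨F⟩⟩ | ⟨⟨F⟩⟩
  · refine ⟨fun _ => ?_, fun h => absurd (Cfsg.Agent.H92.ExtraForm.exists_elementary F) h⟩
    obtain ⟨e⟩ := F.nonempty_out_equiv hE
    exact ⟨e.trans (Cfsg.Agent.Orthogonal.toO _).symm⟩
  · refine ⟨fun h => absurd h (Cfsg.Agent.H92.ExtraForm.not_exists_elementary F), fun _ => ?_⟩
    obtain ⟨e⟩ := F.nonempty_out_equiv hE
    exact ⟨e.trans (Cfsg.Agent.Orthogonal.toO _).symm⟩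

end Cfsg.Agent.S5432
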