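import Cfsg.Statements.S5433
import Cfsg.Agent.H92.LargeBasic

set_option autoImplicit false
open Cfsg

namespace Cfsg.Agent.S5433

/-- Let Q be a large extraspecial 2-subgroup of the finite group G (extraspecial; centralizer equal to its centre; normal in the centralizer of its centre; normalizing no non-trivial subgroup of odd order), and L a normal subgroup of G containing Q. Then G is the product of L and the normalizer of Q. -/
theorem result {G : Type*} [Group G] [Finite G] (Q : Subgroup G) (hQ : Cfsg.IsLargeExtraspecial Q) (L : Subgroup G) [L.Normal] (hQL : Q ≤ L) : L ⊔ Subgroup.normalizer (Q : Set G) = ⊤ := by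
  have : Fact (Nat.Prime 2) := ⟨Nat.prime_two⟩
  obtain ⟨hQe, hL2, hL3, -⟩ := hQ
  obtain ⟨S, hQS, hSN⟩ := Cfsg.Agent.H92.exists_sylow_between hQe hL2 hL3
  have hmax : ∀ {V : Subgroup ↥L}, IsPGroup 2 V → (S : Subgroup G).subgroupOf L ≤ V →
      V = (S : Subgroup G).subgroupOf L := by
    intro V hV hle
    obtain ⟨S', hS'⟩ := (hV.map L.subtype).exists_le_sylow
    obtain ⟨g, hg⟩ := MulAction.exists_smul_eq G S' S
    let f : V → (S : Subgroup G).subgroupOf L := fun v =>
      ⟨⟨g * ((v : L) : G) * g⁻¹, (inferInstance : L.Normal).conj_mem _ (v : L).2 g⟩, by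
        rw [Subgroup.mem_subgroupOf, ← hg, Sylow.coe_subgroup_smul,
          Subgroup.mem_pointwise_smul_iff_inv_smul_mem]
        simpa [MulAut.smul_def, mul_assoc] using hS' ⟨v.1, v.2, rfl⟩⟩
    have hf : Function.Injective f := by
      intro a b h
      have := congrArg (fun w : (S : Subgroup G).subgroupOf L => ((w : L) : G)) h
      exact Subtype.ext (Subtype.ext (by simpa [f] using this))
    exact (Subgroup.eq_of_le_of_card_ge hle (Nat.card_le_card_of_injective f hf)).symm
  let P : Sylow 2 ↥L := ⟨(S : Subgroup G).subgroupOf L, S.isPGroup'.comap_subtype, hmax⟩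
  have hP := Sylow.normalizer_sup_eq_top P
  have hmap : (P : Subgroup ↥L).map L.subtype = (S : Subgroup G) ⊓ L := by
    show ((S : Subgroup G).subgroupOf L).map L.subtype = _
    rw [Subgroup.subgroupOf_map_subtype]
  rw [hmap] at hP
  rw [eq_top_iff, ← hP]
  refine sup_le ?_ le_sup_left
  exact le_sup_of_le_right (Cfsg.Agent.H92.normalizer_le_of_between hQe hL2 hL3
    (le_inf hQS hQL) (inf_le_left.trans hSN))

end Cfsg.Agent.S5433
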