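import Cfsg.Statements.S5436
import Cfsg.Agent.Components.Basic
import Cfsg.Agent.H92.Basic
import Cfsg.Agent.H92.LargeBasic
import Cfsg.Agent.PGroups.Basic
import Cfsg.Agent.S5422
import Cfsg.Agent.H92.ExtraIso

set_option autoImplicit false
open Cfsg

namespace Cfsg.Agent.S5436

/-- Let z be an involution of the finite group G with centralizer H whose generalized Fitting subgroup Q is extraspecial of width at least 2 (order 2^(2w+1), w ≥ 2); suppose some conjugate of z other than z lies in Q, H/Q is a non-abelian simple group, H acts irreducibly by conjugation on Q modulo the subgroup generated by z (the only H-invariant subgroups of Q containing z are that subgroup and Q), and Q is not the subgroup generated by the conjugates of z lying in H. Then G is simple. -/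
theorem result {G : Type*} [Group G] [Finite G] (z : G) (hz : orderOf z = 2) (Q : Subgroup (Subgroup.centralizer ({z} : Set G))) [Q.Normal] (hF : Cfsg.generalizedFittingSubgroup ↥(Subgroup.centralizer ({z} : Set G)) = Q) (hQ : Cfsg.IsExtraspecial 2 ↥Q) (w : ℕ) (hw : 2 ≤ w) (hcard : Nat.card ↥Q = 2 ^ (2 * w + 1)) (hnwc : ∃ g : G, (∃ hq : g * z * g⁻¹ ∈ Subgroup.centralizer ({z} : Set G), (⟨g * z * g⁻¹, hq⟩ : Subgroup.centralizer ({z} : Set G)) ∈ Q) ∧ g * z * g⁻¹ ≠ z) (hsimp : IsSimpleGroup (↥(Subgroup.centralizer ({z} : Set G)) ⧸ Q)) (hna : ¬ IsMulCommutative (↥(Subgroup.centralizer ({z} : Set G)) ⧸ Q)) (hirr : ∀ W : Subgroup (Subgroup.centralizer ({z} : Set G)), W.Normal → W ≤ Q → (W = Q ∨ ∀ x ∈ W, (x : G) ∈ Subgroup.zpowers z)) (hwcl : Subgroup.closure {x : Subgroup.centralizer ({z} : Set G) | IsConj z (x : G)} ≠ Q) : IsSimpleGroup G := by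
  classical
  have hzH : z ∈ (Subgroup.centralizer ({z} : Set G)) := Subgroup.mem_centralizer_singleton_iff.mpr rfl
  have hz1 : z ≠ 1 := fun e => by simp [e] at hz
  have hcz : ∀ c : (Subgroup.centralizer ({z} : Set G)), c * ⟨z, hzH⟩ = ⟨z, hzH⟩ * c := fun c =>
    Subtype.ext (Subgroup.mem_centralizer_singleton_iff.mp c.2)
  have hCH : Subgroup.centralizer (Q : Set (Subgroup.centralizer ({z} : Set G))) ≤ Q := by
    simpa [hF] using Cfsg.Agent.Components.centralizer_genFitting_le (G := ↥(Subgroup.centralizer ({z} : Set G)))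
  have hzQ : (⟨z, hzH⟩ : (Subgroup.centralizer ({z} : Set G))) ∈ Q :=
    hCH (Subgroup.mem_centralizer_iff.mpr fun c _ => hcz c)
  -- the subgroup `Q` inside `G`
  set P : Subgroup G := Q.map (Subgroup.centralizer ({z} : Set G)).subtype with hPdef
  have hmemP : ∀ {x : G}, x ∈ P → x ∈ (Subgroup.centralizer ({z} : Set G)) := fun {x} hx => Subgroup.map_subtype_le Q hx
  have hzP : z ∈ P := ⟨_, hzQ, rfl⟩
  let e : Q ≃* P := Q.equivMapOfInjective (Subgroup.centralizer ({z} : Set G)).subtype (Subgroup.centralizer ({z} : Set G)).subtype_injective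
  have hPe : Cfsg.IsExtraspecial 2 P := Cfsg.Agent.H92.isExtraspecial_of_mulEquiv e hQ
  have hPcard : Nat.card P = 2 ^ (2 * w + 1) := by rw [← Nat.card_congr e.toEquiv, hcard]
  set Z := (Subgroup.center P).map P.subtype with hZdef
  have hzZ : z ∈ Z := by
    rw [hZdef, Cfsg.Agent.H92.center_map_eq_inf]
    exact ⟨hzP, Subgroup.mem_centralizer_iff.mpr fun q hq =>
      Subgroup.mem_centralizer_singleton_iff.mp (hmemP hq)⟩
  have hZ2 : ∀ {x : G}, x ∈ Z → x = 1 ∨ x = z := by
    intro x hx
    by_cases h : x = 1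
    · exact Or.inl h
    · exact Or.inr (Cfsg.Agent.H92.eq_of_mem_of_card_two (Cfsg.Agent.H92.card_center_map hPe)
        hx h hzZ hz1)
  have hL2 : Subgroup.centralizer (P : Set G) = Z := by
    refine le_antisymm (fun c hc => ?_) Cfsg.Agent.H92.center_map_le_centralizer
    have hcH : c ∈ (Subgroup.centralizer ({z} : Set G)) :=
      Subgroup.mem_centralizer_singleton_iff.mpr (Subgroup.mem_centralizer_iff.mp hc z hzP).symm
    have hcQ : (⟨c, hcH⟩ : (Subgroup.centralizer ({z} : Set G))) ∈ Q := hCH (Subgroup.mem_centralizer_iff.mpr fun q hq =>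
      Subtype.ext (Subgroup.mem_centralizer_iff.mp hc q ⟨q, hq, rfl⟩))
    rw [hZdef, Cfsg.Agent.H92.center_map_eq_inf]
    exact ⟨⟨_, hcQ, rfl⟩, hc⟩
  have hL3 : Subgroup.centralizer (Z : Set G) ≤ Subgroup.normalizer (P : Set G) := by
    intro c hc
    have hcH : c ∈ (Subgroup.centralizer ({z} : Set G)) :=
      Subgroup.mem_centralizer_singleton_iff.mpr (Subgroup.mem_centralizer_iff.mp hc z hzZ).symm
    have key : ∀ d : (Subgroup.centralizer ({z} : Set G)), ∀ x ∈ P, (d : G) * x * (d : G)⁻¹ ∈ P := by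
      rintro d _ ⟨q, hq, rfl⟩
      exact ⟨d * q * d⁻¹, (inferInstance : Q.Normal).conj_mem q hq d, rfl⟩
    refine Subgroup.mem_normalizer_iff.mpr fun x => ⟨fun hx => key ⟨c, hcH⟩ x hx, fun hx => ?_⟩
    simpa [mul_assoc] using key (⟨c, hcH⟩)⁻¹ _ hx
  obtain ⟨g, ⟨hgH, hgQ⟩, hgne⟩ := hnwc
  set s := g * z * g⁻¹ with hsdef
  have hgs : Z.map (MulAut.conj g).toMonoidHom ≤ P := by
    rintro _ ⟨x, hx, rfl⟩
    rcases hZ2 hx with rfl | rfl
    · simp
    · exact ⟨_, hgQ, by simp⟩
  have hgN : g ∉ Subgroup.normalizer (Z : Set G) := by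
    intro h
    rcases hZ2 ((Subgroup.mem_normalizer_iff.mp h z).mp hzZ) with h' | h'
    · exact hz1 (conj_eq_one_iff.mp h')
    · exact hgne h'
  obtain ⟨-, -, hlarge⟩ := Cfsg.Agent.S5422.result P hPe hL2 hL3 w hw hPcard g hgN hgs
  haveI : Fact (Nat.Prime 2) := ⟨Nat.prime_two⟩
  haveI : Nontrivial G := ⟨⟨z, 1, hz1⟩⟩
  refine ⟨fun N hN => ?_⟩
  haveI := hN
  rw [or_iff_not_imp_left]
  intro hNbot
  -- `z` lies in `N`
  have hzN : z ∈ N := by
    obtain ⟨S, hS⟩ := hPe.1.1.exists_le_sylow
    have hne : N.subgroupOf (S : Subgroup G) ≠ ⊥ := by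
      intro h
      apply hNbot
      refine hlarge.2.2.2 N ?_ (fun x _ => by rw [Subgroup.normalizer_eq_top]; trivial)
      rw [Nat.odd_iff, ← Nat.two_dvd_ne_zero]
      intro hd
      obtain ⟨x, hx⟩ := exists_prime_orderOf_dvd_card' (G := N) 2 hd
      have hxp : IsPGroup 2 (Subgroup.zpowers (x : G)) := by
        refine IsPGroup.of_card (n := 1) ?_
        rw [Nat.card_zpowers, Subgroup.orderOf_coe, hx, pow_one]
      obtain ⟨T, hT⟩ := hxp.exists_le_sylow
      obtain ⟨k, rfl⟩ := MulAction.exists_smul_eq G S T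
      have hmem : k⁻¹ * x * k ∈ (S : Subgroup G) := by
        have := hT (Subgroup.mem_zpowers (x : G))
        rw [Sylow.coe_subgroup_smul, Subgroup.mem_pointwise_smul_iff_inv_smul_mem, ← map_inv,
          MulAut.smul_def, MulAut.conj_apply, inv_inv] at this
        exact this
      have hmemN : k⁻¹ * (x : G) * k ∈ N := by
        simpa using hN.conj_mem (x : G) x.2 k⁻¹
      have h1 := congrArg Subtype.val ((Subgroup.eq_bot_iff_forall _).mp h ⟨_, hmem⟩ hmemN)
      simp only [OneMemClass.coe_one] at h1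
      have hx1 : (x : G) = 1 := by
        calc (x : G) = k * (k⁻¹ * x * k) * k⁻¹ := by group
          _ = 1 := by rw [h1]; group
      rw [← Subgroup.orderOf_coe, hx1, orderOf_one] at hx
      omega
    have hne' := Cfsg.Agent.PGroups.inf_center_ne_bot S.isPGroup' (N.subgroupOf (S : Subgroup G)) hne
    rw [Ne, Subgroup.eq_bot_iff_forall] at hne'
    push Not at hne'
    obtain ⟨u, ⟨huN, huc⟩, hu1⟩ := hne'
    have huZ : (u : G) ∈ Z := hL2 ▸ (Subgroup.mem_centralizer_iff.mpr fun q hq =>
      congrArg Subtype.val (Subgroup.mem_center_iff.mp huc ⟨q, hS hq⟩))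
    rcases hZ2 huZ with h | h
    · exact absurd (Subtype.ext h) hu1
    · exact h ▸ huN
  have hclN : ∀ {x : G}, IsConj z x → x ∈ N := by
    intro x hx
    obtain ⟨c, rfl⟩ := isConj_iff.mp hx
    exact hN.conj_mem z hzN c
  -- `Q` lies in `N`
  have hQN : ∀ q ∈ Q, (q : G) ∈ N := by
    rcases hirr (N.comap (Subgroup.centralizer ({z} : Set G)).subtype ⊓ Q) inferInstance inf_le_right with h | h
    · intro q hq
      rw [← h] at hq
      exact hq.1
    · exfalso
      have := h ⟨s, hgH⟩ ⟨hclN (isConj_iff.mpr ⟨g, rfl⟩), hgQ⟩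
      obtain ⟨i, hi⟩ := Subgroup.mem_zpowers_iff.mp this
      rcases Int.even_or_odd i with ⟨m, rfl⟩ | ⟨m, rfl⟩
      · apply hz1
        rw [← two_mul, zpow_mul, zpow_two, ← pow_two, ← hz, pow_orderOf_eq_one, one_zpow] at hi
        exact conj_eq_one_iff.mp hi.symm
      · apply hgne
        rw [zpow_add, zpow_mul, zpow_two, ← pow_two, ← hz, pow_orderOf_eq_one, one_zpow,
          zpow_one, one_mul] at hi
        exact hi.symm
  have hHN : (Subgroup.centralizer ({z} : Set G)) ≤ N := by
    haveI : ((N.comap (Subgroup.centralizer ({z} : Set G)).subtype).map (QuotientGroup.mk' Q)).Normal :=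
      Subgroup.Normal.map inferInstance _ (QuotientGroup.mk'_surjective Q)
    rcases (inferInstance : ((N.comap (Subgroup.centralizer ({z} : Set G)).subtype).map (QuotientGroup.mk' Q)).Normal).eq_bot_or_eq_top
      with h | h
    · exfalso
      have hle : ∀ x : (Subgroup.centralizer ({z} : Set G)), (x : G) ∈ N → x ∈ Q := by
        intro x hx
        have : QuotientGroup.mk' Q x ∈ (N.comap (Subgroup.centralizer ({z} : Set G)).subtype).map (QuotientGroup.mk' Q) := ⟨x, hx, rfl⟩
        rw [h, Subgroup.mem_bot] at this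
        exact (QuotientGroup.eq_one_iff x).mp this
      apply hwcl
      set W := Subgroup.closure {x : (Subgroup.centralizer ({z} : Set G)) | IsConj z (x : G)} with hW
      have hWQ : W ≤ Q := (Subgroup.closure_le Q).mpr fun x hx => hle x (hclN hx)
      haveI : W.Normal := ⟨fun x hx c => by
        induction hx using Subgroup.closure_induction with
        | mem x hx =>
          apply Subgroup.subset_closure
          exact hx.trans (isConj_iff.mpr ⟨c, rfl⟩)
        | one => simp
        | mul a b _ _ ha hb => simpa [mul_assoc] using mul_mem ha hb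
        | inv a _ ha => simpa [mul_assoc] using inv_mem ha⟩
      rcases hirr W inferInstance hWQ with h' | h'
      · exact h'
      · exfalso
        have := h' ⟨s, hgH⟩ (Subgroup.subset_closure (show IsConj z s from isConj_iff.mpr ⟨g, rfl⟩))
        obtain ⟨i, hi⟩ := Subgroup.mem_zpowers_iff.mp this
        rcases Int.even_or_odd i with ⟨m, rfl⟩ | ⟨m, rfl⟩
        · apply hz1
          rw [← two_mul, zpow_mul, zpow_two, ← pow_two, ← hz, pow_orderOf_eq_one, one_zpow] at hi
          exact conj_eq_one_iff.mp hi.symm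
        · apply hgne
          rw [zpow_add, zpow_mul, zpow_two, ← pow_two, ← hz, pow_orderOf_eq_one, one_zpow,
            zpow_one, one_mul] at hi
          exact hi.symm
    · intro x hx
      have : QuotientGroup.mk' Q ⟨x, hx⟩ ∈ (N.comap (Subgroup.centralizer ({z} : Set G)).subtype).map (QuotientGroup.mk' Q) := by
        rw [h]; trivial
      obtain ⟨y, hy, hyx⟩ := this
      have h2 : y⁻¹ * ⟨x, hx⟩ ∈ Q := QuotientGroup.eq.mp hyx
      have := mul_mem (show (y : G) ∈ N from hy) (hQN _ h2)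
      simpa using this
  -- Frattini
  have hPN : P ≤ N := by rintro _ ⟨q, hq, rfl⟩; exact hQN q hq
  have hPp : IsPGroup 2 (P.subgroupOf N) := hPe.1.1.comap_subtype
  obtain ⟨T, hT⟩ := hPp.exists_le_sylow
  have hfr := Sylow.normalizer_sup_eq_top T
  rw [eq_top_iff, ← hfr]
  refine sup_le (fun c hc => hHN (Subgroup.mem_centralizer_singleton_iff.mpr ?_)) le_rfl
  -- `z` is the only involution of the centre of `T`
  haveI : Nontrivial T := by
    refine ⟨⟨⟨⟨z, hPN hzP⟩, hT hzP⟩, 1, fun h => hz1 ?_⟩⟩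
    exact congrArg (fun u : T => ((u : N) : G)) h
  have huniq : ∀ u : T, u ∈ Subgroup.center T → ((u : N) : G) = 1 ∨ ((u : N) : G) = z := by
    intro u hu
    apply hZ2
    rw [← hL2]
    refine Subgroup.mem_centralizer_iff.mpr fun q hq => ?_
    have := Subgroup.mem_center_iff.mp hu ⟨⟨q, hPN hq⟩, hT hq⟩
    exact congrArg (fun u : T => ((u : N) : G)) this
  haveI := T.isPGroup'.center_nontrivial
  obtain ⟨u, hu⟩ := exists_ne (1 : Subgroup.center T)
  have huz : (((u : T) : N) : G) = z := by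
    rcases huniq u u.2 with h | h
    · exact absurd (Subtype.ext (Subtype.ext (Subtype.ext h))) hu
    · exact h
  set T' := (T : Subgroup N).map N.subtype with hT'
  have hzc : ∀ y ∈ T', y * z = z * y := by
    rintro _ ⟨y, hy, rfl⟩
    rw [← huz]
    exact congrArg (fun u : T => ((u : N) : G)) (Subgroup.mem_center_iff.mp u.2 ⟨y, hy⟩)
  have hc' := Subgroup.mem_normalizer_iff.mp hc
  have hzT' : z ∈ T' := ⟨_, hT (show (⟨z, hPN hzP⟩ : N) ∈ P.subgroupOf N from hzP), rfl⟩
  obtain ⟨v, hv, hvc⟩ := (hc' z).mp hzT'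
  have hvcen : (⟨v, hv⟩ : (T : Subgroup N)) ∈ Subgroup.center (T : Subgroup N) := by
    rw [Subgroup.mem_center_iff]
    intro y
    apply Subtype.ext; apply Subtype.ext
    show ((y : N) : G) * (v : G) = (v : G) * ((y : N) : G)
    simp only [Subgroup.coe_subtype] at hvc
    rw [hvc]
    have hy' : c⁻¹ * ((y : N) : G) * c ∈ T' :=
      (hc' _).mpr (by rw [show c * (c⁻¹ * ((y : N) : G) * c) * c⁻¹ = ((y : N) : G) by group]; exact ⟨(y : N), y.2, rfl⟩)
    calc ((y : N) : G) * (c * z * c⁻¹) = c * (c⁻¹ * (y : N) * c * z) * c⁻¹ := by group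
      _ = c * (z * (c⁻¹ * (y : N) * c)) * c⁻¹ := by rw [hzc _ hy']
      _ = _ := by group
  simp only [Subgroup.coe_subtype] at hvc
  rcases huniq _ hvcen with h | h <;> simp only [hvc] at h
  · exact absurd (conj_eq_one_iff.mp h) hz1
  · exact mul_inv_eq_iff_eq_mul.mp h

end Cfsg.Agent.S5436
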