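import Cfsg.Statements.S5437
import Cfsg.Agent.H92.Basic

set_option autoImplicit false
open Cfsg

namespace Cfsg.Agent.S5437

/-- Let I be a set of involutions of the finite group G closed under conjugation, and H a subgroup of G. The following are equivalent: (1) for every member x of I lying in H, the conjugates of x lying in H form a single H-class and the centralizer of x lies in H; (2) for every g outside H, no member of I lies in both H and g H g⁻¹; (3) every member of I lying in H fixes exactly one coset in the action of G on the cosets of H. -/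
theorem result {G : Type*} [Group G] [Finite G] (I : Set G) (hI : ∀ x ∈ I, orderOf x = 2) (hIc : ∀ g : G, ∀ x ∈ I, g * x * g⁻¹ ∈ I) (H : Subgroup G) : ((∀ x ∈ I, x ∈ H → (∀ g : G, g * x * g⁻¹ ∈ H → ∃ h ∈ H, h * x * h⁻¹ = g * x * g⁻¹) ∧ Subgroup.centralizer ({x} : Set G) ≤ H) ↔ (∀ g : G, g ∉ H → ∀ x ∈ I, ¬ (x ∈ H ∧ x ∈ (H : Subgroup G).map (MulAut.conj g).toMonoidHom))) ∧ ((∀ g : G, g ∉ H → ∀ x ∈ I, ¬ (x ∈ H ∧ x ∈ (H : Subgroup G).map (MulAut.conj g).toMonoidHom)) ↔ ∀ x ∈ I, x ∈ H → ∃! c : G ⧸ H, x • c = c) := by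
  have key : ∀ (x : G) (g : G), (g : G ⧸ H) = x • (g : G ⧸ H) ↔ g⁻¹ * x * g ∈ H := by
    intro x g
    rw [MulAction.Quotient.smul_coe, QuotientGroup.eq, smul_eq_mul, ← mul_assoc]
  have memmap : ∀ (g x : G), x ∈ H.map (MulAut.conj g).toMonoidHom ↔ g⁻¹ * x * g ∈ H := by
    intro g x
    rw [Subgroup.mem_map_equiv]
    simp [mul_assoc]
  constructor
  · constructor
    · intro h g hg x hxI hx
      obtain ⟨hxH, hxg⟩ := hx
      rw [memmap] at hxg
      obtain ⟨hcf, hc⟩ := h x hxI hxH
      obtain ⟨k, hk, hkx⟩ := hcf g⁻¹ (by simpa using hxg)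
      apply hg
      have : g * k ∈ Subgroup.centralizer ({x} : Set G) := by
        rw [Subgroup.mem_centralizer_singleton_iff]
        calc g * k * x = g * (k * x * k⁻¹) * k := by group
          _ = g * (g⁻¹ * x * g⁻¹⁻¹) * k := by rw [hkx]
          _ = x * (g * k) := by group
      simpa using H.mul_mem (hc this) (H.inv_mem hk)
    · intro h x hxI hxH
      refine ⟨fun g hg => ⟨g, ?_, rfl⟩, fun c hc => ?_⟩
      · by_contra hgH
        exact h g⁻¹ (fun h' => hgH (by simpa using H.inv_mem h')) x hxI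
          ⟨hxH, (memmap _ _).mpr (by simpa using hg)⟩
      · by_contra hcH
        rw [Subgroup.mem_centralizer_singleton_iff] at hc
        refine h c hcH x hxI ⟨hxH, (memmap _ _).mpr ?_⟩
        have : c⁻¹ * x * c = x := by rw [mul_assoc, ← hc]; group
        rwa [this]
  · constructor
    · intro h x hxI hxH
      refine ⟨((1 : G) : G ⧸ H), ((key x 1).mpr (by simpa using hxH)).symm, ?_⟩
      intro c hc
      obtain ⟨g, rfl⟩ := QuotientGroup.mk_surjective c
      have hg := (key x g).mp hc.symm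
      rw [QuotientGroup.eq, mul_one, H.inv_mem_iff]
      by_contra hgH
      exact h g hgH x hxI ⟨hxH, (memmap _ _).mpr hg⟩
    · intro h g hg x hxI hx
      obtain ⟨hxH, hxg⟩ := hx
      rw [memmap] at hxg
      obtain ⟨c, -, hu⟩ := h x hxI hxH
      have h1 := hu (g : G ⧸ H) ((key x g).mpr hxg).symm
      have h2 := hu ((1 : G) : G ⧸ H) ((key x 1).mpr (by simpa using hxH)).symm
      have h3 := h1.trans h2.symm
      rw [QuotientGroup.eq, mul_one, H.inv_mem_iff] at h3
      exact hg h3

end Cfsg.Agent.S5437
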