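import Cfsg.Statements.S5438
-- import your own Cfsg.Agent.* helpers here

set_option autoImplicit false
open Cfsg

namespace Cfsg.Agent.S5438

/-- Let z be a 2-central involution of the finite group G (an involution central in some Sylow 2-subgroup) and H a subgroup containing z such that the coset H is the only coset of H fixed by z (in the action of G on the cosets of H). Then H has odd index in G, and for every 2-element x of H the conjugates of x lying in H form a single H-class. -/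
theorem result {G : Type*} [Group G] [Finite G] (z : G) (hz : Cfsg.IsTwoCentralInvolution z) (H : Subgroup G) (hzH : z ∈ H) (hfix : ∀ g : G, g⁻¹ * z * g ∈ H → g ∈ H) : Odd H.index ∧ ∀ x ∈ H, (∃ k : ℕ, orderOf x = 2 ^ k) → ∀ g : G, g * x * g⁻¹ ∈ H → ∃ h ∈ H, h * x * h⁻¹ = g * x * g⁻¹ := by
  haveI : Fact (Nat.Prime 2) := ⟨Nat.prime_two⟩
  obtain ⟨hz2, P, hzP, hPz⟩ := hz
  have hfixed : ∀ c : G ⧸ H, z • c = c → c = ((1 : G) : G ⧸ H) := by
    intro c hc
    obtain ⟨g, rfl⟩ := QuotientGroup.mk_surjective c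
    rw [MulAction.Quotient.smul_coe, eq_comm, QuotientGroup.eq, smul_eq_mul, ← mul_assoc] at hc
    rw [QuotientGroup.eq, mul_one, H.inv_mem_iff]
    exact hfix g hc
  have hPH : (P : Subgroup G) ≤ H := by
    intro p hp
    apply hfix p
    rwa [mul_assoc, ← hPz p hp, inv_mul_cancel_left]
  have hodd : Odd H.index := by
    rw [← Nat.not_even_iff_odd, even_iff_two_dvd]
    intro h
    exact P.not_dvd_index' (Subgroup.index_ne_zero_of_finite)
      (h.trans (Subgroup.index_dvd_of_le hPH))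
  refine ⟨hodd, ?_⟩
  have twoLeH : ∀ S : Subgroup G, IsPGroup 2 S → z ∈ S → S ≤ H := by
    intro S hS hzS
    obtain ⟨c, hc⟩ := hS.nonempty_fixed_point_of_prime_not_dvd_card (G ⧸ H)
      (by rw [← even_iff_two_dvd, Nat.not_even_iff_odd]; exact hodd)
    have hc1 := hfixed c (hc ⟨z, hzS⟩)
    intro s hs
    have h1 := hc ⟨s, hs⟩
    rw [hc1] at h1
    have h2 : (s : G) • ((1 : G) : G ⧸ H) = ((1 : G) : G ⧸ H) := h1
    rw [MulAction.Quotient.smul_coe, QuotientGroup.eq, smul_eq_mul, mul_one, mul_one,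
      H.inv_mem_iff] at h2
    exact h2
  have reduced : ∀ x ∈ (P : Subgroup G), ∀ g : G, g * x * g⁻¹ ∈ (P : Subgroup G) →
      ∃ h ∈ H, h * x * h⁻¹ = g * x * g⁻¹ := by
    intro x hx g hgx
    set C := Subgroup.centralizer ({x} : Set G) with hC
    have hzC : z ∈ C := Subgroup.mem_centralizer_singleton_iff.mpr (hPz x hx).symm
    have hz'C : g⁻¹ * z * g ∈ C := by
      apply Subgroup.mem_centralizer_singleton_iff.mpr
      calc g⁻¹ * z * g * x = g⁻¹ * (z * (g * x * g⁻¹)) * g := by group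
        _ = g⁻¹ * (g * x * g⁻¹ * z) * g := by rw [hPz _ hgx]
        _ = x * (g⁻¹ * z * g) := by group
    have h2pow : ∀ y : C, (orderOf (y : G) = 2) → IsPGroup 2 (Subgroup.zpowers y) := by
      intro y hy
      refine IsPGroup.of_card (n := 1) ?_
      rw [Nat.card_zpowers, ← Subgroup.orderOf_coe, hy, pow_one]
    obtain ⟨S, hS⟩ := (h2pow ⟨z, hzC⟩ hz2).exists_le_sylow
    have hord : orderOf (g⁻¹ * z * g) = 2 := by
      rw [← hz2]
      simpa using (MulAut.conj g⁻¹).orderOf_eq z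
    obtain ⟨S', hS'⟩ := (h2pow ⟨g⁻¹ * z * g, hz'C⟩ hord).exists_le_sylow
    obtain ⟨c, hc⟩ := MulAction.exists_smul_eq C S' S
    have hzS : z ∈ (S : Subgroup C).map C.subtype :=
      ⟨⟨z, hzC⟩, hS (Subgroup.mem_zpowers _), rfl⟩
    have hSH := twoLeH _ (S.isPGroup'.map C.subtype) hzS
    have hconj : (c : G) * (g⁻¹ * z * g) * (c : G)⁻¹ ∈ H := by
      apply hSH
      refine ⟨c * ⟨g⁻¹ * z * g, hz'C⟩ * c⁻¹, ?_, rfl⟩
      rw [← hc]
      rw [SetLike.mem_coe, Sylow.coe_subgroup_smul,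
        Subgroup.mem_pointwise_smul_iff_inv_smul_mem]
      simpa [MulAut.smul_def, mul_assoc] using hS' (Subgroup.mem_zpowers _)
    refine ⟨g * (c : G)⁻¹, hfix _ (by simpa [mul_assoc] using hconj), ?_⟩
    have hcx : (c : G) * x = x * c := Subgroup.mem_centralizer_singleton_iff.mp c.2
    calc g * (c : G)⁻¹ * x * (g * (c : G)⁻¹)⁻¹ = g * ((c : G)⁻¹ * (x * c)) * g⁻¹ := by group
      _ = g * ((c : G)⁻¹ * ((c : G) * x)) * g⁻¹ := by rw [hcx]
      _ = g * x * g⁻¹ := by group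
  have intoP : ∀ x ∈ H, (∃ k : ℕ, orderOf x = 2 ^ k) → ∃ h ∈ H, h * x * h⁻¹ ∈ (P : Subgroup G) := by
    intro x hx hk
    obtain ⟨k, hk⟩ := hk
    have hxp : IsPGroup 2 (Subgroup.zpowers (⟨x, hx⟩ : H)) := by
      refine IsPGroup.of_card (n := k) ?_
      rw [Nat.card_zpowers, ← Subgroup.orderOf_coe, hk]
    obtain ⟨S, hS⟩ := hxp.exists_le_sylow
    obtain ⟨c, hc⟩ := MulAction.exists_smul_eq H S (P.subtype hPH)
    refine ⟨c, c.2, ?_⟩
    have : c * ⟨x, hx⟩ * c⁻¹ ∈ (P.subtype hPH : Subgroup H) := by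
      rw [← hc, Sylow.coe_subgroup_smul, Subgroup.mem_pointwise_smul_iff_inv_smul_mem]
      simpa [MulAut.smul_def, mul_assoc] using hS (Subgroup.mem_zpowers _)
    simpa [Subgroup.mem_subgroupOf] using this
  intro x hx hk g hgx
  obtain ⟨a, ha, hax⟩ := intoP x hx hk
  have hk' : ∃ k : ℕ, orderOf (g * x * g⁻¹) = 2 ^ k := by
    obtain ⟨k, hk⟩ := hk
    exact ⟨k, by rw [← hk]; simpa using (MulAut.conj g).orderOf_eq x⟩
  obtain ⟨b, hb, hbx⟩ := intoP _ hgx hk'
  obtain ⟨h, hh, he⟩ := reduced _ hax (b * g * a⁻¹) (by simpa [mul_assoc] using hbx)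
  refine ⟨b⁻¹ * h * a, H.mul_mem (H.mul_mem (H.inv_mem hb) hh) ha, ?_⟩
  calc b⁻¹ * h * a * x * (b⁻¹ * h * a)⁻¹ = b⁻¹ * (h * (a * x * a⁻¹) * h⁻¹) * b := by group
    _ = g * x * g⁻¹ := by rw [he]; group

end Cfsg.Agent.S5438
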