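import Cfsg.Statements.S5439
-- import your own Cfsg.Agent.* helpers here

set_option autoImplicit false
open Cfsg

namespace Cfsg.Agent.S5439

/-- Let I and J be two different conjugacy classes of involutions of the finite group G and H a subgroup such that every member of I ∪ J fixes exactly one coset in the action on the cosets of H, and such that for every a in I ∩ H and every b in (I ∪ J) ∩ H different from a and commuting with it, the centralizer of a b lies in H. Then H = G. -/
theorem result {G : Type*} [Group G] [Finite G] (I J : Set G) (a₀ b₀ : G) (ha₀ : orderOf a₀ = 2) (hb₀ : orderOf b₀ = 2) (hI : I = {x | IsConj a₀ x}) (hJ : J = {x | IsConj b₀ x}) (hIJ : I ≠ J) (H : Subgroup G) (hfix : ∀ x ∈ I ∪ J, ∃! c : G ⧸ H, x • c = c) (hcent : ∀ a ∈ I, a ∈ H → ∀ b ∈ I ∪ J, b ∈ H → a ≠ b → a * b = b * a → Subgroup.centralizer ({a * b} : Set G) ≤ H) : H = ⊤ := by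
  have hIc : ∀ g : G, ∀ x ∈ I ∪ J, g * x * g⁻¹ ∈ I ∪ J := by
    intro g x hx
    subst hI hJ
    rcases hx with hx | hx
    · exact Or.inl (hx.trans (isConj_iff.mpr ⟨g, rfl⟩))
    · exact Or.inr (hx.trans (isConj_iff.mpr ⟨g, rfl⟩))
  have hcentH : ∀ x ∈ I ∪ J, x ∈ H → Subgroup.centralizer ({x} : Set G) ≤ H := by
    intro x hx hxH g hg
    rw [Subgroup.mem_centralizer_singleton_iff] at hg
    obtain ⟨c, -, hu⟩ := hfix x hx
    have h1 := hu ((1 : G) : G ⧸ H) (by
      beta_reduce
      rw [MulAction.Quotient.smul_coe, eq_comm, QuotientGroup.eq]; simpa using hxH)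
    have h2 := hu (g : G ⧸ H) (by
      beta_reduce
      rw [MulAction.Quotient.smul_coe, eq_comm, QuotientGroup.eq, smul_eq_mul, ← mul_assoc,
        mul_assoc g⁻¹, ← hg]
      simpa using hxH)
    have h3 := h2.trans h1.symm
    rwa [QuotientGroup.eq, mul_one, H.inv_mem_iff] at h3
  have horder : ∀ x ∈ I ∪ J, x * x = 1 := by
    intro x hx
    subst hI hJ
    have ha : a₀ * a₀ = 1 := by rw [← pow_two, ← ha₀, pow_orderOf_eq_one]
    have hb : b₀ * b₀ = 1 := by rw [← pow_two, ← hb₀, pow_orderOf_eq_one]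
    rcases hx with hx | hx <;> obtain ⟨g, rfl⟩ := isConj_iff.mp hx
    · calc g * a₀ * g⁻¹ * (g * a₀ * g⁻¹) = g * (a₀ * a₀) * g⁻¹ := by group
        _ = 1 := by rw [ha]; group
    · calc g * b₀ * g⁻¹ * (g * b₀ * g⁻¹) = g * (b₀ * b₀) * g⁻¹ := by group
        _ = 1 := by rw [hb]; group
  have hJH : ∀ x ∈ I, x ∈ H → ∀ y ∈ J, y ∈ H := by
    intro x hxI hxH y hyJ
    have hx1 := horder x (Or.inl hxI)
    have hy1 := horder y (Or.inr hyJ)
    have hxi : x⁻¹ = x := inv_eq_of_mul_eq_one_left hx1
    have hyi : y⁻¹ = y := inv_eq_of_mul_eq_one_left hy1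
    have hpos := orderOf_pos (x * y)
    rcases Nat.even_or_odd' (orderOf (x * y)) with ⟨m, hm | hm⟩
    · set u := (x * y) ^ m with hu
      have hu2 : u * u = 1 := by rw [hu, ← pow_add, ← two_mul, ← hm, pow_orderOf_eq_one]
      have hu1 : u ≠ 1 := pow_ne_one_of_lt_orderOf (by omega) (by omega)
      have hui : u⁻¹ = u := inv_eq_of_mul_eq_one_left hu2
      have hxu : x * u * x⁻¹ = u := by
        rw [hu, ← conj_pow]
        have : x * (x * y) * x⁻¹ = (x * y)⁻¹ := by
          simp [hxi, hyi, ← mul_assoc, hx1]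
        rw [this, inv_pow]; exact hui
      have hxu' : x * u = u * x := by
        rw [mul_inv_eq_iff_eq_mul] at hxu; exact hxu
      have hyu : y * u = u * y := by
        have h1 : (x * y) * u = u * (x * y) := ((Commute.refl (x * y)).pow_right m).eq
        calc y * u = x * (x * y * u) := by simp [← mul_assoc, hx1]
          _ = x * u * (x * y) := by rw [h1, mul_assoc]
          _ = u * (x * (x * y)) := by rw [hxu', mul_assoc]
          _ = u * y := by simp [← mul_assoc, hx1]
      have huH : u ∈ H := hcentH x (Or.inl hxI) hxH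
        (Subgroup.mem_centralizer_singleton_iff.mpr hxu'.symm)
      have hb : x * u ∈ I ∪ J := by
        obtain ⟨k, hk | hk⟩ := Nat.even_or_odd' m
        · have : x * u = ((x * y) ^ k)⁻¹ * x * (x * y) ^ k := by
            have h2 : x * (x * y) ^ k * x⁻¹ = ((x * y) ^ k)⁻¹ := by
              rw [← conj_pow, ← inv_pow]
              congr 1
              simp [hxi, hyi, ← mul_assoc, hx1]
            rw [hu, hk, two_mul, pow_add, ← h2]
            group
          rw [this]
          simpa using hIc (((x * y) ^ k)⁻¹) x (Or.inl hxI)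
        · have : x * u = ((x * y) ^ k)⁻¹ * y * (x * y) ^ k := by
            have h2 : x * (x * y) ^ k * x⁻¹ = ((x * y) ^ k)⁻¹ := by
              rw [← conj_pow, ← inv_pow]
              congr 1
              simp [hxi, hyi, ← mul_assoc, hx1]
            have h3 : x * (x * y) = y := by simp [← mul_assoc, hx1]
            rw [← h2, mul_assoc _ y, hu, hk]
            conv_rhs => enter [2, 1]; rw [← h3]
            have e : (x * y) ^ (2 * k + 1) = (x * y) ^ k * (x * y) * (x * y) ^ k := by
              rw [← pow_succ, ← pow_add]; congr 1; omega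
            rw [e]
            group
          rw [this]
          simpa using hIc (((x * y) ^ k)⁻¹) y (Or.inr hyJ)
      have hne : x ≠ x * u := fun h => hu1 (mul_eq_left.mp h.symm)
      have hcomm : x * (x * u) = (x * u) * x := by rw [hxu']; rw [← mul_assoc, hxu']
      have hC := hcent x hxI hxH _ hb (H.mul_mem hxH huH) hne hcomm
      apply hC
      rw [← mul_assoc, hx1, one_mul, Subgroup.mem_centralizer_singleton_iff]
      exact hyu
    · exfalso
      apply hIJ
      have h2 : x * (x * y) ^ m * x⁻¹ = ((x * y) ^ m)⁻¹ := by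
        rw [← conj_pow, ← inv_pow]
        congr 1
        simp [hxi, hyi, ← mul_assoc, hx1]
      have h3 : (x * y) ^ m * (x * y) * (x * y) ^ m = 1 := by
        rw [← pow_succ, ← pow_add, show m + 1 + m = orderOf (x * y) by omega, pow_orderOf_eq_one]
      have hconj : IsConj x y := by
        rw [isConj_iff]
        refine ⟨((x * y) ^ m), ?_⟩
        have h4 : (x * y) ^ m * x = x * ((x * y) ^ m)⁻¹ := by
          rw [← h2]; simp [hxi, ← mul_assoc, hx1]
        have h5 : x * y = ((x * y) ^ m)⁻¹ * ((x * y) ^ m)⁻¹ := by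
          calc x * y = ((x * y) ^ m)⁻¹ * ((x * y) ^ m * (x * y) * (x * y) ^ m) * ((x * y) ^ m)⁻¹ := by group
            _ = _ := by rw [h3, mul_one]
        rw [h4, mul_assoc, ← h5, ← mul_assoc, hx1, one_mul]
      subst hI hJ
      have hab : IsConj a₀ b₀ := (hxI.trans hconj).trans hyJ.symm
      ext w
      exact ⟨fun h => hab.symm.trans h, fun h => hab.trans h⟩
  obtain ⟨c, hc, -⟩ := hfix a₀ (Or.inl (by rw [hI]; exact IsConj.refl a₀))
  obtain ⟨g, rfl⟩ := QuotientGroup.mk_surjective c
  rw [MulAction.Quotient.smul_coe, eq_comm, QuotientGroup.eq, smul_eq_mul, ← mul_assoc] at hc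
  have hxI : g⁻¹ * a₀ * g ∈ I := by
    rw [hI]; exact isConj_iff.mpr ⟨g⁻¹, by simp⟩
  have hJH' := hJH _ hxI hc
  have hbJ : b₀ ∈ J := by rw [hJ]; exact IsConj.refl b₀
  rw [Subgroup.eq_top_iff']
  intro k
  obtain ⟨c', -, hu⟩ := hfix b₀ (Or.inr hbJ)
  have h1 := hu ((1 : G) : G ⧸ H) (by
    beta_reduce
    rw [MulAction.Quotient.smul_coe, eq_comm, QuotientGroup.eq]; simpa using hJH' b₀ hbJ)
  have h2 := hu (k : G ⧸ H) (by
    beta_reduce
    rw [MulAction.Quotient.smul_coe, eq_comm, QuotientGroup.eq, smul_eq_mul, ← mul_assoc]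
    refine hJH' _ ?_
    rw [hJ]; exact isConj_iff.mpr ⟨k⁻¹, by simp⟩)
  have h3 := h2.trans h1.symm
  rwa [QuotientGroup.eq, mul_one, H.inv_mem_iff] at h3

end Cfsg.Agent.S5439
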