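import Cfsg.Statements.S5440
import Cfsg.Agent.H41.LFi.Core
-- import your own Cfsg.Agent.* helpers here

set_option autoImplicit false
open Cfsg

namespace Cfsg.Agent.S5440

/-- Let G be a finite group of large Fischer type at the involution z: the generalized Fitting subgroup Q of H = C_G(z) is extraspecial of order 2^13, H has normal subgroups Q ≤ H₁ ≤ H₂ with H₁/Q of order 3, H₂/H₁ the projective special unitary group of dimension 4 over the field with nine elements and H₂ of index 2 in H, and some conjugate of z other than z lies in Q. Then H has exactly two orbits, under conjugation, on the involutions of Q other than z. -/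
theorem result {G : Type*} [Group G] [Finite G] (z : G) (Q : Subgroup (Subgroup.centralizer ({z} : Set G))) [Q.Normal] (hF : Cfsg.IsOfLargeFischerTypeAt z Q) : ∃ s t : Subgroup.centralizer ({z} : Set G), s ∈ Q ∧ t ∈ Q ∧ orderOf s = 2 ∧ orderOf t = 2 ∧ (s : G) ≠ z ∧ (t : G) ≠ z ∧ (¬ ∃ h : Subgroup.centralizer ({z} : Set G), h * s * h⁻¹ = t) ∧ ∀ x : Subgroup.centralizer ({z} : Set G), x ∈ Q → orderOf x = 2 → (x : G) ≠ z → (∃ h : Subgroup.centralizer ({z} : Set G), h * s * h⁻¹ = x) ∨ ∃ h : Subgroup.centralizer ({z} : Set G), h * t * h⁻¹ = x := by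
  obtain ⟨S⟩ := Cfsg.Agent.H41.LFi.setup_of Q hF
  set Qm := Q.map (Subgroup.centralizer ({z} : Set G)).subtype with hQm
  have hmem : ∀ x : Subgroup.centralizer ({z} : Set G), (x : G) ∈ Qm ↔ x ∈ Q := fun x =>
    Subgroup.mem_map_iff_mem (Subgroup.subtype_injective _)
  have lift : ∀ a, (a = 2 ∨ a = 3) → ∃ s : Subgroup.centralizer ({z} : Set G), s ∈ Q ∧
      orderOf s = 2 ∧ (s : G) ≠ z ∧ Cfsg.Agent.H41.SUSix.cls (S.π s) = a := by
    intro a ha
    obtain ⟨q, hq, hqv⟩ := S.π_surj (Cfsg.Agent.H41.LFi.rootOf a)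
    have hqz := S.le q hq
    let s : Subgroup.centralizer ({z} : Set G) :=
      ⟨q, Subgroup.mem_centralizer_singleton_iff.2 hqz⟩
    have hc := Cfsg.Agent.H41.LFi.cls_root ha
    rw [← hqv] at hc
    have hnot : S.π q ≠ 0 := fun e => by
      have := ((Cfsg.Agent.H41.SUSix.facts (S.π q)).2.1).2 e
      omega
    have hwt : Cfsg.Agent.H41.LFi.wt (S.π q) = 0 := by
      rcases Cfsg.Agent.H41.LFi.zmod_two_cases (Cfsg.Agent.H41.LFi.wt (S.π q)) with e | e
      · exact e
      · have := (Cfsg.Agent.H41.LFi.cls_one_iff _).2 e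
        omega
    refine ⟨s, (hmem s).1 hq, ?_, fun e => hnot ?_, hc⟩
    · rw [← Subgroup.orderOf_coe]
      refine orderOf_eq_prime ?_ fun e => hnot ((S.π_zero q hq).2 (Or.inl e))
      show q ^ 2 = 1
      rw [pow_two, S.sq q hq, hwt]
      simp [Cfsg.Agent.H92.ExtraForm.zp]
    · exact (S.π_zero q hq).2 (Or.inr e)
  obtain ⟨s, hs, hs2, hsz, hsc⟩ := lift 2 (Or.inl rfl)
  obtain ⟨t, ht, ht2, htz, htc⟩ := lift 3 (Or.inr rfl)
  refine ⟨s, t, hs, ht, hs2, ht2, hsz, htz, ?_, ?_⟩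
  · rintro ⟨h, e⟩
    have hz := Subgroup.mem_centralizer_singleton_iff.1 h.2
    have e' : (h : G) * s * (h : G)⁻¹ = t := congrArg Subtype.val e
    have := S.ρ_cls h hz (S.π s)
    rw [← S.ρ_π h hz _ ((hmem s).2 hs), e', hsc, htc] at this
    omega
  · intro x hx hx2 hxz
    have hxm := (hmem x).2 hx
    have h1 : (x : G) ^ 2 = 1 := by
      rw [← hx2, ← Subgroup.orderOf_coe, pow_orderOf_eq_one]
    have hwt := S.wt_zero_of_sq hxm (by rw [← pow_two, h1])
    have hne : S.π x ≠ 0 := fun e => by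
      rcases (S.π_zero _ hxm).1 e with e' | e'
      · rw [← Subgroup.orderOf_coe, e', orderOf_one] at hx2
        omega
      · exact hxz e'
    obtain ⟨f1, f0, f3⟩ := Cfsg.Agent.H41.SUSix.facts (S.π x)
    have n1 : Cfsg.Agent.H41.SUSix.cls (S.π x) ≠ 1 := fun e => by
      rw [(Cfsg.Agent.H41.LFi.cls_one_iff _).1 e] at hwt
      exact one_ne_zero hwt
    have n0 : Cfsg.Agent.H41.SUSix.cls (S.π x) ≠ 0 := fun e => hne (f0.1 e)
    rcases (show Cfsg.Agent.H41.SUSix.cls (S.π x) = 2 ∨ Cfsg.Agent.H41.SUSix.cls (S.π x) = 3 by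
      omega) with e | e
    · obtain ⟨c, hc, ec⟩ := S.conj_of_cls ((hmem s).2 hs) hxm (hsc.trans e.symm) (Or.inl hsc)
      exact Or.inl ⟨⟨c, Subgroup.mem_centralizer_singleton_iff.2 hc⟩, Subtype.ext ec⟩
    · obtain ⟨c, hc, ec⟩ := S.conj_of_cls ((hmem t).2 ht) hxm (htc.trans e.symm) (Or.inr htc)
      exact Or.inr ⟨⟨c, Subgroup.mem_centralizer_singleton_iff.2 hc⟩, Subtype.ext ec⟩


end Cfsg.Agent.S5440
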