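import Cfsg.Statements.S5442
import Cfsg.Agent.H41.LFi.Stab
-- import your own Cfsg.Agent.* helpers here

set_option autoImplicit false
open Cfsg

namespace Cfsg.Agent.S5442

/-- Let G be a finite group of large Fischer type at the involution z: the generalized Fitting subgroup Q of H = C_G(z) is extraspecial of order 2^13, H has normal subgroups Q ≤ H₁ ≤ H₂ with H₁/Q of order 3, H₂/H₁ the projective special unitary group of dimension 4 over the field with nine elements and H₂ of index 2 in H, and some conjugate of z other than z lies in Q. Let s = g z g⁻¹ be a conjugate of z lying in Q and different from z. Then the intersection of Q and g Q g⁻¹ (as subgroups of G) is elementary abelian of order 2^7; and in H/Q, writing X for the image of the centralizer of s in H and E for the image of the intersection of g Q g⁻¹ with H, E is a normal subgroup of X, elementary abelian of order 32, with X/E isomorphic to the alternating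 group of degree 6. -/
theorem result {G : Type*} [Group G] [Finite G] (z : G) (Q : Subgroup (Subgroup.centralizer ({z} : Set G))) [Q.Normal] (hF : Cfsg.IsOfLargeFischerTypeAt z Q) (s : G) (hsQ : ∃ hsc : s ∈ Subgroup.centralizer ({z} : Set G), (⟨s, hsc⟩ : Subgroup.centralizer ({z} : Set G)) ∈ Q) (hs : IsConj z s) (hs1 : s ≠ z) (g : G) (hg : g * z * g⁻¹ = s) (X E : Subgroup ((Subgroup.centralizer ({z} : Set G)) ⧸ Q)) (hX : X = ((Subgroup.centralizer ({z} : Set G) ⊓ Subgroup.centralizer ({s} : Set G)).subgroupOf (Subgroup.centralizer ({z} : Set G))).map (QuotientGroup.mk' Q)) (hE : E = ((((Q.map (Subgroup.centralizer ({z} : Set G)).subtype)).map (MulAut.conj g).toMonoidHom ⊓ Subgroup.centralizer ({z} : Set G)).subgroupOf (Subgroup.centralizer ({z} : Set G))).map (QuotientGroup.mk' Q)) : Cfsg.IsElementaryAbelian 2 ((Q.map (Subgroup.centralizer ({z} : Set G)).subtype) ⊓ ((Q.map (Subgroup.centralizer ({z} : Set G)).subtype)).map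 (MulAut.conj g).toMonoidHom) ∧ Nat.card ↥((Q.map (Subgroup.centralizer ({z} : Set G)).subtype) ⊓ ((Q.map (Subgroup.centralizer ({z} : Set G)).subtype)).map (MulAut.conj g).toMonoidHom) = 2 ^ 7 ∧ E ≤ X ∧ (∀ x ∈ X, ∀ y ∈ E, x * y * x⁻¹ ∈ E) ∧ Cfsg.IsElementaryAbelian 2 E ∧ Nat.card E = 32 ∧ ∃ _ : (E.subgroupOf X).Normal, Nonempty (↥X ⧸ E.subgroupOf X ≃* alternatingGroup (Fin 6)) := by
  classical
  obtain ⟨S⟩ := Cfsg.Agent.H41.LFi.setup_of Q hF
  obtain ⟨hsc, hsQ⟩ := hsQ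
  have hsm : s ∈ Q.map (Subgroup.centralizer ({z} : Set G)).subtype := ⟨_, hsQ, rfl⟩
  subst hg
  have h := Cfsg.Agent.H41.LFi.pair_of Q hF hsm hs1
  obtain ⟨k, hk, ek⟩ := Cfsg.Agent.H41.LFi.transitive (Or.inr rfl) (S.cls_eq_three h)
  have hku : k Cfsg.Agent.H41.LFi.r85 = S.π (g * z * g⁻¹) := ek
  have sh := S.shape h hk hku
  have hQker : Q ≤ S.rhoHom.ker := fun x hx => by
    rw [S.rhoHom_ker]
    exact Subgroup.mem_map_of_mem _ hx
  let rb : ↥(Subgroup.centralizer ({z} : Set G)) ⧸ Q →* Equiv.Perm Cfsg.Agent.H41.SUSix.Vec := QuotientGroup.lift Q S.rhoHom hQker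
  have hrb : Function.Injective rb := by
    rw [← MonoidHom.ker_eq_bot_iff, Subgroup.eq_bot_iff_forall]
    intro x hx
    obtain ⟨c, rfl⟩ := QuotientGroup.mk_surjective x
    have hc : c ∈ S.rhoHom.ker := hx
    rw [S.rhoHom_ker] at hc
    exact (QuotientGroup.eq_one_iff c).2
      ((Subgroup.mem_map_iff_mem (Subgroup.subtype_injective _)).1 hc)
  have hEimg : E.map rb = S.imgE g := by
    rw [hE, Subgroup.map_map]
    rfl
  have hEmem : ∀ x, x ∈ E ↔ rb x ∈ S.imgE g := fun x => by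
    rw [← hEimg, Subgroup.mem_map_iff_mem hrb]
  have hEX : E ≤ X := by
    rw [hE, hX]
    refine Subgroup.map_mono fun w hw => ?_
    exact ⟨hw.2, Subgroup.mem_centralizer_singleton_iff.2 (h.R_comm hw.1)⟩
  have hXdata : ∀ x ∈ X, ∃ c : G, c * z = z * c ∧ rb x = S.ρ c ∧
      S.ρ c (S.π (g * z * g⁻¹)) = S.π (g * z * g⁻¹) := by
    intro x hx
    rw [hX] at hx
    obtain ⟨c, ⟨-, hcs⟩, rfl⟩ := hx
    refine ⟨c, Subgroup.mem_centralizer_singleton_iff.1 c.2, rfl, ?_⟩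
    rw [← S.ρ_π _ (Subgroup.mem_centralizer_singleton_iff.1 c.2) _ h.hs,
      show (c : G) * (g * z * g⁻¹) * (c : G)⁻¹ = g * z * g⁻¹ from
        mul_inv_eq_iff_eq_mul.2 (Subgroup.mem_centralizer_singleton_iff.1 hcs)]
  have hnorm : ∀ x ∈ X, ∀ y ∈ E, x * y * x⁻¹ ∈ E := by
    intro x hx y hy
    obtain ⟨c, hc, ec, hfix⟩ := hXdata x hx
    rw [hEmem, map_mul, map_mul, map_inv, ec]
    exact S.imgE_normal h hc hfix ((hEmem y).1 hy)
  refine ⟨⟨⟨⟨fun a b => Subtype.ext (S.D_comm h a.2 b.2)⟩⟩, fun a ha => ?_⟩, sh.card_meet, hEX,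
    hnorm, ⟨⟨⟨fun a b => Subtype.ext (hrb ?_)⟩⟩, fun a ha => hrb ?_⟩, ?_, ?_⟩
  · rw [pow_two]
    exact S.D_sq h ha
  · rw [Subgroup.coe_mul, Subgroup.coe_mul, map_mul, map_mul]
    exact S.imgE_comm h ((hEmem _).1 a.2) ((hEmem _).1 b.2)
  · rw [map_pow, map_one, pow_two]
    exact S.imgE_sq h ((hEmem _).1 ha)
  · rw [Nat.card_congr (E.equivMapOfInjective rb hrb).toEquiv, hEimg, sh.img,
      ← Nat.card_congr (Subgroup.equivMapOfInjective _ _ (MulAut.conj k).injective).toEquiv,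
      Cfsg.Agent.H41.LFi.card_E]
  have hn : (E.subgroupOf X).Normal := ⟨fun a ha b => hnorm b b.2 a ha⟩
  refine ⟨hn, ?_⟩
  have hdom : ∀ x : X, k⁻¹ * rb x * k ∈ Cfsg.Agent.H41.LFi.dom6 := fun x => by
    obtain ⟨c, hc, ec, hfix⟩ := hXdata x x.2
    rw [ec]
    exact S.stab_dom hk sh hc (by rw [hku]; exact hfix)
  let conjk : X →* ↥Cfsg.Agent.H41.LFi.dom6 :=
    MonoidHom.mk' (fun x => ⟨k⁻¹ * rb x * k, hdom x⟩) fun a b => Subtype.ext (by
      show k⁻¹ * rb ((a : ↥(Subgroup.centralizer ({z} : Set G)) ⧸ Q) * b) * k = k⁻¹ * rb a * k * (k⁻¹ * rb b * k)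
      rw [map_mul]; group)
  have hfacts : ∀ x : X, Cfsg.Agent.H41.LFi.psi (conjk x) ∈ alternatingGroup (Fin 6) ∧
      (Cfsg.Agent.H41.LFi.psi (conjk x) = 1 ↔ (x : ↥(Subgroup.centralizer ({z} : Set G)) ⧸ Q) ∈ E) := by
    intro x
    obtain ⟨c, hc, ec, hfix⟩ := hXdata x x.2
    obtain ⟨f1, f2⟩ := S.stab_psi hk sh hc (by rw [hku]; exact hfix)
    have e : conjk x = ⟨k⁻¹ * S.ρ c * k, S.stab_dom hk sh hc (by rw [hku]; exact hfix)⟩ :=
      Subtype.ext (by show k⁻¹ * rb x * k = _; rw [ec])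
    rw [e, hEmem, ec]
    exact ⟨f1, f2⟩
  let θ : X →* ↥(alternatingGroup (Fin 6)) :=
    (Cfsg.Agent.H41.LFi.psi.comp conjk).codRestrict _ fun x => (hfacts x).1
  have hker : θ.ker = E.subgroupOf X := by
    ext x
    rw [MonoidHom.mem_ker, Subgroup.mem_subgroupOf, ← (hfacts x).2]
    exact Subtype.ext_iff
  have hsurj : Function.Surjective θ := by
    intro π
    obtain ⟨n, hn'⟩ : (π : Equiv.Perm (Fin 6)) ∈ Cfsg.Agent.H41.LFi.psiS.range :=
      Cfsg.Agent.H41.LFi.psiS_facts.1.symm ▸ π.2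
    obtain ⟨c, hc, ec⟩ := S.ρ_surj _ (mul_mem (mul_mem hk n.2.1) (inv_mem hk))
    have hfix : S.ρ c (S.π (g * z * g⁻¹)) = S.π (g * z * g⁻¹) := by
      rw [ec, ← hku]
      show k ((n : Equiv.Perm Cfsg.Agent.H41.SUSix.Vec) (k.symm (k Cfsg.Agent.H41.LFi.r85))) = _
      rw [k.symm_apply_apply, show (n : Equiv.Perm Cfsg.Agent.H41.SUSix.Vec)
        Cfsg.Agent.H41.LFi.r85 = Cfsg.Agent.H41.LFi.r85 from n.2.2]
    obtain ⟨d, hd, hds, hρ⟩ := S.lift_fix hc h.hs (S.π_s_ne h) hfix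
    have hdX : ((⟨d, Subgroup.mem_centralizer_singleton_iff.2 hd⟩  : ↥(Subgroup.centralizer ({z} : Set G))) : ↥(Subgroup.centralizer ({z} : Set G)) ⧸ Q) ∈ X := by
      rw [hX]
      exact ⟨_, ⟨Subgroup.mem_centralizer_singleton_iff.2 hd,
        Subgroup.mem_centralizer_singleton_iff.2 hds⟩, rfl⟩
    refine ⟨⟨_, hdX⟩, Subtype.ext ?_⟩
    show Cfsg.Agent.H41.LFi.psi (conjk ⟨_, hdX⟩) = _
    rw [← hn']
    refine congrArg Cfsg.Agent.H41.LFi.psi (Subtype.ext ?_)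
    show k⁻¹ * S.ρ d * k = (n : Equiv.Perm Cfsg.Agent.H41.SUSix.Vec)
    rw [hρ, ec]
    group
  exact ⟨(QuotientGroup.quotientMulEquivOfEq hker.symm).trans
    (QuotientGroup.quotientKerEquivOfSurjective θ hsurj)⟩


end Cfsg.Agent.S5442
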