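import Cfsg.Statements.S5443
import Cfsg.Agent.H41.LFi.StabMinus
-- import your own Cfsg.Agent.* helpers here

set_option autoImplicit false
open Cfsg

namespace Cfsg.Agent.S5443

/-- Let G be a finite group of large Fischer type at the involution z: the generalized Fitting subgroup Q of H = C_G(z) is extraspecial of order 2^13, H has normal subgroups Q ≤ H₁ ≤ H₂ with H₁/Q of order 3, H₂/H₁ the projective special unitary group of dimension 4 over the field with nine elements and H₂ of index 2 in H, and some conjugate of z other than z lies in Q. Let t be an involution of Q not conjugate to z in G, and S the set of elements of H conjugating t to t or to t z (the stabilizer of the image of t in Q modulo its centre). Then the image of S in H/Q is isomorphic to the full isometry group of the elliptic quadratic form in dimension 6 over the field with two elements. -/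
theorem result {G : Type*} [Group G] [Finite G] (z : G) (Q : Subgroup (Subgroup.centralizer ({z} : Set G))) [Q.Normal] (hF : Cfsg.IsOfLargeFischerTypeAt z Q) (t : Subgroup.centralizer ({z} : Set G)) (htQ : t ∈ Q) (ht2 : orderOf t = 2) (ht : ¬ IsConj z (t : G)) (S : Subgroup (Subgroup.centralizer ({z} : Set G))) (hS : ∀ h : Subgroup.centralizer ({z} : Set G), h ∈ S ↔ (h * t * h⁻¹ = t ∨ ((h * t * h⁻¹ : Subgroup.centralizer ({z} : Set G)) : G) = t * z)) : Nonempty (↥(S.map (QuotientGroup.mk' Q)) ≃* Cfsg.isometryGroup (ZMod 2) (Cfsg.quadFormMinus 2 (ZMod 2) 1 1)) := by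
  classical
  obtain ⟨S₀⟩ := Cfsg.Agent.H41.LFi.setup_of Q hF
  have htm : (t : G) ∈ Q.map (Subgroup.centralizer ({z} : Set G)).subtype := ⟨t, htQ, rfl⟩
  have hQker : Q ≤ S₀.rhoHom.ker := fun x hx => by
    rw [S₀.rhoHom_ker]
    exact Subgroup.mem_map_of_mem _ hx
  let rb : ↥(Subgroup.centralizer ({z} : Set G)) ⧸ Q →* Equiv.Perm Cfsg.Agent.H41.SUSix.Vec :=
    QuotientGroup.lift Q S₀.rhoHom hQker
  have hrb : Function.Injective rb := by
    rw [← MonoidHom.ker_eq_bot_iff, Subgroup.eq_bot_iff_forall]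
    intro x hx
    obtain ⟨c, rfl⟩ := QuotientGroup.mk_surjective x
    have hc : c ∈ S₀.rhoHom.ker := hx
    rw [S₀.rhoHom_ker] at hc
    exact (QuotientGroup.eq_one_iff c).2
      ((Subgroup.mem_map_iff_mem (Subgroup.subtype_injective _)).1 hc)
  obtain ⟨g, hgQ, hgne⟩ := S₀.nwc
  have h := Cfsg.Agent.H41.LFi.pair_of Q hF hgQ hgne
  have ht1 : (t : G) ^ 2 = 1 := by rw [← ht2, ← Subgroup.orderOf_coe, pow_orderOf_eq_one]
  have hwt := S₀.wt_zero_of_sq htm (by rw [← pow_two, ht1])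
  have hne : S₀.π t ≠ 0 := fun e => by
    rcases (S₀.π_zero _ htm).1 e with e' | e'
    · rw [← Subgroup.orderOf_coe, e', orderOf_one] at ht2
      omega
    · exact ht (by rw [e'])
  have hcls : Cfsg.Agent.H41.SUSix.cls (S₀.π t) = 2 := by
    obtain ⟨f1, f0, f3⟩ := Cfsg.Agent.H41.SUSix.facts (S₀.π t)
    have n1 : Cfsg.Agent.H41.SUSix.cls (S₀.π t) ≠ 1 := fun e => by
      rw [(Cfsg.Agent.H41.LFi.cls_one_iff _).1 e] at hwt
      exact one_ne_zero hwt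
    have n0 : Cfsg.Agent.H41.SUSix.cls (S₀.π t) ≠ 0 := fun e => hne (f0.1 e)
    have n3 : Cfsg.Agent.H41.SUSix.cls (S₀.π t) ≠ 3 := fun e => by
      obtain ⟨c, hc, ec⟩ :=
        S₀.conj_of_cls h.hs htm ((S₀.cls_eq_three h).trans e.symm) (Or.inr (S₀.cls_eq_three h))
      refine ht ((isConj_iff.2 ⟨c * g, ?_⟩ : IsConj z (t : G)))
      rw [← ec]; group
    omega
  obtain ⟨k, hk, ek⟩ := Cfsg.Agent.H41.LFi.transitive (Or.inl rfl) hcls
  have hku : k Cfsg.Agent.H41.LFi.r5 = S₀.π t := ek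
  have e1 : k⁻¹ (S₀.π t) = Cfsg.Agent.H41.LFi.r5 := k.symm_apply_eq.2 hku.symm
  let St := ((S.map (QuotientGroup.mk' Q)).map rb).map (MulAut.conj k⁻¹).toMonoidHom
  have hSt : ∀ x, x ∈ St ↔ ∃ c : G, c * z = z * c ∧
      S₀.ρ c (S₀.π t) = S₀.π t ∧ x = k⁻¹ * S₀.ρ c * k := by
    intro x
    constructor
    · rintro ⟨_, ⟨_, ⟨c, hc, rfl⟩, rfl⟩, rfl⟩
      have hcz := Subgroup.mem_centralizer_singleton_iff.1 c.2
      refine ⟨c, hcz, ?_, by
        show k⁻¹ * S₀.ρ c * k⁻¹⁻¹ = _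
        rw [inv_inv]⟩
      rw [← S₀.ρ_π _ hcz _ htm]
      rcases (hS c).1 hc with e | e
      · exact congrArg S₀.π (congrArg Subtype.val e :)
      · have e' : (c : G) * t * (c : G)⁻¹ = t * z := e
        rw [e', S₀.le _ htm, S₀.π_zmul htm]
    · rintro ⟨c, hcz, hfix, rfl⟩
      refine ⟨_, ⟨_, ⟨⟨c, Subgroup.mem_centralizer_singleton_iff.2 hcz⟩, (hS _).2 ?_, rfl⟩, rfl⟩, ?_⟩
      · rw [← S₀.ρ_π c hcz _ htm] at hfix
        rcases S₀.π_eq htm (S₀.norm c hcz _ htm) hfix.symm with e | e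
        · exact Or.inl (Subtype.ext e)
        · refine Or.inr ?_
          rw [S₀.le _ htm]
          exact e
      · show k⁻¹ * S₀.ρ c * k⁻¹⁻¹ = _
        rw [inv_inv]
  have hconjK : ∀ c, (k⁻¹ * S₀.ρ c * k ∈ Cfsg.Agent.H41.LFi.Kl ↔
      S₀.ρ c ∈ Cfsg.Agent.H41.LFi.Kl) := fun c => by
    rw [Subgroup.mul_mem_cancel_right _ hk, Subgroup.mul_mem_cancel_left _ (inv_mem hk)]
  have hroot : ∀ c, S₀.ρ c (S₀.π t) = S₀.π t →
      (k⁻¹ * S₀.ρ c * k) Cfsg.Agent.H41.LFi.r5 = Cfsg.Agent.H41.LFi.r5 := fun c hfix => by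
    rw [Equiv.Perm.mul_apply, Equiv.Perm.mul_apply, hku, hfix, e1]
  have hiso := Cfsg.Agent.H41.LFi.equiv_mulAut St
    (fun x hx => by
      obtain ⟨c, hc, ec⟩ := S₀.ρ_surj _
        (Cfsg.Agent.H41.LFi.Kl.mul_mem (Cfsg.Agent.H41.LFi.Kl.mul_mem hk hx.1)
          (Cfsg.Agent.H41.LFi.Kl.inv_mem hk))
      refine (hSt x).2 ⟨c, hc, ?_, by rw [ec]; group⟩
      rw [ec, Equiv.Perm.mul_apply, Equiv.Perm.mul_apply, e1,
        show x Cfsg.Agent.H41.LFi.r5 = Cfsg.Agent.H41.LFi.r5 from hx.2, hku])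
    (fun x hx hK => by
      obtain ⟨c, hc, hfix, rfl⟩ := (hSt x).1 hx
      exact ⟨hK, hroot c hfix⟩)
    (fun x hx hK => by
      obtain ⟨c, hc, hfix, rfl⟩ := (hSt x).1 hx
      have h1 := S₀.outer_semi h hc (fun e => hK ((hconjK c).2 e))
      exact ((Cfsg.Agent.H41.LFi.semi_of_mem_Kl (Cfsg.Agent.H41.LFi.Kl.inv_mem hk)).comp h1).comp
        (Cfsg.Agent.H41.LFi.semi_of_mem_Kl hk))
    (fun x hx n hn => by
      obtain ⟨c, hc, hfix, rfl⟩ := (hSt x).1 hx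
      constructor
      · have h1 := S₀.ρ_normK c hc _
          (Cfsg.Agent.H41.LFi.Kl.mul_mem (Cfsg.Agent.H41.LFi.Kl.mul_mem hk hn.1)
            (Cfsg.Agent.H41.LFi.Kl.inv_mem hk))
        have h2 := Cfsg.Agent.H41.LFi.Kl.mul_mem (Cfsg.Agent.H41.LFi.Kl.mul_mem
          (Cfsg.Agent.H41.LFi.Kl.inv_mem hk) h1) hk
        show _ ∈ Cfsg.Agent.H41.LFi.Kl
        rw [show k⁻¹ * S₀.ρ c * k * n * (k⁻¹ * S₀.ρ c * k)⁻¹ =
          k⁻¹ * (S₀.ρ c * (k * n * k⁻¹) * (S₀.ρ c)⁻¹) * k by group]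
        exact h2
      · have hy := hroot c hfix
        show (k⁻¹ * S₀.ρ c * k * n * (k⁻¹ * S₀.ρ c * k)⁻¹) Cfsg.Agent.H41.LFi.r5 = _
        rw [Equiv.Perm.mul_apply, Equiv.Perm.mul_apply,
          show (k⁻¹ * S₀.ρ c * k)⁻¹ Cfsg.Agent.H41.LFi.r5 = Cfsg.Agent.H41.LFi.r5 from
            (k⁻¹ * S₀.ρ c * k).symm_apply_eq.2 hy.symm,
          show n Cfsg.Agent.H41.LFi.r5 = Cfsg.Agent.H41.LFi.r5 from hn.2, hy])
    (fun x hx y hy hxK hyK => by
      obtain ⟨a, ha, -, rfl⟩ := (hSt x).1 hx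
      obtain ⟨b, hb, -, rfl⟩ := (hSt y).1 hy
      have h2 := S₀.two_elts ha hb (fun e => hxK ((hconjK a).2 e)) (fun e => hyK ((hconjK b).2 e))
      have h3 := Cfsg.Agent.H41.LFi.Kl.mul_mem (Cfsg.Agent.H41.LFi.Kl.mul_mem
          (Cfsg.Agent.H41.LFi.Kl.inv_mem hk) h2) hk
      rw [show k⁻¹ * S₀.ρ a * k * (k⁻¹ * S₀.ρ b * k) = k⁻¹ * (S₀.ρ a * S₀.ρ b) * k by group]
      exact h3)
    (by
      obtain ⟨a, ha, haK⟩ := S₀.outer
      have hc2 : Cfsg.Agent.H41.SUSix.cls (S₀.ρ a (S₀.π t)) = 2 := by rw [S₀.ρ_cls a ha, hcls]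
      obtain ⟨k', hk', ek'⟩ := Cfsg.Agent.H41.LFi.transitive (Or.inl rfl) hc2
      obtain ⟨b, hb, eb'⟩ := S₀.ρ_surj _ (Cfsg.Agent.H41.LFi.Kl.mul_mem hk
        (Cfsg.Agent.H41.LFi.Kl.inv_mem hk'))
      have hba := S₀.z_comm_mul hb ha
      have hfix : S₀.ρ (b * a) (S₀.π t) = S₀.π t := by
        rw [S₀.ρ_mul b a hb ha, Equiv.Perm.mul_apply, eb', Equiv.Perm.mul_apply,
          show k'⁻¹ (S₀.ρ a (S₀.π t)) = Cfsg.Agent.H41.LFi.rootOf 2 from
            k'.symm_apply_eq.2 ek'.symm, ek]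
      refine ⟨_, (hSt _).2 ⟨b * a, hba, hfix, rfl⟩, fun hK => haK ?_⟩
      have h1 := (hconjK _).1 hK
      rw [S₀.ρ_mul b a hb ha] at h1
      exact (Subgroup.mul_mem_cancel_left _
        (eb' ▸ Cfsg.Agent.H41.LFi.Kl.mul_mem hk (Cfsg.Agent.H41.LFi.Kl.inv_mem hk'))).1 h1)
  obtain ⟨e⟩ := hiso
  obtain ⟨e2⟩ := Cfsg.Agent.H41.LFi.stab_two_equiv
  obtain ⟨e3⟩ := Cfsg.Agent.H93.isometry_equiv_mulAut (K := Cfsg.Agent.H41.SUSix.K4) (by decide +kernel)
  exact ⟨((((S.map (QuotientGroup.mk' Q)).equivMapOfInjective rb hrb).trans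
    (((S.map (QuotientGroup.mk' Q)).map rb).equivMapOfInjective _
      (MulAut.conj k⁻¹).injective)).trans e).trans ((MulAut.congr e2).trans e3)⟩


end Cfsg.Agent.S5443
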