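import Cfsg.Statements.S5444
import Cfsg.Agent.H43.LFi.Max

set_option autoImplicit false
open Cfsg

namespace Cfsg.Agent.S5444

/-- Let G be a finite group of large Fischer type at the involution z: the generalized Fitting subgroup Q of H = C_G(z) is extraspecial of order 2^13, H has normal subgroups Q ≤ H₁ ≤ H₂ with H₁/Q of order 3, H₂/H₁ the projective special unitary group of dimension 4 over the field with nine elements and H₂ of index 2 in H, and some conjugate of z other than z lies in Q. Let T be a Sylow 2-subgroup of H. Then T has exactly one elementary abelian subgroup A of largest order; A has order 2^11, it meets Q in a subgroup of order 2^7, and its image in H/Q has order 16. -/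
theorem result {G : Type*} [Group G] [Finite G] (z : G) (Q : Subgroup (Subgroup.centralizer ({z} : Set G))) [Q.Normal] (hF : Cfsg.IsOfLargeFischerTypeAt z Q) (T : Sylow 2 ↥(Subgroup.centralizer ({z} : Set G))) : ∃ A : Subgroup ↥(T : Subgroup (Subgroup.centralizer ({z} : Set G))), Cfsg.maxElementaryAbelianSubgroups 2 ↥(T : Subgroup (Subgroup.centralizer ({z} : Set G))) = {A} ∧ Nat.card A = 2 ^ 11 ∧ Nat.card ↥(A.map (T : Subgroup (Subgroup.centralizer ({z} : Set G))).subtype ⊓ Q) = 2 ^ 7 ∧ Nat.card ↥((A.map (T : Subgroup (Subgroup.centralizer ({z} : Set G))).subtype).map (QuotientGroup.mk' Q)) = 16 := by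
  classical
  obtain ⟨S⟩ := H41.LFi.setup_of Q hF
  obtain ⟨g, hs, hne⟩ := S.nwc
  have hp := H41.LFi.pair_of Q hF hs hne
  obtain ⟨A, hA, h, hmap⟩ := H43.LFi.exists_unique_max S hp T
  set A0 := (H43.LFi.Aelem S).subgroupOf (Subgroup.centralizer ({z} : Set G)) with hA0def
  have hAC : H43.LFi.Aelem S ≤ (Subgroup.centralizer ({z} : Set G)) := fun a ha =>
    Subgroup.mem_centralizer_singleton_iff.2 ((H43.LFi.mem_Aelem S).1 ha).1.1
  have hA0 : Nat.card A0 = 2 ^ 11 := by
    rw [hA0def, Nat.card_congr (Subgroup.subgroupOfEquivOfLe hAC).toEquiv, H43.LFi.card_A]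
  have hinf : Nat.card ↥(A0 ⊓ Q) = 2 ^ 7 := by
    rw [← H43.LFi.card_piU S, ← H43.LFi.A_inf_Q S,
      ← H43.LFi.card_map_inj (Subgroup.centralizer ({z} : Set G)).subtype (Subgroup.centralizer ({z} : Set G)).subtype_injective (A0 ⊓ Q),
      Subgroup.map_inf _ _ _ (Subgroup.centralizer ({z} : Set G)).subtype_injective, hA0def, Subgroup.map_subgroupOf_eq_of_le hAC]
  have hQc : Q.map (MulAut.conj h).toMonoidHom = Q := Subgroup.Normal.map_conj_eq Q h
  have h7 : Nat.card ↥(A.map (T : Subgroup (Subgroup.centralizer ({z} : Set G))).subtype ⊓ Q) = 2 ^ 7 := by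
    rw [hmap, ← hinf, ← H43.LFi.card_map_inj (MulAut.conj h).toMonoidHom
      (MulAut.conj h).injective (A0 ⊓ Q), Subgroup.map_inf _ _ _ (MulAut.conj h).injective, hQc]
  have h11 : Nat.card ↥(A.map (T : Subgroup (Subgroup.centralizer ({z} : Set G))).subtype) = 2 ^ 11 := by
    rw [hmap, H43.LFi.card_map_inj _ (MulAut.conj h).injective, hA0]
  refine ⟨A, hA, ?_, h7, ?_⟩
  · rw [← H43.LFi.card_map_inj _ (T : Subgroup (Subgroup.centralizer ({z} : Set G))).subtype_injective A, h11]
  · set B := A.map (T : Subgroup (Subgroup.centralizer ({z} : Set G))).subtype with hB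
    let φ : ↥B →* ↥(Subgroup.centralizer ({z} : Set G)) ⧸ Q := (QuotientGroup.mk' Q).comp B.subtype
    have hr : φ.range = B.map (QuotientGroup.mk' Q) := by
      rw [MonoidHom.range_comp, Subgroup.range_subtype]
    have hk : φ.ker = (B ⊓ Q).subgroupOf B := by
      ext a
      rw [MonoidHom.mem_ker, Subgroup.mem_subgroupOf, Subgroup.mem_inf, and_iff_right a.2]
      exact QuotientGroup.eq_one_iff _
    have e := Subgroup.card_mul_index φ.ker
    rw [Subgroup.index_ker, hr, hk,
      Nat.card_congr (Subgroup.subgroupOfEquivOfLe inf_le_left).toEquiv, h7, h11] at e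
    omega

end Cfsg.Agent.S5444
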