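import Cfsg.Statements.S5448
import Cfsg.Agent.H61.Todd.Transfer

set_option autoImplicit false
open scoped Pointwise
open Cfsg

namespace Cfsg.Agent.S5448

/-- Let G be a finite group of large Fischer type at the involution z: the generalized Fitting subgroup Q of H = C_G(z) is extraspecial of order 2^13, H has normal subgroups Q ≤ H₁ ≤ H₂ with H₁/Q of order 3, H₂/H₁ the projective special unitary group of dimension 4 over the field with nine elements and H₂ of index 2 in H, and some conjugate of z other than z lies in Q. Let T be a Sylow 2-subgroup of G, A its Thompson subgroup, M = N_G(A) its normalizer, and t an involution of A not conjugate to z in G. Then the centralizer of t in M, modulo A, is isomorphic to the setwise stabilizer of a two-element subset of the 24 points in the Mathieu group of degree 24 (the automorphism group of the smaller Mathieu group on 22 points). -/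
theorem result {G : Type*} [Group G] [Finite G] (z : G) (Q : Subgroup (Subgroup.centralizer ({z} : Set G))) [Q.Normal] (hF : Cfsg.IsOfLargeFischerTypeAt z Q) (T : Sylow 2 G) (A M : Subgroup G) (hA : A = Cfsg.thompsonSubgroupOf 2 (T : Subgroup G)) (hM : M = Subgroup.normalizer (A : Set G)) (t : G) (htA : t ∈ A) (ht2 : orderOf t = 2) (ht : ¬ IsConj z t) : ∃ _ : (A.subgroupOf (M ⊓ Subgroup.centralizer ({t} : Set G))).Normal, Nonempty (↥(M ⊓ Subgroup.centralizer ({t} : Set G)) ⧸ A.subgroupOf (M ⊓ Subgroup.centralizer ({t} : Set G)) ≃* ↥(Cfsg.M24 ⊓ MulAction.stabilizer (Equiv.Perm Cfsg.GolayPt) ({none, some 0} : Set Cfsg.GolayPt))) := by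
  obtain ⟨S⟩ := Cfsg.Agent.H41.LFi.setup_of Q hF
  obtain ⟨g, hs, hne⟩ := S.nwc
  have hp := Cfsg.Agent.H41.LFi.pair_of Q hF hs hne
  obtain ⟨x, hx⟩ := Cfsg.Agent.H61.Todd.thompson_eq S hp T
  rw [hx] at hA
  subst hA hM
  obtain ⟨ψ, hsurj, hker, hfix⟩ := Cfsg.Agent.H61.Todd.transfer S hp x
  rw [Cfsg.Agent.H61.Todd.mem_conj_map] at htA
  set a : ↥(Cfsg.Agent.H43.LFi.Aelem S) := ⟨x⁻¹ * t * x, htA⟩
  have hxa : x * (x⁻¹ * t * x) * x⁻¹ = t := by group
  have ha : a ∈ Cfsg.Agent.H61.Todd.Nset S := by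
    refine ⟨fun e => ?_, fun h => ht (h.trans (isConj_iff.2 ⟨x, hxa⟩))⟩
    have e' : x⁻¹ * t * x = 1 := e
    have : t = 1 := by rw [← hxa, e']; group
    rw [this, orderOf_one] at ht2
    norm_num at ht2
  obtain ⟨Ψ, hΨ⟩ := Cfsg.Agent.H61.Todd.recognise_A S hp ha
  set M1 := Subgroup.normalizer (((Cfsg.Agent.H43.LFi.Aelem S).map
    (MulAut.conj x).toMonoidHom : Subgroup G) : Set G) ⊓ Subgroup.centralizer ({t} : Set G) with hM1
  let χ : ↥M1 →* ↥Cfsg.M24 := Ψ.toMonoidHom.comp (ψ.comp (Subgroup.inclusion inf_le_left))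
  have hχ : ∀ m : ↥M1, ((χ m : ↥Cfsg.M24) : Equiv.Perm Cfsg.GolayPt) ∈ Cfsg.M24 ⊓
      MulAction.stabilizer (Equiv.Perm Cfsg.GolayPt) ({none, some 0} : Set Cfsg.GolayPt) := fun m =>
    Subgroup.mem_inf.2 ⟨(χ m).2, (hΨ (ψ (Subgroup.inclusion inf_le_left m))).1
      ((hfix (Subgroup.inclusion inf_le_left m) a).2 (by
      show (m : G) * (x * (x⁻¹ * t * x) * x⁻¹) = x * (x⁻¹ * t * x) * x⁻¹ * m
      rw [hxa]
      exact Subgroup.mem_centralizer_singleton_iff.1 (Subgroup.mem_inf.1 m.2).2))⟩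
  let θ := MonoidHom.codRestrict ((Cfsg.M24).subtype.comp χ) _ hχ
  have hθs : Function.Surjective θ := by
    rintro ⟨y, hy⟩
    obtain ⟨hy1, hy2⟩ := Subgroup.mem_inf.1 hy
    obtain ⟨m, hm⟩ := hsurj (Ψ.symm ⟨y, hy1⟩)
    have hmt := (hfix m a).1 ((hΨ (ψ m)).2 (by rw [hm, MulEquiv.apply_symm_apply]; exact hy2))
    rw [show x * (a : G) * x⁻¹ = t from hxa] at hmt
    refine ⟨⟨m, Subgroup.mem_inf.2 ⟨m.2, Subgroup.mem_centralizer_singleton_iff.2 hmt⟩⟩,
      Subtype.ext ?_⟩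
    show ((Ψ (ψ m) : ↥Cfsg.M24) : Equiv.Perm Cfsg.GolayPt) = y
    rw [hm, MulEquiv.apply_symm_apply]
  have hθk : θ.ker = ((Cfsg.Agent.H43.LFi.Aelem S).map
      (MulAut.conj x).toMonoidHom).subgroupOf M1 := by
    ext m
    have h1 : θ m = 1 ↔ ψ (Subgroup.inclusion inf_le_left m) = 1 := by
      rw [Subtype.ext_iff]
      show ((Ψ (ψ (Subgroup.inclusion inf_le_left m)) : ↥Cfsg.M24) : Equiv.Perm Cfsg.GolayPt) =
        ((1 : ↥Cfsg.M24) : Equiv.Perm Cfsg.GolayPt) ↔ _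
      rw [← Subtype.ext_iff, map_eq_one_iff Ψ Ψ.injective]
    rw [MonoidHom.mem_ker, h1, ← MonoidHom.mem_ker, hker]
    exact Iff.rfl
  rw [← hθk]
  exact ⟨inferInstance, ⟨QuotientGroup.quotientKerEquivOfSurjective θ hθs⟩⟩

end Cfsg.Agent.S5448
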