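import Cfsg.Statements.S5449
import Cfsg.Agent.H49.USix.Inst.Build

set_option autoImplicit false
open Cfsg

namespace Cfsg.Agent.S5449

/-- Let G be a finite group of large Fischer type at the involution z: the generalized Fitting subgroup Q of H = C_G(z) is extraspecial of order 2^13, H has normal subgroups Q ≤ H₁ ≤ H₂ with H₁/Q of order 3, H₂/H₁ the projective special unitary group of dimension 4 over the field with nine elements and H₂ of index 2 in H, and some conjugate of z other than z lies in Q. Then Q contains a four-group E, not containing z and containing an involution not conjugate to z in G, whose centralizer in G is quasisimple with quotient by E isomorphic to the projective special unitary group of dimension 6 over the field with four elements. -/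
theorem result {G : Type*} [Group G] [Finite G] (z : G) (Q : Subgroup (Subgroup.centralizer ({z} : Set G))) [Q.Normal] (hF : Cfsg.IsOfLargeFischerTypeAt z Q) : ∃ E : Subgroup G, E ≤ (Q.map (Subgroup.centralizer ({z} : Set G)).subtype) ∧ Cfsg.IsElementaryAbelian 2 E ∧ Nat.card E = 4 ∧ z ∉ E ∧ (∃ t ∈ E, orderOf t = 2 ∧ ¬ IsConj z t) ∧ Cfsg.IsQuasisimple ↥(Subgroup.centralizer (E : Set G)) ∧ ∃ (_ : (E.subgroupOf (Subgroup.centralizer (E : Set G))).Normal) (K : Type) (_ : Field K) (_ : Fintype K), Fintype.card K = 4 ∧ Nonempty (↥(Subgroup.centralizer (E : Set G)) ⧸ E.subgroupOf (Subgroup.centralizer (E : Set G)) ≃* Cfsg.PSU 6 K 2) := by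
  obtain ⟨S⟩ := Cfsg.Agent.H41.LFi.setup_of Q hF
  obtain ⟨t, e, H, h6, hnc, ht1⟩ := Cfsg.Agent.H49.USix.exists_four S
    fun g hs hne => Cfsg.Agent.H41.LFi.pair_of Q hF hs hne
  obtain ⟨hqs, K, i1, i2, hK, f, hf, hker⟩ := h6
  set E : Subgroup G := (Cfsg.Agent.H18.LFiFi22.quadN H).map
    (Cfsg.Agent.H18.LFiFi22.CE t e).subtype with hE
  have htC : t ∈ Cfsg.Agent.H18.LFiFi22.CE t e :=
    Cfsg.Agent.H18.LFiFi22.mem_CE.2 ⟨rfl, H.te⟩
  have heC : e ∈ Cfsg.Agent.H18.LFiFi22.CE t e :=
    Cfsg.Agent.H18.LFiFi22.mem_CE.2 ⟨H.te.symm, rfl⟩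
  have hmem : ∀ x : G, x ∈ E ↔ (x = 1 ∨ x = t ∨ x = e ∨ x = t * e) := by
    intro x
    constructor
    · rintro ⟨y, hy, rfl⟩
      exact hy
    · intro h
      refine ⟨⟨x, ?_⟩, h, rfl⟩
      rcases h with rfl | rfl | rfl | rfl
      exacts [one_mem _, htC, heC, mul_mem htC heC]
  have hcent : Subgroup.centralizer (E : Set G) = Cfsg.Agent.H18.LFiFi22.CE t e := by
    ext x
    rw [Subgroup.mem_centralizer_iff, Cfsg.Agent.H18.LFiFi22.mem_CE]
    refine ⟨fun h => ⟨(h t ((hmem t).2 (Or.inr (Or.inl rfl)))).symm,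
      (h e ((hmem e).2 (Or.inr (Or.inr (Or.inl rfl))))).symm⟩, ?_⟩
    rintro ⟨h1, h2⟩ y hy
    rcases (hmem y).1 hy with h | h | h | h <;> rw [h]
    · simp
    · exact h1.symm
    · exact h2.symm
    · exact ((show Commute x t from h1).mul_right h2).eq.symm
  have htQ : ∀ x ∈ E, x ∈ Q.map (Subgroup.centralizer ({z} : Set G)).subtype := by
    rintro _ ⟨y, hy, rfl⟩
    exact (H.quadN_facts hy).1
  have hsq : ∀ x ∈ E, x * x = 1 := by
    intro x hx
    rcases (hmem x).1 hx with rfl | rfl | rfl | rfl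
    · exact one_mul 1
    · exact H.tt
    · exact H.ee
    · rw [mul_assoc, ← mul_assoc e t, ← H.te, mul_assoc t e e, H.ee, mul_one, H.tt]
  have hte : t ≠ e := fun h => by
    have h' := congrArg S.π h
    rw [H.he] at h'
    have h0 := congrArg (fun v => v + S.π t) h'
    simp only [Cfsg.Agent.H43.LFi.vec_add_self] at h0
    have hv := H.cls_te
    rw [H.π_te, Cfsg.Agent.H18.LFiFi22.omega_sq_smul, add_comm, ← h0,
      ((Cfsg.Agent.H41.SUSix.facts (0 : Cfsg.Agent.H41.SUSix.Vec)).2.1).2 rfl] at hv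
    exact absurd hv (by norm_num)
  have he1 : e ≠ 1 := fun h => by
    have hv := H.hve
    rw [h, S.π_one, ((Cfsg.Agent.H41.SUSix.facts (0 : Cfsg.Agent.H41.SUSix.Vec)).2.1).2 rfl] at hv
    exact absurd hv (by norm_num)
  have hcard : Nat.card E = 4 := by
    have hset : (E : Set G) = {1, t, e, t * e} := by
      ext x
      simpa using hmem x
    have hti : t⁻¹ = t := inv_eq_of_mul_eq_one_right H.tt
    rw [← SetLike.coe_sort_coe, Nat.card_coe_set_eq, hset,
      Set.ncard_insert_of_notMem (by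
        simp only [Set.mem_insert_iff, Set.mem_singleton_iff, not_or]
        refine ⟨Ne.symm ht1, Ne.symm he1, fun h => hte ?_⟩
        rw [eq_inv_of_mul_eq_one_right h.symm, hti]) (Set.toFinite _),
      Set.ncard_insert_of_notMem (by
        simp only [Set.mem_insert_iff, Set.mem_singleton_iff, not_or]
        exact ⟨hte, fun h => he1 (mul_eq_left.1 h.symm)⟩) (Set.toFinite _),
      Set.ncard_pair (fun h => ht1 (mul_eq_right.1 h.symm))]
  have hz : z ∉ E := by
    rintro ⟨y, hy, h⟩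
    apply H.z_not_quad
    rwa [show (⟨z, H.z_mem_CE⟩ : ↥(Cfsg.Agent.H18.LFiFi22.CE t e)) = y from Subtype.ext h.symm]
  refine ⟨E, htQ, ⟨⟨⟨fun a b => Subtype.ext ?_⟩⟩, fun a ha => by rw [pow_two]; exact hsq a ha⟩,
    hcard, hz, ⟨t, (hmem t).2 (Or.inr (Or.inl rfl)),
      orderOf_eq_prime (by rw [pow_two]; exact H.tt) ht1, hnc⟩, ?_⟩
  · have key : ∀ x ∈ E, ∀ y ∈ E, x * y = y * x := fun x hx y hy => by
      have hxy := hsq _ (mul_mem hx hy)
      calc x * y = (x * y)⁻¹ := (inv_eq_of_mul_eq_one_right hxy).symm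
        _ = y * x := by
          rw [_root_.mul_inv_rev, inv_eq_of_mul_eq_one_right (hsq x hx), inv_eq_of_mul_eq_one_right (hsq y hy)]
    exact key a.1 a.2 b.1 b.2
  rw [hcent]
  have hk : f.ker = E.subgroupOf (Cfsg.Agent.H18.LFiFi22.CE t e) := by
    ext x
    rw [MonoidHom.mem_ker, hker, Subgroup.mem_subgroupOf, hmem]
  refine ⟨hqs, ?_⟩
  rw [← hk]
  exact ⟨inferInstance, K, i1, i2, hK, ⟨QuotientGroup.quotientKerEquivOfSurjective f hf⟩⟩

end Cfsg.Agent.S5449
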