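import Cfsg.Statements.S5452
import Cfsg.Agent.H93.U6Ext
-- import your own Cfsg.Agent.* helpers here

set_option autoImplicit false
open Cfsg

namespace Cfsg.Agent.S5452

/-- Let G be a finite group with an involution d whose centralizer C is quasisimple with C modulo the subgroup generated by d isomorphic to the projective special unitary group of dimension 6 over the field with four elements, and suppose some conjugate of d other than d commutes with d. Then every involution of C modulo the subgroup generated by d is the image of an involution of C, and d is not a square in G. -/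
theorem result {G : Type*} [Group G] [Finite G] (d : G) (hd : orderOf d = 2) (hq : Cfsg.IsQuasisimple ↥(Subgroup.centralizer ({d} : Set G))) [hzn : ((Subgroup.zpowers d).subgroupOf (Subgroup.centralizer ({d} : Set G))).Normal] (K : Type) [Field K] [Fintype K] (hK : Fintype.card K = 4) (e : ↥(Subgroup.centralizer ({d} : Set G)) ⧸ (Subgroup.zpowers d).subgroupOf (Subgroup.centralizer ({d} : Set G)) ≃* Cfsg.PSU 6 K 2) (hnwc : ∃ g : G, g * d * g⁻¹ ∈ Subgroup.centralizer ({d} : Set G) ∧ g * d * g⁻¹ ≠ d) : (∀ x : ↥(Subgroup.centralizer ({d} : Set G)) ⧸ (Subgroup.zpowers d).subgroupOf (Subgroup.centralizer ({d} : Set G)), orderOf x = 2 → ∃ y : ↥(Subgroup.centralizer ({d} : Set G)), orderOf y = 2 ∧ (QuotientGroup.mk y : ↥(Subgroup.centralizer ({d} : Set G)) ⧸ (Subgroup.zpowers d).subgroupOf (Subgroup.centralizer ({d} : Set G))) = x) ∧ ¬ ∃ g : G, g ^ 2 = d := by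
  classical
  have hdd : d * d = 1 := by
    have := pow_orderOf_eq_one d
    rwa [hd, pow_two] at this
  let C := Subgroup.centralizer ({d} : Set G)
  have hdC : d ∈ C := Subgroup.mem_centralizer_singleton_iff.mpr rfl
  let N := (Subgroup.zpowers d).subgroupOf C
  have hmemN : ∀ x : C, x ∈ N → x = 1 ∨ x = ⟨d, hdC⟩ := by
    intro x hx
    obtain ⟨k, hk⟩ := Subgroup.mem_zpowers_iff.mp (Subgroup.mem_subgroupOf.mp hx)
    rcases Int.even_or_odd k with ⟨m, hm⟩ | ⟨m, hm⟩
    · left; apply Subtype.ext
      rw [← hk, hm, ← two_mul, zpow_mul, zpow_two, hdd, one_zpow]; rfl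
    · right; apply Subtype.ext
      rw [← hk, hm, zpow_add, zpow_mul, zpow_two, hdd, one_zpow, zpow_one, one_mul]
  let π : C →* Cfsg.PSU 6 K 2 := e.toMonoidHom.comp (QuotientGroup.mk' N)
  have hext : Cfsg.Agent.H93.TwoExt π ⟨d, hdC⟩ := by
    refine ⟨e.surjective.comp (QuotientGroup.mk'_surjective N), fun x hx => hmemN x ?_, Subtype.ext hdd,
      fun x => Subtype.ext (Subgroup.mem_centralizer_singleton_iff.mp x.2).symm⟩
    rw [← QuotientGroup.eq_one_iff]
    exact e.injective (hx.trans (map_one e).symm)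
  have hlift : ∀ x : C ⧸ N, x * x = 1 → ∃ y : C, (QuotientGroup.mk y : C ⧸ N) = x ∧ y * y = 1 := by
    intro x hx
    obtain ⟨y, hy, hy2⟩ := hext.invol hK (e := e x) (by rw [← map_mul, hx, map_one])
    exact ⟨y, e.injective hy, hy2⟩
  refine ⟨fun x hx => ?_, ?_⟩
  · obtain ⟨y, hy, hy2⟩ := hlift x (by
      have := pow_orderOf_eq_one x
      rwa [hx, pow_two] at this)
    refine ⟨y, orderOf_eq_prime (by rw [pow_two]; exact hy2) fun e1 => ?_, hy⟩
    rw [e1, QuotientGroup.mk_one] at hy
    rw [← hy, orderOf_one] at hx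
    exact absurd hx (by norm_num)
  · rintro ⟨g, hg⟩
    rw [pow_two] at hg
    have hgC : g ∈ C := Subgroup.mem_centralizer_singleton_iff.mpr (by rw [← hg, mul_assoc])
    have hxx : (QuotientGroup.mk ⟨g, hgC⟩ : C ⧸ N) * QuotientGroup.mk ⟨g, hgC⟩ = 1 := by
      rw [← QuotientGroup.mk_mul, QuotientGroup.eq_one_iff]
      exact Subgroup.mem_subgroupOf.mpr (by simp [hg])
    obtain ⟨y, hy, hy2⟩ := hlift _ hxx
    have hy' : (y : G) * y = 1 := congrArg Subtype.val hy2
    have hd1 : d ≠ 1 := fun e1 => by rw [e1, orderOf_one] at hd; omega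
    rcases hmemN _ (QuotientGroup.eq.mp hy) with e1 | e1
    · have : y = ⟨g, hgC⟩ := inv_mul_eq_one.mp e1
      rw [this] at hy'
      exact hd1 (hg.symm.trans hy')
    · have h1 : (⟨g, hgC⟩ : C) = y * ⟨d, hdC⟩ := inv_mul_eq_iff_eq_mul.mp e1
      have h2 : g = (y : G) * d := congrArg Subtype.val h1
      have hc : d * (y : G) = y * d := (Subgroup.mem_centralizer_singleton_iff.mp y.2).symm
      apply hd1
      calc d = g * g := hg.symm
        _ = (y : G) * (d * y) * d := by rw [h2]; group
        _ = ((y : G) * y) * (d * d) := by rw [hc]; group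
        _ = 1 := by rw [hy', hdd, one_mul]

end Cfsg.Agent.S5452
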