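import Cfsg.Statements.S5453
import Cfsg.Agent.H93.Lift22
-- import your own Cfsg.Agent.* helpers here

set_option autoImplicit false
open Cfsg

namespace Cfsg.Agent.S5453

/-- Let G be a finite group with an involution d whose centralizer C is quasisimple, such that C modulo the subgroup generated by d is of type M(22) with respect to some conjugacy class of 3-transpositions generating it and also has an involution whose own centralizer is quasisimple with quotient by it isomorphic to the projective special unitary group of dimension 6 over the field with four elements and which is not weakly closed in that centralizer; and suppose some conjugate of d other than d commutes with d. Then every involution of C modulo the subgroup generated by d is the image of an involution of C, and d is not a square in G. -/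
theorem result {G : Type*} [Group G] [Finite G] (d : G) (hd : orderOf d = 2) (hq : Cfsg.IsQuasisimple ↥(Subgroup.centralizer ({d} : Set G))) [hzn : ((Subgroup.zpowers d).subgroupOf (Subgroup.centralizer ({d} : Set G))).Normal] (htype : ∃ E : Set (↥(Subgroup.centralizer ({d} : Set G)) ⧸ (Subgroup.zpowers d).subgroupOf (Subgroup.centralizer ({d} : Set G))), Cfsg.IsThreeTranspositionClass E ∧ Cfsg.IsOfTypeM22 _ E) (hinvol : ∃ d' : ↥(Subgroup.centralizer ({d} : Set G)) ⧸ (Subgroup.zpowers d).subgroupOf (Subgroup.centralizer ({d} : Set G)), orderOf d' = 2 ∧ Cfsg.IsQuasisimple ↥(Subgroup.centralizer ({d'} : Set _)) ∧ (∃ (K : Type) (_ : Field K) (_ : Fintype K), Fintype.card K = 4 ∧ ∃ _ : ((Subgroup.zpowers d').subgroupOf (Subgroup.centralizer ({d'} : Set _))).Normal, Nonempty (↥(Subgroup.centralizer ({d'} : Set _)) ⧸ (Subgroup.zpowers d').subgroupOf (Subgroup.centralizer ({d'} : Set _)) ≃* Cfsg.PSU 6 K 2)) ∧ ∃ g, g * d' * g⁻¹ ∈ Subgroup.centralizer ({d'} : Set _) ∧ g * d' * g⁻¹ ≠ d') (hnwc : ∃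 g : G, g * d * g⁻¹ ∈ Subgroup.centralizer ({d} : Set G) ∧ g * d * g⁻¹ ≠ d) : (∀ x : ↥(Subgroup.centralizer ({d} : Set G)) ⧸ (Subgroup.zpowers d).subgroupOf (Subgroup.centralizer ({d} : Set G)), orderOf x = 2 → ∃ y : ↥(Subgroup.centralizer ({d} : Set G)), orderOf y = 2 ∧ (QuotientGroup.mk y : ↥(Subgroup.centralizer ({d} : Set G)) ⧸ (Subgroup.zpowers d).subgroupOf (Subgroup.centralizer ({d} : Set G))) = x) ∧ ¬ ∃ g : G, g ^ 2 = d := by
  classical
  obtain ⟨E, hE, h22⟩ := htype
  obtain ⟨F, iF, iFF, hdata⟩ := Cfsg.Agent.H93.m22data hE h22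
  obtain ⟨x, hxo, -, ⟨K, iK, iKF, hK, hn, ⟨e⟩⟩, -⟩ := hinvol
  have hdd : d * d = 1 := by
    have := pow_orderOf_eq_one d
    rwa [hd, pow_two] at this
  let C := Subgroup.centralizer ({d} : Set G)
  have hdC : d ∈ C := Subgroup.mem_centralizer_singleton_iff.mpr rfl
  let N := (Subgroup.zpowers d).subgroupOf C
  have two_elems : ∀ {H : Type _} [Group H] (t : H), t * t = 1 → ∀ z : H, z ∈ Subgroup.zpowers t →
      z = 1 ∨ z = t := by
    intro H _ t ht z hz
    obtain ⟨k, hk⟩ := Subgroup.mem_zpowers_iff.mp hz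
    rcases Int.even_or_odd k with ⟨m, hm⟩ | ⟨m, hm⟩
    · left; rw [← hk, hm, ← two_mul, zpow_mul, zpow_two, ht, one_zpow]
    · right; rw [← hk, hm, zpow_add, zpow_mul, zpow_two, ht, one_zpow, zpow_one, one_mul]
  have hxx : x * x = 1 := by
    have := pow_orderOf_eq_one x
    rwa [hxo, pow_two] at this
  have hx1 : x ≠ 1 := fun e1 => by rw [e1, orderOf_one] at hxo; omega
  let π := e.toMonoidHom.comp (QuotientGroup.mk'
    ((Subgroup.zpowers x).subgroupOf (Subgroup.centralizer ({x} : Set (C ⧸ N)))))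
  have hext : Cfsg.Agent.H93.TwoExt π ⟨x, Cfsg.Agent.H93.mem_cent (Commute.refl x)⟩ := by
    refine ⟨e.surjective.comp (QuotientGroup.mk'_surjective _), fun y hy => ?_, Subtype.ext hxx,
      fun y => Subtype.ext (Subgroup.mem_centralizer_singleton_iff.mp y.2).symm⟩
    have hy' : y ∈ (Subgroup.zpowers x).subgroupOf (Subgroup.centralizer ({x} : Set (C ⧸ N))) := by
      rw [← QuotientGroup.eq_one_iff]
      exact e.injective (hy.trans (map_one e).symm)
    rcases two_elems x hxx _ (Subgroup.mem_subgroupOf.mp hy') with q | q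
    · exact Or.inl (Subtype.ext q)
    · exact Or.inr (Subtype.ext q)
  have hxE : x ∈ E := hdata.mem_of_ext hK hx1 hext
  have hall : ∀ c ∈ E, ∃ π' : ↥(Subgroup.centralizer ({c} : Set (C ⧸ N))) →* Cfsg.PSU 6 K 2,
      Cfsg.Agent.H93.TwoExt π' ⟨c, Cfsg.Agent.H93.mem_cent (Commute.refl c)⟩ := by
    intro c hc
    obtain ⟨g, rfl⟩ := isConj_iff.mp (hdata.core.cls x hxE c hc)
    exact Cfsg.Agent.H93.ext_of_conj hext g
  have hker : ∀ y : C, (QuotientGroup.mk y : C ⧸ N) = 1 → y = 1 ∨ y = ⟨d, hdC⟩ := fun y hy => by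
    rcases two_elems d hdd _ (Subgroup.mem_subgroupOf.mp ((QuotientGroup.eq_one_iff y).mp hy))
      with q | q
    · exact Or.inl (Subtype.ext q)
    · exact Or.inr (Subtype.ext q)
  have hlift : ∀ z : C ⧸ N, z * z = 1 → ∃ y : C, (QuotientGroup.mk y : C ⧸ N) = z ∧ y * y = 1 :=
    fun z hz => hdata.lift_invol hK hall (QuotientGroup.mk' N) (QuotientGroup.mk'_surjective N)
      (e := ⟨d, hdC⟩) hker (Subtype.ext hdd)
      (fun y => Subtype.ext (Subgroup.mem_centralizer_singleton_iff.mp y.2).symm) hz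
  have hd1 : d ≠ 1 := fun e1 => by rw [e1, orderOf_one] at hd; omega
  refine ⟨fun z hz => ?_, ?_⟩
  · obtain ⟨y, hy, hy2⟩ := hlift z (by
      have := pow_orderOf_eq_one z
      rwa [hz, pow_two] at this)
    refine ⟨y, orderOf_eq_prime (by rw [pow_two]; exact hy2) fun e1 => ?_, hy⟩
    rw [e1, QuotientGroup.mk_one] at hy
    rw [← hy, orderOf_one] at hz
    exact absurd hz (by norm_num)
  · rintro ⟨g, hg⟩
    rw [pow_two] at hg
    have hgC : g ∈ C := Subgroup.mem_centralizer_singleton_iff.mpr (by rw [← hg, mul_assoc])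
    obtain ⟨y, hy, hy2⟩ := hlift (QuotientGroup.mk ⟨g, hgC⟩) (by
      rw [← QuotientGroup.mk_mul, QuotientGroup.eq_one_iff]
      exact Subgroup.mem_subgroupOf.mpr (by simp [hg]))
    have hy' : (y : G) * y = 1 := congrArg Subtype.val hy2
    rcases hker (y⁻¹ * ⟨g, hgC⟩) (by rw [QuotientGroup.mk_mul, QuotientGroup.mk_inv, hy,
        inv_mul_cancel]) with q | q
    · have : y = ⟨g, hgC⟩ := inv_mul_eq_one.mp q
      rw [this] at hy'
      exact hd1 (hg.symm.trans hy')
    · have h2 : g = (y : G) * d := congrArg Subtype.val (inv_mul_eq_iff_eq_mul.mp q)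
      have hc : d * (y : G) = y * d := (Subgroup.mem_centralizer_singleton_iff.mp y.2).symm
      apply hd1
      calc d = g * g := hg.symm
        _ = (y : G) * (d * y) * d := by rw [h2]; group
        _ = ((y : G) * y) * (d * d) := by rw [hc]; group
        _ = 1 := by rw [hy', hdd, one_mul]

end Cfsg.Agent.S5453
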