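import Cfsg.Statements.S5454
import Cfsg.Agent.S5452
import Cfsg.Agent.H93.U6Rank
import Cfsg.Agent.H93.Orbit
-- import your own Cfsg.Agent.* helpers here

set_option autoImplicit false
open Cfsg

namespace Cfsg.Agent.S5454

open Cfsg.Agent.H93

/-- Let G be a finite group with an involution d whose centralizer C is quasisimple with C modulo the subgroup generated by d isomorphic to the projective special unitary group of dimension 6 over the field with four elements, and suppose some conjugate of d other than d commutes with d. Let S be a Sylow 2-subgroup of C and A the Thompson subgroup of S (generated by the elementary abelian subgroups of S of largest order), regarded as a subgroup of G. Then A is elementary abelian of order 2^10, exactly 22 conjugates of d lie in A, and the normalizer of A permutes them transitively. -/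
theorem result {G : Type*} [Group G] [Finite G] (d : G) (hd : orderOf d = 2) (hq : Cfsg.IsQuasisimple ↥(Subgroup.centralizer ({d} : Set G))) [hzn : ((Subgroup.zpowers d).subgroupOf (Subgroup.centralizer ({d} : Set G))).Normal] (K : Type) [Field K] [Fintype K] (hK : Fintype.card K = 4) (e : ↥(Subgroup.centralizer ({d} : Set G)) ⧸ (Subgroup.zpowers d).subgroupOf (Subgroup.centralizer ({d} : Set G)) ≃* Cfsg.PSU 6 K 2) (hnwc : ∃ g : G, g * d * g⁻¹ ∈ Subgroup.centralizer ({d} : Set G) ∧ g * d * g⁻¹ ≠ d) (S : Sylow 2 ↥(Subgroup.centralizer ({d} : Set G))) (A : Subgroup G) (hA : A = (Cfsg.thompsonSubgroupOf 2 (S : Subgroup ↥(Subgroup.centralizer ({d} : Set G)))).map (Subgroup.centralizer ({d} : Set G)).subtype) : Cfsg.IsElementaryAbelian 2 A ∧ Nat.card A = 2 ^ 10 ∧ Set.ncard {x : G | x ∈ A ∧ IsConj d x} = 22 ∧ ∀ x ∈ A, ∀ y ∈ A, IsConj d x → IsConj d y → ∃ n ∈ Subgroup.normalizer (A : Set G), n * x * n⁻¹ = y := by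
  classical
  have hns := (Cfsg.Agent.S5452.result d hd hq K hK e hnwc).2
  have hdd : d * d = 1 := by
    have := pow_orderOf_eq_one d
    rwa [hd, pow_two] at this
  have hd1 : d ≠ 1 := fun e1 => by rw [e1, orderOf_one] at hd; omega
  let C := Subgroup.centralizer ({d} : Set G)
  have hdC : d ∈ C := Subgroup.mem_centralizer_singleton_iff.mpr rfl
  let N := (Subgroup.zpowers d).subgroupOf C
  have hmemN : ∀ x : C, x ∈ N → x = 1 ∨ x = ⟨d, hdC⟩ := by
    intro x hx
    obtain ⟨k, hk⟩ := Subgroup.mem_zpowers_iff.mp (Subgroup.mem_subgroupOf.mp hx)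
    rcases Int.even_or_odd k with ⟨m, hm⟩ | ⟨m, hm⟩
    · left; apply Subtype.ext
      rw [← hk, hm, ← two_mul, zpow_mul, zpow_two, hdd, one_zpow]; rfl
    · right; apply Subtype.ext
      rw [← hk, hm, zpow_add, zpow_mul, zpow_two, hdd, one_zpow, zpow_one, one_mul]
  let π : C →* Cfsg.PSU 6 K 2 := e.toMonoidHom.comp (QuotientGroup.mk' N)
  set d' : C := ⟨d, hdC⟩
  have hext : TwoExt π d' := by
    refine ⟨e.surjective.comp (QuotientGroup.mk'_surjective N), fun x hx => hmemN x ?_, Subtype.ext hdd,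
      fun x => Subtype.ext (Subgroup.mem_centralizer_singleton_iff.mp x.2).symm⟩
    rw [← QuotientGroup.eq_one_iff]
    exact e.injective (hx.trans (map_one e).symm)
  have hperf : commutator C = ⊤ := hq.1.commutator_eq_top
  obtain ⟨Y, hY⟩ := hext.exists_ptClass hK fun e1 => hd1 (congrArg Subtype.val e1)
  obtain ⟨P, Q, p, hJ⟩ := hY.thompson_sylow hK S
  set AC := prePlane hK π p
  have hA' : A = AC.map C.subtype := hA.trans (by rw [hJ])
  obtain ⟨hab, hsq⟩ := hY.prePlane_elem hK p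
  have hcard : Nat.card A = 2 ^ 10 := by
    rw [hA', ← Nat.card_congr (AC.equivMapOfInjective _ (Subgroup.subtype_injective C)).toEquiv,
      hY.card_prePlane hK p]
    norm_num
  have habA : ∀ x ∈ A, ∀ y ∈ A, Commute x y := by
    rw [hA']; rintro _ ⟨x, hx, rfl⟩ _ ⟨y, hy, rfl⟩; exact (hab x hx y hy).map C.subtype
  have hsqA : ∀ x ∈ A, x * x = 1 := by
    rw [hA']; rintro _ ⟨x, hx, rfl⟩; rw [← map_mul, hsq x hx, map_one]
  have memA : ∀ {x : C}, x ∈ AC → (x : G) ∈ A := fun {x} hx => hA'.symm ▸ ⟨x, hx, rfl⟩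
  have hdA : d ∈ A := memA (x := d') (hY.d_mem hK p)
  -- the normalizer is transitive
  have trans : ∀ x ∈ A, IsConj d x → ∃ n ∈ Subgroup.normalizer (A : Set G), n * d * n⁻¹ = x := by
    intro x hx hcx
    obtain ⟨g, hg⟩ := isConj_iff.mp hcx
    set B := (A.map (MulAut.conj g⁻¹).toMonoidHom).subgroupOf C with hB
    have hle : A.map (MulAut.conj g⁻¹).toMonoidHom ≤ C := by
      rintro _ ⟨a, ha, rfl⟩
      refine Subgroup.mem_centralizer_singleton_iff.mpr ?_
      have h1 := ((habA a ha x hx).map (MulAut.conj g⁻¹).toMonoidHom).eq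
      have h2 : (MulAut.conj g⁻¹).toMonoidHom x = d := by
        rw [← hg]; show g⁻¹ * (g * d * g⁻¹) * g⁻¹⁻¹ = d; group
      rwa [h2] at h1
    have hBc : Nat.card B = 1024 := by
      rw [hB, Nat.card_congr (Subgroup.subgroupOfEquivOfLe hle).toEquiv,
        ← Nat.card_congr (A.equivMapOfInjective _ (MulAut.conj g⁻¹).injective).toEquiv, hcard]
      norm_num
    obtain ⟨k, hk⟩ := hY.big_eq_conj hK p B
      (fun a ha b hb => by
        obtain ⟨a', ha', ea⟩ := ha
        obtain ⟨b', hb', eb⟩ := hb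
        refine Subtype.ext (show (a : G) * b = b * a from ?_)
        rw [show (a : G) = (MulAut.conj g⁻¹).toMonoidHom a' from ea.symm,
          show (b : G) = (MulAut.conj g⁻¹).toMonoidHom b' from eb.symm, ← map_mul, ← map_mul,
          (habA a' ha' b' hb').eq])
      (fun a ha => by
        obtain ⟨a', ha', ea⟩ := ha
        refine Subtype.ext (show (a : G) * a = 1 from ?_)
        rw [show (a : G) = (MulAut.conj g⁻¹).toMonoidHom a' from ea.symm, ← map_mul, hsqA a' ha',
          map_one]) hBc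
    have hk2 : A.map (MulAut.conj g⁻¹).toMonoidHom = A.map (MulAut.conj (k : G)).toMonoidHom := by
      have := congrArg (Subgroup.map C.subtype) hk
      rw [hB, Subgroup.subgroupOf_map_subtype, inf_of_le_left hle] at this
      rw [this, hA', Subgroup.map_map, Subgroup.map_map]
      rfl
    have hk3 : A.map (MulAut.conj (g * (k : G))).toMonoidHom = A := by
      have := congrArg (Subgroup.map (MulAut.conj g).toMonoidHom) hk2
      rw [Subgroup.map_map, Subgroup.map_map] at this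
      convert this.symm using 1
      · congr 1; ext a; simp [MulAut.conj_apply, mul_assoc]
      · conv_lhs => rw [← Subgroup.map_id A]
        congr 1; ext a; simp [MulAut.conj_apply, mul_assoc]
    refine ⟨g * k, Subgroup.mem_normalizer_iff_map_conj_eq.mpr hk3, ?_⟩
    rw [show g * (k : G) * d * (g * (k : G))⁻¹ = g * ((k : G) * d * (k : G)⁻¹) * g⁻¹ by group,
      Subgroup.mem_centralizer_singleton_iff.mp k.2, mul_inv_cancel_right, hg]
  refine ⟨isElem_iff.mpr ⟨habA, hsqA⟩, hcard, ?_, fun x hx y hy hcx hcy => ?_⟩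
  swap
  · obtain ⟨n, hn, en⟩ := trans x hx hcx
    obtain ⟨m, hm, em⟩ := trans y hy hcy
    exact ⟨m * n⁻¹, mul_mem hm (inv_mem hn), by rw [← en, ← em]; group⟩
  -- the conjugates inside the centraliser
  set Ω : Set C := {x | x ∈ AC ∧ IsConj d (x : G)} with hΩdef
  have himg : {x : G | x ∈ A ∧ IsConj d x} = Subtype.val '' Ω := by
    ext x
    constructor
    · rintro ⟨hx, hc⟩
      rw [hA'] at hx
      obtain ⟨y, hy, rfl⟩ := hx
      exact ⟨y, ⟨hy, hc⟩, rfl⟩
    · rintro ⟨y, ⟨hy, hc⟩, rfl⟩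
      exact ⟨memA hy, hc⟩
  rw [himg, Set.ncard_image_of_injective _ Subtype.val_injective]
  have hdΩ : d' ∈ Ω := ⟨hY.d_mem hK p, IsConj.refl _⟩
  have nsq : ∀ x : C, x ∈ Ω → ¬ ∃ y : C, y * y = x := by
    rintro x ⟨-, hc⟩ ⟨y, hy⟩
    obtain ⟨g, hg⟩ := isConj_iff.mp hc
    refine hns ⟨g⁻¹ * (y : G) * g, ?_⟩
    rw [pow_two, show g⁻¹ * (y : G) * g * (g⁻¹ * y * g) = g⁻¹ * ((y : G) * y) * g by group,
      show (y : G) * y = g * d * g⁻¹ from (congrArg Subtype.val hy).trans hg.symm]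
    group
  have one_not : (1 : C) ∉ Ω := fun h => nsq 1 h ⟨1, one_mul 1⟩
  have fuse : ∀ x y k : C, x ∈ Ω → y ∈ AC → k * x * k⁻¹ = y → y ∈ Ω := fun x y k hx hy hk =>
    ⟨hy, hx.2.trans (isConj_iff.mpr ⟨(k : G), congrArg Subtype.val hk⟩)⟩
  set K1 := shift d' (pts Y P)
  set T := shift d' (prs Y P)
  set Z := tris Y d' P
  set O := pts Y P ∪ prs Y P
  have kinds : (AC : Set C) = {1, d'} ∪ pts Y P ∪ K1 ∪ prs Y P ∪ T ∪ Z := hY.kinds_eq hK p
  have inK : ∀ {x}, x ∈ K1 → x ∈ AC := fun hx => by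
    rw [← SetLike.mem_coe, kinds]; exact Or.inl (Or.inl (Or.inl (Or.inr hx)))
  have inT : ∀ {x}, x ∈ T → x ∈ AC := fun hx => by
    rw [← SetLike.mem_coe, kinds]; exact Or.inl (Or.inr hx)
  have inZ : ∀ {x}, x ∈ Z → x ∈ AC := fun hx => by
    rw [← SetLike.mem_coe, kinds]; exact Or.inr hx
  have inO : ∀ {x}, x ∈ O → x ∈ AC := fun hx => by
    rw [← SetLike.mem_coe, kinds]
    rcases hx with h | h
    exacts [Or.inl (Or.inl (Or.inl (Or.inl (Or.inr h)))), Or.inl (Or.inl (Or.inr h))]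
  have notO : ∀ x ∈ O, x ∉ Ω := fun x hx h => nsq x h (hY.square_of_small hK hx p)
  have hsub : ∀ x ∈ Ω, x = d' ∨ x ∈ K1 ∨ x ∈ T ∨ x ∈ Z := by
    intro x hx
    have h : x ∈ (AC : Set C) := hx.1
    rw [kinds] at h
    rcases h with ((((h | h) | h) | h) | h) | h
    · rcases h with rfl | rfl
      exacts [absurd hx one_not, Or.inl rfl]
    · exact absurd hx (notO x (Or.inl h))
    · exact Or.inr (Or.inl h)
    · exact absurd hx (notO x (Or.inr h))
    · exact Or.inr (Or.inr (Or.inl h))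
    · exact Or.inr (Or.inr (Or.inr h))
  have allK : ∀ x ∈ K1, x ∈ Ω → ∀ y ∈ K1, y ∈ Ω := fun x hx hΩ y hy => by
    obtain ⟨k, hk⟩ := hY.shift_conj hK (fun a ha b hb => hY.pts_conj hK ha hb) hx hy
    exact fuse x y k hΩ (inK hy) hk
  have allT : ∀ x ∈ T, x ∈ Ω → ∀ y ∈ T, y ∈ Ω := fun x hx hΩ y hy => by
    obtain ⟨k, hk⟩ := hY.shift_conj hK (fun a ha b hb => hY.prs_conj hK p ha hb) hx hy
    exact fuse x y k hΩ (inT hy) hk
  have allZ : ∀ x ∈ Z, x ∈ Ω → ∀ y ∈ Z, y ∈ Ω := fun x hx hΩ y hy => by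
    obtain ⟨k, hk⟩ := hY.tris_conj hK hperf hx hy
    exact fuse x y k hΩ (inZ hy) hk
  -- the action of the normalizer
  have back : ∀ {n : G}, n ∈ Subgroup.normalizer (A : Set G) → ∀ x ∈ AC, ∃ y ∈ AC,
      (y : G) = n * x * n⁻¹ := fun {n} hn x hx => by
    have h := (Subgroup.mem_normalizer_iff.mp hn _).mp (memA hx)
    rw [hA'] at h
    obtain ⟨y, hy, e⟩ := h
    exact ⟨y, hy, e⟩
  have keepΩ : ∀ (n : G) (x y : C), x ∈ Ω → y ∈ AC → (y : G) = n * x * n⁻¹ → y ∈ Ω :=
    fun n x y hx hy e => ⟨hy, hx.2.trans (isConj_iff.mpr ⟨n, e.symm⟩)⟩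
  have noprime : ∀ q : ℕ, q.Prime → q ∣ Ω.ncard → ∃ j < 10, q ∣ 2 ^ 10 - 2 ^ j := by
    intro q hq hdvd
    haveI := Fact.mk hq
    refine orbit_prime hcard A.normalizerMonoidHom.range ⟨d, hdA⟩ ?_
    convert hdvd using 1
    rw [← Set.ncard_image_of_injective (MulAction.orbit _ (⟨d, hdA⟩ : ↥A)) Subtype.val_injective,
      ← Set.ncard_image_of_injective Ω Subtype.val_injective, ← himg]
    congr 1
    ext x
    constructor
    · rintro ⟨_, ⟨⟨_, n, rfl⟩, rfl⟩, rfl⟩
      have h := (Subgroup.mem_normalizer_iff.mp n.2 _).mp hdA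
      exact ⟨h, isConj_iff.mpr ⟨n, rfl⟩⟩
    · rintro ⟨hx, hc⟩
      obtain ⟨n, hn, en⟩ := trans x hx hc
      exact ⟨⟨x, hx⟩, ⟨⟨_, ⟨n, hn⟩, rfl⟩, Subtype.ext en⟩, rfl⟩
  have cK : K1.ncard = 21 := by rw [PtClass.ncard_shift hK, hY.card_pts hK p]
  have cT : T.ncard = 210 := by rw [PtClass.ncard_shift hK, hY.card_prs hK p]
  have cZ : Z.ncard = 560 := hY.card_tris hK p
  have dne : ∀ x ∈ K1 ∪ T ∪ Z, x ≠ d' := by
    rintro x hx rfl
    rcases hx with (⟨_, ⟨v, hv, -, rfl⟩, e1⟩ | ⟨_, ⟨u, v, hu, hv, -, -, hs, rfl⟩, e1⟩) |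
      ⟨R, R', r, -, e1⟩
    · have h1 : Y v = 1 := mul_eq_right.mp e1
      exact ptv_ne_one hK hv (by rw [← hY.img v hv, h1, map_one])
    · exact hY.pair_img_ne_one hK hu hv hs (by rw [mul_eq_right.mp e1, map_one])
    · refine (hY.tri_not_small hK r).1 ?_
      rcases e1 with e1 | e1
      · rw [← e1]; exact hext.π_d hK
      · rw [right_eq_mul.mp e1, map_one]
  have π_sh : ∀ y : C, π (y * d') = π y := fun y => by rw [map_mul, hext.π_d hK, mul_one]
  have hKT : Disjoint K1 T := Set.disjoint_left.mpr fun x hx hx' => by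
    obtain ⟨_, ⟨w, hw, -, rfl⟩, rfl⟩ := hx
    obtain ⟨_, ⟨u, v, hu, hv, hum, hvm, hs, rfl⟩, e1⟩ := hx'
    exact hY.pair_img_ne_ptv hK hu hv hw (p.hb_plane hK hum hvm) hs
      (congrArg π (mul_right_cancel e1))
  have tri_img : ∀ x ∈ Z, ∃ R R', Plane R R' ∧ π x = π (tri Y R) := by
    rintro x ⟨R, R', r, -, rfl | rfl⟩
    exacts [⟨R, R', r, rfl⟩, ⟨R, R', r, π_sh _⟩]
  have hKZ : Disjoint K1 Z := Set.disjoint_left.mpr fun x hx hx' => by
    obtain ⟨R, R', r, e1⟩ := tri_img x hx'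
    obtain ⟨_, ⟨w, hw, -, rfl⟩, rfl⟩ := hx
    exact (hY.tri_not_small hK r).2.1 w hw (e1.symm.trans (π_sh _))
  have hTZ : Disjoint T Z := Set.disjoint_left.mpr fun x hx hx' => by
    obtain ⟨R, R', r, e1⟩ := tri_img x hx'
    obtain ⟨_, ⟨u, v, hu, hv, hum, hvm, -, rfl⟩, rfl⟩ := hx
    exact (hY.tri_not_small hK r).2.2 u v hu hv (p.hb_plane hK hum hvm) (e1.symm.trans (π_sh _))
  have hcount : ∀ X : Set C, X ⊆ K1 ∪ T ∪ Z → (∀ x ∈ Ω, x = d' ∨ x ∈ X) → (∀ x ∈ X, x ∈ Ω) →
      Ω.ncard = X.ncard + 1 := by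
    intro X hX h1 h2
    have he : Ω = insert d' X := Set.ext fun x => ⟨h1 x, by rintro (rfl | h); exacts [hdΩ, h2 x h]⟩
    rw [he, Set.ncard_insert_of_notMem fun h => dne _ (hX h) rfl]
  -- some class of the three is fused with `d`
  have some_other : ∃ x ∈ Ω, x ≠ d' := by
    obtain ⟨g, hg, hne⟩ := hnwc
    set x : C := ⟨g * d * g⁻¹, hg⟩
    have hxx : x * x = 1 := Subtype.ext (show g * d * g⁻¹ * (g * d * g⁻¹) = 1 by
      rw [show g * d * g⁻¹ * (g * d * g⁻¹) = g * (d * d) * g⁻¹ by group, hdd, mul_one, mul_inv_cancel])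
    obtain ⟨k, hk⟩ := hY.conj_into hK p hxx
    refine ⟨k * x * k⁻¹, ⟨hk, isConj_iff.mpr ⟨(k : G) * g, ?_⟩⟩, fun e1 => hne ?_⟩
    · show (k : G) * g * d * ((k : G) * g)⁻¹ = (k : G) * (g * d * g⁻¹) * (k : G)⁻¹
      group
    · have e2 : x = k⁻¹ * d' * k := by rw [← e1]; group
      rw [(hext.cen k⁻¹).eq.symm, mul_assoc, inv_mul_cancel, mul_one] at e2
      exact congrArg Subtype.val e2
  by_cases hz : ∃ x ∈ Z, x ∈ Ω
  · exfalso
    obtain ⟨x, hx, hxΩ⟩ := hz
    have zΩ := allZ x hx hxΩ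
    obtain ⟨z, hz, z', hz', hne, hpr, a, ha, b, hb, hab'⟩ := hY.tri_witness hK p
    obtain ⟨n, hn, en⟩ := trans z (memA (inZ hz)) (zΩ z hz).2
    have hn' : n⁻¹ ∈ Subgroup.normalizer (A : Set G) := inv_mem hn
    by_cases hT : ∃ x ∈ T, x ∈ Ω <;> by_cases hK1 : ∃ x ∈ K1, x ∈ Ω
    · -- everything but the squares
      obtain ⟨t, ht, htΩ⟩ := hT
      obtain ⟨u, hu, huΩ⟩ := hK1
      have small : ∀ a ∈ O, ∀ a' ∈ AC, (a' : G) = n⁻¹ * a * n⁻¹⁻¹ → a' ∈ O := by
        intro a ha a' ha' e1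
        have h : a' ∈ (AC : Set C) := ha'
        have back' : a' ∈ Ω → False := fun h' => notO a ha (keepΩ n a' a h' (inO ha) (by rw [e1]; group))
        rw [kinds] at h
        rcases h with ((((h | h) | h) | h) | h) | h
        · rcases h with rfl | rfl
          · exfalso
            have : (a : G) = 1 := by
              have := congrArg (fun q => n * q * n⁻¹) e1
              simpa [mul_assoc] using this.symm
            have a1 : a = 1 := Subtype.ext this
            rcases ha with ⟨v, hv, -, ev⟩ | ⟨w, v, hw, hv, -, -, hs, ev⟩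
            · exact ptv_ne_one hK hv (by rw [← hY.img v hv, ← ev, a1, map_one])
            · exact hY.pair_img_ne_one hK hw hv hs (by rw [← ev, a1, map_one])
          · exact (back' hdΩ).elim
        · exact Or.inl h
        · exact (back' (allK u hu huΩ _ h)).elim
        · exact Or.inr h
        · exact (back' (allT t ht htΩ _ h)).elim
        · exact (back' (zΩ _ h)).elim
      obtain ⟨a', ha', ea⟩ := back hn' a (inO ha)
      obtain ⟨b', hb', eb⟩ := back hn' b (inO hb)
      refine hY.small_mul_ne hK (small a ha a' ha' ea) (small b hb b' hb' eb) p (Subtype.ext ?_)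
      show (a' : G) * b' = d
      rw [ea, eb, show n⁻¹ * (a : G) * n⁻¹⁻¹ * (n⁻¹ * b * n⁻¹⁻¹) = n⁻¹ * ((a : G) * b) * n by group,
        show (a : G) * b = z from (congrArg Subtype.val hab').symm, ← en]
      group
    · -- pairs and triples
      obtain ⟨t, ht, htΩ⟩ := hT
      have := hcount (T ∪ Z) (Set.union_subset (fun y hy => Or.inl (Or.inr hy)) (fun y hy => Or.inr hy))
        (fun y hy => by
          rcases hsub y hy with q | q | q | q
          exacts [Or.inl q, absurd ⟨y, q, hy⟩ hK1, Or.inr (Or.inl q), Or.inr (Or.inr q)])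
        (by rintro y (hy | hy); exacts [allT t ht htΩ y hy, zΩ y hy])
      rw [Set.ncard_union_eq hTZ, cT, cZ] at this
      obtain ⟨j, hj, hdiv⟩ := noprime 257 (by norm_num) (this ▸ ⟨3, by norm_num⟩)
      interval_cases j <;> norm_num at hdiv
    · -- points and triples
      obtain ⟨u, hu, huΩ⟩ := hK1
      have := hcount (K1 ∪ Z) (Set.union_subset (fun y hy => Or.inl (Or.inl hy)) (fun y hy => Or.inr hy))
        (fun y hy => by
          rcases hsub y hy with q | q | q | q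
          exacts [Or.inl q, Or.inr (Or.inl q), absurd ⟨y, q, hy⟩ hT, Or.inr (Or.inr q)])
        (by rintro y (hy | hy); exacts [allK u hu huΩ y hy, zΩ y hy])
      rw [Set.ncard_union_eq hKZ, cK, cZ] at this
      obtain ⟨j, hj, hdiv⟩ := noprime 97 (by norm_num) (this ▸ ⟨6, by norm_num⟩)
      interval_cases j <;> norm_num at hdiv
    · -- triples only
      obtain ⟨w, hw, ew⟩ := back hn' z' (inZ hz')
      have wΩ : w ∈ Ω := keepΩ n⁻¹ z' w (zΩ z' hz') hw ew
      have wne : w ≠ d' := fun e1 => hne (Subtype.ext (by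
        rw [e1] at ew
        have := congrArg (fun q => n * q * n⁻¹) ew
        rw [← en]
        simpa [d', mul_assoc] using this))
      have wZ : w ∈ Z := by
        rcases hsub w wΩ with q | q | q | q
        exacts [absurd q wne, absurd ⟨w, q, wΩ⟩ hK1, absurd ⟨w, q, wΩ⟩ hT, q]
      obtain ⟨R, R', r, hR, hwR⟩ := wZ
      have wdZ : w * d' ∈ Z := ⟨R, R', r, hR, by
        rcases hwR with q | q
        · exact Or.inr (by rw [q])
        · exact Or.inl (by rw [q, mul_assoc, hext.sq, mul_one])⟩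
      refine notO (z * z') (Or.inr hpr) (keepΩ n (w * d') (z * z') (zΩ _ wdZ)
        (mul_mem (inZ hz) (inZ hz')) ?_)
      rw [(hext.cen w).eq.symm]
      show (z : G) * z' = n * (d * (w : G)) * n⁻¹
      rw [ew, ← en]
      group
  have hzΩ : ∀ y ∈ Ω, y ∉ Z := fun y hy h => hz ⟨y, h, hy⟩
  by_cases hT : ∃ x ∈ T, x ∈ Ω
  · exfalso
    obtain ⟨t, ht, htΩ⟩ := hT
    by_cases hK1 : ∃ x ∈ K1, x ∈ Ω
    · obtain ⟨u, hu, huΩ⟩ := hK1
      have := hcount (K1 ∪ T) (Set.union_subset (fun y hy => Or.inl (Or.inl hy))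
          (fun y hy => Or.inl (Or.inr hy)))
        (fun y hy => by
          rcases hsub y hy with q | q | q | q
          exacts [Or.inl q, Or.inr (Or.inl q), Or.inr (Or.inr q), absurd q (hzΩ y hy)])
        (by rintro y (hy | hy); exacts [allK u hu huΩ y hy, allT t ht htΩ y hy])
      rw [Set.ncard_union_eq hKT, cK, cT] at this
      obtain ⟨j, hj, hdiv⟩ := noprime 29 (by norm_num) (this ▸ ⟨8, by norm_num⟩)
      interval_cases j <;> norm_num at hdiv
    · have := hcount T (fun y hy => Or.inl (Or.inr hy))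
        (fun y hy => by
          rcases hsub y hy with q | q | q | q
          exacts [Or.inl q, absurd ⟨y, q, hy⟩ hK1, Or.inr q, absurd q (hzΩ y hy)])
        (allT t ht htΩ)
      rw [cT] at this
      obtain ⟨j, hj, hdiv⟩ := noprime 211 (by norm_num) (this ▸ dvd_rfl)
      interval_cases j <;> norm_num at hdiv
  obtain ⟨x, hxΩ, hxne⟩ := some_other
  have hxK : x ∈ K1 := by
    rcases hsub x hxΩ with q | q | q | q
    exacts [absurd q hxne, q, absurd ⟨x, q, hxΩ⟩ hT, absurd q (hzΩ x hxΩ)]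
  rw [hcount K1 (fun y hy => Or.inl (Or.inl hy))
    (fun y hy => by
      rcases hsub y hy with q | q | q | q
      exacts [Or.inl q, Or.inr q, absurd ⟨y, q, hy⟩ hT, absurd q (hzΩ y hy)])
    (allK x hxK hxΩ), cK]

end Cfsg.Agent.S5454
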