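import Cfsg.Statements.S5455
import Cfsg.Agent.S5453
import Cfsg.Agent.H93.DoubleConj
-- import your own Cfsg.Agent.* helpers here

set_option autoImplicit false
open Cfsg

namespace Cfsg.Agent.S5455

open Cfsg.Agent.H93

/-- Let G be a finite group with an involution d whose centralizer C is quasisimple, such that C modulo the subgroup generated by d is of type M(22) with respect to some conjugacy class of 3-transpositions generating it and also has an involution whose own centralizer is quasisimple with quotient by it isomorphic to the projective special unitary group of dimension 6 over the field with four elements and which is not weakly closed in that centralizer; and suppose some conjugate of d other than d commutes with d. Let S be a Sylow 2-subgroup of C and A the Thompson subgroup of S, regarded as a subgroup of G. Then A is elementary abelian of order 2^11, exactly 23 conjugates of d lie in A, and the normalizer of A permutes them transitively. -/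
theorem result {G : Type*} [Group G] [Finite G] (d : G) (hd : orderOf d = 2) (hq : Cfsg.IsQuasisimple ↥(Subgroup.centralizer ({d} : Set G))) [hzn : ((Subgroup.zpowers d).subgroupOf (Subgroup.centralizer ({d} : Set G))).Normal] (htype : ∃ E : Set (↥(Subgroup.centralizer ({d} : Set G)) ⧸ (Subgroup.zpowers d).subgroupOf (Subgroup.centralizer ({d} : Set G))), Cfsg.IsThreeTranspositionClass E ∧ Cfsg.IsOfTypeM22 _ E) (hinvol : ∃ d' : ↥(Subgroup.centralizer ({d} : Set G)) ⧸ (Subgroup.zpowers d).subgroupOf (Subgroup.centralizer ({d} : Set G)), orderOf d' = 2 ∧ Cfsg.IsQuasisimple ↥(Subgroup.centralizer ({d'} : Set _)) ∧ (∃ (K : Type) (_ : Field K) (_ : Fintype K), Fintype.card K = 4 ∧ ∃ _ : ((Subgroup.zpowers d').subgroupOf (Subgroup.centralizer ({d'} : Set _))).Normal, Nonempty (↥(Subgroup.centralizer ({d'} : Set _)) ⧸ (Subgroup.zpowers d').subgroupOf (Subgroup.centralizer ({d'} : Set _)) ≃* Cfsg.PSU 6 K 2)) ∧ ∃ g, g * d' * g⁻¹ ∈ Subgroup.centralizer ({d'} : Set _) ∧ g * d'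 * g⁻¹ ≠ d') (hnwc : ∃ g : G, g * d * g⁻¹ ∈ Subgroup.centralizer ({d} : Set G) ∧ g * d * g⁻¹ ≠ d) (S : Sylow 2 ↥(Subgroup.centralizer ({d} : Set G))) (A : Subgroup G) (hA : A = (Cfsg.thompsonSubgroupOf 2 (S : Subgroup ↥(Subgroup.centralizer ({d} : Set G)))).map (Subgroup.centralizer ({d} : Set G)).subtype) : Cfsg.IsElementaryAbelian 2 A ∧ Nat.card A = 2 ^ 11 ∧ Set.ncard {x : G | x ∈ A ∧ IsConj d x} = 23 ∧ ∀ x ∈ A, ∀ y ∈ A, IsConj d x → IsConj d y → ∃ n ∈ Subgroup.normalizer (A : Set G), n * x * n⁻¹ = y := by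
  classical
  have hns := (Cfsg.Agent.S5453.result d hd hq htype hinvol hnwc).2
  obtain ⟨E, hE, h22⟩ := htype
  obtain ⟨x0, hx0, hxq, ⟨K0, iK0, iKF0, hK0, hn0, ⟨e0⟩⟩, -⟩ := hinvol
  have hdd : d * d = 1 := by
    have := pow_orderOf_eq_one d
    rwa [hd, pow_two] at this
  have hd1 : d ≠ 1 := fun e1 => by rw [e1, orderOf_one] at hd; omega
  let C := Subgroup.centralizer ({d} : Set G)
  let N := (Subgroup.zpowers d).subgroupOf C
  let d' : C := ⟨d, Subgroup.mem_centralizer_singleton_iff.mpr rfl⟩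
  have hmemN : ∀ y : C, (QuotientGroup.mk y : C ⧸ N) = 1 → y = 1 ∨ y = d' := fun y hy => by
    rcases zpowers_invol hdd (Subgroup.mem_subgroupOf.mp ((QuotientGroup.eq_one_iff y).mp hy))
      with q | q
    exacts [Or.inl (Subtype.ext q), Or.inr (Subtype.ext q)]
  obtain ⟨F, iF, iFF, h, K, iK, iKF, hK, hcent, hext⟩ := cent22 hE h22
  have hxx : x0 * x0 = 1 := by
    have := pow_orderOf_eq_one x0
    rwa [hx0, pow_two] at this
  have hx1 : x0 ≠ 1 := fun e1 => by rw [e1, orderOf_one] at hx0; omega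
  have hext0 : TwoExt (e0.toMonoidHom.comp (QuotientGroup.mk' ((Subgroup.zpowers x0).subgroupOf
      (Subgroup.centralizer ({x0} : Set (C ⧸ N)))))) ⟨x0, mem_cent (Commute.refl x0)⟩ := by
    refine ⟨e0.surjective.comp (QuotientGroup.mk'_surjective _), fun y hy => ?_, Subtype.ext hxx,
      fun y => Subtype.ext (Subgroup.mem_centralizer_singleton_iff.mp y.2).symm⟩
    have hy' : y ∈ (Subgroup.zpowers x0).subgroupOf (Subgroup.centralizer ({x0} : Set (C ⧸ N))) := by
      rw [← QuotientGroup.eq_one_iff]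
      exact e0.injective (hy.trans (map_one e0).symm)
    rcases zpowers_invol hxx (Subgroup.mem_subgroupOf.mp hy') with q | q
    · exact Or.inl (Subtype.ext q)
    · exact Or.inr (Subtype.ext q)
  have hxE : x0 ∈ E := h.mem_of_ext hK0 hx1 hext0
  have hperfC : ∀ c ∈ E, commutator ↥(Subgroup.centralizer ({c} : Set (C ⧸ N))) = ⊤ := by
    intro c hc
    obtain ⟨g, rfl⟩ := isConj_iff.mp (h.core.cls x0 hxE c hc)
    let φ : ↥(Subgroup.centralizer ({x0} : Set (C ⧸ N))) →*
        ↥(Subgroup.centralizer ({g * x0 * g⁻¹} : Set (C ⧸ N))) :=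
      ((MulAut.conj g).toMonoidHom.comp (Subgroup.centralizer ({x0} : Set (C ⧸ N))).subtype).codRestrict _
        fun y => mem_cent (commute_conj.mpr (Subgroup.mem_centralizer_singleton_iff.mp y.2).symm)
    have hφ : Function.Surjective φ := fun y => by
      have hy : Commute (g * x0 * g⁻¹) (g * (g⁻¹ * (y : C ⧸ N) * g) * g⁻¹) := by
        rw [show g * (g⁻¹ * (y : C ⧸ N) * g) * g⁻¹ = y by group]
        exact (Subgroup.mem_centralizer_singleton_iff.mp y.2).symm
      refine ⟨⟨g⁻¹ * (y : C ⧸ N) * g, mem_cent (commute_conj.mp hy)⟩, Subtype.ext ?_⟩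
      show g * (g⁻¹ * (y : C ⧸ N) * g) * g⁻¹ = y
      group
    refine top_le_iff.mp ?_
    rw [← Subgroup.map_top_of_surjective φ hφ, ← hxq.1.commutator_eq_top, commutator_def,
      Subgroup.map_commutator, commutator_def]
    exact Subgroup.commutator_mono le_top le_top
  let ρ : C →* C ⧸ N := QuotientGroup.mk' N
  have D : Dbl ρ d' E F K :=
    { data := h, hK := hK, cent := hcent, ext := hext, perfC := hperfC
      perf := hq.1.commutator_eq_top
      surj := QuotientGroup.mk'_surjective N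
      ker := hmemN
      map_d := (QuotientGroup.eq_one_iff d').mpr
        (Subgroup.mem_subgroupOf.mpr (Subgroup.mem_zpowers d))
      cen := fun x => Subtype.ext (Subgroup.mem_centralizer_singleton_iff.mp x.2).symm
      sq := Subtype.ext hdd
      ne := fun e => hd1 (congrArg Subtype.val e)
      nsq := fun x e => hns ⟨(x : G), by rw [pow_two]; exact congrArg Subtype.val e⟩ }
  obtain ⟨X, hJ, hXab, hXsq, hXcard, big, hinto⟩ := D.thompson S
  have hA' : A = (X.comap ρ).map C.subtype := hA.trans (by rw [hJ])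
  have hACsq : ∀ x ∈ X.comap ρ, x * x = 1 := fun x hx => D.invol (hXsq _ hx)
  have hACab : ∀ x ∈ X.comap ρ, ∀ y ∈ X.comap ρ, Commute x y := fun x hx y hy =>
    D.commute (hXsq _ hx) (hXsq _ hy) (hXab _ hx _ hy)
  have habA : ∀ x ∈ A, ∀ y ∈ A, Commute x y := by
    rw [hA']; rintro _ ⟨x, hx, rfl⟩ _ ⟨y, hy, rfl⟩; exact (hACab x hx y hy).map C.subtype
  have hsqA : ∀ x ∈ A, x * x = 1 := by
    rw [hA']; rintro _ ⟨x, hx, rfl⟩; rw [← map_mul, hACsq x hx, map_one]
  have hcardA : Nat.card A = 2 ^ 11 := by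
    rw [hA', ← Nat.card_congr ((X.comap ρ).equivMapOfInjective _ (Subgroup.subtype_injective C)).toEquiv,
      D.card_comap hXcard]
    norm_num
  have memA : ∀ {x : C}, x ∈ X.comap ρ → (x : G) ∈ A := fun {x} hx => hA'.symm ▸ ⟨x, hx, rfl⟩
  have hdAC : d' ∈ X.comap ρ := by show ρ d' ∈ X; rw [D.map_d]; exact one_mem X
  -- the normalizer is transitive
  have trans : ∀ x ∈ A, IsConj d x → ∃ n ∈ Subgroup.normalizer (A : Set G), n * d * n⁻¹ = x := by
    intro x hx hcx
    obtain ⟨g, hg⟩ := isConj_iff.mp hcx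
    set B := (A.map (MulAut.conj g⁻¹).toMonoidHom).subgroupOf C with hB
    have hle : A.map (MulAut.conj g⁻¹).toMonoidHom ≤ C := by
      rintro _ ⟨a, ha, rfl⟩
      refine Subgroup.mem_centralizer_singleton_iff.mpr ?_
      have h1 := ((habA a ha x hx).map (MulAut.conj g⁻¹).toMonoidHom).eq
      have h2 : (MulAut.conj g⁻¹).toMonoidHom x = d := by
        rw [← hg]; show g⁻¹ * (g * d * g⁻¹) * g⁻¹⁻¹ = d; group
      rwa [h2] at h1
    have hBc : Nat.card B = 2048 := by
      rw [hB, Nat.card_congr (Subgroup.subgroupOfEquivOfLe hle).toEquiv,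
        ← Nat.card_congr (A.equivMapOfInjective _ (MulAut.conj g⁻¹).injective).toEquiv, hcardA]
      norm_num
    obtain ⟨k, hk⟩ := big B
      (fun a ha b hb => by
        obtain ⟨a', ha', ea⟩ := ha
        obtain ⟨b', hb', eb⟩ := hb
        refine Subtype.ext (show (a : G) * b = b * a from ?_)
        rw [show (a : G) = (MulAut.conj g⁻¹).toMonoidHom a' from ea.symm,
          show (b : G) = (MulAut.conj g⁻¹).toMonoidHom b' from eb.symm, ← map_mul, ← map_mul,
          (habA a' ha' b' hb').eq])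
      (fun a ha => by
        obtain ⟨a', ha', ea⟩ := ha
        refine Subtype.ext (show (a : G) * a = 1 from ?_)
        rw [show (a : G) = (MulAut.conj g⁻¹).toMonoidHom a' from ea.symm, ← map_mul, hsqA a' ha',
          map_one]) hBc
    have hk2 : A.map (MulAut.conj g⁻¹).toMonoidHom = A.map (MulAut.conj (k : G)).toMonoidHom := by
      have := congrArg (Subgroup.map C.subtype) hk
      rw [hB, Subgroup.subgroupOf_map_subtype, inf_of_le_left hle] at this
      rw [this, hA', Subgroup.map_map, Subgroup.map_map]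
      rfl
    have hk3 : A.map (MulAut.conj (g * (k : G))).toMonoidHom = A := by
      have := congrArg (Subgroup.map (MulAut.conj g).toMonoidHom) hk2
      rw [Subgroup.map_map, Subgroup.map_map] at this
      convert this.symm using 1
      · congr 1; ext a; simp [MulAut.conj_apply, mul_assoc]
      · conv_lhs => rw [← Subgroup.map_id A]
        congr 1; ext a; simp [MulAut.conj_apply, mul_assoc]
    refine ⟨g * k, Subgroup.mem_normalizer_iff_map_conj_eq.mpr hk3, ?_⟩
    rw [show g * (k : G) * d * (g * (k : G))⁻¹ = g * ((k : G) * d * (k : G)⁻¹) * g⁻¹ by group,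
      Subgroup.mem_centralizer_singleton_iff.mp k.2, mul_inv_cancel_right, hg]
  refine ⟨isElem_iff.mpr ⟨habA, hsqA⟩, hcardA, ?_, fun x hx y hy hcx hcy => ?_⟩
  swap
  · obtain ⟨n, hn, en⟩ := trans x hx hcx
    obtain ⟨m, hm, em⟩ := trans y hy hcy
    exact ⟨m * n⁻¹, mul_mem hm (inv_mem hn), by rw [← en, ← em]; group⟩
  -- inside the centraliser
  let eA : ↥(X.comap ρ) ≃* ↥A :=
    ((X.comap ρ).equivMapOfInjective _ (Subgroup.subtype_injective C)).trans
      (MulEquiv.subgroupCongr hA'.symm)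
  have heA : ∀ x, ((eA x : ↥A) : G) = ((x : C) : G) := fun x => rfl
  set Ω : Set ↥(X.comap ρ) := {x | IsConj d ((x : C) : G)} with hΩ
  rw [show {x : G | x ∈ A ∧ IsConj d x} = (fun x : ↥(X.comap ρ) => ((x : C) : G)) '' Ω from Set.ext fun x =>
    ⟨fun q => ⟨eA.symm ⟨x, q.1⟩, by
        show IsConj d ((eA.symm ⟨x, q.1⟩ : C) : G)
        rw [← heA, MulEquiv.apply_symm_apply]; exact q.2, by
        show ((eA.symm ⟨x, q.1⟩ : C) : G) = x
        rw [← heA, MulEquiv.apply_symm_apply]⟩,
      by rintro ⟨y, hy, rfl⟩; exact ⟨memA y.2, hy⟩⟩,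
    Set.ncard_image_of_injective _ (fun x y e => Subtype.ext (Subtype.ext e))]
  refine D.orbit_twenty_three hXab hXsq hXcard hinto
    (A.normalizerMonoidHom.range.map (MulAut.congr eA.symm).toMonoidHom) (dA := ⟨d', hdAC⟩) rfl ?_ ?_ ?_ ?_
  · ext x
    constructor
    · intro hc
      obtain ⟨n, hn, en⟩ := trans _ (memA x.2) hc
      refine ⟨⟨_, _, ⟨⟨n, hn⟩, rfl⟩, rfl⟩, ?_⟩
      show eA.symm (A.normalizerMonoidHom ⟨n, hn⟩ (eA ⟨d', hdAC⟩)) = x
      rw [MulEquiv.symm_apply_eq]
      exact Subtype.ext en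
    · rintro ⟨⟨_, _, ⟨n, rfl⟩, rfl⟩, rfl⟩
      refine isConj_iff.mpr ⟨n, ?_⟩
      show (n : G) * d * (n : G)⁻¹ = ((eA.symm (A.normalizerMonoidHom n (eA ⟨d', hdAC⟩)) : C) : G)
      rw [← heA, MulEquiv.apply_symm_apply]
      rfl
  · intro k x y hx e
    exact IsConj.trans hx (isConj_iff.mpr ⟨(k : G), congrArg Subtype.val e⟩)
  · rintro x hc ⟨y, hy⟩
    obtain ⟨g, hg⟩ := isConj_iff.mp hc
    refine hns ⟨g⁻¹ * (y : G) * g, ?_⟩
    rw [pow_two, show g⁻¹ * (y : G) * g * (g⁻¹ * y * g) = g⁻¹ * ((y : G) * y) * g by group,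
      show (y : G) * y = g * d * g⁻¹ from (congrArg Subtype.val hy).trans hg.symm]
    group
  · obtain ⟨g, hgC, hne⟩ := hnwc
    set x : C := ⟨g * d * g⁻¹, hgC⟩
    have hx2 : x * x = 1 := Subtype.ext (show g * d * g⁻¹ * (g * d * g⁻¹) = 1 by
      rw [show g * d * g⁻¹ * (g * d * g⁻¹) = g * (d * d) * g⁻¹ by group, hdd, mul_one, mul_inv_cancel])
    obtain ⟨l, hl, hlc, hlp⟩ := h.invol_prod hK hext (x := ρ x) (by rw [← map_mul, hx2, map_one])
    obtain ⟨m, hm⟩ := hinto l hl hlc
    obtain ⟨k, rfl⟩ := D.surj m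
    have hk : k * x * k⁻¹ ∈ X.comap ρ := by
      show ρ (k * x * k⁻¹) ∈ X
      rw [map_mul, map_mul, map_inv, ← hlp,
        show ρ k * l.prod * (ρ k)⁻¹ = MulAut.conj (ρ k) l.prod from rfl, map_list_prod]
      refine Subgroup.list_prod_mem _ fun y hy => ?_
      obtain ⟨z, hz, rfl⟩ := List.mem_map.mp hy
      exact hm z hz
    refine ⟨⟨_, hk⟩, isConj_iff.mpr ⟨(k : G) * g, ?_⟩, fun e => hne ?_⟩
    · show (k : G) * g * d * ((k : G) * g)⁻¹ = (k : G) * (g * d * g⁻¹) * (k : G)⁻¹
      group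
    · have e' : (k : G) * (g * d * g⁻¹) * (k : G)⁻¹ = d :=
        congrArg (fun z : ↥(X.comap ρ) => ((z : C) : G)) e
      have h3 : (k : G) * (g * d * g⁻¹) = (k : G) * d := by
        rw [Subgroup.mem_centralizer_singleton_iff.mp k.2]
        calc (k : G) * (g * d * g⁻¹) = (k : G) * (g * d * g⁻¹) * (k : G)⁻¹ * k := by group
          _ = d * k := by rw [e']
      exact mul_left_cancel h3

end Cfsg.Agent.S5455
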