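import Cfsg.Statements.S5459
-- import your own Cfsg.Agent.* helpers here

set_option autoImplicit false
open Cfsg
open scoped commutatorElement

namespace Cfsg.Agent.S5459


theorem inverts_conj {G : Type*} [Group G] (Z : Subgroup G) [hZ : Z.Normal] (d : G)
    (hinv : ∀ c ∈ Z, d * c * d⁻¹ = c⁻¹) {a : G} (ha : a ∈ conjugatesOf d) :
    ∀ c ∈ Z, a * c * a⁻¹ = c⁻¹ := by
  obtain ⟨g, rfl⟩ := isConj_iff.mp ha
  intro c hc
  have h1 : g⁻¹ * c * g ∈ Z := hZ.conj_mem' c hc g
  have h2 := hinv _ h1
  calc g * d * g⁻¹ * c * (g * d * g⁻¹)⁻¹ = g * (d * (g⁻¹ * c * g) * d⁻¹) * g⁻¹ := by group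
    _ = c⁻¹ := by rw [h2]; group

theorem exists_sqrt_inv {G : Type*} [Group G] (Z : Subgroup G) (hodd : Odd (Nat.card Z)) {z : G}
    (hz : z ∈ Z) : ∃ w ∈ Z, w ^ 2 = z⁻¹ := by
  obtain ⟨k, hk⟩ := hodd
  refine ⟨z ^ k, Z.pow_mem hz k, ?_⟩
  have h : (⟨z, hz⟩ : Z) ^ (2 * k + 1) = 1 := by rw [← hk]; exact pow_card_eq_one'
  have h' : z ^ (2 * k + 1) = 1 := by simpa using congrArg Subtype.val h
  rw [← pow_mul, eq_inv_iff_mul_eq_one, ← pow_succ, mul_comm]
  exact h'

theorem fiber_conj {G : Type*} [Group G] (Z : Subgroup G) [hZ : Z.Normal] (hodd : Odd (Nat.card Z))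
    (d : G) (hinv : ∀ c ∈ Z, d * c * d⁻¹ = c⁻¹) {a z : G} (ha : a ∈ conjugatesOf d) (hz : z ∈ Z) :
    a * z ∈ conjugatesOf d := by
  obtain ⟨w, hw, hw2⟩ := exists_sqrt_inv Z hodd hz
  have h := inverts_conj Z d hinv ha w hw
  have : w * a * w⁻¹ = a * z := by
    have h' : a * w⁻¹ = w * a := by
      have h2 := inverts_conj Z d hinv ha w⁻¹ (Z.inv_mem hw)
      rw [inv_inv] at h2
      calc a * w⁻¹ = a * w⁻¹ * a⁻¹ * a := by group
        _ = w * a := by rw [h2]
    calc w * a * w⁻¹ = a * (w ^ 2)⁻¹ := by rw [← h']; group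
      _ = a * z := by rw [hw2, inv_inv]
  exact IsConj.trans ha (isConj_iff.mpr ⟨w, this⟩)

/-- Let G be a finite group with a quasisimple normal subgroup L and an involution d such that G is generated by L and d, the centre of L has odd order, and d inverts every element of the centre of L. If the commuting graph on the conjugacy class of the image of d in G modulo the centre of L is connected, then the commuting graph on the conjugacy class of d is connected. -/
theorem result {G : Type*} [Group G] [Finite G] (L : Subgroup G) [L.Normal] (hL : Cfsg.IsQuasisimple ↥L) (d : G) (hd : orderOf d = 2) (hgen : L ⊔ Subgroup.zpowers d = ⊤) (hodd : Odd (Nat.card ↥(Subgroup.center ↥L))) (hinv : ∀ c ∈ (Subgroup.center ↥L).map L.subtype, d * c * d⁻¹ = c⁻¹) [hn : ((Subgroup.center ↥L).map L.subtype).Normal] (hconn : (Cfsg.commutingGraph (conjugatesOf (QuotientGroup.mk d : G ⧸ (Subgroup.center ↥L).map L.subtype))).Connected) : (Cfsg.commutingGraph (conjugatesOf d)).Connected := by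
  set Z : Subgroup G := (Subgroup.center ↥L).map L.subtype with hZdef
  have hZcard : Odd (Nat.card Z) := by
    rwa [hZdef, Subgroup.card_map_of_injective L.subtype_injective]
  have hZL : Z ≤ L := Subgroup.map_subtype_le _
  have hZcomm : ∀ z ∈ Z, ∀ l ∈ L, z * l = l * z := by
    rintro z ⟨c, hc, rfl⟩ l hl
    exact congrArg Subtype.val (Subgroup.mem_center_iff.mp hc ⟨l, hl⟩).symm
  have hord : ∀ a ∈ conjugatesOf d, a * a = 1 := by
    intro a ha
    obtain ⟨g, rfl⟩ := isConj_iff.mp ha
    have : d * d = 1 := by rw [← sq, ← hd]; exact pow_orderOf_eq_one d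
    calc g * d * g⁻¹ * (g * d * g⁻¹) = g * (d * d) * g⁻¹ := by group
      _ = 1 := by rw [this]; group
  -- lifting of edges
  have lift : ∀ a ∈ conjugatesOf d, ∀ b ∈ conjugatesOf d,
      Commute (QuotientGroup.mk a : G ⧸ Z) (QuotientGroup.mk b) →
      ∃ w ∈ Z, b * w ∈ conjugatesOf d ∧ Commute a (b * w) := by
    intro a ha b hb hab
    have hz : a * b * a * b ∈ Z := by
      rw [← QuotientGroup.eq_one_iff]
      have hA : (a : G ⧸ Z) * a = 1 := by rw [← QuotientGroup.mk_mul, hord a ha]; rfl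
      have hB : (b : G ⧸ Z) * b = 1 := by rw [← QuotientGroup.mk_mul, hord b hb]; rfl
      simp only [QuotientGroup.mk_mul]
      calc (a : G ⧸ Z) * b * a * b = (a : G ⧸ Z) * (b * a) * b := by group
        _ = (a : G ⧸ Z) * ((a : G ⧸ Z) * b) * b := by rw [hab.eq]
        _ = ((a : G ⧸ Z) * a) * ((b : G ⧸ Z) * b) := by group
        _ = 1 := by rw [hA, hB, one_mul]
    obtain ⟨w, hw, hw2⟩ := exists_sqrt_inv Z hZcard hz
    have hc := fiber_conj Z hZcard d hinv hb hw
    refine ⟨w, hw, hc, ?_⟩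
    have hia : a⁻¹ = a := inv_eq_of_mul_eq_one_left (hord a ha)
    have hib : (b * w)⁻¹ = b * w := inv_eq_of_mul_eq_one_left (hord _ hc)
    have h1 : b * a * b⁻¹ * (b * w) = b * (a * w) := by group
    have iw : a * w * a⁻¹ = w⁻¹ := inverts_conj Z d hinv ha w hw
    have jw : b * w⁻¹ * b⁻¹ = w := by
      have := inverts_conj Z d hinv hb w⁻¹ (Z.inv_mem hw); rwa [inv_inv] at this
    have hbi : b⁻¹ = b := inv_eq_of_mul_eq_one_left (hord b hb)
    have key : a * (b * w) * (a * (b * w)) = 1 := by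
      calc a * (b * w) * (a * (b * w)) = a * b * (w * a) * b * w := by group
        _ = a * b * (a * w⁻¹) * b * w := by
          congr 3
          have := inverts_conj Z d hinv ha w⁻¹ (Z.inv_mem hw)
          rw [inv_inv] at this
          calc w * a = a * w⁻¹ * a⁻¹ * a := by rw [this]
            _ = a * w⁻¹ := by group
        _ = a * b * a * (w⁻¹ * b) * w := by group
        _ = a * b * a * (b * w) * w := by
          congr 2
          calc w⁻¹ * b = b * (b⁻¹ * w⁻¹ * b) := by group
            _ = b * w := by rw [hbi]; rw [hbi] at jw; rw [jw]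
        _ = a * b * a * b * w ^ 2 := by simp only [mul_assoc, sq]
        _ = 1 := by rw [hw2, mul_inv_cancel]
    calc a * (b * w) = (a * (b * w))⁻¹ := eq_inv_of_mul_eq_one_left key
      _ = (b * w) * a := by rw [mul_inv_rev, hib, hia]
  let d' : ↥(conjugatesOf d) := ⟨d, mem_conjugatesOf_self⟩
  let Gr := Cfsg.commutingGraph (conjugatesOf d)
  -- reachable set surjects
  have surj : ∀ y, (Cfsg.commutingGraph (conjugatesOf (QuotientGroup.mk d : G ⧸ Z))).Reachable
      ⟨QuotientGroup.mk d, mem_conjugatesOf_self⟩ y →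
      ∃ x : ↥(conjugatesOf d), Gr.Reachable d' x ∧ (QuotientGroup.mk (x : G) : G ⧸ Z) = y := by
    intro y hy
    rw [SimpleGraph.reachable_iff_reflTransGen] at hy
    induction hy with
    | refl => exact ⟨d', SimpleGraph.Reachable.refl _, rfl⟩
    | @tail p q _ hpq ih =>
      obtain ⟨⟨x, hx⟩, hr, hxe⟩ := ih
      obtain ⟨q0, hq0⟩ := q
      obtain ⟨gq, hgq⟩ := isConj_iff.mp hq0
      induction gq using QuotientGroup.induction_on with
      | _ g =>
        have hb : g * d * g⁻¹ ∈ conjugatesOf d := isConj_iff.mpr ⟨g, rfl⟩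
        have hqe : (QuotientGroup.mk (g * d * g⁻¹) : G ⧸ Z) = q0 := by rw [← hgq]; rfl
        simp only [Cfsg.commutingGraph, SimpleGraph.fromRel_adj] at hpq
        have hcm : Commute (QuotientGroup.mk x : G ⧸ Z) (QuotientGroup.mk (g * d * g⁻¹)) := by
          rw [hxe, hqe]
          rcases hpq.2 with h | h
          · exact h
          · exact h.symm
        obtain ⟨w, hw, hc, hcom⟩ := lift x hx _ hb hcm
        have hwq : (QuotientGroup.mk (g * d * g⁻¹ * w) : G ⧸ Z) = q0 := by
          rw [QuotientGroup.mk_mul, (QuotientGroup.eq_one_iff w).mpr hw, mul_one, hqe]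
        refine ⟨⟨_, hc⟩, hr.trans (SimpleGraph.Adj.reachable ?_), hwq⟩
        simp only [Gr, Cfsg.commutingGraph, SimpleGraph.fromRel_adj]
        refine ⟨fun h => hpq.1 ?_, Or.inl hcom⟩
        apply Subtype.ext
        rw [← hxe]
        show (QuotientGroup.mk x : G ⧸ Z) = q0
        rw [← hwq]
        exact congrArg (fun t : ↥(conjugatesOf d) => (QuotientGroup.mk (t : G) : G ⧸ Z)) h
  let P : Set G := {x | ∃ h : x ∈ conjugatesOf d, Gr.Reachable d' ⟨x, h⟩}
  let conjHom : G → (Gr →g Gr) := fun g =>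
    { toFun := fun x => ⟨g * x * g⁻¹, IsConj.trans x.2 (isConj_iff.mpr ⟨g, rfl⟩)⟩
      map_rel' := by
        intro x y h
        simp only [Gr, Cfsg.commutingGraph, SimpleGraph.fromRel_adj] at h ⊢
        refine ⟨fun e => h.1 (Subtype.ext ?_), ?_⟩
        · simpa using congrArg Subtype.val e
        · rcases h.2 with h' | h'
          · exact Or.inl (by simpa [MulAut.conj_apply] using h'.map (MulAut.conj g).toMonoidHom)
          · exact Or.inr (by simpa [MulAut.conj_apply] using h'.map (MulAut.conj g).toMonoidHom) }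
  let M : Subgroup G := Subgroup.closure P
  have hPinv : ∀ a ∈ P, ∀ x ∈ P, a * x * a⁻¹ ∈ P := by
    rintro a ⟨ha, ra⟩ x ⟨hx, rx⟩
    refine ⟨IsConj.trans hx (isConj_iff.mpr ⟨a, rfl⟩), ?_⟩
    have h := ((ra.symm.trans rx)).map (conjHom a)
    have e : conjHom a ⟨a, ha⟩ = ⟨a, ha⟩ := Subtype.ext (by show a * a * a⁻¹ = a; group)
    rw [e] at h
    exact ra.trans h
  have hM : ∀ g ∈ M, ∀ x ∈ P, g * x * g⁻¹ ∈ P ∧ g⁻¹ * x * g ∈ P := by
    intro g hg
    induction hg using Subgroup.closure_induction with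
    | mem a ha =>
      intro x hx
      refine ⟨hPinv a ha x hx, ?_⟩
      have hi : a⁻¹ = a := inv_eq_of_mul_eq_one_left (hord a ha.1)
      have := hPinv a ha x hx
      rw [hi] at this ⊢; exact this
    | one => intro x hx; simpa using hx
    | mul g h _ _ ihg ihh =>
      intro x hx
      constructor
      · have := (ihg _ (ihh x hx).1).1; simpa [mul_assoc] using this
      · have := (ihh _ (ihg x hx).2).2; simpa [mul_assoc] using this
    | inv g _ ih =>
      intro x hx
      exact ⟨by simpa using (ih x hx).2, by simpa using (ih x hx).1⟩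
  -- every conjugate has a lift in P
  have cover : ∀ x ∈ conjugatesOf d, ∃ p ∈ P, p⁻¹ * x ∈ Z := by
    intro x hx
    obtain ⟨g, hg⟩ := isConj_iff.mp hx
    have hxq : (QuotientGroup.mk x : G ⧸ Z) ∈ conjugatesOf (QuotientGroup.mk d : G ⧸ Z) :=
      isConj_iff.mpr ⟨(g : G ⧸ Z), by rw [← hg]; rfl⟩
    obtain ⟨p, hp, hpe⟩ := surj ⟨_, hxq⟩ (hconn.preconnected _ _)
    exact ⟨p, ⟨p.2, hp⟩, QuotientGroup.eq.mp hpe⟩
  have hMtop : ∀ x ∈ conjugatesOf d, x ∈ P := by
    have hdP : d ∈ P := ⟨mem_conjugatesOf_self, SimpleGraph.Reachable.refl _⟩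
    let N : Subgroup G := M ⊔ Z
    have hNnorm : N = Subgroup.normalClosure {d} ⊔ Z := by
      apply le_antisymm
      · refine sup_le ((Subgroup.closure_le _).mpr ?_) le_sup_right
        rintro p ⟨hp, -⟩
        exact Subgroup.mem_sup_left
          (Subgroup.conjugatesOfSet_subset_normalClosure
            (Group.mem_conjugatesOfSet_iff.mpr ⟨d, Set.mem_singleton d, hp⟩))
      · refine sup_le ((Subgroup.closure_le _).mpr ?_) le_sup_right
        intro x hx
        obtain ⟨d0, hd0, hx'⟩ := Group.mem_conjugatesOfSet_iff.mp hx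
        rw [Set.mem_singleton_iff] at hd0
        subst hd0
        obtain ⟨p, hp, hz⟩ := cover x hx'
        have : p * (p⁻¹ * x) ∈ N :=
          N.mul_mem (Subgroup.mem_sup_left (Subgroup.subset_closure hp)) (Subgroup.mem_sup_right hz)
        simpa using this
    haveI : N.Normal := by rw [hNnorm]; infer_instance
    haveI := hL.2
    haveI := hL.1
    haveI : (N.subgroupOf L).Normal := inferInstance
    rcases (Subgroup.Normal.map (inferInstance : (N.subgroupOf L).Normal)
      (QuotientGroup.mk' (Subgroup.center L)) (QuotientGroup.mk'_surjective _)).eq_bot_or_eq_top with h | h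
    · rw [Subgroup.map_eq_bot_iff, QuotientGroup.ker_mk'] at h
      have hdN : d ∈ N := Subgroup.mem_sup_left (Subgroup.subset_closure hdP)
      have hcomZ : ∀ l ∈ L, d * l * d⁻¹ * l⁻¹ ∈ Z := by
        intro l hl
        have hinL : d * l * d⁻¹ * l⁻¹ ∈ L :=
          L.mul_mem ((inferInstance : L.Normal).conj_mem l hl d) (L.inv_mem hl)
        have hinN : d * l * d⁻¹ * l⁻¹ ∈ N := by
          have := N.mul_mem hdN ((inferInstance : N.Normal).conj_mem d⁻¹ (N.inv_mem hdN) l)
          simpa [mul_assoc] using this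
        exact ⟨⟨_, hinL⟩, h (show (⟨_, hinL⟩ : L) ∈ N.subgroupOf L from hinN), rfl⟩
      let φ : L →* Subgroup.center L :=
        { toFun := fun l => ⟨⟨d * l * d⁻¹ * (l : G)⁻¹, hZL (hcomZ l l.2)⟩, by
              obtain ⟨c, hc, hce⟩ := hcomZ l l.2
              have : c = ⟨d * l * d⁻¹ * (l : G)⁻¹, hZL (hcomZ l l.2)⟩ := Subtype.ext hce
              rwa [← this]⟩
          map_one' := by apply Subtype.ext; apply Subtype.ext; simp
          map_mul' := by
            intro l m
            apply Subtype.ext; apply Subtype.ext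
            show d * ((l : G) * m) * d⁻¹ * ((l : G) * m)⁻¹ = d * l * d⁻¹ * (l : G)⁻¹ * (d * m * d⁻¹ * (m : G)⁻¹)
            have := hZcomm _ (hcomZ m m.2) (l : G)⁻¹ (L.inv_mem l.2)
            calc d * ((l : G) * m) * d⁻¹ * ((l : G) * m)⁻¹
                = d * l * d⁻¹ * ((d * m * d⁻¹ * (m : G)⁻¹) * (l : G)⁻¹) := by group
              _ = d * l * d⁻¹ * ((l : G)⁻¹ * (d * m * d⁻¹ * (m : G)⁻¹)) := by rw [this]
              _ = _ := by group }
      have hφ : ∀ l, φ l = 1 := by
        intro l
        open scoped IsMulCommutative in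
        have := Abelianization.commutator_subset_ker φ
          (show l ∈ commutator L by rw [Group.IsPerfect.commutator_eq_top]; trivial)
        exact this
      have hdcent : ∀ l ∈ L, d * l * d⁻¹ = l := by
        intro l hl
        have := congrArg (fun t : Subgroup.center L => ((t : L) : G)) (hφ ⟨l, hl⟩)
        exact mul_inv_eq_one.mp this
      have hcen : d ∈ Subgroup.center G := by
        rw [← Subgroup.centralizer_univ, Subgroup.mem_centralizer_iff]
        intro g _
        have : g ∈ Subgroup.centralizer ({d} : Set G) := by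
          have hle : L ⊔ Subgroup.zpowers d ≤ Subgroup.centralizer ({d} : Set G) := by
            refine sup_le (fun l hl => ?_) ?_
            · rw [Subgroup.mem_centralizer_singleton_iff]
              exact (mul_inv_eq_iff_eq_mul.mp (hdcent l hl)).symm
            · rw [Subgroup.zpowers_le, Subgroup.mem_centralizer_singleton_iff]
          rw [hgen] at hle; exact hle trivial
        rw [Subgroup.mem_centralizer_singleton_iff] at this
        exact this
      intro x hx
      obtain ⟨g, rfl⟩ := isConj_iff.mp hx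
      have : g * d * g⁻¹ = d := by rw [Subgroup.mem_center_iff.mp hcen g]; group
      rw [this]; exact hdP
    · have hLN : L ≤ N := by
        intro l hl
        obtain ⟨m, hm, hme⟩ := Subgroup.mem_map.mp (h.symm ▸ Subgroup.mem_top (QuotientGroup.mk' (Subgroup.center L) ⟨l, hl⟩))
        have hz := QuotientGroup.eq.mp hme
        have hzZ : ((m⁻¹ * ⟨l, hl⟩ : L) : G) ∈ Z := ⟨_, hz, rfl⟩
        have : (m : G) * ((m⁻¹ * ⟨l, hl⟩ : L) : G) ∈ N := N.mul_mem hm (Subgroup.mem_sup_right hzZ)
        simpa using this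
      have hdecomp : ∀ l ∈ L, ∃ m ∈ M, m ∈ L ∧ ∃ z ∈ Z, l = m * z := by
        intro l hl
        have hl' : l ∈ M ⊔ Z := hLN hl
        obtain ⟨m, hm, z, hz, rfl⟩ := Subgroup.mem_sup_of_normal_right.mp hl'
        refine ⟨m, hm, ?_, z, hz, rfl⟩
        have := L.mul_mem hl (L.inv_mem (hZL hz)); simpa using this
      have hLM : L ≤ M := by
        rw [← Subgroup.commutator_eq_self (H := L), Subgroup.commutator_le]
        intro a ha b hb
        obtain ⟨m, hm, hmL, z, hz, rfl⟩ := hdecomp a ha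
        obtain ⟨m', hm', hmL', z', hz', rfl⟩ := hdecomp b hb
        have e : ⁅m * z, m' * z'⁆ = ⁅m, m'⁆ := by
          have e1 : ∀ u ∈ Z, ∀ l ∈ L, u * l * u⁻¹ = l := fun u hu l hl => by
            rw [hZcomm u hu l hl]; group
          calc ⁅m * z, m' * z'⁆ = m * (z * (m' * z') * z⁻¹) * m⁻¹ * (m' * z')⁻¹ := by
                rw [commutatorElement_def]; group
            _ = m * (m' * z') * m⁻¹ * (m' * z')⁻¹ := by rw [e1 z hz _ (L.mul_mem hmL' (hZL hz'))]
            _ = m * m' * (z' * m⁻¹ * z'⁻¹) * m'⁻¹ := by group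
            _ = ⁅m, m'⁆ := by rw [e1 z' hz' _ (L.inv_mem hmL), commutatorElement_def]
        rw [e, commutatorElement_def]
        exact M.mul_mem (M.mul_mem (M.mul_mem hm hm') (M.inv_mem hm)) (M.inv_mem hm')
      have htop : M = ⊤ := by
        rw [eq_top_iff, ← hgen]
        exact sup_le hLM (Subgroup.zpowers_le.mpr (Subgroup.subset_closure hdP))
      intro x hx
      obtain ⟨g, rfl⟩ := isConj_iff.mp hx
      exact (hM g (htop ▸ Subgroup.mem_top g) d hdP).1
  haveI : Nonempty ↥(conjugatesOf d) := ⟨d'⟩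
  refine ⟨fun x y => ?_⟩
  obtain ⟨_, hx⟩ := hMtop x.1 x.2
  obtain ⟨_, hy⟩ := hMtop y.1 y.2
  exact hx.symm.trans hy

end Cfsg.Agent.S5459
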