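import Cfsg.Statements.S5462
import Cfsg.Agent.H93.Unique
import Cfsg.Agent.H93.Fixed
-- import your own Cfsg.Agent.* helpers here

set_option autoImplicit false
open Cfsg

namespace Cfsg.Agent.S5462

/-- Let G be a finite group with trivial centre generated by a conjugation-invariant set D of 3-transpositions on which it acts primitively, such that for some d in D the subgroup generated by the members of D other than d commuting with d has central largest normal 2- and 3-subgroups, and suppose G with D is of type M(22). Then every automorphism of G of order 2 fixes some member of D. -/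
theorem result {G : Type*} [Group G] [Finite G] {D : Set G} (hD : Cfsg.IsThreeTranspositionGroup D) (hprim : Cfsg.IsPrimitiveUnderConj D) (d₀ : G) (hd₀ : d₀ ∈ D) (h3 : Cfsg.pCore 3 ↥(Subgroup.closure {y : G | y ∈ D ∧ y ≠ d₀ ∧ Commute d₀ y}) ≤ Subgroup.center ↥(Subgroup.closure {y : G | y ∈ D ∧ y ≠ d₀ ∧ Commute d₀ y})) (h2 : Cfsg.pCore 2 ↥(Subgroup.closure {y : G | y ∈ D ∧ y ≠ d₀ ∧ Commute d₀ y}) ≤ Subgroup.center ↥(Subgroup.closure {y : G | y ∈ D ∧ y ≠ d₀ ∧ Commute d₀ y})) (h22 : Cfsg.IsOfTypeM22 G D) (φ : MulAut G) (hφ : orderOf φ = 2) : ∃ d ∈ D, φ d = d := by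
  classical
  have htt := Cfsg.Agent.H93.TT.of_group hD
  have hne : ∀ a ∈ D, a ≠ 1 := fun a ha e => by simpa [e] using hD.1.1 a ha
  obtain ⟨hcore, -, -, F, iF, iFF, hF, hsp⟩ := Cfsg.Agent.H93.good22 htt hD.2.2 hne h22
  have hrig := (Cfsg.Agent.H93.rigid22 htt hD.2.2 hne h22).1
  obtain ⟨d, hd, -⟩ := h22.2
  have hinv : ∀ x, φ (φ x) = x := fun x => by
    have := pow_orderOf_eq_one φ
    rw [hφ, pow_two] at this
    exact congrArg (fun f : MulAut G => f x) this
  have hclass : Cfsg.IsThreeTranspositionClass (φ '' D) := by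
    refine ⟨⟨?_, ?_⟩, ⟨φ d, ⟨d, hd, rfl⟩, ?_⟩, ?_⟩
    · rintro _ ⟨x, hx, rfl⟩
      rw [MulEquiv.orderOf_eq]; exact hD.1.1 x hx
    · rintro _ ⟨x, hx, rfl⟩ _ ⟨y, hy, rfl⟩
      rcases hD.1.2 x hx y hy with h | h
      · exact Or.inl (by rw [← map_mul, ← map_pow, h, map_one])
      · exact Or.inr (by rw [← map_mul, ← map_pow, h, map_one])
    · ext z
      constructor
      · rintro ⟨x, hx, rfl⟩
        exact φ.toMonoidHom.map_isConj (hcore.cls d hd x hx)
      · intro hz
        obtain ⟨g, rfl⟩ := isConj_iff.mp hz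
        exact ⟨φ g * d * (φ g)⁻¹, hD.2.1 _ d hd, by simp [hinv]⟩
    · have : (Subgroup.closure D).map φ.toMonoidHom = ⊤ := by
        rw [hD.2.2, Subgroup.map_top_of_surjective _ φ.surjective]
      rw [MonoidHom.map_closure] at this
      exact this
  have himage := Cfsg.Agent.H93.eq_of_rigid hcore hD.2.2 hrig h22.1 hclass
  have hmem : ∀ x ∈ D, φ x ∈ D := fun x hx => himage ▸ ⟨x, hx, rfl⟩
  by_contra hno
  simp only [not_exists, not_and] at hno
  have horth : ∀ x ∈ D, Commute x (φ x) := by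
    intro x hx
    by_contra hn
    refine hno _ (htt.conj_self_mem hx (hmem x hx)) ?_
    rw [map_mul, map_mul, hinv]
    exact (htt.braid hx (hmem x hx) hn).symm
  have hcom : ∀ {x y : G}, Commute x y → Commute (φ x) (φ y) := fun h => h.map φ.toMonoidHom
  obtain ⟨sp⟩ := hsp d hd
  have hd' : φ d ∈ Cfsg.Agent.H93.nb D d := ⟨hmem d hd, hno d hd, horth d hd⟩
  obtain ⟨P, hP, hPd⟩ := sp.surj _ hd'
  refine Cfsg.Agent.H93.Fpf.false (P := P) (sp := sp) (ι := φ)
    ⟨hP, fun y hy => htt.sq y hy.1, fun v hv => ?_, fun v _ v' _ => ⟨hcom, fun h => ?_⟩,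
      fun v _ v' _ => by rw [map_mul, map_mul]⟩ hF
  · rw [hPd] at hv ⊢
    obtain ⟨⟨hvD, hvd, hcv⟩, hvd', hcv'⟩ := hv
    refine ⟨⟨⟨hmem v hvD, fun e => hvd' (by rw [← e, hinv]), ?_⟩, fun e => hvd (φ.injective e),
      hcom hcv⟩, hinv v, horth v hvD, hno v hvD⟩
    have := hcom hcv'
    rwa [hinv] at this
  · have := hcom h
    rwa [hinv, hinv] at this

end Cfsg.Agent.S5462
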