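import Cfsg.Statements.S5468
import Cfsg.Agent.H93.Pair23
-- import your own Cfsg.Agent.* helpers here

set_option autoImplicit false
open Cfsg

namespace Cfsg.Agent.S5468

/-- Let G be a finite group with trivial centre generated by a conjugation-invariant set D of 3-transpositions on which it acts primitively, such that for some d in D the subgroup generated by the members of D other than d commuting with d has central largest normal 2- and 3-subgroups, and suppose G with D is of type M(23). Let d₁, d₂ be distinct commuting members of D, j = d₁ d₂, K the joint centralizer of d₁ and d₂ and C the centralizer of j. Then K has index 2 in C, the centre of K is the subgroup generated by d₁ and d₂, K is quasisimple with K modulo its centre isomorphic to the projective special unitary group of dimension 6 over the field with four elements, and C modulo the subgroup generated by d₁ and d₂ has trivial centre (so it is that unitary group extended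 by an outer involution). -/
theorem result {G : Type*} [Group G] [Finite G] {D : Set G} (hD : Cfsg.IsThreeTranspositionGroup D) (hprim : Cfsg.IsPrimitiveUnderConj D) (d₀ : G) (hd₀ : d₀ ∈ D) (h3 : Cfsg.pCore 3 ↥(Subgroup.closure {y : G | y ∈ D ∧ y ≠ d₀ ∧ Commute d₀ y}) ≤ Subgroup.center ↥(Subgroup.closure {y : G | y ∈ D ∧ y ≠ d₀ ∧ Commute d₀ y})) (h2 : Cfsg.pCore 2 ↥(Subgroup.closure {y : G | y ∈ D ∧ y ≠ d₀ ∧ Commute d₀ y}) ≤ Subgroup.center ↥(Subgroup.closure {y : G | y ∈ D ∧ y ≠ d₀ ∧ Commute d₀ y})) (h23 : Cfsg.IsOfTypeM23 G D) (d₁ d₂ : G) (h₁ : d₁ ∈ D) (h₂ : d₂ ∈ D) (hne : d₁ ≠ d₂) (hc : Commute d₁ d₂) (K C V : Subgroup G) (hK : K = Subgroup.centralizer ({d₁, d₂} : Set G)) (hC : C = Subgroup.centralizer ({d₁ * d₂} : Set G)) (hV : V = Subgroup.closure ({d₁, d₂} : Set G)) [hn : (V.subgroupOf C).Normal] : K ≤ C ∧ (K.subgroupOf C).index = 2 ∧ (Subgroup.center ↥K).map K.subtype = V ∧ Cfsg.IsQuasisimple ↥K ∧ (∃ (F : Type) (_ : Field F) (_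 : Fintype F), Fintype.card F = 4 ∧ Nonempty (↥K ⧸ Subgroup.center ↥K ≃* Cfsg.PSU 6 F 2)) ∧ Subgroup.center (↥C ⧸ V.subgroupOf C) = ⊥ := by
  have h := Cfsg.Agent.H93.m23data (Cfsg.Agent.H93.class_of_group hD hprim) h23
  have htt := h.core.tt
  have hb' : d₂ ∈ Cfsg.Agent.H93.nb D d₁ := ⟨h₂, hne.symm, hc⟩
  subst hK hC hV
  set K := Subgroup.centralizer ({d₁, d₂} : Set G) with hKdef
  set C := Subgroup.centralizer ({d₁ * d₂} : Set G) with hCdef
  set V := Subgroup.closure ({d₁, d₂} : Set G) with hVdef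
  obtain ⟨F, iF, iFF, hF, ψ, hψ, hker⟩ := h.pair_map h₁ hb'
  obtain ⟨hsimp, hcen⟩ := Cfsg.Agent.H93.psu_six_center hF
  have hperf := h.pair_perfect h₁ hb'
  have m1 : d₁ ∈ V := Subgroup.subset_closure (by simp)
  have m2 : d₂ ∈ V := Subgroup.subset_closure (by simp)
  have hl : ∀ z, d₂ * (d₁ * z) = d₁ * (d₂ * z) := fun z => by rw [← mul_assoc, ← hc.eq, mul_assoc]
  have hV4 : ∀ g, g ∈ V → g = 1 ∨ g = d₁ ∨ g = d₂ ∨ g = d₁ * d₂ := by
    intro g hg
    induction hg using Subgroup.closure_induction with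
    | mem y hy => rcases hy with q | q <;> rw [q] <;> simp
    | one => exact Or.inl rfl
    | mul x y _ _ ex ey =>
      rcases ex with q | q | q | q <;> rcases ey with q' | q' | q' | q' <;>
        simp [q, q', htt.sq d₁ h₁, htt.sq d₂ h₂, htt.cancel h₁, htt.cancel h₂, hc.symm.eq, hl, mul_assoc]
    | inv x _ ex =>
      rcases ex with q | q | q | q <;>
        simp [q, htt.inv_eq h₁, htt.inv_eq h₂, hc.symm.eq]
  have hVmem : ∀ g, (g = 1 ∨ g = d₁ ∨ g = d₂ ∨ g = d₁ * d₂) → g ∈ V := by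
    rintro g (q | q | q | q) <;> rw [q]
    exacts [one_mem _, m1, m2, mul_mem m1 m2]
  have hKm : ∀ {g}, g ∈ K ↔ Commute g d₁ ∧ Commute g d₂ := by
    intro g
    rw [hKdef, Subgroup.mem_centralizer_iff]
    exact ⟨fun q => ⟨(q d₁ (by simp)).symm, (q d₂ (by simp)).symm⟩, by
      rintro ⟨q1, q2⟩ s (q | q) <;> rw [q]
      exacts [q1.symm.eq, q2.symm.eq]⟩
  have hVK : V ≤ K := by
    rw [hVdef, Subgroup.closure_le]
    rintro s (q | q) <;> rw [q]
    exacts [hKm.mpr ⟨Commute.refl _, hc⟩, hKm.mpr ⟨hc.symm, Commute.refl _⟩]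
  have hKC : K ≤ C := fun g hg =>
    Cfsg.Agent.H93.mem_cent ((hKm.mp hg).1.mul_right (hKm.mp hg).2).symm
  have hcenter : Subgroup.center ↥K = ψ.ker := by
    ext g
    constructor
    · intro hg
      have : ψ g ∈ Subgroup.center (Cfsg.PSU 6 F 2) := Subgroup.mem_center_iff.mpr fun x => by
        obtain ⟨y, rfl⟩ := hψ x
        rw [← map_mul, ← map_mul, Subgroup.mem_center_iff.mp hg y]
      rwa [hcen, Subgroup.mem_bot] at this
    · intro hg
      refine Subgroup.mem_center_iff.mpr fun y => Subtype.ext ?_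
      obtain ⟨y1, y2⟩ := hKm.mp y.2
      rcases (hker g).mp hg with q | q | q | q <;> simp only [Subgroup.coe_mul, q]
      · simp
      · exact y1.eq
      · exact y2.eq
      · exact (y1.mul_right y2).eq
  let e : ↥K ⧸ Subgroup.center ↥K ≃* Cfsg.PSU 6 F 2 :=
    (QuotientGroup.quotientMulEquivOfEq hcenter).trans (QuotientGroup.quotientKerEquivOfSurjective ψ hψ)
  have hquasi : Cfsg.IsQuasisimple ↥K := ⟨hperf, haveI := hsimp; haveI := e.toEquiv.nontrivial; IsSimpleGroup.isSimpleGroup_of_surjective e.symm.toMonoidHom e.symm.surjective⟩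
  obtain ⟨s, s1, s2⟩ := h.pair_swap h₁ hb'
  have hsC : s ∈ C := by
    refine Cfsg.Agent.H93.mem_cent (Commute.symm (?_ : Commute s (d₁ * d₂)))
    show s * (d₁ * d₂) = d₁ * d₂ * s
    rw [← mul_inv_eq_iff_eq_mul, show s * (d₁ * d₂) * s⁻¹ = (s * d₁ * s⁻¹) * (s * d₂ * s⁻¹) by group,
      s1, s2, hc.eq]
  have cases' : ∀ g ∈ C, g ∈ K ∨ (g * d₁ * g⁻¹ = d₂ ∧ g * d₂ * g⁻¹ = d₁) := by
    intro g hg
    rcases h.pair_cases h₁ hb' (Subgroup.mem_centralizer_singleton_iff.mp hg) with ⟨q1, q2⟩ | q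
    · exact Or.inl (hKm.mpr ⟨mul_inv_eq_iff_eq_mul.mp q1, mul_inv_eq_iff_eq_mul.mp q2⟩)
    · exact Or.inr q
  have not_both : ∀ g ∈ K, g * d₁ * g⁻¹ ≠ d₂ := fun g hg q =>
    hne (by rw [(hKm.mp hg).1.eq, mul_inv_cancel_right] at q; exact q)
  refine ⟨hKC, ?_, ?_, hquasi, ⟨F, iF, iFF, hF, ⟨e⟩⟩, ?_⟩
  · rw [Subgroup.index_eq_two_iff]
    refine ⟨⟨s, hsC⟩, fun g => ?_⟩
    rw [Subgroup.mem_subgroupOf, Subgroup.mem_subgroupOf, Subgroup.coe_mul]
    have econj : (g : G) * s * d₁ * ((g : G) * s)⁻¹ = (g : G) * d₂ * (g : G)⁻¹ := by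
      calc (g : G) * s * d₁ * ((g : G) * s)⁻¹ = (g : G) * (s * d₁ * s⁻¹) * (g : G)⁻¹ := by group
        _ = _ := by rw [s1]
    rcases cases' g g.2 with q | ⟨q1, q2⟩
    · refine Or.inr ⟨q, fun q' => not_both _ q' ?_⟩
      rw [econj, (hKm.mp q).2.eq, mul_inv_cancel_right]
    · refine Or.inl ⟨?_, fun q' => not_both _ q' q1⟩
      rcases cases' _ (mul_mem g.2 hsC) with r | ⟨r, -⟩
      · exact r
      · exact absurd (q2.symm.trans (econj.symm.trans r)) hne
  · ext x
    constructor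
    · rintro ⟨g, hg, rfl⟩
      exact hVmem _ ((hker g).mp (show g ∈ ψ.ker from hcenter ▸ hg))
    · intro hx
      exact ⟨⟨x, hVK hx⟩, by
        show (⟨x, hVK hx⟩ : ↥K) ∈ Subgroup.center ↥K
        rw [hcenter]
        exact (hker _).mpr (hV4 x hx), rfl⟩
  · rw [eq_bot_iff]
    intro z hz
    obtain ⟨c, rfl⟩ := QuotientGroup.mk_surjective z
    rw [Subgroup.mem_bot, QuotientGroup.eq_one_iff, Subgroup.mem_subgroupOf]
    have hcom : ∀ k ∈ K, (c : G) * k * (c : G)⁻¹ * k⁻¹ ∈ V := by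
      intro k hk
      have h1 := Subgroup.mem_center_iff.mp hz (QuotientGroup.mk (⟨k, hKC hk⟩ : ↥C))
      rw [← QuotientGroup.mk_mul, ← QuotientGroup.mk_mul, eq_comm, ← mul_inv_eq_one,
        ← QuotientGroup.mk_inv, ← QuotientGroup.mk_mul, QuotientGroup.eq_one_iff,
        Subgroup.mem_subgroupOf] at h1
      convert h1 using 1
      simp [mul_assoc]
    rcases cases' c c.2 with q | ⟨q1, q2⟩
    · have : ψ ⟨c, q⟩ ∈ Subgroup.center (Cfsg.PSU 6 F 2) := Subgroup.mem_center_iff.mpr fun x => by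
        obtain ⟨k, rfl⟩ := hψ x
        have hk := (hker (⟨c, q⟩ * k * ⟨c, q⟩⁻¹ * k⁻¹)).mpr (hV4 _ (hcom k k.2))
        rw [map_mul, map_mul, map_mul, map_inv, map_inv, mul_inv_eq_one, mul_inv_eq_iff_eq_mul] at hk
        exact hk.symm
      rw [hcen, Subgroup.mem_bot] at this
      exact hVmem _ ((hker ⟨c, q⟩).mp this)
    · exfalso
      refine h.swap_moves h₁ hb' q1 q2 fun y hy => hV4 _ (hcom y ?_)
      exact hKm.mpr ⟨hy.1.2.2.symm, hy.2.2.2.symm⟩

end Cfsg.Agent.S5468
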