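import Cfsg.Statements.S5471
import Cfsg.Agent.H93.Space

set_option autoImplicit false
open Cfsg

namespace Cfsg.Agent.S5471

open Cfsg.Agent.H93

/-- an element exchanging two commuting transpositions and fixing a third one -/
theorem exists_swap {G : Type*} [Group G] {D : Set G} (h : Core D) (hres : ∀ x ∈ D, Sep (resSet D x))
    {a b e : G} (ha : a ∈ D) (hb : b ∈ D) (he : e ∈ D) (hab : a ≠ b) (hae : a ≠ e) (hbe : b ≠ e)
    (cab : Commute a b) (cae : Commute a e) (cbe : Commute b e) :
    ∃ g : G, g * a * g⁻¹ = b ∧ g * b * g⁻¹ = a ∧ g * e * g⁻¹ = e := by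
  have ha' : a ∈ nb D e := ⟨ha, hae, cae.symm⟩
  have hb' : b ∈ nb D e := ⟨hb, hbe, cbe.symm⟩
  obtain ⟨x, hx, hxa, hxb⟩ := hres e he _ (mem_resSet.mpr ⟨a, ha', rfl⟩) _
    (mem_resSet.mpr ⟨b, hb', rfl⟩) (fun q => hab ((h.mk_inj he ha' hb').mp q))
    ((residue_commute h.tt ha' hb').mpr cab)
  obtain ⟨v, hv, rfl⟩ := mem_resSet.mp hx
  have hva : ¬ Commute v a := fun q => hxa ((residue_commute h.tt hv ha').mpr q)
  have hvb : ¬ Commute v b := fun q => hxb ((residue_commute h.tt hv hb').mpr q)
  have sa := h.tt.sq a ha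
  have sb := h.tt.sq b hb
  have sv := h.tt.sq v hv.1
  have ia := h.tt.inv_eq ha
  have ib := h.tt.inv_eq hb
  have iv := h.tt.inv_eq hv.1
  -- the map
  set g := v * (a * b) * v with hg
  have ginv : g⁻¹ = g := by
    rw [hg]
    simp only [mul_inv_rev, ia, ib, iv]
    rw [← cab.eq]
    group
  have ga : g * a * g⁻¹ = b := by
    rw [ginv, hg]
    calc v * (a * b) * v * a * (v * (a * b) * v) = v * (a * b) * (v * a * v) * (a * b) * v := by group
      _ = v * (b * a) * (a * v * a) * (a * b) * v := by rw [h.tt.braid hv.1 ha hva, cab.eq]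
      _ = v * b * (a * a) * v * (a * a) * b * v := by group
      _ = v * (b * v * b) * v := by rw [sa]; group
      _ = v * (v * b * v) * v := by rw [h.tt.braid hv.1 hb hvb]
      _ = (v * v) * b * (v * v) := by group
      _ = b := by rw [sv, one_mul, mul_one]
  refine ⟨g, ga, ?_, ?_⟩
  · rw [← ga, ginv]
    calc g * (g * a * g) * g = (g * g) * a * (g * g) := by group
      _ = a := by
        have : g * g = 1 := by nth_rewrite 1 [← ginv]; exact inv_mul_cancel g
        rw [this, one_mul, mul_one]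
  · have hcg : Commute g e := by
      have h1 : Commute v e := hv.2.2.symm
      exact (h1.mul_left (cae.mul_left cbe)).mul_left h1
    rw [hcg.eq, mul_inv_cancel_right]


/-- Let G be a finite group with trivial centre generated by a conjugation-invariant set D of 3-transpositions on which it acts primitively, such that for some d in D the subgroup generated by the members of D other than d commuting with d has central largest normal 2- and 3-subgroups, and suppose G with D is of type M(23). Let d₁, d₂, d₃ be distinct pairwise commuting members of D and j their product. Then the joint centralizer of d₁, d₂, d₃ is normal in the centralizer of j with quotient isomorphic to the symmetric group of degree 3. -/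
theorem result {G : Type*} [Group G] [Finite G] {D : Set G} (hD : Cfsg.IsThreeTranspositionGroup D) (hprim : Cfsg.IsPrimitiveUnderConj D) (d₀ : G) (hd₀ : d₀ ∈ D) (h3 : Cfsg.pCore 3 ↥(Subgroup.closure {y : G | y ∈ D ∧ y ≠ d₀ ∧ Commute d₀ y}) ≤ Subgroup.center ↥(Subgroup.closure {y : G | y ∈ D ∧ y ≠ d₀ ∧ Commute d₀ y})) (h2 : Cfsg.pCore 2 ↥(Subgroup.closure {y : G | y ∈ D ∧ y ≠ d₀ ∧ Commute d₀ y}) ≤ Subgroup.center ↥(Subgroup.closure {y : G | y ∈ D ∧ y ≠ d₀ ∧ Commute d₀ y})) (h23 : Cfsg.IsOfTypeM23 G D) (d₁ d₂ d₃ : G) (h₁ : d₁ ∈ D) (h₂ : d₂ ∈ D) (h₃ : d₃ ∈ D) (h12 : d₁ ≠ d₂) (h13 : d₁ ≠ d₃) (h23 : d₂ ≠ d₃) (c12 : Commute d₁ d₂) (c13 : Commute d₁ d₃) (c23 : Commute d₂ d₃) (K C : Subgroup G) (hK : K = Subgroup.centralizer ({d₁, d₂, d₃} : Set G)) (hC : C = Subgroup.centralizer ({d₁ * d₂ * d₃} : Set G)) : K ≤ C ∧ ∃ _ : (K.subgroupOf C).Normal, Nonempty (↥C ⧸ K.subgroupOf C ≃* Equiv.Perm (Fin 3)) := by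
  classical
  have htt := TT.of_group hD
  have hne : ∀ a ∈ D, a ≠ 1 := fun a ha e => by simpa [e] using hD.1.1 a ha
  obtain ⟨hcore, hind, -, hres⟩ := good23 htt hD.2.2 hne (by assumption)
  have cl : ∀ {p q r : G}, Commute p q → Commute p r → Commute q r →
      ∀ x ∈ [p, q, r], ∀ y ∈ [p, q, r], Commute x y := by
    intro p q r h1 h2 h3 x hx y hy
    simp only [List.mem_cons, List.not_mem_nil, or_false] at hx hy
    rcases hx with rfl | rfl | rfl <;> rcases hy with rfl | rfl | rfl <;>
      first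
        | exact Commute.refl _
        | assumption
        | exact Commute.symm ‹_›
  subst hK hC
  have hKC : Subgroup.centralizer ({d₁, d₂, d₃} : Set G) ≤
      Subgroup.centralizer ({d₁ * d₂ * d₃} : Set G) := by
    intro g hg
    rw [Subgroup.mem_centralizer_iff] at hg
    rw [Subgroup.mem_centralizer_singleton_iff]
    have e1 : Commute g d₁ := (hg d₁ (by simp)).symm
    have e2 : Commute g d₂ := (hg d₂ (by simp)).symm
    have e3 : Commute g d₃ := (hg d₃ (by simp)).symm
    exact ((e1.mul_right e2).mul_right e3).eq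
  refine ⟨hKC, ?_⟩
  set C := Subgroup.centralizer ({d₁ * d₂ * d₃} : Set G) with hCdef
  set K := Subgroup.centralizer ({d₁, d₂, d₃} : Set G) with hKdef
  let t : Fin 3 → G := ![d₁, d₂, d₃]
  have ht : Function.Injective t := by
    intro i j
    fin_cases i <;> fin_cases j <;> simp [t, h12, h13, h23, h12.symm, h13.symm, h23.symm]
  -- conjugation by an element of the centralizer permutes the three transpositions
  have hperm : ∀ g ∈ C, ∀ i, ∃ j, g * t i * g⁻¹ = t j := by
    intro g hg i
    have hfix : g * (d₁ * d₂ * d₃) * g⁻¹ = d₁ * d₂ * d₃ := by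
      rw [Subgroup.mem_centralizer_singleton_iff.mp hg, mul_inv_cancel_right]
    have hu := unique_factor htt hind 3 le_rfl (d₁ * d₂ * d₃) [g * d₁ * g⁻¹, g * d₂ * g⁻¹, g * d₃ * g⁻¹]
      [d₁, d₂, d₃]
      ⟨by simp [h12, h13, h23], rfl, by
          simp only [List.mem_cons, List.not_mem_nil, or_false]
          rintro a (rfl | rfl | rfl)
          exacts [hD.2.1 g _ h₁, hD.2.1 g _ h₂, hD.2.1 g _ h₃],
        cl (commute_conj.mpr c12) (commute_conj.mpr c13) (commute_conj.mpr c23),
        by rw [← hfix]; simp [mul_assoc]⟩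
      ⟨by simp [h12, h13, h23], rfl, by simp [h₁, h₂, h₃], cl c12 c13 c23, by simp [mul_assoc]⟩
    have hmem : g * t i * g⁻¹ ∈ [d₁, d₂, d₃] := (hu _).mp (by fin_cases i <;> simp [t])
    simp only [List.mem_cons, List.not_mem_nil, or_false] at hmem
    rcases hmem with e | e | e
    exacts [⟨0, e⟩, ⟨1, e⟩, ⟨2, e⟩]
  choose σ hσ using hperm
  let f : ↥C → Fin 3 → Fin 3 := fun g i => σ g.1 g.2 i
  have hf : ∀ (g : ↥C) i, (g : G) * t i * (g : G)⁻¹ = t (f g i) := fun g i => hσ g.1 g.2 i
  have hf1 : ∀ i, f 1 i = i := fun i => ht (by rw [← hf]; simp)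
  have hfm : ∀ g g' i, f (g * g') i = f g (f g' i) := fun g g' i => ht (by
    rw [← hf, ← hf, ← hf, Subgroup.coe_mul]; group)
  let φ : ↥C →* Equiv.Perm (Fin 3) :=
    { toFun := fun g =>
        { toFun := f g
          invFun := f g⁻¹
          left_inv := fun i => by rw [← hfm, inv_mul_cancel, hf1]
          right_inv := fun i => by rw [← hfm, mul_inv_cancel, hf1] }
      map_one' := Equiv.ext hf1
      map_mul' := fun g g' => Equiv.ext (hfm g g') }
  have hker : φ.ker = K.subgroupOf C := by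
    ext g
    rw [MonoidHom.mem_ker, Subgroup.mem_subgroupOf, hKdef, Subgroup.mem_centralizer_iff]
    constructor
    · intro h y hy
      obtain ⟨i, rfl⟩ : ∃ i, t i = y := by
        simp only [Set.mem_insert_iff, Set.mem_singleton_iff] at hy
        rcases hy with rfl | rfl | rfl
        exacts [⟨0, rfl⟩, ⟨1, rfl⟩, ⟨2, rfl⟩]
      have := hf g i
      rw [show f g i = i from congrArg (fun σ : Equiv.Perm (Fin 3) => σ i) h] at this
      exact (mul_inv_eq_iff_eq_mul.mp this).symm
    · intro h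
      refine Equiv.ext fun i => ht ?_
      show t (f g i) = t i
      rw [← hf, ← h (t i) (by fin_cases i <;> simp [t]), mul_inv_cancel_right]
  have hsurj : Function.Surjective φ := by
    rw [← MonoidHom.range_eq_top, eq_top_iff, ← Equiv.Perm.closure_isSwap, Subgroup.closure_le]
    rintro s ⟨x, y, hxy, rfl⟩
    have hz : ∀ x y : Fin 3, x ≠ y → ∃ z, z ≠ x ∧ z ≠ y := by decide
    obtain ⟨z, hzx, hzy⟩ := hz x y hxy
    have hc : ∀ i j, Commute (t i) (t j) := fun i j => by
      fin_cases i <;> fin_cases j <;>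
        first
          | exact Commute.refl _
          | assumption
          | exact Commute.symm ‹_›
    have hmem : ∀ i, t i ∈ D := fun i => by fin_cases i <;> assumption
    obtain ⟨g, gx, gy, gz⟩ := exists_swap hcore (fun x hx => (hres x hx).2) (hmem x) (hmem y) (hmem z)
      (fun e => hxy (ht e)) (fun e => hzx (ht e).symm) (fun e => hzy (ht e).symm) (hc x y) (hc x z) (hc y z)
    have hcase : ∀ x y z i : Fin 3, x ≠ y → z ≠ x → z ≠ y → i = x ∨ i = y ∨ i = z := by decide
    have hgC : g ∈ C := by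
      have hs : ∀ i, g * t i * g⁻¹ = t (Equiv.swap x y i) := by
        intro i
        rcases hcase x y z i hxy hzx hzy with rfl | rfl | rfl
        · rw [Equiv.swap_apply_left]; exact gx
        · rw [Equiv.swap_apply_right]; exact gy
        · rw [Equiv.swap_apply_of_ne_of_ne hzx hzy]; exact gz
      rw [hCdef, Subgroup.mem_centralizer_singleton_iff, ← mul_inv_eq_iff_eq_mul]
      have e : g * (d₁ * d₂ * d₃) * g⁻¹ = (g * t 0 * g⁻¹) * (g * t 1 * g⁻¹) * (g * t 2 * g⁻¹) := by
        simp [t, mul_assoc]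
      have hsw : ∀ x y : Fin 3, x ≠ y →
          (Equiv.swap x y 0, Equiv.swap x y 1, Equiv.swap x y 2) ∈
            [(1, 0, 2), (2, 1, 0), ((0 : Fin 3), (2 : Fin 3), (1 : Fin 3))] := by decide
      rw [e, hs, hs, hs]
      have hcd := hsw x y hxy
      simp only [List.mem_cons, Prod.mk.injEq, List.not_mem_nil, or_false] at hcd
      rcases hcd with ⟨e0, e1, e2⟩ | ⟨e0, e1, e2⟩ | ⟨e0, e1, e2⟩ <;> rw [e0, e1, e2] <;>
        simp [t, mul_assoc, c12.eq, c13.eq, c23.eq, c12.left_comm, c13.left_comm, c23.left_comm]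
    refine ⟨⟨g, hgC⟩, Equiv.ext fun i => ht ?_⟩
    show t (f ⟨g, hgC⟩ i) = _
    rw [← hf]
    rcases hcase x y z i hxy hzx hzy with rfl | rfl | rfl
    · rw [Equiv.swap_apply_left]; exact gx
    · rw [Equiv.swap_apply_right]; exact gy
    · rw [Equiv.swap_apply_of_ne_of_ne hzx hzy]; exact gz
  have hn : (K.subgroupOf C).Normal := hker ▸ φ.normal_ker
  exact ⟨hn, ⟨(QuotientGroup.quotientMulEquivOfEq hker.symm).trans
    (QuotientGroup.quotientKerEquivOfSurjective φ hsurj)⟩⟩

end Cfsg.Agent.S5471
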