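import Cfsg.Statements.S5514
import Cfsg.Agent.Coprime.OmegaSevenClasses
import Cfsg.Agent.Orthogonal.POmega
import Cfsg.Agent.H34.OmegaInvolutions

set_option autoImplicit false
open Cfsg

namespace Cfsg.Agent.S5514

open Cfsg.Agent.Coprime.O7 Cfsg.Agent.Orthogonal

/-- The projective group is the commutator subgroup. -/
noncomputable def toComm :
    Cfsg.POmega (ZMod 3) (Cfsg.quadFormOdd 3 (ZMod 3)) ≃* ↥(commutator (O Q7)) :=
  ((QuotientGroup.quotientMulEquivOfEq
      (Subgroup.eq_bot_iff_forall _ |>.2 fun z hz =>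
        Cfsg.Agent.H34.center_omega_odd (F := ZMod 3) (m := 3) two_ne le_rfl z hz)).trans
    QuotientGroup.quotientBot).trans (omegaEquiv Q7)

/-- The commutator subgroup of the isometry group of a non-degenerate 7-dimensional quadratic form over the field with three elements, modulo its (trivial) centre — the simple group Ω(7, 3) — has exactly seven conjugacy classes of subgroups of order 3. -/
theorem result : ∃ Y : Fin 7 → Subgroup (Cfsg.POmega (ZMod 3) (Cfsg.quadFormOdd 3 (ZMod 3))), (∀ i, Nat.card (Y i) = 3) ∧ (∀ i j, (∃ g : Cfsg.POmega (ZMod 3) (Cfsg.quadFormOdd 3 (ZMod 3)), (Y i).map (MulAut.conj g).toMonoidHom = Y j) → i = j) ∧ (∀ X : Subgroup (Cfsg.POmega (ZMod 3) (Cfsg.quadFormOdd 3 (ZMod 3))), Nat.card X = 3 → ∃ i, ∃ g : Cfsg.POmega (ZMod 3) (Cfsg.quadFormOdd 3 (ZMod 3)), X.map (MulAut.conj g).toMonoidHom = Y i) := by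
  have : Fact (Nat.Prime 3) := ⟨Nat.prime_three⟩
  let y : Fin 7 → Cfsg.POmega (ZMod 3) (Cfsg.quadFormOdd 3 (ZMod 3)) := fun i =>
    toComm.symm ⟨repG i, cube_mem (repG_cube i)⟩
  have hy : ∀ i, orderOf (y i) = 3 := fun i => by
    refine orderOf_eq_prime ?_ ?_
    · apply toComm.injective
      rw [map_pow, MulEquiv.apply_symm_apply, map_one]
      exact Subtype.ext (repG_cube i)
    · intro h
      apply repG_ne_one i
      have h2 := congrArg toComm h
      rw [MulEquiv.apply_symm_apply, map_one] at h2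
      exact congrArg Subtype.val h2
  refine ⟨fun i => Subgroup.zpowers (y i), fun i => (Nat.card_zpowers _).trans (hy i), ?_, ?_⟩
  · rintro i j ⟨g, hg⟩
    have hmem : g * y i * g⁻¹ ∈ Subgroup.zpowers (y j) := by
      simp only at hg
      rw [← hg]
      exact ⟨y i, Subgroup.mem_zpowers _, rfl⟩
    obtain ⟨k, hk⟩ := (Subgroup.mem_zpowers_iff.1 hmem)
    rw [← zpow_mod_orderOf, hy] at hk
    have hk3 : k % (3 : ℕ) = 0 ∨ k % (3 : ℕ) = 1 ∨ k % (3 : ℕ) = 2 := by omega
    have hne : g * y i * g⁻¹ ≠ 1 := fun h => by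
      rw [conj_eq_one_iff] at h
      have := hy i
      rw [h, orderOf_one] at this
      omega
    have hcase : g * y i * g⁻¹ = y j ∨ g * y i * g⁻¹ = (y j)⁻¹ := by
      rcases hk3 with h | h | h <;> rw [h] at hk
      · rw [zpow_zero] at hk; exact absurd hk.symm hne
      · rw [zpow_one] at hk; exact Or.inl hk.symm
      · refine Or.inr (hk.symm.trans ?_)
        refine eq_inv_of_mul_eq_one_left ?_
        rw [← zpow_add_one, show (2 : ℤ) + 1 = ((3 : ℕ) : ℤ) from rfl, zpow_natCast]
        exact orderOf_dvd_iff_pow_eq_one.1 (hy j).dvd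
    refine repG_inj (h := ((toComm g : ↥(commutator (O Q7))) : O Q7)) (toComm g).2 ?_
    have key : ∀ t, (toComm (g * t * g⁻¹) : O Q7) =
        (toComm g : O Q7) * (toComm t : O Q7) * (toComm g : O Q7)⁻¹ := fun t => by
      rw [map_mul, map_mul, map_inv]; rfl
    have hyi : ∀ i, (toComm (y i) : O Q7) = repG i := fun i => by
      rw [MulEquiv.apply_symm_apply]
    rcases hcase with h | h
    · left; rw [← hyi, ← key, h, hyi]
    · right; rw [← hyi i, ← key, h, map_inv, Subgroup.coe_inv, hyi]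
  · intro X hX
    have : IsCyclic ↥X := isCyclic_of_prime_card hX
    obtain ⟨⟨x, hxX⟩, hgen⟩ := IsCyclic.exists_generator (α := ↥X)
    have hXx : X = Subgroup.zpowers x := by
      refine le_antisymm (fun z hz => ?_) (Subgroup.zpowers_le.2 hxX)
      obtain ⟨k, hk⟩ := Subgroup.mem_zpowers_iff.1 (hgen ⟨z, hz⟩)
      exact Subgroup.mem_zpowers_iff.2 ⟨k, congrArg Subtype.val hk⟩
    have hx3 : orderOf x = 3 := by rw [← Nat.card_zpowers, ← hXx, hX]
    have hc : ((toComm x : O Q7)) ^ 3 = 1 := by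
      rw [← SubmonoidClass.coe_pow, ← map_pow, orderOf_dvd_iff_pow_eq_one.1 hx3.dvd, map_one]; rfl
    have hne : (toComm x : O Q7) ≠ 1 := fun h => by
      have h1 : toComm x = 1 := Subtype.ext h
      rw [← map_one toComm] at h1
      have h2 := toComm.injective h1
      rw [h2, orderOf_one] at hx3
      omega
    obtain ⟨i, h, hh, hconj⟩ := repG_cover hc hne
    refine ⟨i, toComm.symm ⟨h, hh⟩, ?_⟩
    have himg : (MulAut.conj (toComm.symm ⟨h, hh⟩)).toMonoidHom x = y i := by
      apply toComm.injective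
      apply Subtype.ext
      simp only [MulEquiv.coe_toMonoidHom, MulAut.conj_apply, map_mul, map_inv,
        MulEquiv.apply_symm_apply, Subgroup.coe_mul, Subgroup.coe_inv, y]
      exact hconj
    rw [hXx, MonoidHom.map_zpowers, himg]

end Cfsg.Agent.S5514
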