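import Cfsg.Statements.S5515
import Cfsg.Agent.H48.D4Three
import Cfsg.Agent.H27.D4
import Cfsg.Agent.Components.Basic

set_option autoImplicit false
open Cfsg

namespace Cfsg.Agent.S5515

open Cfsg.Lie Cfsg.Agent.H37 Cfsg.Agent.Components

instance fact_three : Fact (Nat.Prime 3) := ⟨Nat.prime_three⟩

/-- A group with `F*` isomorphic to a nonabelian simple group has trivial centralizer of `F*`. -/
theorem centralizer_eq_bot {G T : Type*} [Group G] [Finite G] [Group T] [IsSimpleGroup T]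
    (hna : ¬ IsMulCommutative T) (e : ↥(Cfsg.generalizedFittingSubgroup G) ≃* T) :
    Subgroup.centralizer (Cfsg.generalizedFittingSubgroup G : Set G) = ⊥ := by
  rw [eq_bot_iff]
  intro c hc
  have hcF := centralizer_genFitting_le hc
  have hz : e ⟨c, hcF⟩ ∈ Subgroup.center T := by
    refine Subgroup.mem_center_iff.2 fun t => ?_
    obtain ⟨m, rfl⟩ := e.surjective t
    rw [← map_mul, ← map_mul]
    exact congrArg e (Subtype.ext (Subgroup.mem_centralizer_iff.1 hc m m.2))
  rcases (inferInstance : (Subgroup.center T).Normal).eq_bot_or_eq_top with h | h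
  · rw [h, Subgroup.mem_bot, MulEquiv.map_eq_one_iff] at hz
    exact congrArg Subtype.val hz
  · exact absurd ⟨⟨fun a b => (Subgroup.mem_center_iff.1 (h ▸ Subgroup.mem_top b :
      b ∈ Subgroup.center T) a)⟩⟩ hna

/-- `D₄(3)` is nonabelian simple. -/
theorem chevD4_simple : IsSimpleGroup ↥(chevD4.group (ZMod 3)) ∧
    ¬ IsMulCommutative ↥(chevD4.group (ZMod 3)) :=
  (Chev.dataD4 (ZMod 3)).simple (Chev.perfect (by simp) fun h => by
    rcases h with h | h <;> exact absurd (congrArg ChevalleyDatum.nroots h) (by decide +kernel))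

/-- Uniqueness of the extension, for an abstract socle. -/
theorem key {G G' T : Type*} [Group G] [Finite G] [Group G'] [Finite G'] [Group T] [Finite T]
    [IsSimpleGroup T] (hna : ¬ IsMulCommutative T)
    [(Cfsg.generalizedFittingSubgroup G).Normal] [(Cfsg.generalizedFittingSubgroup G').Normal]
    (e : ↥(Cfsg.generalizedFittingSubgroup G) ≃* T) (e' : ↥(Cfsg.generalizedFittingSubgroup G') ≃* T)
    (q : G ⧸ Cfsg.generalizedFittingSubgroup G ≃* Equiv.Perm (Fin 3))
    (q' : G' ⧸ Cfsg.generalizedFittingSubgroup G' ≃* Equiv.Perm (Fin 3))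
    (D : Subgroup (Cfsg.Out T)) (hDn : D.Normal) (hD : Nat.card D = 4)
    (hO : Nat.card (Cfsg.Out T) = 24)
    (hfpf : ∀ x : Cfsg.Out T, orderOf x = 3 → ∀ d ∈ D, x * d = d * x → d = 1) :
    Nonempty (G ≃* G') := by
  haveI := hDn
  obtain ⟨X, ⟨a⟩, ⟨b⟩⟩ := H48.D4Three.exists_embedding _ (centralizer_eq_bot hna e) e
  obtain ⟨X', ⟨a'⟩, ⟨b'⟩⟩ := H48.D4Three.exists_embedding _ (centralizer_eq_bot hna e') e'
  obtain ⟨o, ho⟩ := H48.D4Three.exists_conj D hD hO hfpf X X' (a.symm.trans q) (a'.symm.trans q')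
  obtain ⟨θ, rfl⟩ := QuotientGroup.mk'_surjective _ o
  refine ⟨b.trans (((Subgroup.equivMapOfInjective _ (MulAut.conj θ).toMonoidHom
    (MulAut.conj θ).injective).trans (MulEquiv.subgroupCongr ?_)).trans b'.symm)⟩
  subst ho
  ext x
  rw [Subgroup.mem_map_equiv, Subgroup.mem_comap, Subgroup.mem_comap, Subgroup.mem_map_equiv]
  simp

/-- Let G and G′ be finite groups whose generalized Fitting subgroups are isomorphic to PΩ⁺(8, 3) (the commutator subgroup of the isometry group of the hyperbolic quadratic form in dimension 8 over the field with three elements, modulo its centre) with quotients isomorphic to the symmetric group of degree 3. Then G and G′ are isomorphic. -/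
theorem result {G G' : Type*} [Group G] [Finite G] [Group G'] [Finite G'] (hF : Nonempty (↥(Cfsg.generalizedFittingSubgroup G) ≃* Cfsg.POmega (ZMod 3) (Cfsg.quadFormPlus 4 (ZMod 3)))) (hF' : Nonempty (↥(Cfsg.generalizedFittingSubgroup G') ≃* Cfsg.POmega (ZMod 3) (Cfsg.quadFormPlus 4 (ZMod 3)))) [hn : (Cfsg.generalizedFittingSubgroup G).Normal] [hn' : (Cfsg.generalizedFittingSubgroup G').Normal] (hq : Nonempty (G ⧸ Cfsg.generalizedFittingSubgroup G ≃* Equiv.Perm (Fin 3))) (hq' : Nonempty (G' ⧸ Cfsg.generalizedFittingSubgroup G' ≃* Equiv.Perm (Fin 3))) : Nonempty (G ≃* G') := by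
  obtain ⟨iso⟩ := H27.D4.group_equiv_pomega (F := ZMod 3)
  obtain ⟨e₀⟩ := hF
  obtain ⟨e₀'⟩ := hF'
  obtain ⟨q⟩ := hq
  obtain ⟨q'⟩ := hq'
  obtain ⟨hs, hna⟩ := chevD4_simple
  haveI := hs
  obtain ⟨D, hDn, hD, hO, hfpf⟩ := H48.D4Three.out_structure (F := ZMod 3) (ZMod.card 3)
  have e1 := e₀.trans iso.symm
  have e2 := e₀'.trans iso.symm
  have k1 := key (T := ↥(chevD4.group (ZMod 3))) hna e1 e2 q q'
  have k2 := k1 D hDn
  have k3 := k2 hD
  have k4 := k3 hO
  exact k4 hfpf

end Cfsg.Agent.S5515
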