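import Cfsg.Statements.S5517
import Cfsg.Agent.H70.FiTwentyTwo.Main
import Cfsg.Agent.H87.Fi22.FiHom

set_option autoImplicit false
open Cfsg

namespace Cfsg.Agent.S5517

/-- Let G be a finite group with trivial centre generated by a conjugation-invariant set D of 3-transpositions on which it acts primitively, such that for some d in D the subgroup generated by the members of D other than d commuting with d has central largest normal 2- and 3-subgroups, and suppose G with D is of type M(22). Then G has a subgroup L generated by the members of D it contains and isomorphic to Ω(7, 3) (the commutator subgroup of the isometry group of a non-degenerate 7-dimensional quadratic form over the field with three elements, modulo its centre), and every Sylow 3-subgroup of L is a Sylow 3-subgroup of G. -/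
theorem result {G : Type*} [Group G] [Finite G] {D : Set G} (hD : Cfsg.IsThreeTranspositionGroup D) (hprim : Cfsg.IsPrimitiveUnderConj D) (d₀ : G) (hd₀ : d₀ ∈ D) (h3 : Cfsg.pCore 3 ↥(Subgroup.closure {y : G | y ∈ D ∧ y ≠ d₀ ∧ Commute d₀ y}) ≤ Subgroup.center ↥(Subgroup.closure {y : G | y ∈ D ∧ y ≠ d₀ ∧ Commute d₀ y})) (h2 : Cfsg.pCore 2 ↥(Subgroup.closure {y : G | y ∈ D ∧ y ≠ d₀ ∧ Commute d₀ y}) ≤ Subgroup.center ↥(Subgroup.closure {y : G | y ∈ D ∧ y ≠ d₀ ∧ Commute d₀ y})) (h22 : Cfsg.IsOfTypeM22 G D) : ∃ L : Subgroup G, Cfsg.IsDSubgroup D L ∧ Nonempty (↥L ≃* Cfsg.POmega (ZMod 3) (Cfsg.quadFormOdd 3 (ZMod 3))) ∧ ∀ P : Sylow 3 ↥L, ∃ P' : Sylow 3 G, (P : Subgroup ↥L).map L.subtype = (P' : Subgroup G) := by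
  classical
  have hc := Cfsg.Agent.H93.class_of_group hD hprim
  obtain ⟨φ, hφ⟩ := Cfsg.Agent.H70.FiTwentyTwo.iso_fi22 hc h22
  obtain ⟨⟨E⟩, hfin, hcard, -⟩ := Cfsg.Agent.H87.Fi22.omega_facts
  let ψ : Cfsg.Agent.H87.Fi22.omegaPres.Gp →* G :=
    φ.toMonoidHom.comp Cfsg.Agent.H87.Fi22.upHom
  have hψ : Function.Injective ψ := φ.injective.comp Cfsg.Agent.H87.Fi22.upHom_injective
  let I := MonoidHom.ofInjective hψ
  have hL : Nat.card ψ.range = 4585351680 := by rw [← hcard, Nat.card_congr I.toEquiv]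
  refine ⟨ψ.range, ?_, ⟨I.symm.trans E⟩, fun P => ?_⟩
  · refine le_antisymm ((Subgroup.closure_le _).mpr fun x hx => hx.2) ?_
    rw [MonoidHom.range_eq_map, ← PresentedGroup.closure_range_of, MonoidHom.map_closure]
    refine Subgroup.closure_mono ?_
    rintro _ ⟨_, ⟨x, rfl⟩, rfl⟩
    refine ⟨?_, ?_⟩
    · show φ (Cfsg.Agent.H87.Fi22.upHom (PresentedGroup.of x)) ∈ D
      rw [Cfsg.Agent.H87.Fi22.upHom_of]
      exact hφ _
    · rw [← MonoidHom.map_closure, PresentedGroup.closure_range_of]
      exact ⟨PresentedGroup.of x, Subgroup.mem_top _, rfl⟩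
  · obtain ⟨-, hfi, -⟩ := Cfsg.Agent.H45.Fi22Top.order_facts
    have hG : Nat.card G = 64561751654400 := (Nat.card_congr φ.toEquiv).symm.trans hfi
    have : Fact (Nat.Prime 3) := ⟨Nat.prime_three⟩
    have e1 : (Nat.card G).factorization 3 = (Nat.card ψ.range).factorization 3 := by
      rw [hG, hL, show (64561751654400 : ℕ) = 3 ^ 9 * 3280076800 by norm_num,
        show (4585351680 : ℕ) = 3 ^ 9 * 232960 by norm_num,
        Nat.factorization_mul (by norm_num) (by norm_num),
        Nat.factorization_mul (by norm_num) (by norm_num)]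
      simp [Nat.factorization_eq_zero_of_not_dvd (show ¬ 3 ∣ 3280076800 by norm_num),
        Nat.factorization_eq_zero_of_not_dvd (show ¬ 3 ∣ 232960 by norm_num)]
    refine ⟨Sylow.ofCard ((P : Subgroup ψ.range).map ψ.range.subtype) ?_, rfl⟩
    rw [Subgroup.card_map_of_injective ψ.range.subtype_injective, Sylow.card_eq_multiplicity, e1]

end Cfsg.Agent.S5517
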