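import Cfsg.Statements.S5518
import Cfsg.Agent.S5500
import Cfsg.Agent.H89.Thirteen24Norm
-- import your own Cfsg.Agent.* helpers here

set_option autoImplicit false
open Cfsg

namespace Cfsg.Agent.S5518

/-- Let G be a finite group with trivial centre generated by a conjugation-invariant set D of 3-transpositions on which it acts primitively, such that for some d in D the subgroup generated by the members of D other than d commuting with d has central largest normal 2- and 3-subgroups, and suppose G with D is of type M(24). Then any two subgroups of order 13 are conjugate; and there are members a, b, c, d of D generating the direct product T of two symmetric groups of degree 3 (a, d non-commuting; b, c non-commuting; b and c commuting with a and d) whose centralizer K is isomorphic to the Chevalley group G₂(3), such that for every subgroup B of K of order 13: the normalizer of B lies in the normalizer of K, the normalizer F of B in K is a Frobenius group of order 78 with kernel B (order 78, centralizer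 of B in it equal to B), and the subgroup generated by F and T has index 2 in the normalizer of B. -/
theorem result {G : Type*} [Group G] [Finite G] {D : Set G} (hD : Cfsg.IsThreeTranspositionGroup D) (hprim : Cfsg.IsPrimitiveUnderConj D) (d₀ : G) (hd₀ : d₀ ∈ D) (h3 : Cfsg.pCore 3 ↥(Subgroup.closure {y : G | y ∈ D ∧ y ≠ d₀ ∧ Commute d₀ y}) ≤ Subgroup.center ↥(Subgroup.closure {y : G | y ∈ D ∧ y ≠ d₀ ∧ Commute d₀ y})) (h2 : Cfsg.pCore 2 ↥(Subgroup.closure {y : G | y ∈ D ∧ y ≠ d₀ ∧ Commute d₀ y}) ≤ Subgroup.center ↥(Subgroup.closure {y : G | y ∈ D ∧ y ≠ d₀ ∧ Commute d₀ y})) (h24 : Cfsg.IsOfTypeM24 G D) : (∀ X Y : Subgroup G, Nat.card X = 13 → Nat.card Y = 13 → ∃ g : G, X.map (MulAut.conj g).toMonoidHom = Y) ∧ ∃ (a b c d : G) (T K : Subgroup G), (∀ x ∈ [a, b, c, d], x ∈ D) ∧ ¬ Commute a d ∧ ¬ Commute b c ∧ Commute a b ∧ Commute a c ∧ Commute d b ∧ Commute d c ∧ T = Subgroup.closure ({a, b, c, d} : Set G) ∧ K = Subgroup.centralizer (T : Set G) ∧ Nonempty (↥K ≃* ↥(Cfsg.Lie.chevG2.group (ZMod 3)))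 ∧ ∀ B : Subgroup G, B ≤ K → Nat.card B = 13 → Subgroup.normalizer ((B : Subgroup G) : Set G) ≤ Subgroup.normalizer ((K : Subgroup G) : Set G) ∧ Nat.card ↥(K ⊓ Subgroup.normalizer ((B : Subgroup G) : Set G)) = 78 ∧ K ⊓ Subgroup.centralizer ((B : Subgroup G) : Set G) = B ∧ (((K ⊓ Subgroup.normalizer ((B : Subgroup G) : Set G)) ⊔ T).subgroupOf (Subgroup.normalizer ((B : Subgroup G) : Set G))).index = 2 := by
  classical
  have h := Cfsg.Agent.H61.M24.geo24 hD hprim h24
  have htt := h.data.core.tt
  refine ⟨fun X Y hX hY => ?_, ?_⟩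
  · haveI : Fact (Nat.Prime 13) := ⟨by norm_num⟩
    obtain ⟨j, -, e⟩ := Cfsg.Agent.H93.prime_conj_in (p := 13) (A := X) (B := Y) (K := ⊤) le_top le_top
      hX hY (by rw [Subgroup.card_top, h.card_group hd₀]; norm_num)
    exact ⟨j, e⟩
  obtain ⟨a, ha, d, hd, had⟩ : ∃ a ∈ D, ∃ d ∈ D, ¬ Commute a d := by
    obtain ⟨d, hd, had⟩ : ({y | y ∈ D ∧ ¬ Commute d₀ y}).Nonempty :=
      Set.nonempty_of_ncard_ne_zero (by rw [h.card_far hd₀]; norm_num)
    exact ⟨d₀, hd₀, d, hd, had⟩
  obtain ⟨b₁, c₁, b, c, hmem, -, hbc, -, -, -, hiso⟩ :=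
    S5500.result hD hprim d₀ hd₀ h3 h2 h24 a d ha hd had
  obtain ⟨hb, hab, hdb⟩ := hmem b (by simp)
  obtain ⟨hc, hac, hdc⟩ := hmem c (by simp)
  obtain ⟨hiso⟩ := hiso
  set T := Subgroup.closure ({a, b, c, d} : Set G) with hT
  set K := Subgroup.centralizer (T : Set G) with hK
  have hK' : K = Subgroup.centralizer ({a, b, c, d} : Set G) := by
    rw [hK, hT, Subgroup.centralizer_closure]
  refine ⟨a, b, c, d, T, K, ?_, had, hbc, hab, hac, hdb, hdc, hT, hK, ⟨?_⟩, fun B hBK hB => ?_⟩
  · simp [ha, hb, hc, hd]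
  · refine (MulEquiv.subgroupCongr (hK'.trans ?_)).trans hiso
    congr 1
    ext x
    simp
    tauto
  · have hfix : ∀ t ∈ ({a, b, c, d} : Set G), t ∈ Cfsg.Agent.H93.fixSet D B := by
      intro t ht
      refine Cfsg.Agent.H93.mem_fix.mpr ⟨?_, fun x hx => ?_⟩
      · rcases ht with rfl | rfl | rfl | rfl <;> assumption
      · have := hBK hx
        rw [hK'] at this
        exact (Subgroup.mem_centralizer_iff.mp this t ht).symm
    have fa := hfix a (by simp)
    have fb := hfix b (by simp)
    have fc := hfix c (by simp)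
    have fd := hfix d (by simp)
    obtain ⟨h78, hcap⟩ :=
      Cfsg.Agent.H89.Thirteen24.card_cap h hB fa fb fc fd had hbc hab hac hdb hdc
    rw [← hK'] at h78 hcap
    refine ⟨?_, h78, hcap,
      Cfsg.Agent.H89.Thirteen24.index_two h hB fa fb fc fd had hbc hab hac hdb hdc hT hK⟩
    rw [hK']
    exact Cfsg.Agent.H89.Thirteen24.normalizer_le h hB fa fb fc fd had hbc hab hac hdb hdc

end Cfsg.Agent.S5518
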