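import Cfsg.Statements.S5521
import Cfsg.Agent.Golay.M24
-- import your own Cfsg.Agent.* helpers here

set_option autoImplicit false
open Cfsg

namespace Cfsg.Agent.S5521

/-- The Mathieu group M₂₄ in its natural action on the 24 coordinate positions of the binary Golay code has minimal base size exactly 7: every set of at most 6 positions is fixed pointwise by some non-identity element of M₂₄, while some set of 7 positions is fixed pointwise only by the identity. -/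
theorem result :
    (∀ B : Finset Cfsg.GolayPt, B.card ≤ 6 → ∃ g ∈ Cfsg.M24, g ≠ 1 ∧ ∀ b ∈ B, g b = b) ∧
    (∃ B : Finset Cfsg.GolayPt, B.card = 7 ∧ ∀ g ∈ Cfsg.M24, (∀ b ∈ B, g b = b) → g = 1) := by
  classical
  refine ⟨fun B hB => ?_, ⟨Cfsg.Agent.Golay.ptSet (2 ^ 23 ||| 2 ^ 0 ||| 2 ^ 1 ||| 2 ^ 2 ||| 2 ^ 3 ||| 2 ^ 5 ||| 2 ^ 4),
    ?_, fun g hg hfix => ?_⟩⟩
  · have hcard : Fintype.card (↥B → Cfsg.GolayPt) < Nat.card Cfsg.M24 := by
      rw [Cfsg.Agent.Golay.card_M24, Fintype.card_fun, Fintype.card_coe,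
        show Fintype.card Cfsg.GolayPt = 24 from rfl]
      calc 24 ^ B.card ≤ 24 ^ 6 := Nat.pow_le_pow_right (by norm_num) hB
        _ < _ := by norm_num
    rw [Nat.card_eq_fintype_card] at hcard
    obtain ⟨g, g', hne, he⟩ := Fintype.exists_ne_map_eq_of_card_lt
      (fun (g : Cfsg.M24) (b : ↥B) => (g : Equiv.Perm Cfsg.GolayPt) b) hcard
    refine ⟨((g⁻¹ * g' : Cfsg.M24) : Equiv.Perm Cfsg.GolayPt), (g⁻¹ * g').2,
      fun h => hne (inv_mul_eq_one.mp (Subtype.ext h)), fun b hb => ?_⟩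
    have := congrFun he ⟨b, hb⟩
    simp [← this]
  · rw [Cfsg.Agent.Golay.card_ptSet]
    decide +kernel
  · have hmem : g ∈ Cfsg.Agent.Golay.stabGrp []
        (2 ^ 23 ||| 2 ^ 0 ||| 2 ^ 1 ||| 2 ^ 2 ||| 2 ^ 3 ||| 2 ^ 5 ||| 2 ^ 4) :=
      ⟨hg, fun e he => (List.not_mem_nil he).elim, hfix⟩
    rw [Cfsg.Agent.Golay.stabGrp_eq_bot' (by decide +kernel), Subgroup.mem_bot] at hmem
    exact hmem

end Cfsg.Agent.S5521
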