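import Cfsg.Statements.S5522
import Cfsg.Agent.Golay.Mathieu
-- import your own Cfsg.Agent.* helpers here

set_option autoImplicit false
open Cfsg

namespace Cfsg.Agent.S5522


open Cfsg.Agent.Golay
open scoped Pointwise

/-- a Sylow 3-subgroup, as tables -/
def sylThree : List ℕ := [984818244535754528103549039458486304, 487607080158395075740321133224921120, 984769902586367543974814854303385632, 928952864966028496604741530750814240, 984534996141977609297800625156032544, 928718206277989008510816407558424608, 487655643029606470073469406179395616, 487373122709212905255923294881187872, 929000492124499343650182431580424224]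

/-- a Sylow 2-subgroup, as tables -/
def sylTwo : List ℕ := [984818244535754528103549039458486304, 719923664328491199848526586197411872, 608405391266436187982588441666881568, 715872302521680643580706198532491296, 970499966350631336865513127433832480, 227578386318009578406903204956702752, 609271311764373893382231684089481248, 232652365823391711183829569059784736, 735500604421669808992593446508235808, 969202056781860934635753244362607648, 233950865888990746377447415904013344, 965346966670364367458681901213092896, 721064549862662597311266359538158624, 601915135321570999558303616165022752, 235366405754860650836778140353760288, 606675048206788974183023727349926944]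

/-- some point outside the dodecad is fixed -/
def fixesOut (t : ℕ) : Bool := (List.range 24).any fun i => !squareMask.testBit i && app t i == i

/-- a closed list of tables in the stabiliser -/
def goodList (two : Bool) (L : List ℕ) : Bool :=
  (L.all fun t => inStab [squareMask] (0 ||| 2 ^ 0) t && (fixesOut t || (two && !tblEq (tblMul t t) idTbl))) &&
    (L.any fun t => tblEq t idTbl) && L.all fun a => L.all fun b => L.any fun c => tblEq (tblMul a b) c

/-- tables are pairwise different -/
def apart : List ℕ → Bool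
  | [] => true
  | a :: l => (l.all fun b => !tblEq a b) && apart l

theorem sylow_fixes (p n : ℕ) [Fact p.Prime] (two : Bool) (htwo : two = true → p = 2) (L : List ℕ) (hgood : goodList two L = true)
    (hap : apart L = true) (hlen : L.length = p ^ n) (hfac : (7920 : ℕ).factorization p = n)
    {g : Equiv.Perm Cfsg.GolayPt} (hg : g ∈ Cfsg.Spor.M11) (hord : orderOf g = p) :
    ∃ x : Cfsg.GolayPt, x ∉ Cfsg.Spor.squareDodecad ∧ g x = x := by
  classical
  simp only [goodList, Bool.and_eq_true, List.all_eq_true, List.any_eq_true] at hgood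
  obtain ⟨⟨hmem, h1⟩, hmul⟩ := hgood
  have hv : ∀ t ∈ L, validT t = true := fun t ht => by
    have := (hmem t ht).1
    simp only [inStab, Bool.and_eq_true] at this
    exact validT_of_inM24 this.1.1
  have hM : ∀ t ∈ L, mkPerm t ∈ Cfsg.Spor.M11 := fun t ht =>
    spor_M11_eq ▸ mem_stabGrp_of_inStab (hmem t ht).1
  let C : Finset (Equiv.Perm Cfsg.GolayPt) := (L.map mkPerm).toFinset
  have hC : ∀ σ, σ ∈ C ↔ ∃ t ∈ L, mkPerm t = σ := fun σ => by simp [C]
  have hClose : ∀ a ∈ C, ∀ b ∈ C, a * b ∈ C := by
    intro a ha b hb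
    obtain ⟨s, hs, rfl⟩ := (hC a).mp ha
    obtain ⟨t, ht, rfl⟩ := (hC b).mp hb
    obtain ⟨u, hu, he⟩ := hmul s hs t ht
    obtain ⟨hval, hprod⟩ := tblMul_spec (hv s hs) (hv t ht)
    exact (hC _).mpr ⟨u, hu, by rw [← hprod]; exact (mkPerm_eq_of_tblEq hval (hv u hu) he).symm⟩
  have hOne : (1 : Equiv.Perm Cfsg.GolayPt) ∈ C := by
    obtain ⟨t, ht, he⟩ := h1
    exact (hC _).mpr ⟨t, ht, (mkPerm_eq_of_tblEq (hv t ht) idTbl_spec.1 he).trans idTbl_spec.2⟩
  let S : Submonoid (Equiv.Perm Cfsg.GolayPt) :=
    { carrier := {σ | σ ∈ C}, one_mem' := hOne, mul_mem' := fun ha hb => hClose _ ha _ hb }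
  let P : Subgroup (Equiv.Perm Cfsg.GolayPt) :=
    { toSubmonoid := S
      inv_mem' := fun {a} ha => by
        have h2 : a⁻¹ = a ^ (orderOf a - 1) :=
          inv_eq_of_mul_eq_one_left (by rw [← pow_succ, Nat.sub_add_cancel (orderOf_pos a),
            pow_orderOf_eq_one])
        show a⁻¹ ∈ S
        rw [h2]; exact pow_mem (show a ∈ S from ha) _ }
  have hP : ∀ σ, σ ∈ P ↔ ∃ t ∈ L, mkPerm t = σ := hC
  have hnd : (L.map mkPerm).Nodup := by
    have key : ∀ M : List ℕ, (∀ t ∈ M, validT t = true) → apart M = true → (M.map mkPerm).Nodup := by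
      intro M
      induction M with
      | nil => simp
      | cons a M ih =>
        intro hvM hapM
        simp only [apart, Bool.and_eq_true, List.all_eq_true] at hapM
        rw [List.map_cons, List.nodup_cons]
        refine ⟨fun h => ?_, ih (fun t ht => hvM t (List.mem_cons_of_mem _ ht)) hapM.2⟩
        obtain ⟨b, hb, e⟩ := List.mem_map.mp h
        have hne := hapM.1 b hb
        rw [Bool.not_eq_true', ← Bool.not_eq_true] at hne
        apply hne
        rw [tblEq, List.all_eq_true]
        intro i hi
        have h' := congrArg (fun σ : Equiv.Perm Cfsg.GolayPt => idx (σ (pt i))) e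
        simp only [idx_mkPerm (hvM a List.mem_cons_self), idx_mkPerm (hvM b (List.mem_cons_of_mem _ hb)),
          idx_pt i (List.mem_range.mp hi)] at h'
        exact beq_iff_eq.mpr h'.symm
    exact key L hv hap
  have hcardP : Nat.card P = p ^ n := by
    have : Nat.card P = Nat.card C := Nat.card_congr (Equiv.refl _)
    rw [this, Nat.card_eq_finsetCard, List.toFinset_card_of_nodup hnd, List.length_map, hlen]
  have hle : P ≤ Cfsg.Spor.M11 := fun σ hσ => by
    obtain ⟨t, ht, rfl⟩ := (hP σ).mp hσ
    exact hM t ht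
  let Q : Sylow p Cfsg.Spor.M11 := Sylow.ofCard (P.subgroupOf Cfsg.Spor.M11) (by
    rw [Nat.card_congr (Subgroup.subgroupOfEquivOfLe hle).toEquiv, hcardP, card_spor_M11, hfac])
  let g' : Cfsg.Spor.M11 := ⟨g, hg⟩
  have hpg : IsPGroup p (Subgroup.zpowers g') := by
    refine IsPGroup.of_card (n := 1) ?_
    rw [Nat.card_zpowers, pow_one, ← hord]
    exact (Subgroup.orderOf_coe g').symm
  obtain ⟨R, hR⟩ := hpg.exists_le_sylow
  obtain ⟨h, hh⟩ := MulAction.exists_smul_eq Cfsg.Spor.M11 R Q
  have hin : h * g' * h⁻¹ ∈ (Q : Subgroup Cfsg.Spor.M11) := by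
    rw [← hh, Sylow.smul_def, Sylow.pointwise_smul_def]
    exact ⟨g', hR (Subgroup.mem_zpowers g'), by simp [MulAut.conj_apply]⟩
  have hin' : ((h * g' * h⁻¹ : Cfsg.Spor.M11) : Equiv.Perm Cfsg.GolayPt) ∈ P := hin
  obtain ⟨t, ht, he⟩ := (hP _).mp hin'
  have hout : fixesOut t = true := by
    rcases Bool.or_eq_true_iff.mp (hmem t ht).2 with h' | h'
    · exact h'
    exfalso
    rw [Bool.and_eq_true, Bool.not_eq_true', ← Bool.not_eq_true] at h'
    obtain ⟨hval, hprod⟩ := tblMul_spec (hv t ht) (hv t ht)
    obtain ⟨hval1, hid⟩ := idTbl_spec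
    apply h'.2
    rw [tblEq, List.all_eq_true]
    intro j hj
    have hsq : mkPerm (tblMul t t) = mkPerm idTbl := by
      have hg2 : g' * g' = 1 := Subtype.ext (by
        show g * g = 1
        rw [← sq, ← htwo h'.1, ← hord, pow_orderOf_eq_one])
      have hcc : (h * g' * h⁻¹) * (h * g' * h⁻¹) = 1 := by
        calc (h * g' * h⁻¹) * (h * g' * h⁻¹) = h * (g' * g') * h⁻¹ := by group
          _ = 1 := by rw [hg2]; group
      rw [hprod, he, hid]
      exact congrArg Subtype.val hcc
    have h'' := congrArg (fun σ : Equiv.Perm Cfsg.GolayPt => idx (σ (pt j))) hsq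
    simp only [idx_mkPerm hval, idx_mkPerm hval1, idx_pt j (List.mem_range.mp hj)] at h''
    exact beq_iff_eq.mpr h''
  obtain ⟨i, hi, hfix⟩ : ∃ i ∈ List.range 24, (!squareMask.testBit i && app t i == i) = true := by
    simpa only [fixesOut, List.any_eq_true] using hout
  simp only [Bool.and_eq_true, Bool.not_eq_true', beq_iff_eq] at hfix
  have hti : mkPerm t (pt i) = pt i := by rw [mkPerm_pt (hv t ht) (List.mem_range.mp hi), hfix.2]
  refine ⟨(h : Equiv.Perm Cfsg.GolayPt)⁻¹ (pt i), fun hmemD => ?_, ?_⟩
  · have h12 := (spor_M11_eq ▸ h.2 : (h : Equiv.Perm Cfsg.GolayPt) ∈ stabGrp [squareMask] (0 ||| 2 ^ 0))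
    have hstab := h12.2.1 squareMask (List.mem_singleton_self _)
    rw [← ptSet_squareMask] at hmemD
    have : (h : Equiv.Perm Cfsg.GolayPt) • (h : Equiv.Perm Cfsg.GolayPt)⁻¹ (pt i) ∈
        (h : Equiv.Perm Cfsg.GolayPt) • ptSet squareMask := Finset.smul_mem_smul_finset hmemD
    rw [hstab, Equiv.Perm.smul_def, Equiv.Perm.coe_inv, Equiv.apply_symm_apply, mem_ptSet,
      idx_pt i (List.mem_range.mp hi), hfix.1] at this
    exact Bool.false_ne_true this
  · rw [he] at hti
    simp only [Subgroup.coe_mul, Subgroup.coe_inv, Equiv.Perm.mul_apply, g'] at hti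
    rw [Equiv.Perm.eq_inv_iff_eq]
    exact hti

/-- The Mathieu group M₁₁, realised as the stabiliser of one point of the dodecad of squares inside the stabiliser M₁₂ of that dodecad in M₂₄, acts on the twelve coordinate positions outside the dodecad of squares (its 3-transitive action of degree 12); in this action every element of prime order fixes a point, i.e. the action is elusive. -/
theorem result (g : Equiv.Perm Cfsg.GolayPt) (hg : g ∈ Cfsg.Spor.M11) (hord : (orderOf g).Prime) :
    ∃ x : Cfsg.GolayPt, x ∉ Cfsg.Spor.squareDodecad ∧ g x = x := by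
  classical
  by_cases h3 : orderOf g = 3
  · haveI : Fact (Nat.Prime 3) := ⟨by norm_num⟩
    exact sylow_fixes 3 2 false (by simp) sylThree (by decide +kernel) (by decide +kernel) (by decide +kernel)
      (by rw [show (7920 : ℕ) = 3 ^ 2 * 880 by norm_num, Nat.factorization_mul (by norm_num) (by norm_num),
        Finsupp.add_apply, Nat.Prime.factorization_pow Nat.prime_three, Finsupp.single_eq_same,
        Nat.factorization_eq_zero_of_not_dvd (by norm_num : ¬ 3 ∣ 880)]) hg h3
  by_cases h2 : orderOf g = 2
  · haveI : Fact (Nat.Prime 2) := ⟨by norm_num⟩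
    exact sylow_fixes 2 4 true (fun _ => rfl) sylTwo (by decide +kernel) (by decide +kernel) (by decide +kernel)
      (by rw [show (7920 : ℕ) = 2 ^ 4 * 495 by norm_num, Nat.factorization_mul (by norm_num) (by norm_num),
        Finsupp.add_apply, Nat.Prime.factorization_pow Nat.prime_two, Finsupp.single_eq_same,
        Nat.factorization_eq_zero_of_not_dvd (by norm_num : ¬ 2 ∣ 495)]) hg h2
  haveI : Fact (orderOf g).Prime := ⟨hord⟩
  have hmaps : ∀ x, g x ∉ Cfsg.Spor.squareDodecad ↔ x ∉ Cfsg.Spor.squareDodecad := by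
    intro x
    have h12 := (spor_M11_eq ▸ hg : g ∈ stabGrp [squareMask] (0 ||| 2 ^ 0))
    have hstab := h12.2.1 squareMask (List.mem_singleton_self _)
    rw [ptSet_squareMask] at hstab
    conv_lhs => rw [← hstab, ← Equiv.Perm.smul_def, Finset.smul_mem_smul_finset_iff]
  let σ : Equiv.Perm {x : Cfsg.GolayPt // x ∉ Cfsg.Spor.squareDodecad} := g.subtypePerm hmaps
  have hσ : σ ^ (orderOf g) ^ 1 = 1 := by
    ext x
    simp [σ, Equiv.Perm.subtypePerm_pow, pow_orderOf_eq_one]
  have hnd : ¬ orderOf g ∣ Fintype.card {x : Cfsg.GolayPt // x ∉ Cfsg.Spor.squareDodecad} := by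
    intro hd
    have hc : Fintype.card {x : Cfsg.GolayPt // x ∉ Cfsg.Spor.squareDodecad} = 2 * (2 * 3) := by
      rw [Fintype.card_subtype]; decide +kernel
    rw [hc] at hd
    rcases hord.dvd_mul.mp hd with h | h
    · exact h2 ((Nat.prime_dvd_prime_iff_eq hord Nat.prime_two).mp h)
    · rcases hord.dvd_mul.mp h with h | h
      · exact h2 ((Nat.prime_dvd_prime_iff_eq hord Nat.prime_two).mp h)
      · exact h3 ((Nat.prime_dvd_prime_iff_eq hord Nat.prime_three).mp h)
  obtain ⟨x, hx⟩ := σ.exists_fixed_point_of_prime hnd hσ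
  exact ⟨x, x.2, congrArg Subtype.val hx⟩

end Cfsg.Agent.S5522
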