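import Cfsg.Statements.S5541

set_option autoImplicit false
open Cfsg

namespace Cfsg.Agent.S5541

/-- Let ρ be a representation of a group H on a finite-dimensional real vector space U whose only ρ-invariant subspaces are the zero subspace and U, and suppose U carries a non-zero ρ-invariant symmetric bilinear form. Then the following are equivalent: (1) there is a non-zero ρ-equivariant commutative bilinear product on U of which every ρ-equivariant bilinear product is a scalar multiple; (2) there is a non-zero ρ-invariant trilinear form on U that is symmetric under all permutations of its arguments and of which every ρ-invariant trilinear form is a scalar multiple. -/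
theorem result {H : Type*} [Group H] {U : Type*} [AddCommGroup U] [Module ℝ U] [FiniteDimensional ℝ U] (ρ : Representation ℝ H U) (hirr : ∀ W : Submodule ℝ U, (∀ g : H, W.map (ρ g) ≤ W) → W = ⊥ ∨ W = ⊤) (B : LinearMap.BilinForm ℝ U) (hB0 : B ≠ 0) (hBs : ∀ u v, B u v = B v u) (hBi : ∀ (g : H) (u v : U), B (ρ g u) (ρ g v) = B u v) : (∃ m : U →ₗ[ℝ] U →ₗ[ℝ] U, m ≠ 0 ∧ (∀ u v, m u v = m v u) ∧ (∀ (g : H) (u v : U), m (ρ g u) (ρ g v) = ρ g (m u v)) ∧ ∀ m' : U →ₗ[ℝ] U →ₗ[ℝ] U, (∀ (g : H) (u v : U), m' (ρ g u) (ρ g v) = ρ g (m' u v)) → ∃ c : ℝ, m' = c • m) ↔ (∃ t : U →ₗ[ℝ] U →ₗ[ℝ] U →ₗ[ℝ] ℝ, t ≠ 0 ∧ (∀ u v w, t u v w = t v u w ∧ t u v w = t u w v) ∧ (∀ (g : H) (u v w : U), t (ρ g u) (ρ g v) (ρ g w) = t u v w) ∧ ∀ t' : U →ₗ[ℝ] U →ₗ[ℝ] U →ₗ[ℝ] ℝ, (∀ (g : H) (u v w : U), t' (ρ g u) (ρ g v) (ρ g w) = t' u v w) → ∃ c : ℝ, t' = c • t) := by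
  have hker : LinearMap.ker B = ⊥ := by
    refine (hirr (LinearMap.ker B) ?_).resolve_right (fun h => hB0 (LinearMap.ker_eq_top.1 h))
    rintro g _ ⟨u, hu, rfl⟩
    have hu' : B u = 0 := LinearMap.mem_ker.1 hu
    apply LinearMap.mem_ker.2
    ext w
    have h := hBi g u (ρ g⁻¹ w)
    rw [Representation.self_inv_apply] at h
    rw [h, hu']
    rfl
  have hinj : Function.Injective B := LinearMap.ker_eq_bot.1 hker
  let Φ : U ≃ₗ[ℝ] Module.Dual ℝ U := B.linearEquivOfInjective hinj Subspace.dual_finrank_eq.symm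
  have hΦ : ∀ u, Φ u = B u := fun u => rfl
  have hΦs : ∀ f : Module.Dual ℝ U, B (Φ.symm f) = f := fun f => by rw [← hΦ]; exact Φ.apply_symm_apply f
  have hmove : ∀ (g : H) (u w : U), B (ρ g u) w = B u (ρ g⁻¹ w) := by
    intro g u w
    conv_lhs => rw [← Representation.self_inv_apply ρ g w, hBi]
  have heqv : ∀ t : U →ₗ[ℝ] U →ₗ[ℝ] U →ₗ[ℝ] ℝ,
      (∀ (g : H) (u v w : U), t (ρ g u) (ρ g v) (ρ g w) = t u v w) →
      ∀ (g : H) (u v : U), t.compr₂ (Φ.symm : Module.Dual ℝ U →ₗ[ℝ] U) (ρ g u) (ρ g v) =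
        ρ g (t.compr₂ (Φ.symm : Module.Dual ℝ U →ₗ[ℝ] U) u v) := by
    intro t ht g u v
    apply hinj
    ext w
    rw [hmove]
    simp only [LinearMap.compr₂_apply, LinearEquiv.coe_coe, hΦs]
    conv_lhs => rw [← Representation.self_inv_apply ρ g w, ht]
  constructor
  · rintro ⟨m, hm0, hmc, hme, hmu⟩
    have hti : ∀ (g : H) (u v w : U), m.compr₂ B (ρ g u) (ρ g v) (ρ g w) = m.compr₂ B u v w := by
      intro g u v w
      simp only [LinearMap.compr₂_apply, hme, hBi]
    have huniq : ∀ t' : U →ₗ[ℝ] U →ₗ[ℝ] U →ₗ[ℝ] ℝ,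
        (∀ (g : H) (u v w : U), t' (ρ g u) (ρ g v) (ρ g w) = t' u v w) →
        ∃ c : ℝ, t' = c • m.compr₂ B := by
      intro t' ht'
      obtain ⟨c, hc⟩ := hmu _ (heqv t' ht')
      refine ⟨c, LinearMap.ext fun u => LinearMap.ext fun v => ?_⟩
      have h := congrArg B (LinearMap.congr_fun (LinearMap.congr_fun hc u) v)
      simp only [LinearMap.compr₂_apply, LinearEquiv.coe_coe, hΦs, LinearMap.smul_apply, map_smul] at h
      exact h
    obtain ⟨c, hc⟩ := huniq
      { toFun := fun u => (m.compr₂ B u).flip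
        map_add' := fun a b => by ext v w; simp
        map_smul' := fun r a => by ext v w; simp }
      (fun g u v w => hti g u w v)
    have hsw : ∀ u v w, B (m u w) v = c * B (m u v) w := by
      intro u v w
      exact LinearMap.congr_fun (LinearMap.congr_fun (LinearMap.congr_fun hc u) v) w
    have hex : ∃ u v w, B (m u v) w ≠ 0 := by
      by_contra hn
      push_neg at hn
      apply hm0
      ext u v
      apply hinj
      ext w
      simp [hn u v w]
    obtain ⟨u₀, v₀, w₀, hne⟩ := hex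
    have hc1 : c = 1 := by
      have hcc : c * c = 1 := by
        have h := hsw u₀ w₀ v₀
        rw [hsw u₀ v₀ w₀, ← mul_assoc] at h
        exact mul_right_cancel₀ hne (by rw [one_mul]; exact h.symm)
      rcases mul_self_eq_one_iff.1 hcc with h | h
      · exact h
      · exfalso
        apply hne
        have e1 := hsw u₀ v₀ w₀
        have e2 := hsw w₀ v₀ u₀
        have e3 := hsw v₀ u₀ w₀
        rw [hmc w₀ u₀] at e2
        rw [hmc v₀ w₀, hmc v₀ u₀] at e3
        subst h
        linarith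
    refine ⟨m.compr₂ B, ?_, ?_, hti, huniq⟩
    · intro h
      apply hne
      exact LinearMap.congr_fun (LinearMap.congr_fun (LinearMap.congr_fun h u₀) v₀) w₀
    · intro u v w
      refine ⟨?_, ?_⟩
      · simp only [LinearMap.compr₂_apply, hmc u v]
      · simp only [LinearMap.compr₂_apply]
        rw [hsw u v w, hc1, one_mul]
  · rintro ⟨t, ht0, hts, hti, htu⟩
    refine ⟨t.compr₂ (Φ.symm : Module.Dual ℝ U →ₗ[ℝ] U), ?_, ?_, heqv t hti, ?_⟩
    · intro h
      apply ht0
      refine LinearMap.ext fun u => LinearMap.ext fun v => ?_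
      have h' := congrArg B (LinearMap.congr_fun (LinearMap.congr_fun h u) v)
      simpa [LinearMap.compr₂_apply, hΦs] using h'
    · intro u v
      apply hinj
      ext w
      simp only [LinearMap.compr₂_apply, LinearEquiv.coe_coe, hΦs]
      exact (hts u v w).1
    · intro m' hm'
      have hti' : ∀ (g : H) (u v w : U), m'.compr₂ B (ρ g u) (ρ g v) (ρ g w) = m'.compr₂ B u v w := by
        intro g u v w
        simp only [LinearMap.compr₂_apply, hm', hBi]
      obtain ⟨c, hc⟩ := htu _ hti'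
      refine ⟨c, LinearMap.ext fun u => LinearMap.ext fun v => hinj ?_⟩
      ext w
      have h := LinearMap.congr_fun (LinearMap.congr_fun (LinearMap.congr_fun hc u) v) w
      simpa [LinearMap.compr₂_apply, hΦs] using h

end Cfsg.Agent.S5541
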