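import Cfsg.Statements.S5543
import Cfsg.Agent.H94.Majorana

set_option autoImplicit false
open Cfsg

namespace Cfsg.Agent.S5543
open Cfsg.Agent.H94


/-- Let V be a finite-dimensional real vector space with a commutative bilinear product and a positive-definite symmetric bilinear form that associates with the product and satisfies the Norton inequality (the Majorana setting of the definitions). Let X be a group of linear automorphisms of V in which every element squares to the identity, and suppose every non-identity element x of X is a Majorana involution with an axial vector a(x) of squared length 1, such that for any two distinct non-identity x, y the product a(x) ∘ a(y) equals (1/8)(a(x) + a(y) − a(xy)) (the dihedral subalgebra of type 2A whose third axis belongs to the involution xy). Then X has order at most 4. -/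
theorem result {V : Type*} [AddCommGroup V] [Module ℝ V] [FiniteDimensional ℝ V] (mul : V →ₗ[ℝ] V →ₗ[ℝ] V) (B : LinearMap.BilinForm ℝ V) (hV : Cfsg.Axial.IsMajoranaAmbient mul B) (X : Subgroup (V ≃ₗ[ℝ] V)) (hX : ∀ x ∈ X, x * x = 1) (ax : (V ≃ₗ[ℝ] V) → V) (hax : ∀ x ∈ X, x ≠ 1 → Cfsg.Axial.IsMajoranaPair mul B x (ax x)) (h1 : ∀ x ∈ X, x ≠ 1 → B (ax x) (ax x) = 1) (h2A : ∀ x ∈ X, ∀ y ∈ X, x ≠ 1 → y ≠ 1 → x ≠ y → mul (ax x) (ax y) = (1 / 8 : ℝ) • (ax x + ax y - ax (x * y))) : Nat.card ↥X ≤ 4 := by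
  by_contra hcard
  rw [not_le] at hcard
  haveI : Finite ↥X := Nat.finite_of_card_ne_zero (by omega)
  obtain ⟨_, hsym, _, hassoc, _⟩ := hV
  have hcomm : ∀ u ∈ X, ∀ v ∈ X, u * v = v * u := by
    intro u hu v hv
    have hui : u⁻¹ = u := inv_eq_of_mul_eq_one_right (hX u hu)
    have hvi : v⁻¹ = v := inv_eq_of_mul_eq_one_right (hX v hv)
    have huv : (u * v)⁻¹ = u * v := inv_eq_of_mul_eq_one_right (hX _ (X.mul_mem hu hv))
    rw [← huv, mul_inv_rev, hui, hvi]
  have hcanc : ∀ u ∈ X, ∀ v : V ≃ₗ[ℝ] V, u * (u * v) = v := by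
    intro u hu v; rw [← mul_assoc, hX u hu, one_mul]
  have hB8 : ∀ p ∈ X, ∀ q ∈ X, p ≠ 1 → q ≠ 1 → p ≠ q → B (ax p) (ax q) = 1 / 8 := by
    intro p hp q hq hp1 hq1 hpq
    have hne : p * q ≠ 1 := fun h => hpq (by rw [← hcanc p hp q, h, mul_one])
    have hne2 : p ≠ p * q := fun h => hq1 (by simpa using h)
    have key : ∀ v : V, B (ax p) (mul (ax p) v) = B (ax p) v := by
      intro v; rw [hassoc, Majorana.idem (hax p hp hp1)]
    have e1 := key (ax q)
    have e2 := key (ax (p * q))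
    rw [h2A p hp q hq hp1 hq1 hpq] at e1
    rw [h2A p hp _ (X.mul_mem hp hq) hp1 hne hne2, hcanc p hp q] at e2
    simp only [map_smul, map_sub, map_add, smul_eq_mul, h1 p hp hp1] at e1 e2
    linarith
  have hout : ∀ s : Finset (V ≃ₗ[ℝ] V), s.card ≤ 4 → ∃ g ∈ X, g ∉ s := by
    intro s hs
    by_contra hc
    push_neg at hc
    have hinj : Function.Injective fun g : ↥X => (⟨g.1, hc g.1 g.2⟩ : {g // g ∈ s}) := by
      intro g g' h
      exact Subtype.ext (Subtype.mk.injEq _ _ _ _ ▸ h)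
    have := Nat.card_le_card_of_injective _ hinj
    rw [Nat.card_eq_finsetCard] at this
    omega
  classical
  obtain ⟨x, hxX, hx1⟩ := hout {1} (by simp)
  obtain ⟨y, hyX, hy⟩ := hout {1, x} (le_trans Finset.card_le_two (by norm_num))
  obtain ⟨z, hzX, hz⟩ := hout {1, x, y, x * y} Finset.card_le_four
  simp only [Finset.mem_insert, Finset.mem_singleton, not_or] at hx1 hy hz
  obtain ⟨hy1, hyx⟩ := hy
  obtain ⟨hz1, hzx, hzy, hzxy⟩ := hz
  have hM := hax x hxX hx1
  -- differences of axes over `x` are quarter eigenvectors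
  have hq : ∀ w ∈ X, w ≠ 1 → w ≠ x →
      mul (ax x) (ax w - ax (x * w)) = (1 / 4 : ℝ) • (ax w - ax (x * w)) := by
    intro w hw hw1 hwx
    have hne : x * w ≠ 1 := fun h => hwx (by rw [← hcanc x hxX w, h, mul_one])
    have hne2 : x ≠ x * w := fun h => hw1 (by simpa using h)
    rw [map_sub, h2A x hxX w hw hx1 hw1 (Ne.symm hwx),
      h2A x hxX _ (X.mul_mem hxX hw) hx1 hne hne2, hcanc x hxX w]
    module
  have hxy : x * y ∈ X := X.mul_mem hxX hyX
  have hxz : x * z ∈ X := X.mul_mem hxX hzX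
  have hyz : y * z ∈ X := X.mul_mem hyX hzX
  have hxy1 : x * y ≠ 1 := fun h => hyx (by rw [← hcanc x hxX y, h, mul_one])
  have hxz1 : x * z ≠ 1 := fun h => hzx (by rw [← hcanc x hxX z, h, mul_one])
  have hyz1 : y * z ≠ 1 := fun h => hzy (by rw [← hcanc y hyX z, h, mul_one])
  have hyzx : y * z ≠ x := by
    intro h
    apply hzxy
    rw [hcomm x hxX y hyX, ← h, hcanc y hyX z]
  have hy_xz : y ≠ x * z := fun h => hzxy (by rw [h, hcanc x hxX z])
  have hxy_xz : x * y ≠ x * z := fun h => hzy (mul_left_cancel h).symm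
  have p1 : y * (x * z) = x * (y * z) := by
    rw [← mul_assoc, hcomm y hyX x hxX, mul_assoc]
  have p2 : x * y * z = x * (y * z) := mul_assoc _ _ _
  have p3 : x * y * (x * z) = y * z := by rw [mul_assoc, p1, hcanc x hxX]
  have hprod : mul (ax y - ax (x * y)) (ax z - ax (x * z)) =
      (-(1 / 4) : ℝ) • (ax (y * z) - ax (x * (y * z))) := by
    rw [map_sub, map_sub, LinearMap.sub_apply, LinearMap.sub_apply,
      h2A y hyX z hzX hy1 hz1 (Ne.symm hzy), h2A y hyX _ hxz hy1 hxz1 hy_xz,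
      h2A _ hxy z hzX hxy1 hz1 (Ne.symm hzxy), h2A _ hxy _ hxz hxy1 hxz1 hxy_xz, p1, p2, p3]
    module
  have h0 := Majorana.eq_zero_of_quarter_of_mem
    (x := mul (ax y - ax (x * y)) (ax z - ax (x * z))) (a := ax x) (mul := mul) ?_ ?_
  · rw [hprod, smul_eq_zero] at h0
    have he : ax (y * z) = ax (x * (y * z)) := sub_eq_zero.1 (h0.resolve_left (by norm_num))
    have hne : y * z ≠ x * (y * z) := fun h => hx1 (by simpa using h)
    have hw1 : x * (y * z) ≠ 1 := fun h => hyzx (by rw [← hcanc x hxX (y * z), h, mul_one])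
    have h8 := hB8 _ hyz _ (X.mul_mem hxX hyz) hyz1 hw1 hne
    rw [← he, h1 _ hyz hyz1] at h8
    norm_num at h8
  · rw [hprod, map_smul, hq _ hyz hyz1 hyzx]
    module
  · exact Majorana.mul_quarter_quarter hM (hq y hyX hy1 hyx) (hq z hzX hz1 hzx)

end Cfsg.Agent.S5543
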