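import Cfsg.Statements.S5545
import Cfsg.Agent.H94.Majorana

set_option autoImplicit false
open Cfsg

namespace Cfsg.Agent.S5545
open Cfsg.Agent.H94

section

variable {V : Type*} [AddCommGroup V] [Module ℝ V] {mul : V →ₗ[ℝ] V →ₗ[ℝ] V}
  {B : LinearMap.BilinForm ℝ V}

/-- A vector fixed by the involution splits into the eigenspaces for 1, 0 and a quarter. -/
theorem decompose_fixed (hsym : ∀ u v, B u v = B v u) (hassoc : ∀ u v w, B u (mul v w) = B (mul u v) w)
    {μ : V ≃ₗ[ℝ] V} {a c : V} (h : Cfsg.Axial.IsMajoranaPair mul B μ a) (hn : B a a = 1) (hc : μ c = c) :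
    ∃ (b : ℝ) (x y : V), (c = b • a + x + y ∧ b = B a c) ∧ mul a x = 0 ∧
      mul a y = (1 / 4 : ℝ) • y ∧ mul a c = b • a + (1 / 4 : ℝ) • y := by
  obtain ⟨b, x, y, w, hd, hx, hy, -, hμ⟩ := Majorana.decompose h c
  have hw : w = 0 := by
    rw [hc] at hμ
    have : (2 : ℝ) • w = 0 := by
      rw [two_smul]
      have := sub_eq_zero.2 (hd.symm.trans hμ)
      rw [← this]; abel
    simpa using this
  rw [hw, add_zero] at hd
  have haa := Majorana.idem h
  have h1 : B a x = 0 := by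
    have := hassoc a a x
    rw [hx, haa, map_zero] at this
    exact this.symm
  have h2 : B a y = 0 := by
    have := hassoc a a y
    rw [hy, haa, map_smul, smul_eq_mul] at this
    linarith
  refine ⟨b, x, y, ⟨hd, ?_⟩, hx, hy, ?_⟩
  · rw [hd, map_add, map_add, map_smul, hn, h1, h2, smul_eq_mul]; ring
  · rw [hd, map_add, map_add, map_smul, haa, hx, hy, add_zero]

theorem second_power {μ : V ≃ₗ[ℝ] V} {a c y : V} {b : ℝ} (h : Cfsg.Axial.IsMajoranaPair mul B μ a)
    (hy : mul a y = (1 / 4 : ℝ) • y) (hp : mul a c = b • a + (1 / 4 : ℝ) • y) :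
    mul a (mul a c) = (1 / 4 : ℝ) • mul a c + (3 / 4 * b) • a := by
  rw [hp, map_add, map_smul, map_smul, hy, Majorana.idem h]; module

end


/-- Let V be a finite-dimensional real vector space with a commutative bilinear product and a positive-definite symmetric bilinear form that associates with the product and satisfies the Norton inequality (the Majorana setting of the definitions). Let μ₀, μ₁ be commuting Majorana involutions with distinct axial vectors a₀ ≠ a₁ of squared length 1, each involution having no other axial vector. Then either a₀ and a₁ are orthogonal with a₀ ∘ a₁ = 0 (type 2B), or their inner product is 1/8 and, with a₂ = a₀ + a₁ − 8 a₀ ∘ a₁, the vector a₂ is an idempotent and a₀ ∘ a₂ = (1/8)(a₀ + a₂ − a₁), a₁ ∘ a₂ = (1/8)(a₁ + a₂ − a₀) (type 2A: the three idempotents span a subalgebra with aᵢ ∘ aⱼ = (1/8)(aᵢ + aⱼ − aₖ)). -/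
theorem result {V : Type*} [AddCommGroup V] [Module ℝ V] [FiniteDimensional ℝ V] (mul : V →ₗ[ℝ] V →ₗ[ℝ] V) (B : LinearMap.BilinForm ℝ V) (hV : Cfsg.Axial.IsMajoranaAmbient mul B) (μ₀ μ₁ : V ≃ₗ[ℝ] V) (a₀ a₁ : V) (h₀ : Cfsg.Axial.IsMajoranaPair mul B μ₀ a₀) (h₁ : Cfsg.Axial.IsMajoranaPair mul B μ₁ a₁) (hu₀ : ∀ a : V, Cfsg.Axial.IsMajoranaPair mul B μ₀ a → a = a₀) (hu₁ : ∀ a : V, Cfsg.Axial.IsMajoranaPair mul B μ₁ a → a = a₁) (hn₀ : B a₀ a₀ = 1) (hn₁ : B a₁ a₁ = 1) (hc : μ₀ * μ₁ = μ₁ * μ₀) (hne : a₀ ≠ a₁) : (B a₀ a₁ = 0 ∧ mul a₀ a₁ = 0) ∨ (B a₀ a₁ = 1 / 8 ∧ mul (a₀ + a₁ - (8 : ℝ) • mul a₀ a₁) (a₀ + a₁ - (8 : ℝ) • mul a₀ a₁) = a₀ + a₁ - (8 : ℝ) • mul a₀ a₁ ∧ mul a₀ (a₀ + a₁ - (8 : ℝ) • mul a₀ a₁) = (1 / 8 : ℝ) • (a₀ + (a₀ + a₁ - (8 : ℝ) • mul a₀ a₁) - a₁) ∧ mul a₁ (a₀ + a₁ - (8 : ℝ) • mul a₀ a₁) = (1 / 8 : ℝ) • (a₁ + (a₀ + a₁ - (8 : ℝ) • mul a₀ a₁) - a₀)) := by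
  obtain ⟨hcomm, hsym, _, hassoc, _⟩ := hV
  have hfix : ∀ (μ ν : V ≃ₗ[ℝ] V) (a c : V), μ * ν = ν * μ → Cfsg.Axial.IsMajoranaPair mul B μ a →
      Cfsg.Axial.IsMajoranaPair mul B ν c →
      (∀ t : V, Cfsg.Axial.IsMajoranaPair mul B ν t → t = c) → μ c = c := by
    intro μ ν a c he hμ hν hu
    apply hu
    have := Majorana.map hν μ hμ.1 hμ.2.1
    rwa [he, mul_inv_cancel_right] at this
  obtain ⟨b, u, v, hdec, hu, hv, h01⟩ :=
    decompose_fixed hsym hassoc h₀ hn₀ (hfix μ₀ μ₁ a₀ a₁ hc h₀ h₁ hu₁)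
  obtain ⟨b', u', v', hdec', hu', hv', h10⟩ :=
    decompose_fixed hsym hassoc h₁ hn₁ (hfix μ₁ μ₀ a₁ a₀ hc.symm h₁ h₀ hu₀)
  have hb : b = B a₀ a₁ := hdec.2
  have hb' : b' = b := by rw [hdec'.2, hb, hsym]
  rw [hb'] at h10
  have hq1 := second_power h₁ hv' h10
  have hq0 := second_power h₀ hv h01
  rw [hcomm a₁ a₀] at hq1
  have haa := Majorana.idem h₀
  set E := (b * b - b) • a₀ + (mul u u - u) + mul v v with hE
  set F := (1 - b / 2) • v - (2 : ℝ) • mul u v with hF
  have hEF : E = F := by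
    have h := Majorana.idem h₁
    rw [hdec.1] at h
    simp only [map_add, map_smul, LinearMap.add_apply, LinearMap.smul_apply, smul_add, haa, hu, hv,
      hcomm u a₀, hcomm v a₀, hcomm v u, smul_zero] at h
    rw [hE, hF, ← sub_eq_zero]
    rw [← sub_eq_zero] at h
    rw [← h]; module
  have hFq : mul a₀ F = (1 / 4 : ℝ) • F := by
    rw [hF, map_sub, map_smul, map_smul, hv, Majorana.mul_zero_quarter h₀ hu hv]; module
  have hEm : E ∈ Cfsg.Axial.eigenSum mul a₀ {1, 0} := by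
    rw [hE]
    refine Submodule.add_mem _ (Submodule.add_mem _ (Submodule.smul_mem _ _ (Majorana.self_mem_oneZero h₀))
      (Majorana.zero_mem_oneZero ?_)) (Majorana.mul_quarter_quarter h₀ hv hv)
    rw [map_sub, Majorana.mul_zero_zero h₀ hu hu, hu, sub_zero]
  have hF0 : F = 0 := Majorana.eq_zero_of_quarter_of_mem hFq (hEF ▸ hEm)
  by_cases hv0 : v = 0
  · left
    rw [hv0, smul_zero, add_zero] at h01
    rw [h01, map_smul, hcomm a₁ a₀, h01, smul_smul, smul_smul] at hq1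
    have hb0 : b = 0 := by
      by_contra hbne
      apply hne
      have h : a₁ = ((b * b - 1 / 4 * b) / (3 / 4 * b)) • a₀ := by
        have h' : (3 / 4 * b) • a₁ = (b * b - 1 / 4 * b) • a₀ := by
          rw [sub_smul, eq_sub_iff_add_eq', ← hq1]
        rw [div_eq_inv_mul, mul_smul, ← h', smul_smul, inv_mul_cancel₀ (by simpa using hbne), one_smul]
      set c := (b * b - 1 / 4 * b) / (3 / 4 * b) with hcdef
      have h2 := Majorana.idem h₁
      rw [h, map_smul, map_smul, LinearMap.smul_apply, haa, smul_smul] at h2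
      have hc0 : c ≠ 0 := fun hz => Majorana.axis_ne_zero h₁ (by rw [h, hz, zero_smul])
      have hc1 : (c * c - c) • a₀ = 0 := by rw [sub_smul, h2, sub_self]
      rw [smul_eq_zero, or_iff_left (Majorana.axis_ne_zero h₀)] at hc1
      have : c = 1 := by
        have : c * (c - 1) = 0 := by rw [← hc1]; ring
        rcases mul_eq_zero.1 this with h' | h'
        · exact absurd h' hc0
        · linarith
      rw [h, this, one_smul]
    exact ⟨hb ▸ hb0, by rw [h01, hb0, zero_smul]⟩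
  · right
    have huv : mul u v = ((1 - b / 2) / 2) • v := by
      rw [hF, sub_eq_zero] at hF0
      rw [div_eq_inv_mul, mul_smul, hF0, smul_smul, inv_mul_cancel₀ (two_ne_zero), one_smul]
    -- compare the quarter parts of `a₁ (a₀ a₁)`
    set R := (b * b - b / 4 - 3 / 4 * b * b) • a₀ - (3 / 4 * b) • u + (1 / 4 : ℝ) • mul v v with hR
    set S := (1 / 4 * (1 / 4) + 3 / 4 * b - (b / 4 + b / 16 + (1 - b / 2) / 8)) • v with hS
    have hRS : R = S := by
      have h := hq1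
      rw [h01, hdec.1] at h
      simp only [map_add, map_smul, LinearMap.add_apply, LinearMap.smul_apply, smul_add, haa, hu, hv,
        hcomm u a₀, hcomm v a₀, huv, smul_zero] at h
      rw [hR, hS, ← sub_eq_zero]
      rw [← sub_eq_zero] at h
      rw [← h]; module
    have hSq : mul a₀ S = (1 / 4 : ℝ) • S := by rw [hS, map_smul, hv, smul_comm]
    have hRm : R ∈ Cfsg.Axial.eigenSum mul a₀ {1, 0} := by
      rw [hR]
      exact Submodule.add_mem _ (Submodule.sub_mem _ (Submodule.smul_mem _ _ (Majorana.self_mem_oneZero h₀))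
        (Submodule.smul_mem _ _ (Majorana.zero_mem_oneZero hu)))
        (Submodule.smul_mem _ _ (Majorana.mul_quarter_quarter h₀ hv hv))
    have hS0 := Majorana.eq_zero_of_quarter_of_mem hSq (hRS ▸ hRm)
    rw [hS, smul_eq_zero, or_iff_left hv0] at hS0
    have hb8 : b = 1 / 8 := by linarith
    have hE0 : E = 0 := hEF.trans hF0
    have ha2 : a₀ + a₁ - (8 : ℝ) • mul a₀ a₁ = b • a₀ + u - v := by
      rw [h01, hdec.1, hb8]; module
    refine ⟨hb ▸ hb8, ?_, ?_, ?_⟩
    · rw [ha2]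
      simp only [map_add, map_sub, map_smul, LinearMap.add_apply, LinearMap.sub_apply,
        LinearMap.smul_apply, smul_add, smul_sub, haa, hu, hv, hcomm u a₀, hcomm v a₀, hcomm v u,
        smul_zero, huv]
      rw [← sub_eq_zero]
      conv_rhs => rw [← hE0, hE]
      rw [hb8]
      module
    · rw [map_sub, map_add, map_smul, haa, hq0, hb8]
      module
    · rw [map_sub, map_add, map_smul, Majorana.idem h₁, hcomm a₁ a₀, hq1, hb8]
      module

end Cfsg.Agent.S5545
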