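import Cfsg.Statements.S5548
import Cfsg.Agent.H94.M24.PermModule

set_option autoImplicit false
open Cfsg

namespace Cfsg.Agent.S5548

open Cfsg.Agent.Golay Cfsg.Agent.H94.M24 Cfsg.Agent.H94.M24.PermModule
open scoped Pointwise

lemma symmDiff_move {σ : Equiv.Perm GolayPt} {t : Finset GolayPt} {a b : GolayPt}
    (hfix : ∀ x ∈ (t.erase a).toList, σ x = x) (ha : a ∈ t) (hb : b ∉ t) (hab : σ a = b) :
    symmDiff t (σ • t) = {a, b} := by
  have hfix' : ∀ x ∈ t.erase a, σ x = x := fun x hx => hfix x (Finset.mem_toList.2 hx)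
  have h : σ • t = insert b (t.erase a) := by
    conv_lhs => rw [← Finset.insert_erase ha]
    rw [Finset.smul_finset_insert, Equiv.Perm.smul_def, hab, smul_eq_self_of_fix hfix']
  rw [h]
  ext p
  simp only [Finset.mem_symmDiff, Finset.mem_insert, Finset.mem_erase, Finset.mem_singleton]
  by_cases h1 : p = a <;> by_cases h2 : p = b <;> simp_all

/-- A short word in an invariant subspace gives a word of weight two. -/
lemma exists_pair {W : Submodule (ZMod 2) (GolayPt → ZMod 2)}
    (hW' : ∀ σ ∈ Cfsg.M24, ∀ s : Finset GolayPt, ind s ∈ W →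
      ind ((σ : Equiv.Perm GolayPt) • s) ∈ W)
    (hsd : ∀ s t : Finset GolayPt, ind s ∈ W → ind t ∈ W → ind (symmDiff s t) ∈ W)
    {t : Finset GolayPt} (ht : ind t ∈ W) (ht4 : t.card ≤ 4) (htne : t.Nonempty) :
    ∃ a b : GolayPt, a ≠ b ∧ ind {a, b} ∈ W := by
  obtain ⟨a, ha⟩ := htne
  obtain ⟨b, hb⟩ : ∃ b, b ∉ t := by
    by_contra! h
    have := Finset.card_le_card (fun x _ => h x : Finset.univ ⊆ t)
    rw [show (Finset.univ : Finset GolayPt).card = 24 from rfl] at this
    omega
  obtain ⟨σ, hσ, hfix, hab⟩ := exists_move (L := (t.erase a).toList)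
    (by rw [Finset.length_toList, Finset.card_erase_of_mem ha]; omega) (Finset.nodup_toList _)
    (p := a) (q := b) (by simp) (by simp [hb])
  refine ⟨a, b, fun e => hb (e ▸ ha), ?_⟩
  rw [← symmDiff_move hfix ha hb hab]
  exact hsd _ _ ht (hW' σ hσ _ ht)

lemma witness_facts :
    (octadList.contains 5279 && octadList.contains 31554 && (popCnt (5279 &&& 31554) == 2) &&
    (wordList 12).contains 28637 && (wordList 12).contains 57274 &&
      octadList.contains (28637 ^^^ 57274) &&
    octadList.contains 1009728 && octadList.contains 15762208 &&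
      (5279 ^^^ 1009728 ^^^ 15762208 == fullMask)) = true ∧
    (basisList.all fun b => popCnt b == 8 || popCnt b == 12 || popCnt b == 16 || popCnt b == 24)
      = true := by
  decide +kernel

/-- A non-trivial code word in an invariant subspace gives the whole code. -/
lemma code_le (W : Submodule (ZMod 2) (GolayPt → ZMod 2))
    (hW' : ∀ σ ∈ Cfsg.M24, ∀ s : Finset GolayPt, ind s ∈ W →
      ind ((σ : Equiv.Perm GolayPt) • s) ∈ W)
    (hsd : ∀ s t : Finset GolayPt, ind s ∈ W → ind t ∈ W → ind (symmDiff s t) ∈ W)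
    (x : Finset GolayPt) (hx : x ∈ supports (golayCode : Set (GolayPt → ZMod 2)))
    (hne : x.Nonempty) (hnu : x ≠ Finset.univ) (hxW : ind x ∈ W) : Cfsg.golayCode ≤ W := by
  obtain ⟨hf, hbasis⟩ := witness_facts
  simp only [Bool.and_eq_true, List.contains_iff_mem, beq_iff_eq] at hf
  obtain ⟨⟨⟨⟨⟨⟨⟨⟨o0, o1⟩, h2⟩, d0⟩, d1⟩, hd⟩, oa⟩, ob⟩, hfull⟩ := hf
  have hoct : ∀ o o' : Finset GolayPt, o ∈ octads → o' ∈ octads → ind o ∈ W → ind o' ∈ W := by
    intro o o' ho ho' h
    obtain ⟨g, hg⟩ := exists_M24_map_octad ho ho'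
    rw [← show ((g : Equiv.Perm GolayPt)) • o = o' from hg]
    exact hW' _ g.2 _ h
  have hdod : ∀ d d' : Finset GolayPt, d ∈ dodecads → d' ∈ dodecads → ind d ∈ W → ind d' ∈ W := by
    intro d d' hd hd' h
    obtain ⟨g, hg⟩ := exists_M24_map_dodecad hd hd'
    rw [← show ((g : Equiv.Perm GolayPt)) • d = d' from hg]
    exact hW' _ g.2 _ h
  have hmem12 : ∀ m ∈ wordList 12, ptSet m ∈ dodecads := fun m hm => by
    unfold dodecads; rw [wordsOfWeight_eq]; exact ⟨m, hm, rfl⟩
  have hD : ∀ d : Finset GolayPt, d ∈ dodecads → ind d ∈ W → ∀ o ∈ octads, ind o ∈ W := by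
    intro d hd' h o ho
    refine hoct _ o (ptSet_mem_octads hd) ho ?_
    rw [ptSet_xor]
    exact hsd _ _ (hdod d _ hd' (hmem12 _ d0) h) (hdod d _ hd' (hmem12 _ d1) h)
  have h12 : symmDiff (ptSet 5279) (ptSet 31554) ∈ dodecads := by
    refine ⟨symmDiff_mem_supports (ptSet_mem_octads o0).1 (ptSet_mem_octads o1).1, ?_⟩
    have := card_symmDiff_add (s := ptSet 5279) (t := ptSet 31554)
    rw [← ptSet_and, card_ptSet (5279 &&& 31554), h2, (ptSet_mem_octads o0).2,
      (ptSet_mem_octads o1).2] at this
    omega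
  have hO : ∀ o ∈ octads, ind o ∈ W := by
    rcases card_mem_supports hx with h | h | h | h | h
    · exact absurd (Finset.card_eq_zero.1 h) hne.ne_empty
    · exact fun o ho => hoct x o ⟨hx, h⟩ ho hxW
    · exact hD x ⟨hx, h⟩ hxW
    · have hc8 : xᶜ.card = 8 := by rw [Finset.card_compl, h]; decide
      refine hD _ h12 ?_
      have hall : ∀ o ∈ octads, ind oᶜ ∈ W := by
        intro o ho
        obtain ⟨g, hg⟩ := exists_M24_map_octad ⟨compl_mem_supports hx, hc8⟩ ho
        have := hW' _ g.2 _ hxW
        rwa [show (g : Equiv.Perm GolayPt) • x = oᶜ from ?_] at this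
        ext p
        rw [← hg, mem_smul_finset_iff, Finset.mem_compl]
        show _ ↔ ¬p ∈ (g : Equiv.Perm GolayPt) • xᶜ
        rw [mem_smul_finset_iff, Finset.mem_compl, not_not]
      have := hsd _ _ (hall _ (ptSet_mem_octads o0)) (hall _ (ptSet_mem_octads o1))
      rwa [compl_symmDiff_compl] at this
    · exact absurd (Finset.eq_univ_of_card _ (h.trans (by decide))) hnu
  have huniv : ind (Finset.univ : Finset GolayPt) ∈ W := by
    rw [← ptSet_fullMask, ← hfull, ptSet_xor, ptSet_xor]
    exact hsd _ _ (hsd _ _ (hO _ (ptSet_mem_octads o0)) (hO _ (ptSet_mem_octads oa)))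
      (hO _ (ptSet_mem_octads ob))
  have hall : ∀ m ∈ codeList, ind (ptSet m) ∈ W := by
    refine spanList_induction (P := fun m => ind (ptSet m) ∈ W) _ ?_ ?_ ?_
    · rw [ptSet_zero, ind_empty]; exact W.zero_mem
    · intro b hb
      rw [List.mem_reverse] at hb
      have hbC : ptSet b ∈ supports (golayCode : Set (GolayPt → ZMod 2)) :=
        (ptSet_mem_supports_iff (basisList_lt b hb)).2
          (mem_spanList_of_mem _ (List.mem_reverse.2 hb))
      have := List.all_eq_true.1 hbasis b hb
      simp only [Bool.or_eq_true, beq_iff_eq, ← card_ptSet] at this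
      rcases this with ((h | h) | h) | h
      · exact hO _ ⟨hbC, h⟩
      · refine hdod _ _ h12 ⟨hbC, h⟩ (hsd _ _ ?_ ?_)
        exacts [hO _ (ptSet_mem_octads o0), hO _ (ptSet_mem_octads o1)]
      · have hc8 : (ptSet b)ᶜ.card = 8 := by rw [Finset.card_compl, h]; decide
        have := hsd _ _ huniv (hO _ ⟨compl_mem_supports hbC, hc8⟩)
        rwa [show symmDiff Finset.univ (ptSet b)ᶜ = ptSet b by ext; simp [Finset.mem_symmDiff]]
          at this
      · rwa [Finset.eq_univ_of_card _ (h.trans (by decide))]
    · intro a b ha hb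
      rw [ptSet_xor]; exact hsd _ _ ha hb
  intro w hw
  have := hall _ (mem_golayCode_iff.1 hw)
  rwa [ptSet_wordMask, ind_support₂] at this


/-- For the automorphism group of the length-24 binary Golay code of the definitions (the Mathieu group of degree 24) acting on binary words of length 24 by permuting coordinates, the only invariant subspaces of the space of all words are: zero, the span of the all-ones word, the code itself, the even-weight words, and the whole space. (So the permutation module has a unique composition series.) -/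
theorem result (W : Submodule (ZMod 2) (Cfsg.GolayPt → ZMod 2)) (hW : ∀ σ ∈ Cfsg.M24, ∀ w ∈ W, (fun p => w (σ.symm p)) ∈ W) : W = ⊥ ∨ W = Submodule.span (ZMod 2) {fun _ => (1 : ZMod 2)} ∨ W = Cfsg.golayCode ∨ (W : Set (Cfsg.GolayPt → ZMod 2)) = {w | ∑ p, w p = 0} ∨ W = ⊤ := by
  have hW' : ∀ σ ∈ Cfsg.M24, ∀ s : Finset GolayPt,
      ind s ∈ W → ind ((σ : Equiv.Perm GolayPt) • s) ∈ W := fun σ hσ s hs => by
    rw [← act_ind]; exact hW σ hσ _ hs
  have hsd : ∀ s t : Finset GolayPt, ind s ∈ W → ind t ∈ W → ind (symmDiff s t) ∈ W :=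
    fun s t hs ht => by rw [ind_symmDiff]; exact W.add_mem hs ht
  -- a pair gives all even words
  have heven : ∀ a b : GolayPt, a ≠ b → ind {a, b} ∈ W →
      ∀ s : Finset GolayPt, Even s.card → ind s ∈ W := by
    intro a b hab hpair
    have hall : ∀ x y : GolayPt, x ≠ y → ind {x, y} ∈ W := by
      intro x y hxy
      obtain ⟨k, hk, he⟩ := exists_map_list (l := [a, b]) (l' := [x, y]) rfl (by simp)
        (by simp [hab]) (by simp [hxy])
      simp only [List.map_cons, List.map_nil, List.cons.injEq, and_true] at he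
      have := hW' k hk _ hpair
      rwa [Finset.smul_finset_insert, Finset.smul_finset_singleton, Equiv.Perm.smul_def,
        Equiv.Perm.smul_def, he.1, he.2] at this
    intro s
    induction hn : s.card using Nat.strong_induction_on generalizing s with
    | _ n ih =>
      intro hev
      rcases Nat.eq_zero_or_pos n with h0 | h0
      · rw [Finset.card_eq_zero.1 (hn.trans h0), ind_empty]; exact W.zero_mem
      · have h2 : 2 ≤ s.card := by obtain ⟨m, hm⟩ := hev; omega
        obtain ⟨x, hx⟩ := Finset.card_pos.1 (show 0 < s.card by omega)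
        obtain ⟨y, hy, hyx⟩ := Finset.exists_mem_ne h2 x
        have hrest : symmDiff s {x, y} = (s.erase x).erase y := by
          ext p
          simp only [Finset.mem_symmDiff, Finset.mem_insert, Finset.mem_singleton,
            Finset.mem_erase]
          constructor
          · rintro (⟨h1, h2⟩ | ⟨h1, h2⟩)
            · exact ⟨fun e => h2 (.inr e), fun e => h2 (.inl e), h1⟩
            · rcases h1 with rfl | rfl <;> contradiction
          · rintro ⟨h1, h2, h3⟩
            exact .inl ⟨h3, by rintro (e | e) <;> contradiction⟩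
        have hc : ((s.erase x).erase y).card = n - 2 := by
          rw [Finset.card_erase_of_mem (Finset.mem_erase.2 ⟨hyx, hy⟩), Finset.card_erase_of_mem hx,
            hn]
          omega
        have := hsd _ _ (ih (n - 2) (by omega) _ hc (by rw [Nat.even_sub (by omega)]; simp [hev]))
          (hall x y (Ne.symm hyx))
        rwa [← hrest, symmDiff_symmDiff_cancel_right] at this
  -- code words
  have hcode : ∀ x : Finset GolayPt, x ∈ supports (golayCode : Set (GolayPt → ZMod 2)) →
      x.Nonempty → x ≠ Finset.univ → ind x ∈ W → Cfsg.golayCode ≤ W :=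
    code_le W hW' hsd
  have hsupp : ∀ w : GolayPt → ZMod 2,
      w ∈ Cfsg.golayCode ↔ support₂ w ∈ supports (golayCode : Set (GolayPt → ZMod 2)) :=
    fun w => by rw [← ind_mem_golayCode, ind_support₂]
  -- `W` contains all even words
  have hevenW : (∀ s : Finset GolayPt, Even s.card → ind s ∈ W) →
      (W : Set (GolayPt → ZMod 2)) = {w | ∑ p, w p = 0} ∨ W = ⊤ := by
    intro he
    by_cases hodd : ∃ w ∈ W, ∑ p, w p ≠ 0
    · right
      obtain ⟨w, hw, hs⟩ := hodd
      rw [sum_eq_card, Ne, ZMod.natCast_eq_zero_iff_even] at hs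
      rw [eq_top_iff]
      intro v _
      by_cases hv : Even (support₂ v).card
      · rw [← ind_support₂ v]; exact he _ hv
      · have h' : Even (symmDiff (support₂ v) (support₂ w)).card := by
          have := card_symmDiff_add (s := support₂ v) (t := support₂ w)
          rw [Nat.not_even_iff_odd] at hs hv
          obtain ⟨i, hi⟩ := hs
          obtain ⟨j, hj⟩ := hv
          exact ⟨i + j + 1 - ((support₂ v) ∩ (support₂ w)).card, by omega⟩
        have := W.add_mem (he _ h') hw
        rwa [ind_symmDiff, ind_support₂, ind_support₂, add_assoc,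
          show w + w = 0 from funext fun p => CharTwo.add_self_eq_zero (w p), add_zero] at this
    · left
      simp only [not_exists, not_and, not_not] at hodd
      ext w
      refine ⟨fun hw => hodd w hw, fun hw => ?_⟩
      change ∑ p, w p = 0 at hw
      rw [sum_eq_card, ZMod.natCast_eq_zero_iff_even] at hw
      rw [← ind_support₂ w]; exact he _ hw
  by_cases hx : ∃ x, x ∈ supports (golayCode : Set (GolayPt → ZMod 2)) ∧ x.Nonempty ∧
      x ≠ Finset.univ ∧ ind x ∈ W
  · obtain ⟨x, h1, h2, h3, h4⟩ := hx
    have hCW := hcode x h1 h2 h3 h4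
    by_cases hWC : W ≤ Cfsg.golayCode
    · exact .inr (.inr (.inl (le_antisymm hWC hCW)))
    refine .inr (.inr (.inr (hevenW ?_)))
    obtain ⟨w, hw, hwC⟩ := SetLike.not_le_iff_exists.1 hWC
    obtain ⟨t, ht4, hc⟩ := exists_decomp (support₂ w)
    have ht : ind t ∈ W := by
      have := hsd _ _ (by rw [ind_support₂]; exact hw) (hCW (ind_mem_golayCode.2 hc))
      rwa [← symmDiff_assoc, symmDiff_self, bot_symmDiff] at this
    have htne : t.Nonempty := by
      rw [Finset.nonempty_iff_ne_empty]
      rintro rfl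
      exact hwC ((hsupp w).2 (by rwa [← Finset.bot_eq_empty, symmDiff_bot] at hc))
    obtain ⟨a, b, hab, hpair⟩ := exists_pair hW' hsd ht ht4 htne
    exact heven a b hab hpair
  -- otherwise only the two trivial words
  have htriv : ∀ w ∈ W, support₂ w = ∅ ∨ support₂ w = Finset.univ := by
    intro w hw
    obtain ⟨t, ht4, hc⟩ := exists_decomp (support₂ w)
    set c := symmDiff (support₂ w) t with hcdef
    have hwc : support₂ w = symmDiff c t := by
      rw [hcdef, symmDiff_assoc, symmDiff_self, symmDiff_bot]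
    have hwW : ind (support₂ w) ∈ W := by rw [ind_support₂]; exact hw
    rcases t.eq_empty_or_nonempty with ht | htne
    · rw [ht, ← Finset.bot_eq_empty, symmDiff_bot] at hwc
      by_contra! h
      exact hx ⟨c, hc, hwc ▸ h.1, hwc ▸ h.2, hwc ▸ hwW⟩
    exfalso
    by_cases hcne : c = ∅ ∨ c = Finset.univ
    · obtain ⟨a, ha⟩ := htne
      obtain ⟨b, hb⟩ : ∃ b, b ∉ t := by
        by_contra! h
        have := Finset.card_le_card (fun x _ => h x : Finset.univ ⊆ t)
        rw [show (Finset.univ : Finset GolayPt).card = 24 from rfl] at this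
        omega
      obtain ⟨σ, hσ, hfix, hab⟩ := exists_move (L := (t.erase a).toList)
        (by rw [Finset.length_toList, Finset.card_erase_of_mem ha]; omega) (Finset.nodup_toList _)
        (p := a) (q := b) (by simp) (by simp [hb])
      have hσc : (σ : Equiv.Perm GolayPt) • c = c := by
        rcases hcne with h | h <;> rw [h]
        exacts [Finset.smul_finset_empty _, Finset.smul_finset_univ]
      have h1 := hsd _ _ hwW (hW' σ hσ _ hwW)
      rw [hwc, Finset.smul_finset_symmDiff, hσc, symmDiff_symmDiff_symmDiff_comm, symmDiff_self,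
        bot_symmDiff, symmDiff_move hfix ha hb hab] at h1
      have hall := heven a b (fun e => hb (e ▸ ha)) h1
      obtain ⟨o, ho⟩ : ∃ o, o ∈ octads :=
        ⟨_, ptSet_mem_octads (List.contains_iff_mem.1 out_facts.2.2.2.2.2)⟩
      refine hx ⟨o, ho.1, Finset.card_pos.1 (by rw [ho.2]; norm_num), fun e => ?_,
        hall o (by rw [ho.2]; decide)⟩
      have := ho.2
      rw [e, show (Finset.univ : Finset GolayPt).card = 24 from rfl] at this
      omega
    · rw [not_or] at hcne
      have h8 : 8 ≤ c.card ∧ c.card ≤ 16 := by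
        rcases card_mem_supports hc with h | h | h | h | h
        · exact absurd (Finset.card_eq_zero.1 h) hcne.1
        iterate 3 omega
        · exact absurd (Finset.eq_univ_of_card _ (h.trans (by decide))) hcne.2
      obtain ⟨p, hp⟩ := Finset.card_pos.1 (show 0 < (c \ t).card by
        have := Finset.le_card_sdiff t c; omega)
      obtain ⟨q, hq⟩ := Finset.card_pos.1 (show 0 < (cᶜ \ t).card by
        have := Finset.le_card_sdiff t cᶜ
        rw [Finset.card_compl, show Fintype.card GolayPt = 24 from rfl] at this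
        omega)
      rw [Finset.mem_sdiff] at hp hq
      rw [Finset.mem_compl] at hq
      obtain ⟨σ, hσ, hfix, hpq⟩ := exists_move (L := t.toList)
        (by rw [Finset.length_toList]; exact ht4) (Finset.nodup_toList _) (p := p) (q := q)
        (by simp [hp.2]) (by simp [hq.2])
      have hσt : (σ : Equiv.Perm GolayPt) • t = t :=
        smul_eq_self_of_fix fun x hx => hfix x (Finset.mem_toList.2 hx)
      have h1 := hsd _ _ hwW (hW' σ hσ _ hwW)
      rw [hwc, Finset.smul_finset_symmDiff, hσt, symmDiff_symmDiff_symmDiff_comm, symmDiff_self,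
        symmDiff_bot] at h1
      refine hx ⟨_, symmDiff_mem_supports hc (smul_mem_supports hσ hc), ⟨q, ?_⟩, ?_, h1⟩
      · rw [Finset.mem_symmDiff]
        refine .inr ⟨?_, hq.1⟩
        rw [← hpq]; exact Finset.smul_mem_smul_finset hp.1
      · intro e
        obtain ⟨a, ha⟩ := htne
        have hm : a ∈ symmDiff c ((σ : Equiv.Perm GolayPt) • c) := e ▸ Finset.mem_univ a
        have hmem : a ∈ (σ : Equiv.Perm GolayPt) • c ↔ a ∈ c := by
          rw [mem_smul_finset_iff, (Equiv.symm_apply_eq σ).2 (hfix a (Finset.mem_toList.2 ha)).symm]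
        rw [Finset.mem_symmDiff, hmem] at hm
        tauto
  by_cases h1 : ∃ w ∈ W, support₂ w = Finset.univ
  · refine .inr (.inl (le_antisymm (fun w hw => ?_) ?_))
    · rcases htriv w hw with h | h
      · rw [← ind_support₂ w, h, ind_empty]; exact Submodule.zero_mem _
      · rw [← ind_support₂ w, h]
        exact Submodule.subset_span (by simp [ind, funext_iff])
    · obtain ⟨w, hw, he⟩ := h1
      rw [Submodule.span_le, Set.singleton_subset_iff]
      rw [← ind_support₂ w, he] at hw
      rwa [show ind Finset.univ = fun _ => (1 : ZMod 2) from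
        funext fun p => if_pos (Finset.mem_univ p)] at hw
  · refine .inl ((Submodule.eq_bot_iff W).2 fun w hw => ?_)
    rw [← ind_support₂ w, (htriv w hw).resolve_right fun h => h1 ⟨w, hw, h⟩, ind_empty]

end Cfsg.Agent.S5548
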