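import Cfsg.Statements.S5549
import Cfsg.Agent.H94.M24.OrbitRigid

set_option autoImplicit false
open Cfsg

namespace Cfsg.Agent.S5549

open Cfsg.Agent.Golay Cfsg.Agent.H94.M24.PermModule Cfsg.Agent.H94.M24.OrbitRigid
open scoped Pointwise


/-- Let X be a group of linear automorphisms of the length-24 binary Golay code of the definitions that fix the all-ones word, containing the coordinate-permutation action of every element of the code's automorphism group (the Mathieu group of degree 24), and such that every element of X sends each codeword into its orbit under that Mathieu group up to adding the all-ones word (X has the same orbits as the Mathieu group on the code modulo the all-ones word). Then every element of X agrees, modulo the all-ones word, with the action of a single element of the Mathieu group: X induces exactly the Mathieu group on the code modulo the all-ones word. -/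
theorem result (X : Subgroup (↥Cfsg.golayCode ≃ₗ[ZMod 2] ↥Cfsg.golayCode)) (h1 : ∀ x ∈ X, ∀ e : ↥Cfsg.golayCode, (e : (Cfsg.GolayPt → ZMod 2)) = (fun _ => (1 : ZMod 2)) → x e = e) (hM : ∀ σ ∈ Cfsg.M24, ∃ x ∈ X, ∀ c : ↥Cfsg.golayCode, ((x c : ↥Cfsg.golayCode) : (Cfsg.GolayPt → ZMod 2)) = fun p => (c : (Cfsg.GolayPt → ZMod 2)) (σ.symm p)) (horb : ∀ x ∈ X, ∀ c : ↥Cfsg.golayCode, ∃ σ ∈ Cfsg.M24, ((x c : ↥Cfsg.golayCode) : (Cfsg.GolayPt → ZMod 2)) = (fun p => (c : (Cfsg.GolayPt → ZMod 2)) (σ.symm p)) ∨ ((x c : ↥Cfsg.golayCode) : (Cfsg.GolayPt → ZMod 2)) = (fun p => (c : (Cfsg.GolayPt → ZMod 2)) (σ.symm p)) + fun _ => (1 : ZMod 2)) (x : ↥Cfsg.golayCode ≃ₗ[ZMod 2] ↥Cfsg.golayCode) (hx : x ∈ X) : ∃ σ ∈ Cfsg.M24, ∀ c : ↥Cfsg.golayCode, ((x c : ↥Cfsg.golayCode) : (Cfsg.GolayPt → ZMod 2)) = (fun p => (c : (Cfsg.GolayPt → ZMod 2)) (σ.symm p)) ∨ ((x c : ↥Cfsg.golayCode) : (Cfsg.GolayPt → ZMod 2)) = (fun p => (c : (Cfsg.GolayPt → ZMod 2)) (σ.symm p)) + fun _ =>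 (1 : ZMod 2) := by
  classical
  let f : Finset GolayPt → Finset GolayPt := fun s =>
    if h : ind s ∈ Cfsg.golayCode then support₂ ((x ⟨ind s, h⟩ : ↥Cfsg.golayCode) : GolayPt → ZMod 2)
    else ∅
  have hfdef : ∀ c : ↥Cfsg.golayCode,
      f (support₂ (c : GolayPt → ZMod 2)) = support₂ ((x c : ↥Cfsg.golayCode) : GolayPt → ZMod 2) := by
    intro c
    have h : ind (support₂ (c : GolayPt → ZMod 2)) ∈ Cfsg.golayCode := by
      rw [ind_support₂]; exact c.2
    simp only [f, dif_pos h]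
    have hc : (⟨ind (support₂ (c : GolayPt → ZMod 2)), h⟩ : ↥Cfsg.golayCode) = c :=
      Subtype.ext (ind_support₂ _)
    rw [hc]
  have key : ∀ (a : GolayPt → ZMod 2) (σ : Equiv.Perm GolayPt) (b : GolayPt → ZMod 2),
      (b = (fun p => a (σ.symm p)) ∨ b = (fun p => a (σ.symm p)) + fun _ => (1 : ZMod 2)) ↔
        Eqv (support₂ b) (σ • support₂ a) := by
    intro a σ b
    have h1 : (fun p => a (σ.symm p)) = ind (σ • support₂ a) := by
      conv_lhs => rw [← ind_support₂ a]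
      exact act_ind σ _
    have h2 : ind (σ • support₂ a) + (fun _ => (1 : ZMod 2)) = ind (σ • support₂ a)ᶜ := by
      funext p
      simp only [ind, Pi.add_apply, Finset.mem_compl]
      split_ifs <;> decide
    rw [h1, h2]
    refine or_congr ?_ ?_ <;>
      exact ⟨fun h => by rw [h, support₂_ind], fun h => by rw [← ind_support₂ b, h]⟩
  have hgood : Good f := by
    refine ⟨fun c d hc hd => ?_, fun c hc => ?_⟩
    · obtain ⟨u, hu, rfl⟩ := hc
      obtain ⟨v, hv, rfl⟩ := hd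
      rw [← support₂_add, hfdef ⟨u, hu⟩, hfdef ⟨v, hv⟩,
        show u + v = ((⟨u, hu⟩ + ⟨v, hv⟩ : ↥Cfsg.golayCode) : GolayPt → ZMod 2) from rfl, hfdef,
        map_add, Submodule.coe_add, support₂_add]
      exact Eqv.refl _
    · obtain ⟨u, hu, rfl⟩ := hc
      obtain ⟨σ, hσ, h⟩ := horb x hx ⟨u, hu⟩
      refine ⟨σ, hσ, ?_⟩
      rw [hfdef ⟨u, hu⟩]
      exact (key _ _ _).1 h
  obtain ⟨σ, hσ, h⟩ := hgood.exists_eqv
  refine ⟨σ, hσ, fun c => (key _ _ _).2 ?_⟩
  rw [← hfdef c]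
  exact h _ ⟨_, c.2, rfl⟩

end Cfsg.Agent.S5549
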