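import Cfsg.Statements.S5550
import Cfsg.Agent.H94.M24.PermModule

set_option autoImplicit false
open Cfsg

namespace Cfsg.Agent.S5550

open Cfsg.Agent.Golay Cfsg.Agent.H94.M24 Cfsg.Agent.H94.M24.PermModule
open scoped Pointwise

lemma sub_eq_add (v w : GolayPt → ZMod 2) : v - w = v + w := by
  funext p
  exact CharTwo.sub_eq_add (v p) (w p)


/-- Let u be a word of the length-24 binary Golay code of the definitions (possibly zero or all-ones) and w any binary word of length 24 outside the code. Then some automorphism of the code (a coordinate permutation preserving it) fixes u but moves w to a word not congruent to w modulo the code: the stabilizer of a codeword fixes no non-zero element of the quotient of the space of all words by the code. -/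
theorem result (u : (Cfsg.GolayPt → ZMod 2)) (hu : u ∈ Cfsg.golayCode) (w : (Cfsg.GolayPt → ZMod 2)) (hw : w ∉ Cfsg.golayCode) : ∃ σ ∈ Cfsg.M24, (fun p => u (σ.symm p)) = u ∧ (fun p => w (σ.symm p)) - w ∉ Cfsg.golayCode := by
  obtain ⟨t, ht4, hc⟩ := exists_decomp (support₂ w)
  have htne : t.Nonempty := by
    rw [Finset.nonempty_iff_ne_empty]
    rintro rfl
    rw [← Finset.bot_eq_empty, symmDiff_bot] at hc
    exact hw (by rw [← ind_support₂ w, ind_mem_golayCode]; exact hc)
  -- it suffices to move `t` while meeting it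
  suffices h : ∃ σ ∈ Cfsg.M24, (σ : Equiv.Perm Cfsg.GolayPt) • support₂ u = support₂ u ∧
      σ • t ≠ t ∧ (t.card ≤ 3 ∨ ¬Disjoint (σ • t) t) by
    obtain ⟨σ, hσ, hσu, hne, hsmall⟩ := h
    refine ⟨σ, hσ, ?_, fun hmem => ?_⟩
    · show act σ u = u
      rw [← ind_support₂ u, act_ind, hσu]
    · change act σ w - w ∈ _ at hmem
      rw [← ind_support₂ w, act_ind, sub_eq_add, ← ind_symmDiff, ind_mem_golayCode] at hmem
      have hx := symmDiff_mem_supports hmem (symmDiff_mem_supports (smul_mem_supports hσ hc) hc)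
      rw [Finset.smul_finset_symmDiff,
        symmDiff_symmDiff_symmDiff_comm (σ • support₂ w) (σ • t) (support₂ w) t,
        ← symmDiff_assoc, symmDiff_self, bot_symmDiff] at hx
      have hpos : 0 < (symmDiff (σ • t) t).card := by
        rw [Finset.card_pos, Finset.nonempty_iff_ne_empty]
        intro e
        exact hne (symmDiff_eq_bot.1 e)
      have hlt : (symmDiff (σ • t) t).card < 8 := by
        have h' := card_symmDiff_add (s := σ • t) (t := t)
        rw [Finset.card_smul_finset] at h'
        rcases hsmall with h3 | hd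
        · omega
        · have : 0 < ((σ • t) ∩ t).card := by
            rw [Finset.card_pos, ← Finset.not_disjoint_iff_nonempty_inter]
            exact hd
          omega
      have := card_mem_supports hx
      omega
  -- the orbits of the stabiliser
  obtain ⟨P, hPU, htP, hPT⟩ : ∃ P : Finset GolayPt, 8 ≤ P.card ∧ (t ∩ P).Nonempty ∧
      TwoTrans (support₂ u) P ∧ (t.card ≤ 2 ∨ 2 ≤ (t ∩ P).card) := by
    obtain ⟨a, ha⟩ := htne
    have key : ∀ U : Finset GolayPt, (U = ∅ ∨ U = Finset.univ) ∨
        (8 ≤ U.card ∧ 8 ≤ Uᶜ.card ∧ TwoTrans (support₂ u) U ∧ TwoTrans (support₂ u) Uᶜ) →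
        U = support₂ u → ∃ P : Finset GolayPt, 8 ≤ P.card ∧ (t ∩ P).Nonempty ∧
          TwoTrans (support₂ u) P ∧ (t.card ≤ 2 ∨ 2 ≤ (t ∩ P).card) := by
      rintro U (hU | ⟨h1, h2, h3, h4⟩) he
      · refine ⟨Finset.univ, by decide, ⟨a, by simpa using ha⟩, ?_, ?_⟩
        · intro x _ y _ z _ hyx hzx
          obtain ⟨σ, hσ, hfix, hyz⟩ := exists_move (L := [x]) (by simp) (List.nodup_singleton x)
            (p := y) (q := z) (by simpa using hyx) (by simpa using hzx)
          refine ⟨σ, hσ, ?_, hfix x (by simp), hyz⟩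
          rw [← he]
          rcases hU with rfl | rfl
          · exact Finset.smul_finset_empty _
          · exact Finset.smul_finset_univ
        · rw [Finset.inter_univ]; omega
      · have hsum : (t ∩ U).card + (t ∩ Uᶜ).card = t.card := by
          rw [← Finset.card_union_of_disjoint, ← Finset.inter_union_distrib_left,
            Finset.union_compl, Finset.inter_univ]
          exact Finset.disjoint_left.2 fun x hx hx' => by
            simp only [Finset.mem_inter, Finset.mem_compl] at hx hx'
            exact hx'.2 hx.2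
        rcases le_total (t ∩ Uᶜ).card (t ∩ U).card with hle | hle
        · exact ⟨U, h1, Finset.card_pos.1 (by have := Finset.card_pos.2 ⟨a, ha⟩; omega), h3,
            by omega⟩
        · exact ⟨Uᶜ, h2, Finset.card_pos.1 (by have := Finset.card_pos.2 ⟨a, ha⟩; omega), h4,
            by omega⟩
    have hu' : support₂ u ∈ supports (golayCode : Set (GolayPt → ZMod 2)) :=
      ⟨u, hu, rfl⟩
    refine key _ ?_ rfl
    rcases card_mem_supports hu' with h | h | h | h | h
    · exact .inl (.inl (Finset.card_eq_zero.1 h))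
    · obtain ⟨h1, h2⟩ := octad_twoTrans ⟨hu', h⟩
      exact .inr ⟨h.ge, by rw [Finset.card_compl, h]; decide, h1, h2⟩
    · obtain ⟨h1, h2⟩ := dodecad_twoTrans ⟨hu', h⟩
      exact .inr ⟨by omega, by rw [Finset.card_compl, h]; decide, h1, h2⟩
    · have hc8 : (support₂ u)ᶜ.card = 8 := by rw [Finset.card_compl, h]; decide
      obtain ⟨h1, h2⟩ := octad_twoTrans ⟨compl_mem_supports hu', hc8⟩
      refine .inr ⟨by omega, hc8.ge, ?_, ?_⟩
      · simpa using h2.compl
      · simpa using h1.compl
    · exact .inl (.inr (Finset.eq_univ_of_card _ (h.trans (by decide))))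
  obtain ⟨hPT, hcase⟩ := hPT
  obtain ⟨b, hb⟩ := htP
  rw [Finset.mem_inter] at hb
  obtain ⟨c, hcP, hct⟩ : ∃ c ∈ P, c ∉ t := by
    by_contra! h
    have := Finset.card_le_card h
    omega
  by_cases h2 : 2 ≤ (t ∩ P).card
  · obtain ⟨a, haP, hab⟩ := Finset.exists_mem_ne (s := t ∩ P) h2 b
    rw [Finset.mem_inter] at haP
    obtain ⟨σ, hσ, hσu, hσa, hσb⟩ := hPT a haP.2 b hb.2 c hcP (Ne.symm hab)
      fun e => hct (e ▸ haP.1)
    refine ⟨σ, hσ, hσu, fun e => hct ?_, .inr (Finset.not_disjoint_iff.2 ⟨a, ?_, haP.1⟩)⟩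
    · rw [← e, ← hσb]; exact Finset.smul_mem_smul_finset hb.1
    · rw [← hσa]; exact Finset.smul_mem_smul_finset haP.1
  · obtain ⟨a, haP⟩ : ∃ a ∈ P, a ≠ b ∧ a ≠ c := by
      have h1 := Finset.pred_card_le_card_erase (s := P) (a := b)
      have h2 := Finset.pred_card_le_card_erase (s := P.erase b) (a := c)
      obtain ⟨a, ha⟩ := Finset.card_pos.1 (show 0 < ((P.erase b).erase c).card by omega)
      simp only [Finset.mem_erase] at ha
      exact ⟨a, ha.2.2, ha.2.1, ha.1⟩
    obtain ⟨σ, hσ, hσu, -, hσb⟩ := hPT a haP.1 b hb.2 c hcP (Ne.symm haP.2.1) (Ne.symm haP.2.2)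
    refine ⟨σ, hσ, hσu, fun e => hct ?_, .inl (by omega)⟩
    rw [← e, ← hσb]; exact Finset.smul_mem_smul_finset hb.1

end Cfsg.Agent.S5550
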