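import Cfsg.Statements.S5553
import Cfsg.Agent.H94.Leech
import Cfsg.Agent.Golay.CodeFacts
import Cfsg.Prelude.Def_Spor_Conway

set_option autoImplicit false
open Cfsg

namespace Cfsg.Agent.S5553
open Cfsg Cfsg.Agent.H92.Leech

/-- The lattice vectors with all coordinates even and mutually congruent modulo 4. -/
def subA : AddSubgroup (GolayPt → ℤ) where
  carrier := {x | x ∈ leechLattice ∧ (∀ i, (2 : ℤ) ∣ x i) ∧ ∀ i, (4 : ℤ) ∣ x i - x none}
  zero_mem' := ⟨AddSubgroup.zero_mem _, by simp, by simp⟩
  add_mem' := by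
    rintro a b ⟨ha, ha', ha''⟩ ⟨hb, hb', hb''⟩
    refine ⟨AddSubgroup.add_mem _ ha hb, fun i => ?_, fun i => ?_⟩
    · exact dvd_add (ha' i) (hb' i)
    · simp only [Pi.add_apply]; have := ha'' i; have := hb'' i; omega
  neg_mem' := by
    rintro a ⟨ha, ha', ha''⟩
    refine ⟨AddSubgroup.neg_mem _ ha, fun i => ?_, fun i => ?_⟩
    · exact (dvd_neg).2 (ha' i)
    · simp only [Pi.neg_apply]; have := ha'' i; omega

theorem diff_even {x : GolayPt → ℤ} (hx : x ∈ leechLattice) (i : GolayPt) :
    (2 : ℤ) ∣ x i - x none := by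
  obtain ⟨m, -, hpar, -, -⟩ := mem_iff.mp hx
  have := hpar i
  have := hpar none
  omega

theorem norm_dvd {x : GolayPt → ℤ} (hx : x ∈ subA) : (32 : ℤ) ∣ sqNorm x := by
  obtain ⟨hx, h2, h4⟩ := hx
  choose y hy using h2
  obtain ⟨m, hm, hpar, hsum, -⟩ := mem_iff.mp hx
  have hm0 : m = 0 := by
    have := hpar none; have := hy none; omega
  subst hm0
  simp only [hy, ← Finset.mul_sum] at hsum
  have e : sqNorm x = 4 * ∑ i, y i ^ 2 := by
    rw [sqNorm, Finset.mul_sum]
    exact Finset.sum_congr rfl fun i _ => by rw [hy i]; ring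
  have hd : (8 : ℤ) ∣ ∑ i, y i ^ 2 := by
    rcases (show y none % 2 = 0 ∨ y none % 2 = 1 by omega) with h | h
    · have hev : ∀ i, ∃ q, y i = 2 * q := fun i => ⟨y i / 2, by
        have := h4 i; have := hy i; have := hy none; omega⟩
      choose q hq using hev
      have hsum' : (2 : ℤ) ∣ ∑ i, q i := by
        simp only [hq, ← Finset.mul_sum] at hsum; omega
      have hqq : (2 : ℤ) ∣ ∑ i, (q i ^ 2 - q i) := by
        refine Finset.dvd_sum fun i _ => ?_
        have := Int.even_mul_pred_self (q i)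
        rw [even_iff_two_dvd] at this
        convert this using 1; ring
      rw [Finset.sum_sub_distrib] at hqq
      have : ∑ i, y i ^ 2 = 4 * ∑ i, q i ^ 2 := by
        rw [Finset.mul_sum]; exact Finset.sum_congr rfl fun i _ => by rw [hq i]; ring
      omega
    · have hod : (8 : ℤ) ∣ ∑ i, (y i ^ 2 - 1) := by
        refine Finset.dvd_sum fun i _ => ?_
        have hodd : ∃ k, y i = 2 * k + 1 := ⟨y i / 2, by
          have := h4 i; have := hy i; have := hy none; omega⟩
        obtain ⟨k, hk⟩ := hodd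
        obtain ⟨j, hj⟩ := even_iff_two_dvd.1 (Int.even_mul_succ_self k)
        exact ⟨j, by rw [hk]; linear_combination 4 * hj⟩
      rw [Finset.sum_sub_distrib] at hod
      have hc24 : Fintype.card GolayPt = 24 := by simp [GolayPt]
      simp only [Finset.sum_const, Finset.card_univ, hc24, nsmul_eq_mul, mul_one, Nat.cast_ofNat] at hod
      omega
  rw [e]; omega

/-- Parity and the half differences modulo 2. -/
def f : leechLattice →+ ZMod 2 × (GolayPt → ZMod 2) where
  toFun x := (((x : GolayPt → ℤ) none : ZMod 2),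
    fun i => ((((x : GolayPt → ℤ) i - (x : GolayPt → ℤ) none) / 2 : ℤ) : ZMod 2))
  map_zero' := by ext <;> simp
  map_add' a b := by
    ext i
    · simp
    · simp only [AddSubgroup.coe_add, Pi.add_apply, Prod.snd_add]
      rw [← Int.cast_add, ← Int.add_ediv_of_dvd_left (diff_even a.2 i)]
      congr 2; ring

theorem ker_f : f.ker = subA.addSubgroupOf leechLattice := by
  ext x
  obtain ⟨m, -, hpar, -, -⟩ := mem_iff.mp x.2
  rw [AddMonoidHom.mem_ker, AddSubgroup.mem_addSubgroupOf]
  simp only [f, AddMonoidHom.coe_mk, ZeroHom.coe_mk, Prod.ext_iff, funext_iff, Prod.fst_zero,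
    Prod.snd_zero, Pi.zero_apply, ZMod.intCast_zmod_eq_zero_iff_dvd]
  constructor
  · rintro ⟨h0, h⟩
    refine ⟨x.2, fun i => ?_, fun i => ?_⟩
    · have := diff_even x.2 i; omega
    · have := diff_even x.2 i; have := h i; omega
  · rintro ⟨-, h2, h4⟩
    exact ⟨h2 none, fun i => by have := h4 i; omega⟩

theorem half_diff {a b : ℤ} (h : a % 2 = b % 2) : (((a - b) / 2 : ℤ) : ZMod 2) = chi a + chi b := by
  rw [← ZMod.intCast_mod _ 2]
  unfold chi
  split_ifs with ha hb hb
  · rw [show ((a - b) / 2 % ((2 : ℕ) : ℤ)) = 0 by omega]; decide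
  · rw [show ((a - b) / 2 % ((2 : ℕ) : ℤ)) = 1 by omega]; decide
  · rw [show ((a - b) / 2 % ((2 : ℕ) : ℤ)) = 1 by omega]; decide
  · rw [show ((a - b) / 2 % ((2 : ℕ) : ℤ)) = 0 by omega]; decide

theorem normalise {c : GolayPt → ZMod 2} (hc : c ∈ golayCode) (a : ZMod 2) :
    c + (fun _ => a) ∈ golayCode := by
  rcases (show a = 0 ∨ a = 1 from by revert a; decide) with rfl | rfl
  · rw [show (fun _ => (0 : ZMod 2)) = (0 : GolayPt → ZMod 2) from rfl, add_zero]; exact hc
  · exact Submodule.add_mem _ hc H92.Golay.one_mem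

theorem f_range_sub (x : leechLattice) : (f x).2 ∈ golayCode ∧ (f x).2 none = 0 := by
  obtain ⟨m, -, hpar, -, hc⟩ := mem_iff.mp x.2
  refine ⟨?_, by simp [f]⟩
  refine (congrArg (· ∈ golayCode) (funext fun i => ?_)).mp
    (normalise hc (chi ((x : GolayPt → ℤ) none)))
  exact (half_diff ((hpar i).trans (hpar none).symm)).symm

theorem f_surj {c : GolayPt → ZMod 2} (hc : c ∈ golayCode) (h0 : c none = 0) (p : ZMod 2) :
    ∃ x, f x = (p, c) := by
  have hy : (∑ i, ((c i).val : ℤ)) % 4 = 0 := by
    have hcard : ∑ i, ((c i).val : ℤ) = (support₂ c).card := by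
      rw [support₂, ← Finset.sum_boole]
      refine Finset.sum_congr rfl fun i _ => ?_
      generalize c i = a; revert a; decide
    rcases Golay.card_support hc with h | h | h | h | h <;> rw [hcard, h] <;> norm_num
  have hcast : (fun i => (((c i).val : ℤ) : ZMod 2)) = c := by
    funext i; simp [ZMod.natCast_rightInverse (c i)]
  have hmem : (fun i => 2 * ((c i).val : ℤ)) ∈ leechLattice :=
    mem_iff.mpr (cond_two hy (by rw [hcast]; exact hc))
  have e1 : f ⟨_, hmem⟩ = (0, c) := by
    simp only [f, AddMonoidHom.coe_mk, ZeroHom.coe_mk, h0, ZMod.val_zero]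
    refine Prod.ext (by simp) (funext fun i => ?_)
    simp [ZMod.natCast_rightInverse (c i)]
  rcases (show p = 0 ∨ p = 1 from by revert p; decide) with rfl | rfl
  · exact ⟨_, e1⟩
  · refine ⟨⟨_, hmem⟩ + Spor.leechV, ?_⟩
    rw [map_add, e1]
    have e2 : f Spor.leechV = (1, 0) := by
      simp only [f, AddMonoidHom.coe_mk, ZeroHom.coe_mk, Spor.leechV, Spor.vecV]
      refine Prod.ext (by simp; decide) (funext fun i => ?_)
      by_cases h : i = none <;> simp [h] <;> decide
    rw [e2]; simp

/-- The image is a copy of the code. -/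
noncomputable def rangeEquiv : golayCode ≃ f.range where
  toFun c := ⟨(c.1 none, c.1 + fun _ => c.1 none),
    f_surj (normalise c.2 _) (by simp [CharTwo.add_self_eq_zero]) _⟩
  invFun y := ⟨y.1.2 + fun _ => y.1.1, by
    obtain ⟨x, hx⟩ := y.2
    exact normalise (hx ▸ (f_range_sub x).1) _⟩
  left_inv c := by
    apply Subtype.ext
    funext i
    simp [add_assoc, CharTwo.add_self_eq_zero]
  right_inv y := by
    obtain ⟨x, hx⟩ := y.2
    have h0 : y.1.2 none = 0 := hx ▸ (f_range_sub x).2
    apply Subtype.ext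
    refine Prod.ext (by simp [h0]) (funext fun i => ?_)
    simp [h0, add_assoc, CharTwo.add_self_eq_zero]


/-- The Leech lattice of the definitions has an additive subgroup A containing twice the lattice, of index 2^12 in the lattice, all of whose vectors have squared length divisible by 32: the invariant quadratic form 'squared length over 16 modulo 2' on the lattice modulo twice the lattice (a 24-dimensional space over the field with two elements) vanishes on a 12-dimensional subspace, so it is of plus type. -/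
theorem result : ∃ A : AddSubgroup (Cfsg.GolayPt → ℤ), A ≤ Cfsg.leechLattice ∧ (∀ v ∈ Cfsg.leechLattice, (2 : ℤ) • v ∈ A) ∧ (A.addSubgroupOf Cfsg.leechLattice).index = 2 ^ 12 ∧ ∀ v ∈ A, (32 : ℤ) ∣ Cfsg.sqNorm v := by
  refine ⟨subA, fun x hx => hx.1, fun v hv => ?_, ?_, fun v hv => norm_dvd hv⟩
  · refine ⟨AddSubgroup.zsmul_mem _ hv 2, fun i => ?_, fun i => ?_⟩
    · exact ⟨v i, by simp⟩
    · have := (diff_even hv i)
      simp only [Pi.smul_apply, smul_eq_mul]
      omega
  · rw [← ker_f, AddSubgroup.index_ker]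
    exact (Nat.card_congr rangeEquiv).symm.trans (Golay.card_golayCode.trans (by norm_num))

end Cfsg.Agent.S5553
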