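import Cfsg.Statements.S5555
import Cfsg.Agent.H92.TTThree

set_option autoImplicit false
open Cfsg

namespace Cfsg.Agent.S5555

/-- Let G be a finite group generated by a conjugacy class D of 3-transpositions, with trivial centre and with generalized Fitting subgroup F*(G) = O₂(G) (so the Fitting subgroup is O₂(G) too). If G/O₂(G) is isomorphic to the derived group of SU₃(2) (the group of order 54 generated by nine 3-transpositions), then O₂(G) has a complement in G. -/
theorem result {G : Type*} [Group G] [Finite G] {D : Set G} (hD : Cfsg.IsThreeTranspositionClass D)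
    (hZ : Subgroup.center G = ⊥) (hF : Cfsg.generalizedFittingSubgroup G = Cfsg.pCore 2 G)
    (hq : ∃ (F : Type) (_ : Field F) (_ : Fintype F), Fintype.card F = 4 ∧ Nonempty (G ⧸ Cfsg.pCore 2 G ≃* ↥(commutator ↥(Cfsg.SU 3 F 2)))) :
    ∃ K : Subgroup G, (Cfsg.pCore 2 G).IsComplement' K := by
  obtain ⟨F, iF, iFF, hF4, ⟨e⟩⟩ := hq
  obtain ⟨hX54, ⟨P, hP, hPi⟩, z, hzc, hz1, hz3⟩ := Cfsg.Agent.H92.TTThree.derived_facts hF4
  obtain ⟨K, hK⟩ := Cfsg.Agent.H92.TTThree.exists_complement hD
    (e.toMonoidHom.comp (QuotientGroup.mk' (Cfsg.pCore 2 G)))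
    (e.surjective.comp (QuotientGroup.mk'_surjective _)) hX54 P hP hPi z hzc hz1 hz3
  refine ⟨K, ?_⟩
  convert hK using 1
  ext x
  rw [MonoidHom.mem_ker, MonoidHom.comp_apply]
  exact (QuotientGroup.eq_one_iff x).symm.trans (map_eq_one_iff e e.injective).symm

end Cfsg.Agent.S5555
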