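import Cfsg.Statements.S5562

set_option autoImplicit false
open Cfsg

namespace Cfsg.Agent.S5562

/-- Two involutions with product of odd order have a midpoint among the conjugates of the first. -/
theorem exists_midpoint {G : Type*} [Group G] {S : Set G} (e u : G) (he : e * e = 1) (hu : u * u = 1)
    (hodd : Odd (orderOf (e * u))) (hS : ∀ g : G, g * e * g⁻¹ ∈ S) :
    ∃ a ∈ S, a * e * a⁻¹ = u := by
  obtain ⟨k, hk⟩ := hodd
  set r := e * u with hr
  have hei : e⁻¹ = e := inv_eq_of_mul_eq_one_right he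
  have hui : u⁻¹ = u := inv_eq_of_mul_eq_one_right hu
  have hsc : SemiconjBy e r r⁻¹ := by
    show e * r = r⁻¹ * e
    rw [hr, mul_inv_rev, hei, hui, ← mul_assoc, he, one_mul, mul_assoc, he, mul_one]
  have hconj : ∀ m : ℕ, r ^ m * e * (r ^ m)⁻¹ = r ^ (2 * m) * e := by
    intro m
    have h := (hsc.pow_right m).inv_right.eq
    rw [inv_pow, inv_inv] at h
    rw [mul_assoc, h, ← mul_assoc, two_mul, pow_add]
  refine ⟨_, hS (r ^ (k * (k + 1))), ?_⟩
  rw [hconj]
  have h1 : r ^ (2 * (k * (k + 1))) = r ^ k := by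
    have : 2 * (k * (k + 1)) = orderOf r * k + k := by rw [hk]; ring
    rw [this, pow_add, pow_mul, pow_orderOf_eq_one, one_pow, one_mul]
  rw [h1]
  have h2 : r ^ k * e * e * (r ^ k * e)⁻¹ = r ^ (2 * k) * e := by
    rw [mul_assoc (r ^ k) e e, he, mul_one, mul_inv_rev, hei, ← mul_assoc, hconj]
  rw [h2]
  have h3 : r ^ (2 * k) = r⁻¹ := by
    apply eq_inv_of_mul_eq_one_left
    rw [← pow_succ, ← hk, pow_orderOf_eq_one]
  rw [h3, hr, mul_inv_rev, hei, hui, mul_assoc, he, mul_one]


/-- Let G be a finite group, d an involution of G whose conjugates pairwise have products of odd order, and x any involution of G. Then the conjugacy class of d is the disjoint union, over the conjugates a of d commuting with x, of the sets of conjugates of d commuting with ax: every conjugate of d commutes with ax for exactly one conjugate a of d that commutes with x. -/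
theorem result {G : Type*} [Group G] [Finite G] (d : G) (hd : orderOf d = 2)
    (hodd : ∀ a ∈ conjugatesOf d, ∀ b ∈ conjugatesOf d, Odd (orderOf (a * b)))
    (x : G) (hx : orderOf x = 2) :
    ∀ e ∈ conjugatesOf d,
      ∃! a : G, a ∈ conjugatesOf d ∧ Commute a x ∧ Commute e (a * x) := by
  have hD : ∀ g a : G, a ∈ conjugatesOf d → g * a * g⁻¹ ∈ conjugatesOf d := fun g a ha =>
    IsConj.trans ha (isConj_iff.2 ⟨g, rfl⟩)
  have h2 : ∀ a ∈ conjugatesOf d, a * a = 1 := by
    intro a ha
    obtain ⟨c, rfl⟩ := isConj_iff.1 (ha : IsConj d a)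
    have hdd : d * d = 1 := by rw [← pow_two, ← hd]; exact pow_orderOf_eq_one d
    calc c * d * c⁻¹ * (c * d * c⁻¹) = c * (d * d) * c⁻¹ := by group
      _ = 1 := by rw [hdd]; group
  have hx2 : x * x = 1 := by rw [← pow_two, ← hx]; exact pow_orderOf_eq_one x
  have hxi : x⁻¹ = x := inv_eq_of_mul_eq_one_right hx2
  intro e he
  set f := x * e * x⁻¹ with hf_def
  have hfD : f ∈ conjugatesOf d := hD x e he
  have hmid : ∀ u ∈ conjugatesOf d, ∃ a ∈ conjugatesOf d, a * e * a⁻¹ = u := by
    intro u hu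
    exact exists_midpoint e u (h2 e he) (h2 u hu) (hodd e he u hu) (fun g => hD g e he)
  have hinj : Set.InjOn (fun a => a * e * a⁻¹) (conjugatesOf d) := by
    apply ((Set.toFinite (conjugatesOf d)).surjOn_iff_bijOn_of_mapsTo ?_).1 ?_ |>.injOn
    · intro a _; exact hD a e he
    · intro u hu; obtain ⟨a, ha, h⟩ := hmid u hu; exact ⟨a, ha, h⟩
  obtain ⟨a, haD, hae⟩ := hmid f hfD
  have hai : a⁻¹ = a := inv_eq_of_mul_eq_one_right (h2 a haD)
  have hback : a * f * a⁻¹ = e := by
    rw [← hae]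
    simp only [hai, ← mul_assoc, h2 a haD, one_mul]
    simp [mul_assoc, h2 a haD]
  have hxf : x⁻¹ * e * x = f := by simp [hf_def, hxi]
  have hax : Commute a x := by
    have h : x * a * x⁻¹ = a := by
      apply hinj (hD x a haD) haD
      simp only
      rw [hae, show x * a * x⁻¹ * e * (x * a * x⁻¹)⁻¹ = x * (a * (x⁻¹ * e * x) * a⁻¹) * x⁻¹ by group,
        hxf, hback]
    exact (eq_mul_inv_iff_mul_eq.1 h.symm)
  refine ⟨a, ⟨haD, hax, ?_⟩, ?_⟩
  · have h : (a * x) * e * (a * x)⁻¹ = e := by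
      rw [show (a * x) * e * (a * x)⁻¹ = a * (x * e * x⁻¹) * a⁻¹ by group]; exact hback
    exact (eq_mul_inv_iff_mul_eq.1 h.symm)
  · rintro b ⟨hbD, _, hbe⟩
    apply hinj hbD haD
    simp only
    rw [hae]
    have h : b * f * b⁻¹ = e := by
      rw [hf_def, show b * (x * e * x⁻¹) * b⁻¹ = (b * x) * e * (b * x)⁻¹ by group, ← hbe.eq]
      group
    have hbi : b⁻¹ = b := inv_eq_of_mul_eq_one_right (h2 b hbD)
    rw [← h]
    simp only [hbi, ← mul_assoc, h2 b hbD, one_mul]
    simp [mul_assoc, h2 b hbD]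

end Cfsg.Agent.S5562
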