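import Cfsg.Statements.S5565
import Cfsg.Agent.H43.J4.Main
import Cfsg.Agent.H43.J4.Bridge
import Cfsg.Agent.H85.JFour.AutM22.Main

set_option autoImplicit false
open Cfsg

namespace Cfsg.Agent.S5565

/-- Let G be a finite non-abelian simple group of Janko-four type (an involution z whose centralizer H has an extraspecial largest normal 2-subgroup E of order 2^13 containing its centralizer in H, a normal subgroup N ≥ E of H with N/E of order 3 and H/N the automorphism group of M₂₂, and a subgroup P ≤ N of order 3 with C_E(P) = ⟨z⟩, N_H(P) ≠ C_H(P) and P ≤ C_H(P)′). Then a Sylow 3-subgroup R of G contained in H is extraspecial of order 27 and exponent 3, its normalizer in G lies in H, and that normalizer has order 864. -/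
theorem result {G : Type*} [Group G] [Finite G] [IsSimpleGroup G] (hG : ¬ IsMulCommutative G) (z : G) (hJ : Cfsg.IsOfJankoFourTypeAt z) (R : Sylow 3 G) (hR : (R : Subgroup G) ≤ Subgroup.centralizer ({z} : Set G)) :
    Cfsg.IsExtraspecial 3 ↥(R : Subgroup G) ∧ Nat.card ↥(R : Subgroup G) = 27 ∧ Monoid.exponent ↥(R : Subgroup G) = 3 ∧
    Subgroup.normalizer ((R : Subgroup G) : Set G) ≤ Subgroup.centralizer ({z} : Set G) ∧ Nat.card ↥(Subgroup.normalizer ((R : Subgroup G) : Set G)) = 864 := by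
  obtain ⟨P, hJ⟩ := hJ
  obtain ⟨c, rfl, -, -, hc⟩ := H43.JFour.exists_ctx hJ
  have hd := H85.AutM22.autData
  haveI : Fact (Nat.Prime 3) := ⟨Nat.prime_three⟩
  obtain ⟨S0⟩ : Nonempty (Sylow 3 c.C) := inferInstance
  have hR0 := hc.rThree_of_sylow hd S0
  obtain ⟨T, hT⟩ := hc.R_sylow hd hR0 hG
  obtain ⟨S, hS⟩ := hc.R_sylow_H hd hR0
  have hcard : Nat.card ↥(R : Subgroup G) = 27 := by
    rw [Sylow.card_eq_multiplicity, ← T.card_eq_multiplicity]
    show Nat.card ↥(T : Subgroup G) = 27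
    rw [hT]; exact hR0.2
  have hR' : (R : Subgroup G) ≤ c.H := hR
  let U : Sylow 3 c.H := R.subtype hR'
  obtain ⟨h, hh⟩ := MulAction.exists_smul_eq c.H S U
  have hR3 : (c.conj (h : G)).IsRThree (R : Subgroup G) := by
    refine ⟨fun a ha => ?_, hcard⟩
    rw [H43.JFour.Ctx.conj_C, H43.JFour.Ctx.mem_conj_map]
    have h1 : (⟨a, hR' ha⟩ : c.H) ∈ (U : Subgroup c.H) := by simpa [U, Subgroup.mem_subgroupOf] using ha
    rw [← hh, Sylow.coe_subgroup_smul, Subgroup.mem_pointwise_smul_iff_inv_smul_mem, hS,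
      Subgroup.mem_subgroupOf] at h1
    have h2 : (h : G)⁻¹ * a * h ∈ (S0 : Subgroup c.C).map c.C.subtype := by simpa [MulAut.smul_def] using h1
    exact hR0.1 h2
  have hc' := hc.conj (h : G)
  have hz : (c.conj (h : G)).z = c.z := by
    show (h : G) * c.z * (h : G)⁻¹ = c.z
    rw [← c.mem_H.1 h.2, mul_inv_cancel_right]
  refine ⟨hc'.R_extra hd hR3, hcard, hc'.R_exponent hd hR3, fun n hn => ?_, hc'.R_norm_card hd hR3 hG⟩
  have h1 : n ∈ (c.conj (h : G)).H := (hc'.R_norm_le hd hR3 hG hn).1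
  have h2 : n ∈ c.H := c.mem_H.2 (hz ▸ (c.conj (h : G)).mem_H.1 h1)
  exact h2

end Cfsg.Agent.S5565
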