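import Cfsg.Statements.S5588
import Cfsg.Agent.H44.Y555.Push

set_option autoImplicit false
open Cfsg

namespace Cfsg.Agent.S5588

/-- In the group presented by the sixteen involutions of the Y₅₅₅ Coxeter diagram subject only to the Coxeter relations and the single spider relation (a b₁ c₁ a b₂ c₂ a b₃ c₃)^10 = 1, each of the further relators used in the definitions' presentation of the Bimonster (each end node equals the ninth power of the Coxeter element of a sub-diagram of type E₇) already holds. Equivalently, the Y₅₅₅ diagram with the spider relation alone presents the Bimonster. -/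
theorem result :
    ∀ r ∈ Cfsg.Spor.Bimonster.extra,
      (PresentedGroup.mk (Cfsg.Spor.coxRelators Cfsg.Spor.Bimonster.edges ∪ {r' | r' ∈ [(Cfsg.Spor.Bimonster.a * Cfsg.Spor.Bimonster.b1 * Cfsg.Spor.Bimonster.c1 * Cfsg.Spor.Bimonster.a * Cfsg.Spor.Bimonster.b2 * Cfsg.Spor.Bimonster.c2 * Cfsg.Spor.Bimonster.a * Cfsg.Spor.Bimonster.b3 * Cfsg.Spor.Bimonster.c3) ^ 10]}) r) = 1 := by
  intro r hr
  rw [← Cfsg.Agent.H45.mk_eq_lift]
  refine Cfsg.Agent.H44.Y555.extra_trivial ?_ ?_ r hr
  · intro x hx y hy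
    rw [← FreeGroup.lift_apply_of (f := PresentedGroup.of), ← FreeGroup.lift_apply_of (f := PresentedGroup.of) (x := y),
      ← map_mul, ← map_pow, Cfsg.Agent.H45.mk_eq_lift]
    exact PresentedGroup.one_of_mem (Or.inl ⟨x, hx, y, hy, rfl⟩)
  · rw [Cfsg.Agent.H44.Y555.pr, ← Cfsg.Agent.H44.Y555.lift_prod, Cfsg.Agent.H45.mk_eq_lift]
    apply PresentedGroup.one_of_mem
    refine Or.inr ?_
    simp [Cfsg.Agent.H44.Y555.sW, pow_succ, mul_assoc]

end Cfsg.Agent.S5588
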