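import Cfsg.Statements.S5594
import Cfsg.Agent.H92.Leech
import Cfsg.Prelude.Def_Spor_Conway

set_option autoImplicit false
open Cfsg

namespace Cfsg.Agent.S5594
open Cfsg.Agent.H92.Golay Cfsg.Agent.H92.Leech

/-- The signed permutation with square equal to negation. -/
def g : ↥Cfsg.Co0 := flipEl * invEl

theorem swap_sign : ∀ p : Cfsg.GolayPt, genWord (some 0) p + genWord (some 0) (Cfsg.projInvFun p) = 1 ∧
    Cfsg.projInvFun (Cfsg.projInvFun p) = p := by decide +kernel

theorem g_apply (v : ↥Cfsg.leechLattice) (p : Cfsg.GolayPt) :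
    ((g • v : ↥Cfsg.leechLattice) : Cfsg.GolayPt → ℤ) p =
      H92.Leech.flip p ((v : Cfsg.GolayPt → ℤ) (Cfsg.projInvFun p)) := rfl

theorem sq_spec : (∀ v : ↥Cfsg.leechLattice,
    (((g * g) • v : ↥Cfsg.leechLattice) : Cfsg.GolayPt → ℤ) = -(v : Cfsg.GolayPt → ℤ)) ∧ g * g ≠ 1 := by
  have h : ∀ v : ↥Cfsg.leechLattice,
      (((g * g) • v : ↥Cfsg.leechLattice) : Cfsg.GolayPt → ℤ) = -(v : Cfsg.GolayPt → ℤ) := by
    intro v
    funext p
    rw [mul_smul, g_apply, g_apply, (swap_sign p).2]
    have h01 : ∀ a : ZMod 2, a = 0 ∨ a = 1 := by decide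
    have h := (swap_sign p).1
    unfold H92.Leech.flip
    rcases h01 (genWord (some 0) p) with e | e <;>
      rcases h01 (genWord (some 0) (Cfsg.projInvFun p)) with e' | e' <;>
      simp [e, e'] at h ⊢ <;> exact absurd h (by decide)
  refine ⟨h, fun h1 => ?_⟩
  have := congrFun (h Cfsg.Spor.leechU) none
  rw [h1, one_smul] at this
  simp [Cfsg.Spor.leechU, Cfsg.Spor.vecU] at this


/-- The automorphism group of the Leech lattice contains the negation map, and the subgroup of order 2 it generates has no complement: the automorphism group is a non-split extension of its quotient by that subgroup (it is not the direct product of a group of order 2 with the first Conway group). -/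
theorem result :
    ∃ n : ↥Cfsg.Co0, (∀ v : ↥Cfsg.leechLattice, ((n • v : ↥Cfsg.leechLattice) : Cfsg.GolayPt → ℤ) = -(v : Cfsg.GolayPt → ℤ)) ∧
    ∀ K : Subgroup ↥Cfsg.Co0, ¬ (Subgroup.zpowers n).IsComplement' K := by
  obtain ⟨hn, hne⟩ := sq_spec
  refine ⟨g * g, hn, fun K hK => ?_⟩
  have h2 : orderOf (g * g) = 2 := by
    apply orderOf_eq_prime
    · apply Subtype.ext
      apply Equiv.ext
      intro v
      rw [pow_two]
      apply Subtype.ext
      show ((g * g) • ((g * g) • v) : ↥Cfsg.leechLattice).1 = v.1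
      rw [hn, hn, neg_neg]
    · exact hne
  have hidx : K.index = 2 := by
    rw [hK.index_eq_card, Nat.card_zpowers, h2]
  have hmem : g * g ∈ K := Subgroup.mul_self_mem_of_index_two hidx g
  have := Subgroup.disjoint_def.1 hK.disjoint (Subgroup.mem_zpowers (g * g)) hmem
  exact hne this

end Cfsg.Agent.S5594
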