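import Cfsg.Statements.S5597
import Cfsg.Agent.H94.LargeExtra

set_option autoImplicit false
open Cfsg

namespace Cfsg.Agent.S5597
open Cfsg.Agent.H94


/-- Setting: `z` is an involution of the finite group `G`; for each element `x`, `Q x` is the largest normal 2-subgroup of the centralizer of `x`; `Q z` is extraspecial and contains its own centralizer in `G`. A subgroup `U` is singular when it is elementary abelian, every non-identity element of `U` is conjugate to `z`, and any two non-identity elements `u`, `v` of `U` are orthogonal (`v ∈ Q u`). Write `QU` for the intersection of the `Q u` and `LU` for the join of the `Q u` over the non-identity `u` in `U`. If `U` is a non-trivial singular subgroup, then `LU` acts trivially on `QU / U` (every commutator of an element of `LU` with an element of `QU` lies in `U`), and for every `x` in `QU` outside `U` the centralizer of `U` in `LU` permutes the coset `x U` transitively: each `x u` with `u ∈ U` is a conjugate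 of `x` by an element of `LU` centralizing `U`. -/
theorem result {G : Type*} [Group G] [Finite G]
    (Q : G → Subgroup G)
    (hQ : ∀ x : G, Q x = (Cfsg.pCore 2 ↥(Subgroup.centralizer ({x} : Set G))).map (Subgroup.centralizer ({x} : Set G)).subtype)
    (z : G) (hz : orderOf z = 2) (hE : Cfsg.IsExtraspecial 2 ↥(Q z))
    (hC : Subgroup.centralizer ((Q z : Subgroup G) : Set G) ≤ Q z)
    (U : Subgroup G) (hU2 : ∀ u ∈ U, u * u = 1)
    (hS : ∀ u ∈ U, u ≠ 1 → ∃ g : G, g * z * g⁻¹ = u)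
    (hO : ∀ u ∈ U, ∀ v ∈ U, u ≠ 1 → v ≠ 1 → v ∈ Q u)
    (QU LU : Subgroup G) (hQU : QU = ⨅ u ∈ ((U : Set G) \ {1}), Q u) (hLU : LU = ⨆ u ∈ ((U : Set G) \ {1}), Q u)
    (hU : U ≠ ⊥) :
    (∀ g ∈ LU, ∀ x ∈ QU, g * x * g⁻¹ * x⁻¹ ∈ U) ∧
      ∀ x ∈ QU, x ∉ U → ∀ u ∈ U, ∃ g ∈ LU ⊓ Subgroup.centralizer (U : Set G), g * x * g⁻¹ = x * u := by
  obtain rfl : Q = LargeExtra.coreAt := funext hQ
  have h := LargeExtra.IsLarge.of_extraspecial hz hE hC
  have hL : ∀ u ∈ U, u ≠ 1 → LargeExtra.IsLarge u := by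
    intro u hu hu1
    obtain ⟨g, rfl⟩ := hS u hu hu1
    exact h.conj g
  subst hQU hLU
  refine ⟨fun g hg x hx => ?_, fun x hx hxU u hu => ?_⟩
  · rw [LargeExtra.iInf_mem] at hx
    have hgN : ∀ k ∈ ⨆ u ∈ ((U : Set G) \ {1}), LargeExtra.coreAt u, ∀ w ∈ U, k * w * k⁻¹ ∈ U := by
      intro k hk w hw
      have hkN : k ∈ Subgroup.normalizer (U : Set G) :=
        iSup₂_le (fun v hv => LargeExtra.le_normalizer hL hO hv.1 hv.2) hk
      exact (Subgroup.mem_normalizer_iff.1 hkN _).1 hw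
    rw [iSup_subtype'] at hg
    induction hg using Subgroup.iSup_induction' with
    | hp v g hg =>
      rcases (hL v.1 v.2.1 v.2.2).conj_cases hg (hx v.1 v.2) with e | e <;> rw [e]
      · simp
      · simpa using v.2.1
    | h1 => simp
    | hmul g₁ g₂ hg₁ hg₂ ih₁ ih₂ =>
      have hk : g₁ ∈ ⨆ u ∈ ((U : Set G) \ {1}), LargeExtra.coreAt u := by
        rw [iSup_subtype']; exact hg₁
      rw [show g₁ * g₂ * x * (g₁ * g₂)⁻¹ * x⁻¹ =
        g₁ * (g₂ * x * g₂⁻¹ * x⁻¹) * g₁⁻¹ * (g₁ * x * g₁⁻¹ * x⁻¹) by group]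
      exact U.mul_mem (hgN g₁ hk _ ih₂) ih₁
  · by_cases hu1 : u = 1
    · exact ⟨1, one_mem _, by simp [hu1]⟩
    rw [LargeExtra.iInf_mem] at hx
    have hxu := hx u ⟨hu, hu1⟩
    obtain ⟨q, hq, hqU, hqx⟩ := LargeExtra.exists_move hL hO hu hu1 (S := (U : Set G)) subset_rfl hxu
      (by rwa [Set.insert_eq_of_mem (SetLike.mem_coe.2 hu), Subgroup.closure_eq])
    refine ⟨q, ⟨LargeExtra.le_iSup_core hu hu1 hq, fun l hl => (hqU l hl).symm⟩, ?_⟩
    rw [hqx]
    exact LargeExtra.coreAt_comm hxu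

end Cfsg.Agent.S5597
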