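import Cfsg.Statements.S5598
import Cfsg.Agent.H94.LargeExtra

set_option autoImplicit false
open Cfsg

namespace Cfsg.Agent.S5598
open Cfsg.Agent.H94


/-- Setting: `z` is an involution of the finite group `G`; for each element `x`, `Q x` is the largest normal 2-subgroup of the centralizer of `x`; `Q z` is extraspecial and contains its own centralizer in `G`. A subgroup `U` is singular when it is elementary abelian, every non-identity element of `U` is conjugate to `z`, and any two non-identity elements `u`, `v` of `U` are orthogonal (`v ∈ Q u`). Write `QU` for the intersection of the `Q u` and `LU` for the join of the `Q u` over the non-identity `u` in `U`. If the singular subgroup `U` is generated by a set `T` of non-identity elements, then `QU` is already the intersection of the `Q t` over `t ∈ T`. -/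
theorem result {G : Type*} [Group G] [Finite G]
    (Q : G → Subgroup G)
    (hQ : ∀ x : G, Q x = (Cfsg.pCore 2 ↥(Subgroup.centralizer ({x} : Set G))).map (Subgroup.centralizer ({x} : Set G)).subtype)
    (z : G) (hz : orderOf z = 2) (hE : Cfsg.IsExtraspecial 2 ↥(Q z))
    (hC : Subgroup.centralizer ((Q z : Subgroup G) : Set G) ≤ Q z)
    (U : Subgroup G) (hU2 : ∀ u ∈ U, u * u = 1)
    (hS : ∀ u ∈ U, u ≠ 1 → ∃ g : G, g * z * g⁻¹ = u)
    (hO : ∀ u ∈ U, ∀ v ∈ U, u ≠ 1 → v ≠ 1 → v ∈ Q u)
    (QU LU : Subgroup G) (hQU : QU = ⨅ u ∈ ((U : Set G) \ {1}), Q u) (hLU : LU = ⨆ u ∈ ((U : Set G) \ {1}), Q u)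
    (T : Set G) (hT : Subgroup.closure T = U) (hT1 : (1 : G) ∉ T) :
    QU = ⨅ t ∈ T, Q t := by
  obtain rfl : Q = LargeExtra.coreAt := funext hQ
  have h := LargeExtra.IsLarge.of_extraspecial hz hE hC
  have hL : ∀ u ∈ U, u ≠ 1 → LargeExtra.IsLarge u := by
    intro u hu hu1
    obtain ⟨g, rfl⟩ := hS u hu hu1
    exact h.conj g
  subst hQU hLU
  refine le_antisymm ?_ ?_
  · intro y hy
    rw [LargeExtra.iInf_mem] at hy ⊢
    intro t ht
    exact hy t ⟨hT ▸ Subgroup.subset_closure ht, fun e => hT1 ((Set.mem_singleton_iff.1 e) ▸ ht)⟩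
  · intro y hy
    rw [LargeExtra.iInf_mem] at hy ⊢
    suffices ∀ v ∈ U, v ≠ 1 → y ∈ LargeExtra.coreAt v from fun u hu => this u hu.1 hu.2
    intro v hv
    rw [← hT] at hv
    suffices v ∈ U ∧ (v ≠ 1 → y ∈ LargeExtra.coreAt v) from this.2
    induction hv using Subgroup.closure_induction with
    | mem v hv => exact ⟨hT ▸ Subgroup.subset_closure hv, fun _ => hy v hv⟩
    | one => exact ⟨one_mem _, fun hn => absurd rfl hn⟩
    | inv v _ ih => rwa [inv_eq_of_mul_eq_one_right (hU2 v ih.1)]
    | mul a b _ _ iha ihb =>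
      refine ⟨U.mul_mem iha.1 ihb.1, fun hab => ?_⟩
      by_cases ha : a = 1
      · subst ha; rw [one_mul] at hab ⊢; exact ihb.2 hab
      by_cases hb : b = 1
      · subst hb; rw [mul_one] at hab ⊢; exact iha.2 hab
      have hAL := hL a iha.1 ha
      have hbA := hO a iha.1 b ihb.1 ha hb
      have hbcl : b ∉ Subgroup.closure (insert a (∅ : Set G)) := by
        rw [insert_empty_eq]
        intro hm
        rw [← Subgroup.zpowers_eq_closure] at hm
        obtain ⟨k, rfl⟩ := hm
        simp only at hb hab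
        rcases Int.even_or_odd k with ⟨m, hm⟩ | ⟨m, hm⟩
        · apply hb; rw [hm, ← two_mul, zpow_mul, zpow_two, hU2 a iha.1, one_zpow]
        · apply hab
          rw [hm, zpow_add_one, zpow_mul, zpow_two, hU2 a iha.1, one_zpow, one_mul, hU2 a iha.1]
      obtain ⟨q, hq, -, hqb⟩ := LargeExtra.exists_move hL hO iha.1 ha
        (Set.empty_subset _) hbA hbcl
      have hm := LargeExtra.conj_mem_coreAt (g := q) (ihb.2 hb)
      rw [hqb] at hm
      rcases hAL.conj_cases hq (iha.2 ha) with e | e
      · rwa [e] at hm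
      · rw [e] at hm
        have ha' := hO (a * b) (U.mul_mem iha.1 ihb.1) a iha.1 hab ha
        simpa [← mul_assoc, hAL.mul_self] using Subgroup.mul_mem _ ha' hm

end Cfsg.Agent.S5598
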