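import Cfsg.Statements.S5600
import Cfsg.Agent.H94.M24.SixSet

set_option autoImplicit false
open scoped Pointwise
open Cfsg

namespace Cfsg.Agent.S5600

open Cfsg.Agent.Golay Cfsg.Agent.H94.M24
open scoped Pointwise

/-- The action of the setwise stabiliser on the set. -/
def setHom (E : Finset GolayPt) :
    ↥(MulAction.stabilizer Cfsg.M24 E) →* Equiv.Perm ↥E where
  toFun g := ((g : ↥Cfsg.M24) : Equiv.Perm GolayPt).subtypePerm fun x => by
    have h : ((g : ↥Cfsg.M24) : Equiv.Perm GolayPt) • E = E := g.2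
    have h2 := Finset.smul_mem_smul_finset_iff ((g : ↥Cfsg.M24) : Equiv.Perm GolayPt) (s := E)
      (b := x)
    rw [h] at h2
    exact h2
  map_one' := Equiv.ext fun _ => Subtype.ext rfl
  map_mul' _ _ := Equiv.ext fun _ => Subtype.ext rfl

lemma setHom_surjective {E : Finset GolayPt} (hE : E.card = 6) :
    Function.Surjective (setHom E) := by
  rw [← MonoidHom.range_eq_top, eq_top_iff, ← Equiv.Perm.closure_isSwap, Subgroup.closure_le]
  rintro σ ⟨p, q, hpq, rfl⟩
  obtain ⟨h, hh, he⟩ := exists_six_swap hE p.2 q.2 fun e => hpq (Subtype.ext e)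
  have hE' : h • E = E := by
    refine smul_eq_of_image (fun x hx => ?_) le_rfl
    rw [he x hx, Equiv.swap_apply_def]
    split_ifs
    exacts [q.2, p.2, hx]
  refine ⟨⟨⟨h, hh⟩, hE'⟩, Equiv.ext fun x => Subtype.ext ?_⟩
  show h x.1 = _
  rw [he x.1 x.2, ← Function.Injective.swap_apply (f := fun y : ↥E => (y : GolayPt))
    Subtype.val_injective]

/-- The kernel is the pointwise stabiliser. -/
def kerEquiv (E : Finset GolayPt) :
    ↥(setHom E).ker ≃ {g : Equiv.Perm GolayPt // g ∈ Cfsg.M24 ∧ ∀ p ∈ E, g p = p} where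
  toFun g := ⟨g.1.1.1, g.1.1.2, fun p hp =>
    congrArg Subtype.val (Equiv.congr_fun (MonoidHom.mem_ker.1 g.2) ⟨p, hp⟩)⟩
  invFun g := ⟨⟨⟨g.1, g.2.1⟩, smul_eq_of_image (fun x hx => (g.2.2 x hx).symm ▸ hx) le_rfl⟩,
    MonoidHom.mem_ker.2 (Equiv.ext fun x => Subtype.ext (g.2.2 x.1 x.2))⟩
  left_inv _ := rfl
  right_inv _ := rfl


/-- Although the group of the length-24 code is only 5-transitive on the 24 points, it induces the full symmetric group on every 6-element subset: every permutation of a 6-set E is the restriction of an element of the group mapping E to itself. The pointwise stabiliser of E has order 16 when E lies in an octad and order 3 otherwise; in the latter case the setwise stabiliser of E has order 2160. -/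
theorem result (E : Finset Cfsg.GolayPt) (hE : E.card = 6) : (∀ σ : Equiv.Perm ↥E, ∃ g ∈ Cfsg.M24, ∀ p : ↥E, g p = σ p) ∧ ((∃ o ∈ Cfsg.octads, E ⊆ o) → Nat.card {g : Equiv.Perm Cfsg.GolayPt // g ∈ Cfsg.M24 ∧ ∀ p ∈ E, g p = p} = 16) ∧ ((¬ ∃ o ∈ Cfsg.octads, E ⊆ o) → Nat.card {g : Equiv.Perm Cfsg.GolayPt // g ∈ Cfsg.M24 ∧ ∀ p ∈ E, g p = p} = 3 ∧ Nat.card ↥(MulAction.stabilizer Cfsg.M24 E) = 2160) := by
  obtain ⟨p, q, hpq, hp, hq⟩ : ∃ p q, p ≠ q ∧ p ∈ E ∧ q ∈ E := by
    obtain ⟨p, hp, q, hq, h⟩ := Finset.one_lt_card.1 (show 1 < E.card by omega)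
    exact ⟨p, q, h, hp, hq⟩
  obtain ⟨S, hS, k, hk, hkS, -, -⟩ := exists_six_map hE hp hq hpq
  have hoct : (∃ o ∈ Cfsg.octads, E ⊆ o) ↔ S = sixIn := by
    rw [← six_octad hS, ← hkS]
    constructor
    · rintro ⟨o, ho, hsub⟩
      refine ⟨k⁻¹ • o, smul_mem_octads (inv_mem hk) ho, ?_⟩
      rw [← Finset.smul_finset_subset_iff (a := k)]
      simpa using hsub
    · rintro ⟨o, ho, hsub⟩
      exact ⟨k • o, smul_mem_octads hk ho, Finset.smul_finset_subset_smul_finset hsub⟩
  have hcard : Nat.card {g : Equiv.Perm Cfsg.GolayPt // g ∈ Cfsg.M24 ∧ ∀ p ∈ E, g p = p}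
      = if S = sixIn then 16 else 3 := by
    rw [← six_pointwise_card hS]
    refine Nat.card_congr (Equiv.subtypeEquiv (MulAut.conj k).symm.toEquiv fun g => ?_)
    show _ ↔ k⁻¹ * g * k ∈ stabGrp [] S
    rw [mem_stabGrp]
    refine ⟨fun h => ⟨conj_mem hk h.1, by simp, fun x hx => ?_⟩, fun h => ⟨?_, fun x hx => ?_⟩⟩
    · have := h.2 (k x) (by rw [← hkS, mem_smul_finset_iff, Equiv.symm_apply_apply]; exact hx)
      rw [Equiv.Perm.mul_apply, Equiv.Perm.mul_apply, this, Equiv.Perm.inv_def,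
        Equiv.symm_apply_apply]
    · simpa [mul_assoc] using mul_mem (mul_mem hk h.1) (inv_mem hk)
    · rw [← hkS, mem_smul_finset_iff] at hx
      have := h.2.2 _ hx
      rwa [Equiv.Perm.mul_apply, Equiv.Perm.mul_apply, Equiv.apply_symm_apply, Equiv.Perm.inv_def,
        Equiv.symm_apply_eq, Equiv.apply_symm_apply] at this
  have hsurj : Function.Surjective (setHom E) := setHom_surjective hE
  refine ⟨fun σ => ?_, fun h => by rw [hcard, if_pos (hoct.1 h)], fun h => ?_⟩
  · obtain ⟨g, hg⟩ := hsurj σ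
    exact ⟨_, (g : ↥Cfsg.M24).2, fun x => congrArg Subtype.val (Equiv.congr_fun hg x)⟩
  have hSo : S ≠ sixIn := fun e => h (hoct.2 e)
  refine ⟨by rw [hcard, if_neg hSo], ?_⟩
  rw [← Subgroup.card_mul_index (setHom E).ker, Subgroup.index_ker,
    MonoidHom.range_eq_top.2 hsurj, Subgroup.card_top, Nat.card_perm, Nat.card_eq_finsetCard, hE,
    Nat.card_congr (kerEquiv E), hcard, if_neg hSo]
  decide

end Cfsg.Agent.S5600
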