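import Cfsg.Statements.S5603
import Cfsg.Agent.H94.M24.Counts

set_option autoImplicit false
open scoped Pointwise
open Cfsg

namespace Cfsg.Agent.S5603

open Cfsg.Agent.Golay Cfsg.Agent.H94.M24


/-- A fixed-point-free element of order 3 of the group of the length-24 code maps to themselves exactly 7 sextets and exactly 15 trios. -/
theorem result (g : Equiv.Perm Cfsg.GolayPt) (hg : g ∈ Cfsg.M24) (h₃ : orderOf g = 3) (h₀ : ∀ p, g p ≠ p) : {S : Finset (Finset Cfsg.GolayPt) | S ∈ Cfsg.sextets ∧ g • S = S}.ncard = 7 ∧ {T : Finset (Finset Cfsg.GolayPt) | T ∈ Cfsg.trios ∧ g • T = T}.ncard = 15 := by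
  obtain ⟨c, hc, rfl⟩ := (exists_rep_of_nfix (exists_tri_rep hg h₃)
    (by rw [nfix_reps.2.2.1, nfix_reps.2.2.2]; norm_num)).1
    ((nfix_eq_zero_iff.2 h₀).trans nfix_reps.2.2.1.symm)
  obtain ⟨-, -, hv, -⟩ := validT_reps
  refine ⟨?_, ?_⟩
  · rw [ncard_fixed_conj (fun k hk x hx => smul_mem_sextets hk hx) hc,
      ncard_sextets_fixed hv mem_reps.2.2.1, sextet_counts.2.2.1]
  · rw [ncard_fixed_conj (fun k hk x hx => smul_mem_trios hk hx) hc, ncard_trios_fixed hv,
      trio_counts.2.2.1]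

end Cfsg.Agent.S5603
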