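import Cfsg.Statements.S5604
import Cfsg.Agent.H94.M24.Normalizer

set_option autoImplicit false
open scoped Pointwise
open Cfsg

namespace Cfsg.Agent.S5604

open Cfsg.Agent.Golay Cfsg.Agent.H94.M24
open scoped Pointwise

lemma exists_gen {S : Subgroup ↥Cfsg.M24} (hS : Nat.card S = 7) :
    ∃ σ : ↥Cfsg.M24, S = Subgroup.zpowers σ ∧ ∃ k ∈ Cfsg.M24,
      (σ : Equiv.Perm GolayPt) = k * mkPerm sevRep0 * k⁻¹ := by
  have : Fact (Nat.Prime 7) := ⟨by norm_num⟩
  have : Finite S := Nat.finite_of_card_ne_zero (by omega)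
  obtain ⟨g, hg⟩ := exists_prime_orderOf_dvd_card' 7 (G := S) (hS ▸ dvd_rfl)
  rw [← Subgroup.orderOf_coe, ← Subgroup.orderOf_coe] at hg
  have hv := validT_of_inM24 sev_facts.1
  obtain ⟨r, hr, k, hk, he⟩ := exists_sev_rep (g : ↥Cfsg.M24).2 hg
  have h7 : mkPerm sevRep0 ^ 7 = 1 := by
    rw [← (powT_spec hv 7).2, (tblEq_iff (powT_spec hv 7).1 idTblVal_spec.1).1 sev_facts.2.2.1,
      idTblVal_spec.2]
  have hne : mkPerm sevRep0 ≠ 1 := fun e => by
    rw [← idTblVal_spec.2, ← tblEq_iff hv idTblVal_spec.1] at e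
    simp [sev_facts.2.1] at e
  have hgen : ∀ x : ↥Cfsg.M24, orderOf x = 7 → (g : ↥Cfsg.M24) ∈ Subgroup.zpowers x →
      S = Subgroup.zpowers x := by
    intro x hx hgx
    have hgS : Subgroup.zpowers (g : ↥Cfsg.M24) = S :=
      Subgroup.eq_of_le_of_card_ge (Subgroup.zpowers_le.2 g.2)
        (by rw [Nat.card_zpowers, ← Subgroup.orderOf_coe, hg, hS])
    rw [← hgS]
    refine Subgroup.eq_of_le_of_card_ge (Subgroup.zpowers_le.2 hgx) ?_
    rw [Nat.card_zpowers, Nat.card_zpowers, hx, ← Subgroup.orderOf_coe, hg]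
  have hR : k * mkPerm sevRep0 * k⁻¹ ∈ Cfsg.M24 :=
    mul_mem (mul_mem hk (mem_M24_of_inM24 sev_facts.1)) (inv_mem hk)
  have hord : orderOf (⟨_, hR⟩ : ↥Cfsg.M24) = 7 := by
    rw [← Subgroup.orderOf_coe]
    refine orderOf_eq_prime (by rw [conj_pow, h7, mul_one, mul_inv_cancel]) fun e => hne ?_
    rwa [conj_eq_one_iff] at e
  refine ⟨⟨_, hR⟩, hgen _ hord ?_, k, hk, rfl⟩
  simp only [List.mem_cons, List.not_mem_nil, or_false] at hr
  rcases hr with rfl | rfl
  · rw [show (g : ↥Cfsg.M24) = ⟨_, hR⟩ from Subtype.ext he.symm]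
    exact Subgroup.mem_zpowers _
  · rw [show (g : ↥Cfsg.M24) = (⟨_, hR⟩ : ↥Cfsg.M24) ^ 3 from Subtype.ext (by
      rw [SubgroupClass.coe_pow, conj_pow, ← (powT_spec hv 3).2,
        (tblEq_iff (powT_spec hv 3).1 sev_facts.2.2.2.2).1 sev_facts.2.2.2.1]
      exact he.symm)]
    exact Subgroup.npow_mem_zpowers _ 3

/-- Conjugation identifies a subgroup of the group of the code with a set of permutations. -/
def subEquiv (k : Equiv.Perm GolayPt) (hk : k ∈ Cfsg.M24) (A : Subgroup ↥Cfsg.M24)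
    (P : Equiv.Perm GolayPt → Prop)
    (h : ∀ n : ↥Cfsg.M24, n ∈ A ↔ P (k⁻¹ * (n : Equiv.Perm GolayPt) * k)) :
    ↥A ≃ {y : Equiv.Perm GolayPt // y ∈ Cfsg.M24 ∧ P y} where
  toFun n := ⟨k⁻¹ * ((n : ↥Cfsg.M24) : Equiv.Perm GolayPt) * k,
    conj_mem hk n.1.2, (h n.1).1 n.2⟩
  invFun y := ⟨⟨k * y.1 * k⁻¹, mul_mem (mul_mem hk y.2.1) (inv_mem hk)⟩, by
    rw [h, show k⁻¹ * (k * y.1 * k⁻¹) * k = y.1 by group]
    exact y.2.2⟩
  left_inv n := by
    apply Subtype.ext; apply Subtype.ext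
    show k * (k⁻¹ * ((n : ↥Cfsg.M24) : Equiv.Perm GolayPt) * k) * k⁻¹ = _
    group
  right_inv y := by
    apply Subtype.ext
    show k⁻¹ * (k * y.1 * k⁻¹) * k = _
    group


/-- For a subgroup S of order 7 of the group of the length-24 code (a Sylow 7-subgroup): the normaliser of S has order 126, the centraliser of S has order 42 and is non-abelian, and the whole normaliser leaves some trio invariant. (These are the orders of a Frobenius group of order 21 times a symmetric group of degree 3; the isomorphism type itself is not asserted here.) -/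
theorem result (S : Subgroup ↥Cfsg.M24) (hS : Nat.card S = 7) : Nat.card ↥(Subgroup.normalizer (S : Set ↥Cfsg.M24)) = 126 ∧ Nat.card ↥(Subgroup.centralizer (S : Set ↥Cfsg.M24)) = 42 ∧ (∃ x ∈ Subgroup.centralizer (S : Set ↥Cfsg.M24), ∃ y ∈ Subgroup.centralizer (S : Set ↥Cfsg.M24), x * y ≠ y * x) ∧ ∃ T ∈ Cfsg.trios, ∀ n ∈ Subgroup.normalizer (S : Set ↥Cfsg.M24), ((n : ↥Cfsg.M24) : Equiv.Perm Cfsg.GolayPt) • T = T := by
  obtain ⟨σ, hgen, k, hk, hσ⟩ := exists_gen hS
  have hv := validT_of_inM24 sev_facts.1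
  set R := mkPerm sevRep0
  have hcoe : ∀ (n : ↥Cfsg.M24) (j : ℕ), n * σ = σ ^ j * n ↔
      k⁻¹ * (n : Equiv.Perm Cfsg.GolayPt) * k * R = R ^ j * (k⁻¹ * n * k) := by
    intro n j
    rw [Subtype.ext_iff, Subgroup.coe_mul, Subgroup.coe_mul, SubgroupClass.coe_pow, hσ, conj_pow]
    constructor <;> intro h
    · apply mul_left_cancel (a := k)
      apply mul_right_cancel (b := k⁻¹)
      simpa [mul_assoc] using h
    · apply mul_left_cancel (a := k⁻¹)
      apply mul_right_cancel (b := k)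
      simpa [mul_assoc] using h
  have hcen : ∀ n : ↥Cfsg.M24, n ∈ Subgroup.centralizer (S : Set ↥Cfsg.M24) ↔
      k⁻¹ * (n : Equiv.Perm Cfsg.GolayPt) * k * R = R * (k⁻¹ * n * k) := by
    intro n
    have h1 := hcoe n 1
    rw [pow_one, pow_one] at h1
    rw [← h1, hgen, Subgroup.mem_centralizer_iff]
    refine ⟨fun h => (h σ (Subgroup.mem_zpowers σ)).symm, fun h x hx => ?_⟩
    obtain ⟨z, rfl⟩ := Subgroup.mem_zpowers_iff.1 hx
    exact ((Commute.zpow_right h z).eq).symm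
  have ho : orderOf σ = 7 := by rw [← Nat.card_zpowers, ← hgen, hS]
  have hnor : ∀ n : ↥Cfsg.M24, n ∈ Subgroup.normalizer (S : Set ↥Cfsg.M24) ↔
      ∃ j ∈ [1, 2, 3, 4, 5, 6],
        k⁻¹ * (n : Equiv.Perm Cfsg.GolayPt) * k * R = R ^ j * (k⁻¹ * n * k) := by
    intro n
    simp only [← hcoe]
    rw [Subgroup.mem_normalizer_iff]
    constructor
    · intro h
      have hm : n * σ * n⁻¹ ∈ Subgroup.zpowers σ :=
        hgen ▸ (h σ).1 (hgen ▸ Subgroup.mem_zpowers σ)
      obtain ⟨z, hz⟩ := Subgroup.mem_zpowers_iff.1 hm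
      rw [← zpow_mod_orderOf, ho] at hz
      have h0 := Int.emod_nonneg z (show ((7 : ℕ) : ℤ) ≠ 0 by norm_num)
      have h7 := Int.emod_lt_of_pos z (show (0 : ℤ) < ((7 : ℕ) : ℤ) by norm_num)
      obtain ⟨j, hj⟩ : ∃ j : ℕ, z % ((7 : ℕ) : ℤ) = j := ⟨_, (Int.toNat_of_nonneg h0).symm⟩
      rw [hj, zpow_natCast] at hz
      have hj0 : j ≠ 0 := by
        rintro rfl
        have : σ = 1 := by
          apply mul_left_cancel (a := n)
          rw [mul_one]
          rw [pow_zero] at hz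
          rw [← mul_inv_eq_one]
          exact hz.symm
        rw [this, orderOf_one] at ho
        omega
      exact ⟨j, by simp only [List.mem_cons, List.not_mem_nil, or_false]; omega,
        by rw [hz, inv_mul_cancel_right]⟩
    · rintro ⟨j, hj, he⟩ x
      have : Finite S := Nat.finite_of_card_ne_zero (by omega)
      have hconj : n * σ * n⁻¹ = σ ^ j := by rw [he, mul_inv_cancel_right]
      have hle : S.map (MulAut.conj n).toMonoidHom ≤ S := by
        rw [hgen, MonoidHom.map_zpowers, Subgroup.zpowers_le]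
        show n * σ * n⁻¹ ∈ Subgroup.zpowers σ
        rw [hconj]
        exact Subgroup.npow_mem_zpowers σ j
      have heq : S.map (MulAut.conj n).toMonoidHom = S :=
        Subgroup.eq_of_le_of_card_ge hle
          (Nat.card_congr (S.equivMapOfInjective _ (MulAut.conj n).injective).toEquiv).le
      constructor
      · intro hx
        rw [← heq]
        exact ⟨x, hx, rfl⟩
      · intro hx
        rw [← heq] at hx
        obtain ⟨y, hy, hye⟩ := hx
        have hxy : y = x := (MulAut.conj n).injective hye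
        rwa [← hxy]
  have hM : ∀ n : ↥Cfsg.M24, k⁻¹ * (n : Equiv.Perm Cfsg.GolayPt) * k ∈ Cfsg.M24 :=
    fun n => conj_mem hk n.2
  refine ⟨?_, ?_, ?_, k • sevTrio, smul_mem_trios hk sevTrio_mem, fun n hn => ?_⟩
  · rw [← card_normalizer_sevRep]
    exact Nat.card_congr (subEquiv k hk _ _ hnor)
  · rw [← card_centralizer_sevRep]
    exact Nat.card_congr (subEquiv k hk _ _ hcen)
  · have hval : ∀ t, sevCent.contains t = true →
        ∃ x : ↥Cfsg.M24, x ∈ Subgroup.centralizer (S : Set ↥Cfsg.M24) ∧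
          k⁻¹ * (x : Equiv.Perm Cfsg.GolayPt) * k = mkPerm t := by
      intro t ht
      obtain ⟨-, hst, hrel⟩ := relList_sound hv hv root_chain (List.contains_iff_mem.1 ht)
      refine ⟨⟨k * mkPerm t * k⁻¹, mul_mem (mul_mem hk hst.1) (inv_mem hk)⟩, ?_, by group⟩
      rw [hcen, show k⁻¹ * (k * mkPerm t * k⁻¹) * k = mkPerm t by group]
      exact hrel
    obtain ⟨x, hx, hxe⟩ := hval _ sevNc_facts.1
    obtain ⟨y, hy, hye⟩ := hval _ sevNc_facts.2.1
    refine ⟨x, hx, y, hy, fun h => ?_⟩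
    have hA : validT sevNcA = true ∧ validT sevNcB = true := by decide +kernel
    have hcomm : commB sevNcA sevNcB = true := by
      rw [commB_iff hA.1 hA.2, ← hxe, ← hye]
      have h' := congrArg (fun z : ↥Cfsg.M24 => k⁻¹ * (z : Equiv.Perm Cfsg.GolayPt) * k) h
      simpa [mul_assoc] using h'
    simp [sevNc_facts.2.2.1] at hcomm
  · obtain ⟨j, hj, he⟩ := (hnor n).1 hn
    have := sevTrio_fixed (hM n) hj he
    rw [mul_smul, mul_smul, inv_smul_eq_iff] at this
    exact this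

end Cfsg.Agent.S5604
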