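import Cfsg.Statements.S5606
import Cfsg.Agent.H94.M24.Counts

set_option autoImplicit false
open scoped Pointwise
open Cfsg

namespace Cfsg.Agent.S5606

open Cfsg.Agent.Golay Cfsg.Agent.H94.M24


/-- A fixed-point-free involution of the group of the length-24 code maps to themselves exactly 15 octads, exactly 75 trios and exactly 51 sextets. -/
theorem result (g : Equiv.Perm Cfsg.GolayPt) (hg : g ∈ Cfsg.M24) (h₂ : orderOf g = 2) (h₀ : ∀ p, g p ≠ p) : {o : Finset Cfsg.GolayPt | o ∈ Cfsg.octads ∧ g • o = o}.ncard = 15 ∧ {T : Finset (Finset Cfsg.GolayPt) | T ∈ Cfsg.trios ∧ g • T = T}.ncard = 75 ∧ {S : Finset (Finset Cfsg.GolayPt) | S ∈ Cfsg.sextets ∧ g • S = S}.ncard = 51 := by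
  obtain ⟨c, hc, rfl⟩ := (exists_rep_of_nfix (exists_inv_rep hg h₂)
    (by rw [nfix_reps.1, nfix_reps.2.1]; norm_num)).1
    ((nfix_eq_zero_iff.2 h₀).trans nfix_reps.1.symm)
  obtain ⟨hv, -, -, -⟩ := validT_reps
  refine ⟨?_, ?_, ?_⟩
  · rw [ncard_fixed_conj (fun k hk x hx => smul_mem_octads hk hx) hc, ncard_octads_fixed hv,
      octad_counts.1]
  · rw [ncard_fixed_conj (fun k hk x hx => smul_mem_trios hk hx) hc, ncard_trios_fixed hv,
      trio_counts.1]
  · rw [ncard_fixed_conj (fun k hk x hx => smul_mem_sextets hk hx) hc,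
      ncard_sextets_fixed hv mem_reps.1, sextet_counts.1]

end Cfsg.Agent.S5606
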