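import Cfsg.Statements.S5607
import Cfsg.Agent.H94.M24.Centralizer

set_option autoImplicit false
open scoped Pointwise
open Cfsg

namespace Cfsg.Agent.S5607

open Cfsg.Agent.Golay Cfsg.Agent.H94.M24


/-- For a fixed-point-free involution t of the group of the length-24 code: its centraliser in that group has order 7680, is transitive on the 24 points, and is contained, together with t, in the stabiliser of some sextet. -/
theorem result (t : Equiv.Perm Cfsg.GolayPt) (ht : t ∈ Cfsg.M24) (h₂ : orderOf t = 2) (h₀ : ∀ p, t p ≠ p) : Nat.card {c : Equiv.Perm Cfsg.GolayPt // c ∈ Cfsg.M24 ∧ c * t = t * c} = 7680 ∧ (∀ p q : Cfsg.GolayPt, ∃ c ∈ Cfsg.M24, c * t = t * c ∧ c p = q) ∧ ∃ S ∈ Cfsg.sextets, t • S = S ∧ ∀ c ∈ Cfsg.M24, c * t = t * c → c • S = S := by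
  obtain ⟨k, hk, rfl⟩ := (exists_rep_of_nfix (exists_inv_rep ht h₂)
    (by rw [nfix_reps.1, nfix_reps.2.1]; norm_num)).1
    ((nfix_eq_zero_iff.2 h₀).trans nfix_reps.1.symm)
  have key : ∀ c : Equiv.Perm Cfsg.GolayPt,
      (c ∈ Cfsg.M24 ∧ c * (k * mkPerm invRep0 * k⁻¹) = k * mkPerm invRep0 * k⁻¹ * c)
        ↔ k⁻¹ * c * k ∈ invCentGrp := by
    intro c
    rw [mem_invCentGrp]
    refine and_congr ⟨fun h => conj_mem hk h, fun h => ?_⟩ ?_
    · simpa [mul_assoc] using mul_mem (mul_mem hk h) (inv_mem hk)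
    · constructor <;> intro h
      · apply mul_left_cancel (a := k)
        apply mul_right_cancel (b := k⁻¹)
        simpa [mul_assoc] using h
      · apply mul_right_cancel (b := k)
        apply mul_left_cancel (a := k⁻¹)
        simpa [mul_assoc] using h
  refine ⟨?_, fun p q => ?_, k • invCentSextet, smul_mem_sextets hk invCentSextet_mem, ?_,
    fun c hc hcomm => ?_⟩
  · rw [← card_invCentGrp]
    refine Nat.card_congr
      (Equiv.subtypeEquiv (MulAut.conj k).symm.toEquiv fun c => ?_)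
    rw [key c]
    rfl
  · obtain ⟨σ, hσ, he⟩ := invCentGrp_transitive (k⁻¹ p) (k⁻¹ q)
    have hm : k⁻¹ * (k * σ * k⁻¹) * k ∈ invCentGrp := by
      rwa [show k⁻¹ * (k * σ * k⁻¹) * k = σ by group]
    exact ⟨k * σ * k⁻¹, ((key _).2 hm).1, ((key _).2 hm).2, by
      rw [Equiv.Perm.mul_apply, Equiv.Perm.mul_apply, he, Equiv.Perm.inv_def,
        Equiv.apply_symm_apply]⟩
  · rw [mul_smul, mul_smul, inv_smul_smul,
      invCentSextet_fixed (mem_invCentGrp.2 ⟨mem_M24_of_inM24 (by decide +kernel), rfl⟩)]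
  · have := invCentSextet_fixed ((key c).1 ⟨hc, hcomm⟩)
    rw [mul_smul, mul_smul, inv_smul_eq_iff] at this
    exact this

end Cfsg.Agent.S5607
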