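import Cfsg.Statements.S5608
import Cfsg.Agent.H95.GolayFive
open Cfsg.Agent.H95 Cfsg.Agent.Golay

set_option autoImplicit false
open scoped Pointwise
open Cfsg

namespace Cfsg.Agent.S5608

/-- If an element of order 3 and an involution of the group of the length-24 code commute, then either the element of order 3 has exactly 6 fixed points and the involution exactly 8, or both are fixed-point-free. -/
theorem result (x s : Equiv.Perm Cfsg.GolayPt) (hx : x ∈ Cfsg.M24) (hs : s ∈ Cfsg.M24) (h₃ : orderOf x = 3) (h₂ : orderOf s = 2) (hc : Commute x s) : ((Finset.univ.filter fun p => x p = p).card = 6 ∧ (Finset.univ.filter fun p => s p = p).card = 8) ∨ ((Finset.univ.filter fun p => x p = p).card = 0 ∧ (Finset.univ.filter fun p => s p = p).card = 0) := by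
  have hx3 : x ^ 3 = 1 := h₃ ▸ pow_orderOf_eq_one x
  have hs2 : s ^ 2 = 1 := h₂ ▸ pow_orderOf_eq_one s
  have hxne : x ≠ 1 := fun h => by rw [h, orderOf_one] at h₃; omega
  have hsne : s ≠ 1 := fun h => by rw [h, orderOf_one] at h₂; omega
  have hss : ∀ p, s (s p) = p := fun p => by
    have := Equiv.congr_fun hs2 p
    simpa [pow_succ] using this
  have hxs : ∀ p, x (s p) = s (x p) := fun p => Equiv.congr_fun hc p
  rcases fixed_six_order_three hx hx3 hxne with hxc | hxc <;>
    rcases fixed_eight_order_two hs hs2 hsne with hsc | hsc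
  · exact Or.inr ⟨hxc, hsc⟩
  · -- an element without fixed points of order 3 cannot permute eight points
    exfalso
    set F := Finset.univ.filter fun p => s p = p with hF
    have hiff : ∀ p, x p ∈ F ↔ p ∈ F := fun p => by
      simp only [hF, Finset.mem_filter, Finset.mem_univ, true_and]
      rw [← hxs]
      exact x.injective.eq_iff
    let y : Equiv.Perm {p // p ∈ F} := x.subtypePerm hiff
    haveI : Fact (Nat.Prime 3) := ⟨Nat.prime_three⟩
    have hy3 : y ^ 3 ^ 1 = 1 := by
      refine Equiv.ext fun p => Subtype.ext ?_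
      rw [pow_one, Equiv.Perm.subtypePerm_pow]
      exact Equiv.congr_fun hx3 _
    have hsupp : y.supportᶜ = ∅ := by
      rw [Finset.eq_empty_iff_forall_notMem]
      intro p hp
      simp only [Finset.mem_compl, Equiv.Perm.mem_support, not_not] at hp
      rw [Finset.card_eq_zero, Finset.filter_eq_empty_iff] at hxc
      exact hxc (Finset.mem_univ p.1) (congrArg Subtype.val hp)
    have h := Equiv.Perm.card_compl_support_modEq hy3
    rw [hsupp, Fintype.card_coe, hsc, Finset.card_empty] at h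
    exact absurd h (by decide)
  · -- a fixed-point-free involution inverts it
    exfalso
    set E := Finset.univ.filter fun p => x p = p with hE
    have hnf : ∀ p, s p ≠ p := by
      intro p hp
      rw [Finset.card_eq_zero, Finset.filter_eq_empty_iff] at hsc
      exact hsc (Finset.mem_univ p) hp
    have hsE : ∀ p, x p = p → x (s p) = s p := fun p hp => by rw [hxs, hp]
    have hmem : ∀ p, p ∈ E ↔ x p = p := fun p => by simp [hE]
    obtain ⟨a, ha⟩ := Finset.card_pos.1 (show 0 < E.card by omega)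
    obtain ⟨b, hb, hb'⟩ := Finset.exists_mem_notMem_of_card_lt_card
      (s := ({a, s a} : Finset Cfsg.GolayPt)) (t := E)
      (lt_of_le_of_lt Finset.card_le_two (by omega))
    obtain ⟨c, hc', hc''⟩ := Finset.exists_mem_notMem_of_card_lt_card
      (s := ({a, s a, b, s b} : Finset Cfsg.GolayPt)) (t := E)
      (lt_of_le_of_lt Finset.card_le_four (by omega))
    rw [hmem] at ha hb hc'
    simp only [Finset.mem_insert, Finset.mem_singleton, not_or] at hb' hc''
    obtain ⟨⟨g₁, hg₁, i₁, a₁, b₁, f₁⟩, hcen⟩ :=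
      six_fixed_inverters hx hx3 hxne hxc ha (hsE a ha) (hnf a).symm
    obtain ⟨⟨g₂, hg₂, i₂, a₂, b₂, f₂⟩, -⟩ :=
      six_fixed_inverters hx hx3 hxne hxc hb (hsE b hb) (hnf b).symm
    obtain ⟨⟨g₃, hg₃, i₃, a₃, b₃, f₃⟩, -⟩ :=
      six_fixed_inverters hx hx3 hxne hxc hc' (hsE c hc') (hnf c).symm
    have hall : E = {a, s a, b, s b, c, s c} := by
      refine (Finset.eq_of_subset_of_card_le ?_ ?_).symm
      · simp [Finset.insert_subset_iff, hmem, ha, hb, hc', hsE a ha, hsE b hb, hsE c hc']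
      · have n1 : s a ≠ s b := fun e => hb'.1 (s.injective e).symm
        have n2 : a ≠ s b := fun e => hb'.2 (by rw [e, hss])
        have n3 : s a ≠ s c := fun e => hc''.1 (s.injective e).symm
        have n4 : a ≠ s c := fun e => hc''.2.1 (by rw [e, hss])
        have n5 : s b ≠ s c := fun e => hc''.2.2.1 (s.injective e).symm
        have n6 : b ≠ s c := fun e => hc''.2.2.2 (by rw [e, hss])
        rw [hxc]
        simp [Ne.symm (hnf a), Ne.symm (hnf b), Ne.symm (hnf c), n1, n2, n3, n4, n5, n6,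
          Ne.symm hb'.1, Ne.symm hb'.2, Ne.symm hc''.1, Ne.symm hc''.2.1, Ne.symm hc''.2.2.1,
          Ne.symm hc''.2.2.2]
    have hu : ∀ p, x p = p → (g₁ * g₂ * g₃ * s) p = p := by
      intro p hp
      have hp' : p ∈ E := (hmem p).2 hp
      rw [hall] at hp'
      simp only [Finset.mem_insert, Finset.mem_singleton] at hp'
      simp only [Equiv.Perm.mul_apply]
      have n1 : s a ≠ s b := fun e => hb'.1 (s.injective e).symm
      have n2 : a ≠ s b := fun e => hb'.2 (by rw [e, hss])
      have n3 : s a ≠ s c := fun e => hc''.1 (s.injective e).symm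
      have n4 : a ≠ s c := fun e => hc''.2.1 (by rw [e, hss])
      have n5 : s b ≠ s c := fun e => hc''.2.2.1 (s.injective e).symm
      have n6 : b ≠ s c := fun e => hc''.2.2.2 (by rw [e, hss])
      rcases hp' with rfl | rfl | rfl | rfl | rfl | rfl
      · rw [f₃ _ (Ne.symm hc''.2.1) n3 (hsE _ ha), f₂ _ (Ne.symm hb'.2) n1 (hsE _ ha), b₁]
      · rw [hss, f₃ _ (Ne.symm hc''.1) n4 ha, f₂ _ (Ne.symm hb'.1) n2 ha, a₁]
      · rw [f₃ _ (Ne.symm hc''.2.2.2) n5 (hsE _ hb), b₂, f₁ _ hb'.1 hb'.2 hb]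
      · rw [hss, f₃ _ (Ne.symm hc''.2.2.1) n6 hb, a₂, f₁ _ (Ne.symm n2) (Ne.symm n1) (hsE _ hb)]
      · rw [b₃, f₂ _ hc''.2.2.1 hc''.2.2.2 hc', f₁ _ hc''.1 hc''.2.1 hc']
      · rw [hss, a₃, f₂ _ (Ne.symm n6) (Ne.symm n5) (hsE _ hc'),
          f₁ _ (Ne.symm n4) (Ne.symm n3) (hsE _ hc')]
    have hcomm := hcen _ (mul_mem (mul_mem (mul_mem hg₁ hg₂) hg₃) hs) hu
    have j₁ : ∀ {g : Equiv.Perm Cfsg.GolayPt}, g * x = x⁻¹ * g → g * x⁻¹ = x * g := fun {g} i => by
      rw [mul_inv_eq_iff_eq_mul, mul_assoc, i, mul_inv_cancel_left]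
    have hinv : g₁ * g₂ * g₃ * s * x = x⁻¹ * (g₁ * g₂ * g₃ * s) := by
      calc g₁ * g₂ * g₃ * s * x = g₁ * g₂ * (g₃ * x) * s := by
            simp only [mul_assoc]; rw [hc.symm.eq]
        _ = g₁ * (g₂ * x⁻¹) * g₃ * s := by rw [i₃]; group
        _ = g₁ * x * g₂ * g₃ * s := by rw [j₁ i₂]; group
        _ = x⁻¹ * (g₁ * g₂ * g₃ * s) := by rw [i₁]; group
    rw [hinv] at hcomm
    have hxx : x⁻¹ = x := mul_right_cancel hcomm
    have hx2 : x ^ 2 = 1 := by
      rw [pow_two]; nth_rewrite 1 [← hxx]; exact inv_mul_cancel x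
    exact hxne (by rw [← hx3, pow_succ, hx2, one_mul])
  · exact Or.inl ⟨hxc, hsc⟩

end Cfsg.Agent.S5608
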