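import Cfsg.Statements.S5609
import Cfsg.Agent.H95.GolayJoint
open Cfsg.Agent.H95

set_option autoImplicit false
open scoped Pointwise
open Cfsg

namespace Cfsg.Agent.S5609

/-- The vertices of the graph. -/
abbrev G0 := Cfsg.blockGraph Cfsg.octads

lemma adj_of_disjoint {o o' : Finset Cfsg.GolayPt} (ho : o ∈ Cfsg.octads) (ho' : o' ∈ Cfsg.octads)
    (hd : Disjoint o o') : G0.Adj ⟨o, ho⟩ ⟨o', ho'⟩ := by
  refine ⟨fun e => ?_, Or.inl hd⟩
  have e' : o = o' := congrArg Subtype.val e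
  subst e'
  have h8 : o.card = 8 := ho.2
  rw [disjoint_self.1 hd] at h8
  simp at h8

lemma disjoint_of_adj {u v : Cfsg.octads} (h : G0.Adj u v) :
    Disjoint (u : Finset Cfsg.GolayPt) (v : Finset Cfsg.GolayPt) := by
  rcases h.2 with h | h
  · exact h
  · exact h.symm

lemma walk_le_three {o o' : Finset Cfsg.GolayPt} (ho : o ∈ Cfsg.octads) (ho' : o' ∈ Cfsg.octads) :
    ∃ w : G0.Walk ⟨o, ho⟩ ⟨o', ho'⟩, w.length ≤ 3 ∧ ((o ∩ o').card = 0 → w.length ≤ 1) ∧
      ((o ∩ o').card = 4 → w.length ≤ 2) := by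
  rcases eq_or_ne o o' with rfl | hne
  · exact ⟨.nil, by simp, by simp, by simp⟩
  obtain ⟨htri, h4, h2⟩ := octad_pair_pattern ho ho'
  rcases htri hne with h | h | h
  · exact ⟨.cons (adj_of_disjoint ho ho' (Finset.disjoint_iff_inter_eq_empty.2
      (Finset.card_eq_zero.1 h))) .nil, by simp, by simp, by simp [h]⟩
  · obtain ⟨a, ha, hoa, hc4⟩ := (h2 h).2
    obtain ⟨b, hb, hab, hbo⟩ := (octad_pair_pattern ha ho').2.1 hc4
    exact ⟨.cons (adj_of_disjoint ho ha hoa) (.cons (adj_of_disjoint ha hb hab)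
      (.cons (adj_of_disjoint hb ho' hbo) .nil)), by simp, by simp [h], by simp [h]⟩
  · obtain ⟨a, ha, hoa, hao⟩ := h4 h
    exact ⟨.cons (adj_of_disjoint ho ha hoa) (.cons (adj_of_disjoint ha ho' hao) .nil),
      by simp, by simp [h], by simp⟩

/-- In the graph on the 759 octads of the length-24 code in which two octads are adjacent when they are disjoint, the graph is connected (of diameter 3) and two distinct octads are at distance 1, 2 or 3 exactly when they meet in 0, 4 or 2 points respectively. -/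
theorem result (o o' : Finset Cfsg.GolayPt) (ho : o ∈ Cfsg.octads) (ho' : o' ∈ Cfsg.octads) (hne : o ≠ o') : (Cfsg.blockGraph Cfsg.octads).Connected ∧ ((Cfsg.blockGraph Cfsg.octads).dist ⟨o, ho⟩ ⟨o', ho'⟩ = 1 ↔ (o ∩ o').card = 0) ∧ ((Cfsg.blockGraph Cfsg.octads).dist ⟨o, ho⟩ ⟨o', ho'⟩ = 2 ↔ (o ∩ o').card = 4) ∧ ((Cfsg.blockGraph Cfsg.octads).dist ⟨o, ho⟩ ⟨o', ho'⟩ = 3 ↔ (o ∩ o').card = 2) := by
  have hconn : (Cfsg.blockGraph Cfsg.octads).Connected :=
    { preconnected := fun u v => by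
        obtain ⟨w, -⟩ := walk_le_three u.2 v.2
        exact ⟨w⟩
      nonempty := ⟨⟨o, ho⟩⟩ }
  obtain ⟨w, hw3, hw1, hw2⟩ := walk_le_three ho ho'
  have hle : (Cfsg.blockGraph Cfsg.octads).dist ⟨o, ho⟩ ⟨o', ho'⟩ ≤ w.length :=
    SimpleGraph.dist_le w
  have hpos : 0 < (Cfsg.blockGraph Cfsg.octads).dist ⟨o, ho⟩ ⟨o', ho'⟩ :=
    hconn.pos_dist_of_ne fun e => hne (congrArg Subtype.val e)
  obtain ⟨htri, -, h2⟩ := octad_pair_pattern ho ho'
  have hone : (Cfsg.blockGraph Cfsg.octads).dist ⟨o, ho⟩ ⟨o', ho'⟩ = 1 → (o ∩ o').card = 0 := by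
    intro h
    rw [SimpleGraph.dist_eq_one_iff_adj] at h
    rw [Finset.card_eq_zero, ← Finset.disjoint_iff_inter_eq_empty]
    exact disjoint_of_adj h
  have htwo : (Cfsg.blockGraph Cfsg.octads).dist ⟨o, ho⟩ ⟨o', ho'⟩ = 2 →
      (o ∩ o').card ≠ 2 := by
    intro h hc
    obtain ⟨p, hp⟩ := hconn.exists_walk_length_eq_dist ⟨o, ho⟩ ⟨o', ho'⟩
    rw [h] at hp
    have a1 : (Cfsg.blockGraph Cfsg.octads).Adj (p.getVert 0) (p.getVert 1) :=
      p.adj_getVert_succ (i := 0) (by omega)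
    have a2 : (Cfsg.blockGraph Cfsg.octads).Adj (p.getVert 1) (p.getVert 2) :=
      p.adj_getVert_succ (i := 1) (by omega)
    have e2 : p.getVert 2 = ⟨o', ho'⟩ := by rw [← hp]; exact p.getVert_length
    rw [SimpleGraph.Walk.getVert_zero] at a1
    rw [e2] at a2
    exact (h2 hc).1 _ (p.getVert 1).2 (disjoint_of_adj a1) (disjoint_of_adj a2)
  rcases htri hne with hc | hc | hc
  · have := hw1 hc
    exact ⟨hconn, by omega, by omega, by omega⟩
  · have h1 := fun h => (hone h).symm.trans hc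
    have h2' := fun h => htwo h hc
    exact ⟨hconn, by omega, by omega, by omega⟩
  · have := hw2 hc
    have h1 := fun h => (hone h).symm.trans hc
    exact ⟨hconn, by omega, by omega, by omega⟩

end Cfsg.Agent.S5609
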