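import Cfsg.Statements.S5610
import Cfsg.Agent.H95.GolayStab
import Cfsg.Agent.H95.CertOctadOct
import Cfsg.Agent.H95.CertOctadTrio
import Cfsg.Agent.H95.CertOctadSext
open Cfsg.Agent.H95

set_option autoImplicit false
open scoped Pointwise
open Cfsg

namespace Cfsg.Agent.S5610

lemma trio_lens : (octadTrio.map fun c => (classL octadGens c).length) = [15, 420, 3360] := by
  decide +kernel

lemma sext_lens : (octadSext.map fun c => (classL octadGens c).length) = [35, 840, 896] := by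
  decide +kernel

/-- The stabiliser of an octad in the group of the length-24 code has exactly three orbits on the 3795 trios, of sizes 15, 420 and 3360, and exactly three orbits on the 1771 sextets, of sizes 35, 840 and 896. -/
theorem result (o : Finset Cfsg.GolayPt) (ho : o ∈ Cfsg.octads) : (∃ X₁ ∈ Cfsg.trios, ∃ X₂ ∈ Cfsg.trios, ∃ X₃ ∈ Cfsg.trios, (MulAction.orbit ↥(MulAction.stabilizer Cfsg.M24 o) X₁).ncard = 15 ∧ (MulAction.orbit ↥(MulAction.stabilizer Cfsg.M24 o) X₂).ncard = 420 ∧ (MulAction.orbit ↥(MulAction.stabilizer Cfsg.M24 o) X₃).ncard = 3360 ∧ Cfsg.trios = MulAction.orbit ↥(MulAction.stabilizer Cfsg.M24 o) X₁ ∪ MulAction.orbit ↥(MulAction.stabilizer Cfsg.M24 o) X₂ ∪ MulAction.orbit ↥(MulAction.stabilizer Cfsg.M24 o) X₃) ∧ (∃ Y₁ ∈ Cfsg.sextets, ∃ Y₂ ∈ Cfsg.sextets, ∃ Y₃ ∈ Cfsg.sextets, (MulAction.orbit ↥(MulAction.stabilizer Cfsg.M24 o) Y₁).ncard = 35 ∧ (MulAction.orbit ↥(MulAction.stabilizer Cfsg.M24 o) Y₂).ncard = 840 ∧ (MulAction.orbit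 ↥(MulAction.stabilizer Cfsg.M24 o) Y₃).ncard = 896 ∧ Cfsg.sextets = MulAction.orbit ↥(MulAction.stabilizer Cfsg.M24 o) Y₁ ∪ MulAction.orbit ↥(MulAction.stabilizer Cfsg.M24 o) Y₂ ∪ MulAction.orbit ↥(MulAction.stabilizer Cfsg.M24 o) Y₃) := by
  obtain ⟨g, hg⟩ := exists_smul_octadSys octadBase_ok ho
  rw [← stabilizer_singleton_sys o, ← hg]
  refine ⟨three_orbits rfl octadTrio_cert trio_lens trios_smul ncard_trios_le ?_ g,
    three_orbits rfl octadSext_cert sext_lens sextets_smul ncard_sextets_le ?_ g⟩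
  · intro c hc
    exact trio_of_isTrioB (List.all_eq_true.1 octadTrio_roots c hc)
  · intro c hc
    exact sextet_of_isSextB (List.all_eq_true.1 octadSext_roots c hc)

end Cfsg.Agent.S5610
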