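import Cfsg.Statements.S5611
import Cfsg.Agent.H95.GolayStab
import Cfsg.Agent.H95.CertSextetOct
import Cfsg.Agent.H95.CertSextetTrio
open Cfsg.Agent.H95

set_option autoImplicit false
open scoped Pointwise
open Cfsg

namespace Cfsg.Agent.S5611

lemma oct_lens : (sextetOctSing.map fun c => (classL sextetGens c).length) = [15, 360, 384] := by
  decide +kernel

lemma trio_lens :
    (sextetTrio.map fun c => (classL sextetGens c).length) = [15, 180, 720, 2880] := by
  decide +kernel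

/-- The stabiliser of a sextet in the group of the length-24 code has exactly three orbits on the 759 octads, of sizes 15, 360 and 384, and exactly four orbits on the 3795 trios, of sizes 15, 180, 720 and 2880. -/
theorem result (S : Finset (Finset Cfsg.GolayPt)) (hS : S ∈ Cfsg.sextets) : (∃ X₁ ∈ Cfsg.octads, ∃ X₂ ∈ Cfsg.octads, ∃ X₃ ∈ Cfsg.octads, (MulAction.orbit ↥(MulAction.stabilizer Cfsg.M24 S) X₁).ncard = 15 ∧ (MulAction.orbit ↥(MulAction.stabilizer Cfsg.M24 S) X₂).ncard = 360 ∧ (MulAction.orbit ↥(MulAction.stabilizer Cfsg.M24 S) X₃).ncard = 384 ∧ Cfsg.octads = MulAction.orbit ↥(MulAction.stabilizer Cfsg.M24 S) X₁ ∪ MulAction.orbit ↥(MulAction.stabilizer Cfsg.M24 S) X₂ ∪ MulAction.orbit ↥(MulAction.stabilizer Cfsg.M24 S) X₃) ∧ (∃ Y₁ ∈ Cfsg.trios, ∃ Y₂ ∈ Cfsg.trios, ∃ Y₃ ∈ Cfsg.trios, ∃ Y₄ ∈ Cfsg.trios, (MulAction.orbit ↥(MulAction.stabilizer Cfsg.M24 S) Y₁).ncard = 15 ∧ (MulAction.orbit ↥(MulAction.stabilizer Cfsg.M24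 S) Y₂).ncard = 180 ∧ (MulAction.orbit ↥(MulAction.stabilizer Cfsg.M24 S) Y₃).ncard = 720 ∧ (MulAction.orbit ↥(MulAction.stabilizer Cfsg.M24 S) Y₄).ncard = 2880 ∧ Cfsg.trios = MulAction.orbit ↥(MulAction.stabilizer Cfsg.M24 S) Y₁ ∪ MulAction.orbit ↥(MulAction.stabilizer Cfsg.M24 S) Y₂ ∪ MulAction.orbit ↥(MulAction.stabilizer Cfsg.M24 S) Y₃ ∪ MulAction.orbit ↥(MulAction.stabilizer Cfsg.M24 S) Y₄) := by
  obtain ⟨g, hg⟩ := exists_smul_sextet_pair (sextet_of_isSextB sextetBase_ok) hS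
  rw [← hg]
  refine ⟨three_orbits_octads (three_orbits rfl sextetOctSing_cert oct_lens octadSys_smul
      ncard_octadSys.le ?_ g),
    four_orbits rfl sextetTrio_cert trio_lens trios_smul ncard_trios_le ?_ g⟩
  · intro c hc
    exact octadSys_of_isOctB (List.all_eq_true.1 sextetOctSing_roots c hc)
  · intro c hc
    exact trio_of_isTrioB (List.all_eq_true.1 sextetTrio_roots c hc)

end Cfsg.Agent.S5611
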