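import Cfsg.Statements.S5612
import Cfsg.Agent.H95.GolayStab
import Cfsg.Agent.H95.CertTrioOct
import Cfsg.Agent.H95.CertTrioSext
open Cfsg.Agent.H95

set_option autoImplicit false
open scoped Pointwise
open Cfsg

namespace Cfsg.Agent.S5612

lemma oct_lens : (trioOctSing.map fun c => (classL trioGens c).length) = [3, 84, 672] := by
  decide +kernel

lemma sext_lens :
    (trioSext.map fun c => (classL trioGens c).length) = [7, 84, 336, 1344] := by
  decide +kernel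

/-- The stabiliser of a trio in the group of the length-24 code has exactly three orbits on the 759 octads, of sizes 3, 84 and 672, and exactly four orbits on the 1771 sextets, of sizes 7, 84, 336 and 1344. -/
theorem result (T : Finset (Finset Cfsg.GolayPt)) (hT : T ∈ Cfsg.trios) : (∃ X₁ ∈ Cfsg.octads, ∃ X₂ ∈ Cfsg.octads, ∃ X₃ ∈ Cfsg.octads, (MulAction.orbit ↥(MulAction.stabilizer Cfsg.M24 T) X₁).ncard = 3 ∧ (MulAction.orbit ↥(MulAction.stabilizer Cfsg.M24 T) X₂).ncard = 84 ∧ (MulAction.orbit ↥(MulAction.stabilizer Cfsg.M24 T) X₃).ncard = 672 ∧ Cfsg.octads = MulAction.orbit ↥(MulAction.stabilizer Cfsg.M24 T) X₁ ∪ MulAction.orbit ↥(MulAction.stabilizer Cfsg.M24 T) X₂ ∪ MulAction.orbit ↥(MulAction.stabilizer Cfsg.M24 T) X₃) ∧ (∃ Y₁ ∈ Cfsg.sextets, ∃ Y₂ ∈ Cfsg.sextets, ∃ Y₃ ∈ Cfsg.sextets, ∃ Y₄ ∈ Cfsg.sextets, (MulAction.orbit ↥(MulAction.stabilizer Cfsg.M24 T) Y₁).ncard = 7 ∧ (MulAction.orbit ↥(MulAction.stabilizer Cfsg.M24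 T) Y₂).ncard = 84 ∧ (MulAction.orbit ↥(MulAction.stabilizer Cfsg.M24 T) Y₃).ncard = 336 ∧ (MulAction.orbit ↥(MulAction.stabilizer Cfsg.M24 T) Y₄).ncard = 1344 ∧ Cfsg.sextets = MulAction.orbit ↥(MulAction.stabilizer Cfsg.M24 T) Y₁ ∪ MulAction.orbit ↥(MulAction.stabilizer Cfsg.M24 T) Y₂ ∪ MulAction.orbit ↥(MulAction.stabilizer Cfsg.M24 T) Y₃ ∪ MulAction.orbit ↥(MulAction.stabilizer Cfsg.M24 T) Y₄) := by
  obtain ⟨g, hg⟩ := exists_smul_trio_pair (trio_of_isTrioB trioBase_ok) hT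
  rw [← hg]
  refine ⟨three_orbits_octads (three_orbits rfl trioOctSing_cert oct_lens octadSys_smul
      ncard_octadSys.le ?_ g),
    four_orbits rfl trioSext_cert sext_lens sextets_smul ncard_sextets_le ?_ g⟩
  · intro c hc
    exact octadSys_of_isOctB (List.all_eq_true.1 trioOctSing_roots c hc)
  · intro c hc
    exact sextet_of_isSextB (List.all_eq_true.1 trioSext_roots c hc)

end Cfsg.Agent.S5612
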