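import Cfsg.Statements.S5614
import Cfsg.Agent.H95.GolayJoint
import Cfsg.Agent.H95.GolaySix
open Cfsg.Agent.H95 Cfsg.Agent.Golay

set_option autoImplicit false
open scoped Pointwise
open Cfsg

namespace Cfsg.Agent.S5614

/-- In the group of the length-24 code, the joint stabiliser of two octads meeting in exactly two points is isomorphic to the symmetric group of degree 6. -/
theorem result (o o' : Finset Cfsg.GolayPt) (ho : o ∈ Cfsg.octads) (ho' : o' ∈ Cfsg.octads) (h₂ : (o ∩ o').card = 2) : Nonempty (↥(MulAction.stabilizer Cfsg.M24 o ⊓ MulAction.stabilizer Cfsg.M24 o') ≃* Equiv.Perm (Fin 6)) := by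
  have hc : (o \ o').card = 6 := by
    have := Finset.card_sdiff_add_card_inter o o'
    have h1 : o.card = 8 := ho.2
    omega
  have hfix : ∀ g ∈ MulAction.stabilizer Cfsg.M24 o ⊓ MulAction.stabilizer Cfsg.M24 o',
      (g : Equiv.Perm Cfsg.GolayPt) • o = o ∧ (g : Equiv.Perm Cfsg.GolayPt) • o' = o' :=
    fun g hg => ⟨hg.1, hg.2⟩
  refine nonempty_iso_perm_six _ (o \ o') hc ?_ ?_ ?_
  · intro g hg
    show (g : Equiv.Perm Cfsg.GolayPt) • (o \ o') = o \ o'
    rw [Finset.smul_finset_sdiff, (hfix g hg).1, (hfix g hg).2]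
  · intro g hg h
    refine dodecad_stab_eq_one (symmDiff_mem_dodecads ho ho' h₂) ?_ (s := o \ o') (by omega) ?_ h
    · show (g : Equiv.Perm Cfsg.GolayPt) • symmDiff o o' = symmDiff o o'
      rw [Finset.smul_finset_symmDiff, (hfix g hg).1, (hfix g hg).2]
    · intro p hp
      rw [Finset.mem_symmDiff]
      exact Or.inl (Finset.mem_sdiff.1 hp)
  · have h := card_inf_stabilizer_mul (MulAction.stabilizer Cfsg.M24 o) o'
    rw [card_octad_stab ho, (ncard_octad_orbit ho ho').2.2 h₂] at h
    omega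

end Cfsg.Agent.S5614
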