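import Cfsg.Statements.S5615
import Cfsg.Agent.H95.GolayJoint
import Cfsg.Agent.H95.CertOctadTrio
import Cfsg.Agent.Golay.Stabilisers
open Cfsg.Agent.H95 Cfsg.Agent.Golay

set_option autoImplicit false
open scoped Pointwise
open Cfsg

namespace Cfsg.Agent.S5615

/-- Elements fixing the base octad and one trio through it. -/
def pairGens : List ℕ :=
  [70882116973831511986484887342466786, 227674656311672110602563655904463953,
   68123159154657449724089258008021006]

/-- The other fourteen trios through the base octad. -/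
def pairCls : List ℕ × List (List ℕ) :=
  ([628112, 7612992, 8536111], [[5], [3, 5], [5, 6, 4, 1], [0, 0, 0, 0, 1, 0]])

/-- Trios through the base octad. -/
def through : List (List ℕ) :=
  (octadTrio.flatMap (classL octadGens)).filter fun B => B.contains 8536111

lemma through_checks :
    (through.length == 15 &&
    pairGens.all (fun t => inM24 t && fixSys t octadBase && fixSys t octadTrio1.1) &&
    goodB pairCls.1 &&
    (through.all fun B =>
      Nat.beq (keyL B) (keyL octadTrio1.1) ||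
        (classL pairGens pairCls).any fun C => (B.all C.contains) && C.all B.contains) &&
    (through.all fun B => ((classL octadGens octadTrio1).any fun C => B == C)) &&
    ((lvlTrans m24Chain 6).all fun t => through.all fun B => fixSys t B) &&
    (baseDisjoint.all fun d => through.any fun B => B.contains d) &&
    (through.all fun B => isTrioB B && B.all fun d => Nat.beq d 8536111 || baseDisjoint.contains d) &&
    isTrivialStab (8536111 :: baseDisjoint) (2 ^ lvlBase m24Chain 6) &&
    decide (lvlBase m24Chain 6 < 24) && !(8536111 : ℕ).testBit (lvlBase m24Chain 6) &&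
    ((List.range 24).all fun i => (8536111 : ℕ).testBit i ||
      (lvlTrans m24Chain 6).any fun t => app t (lvlBase m24Chain 6) == i) &&
    (baseOctad == 8536111)) = true := by
  decide +kernel

lemma sysOf_inj_key {B C : List ℕ} (hB : GoodSys B) (hC : GoodSys C) (h : sysOf B = sysOf C) :
    keyL B = keyL C := by rw [← keyF_sysOf hB, ← keyF_sysOf hC, h]

lemma sysOf_base : sysOf octadBase = {ptSet 8536111} := by simp [octadBase_eq, sysOf]

lemma base_mem : ptSet 8536111 ∈ Cfsg.octads :=
  ptSet_mem_octads (List.contains_iff_mem.1 (by decide +kernel))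

/-- Everything at the base octad. -/
lemma base_facts :
    {T | T ∈ Cfsg.trios ∧ ptSet 8536111 ∈ T}.ncard = 15 ∧
    (∀ T₁ T₂, T₁ ∈ Cfsg.trios → T₂ ∈ Cfsg.trios → ptSet 8536111 ∈ T₁ → ptSet 8536111 ∈ T₂ →
      T₁ ≠ T₂ → ∃ g : M24, g • ptSet 8536111 = ptSet 8536111 ∧ g • T₁ = sysOf octadTrio1.1 ∧
        g • T₂ = sysOf pairCls.1) ∧
    (∀ g : M24, g • ptSet 8536111 = ptSet 8536111 →
      ((∀ T ∈ Cfsg.trios, ptSet 8536111 ∈ T → g • T = T) ↔
        ∀ p ∈ ptSet 8536111, (g : Equiv.Perm Cfsg.GolayPt) p = p)) := by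
  have hroot : ∀ c ∈ octadTrio, sysOf c.1 ∈ Cfsg.trios := fun c hc =>
    trio_of_isTrioB (List.all_eq_true.1 octadTrio_roots c hc)
  obtain ⟨hchk⟩ : (_ : Prop) ∧ True := ⟨through_checks, trivial⟩
  simp only [Bool.and_eq_true, beq_iff_eq, decide_eq_true_eq, List.all_eq_true, List.any_eq_true,
    Bool.or_eq_true, List.contains_iff_mem, Bool.not_eq_true'] at hchk
  obtain ⟨⟨⟨⟨⟨⟨⟨⟨⟨⟨⟨⟨h15, hgens⟩, hgood⟩, hcov⟩, hfirst⟩, hfixT⟩, hdis⟩, htr⟩, htriv⟩, hb⟩,
    hbO⟩, htrans⟩, hbase⟩ := hchk
  have hmemP : ∀ B, GoodSys B → (ptSet 8536111 ∈ sysOf B ↔ B.contains 8536111 = true) := by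
    intro B hB
    rw [List.contains_iff_mem, mem_sysOf]
    refine ⟨fun ⟨m, hm, e⟩ => ?_, fun h => ⟨_, h, rfl⟩⟩
    rwa [← ptSet_injOn (hB.2 m hm) (by norm_num) e]
  have hlist : ∀ T, T ∈ Cfsg.trios → ptSet 8536111 ∈ T →
      ∃ B ∈ through, GoodSys B ∧ sysOf B = T := by
    intro T hT ho
    rw [orbitCert_cover octadTrio_cert trios_smul ncard_trios_le hroot] at hT
    obtain ⟨c, hc, B, hB, rfl⟩ := hT
    have hg := (orbitCert_mem octadTrio_cert hc hB).1
    exact ⟨B, List.mem_filter.2 ⟨List.mem_flatMap.2 ⟨c, hc, hB⟩, (hmemP B hg).1 ho⟩, hg, rfl⟩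
  have hc1 : octadTrio1 ∈ octadTrio := by simp [octadTrio]
  have hR : sysOf octadTrio1.1 ∈ Cfsg.trios := hroot _ hc1
  have hRg : GoodSys octadTrio1.1 := by
    have h := List.all_eq_true.1 octadTrio_roots _ hc1
    simp only [isTrioB, Bool.and_eq_true] at h
    exact goodSys_of_goodB h.1.1.1
  have hfix : ∀ g : M24, g • sysOf octadBase = sysOf octadBase →
      g • ptSet 8536111 = ptSet 8536111 := by
    intro g hg
    rw [sysOf_base] at hg
    simpa [Finset.smul_finset_singleton] using hg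
  refine ⟨?_, ?_, ?_⟩
  · rw [orbitCert_ncard octadTrio_cert trios_smul ncard_trios_le hroot
      (fun T => ptSet 8536111 ∈ T) (fun B => B.contains 8536111)
      (fun c _ B _ hB => hmemP B hB)]
    exact h15
  · intro T₁ T₂ hT₁ hT₂ ho₁ ho₂ hne
    obtain ⟨B₁, hB₁, hg₁, rfl⟩ := hlist T₁ hT₁ ho₁
    obtain ⟨C, hC, rfl⟩ := hfirst B₁ hB₁
    obtain ⟨h, hh⟩ := (orbitCert_mem octadTrio_cert hc1 hC).2
    have hh1 : h.1⁻¹ • sysOf B₁ = sysOf octadTrio1.1 := by
      rw [inv_smul_eq_iff]; exact hh.symm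
    have hho : h.1⁻¹ • ptSet 8536111 = ptSet 8536111 := by
      rw [inv_smul_eq_iff, hfix _ h.2]
    obtain ⟨B₂, hB₂, hg₂, e₂⟩ := hlist (h.1⁻¹ • T₂) (trios_smul _ _ hT₂)
      (hho ▸ Finset.smul_mem_smul_finset ho₂)
    have hkey : ¬ Nat.beq (keyL B₂) (keyL octadTrio1.1) = true := by
      intro hd
      refine hne (MulAction.injective (h.1⁻¹) ?_)
      show h.1⁻¹ • sysOf B₁ = h.1⁻¹ • T₂
      rw [hh1, ← e₂]
      have hR' : octadTrio1.1 ∈ octadTrio.flatMap (classL octadGens) :=
        List.mem_flatMap.2 ⟨_, hc1, by simp [classL, octadTrio1, reach]⟩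
      have h' := octadTrio_cert
      simp only [orbitCert, Bool.and_eq_true] at h'
      exact congrArg sysOf (List.inj_on_of_nodup_map (nodup_of_distinctB h'.1.1.1.2) hR'
        (List.mem_filter.1 hB₂).1 (Nat.beq_eq.mp hd).symm)
    obtain ⟨D, hD, hD1, hD2⟩ := (hcov B₂ hB₂).resolve_left hkey
    let K := MulAction.stabilizer M24 (sysOf octadBase) ⊓
      MulAction.stabilizer M24 (sysOf octadTrio1.1)
    have hK : ∀ t ∈ pairGens, ∃ hM : inM24 t = true,
        (⟨mkPerm t, mem_M24_of_inM24 hM⟩ : M24) ∈ K := by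
      intro t ht
      obtain ⟨⟨hM, hA⟩, hR⟩ := hgens t ht
      exact ⟨hM, smul_eq_of_fixSys (validT_of_inM24 hM) hA, smul_eq_of_fixSys (validT_of_inM24 hM) hR⟩
    obtain ⟨k, hk⟩ := (mem_classL K hK (goodSys_of_goodB hgood) hD).2
    have hDB : sysOf D = sysOf B₂ := by
      ext s
      simp only [mem_sysOf]
      exact ⟨fun ⟨m, hm, e⟩ => ⟨m, hD2 m hm, e⟩, fun ⟨m, hm, e⟩ => ⟨m, hD1 m hm, e⟩⟩
    have hk2 : k.1⁻¹ • sysOf B₂ = sysOf pairCls.1 := by
      rw [inv_smul_eq_iff, ← hDB]; exact hk.symm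
    refine ⟨k.1⁻¹ * h.1⁻¹, ?_, ?_, ?_⟩
    · rw [mul_smul, hho, inv_smul_eq_iff, hfix _ k.2.1]
    · rw [mul_smul, hh1, inv_smul_eq_iff]
      exact k.2.2.symm
    · rw [mul_smul, ← e₂, hk2]
  · intro g hgo
    set L := lvlTrans m24Chain 6
    set b := lvlBase m24Chain 6
    have hbf := baseOctad_facts
    rw [drop_six] at hbf
    simp only [Bool.and_eq_true] at hbf
    have hch := hbf.1.1.2
    rw [hbase] at hch
    obtain ⟨-, horb, -, hrest⟩ := orbit_of_checkChain hch
    have hts : ∀ t ∈ L, inStab [] 8536111 t = true := by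
      have h := hch
      simp only [checkChain, Bool.and_eq_true, List.all_eq_true] at h
      exact h.1.1.1.2
    have hLT : ∀ t ∈ L, validT t = true ∧ ∀ T ∈ Cfsg.trios, ptSet 8536111 ∈ T →
        mkPerm t • T = T := by
      intro t ht
      have h := hts t ht
      simp only [inStab, Bool.and_eq_true] at h
      refine ⟨validT_of_inM24 h.1.1, fun T hT ho => ?_⟩
      obtain ⟨B, hB, -, rfl⟩ := hlist T hT ho
      exact smul_eq_of_fixSys (validT_of_inM24 h.1.1) (hfixT t ht B hB)
    constructor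
    · intro hfixAll
      have hgb : (8536111 : ℕ).testBit (idx ((g : Equiv.Perm Cfsg.GolayPt) (pt b))) = false := by
        rw [Bool.eq_false_iff]
        intro h
        rw [← mem_ptSet, ← hgo, show g • ptSet 8536111 = (g : Equiv.Perm Cfsg.GolayPt) • ptSet 8536111
          from rfl, mem_smul_finset_iff, Equiv.symm_apply_apply, mem_ptSet, idx_pt b hb, hbO] at h
        exact Bool.false_ne_true h
      have hex := htrans (idx ((g : Equiv.Perm Cfsg.GolayPt) (pt b))) (List.mem_range.2 (idx_lt _))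
      rw [hgb] at hex
      obtain ⟨t, ht, htb⟩ := hex.resolve_left Bool.false_ne_true
      have htm := mem_stabGrp_of_inStab (hts t ht)
      have hgt : (mkPerm t)⁻¹ * (g : Equiv.Perm Cfsg.GolayPt) = 1 := by
        rw [← Subgroup.mem_bot (G := Equiv.Perm Cfsg.GolayPt), ← stabGrp_eq_bot' htriv]
        set σ := (mkPerm t)⁻¹ * (g : Equiv.Perm Cfsg.GolayPt) with hσ
        have hσO : σ • ptSet 8536111 = ptSet 8536111 := by
          rw [hσ, mul_smul, show (g : Equiv.Perm Cfsg.GolayPt) • ptSet 8536111 = ptSet 8536111 from hgo,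
            inv_smul_eq_iff]
          refine ((Finset.smul_finset_def).trans ((Finset.image_congr (g := id) fun p hp => ?_).trans
            Finset.image_id)).symm
          exact htm.2.2 p hp
        have hσT : ∀ T ∈ Cfsg.trios, ptSet 8536111 ∈ T → σ • T = T := by
          intro T hT ho
          rw [hσ, mul_smul, show (g : Equiv.Perm Cfsg.GolayPt) • T = T from hfixAll T hT ho,
            inv_smul_eq_iff]
          exact ((hLT t ht).2 T hT ho).symm
        have hσp : σ (pt b) = pt b := by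
          rw [hσ, Equiv.Perm.mul_apply, Equiv.Perm.coe_inv, Equiv.symm_apply_eq,
            mkPerm_pt (hLT t ht).1 hb, htb, pt_idx]
        refine ⟨M24.mul_mem (M24.inv_mem htm.1) g.2, ?_, fun p hp => ?_⟩
        · intro e he
          rcases List.mem_cons.1 he with rfl | he
          · exact hσO
          obtain ⟨B, hB, heB⟩ := hdis e he
          have hB' := htr B hB
          have hT := trio_of_isTrioB hB'.1
          have hgB : GoodSys B := by
            have h := hB'.1
            simp only [isTrioB, Bool.and_eq_true] at h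
            exact goodSys_of_goodB h.1.1.1
          have hoB : ptSet 8536111 ∈ sysOf B := (hmemP B hgB).2 (List.mem_filter.1 hB).2
          have hσB := hσT _ hT hoB
          have heT : ptSet e ∈ sysOf B := mem_sysOf.2 ⟨e, heB, rfl⟩
          obtain ⟨he1, he2⟩ := List.mem_filter.1 he
          have heO : ptSet e ≠ ptSet 8536111 := by
            intro hh
            rw [ptSet_injOn (octadList_lt he1) (by norm_num) hh] at he2
            revert he2
            decide
          by_contra hmove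
          have him : σ • ptSet e ∈ sysOf B := hσB ▸ Finset.smul_mem_smul_finset heT
          have himO : σ • ptSet e ≠ ptSet 8536111 := fun hh =>
            heO (MulAction.injective σ (hh.trans hσO.symm))
          have hdj := hT.2.2 _ him _ heT hmove
          -- the third member
          have hthird : sysOf B = {ptSet 8536111, ptSet e, σ • ptSet e} := by
            refine (Finset.eq_of_subset_of_card_le ?_ ?_).symm
            · simp [Finset.insert_subset_iff, hoB, heT, him]
            · rw [hT.1, Finset.card_insert_of_notMem (by simp [Ne.symm heO, Ne.symm himO]),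
                Finset.card_pair (Ne.symm hmove)]
          have hcov : pt b ∈ ptSet e ∨ pt b ∈ σ • ptSet e := by
            have hu : (ptSet 8536111 ∪ ptSet e ∪ σ • ptSet e) = Finset.univ := by
              rw [← Finset.card_eq_iff_eq_univ,
                Finset.card_union_of_disjoint, Finset.card_union_of_disjoint
                  (hT.2.2 _ hoB _ heT heO.symm)]
              · rw [(hT.2.1 _ hoB).2, (hT.2.1 _ heT).2, (hT.2.1 _ him).2]
                rfl
              · rw [Finset.disjoint_union_left]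
                exact ⟨hT.2.2 _ hoB _ him himO.symm, hdj.symm⟩
            have := Finset.eq_univ_iff_forall.1 hu (pt b)
            simp only [Finset.mem_union, mem_ptSet, idx_pt b hb, hbO, Bool.false_eq_true, false_or,
              or_assoc] at this
            simpa [mem_ptSet, idx_pt b hb] using this
          rcases hcov with hc | hc
          · exact Finset.disjoint_left.1 hdj (hσp ▸ Finset.smul_mem_smul_finset hc) hc
          · have hc' : pt b ∈ ptSet e := by
              rw [← hσp] at hc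
              exact (Finset.smul_mem_smul_finset_iff σ).1 hc
            exact Finset.disjoint_left.1 hdj hc hc'
        · rw [ptSet_two_pow hb, Finset.mem_singleton] at hp
          rw [hp]; exact hσp
      rw [inv_mul_eq_one] at hgt
      intro p hp
      rw [← hgt]
      exact htm.2.2 p hp
    · intro hpw T hT ho
      have hgm : (g : Equiv.Perm Cfsg.GolayPt) ∈ stabGrp [] 8536111 :=
        ⟨g.2, by simp, hpw⟩
      have hm : (g : Equiv.Perm Cfsg.GolayPt) (pt b) ∈
          MulAction.orbit (stabGrp [] 8536111) (pt b) := ⟨⟨_, hgm⟩, rfl⟩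
      rw [horb, Finset.mem_coe, mem_ptSet, testBit_orbitMask] at hm
      obtain ⟨t, ht, hta⟩ := hm
      have heq : (mkPerm t)⁻¹ * (g : Equiv.Perm Cfsg.GolayPt) ∈ stabGrp [] (8536111 ||| 2 ^ b) := by
        rw [stabGrp_or [] _ hb]
        refine ⟨(stabGrp [] 8536111).mul_mem
          ((stabGrp [] 8536111).inv_mem (mem_stabGrp_of_inStab (hts t ht))) hgm, ?_⟩
        show ((mkPerm t)⁻¹ * (g : Equiv.Perm Cfsg.GolayPt)) (pt b) = pt b
        rw [Equiv.Perm.mul_apply, Equiv.Perm.coe_inv, Equiv.symm_apply_eq,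
          mkPerm_pt (hLT t ht).1 hb, hta, pt_idx]
      rw [stabGrp_eq_bot' hrest, Subgroup.mem_bot, inv_mul_eq_one] at heq
      show (g : Equiv.Perm Cfsg.GolayPt) • T = T
      rw [← heq]
      exact (hLT t ht).2 T hT ho

/-- An octad of the length-24 code lies in exactly 15 trios; the stabiliser of the octad in the code's group acts doubly transitively on these 15 trios, and the kernel of this action is the pointwise stabiliser of the octad. -/
theorem result (o : Finset Cfsg.GolayPt) (ho : o ∈ Cfsg.octads) : {T : Finset (Finset Cfsg.GolayPt) | T ∈ Cfsg.trios ∧ o ∈ T}.ncard = 15 ∧ (∀ T₁ T₂ T₁' T₂' : Finset (Finset Cfsg.GolayPt), T₁ ∈ Cfsg.trios → T₂ ∈ Cfsg.trios → T₁' ∈ Cfsg.trios → T₂' ∈ Cfsg.trios → o ∈ T₁ → o ∈ T₂ → o ∈ T₁' → o ∈ T₂' → T₁ ≠ T₂ → T₁' ≠ T₂' → ∃ g ∈ Cfsg.M24, g • o = o ∧ g • T₁ = T₁' ∧ g • T₂ = T₂') ∧ ∀ g ∈ Cfsg.M24, g • o = o → ((∀ T ∈ Cfsg.trios, o ∈ T → g • T = T) ↔ ∀ p ∈ o, g p = p) := by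
  obtain ⟨h15, h2t, hker⟩ := base_facts
  obtain ⟨k, hk⟩ := exists_M24_map_octad ho base_mem
  have hko : k⁻¹ • ptSet 8536111 = o := by rw [inv_smul_eq_iff, hk]
  have hmem : ∀ T, o ∈ T ↔ ptSet 8536111 ∈ k • T := fun T => by
    rw [← hk]; exact (Finset.smul_mem_smul_finset_iff (k : Equiv.Perm Cfsg.GolayPt)).symm
  refine ⟨?_, ?_, ?_⟩
  · rw [← h15]
    refine Set.ncard_congr (fun T _ => k • T) ?_ ?_ ?_
    · rintro T ⟨hT, hoT⟩; exact ⟨trios_smul k T hT, (hmem T).1 hoT⟩
    · intro a b _ _ h; exact MulAction.injective k h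
    · rintro T ⟨hT, hoT⟩
      exact ⟨k⁻¹ • T, ⟨trios_smul _ T hT, (hmem _).2 (by rwa [smul_inv_smul])⟩, smul_inv_smul k T⟩
  · intro T₁ T₂ T₁' T₂' h₁ h₂ h₁' h₂' o₁ o₂ o₁' o₂' hne hne'
    obtain ⟨a, ha0, ha1, ha2⟩ := h2t (k • T₁) (k • T₂) (trios_smul k _ h₁) (trios_smul k _ h₂)
      ((hmem _).1 o₁) ((hmem _).1 o₂) (fun h => hne (MulAction.injective k h))
    obtain ⟨b, hb0, hb1, hb2⟩ := h2t (k • T₁') (k • T₂') (trios_smul k _ h₁') (trios_smul k _ h₂')
      ((hmem _).1 o₁') ((hmem _).1 o₂') (fun h => hne' (MulAction.injective k h))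
    refine ⟨((k⁻¹ * b⁻¹ * a * k : M24) : Equiv.Perm Cfsg.GolayPt), (k⁻¹ * b⁻¹ * a * k).2, ?_, ?_, ?_⟩
    · show (k⁻¹ * b⁻¹ * a * k) • o = o
      rw [mul_smul, mul_smul, mul_smul, hk, ha0, inv_smul_eq_iff (g := b) |>.2 hb0.symm, hko]
    · show (k⁻¹ * b⁻¹ * a * k) • T₁ = T₁'
      rw [mul_smul, mul_smul, mul_smul, ha1, ← hb1, inv_smul_smul, inv_smul_smul]
    · show (k⁻¹ * b⁻¹ * a * k) • T₂ = T₂'
      rw [mul_smul, mul_smul, mul_smul, ha2, ← hb2, inv_smul_smul, inv_smul_smul]
  · intro g hg hgo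
    set G : M24 := ⟨g, hg⟩
    have hconj : (k * G * k⁻¹) • ptSet 8536111 = ptSet 8536111 := by
      rw [mul_smul, mul_smul, hko, show G • o = o from hgo, hk]
    have h := hker (k * G * k⁻¹) hconj
    constructor
    · intro hall p hp
      have := h.1 (fun T hT hoT => by
        rw [mul_smul, mul_smul, show G • k⁻¹ • T = k⁻¹ • T from
          hall _ (trios_smul _ T hT) ((hmem _).2 (by rwa [smul_inv_smul])), smul_inv_smul])
        ((k : Equiv.Perm Cfsg.GolayPt) p) (hk ▸ Finset.smul_mem_smul_finset hp)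
      simpa [G] using this
    · intro hall T hT hoT
      have hp' : ∀ p ∈ ptSet 8536111, ((k * G * k⁻¹ : M24) : Equiv.Perm Cfsg.GolayPt) p = p := by
        intro p hp
        have hq : (k : Equiv.Perm Cfsg.GolayPt)⁻¹ p ∈ o := by
          rw [← hko]; exact Finset.smul_mem_smul_finset (a := ((k⁻¹ : M24) : Equiv.Perm Cfsg.GolayPt)) hp
        simp only [Subgroup.coe_mul, Subgroup.coe_inv, Equiv.Perm.mul_apply]
        rw [show (G : Equiv.Perm Cfsg.GolayPt) ((k : Equiv.Perm Cfsg.GolayPt)⁻¹ p) = (k : Equiv.Perm Cfsg.GolayPt)⁻¹ p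
          from hall _ hq]
        simp
      have := h.2 hp' (k • T) (trios_smul k T hT) ((hmem T).1 hoT)
      rw [mul_smul, mul_smul, inv_smul_smul] at this
      exact MulAction.injective k this

end Cfsg.Agent.S5615
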