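import Cfsg.Statements.S5616
import Cfsg.Agent.H95.GolayStab
import Cfsg.Agent.H95.CertTriadSext
open Cfsg.Agent.H95 Cfsg.Agent.Golay

set_option autoImplicit false
open scoped Pointwise
open Cfsg

namespace Cfsg.Agent.S5616

/-- Number of blocks meeting the triad. -/
def meets (B : List ℕ) : ℕ := (B.filter fun t => !(t &&& 8388611 == 0)).length

lemma sext_data : triadBase = [8388611] ∧
    (triadSext.map fun c => (classL triadGens c).length) = [21, 630, 1120] ∧
    (triadSext.map fun c => meets c.1) = [1, 2, 3] ∧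
    (triadSext.all fun c => (classL triadGens c).all fun B => meets B == meets c.1) = true ∧
    (((triadSext.flatMap (classL triadGens)).filter fun B => meets B == 1).length = 21) ∧
    (((triadSext.flatMap (classL triadGens)).filter fun B => meets B == 2).length = 630) ∧
    (((triadSext.flatMap (classL triadGens)).filter fun B => meets B == 3).length = 1120) ∧
    popCnt 8388611 = 3 := by
  decide +kernel

lemma meets_eq {B : List ℕ} (hB : GoodSys B) :
    ((sysOf B).filter fun t => (t ∩ ptSet 8388611).Nonempty).card = meets B := by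
  have e : ((B.map ptSet).toFinset.filter fun t => (t ∩ ptSet 8388611).Nonempty)
      = ((B.map ptSet).filter fun t => decide (t ∩ ptSet 8388611).Nonempty).toFinset := by
    ext t; simp
  rw [meets, sysOf, e, List.toFinset_card_of_nodup (hB.nodup.filter _),
    List.filter_map, List.length_map]
  refine congrArg List.length (List.filter_congr fun t ht => ?_)
  simp only [Function.comp, ← ptSet_and]
  rw [Bool.eq_iff_iff, decide_eq_true_iff, Bool.not_eq_true', ← Bool.not_eq_true,
    Finset.nonempty_iff_ne_empty, ← ptSet_zero]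
  constructor
  · intro h e
    rw [beq_iff_eq] at e
    exact h (by rw [e])
  · intro h e
    exact h (beq_iff_eq.2 (ptSet_injOn (and_lt_full (hB.2 t ht)) (by norm_num) e))

/-- Let Y be a set of 3 of the 24 points. The sextets of the length-24 code whose tetrads meeting Y number 1, 2 or 3 are respectively 21, 630 and 1120 in number, and two sextets with the same number of tetrads meeting Y are conjugate under the setwise stabiliser of Y in the code's group. -/
theorem result (Y : Finset Cfsg.GolayPt) (hY : Y.card = 3) : {S : Finset (Finset Cfsg.GolayPt) | S ∈ Cfsg.sextets ∧ (S.filter fun t => (t ∩ Y).Nonempty).card = 1}.ncard = 21 ∧ {S : Finset (Finset Cfsg.GolayPt) | S ∈ Cfsg.sextets ∧ (S.filter fun t => (t ∩ Y).Nonempty).card = 2}.ncard = 630 ∧ {S : Finset (Finset Cfsg.GolayPt) | S ∈ Cfsg.sextets ∧ (S.filter fun t => (t ∩ Y).Nonempty).card = 3}.ncard = 1120 ∧ ∀ S S' : Finset (Finset Cfsg.GolayPt), S ∈ Cfsg.sextets → S' ∈ Cfsg.sextets → (S.filter fun t => (t ∩ Y).Nonempty).card = (S'.filter fun t => (t ∩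 Y).Nonempty).card → ∃ g ∈ Cfsg.M24, g • Y = Y ∧ g • S = S' := by
  obtain ⟨hA, hlens, hms, hmc, n1, n2, n3, hp3⟩ := sext_data
  have hroot : ∀ c ∈ triadSext, sysOf c.1 ∈ Cfsg.sextets := fun c hc =>
    sextet_of_isSextB (List.all_eq_true.1 triadSext_roots c hc)
  have hY0 : (ptSet 8388611).card = 3 := by rw [card_ptSet, hp3]
  obtain ⟨a, ha⟩ : ∃ a : Fin 3 → GolayPt, Function.Injective a ∧ Finset.univ.image a = ptSet 8388611 := by
    refine ⟨fun i => ((ptSet 8388611).equivFinOfCardEq hY0).symm i,
      Subtype.val_injective.comp (Equiv.injective _), ?_⟩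
    refine Finset.eq_of_subset_of_card_le (fun p hp => ?_) ?_
    · obtain ⟨i, -, rfl⟩ := Finset.mem_image.1 hp; exact Subtype.prop _
    · rw [Finset.card_image_of_injective _ (fun x y e => Equiv.injective _ (Subtype.ext e)), hY0]
      simp
  obtain ⟨b, hb⟩ : ∃ b : Fin 3 → GolayPt, Function.Injective b ∧ Finset.univ.image b = Y := by
    refine ⟨fun i => (Y.equivFinOfCardEq hY).symm i,
      Subtype.val_injective.comp (Equiv.injective _), ?_⟩
    refine Finset.eq_of_subset_of_card_le (fun p hp => ?_) ?_
    · obtain ⟨i, -, rfl⟩ := Finset.mem_image.1 hp; exact Subtype.prop _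
    · rw [Finset.card_image_of_injective _ (fun x y e => Equiv.injective _ (Subtype.ext e)), hY]
      simp
  obtain ⟨g, hg⟩ := exists_M24_map_points (by norm_num : 3 ≤ 5) ha.1 hb.1
  have hgY : (g : Equiv.Perm GolayPt) • ptSet 8388611 = Y := by
    rw [← ha.2, ← hb.2, Finset.smul_finset_def, Finset.image_image]
    exact Finset.image_congr fun i _ => hg i
  let cnt : Finset GolayPt → Finset (Finset GolayPt) → ℕ :=
    fun Z S => (S.filter fun t => (t ∩ Z).Nonempty).card
  have htr : ∀ S, cnt Y (g • S) = cnt (ptSet 8388611) S := by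
    intro S
    simp only [cnt]
    rw [coe_smul_sys, Finset.smul_finset_def, Finset.filter_image,
      Finset.card_image_of_injective _ (MulAction.injective _)]
    refine congrArg Finset.card (Finset.filter_congr fun t _ => ?_)
    rw [← hgY, ← Finset.smul_finset_inter, Finset.smul_finset_nonempty]
  have hcount : ∀ k, {S : Finset (Finset GolayPt) | S ∈ Cfsg.sextets ∧ cnt Y S = k}.ncard
      = ((triadSext.flatMap (classL triadGens)).filter fun B => meets B == k).length := by
    intro k
    rw [← orbitCert_ncard triadSext_cert sextets_smul ncard_sextets_le hroot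
      (fun S => cnt (ptSet 8388611) S = k) (fun B => meets B == k)
      (fun c _ B _ hB => by simp only [cnt, meets_eq hB, beq_iff_eq])]
    refine Set.ncard_congr (fun S _ => g⁻¹ • S) ?_ ?_ ?_
    · rintro S ⟨hS, hk⟩
      refine ⟨sextets_smul _ S hS, ?_⟩
      rw [← htr, smul_inv_smul]; exact hk
    · intro S T _ _ h; exact MulAction.injective g⁻¹ h
    · rintro S ⟨hS, hk⟩
      exact ⟨g • S, ⟨sextets_smul g S hS, (htr S).trans hk⟩, inv_smul_smul g S⟩
  refine ⟨(hcount 1).trans n1, (hcount 2).trans n2, (hcount 3).trans n3, ?_⟩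
  intro S S' hS hS' heq
  have hin : ∀ S, S ∈ Cfsg.sextets → ∃ c ∈ triadSext,
      g⁻¹ • S ∈ MulAction.orbit (MulAction.stabilizer M24 (sysOf triadBase)) (sysOf c.1) ∧
      cnt Y S = meets c.1 := by
    intro S hS
    have hX := sextets_smul g⁻¹ S hS
    rw [orbitCert_cover triadSext_cert sextets_smul ncard_sextets_le hroot] at hX
    obtain ⟨c, hc, B, hB, hBS⟩ := hX
    have hmem := orbitCert_mem triadSext_cert hc hB
    refine ⟨c, hc, hBS ▸ hmem.2, ?_⟩
    rw [← smul_inv_smul g S, htr, ← hBS]
    show _ = meets c.1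
    rw [← eq_of_beq (List.all_eq_true.1 (List.all_eq_true.1 hmc c hc) B hB)]
    exact meets_eq hmem.1
  obtain ⟨c, hc, hcS, hck⟩ := hin S hS
  obtain ⟨c', hc', hcS', hck'⟩ := hin S' hS'
  have hcc : c = c' := by
    refine List.inj_on_of_nodup_map (f := fun c : List ℕ × List (List ℕ) => meets c.1)
      (by rw [hms]; decide) hc hc' ?_
    show meets c.1 = meets c'.1
    rw [← hck, ← hck']
    exact heq
  subst hcc
  rw [← MulAction.orbit_eq_iff] at hcS hcS'
  obtain ⟨h, hh⟩ := MulAction.orbit_eq_iff.1 (hcS'.trans hcS.symm)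
  have hfix : (h.1 : Equiv.Perm GolayPt) • ptSet 8388611 = ptSet 8388611 := by
    have : (h.1 : Equiv.Perm GolayPt) • sysOf triadBase = sysOf triadBase := h.2
    simpa [hA, sysOf, coe_smul_sys, Finset.smul_finset_singleton] using this
  refine ⟨((g * h.1 * g⁻¹ : M24) : Equiv.Perm GolayPt), (g * h.1 * g⁻¹).2, ?_, ?_⟩
  · have e : (g : Equiv.Perm GolayPt)⁻¹ • Y = ptSet 8388611 := by rw [inv_smul_eq_iff, hgY]
    rw [Subgroup.coe_mul, Subgroup.coe_mul, Subgroup.coe_inv, mul_smul, mul_smul, e, hfix, hgY]
  · show (g * h.1 * g⁻¹) • S = S'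
    rw [mul_smul, mul_smul, show h.1 • g⁻¹ • S = g⁻¹ • S' from hh, smul_inv_smul]

end Cfsg.Agent.S5616
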