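import Cfsg.Statements.S5617
import Cfsg.Agent.H95.GolayStab
import Cfsg.Agent.H95.CertDuumSext
open Cfsg.Agent.H95 Cfsg.Agent.Golay

set_option autoImplicit false
open scoped Pointwise
open Cfsg

namespace Cfsg.Agent.S5617

lemma sext_lens : (duumSext.map fun c => (classL duumGens c).length) = [396, 495, 880] := by
  decide +kernel

lemma base_eq : sysOf duumBase
    = ({Spor.squareDodecad, Finset.univ \ Spor.squareDodecad} : Finset (Finset GolayPt)) := by
  decide +kernel

/-- The setwise stabiliser, in the group of the length-24 code, of a complementary pair of dodecads has exactly three orbits on the 1771 sextets, of sizes 396, 495 and 880. -/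
theorem result (d : Finset Cfsg.GolayPt) (hd : d ∈ Cfsg.dodecads) : ∃ X₁ ∈ Cfsg.sextets, ∃ X₂ ∈ Cfsg.sextets, ∃ X₃ ∈ Cfsg.sextets, (MulAction.orbit ↥(MulAction.stabilizer Cfsg.M24 ({d, Finset.univ \ d} : Finset (Finset Cfsg.GolayPt))) X₁).ncard = 396 ∧ (MulAction.orbit ↥(MulAction.stabilizer Cfsg.M24 ({d, Finset.univ \ d} : Finset (Finset Cfsg.GolayPt))) X₂).ncard = 495 ∧ (MulAction.orbit ↥(MulAction.stabilizer Cfsg.M24 ({d, Finset.univ \ d} : Finset (Finset Cfsg.GolayPt))) X₃).ncard = 880 ∧ Cfsg.sextets = MulAction.orbit ↥(MulAction.stabilizer Cfsg.M24 ({d, Finset.univ \ d} : Finset (Finset Cfsg.GolayPt))) X₁ ∪ MulAction.orbit ↥(MulAction.stabilizer Cfsg.M24 ({d, Finset.univ \ d} : Finset (Finset Cfsg.GolayPt))) X₂ ∪ MulAction.orbit ↥(MulAction.stabilizer Cfsg.M24 ({d, Finset.univ \ d} : Finset (Finset Cfsg.GolayPt))) X₃ := by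
  obtain ⟨g, hg⟩ := exists_M24_map_dodecad squareDodecad_mem hd
  have hb : g • sysOf duumBase = ({d, Finset.univ \ d} : Finset (Finset Cfsg.GolayPt)) := by
    have hu : (g : Equiv.Perm GolayPt) • (Finset.univ : Finset GolayPt) = Finset.univ :=
      Finset.smul_finset_univ
    rw [base_eq, coe_smul_sys, Finset.smul_finset_insert, Finset.smul_finset_singleton,
      Finset.smul_finset_sdiff, hu]
    rw [show (g : Equiv.Perm GolayPt) • Spor.squareDodecad = d from hg]
  rw [← hb]
  refine three_orbits rfl duumSext_cert sext_lens sextets_smul ncard_sextets_le ?_ g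
  intro c hc
  exact sextet_of_isSextB (List.all_eq_true.1 duumSext_roots c hc)

end Cfsg.Agent.S5617
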