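import Cfsg.Statements.S5618
import Cfsg.Agent.H95.GolayJoint
import Cfsg.Agent.H95.GolaySix
open Cfsg.Agent.H95 Cfsg.Agent.Golay

set_option autoImplicit false
open scoped Pointwise
open Cfsg

namespace Cfsg.Agent.S5618

lemma inter_eq_of_five {d o o' s : Finset Cfsg.GolayPt} (ho : o ∈ Cfsg.octads)
    (ho' : o' ∈ Cfsg.octads) (hs : 5 ≤ s.card) (h : s ⊆ o ∩ d) (h' : s ⊆ o' ∩ d) :
    o ∩ d = o' ∩ d := by
  have : o = o' := octad_eq_of_five ho ho' (hs.trans (Finset.card_le_card fun p hp =>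
    Finset.mem_inter.2 ⟨(Finset.mem_inter.1 (h hp)).1, (Finset.mem_inter.1 (h' hp)).1⟩))
  rw [this]

lemma smul_hexad {d C : Finset Cfsg.GolayPt} {g : Cfsg.M24} (hg : g • d = d)
    (hC : C ∈ Cfsg.hexadsOn d) : g • C ∈ Cfsg.hexadsOn d := by
  obtain ⟨h6, o, ho, rfl⟩ := hC
  refine ⟨(Finset.card_smul_finset (g : Equiv.Perm Cfsg.GolayPt) _).trans h6,
    g • o, smul_mem_octads g.2 ho, ?_⟩
  show _ = (g : Equiv.Perm Cfsg.GolayPt) • (o ∩ d)
  rw [Finset.smul_finset_inter]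
  exact congrArg _ hg.symm

lemma ncard_hexadsOn {d : Finset Cfsg.GolayPt} (hd : d ∈ Cfsg.dodecads) :
    (Cfsg.hexadsOn d).ncard = 132 := by
  rw [← (ncard_octads_dodecad hd).1]
  symm
  refine Set.ncard_congr (fun o _ => o ∩ d) ?_ ?_ ?_
  · rintro o ⟨ho, h6⟩; exact ⟨h6, o, ho, rfl⟩
  · rintro o o' ⟨ho, h6⟩ ⟨ho', -⟩ h
    refine octad_eq_of_five ho ho' (le_trans (by omega : 5 ≤ (o ∩ d).card)
      (Finset.card_le_card fun p hp => ?_))
    exact Finset.mem_inter.2 ⟨(Finset.mem_inter.1 hp).1, (Finset.mem_inter.1 (h ▸ hp)).1⟩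
  · rintro h ⟨h6, o, ho, rfl⟩; exact ⟨o, ⟨ho, h6⟩, rfl⟩

/-- For a dodecad d of the length-24 code and a hexad C on it (a 6-point intersection of d with an octad): the joint stabiliser of d and C in the code's group is isomorphic to the symmetric group of degree 6, and it acts faithfully both on the six points of C and on the six points of d outside C. -/
theorem result (d : Finset Cfsg.GolayPt) (hd : d ∈ Cfsg.dodecads) (C : Finset Cfsg.GolayPt) (hC : C ∈ Cfsg.hexadsOn d) : Nonempty (↥(MulAction.stabilizer Cfsg.M24 d ⊓ MulAction.stabilizer Cfsg.M24 C) ≃* Equiv.Perm (Fin 6)) ∧ (∀ g ∈ MulAction.stabilizer Cfsg.M24 d ⊓ MulAction.stabilizer Cfsg.M24 C, (∀ p ∈ C, ((g : ↥Cfsg.M24) : Equiv.Perm Cfsg.GolayPt) p = p) → g = 1) ∧ ∀ g ∈ MulAction.stabilizer Cfsg.M24 d ⊓ MulAction.stabilizer Cfsg.M24 C, (∀ p ∈ d \ C, ((g : ↥Cfsg.M24) : Equiv.Perm Cfsg.GolayPt) p = p) → g = 1 := by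
  obtain ⟨hC6, o, ho, hoC⟩ := hC
  have hsub : C ⊆ d := hoC ▸ Finset.inter_subset_right
  have hfix : ∀ g ∈ MulAction.stabilizer Cfsg.M24 d ⊓ MulAction.stabilizer Cfsg.M24 C,
      g • d = d ∧ g • C = C := fun g hg => ⟨hg.1, hg.2⟩
  have hfC : ∀ g ∈ MulAction.stabilizer Cfsg.M24 d ⊓ MulAction.stabilizer Cfsg.M24 C,
      (∀ p ∈ C, ((g : ↥Cfsg.M24) : Equiv.Perm Cfsg.GolayPt) p = p) → g = 1 :=
    fun g hg h => dodecad_stab_eq_one hd (hfix g hg).1 (by omega) hsub h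
  refine ⟨nonempty_iso_perm_six _ C hC6 (fun g hg => (hfix g hg).2) hfC ?_, hfC, ?_⟩
  · have horb : MulAction.orbit (MulAction.stabilizer Cfsg.M24 d) C = Cfsg.hexadsOn d := by
      ext x
      constructor
      · rintro ⟨g, rfl⟩
        exact smul_hexad g.2 ⟨hC6, o, ho, hoC⟩
      · rintro ⟨hx6, o', ho', rfl⟩
        obtain ⟨a, ha, haC⟩ := exists_five_of_card (s := C) (by omega)
        obtain ⟨b, hb, hbC⟩ := exists_five_of_card (s := o' ∩ d) (by omega)
        obtain ⟨g, hg, -⟩ := dodecad_sharply_five_transitive hd ⟨a, ha⟩ ⟨b, hb⟩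
          (fun i => hsub (haC i)) (fun i => Finset.mem_inter.1 (hbC i) |>.2)
        refine ⟨g, ?_⟩
        obtain ⟨-, o1, ho1, ho1C⟩ := smul_hexad (C := C) g.2 ⟨hC6, o, ho, hoC⟩
        show (g : Cfsg.M24) • C = o' ∩ d
        rw [← ho1C]
        refine inter_eq_of_five ho1 ho' (s := Finset.univ.image b) ?_ ?_ ?_
        · rw [Finset.card_image_of_injective _ hb]; simp
        · intro p hp
          obtain ⟨i, -, rfl⟩ := Finset.mem_image.1 hp
          rw [ho1C, show b i = ((g : Cfsg.M24) : Equiv.Perm Cfsg.GolayPt) (a i) from (hg i).symm]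
          exact Finset.smul_mem_smul_finset (haC i)
        · intro p hp
          obtain ⟨i, -, rfl⟩ := Finset.mem_image.1 hp
          exact hbC i
    have h := card_inf_stabilizer_mul (MulAction.stabilizer Cfsg.M24 d) C
    rw [horb, ncard_hexadsOn hd, card_dodecad_stab hd] at h
    omega
  · intro g hg h
    refine dodecad_stab_eq_one hd (hfix g hg).1 (s := d \ C) ?_ Finset.sdiff_subset h
    rw [Finset.card_sdiff_of_subset hsub, hC6]
    have : d.card = 12 := hd.2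
    omega

end Cfsg.Agent.S5618
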