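import Cfsg.Statements.S5619
import Cfsg.Agent.Golay.Stabilisers
open Cfsg.Agent.Golay

set_option autoImplicit false
open scoped Pointwise
open Cfsg

namespace Cfsg.Agent.S5619

/-- A quaternion group inside the stabiliser of three points of the dodecad of squares. -/
def q8Tables : List ℕ :=
  [984818244535754528103549039458486304, 719923664328491199848526586197411872,
   970499966350631336865513127433832480, 715872302521680643580706198532491296,
   608405391266436187982588441666881568, 232652365823391711183829569059784736,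
   609271311764373893382231684089481248, 227578386318009578406903204956702752]

/-- The 72 elements. -/
def m9List : List ℕ :=
  (m12Chain.getD 3 (0, [])).2.flatMap fun a => (m12Chain.getD 4 (0, [])).2.map fun b => tblMul a b

/-- Elements with cube one. -/
def m9Three : List ℕ := m9List.filter fun x => tblEq (tblMul x (tblMul x x)) idTbl

lemma m9_checks :
    (checkChain [squareMask] 7 (m12Chain.drop 3) && (chainCard (m12Chain.drop 3) == 72) &&
      (m9List.all (inStab [squareMask] 7)) && (m9List.length == 72) &&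
      decide ((m9List.map fun x => mkTbl 24 fun i => app x i).Nodup) && (m9Three.length == 9) &&
      (m9Three.all fun x => m9Three.all fun y => m9Three.any fun z => tblEq (tblMul x y) z) &&
      (q8Tables.all (inStab [squareMask] 7))) = true ∧
    (ptSet 7 = {pt 0, pt 1, pt 2}) ∧
    ((List.range 3).all fun i => squareMask.testBit i) = true := by
  decide +kernel

lemma mkTbl_congr' : ∀ {n : ℕ} {f g : ℕ → ℕ}, (∀ i < n, f i = g i) → mkTbl n f = mkTbl n g
  | 0, _, _, _ => rfl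
  | n + 1, f, g, h => by
    simp only [mkTbl, h 0 n.succ_pos]
    rw [mkTbl_congr' fun i hi => h (i + 1) (Nat.succ_lt_succ hi)]

lemma tblEq_iff' {A B : ℕ} (hA : validT A = true) (hB : validT B = true) :
    tblEq A B = true ↔ mkPerm A = mkPerm B := by
  refine ⟨mkPerm_eq_of_tblEq hA hB, fun h => ?_⟩
  rw [tblEq, List.all_eq_true]
  intro i hi
  rw [List.mem_range] at hi
  rw [beq_iff_eq, ← idx_pt i hi, ← idx_mkPerm hA, ← idx_mkPerm hB, h]

/-- The tables of the quaternion group. -/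
def q8Fun : QuaternionGroup 2 → ℕ
  | .a i => q8Tables.getD (ZMod.val i) 0
  | .xa i => q8Tables.getD (4 + ZMod.val i) 0

lemma q8_checks : (∀ x y : QuaternionGroup 2,
      tblEq (tblMul (q8Fun x) (q8Fun y)) (q8Fun (x * y)) = true) ∧
    (∀ x : QuaternionGroup 2, q8Fun x ∈ q8Tables) ∧
    (∀ x : QuaternionGroup 2, x ≠ 1 → tblEq (q8Fun x) idTbl = false) := by
  decide +kernel

lemma base_structure :
    Nat.card ↥(stabGrp [squareMask] 7) = 72 ∧
    ∃ N : Subgroup ↥(stabGrp [squareMask] 7), N.Normal ∧ Nat.card N = 9 ∧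
      (∀ x ∈ N, x ^ 3 = 1) ∧ ∃ f : QuaternionGroup 2 →* ↥(stabGrp [squareMask] 7),
        Function.Injective f := by
  obtain ⟨hchk, -, -⟩ := m9_checks
  simp only [Bool.and_eq_true, beq_iff_eq, decide_eq_true_eq, List.all_eq_true,
    List.any_eq_true] at hchk
  obtain ⟨⟨⟨⟨⟨⟨⟨hch, hcc⟩, hin⟩, hlen⟩, hnd⟩, h3len⟩, hcl⟩, hq⟩ := hchk
  set K := stabGrp [squareMask] 7
  have hK : Nat.card K = 72 := by rw [card_stabGrp hch, hcc]
  refine ⟨hK, ?_⟩
  have hv : ∀ x, inStab [squareMask] 7 x = true → validT x = true := fun x hx => by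
    simp only [inStab, Bool.and_eq_true] at hx
    exact validT_of_inM24 hx.1.1
  let mk : {x // x ∈ m9List} → K := fun x => ⟨mkPerm x.1, mem_stabGrp_of_inStab (hin x.1 x.2)⟩
  have htbl : ∀ x, validT x = true → (mkTbl 24 fun i => app x i) = tblOf (mkPerm x) := by
    intro x hx
    refine mkTbl_congr' fun i hi => ?_
    rw [idx_mkPerm hx, idx_pt i hi]
  have hinj : ∀ a b : {x // x ∈ m9List}, mk a = mk b → a = b := by
    intro a b h
    have e : mkPerm a.1 = mkPerm b.1 := congrArg Subtype.val h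
    exact Subtype.ext (List.inj_on_of_nodup_map hnd a.2 b.2
      (by rw [htbl _ (hv _ (hin _ a.2)), htbl _ (hv _ (hin _ b.2)), e]))
  have hsurj : ∀ g : K, ∃ x ∈ m9List, mkPerm x = (g : Equiv.Perm Cfsg.GolayPt) := by
    intro g
    have hbij : Function.Bijective mk := by
      rw [Nat.bijective_iff_injective_and_card]
      refine ⟨fun a b h => hinj a b h, ?_⟩
      rw [hK, Nat.card_eq_fintype_card, Fintype.card_of_subtype m9List.toFinset (by simp),
        List.toFinset_card_of_nodup (List.Nodup.of_map _ hnd), hlen]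
    obtain ⟨x, hx⟩ := hbij.2 g
    exact ⟨x.1, x.2, congrArg Subtype.val hx⟩
  have hcube : ∀ x, validT x = true → (tblEq (tblMul x (tblMul x x)) idTbl = true ↔
      mkPerm x ^ 3 = 1) := by
    intro x hx
    have s1 := tblMul_spec hx hx
    have s2 := tblMul_spec hx s1.1
    rw [tblEq_iff' s2.1 idTbl_spec.1, s2.2, s1.2, idTbl_spec.2, pow_succ', pow_two]
  let S : Set K := {g | g ^ 3 = 1}
  have hS : ∀ g : K, g ∈ S ↔ ∃ x ∈ m9Three, mkPerm x = (g : Equiv.Perm Cfsg.GolayPt) := by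
    intro g
    constructor
    · intro hg
      obtain ⟨x, hx, e⟩ := hsurj g
      refine ⟨x, List.mem_filter.2 ⟨hx, (hcube x (hv _ (hin x hx))).2 ?_⟩, e⟩
      rw [e]; exact congrArg Subtype.val hg
    · rintro ⟨x, hx, e⟩
      obtain ⟨hx', h3⟩ := List.mem_filter.1 hx
      refine Subtype.ext ?_
      show (g : Equiv.Perm Cfsg.GolayPt) ^ 3 = 1
      rw [← e]; exact (hcube x (hv _ (hin x hx'))).1 h3
  have hmul : ∀ g h : K, g ∈ S → h ∈ S → g * h ∈ S := by
    intro g h hg hh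
    obtain ⟨x, hx, ex⟩ := (hS g).1 hg
    obtain ⟨y, hy, ey⟩ := (hS h).1 hh
    obtain ⟨z, hz, e⟩ := hcl x hx y hy
    have hx' := hv _ (hin x (List.mem_filter.1 hx).1)
    have hy' := hv _ (hin y (List.mem_filter.1 hy).1)
    have hs := tblMul_spec hx' hy'
    refine (hS _).2 ⟨z, hz, ?_⟩
    rw [← mkPerm_eq_of_tblEq hs.1 (hv _ (hin z (List.mem_filter.1 hz).1)) e, hs.2, ex, ey]
    rfl
  let N : Subgroup K :=
    { carrier := S
      one_mem' := one_pow 3
      mul_mem' := fun {a b} ha hb => hmul a b ha hb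
      inv_mem' := fun {a} ha => by
        show a⁻¹ ^ 3 = 1
        rw [inv_pow, show a ^ 3 = 1 from ha, inv_one] }
  refine ⟨N, ⟨fun n hn g => ?_⟩, ?_, fun x hx => hx, ?_⟩
  · show (g * n * g⁻¹) ^ 3 = 1
    rw [conj_pow, show n ^ 3 = 1 from hn, mul_one, mul_inv_cancel]
  · let f3 : {x // x ∈ m9Three} → N :=
      fun x => ⟨mk ⟨x.1, (List.mem_filter.1 x.2).1⟩, (hS _).2 ⟨x.1, x.2, rfl⟩⟩
    have hb : Function.Bijective f3 := by
      refine ⟨fun a b h => ?_, fun g => ?_⟩
      · have := hinj ⟨a.1, (List.mem_filter.1 a.2).1⟩ ⟨b.1, (List.mem_filter.1 b.2).1⟩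
          (congrArg Subtype.val h)
        exact Subtype.ext (Subtype.mk.inj this)
      · obtain ⟨x, hx, e⟩ := (hS g.1).1 g.2
        exact ⟨⟨x, hx⟩, Subtype.ext (Subtype.ext e)⟩
    have h3nd : m9Three.Nodup := (List.Nodup.of_map _ hnd).filter _
    rw [← Nat.card_eq_of_bijective f3 hb, Nat.card_eq_fintype_card,
      Fintype.card_of_subtype m9Three.toFinset (by simp),
      List.toFinset_card_of_nodup h3nd, h3len]
  · obtain ⟨hhom, hmem, hne⟩ := q8_checks
    have hqv := fun x => hv _ (hq _ (hmem x))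
    let f : QuaternionGroup 2 →* K :=
      MonoidHom.mk' (fun x => ⟨mkPerm (q8Fun x), mem_stabGrp_of_inStab (hq _ (hmem x))⟩)
        fun x y => Subtype.ext (by
          have hs := tblMul_spec (hqv x) (hqv y)
          show mkPerm (q8Fun (x * y)) = mkPerm (q8Fun x) * mkPerm (q8Fun y)
          rw [← mkPerm_eq_of_tblEq hs.1 (hqv (x * y)) (hhom x y), hs.2])
    refine ⟨f, (injective_iff_map_eq_one f).2 fun x hx => ?_⟩
    by_contra hx1
    have e : mkPerm (q8Fun x) = 1 := congrArg Subtype.val hx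
    have := (tblEq_iff' (hqv x) idTbl_spec.1).2
    rw [hne x hx1] at this
    exact Bool.false_ne_true (this (by rw [e, idTbl_spec.2]))

/-- In the group of the length-24 code, the subgroup fixing a dodecad setwise and three of its points individually (a group of order 72) has a normal Sylow 3-subgroup that is elementary abelian of order 9, and its Sylow 2-subgroups are quaternion of order 8. -/
theorem result (d : Finset Cfsg.GolayPt) (hd : d ∈ Cfsg.dodecads) (p q r : Cfsg.GolayPt) (hp : p ∈ d) (hq : q ∈ d) (hr : r ∈ d) (hpq : p ≠ q) (hpr : p ≠ r) (hqr : q ≠ r) : (∀ Q : Sylow 3 ↥(MulAction.stabilizer Cfsg.M24 d ⊓ MulAction.stabilizer Cfsg.M24 p ⊓ MulAction.stabilizer Cfsg.M24 q ⊓ MulAction.stabilizer Cfsg.M24 r), (Q : Subgroup ↥(MulAction.stabilizer Cfsg.M24 d ⊓ MulAction.stabilizer Cfsg.M24 p ⊓ MulAction.stabilizer Cfsg.M24 q ⊓ MulAction.stabilizer Cfsg.M24 r)).Normal ∧ Nat.card ↥Q = 9 ∧ ∀ x ∈ (Q : Subgroup ↥(MulAction.stabilizer Cfsg.M24 d ⊓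 MulAction.stabilizer Cfsg.M24 p ⊓ MulAction.stabilizer Cfsg.M24 q ⊓ MulAction.stabilizer Cfsg.M24 r)), x ^ 3 = 1) ∧ ∀ P : Sylow 2 ↥(MulAction.stabilizer Cfsg.M24 d ⊓ MulAction.stabilizer Cfsg.M24 p ⊓ MulAction.stabilizer Cfsg.M24 q ⊓ MulAction.stabilizer Cfsg.M24 r), Nonempty (↥P ≃* QuaternionGroup 2) := by
  obtain ⟨hK, N, hN, hN9, hN3, f, hf⟩ := base_structure
  obtain ⟨k0, hk0⟩ := exists_M24_map_dodecad hd squareDodecad_mem
  obtain ⟨k, hkd, hkp, hkq, hkr⟩ : ∃ k : M24, k • d = Cfsg.Spor.squareDodecad ∧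
      (k : Equiv.Perm Cfsg.GolayPt) p = pt 0 ∧ (k : Equiv.Perm Cfsg.GolayPt) q = pt 1 ∧
      (k : Equiv.Perm Cfsg.GolayPt) r = pt 2 := by
    have hin : ∀ z ∈ d, (k0 : Equiv.Perm Cfsg.GolayPt) z ∈ Cfsg.Spor.squareDodecad :=
      fun z hz => hk0 ▸ Finset.smul_mem_smul_finset hz
    obtain ⟨-, -, hsq⟩ := m9_checks
    have hS : ∀ i < 3, pt i ∈ Cfsg.Spor.squareDodecad := fun i hi => by
      rw [← ptSet_squareMask, mem_ptSet, idx_pt i (by omega)]
      exact List.all_eq_true.1 hsq i (List.mem_range.2 hi)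
    have hc : 5 ≤ d.card := by rw [show d.card = 12 from hd.2]; norm_num
    have h2 : 2 ≤ (((d.erase p).erase q).erase r).card := by
      rw [Finset.card_erase_of_mem (by simp [hr, hpr.symm, hqr.symm]),
        Finset.card_erase_of_mem (by simp [hq, hpq.symm]), Finset.card_erase_of_mem hp,
        show d.card = 12 from hd.2]
      norm_num
    obtain ⟨u, hu, v, hv, huv⟩ := Finset.one_lt_card.1 h2
    simp only [Finset.mem_erase] at hu hv
    let a : Fin 5 → Cfsg.GolayPt := ![p, q, r, u, v]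
    have ha : Function.Injective a := by
      intro i j h
      fin_cases i <;> fin_cases j <;>
        simp [a, hpq, hpr, hqr, hpq.symm, hpr.symm, hqr.symm, hu.1, hu.2.1, hu.2.2.1, hv.1,
          hv.2.1, hv.2.2.1, Ne.symm hu.1, Ne.symm hu.2.1, Ne.symm hu.2.2.1, Ne.symm hv.1,
          Ne.symm hv.2.1, Ne.symm hv.2.2.1, huv, Ne.symm huv] at h ⊢
    have had : ∀ i, a i ∈ d := by
      intro i; fin_cases i <;> simp [a, hp, hq, hr, hu.2.2.2, hv.2.2.2]
    let x : Fin 5 ↪ Cfsg.GolayPt := ⟨fun i => (k0 : Equiv.Perm Cfsg.GolayPt) (a i),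
      (Equiv.injective _).comp ha⟩
    obtain ⟨σ, hσ, hσx⟩ := exists_spor_M12_base x (fun i => hin _ (had i))
    refine ⟨(⟨σ, hσ.1⟩ : M24)⁻¹ * k0, ?_, ?_, ?_, ?_⟩
    · rw [mul_smul, hk0, inv_smul_eq_iff]
      exact (hσ.2 : σ • _ = _).symm
    · show σ⁻¹ ((k0 : Equiv.Perm Cfsg.GolayPt) p) = pt 0
      rw [show (k0 : Equiv.Perm Cfsg.GolayPt) p = σ (pt 0) from (hσx 0).symm,
        Equiv.Perm.coe_inv, Equiv.symm_apply_apply]
    · show σ⁻¹ ((k0 : Equiv.Perm Cfsg.GolayPt) q) = pt 1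
      rw [show (k0 : Equiv.Perm Cfsg.GolayPt) q = σ (pt 1) from (hσx 1).symm,
        Equiv.Perm.coe_inv, Equiv.symm_apply_apply]
    · show σ⁻¹ ((k0 : Equiv.Perm Cfsg.GolayPt) r) = pt 2
      rw [show (k0 : Equiv.Perm Cfsg.GolayPt) r = σ (pt 2) from (hσx 2).symm,
        Equiv.Perm.coe_inv, Equiv.symm_apply_apply]
  set H := MulAction.stabilizer M24 d ⊓ MulAction.stabilizer M24 p ⊓ MulAction.stabilizer M24 q ⊓
    MulAction.stabilizer M24 r with hH
  have hiff : ∀ g : M24, g ∈ H ↔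
      ((k * g * k⁻¹ : M24) : Equiv.Perm Cfsg.GolayPt) ∈ stabGrp [squareMask] 7 := by
    intro g
    obtain ⟨-, h7, -⟩ := m9_checks
    simp only [hH, Subgroup.mem_inf, MulAction.mem_stabilizer_iff, mem_stabGrp,
      List.mem_singleton, forall_eq, ptSet_squareMask, h7, Finset.mem_insert, Finset.mem_singleton,
      forall_eq_or_imp]
    have hd' : g • d = d ↔
        ((k * g * k⁻¹ : M24) : Equiv.Perm Cfsg.GolayPt) • Cfsg.Spor.squareDodecad
          = Cfsg.Spor.squareDodecad := by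
      show _ ↔ (k * g * k⁻¹) • Cfsg.Spor.squareDodecad = Cfsg.Spor.squareDodecad
      rw [← hkd, mul_smul, mul_smul, inv_smul_smul, smul_left_cancel_iff]
    have hp' : ∀ z w, (k : Equiv.Perm Cfsg.GolayPt) z = w → (g • z = z ↔
        ((k * g * k⁻¹ : M24) : Equiv.Perm Cfsg.GolayPt) w = w) := by
      intro z w hzw
      show _ ↔ (k * g * k⁻¹) • w = w
      rw [← hzw, show (k : Equiv.Perm Cfsg.GolayPt) z = k • z from rfl, mul_smul, mul_smul,
        inv_smul_smul, smul_left_cancel_iff]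
    rw [hd', hp' p _ hkp, hp' q _ hkq, hp' r _ hkr]
    exact ⟨fun h => ⟨(k * g * k⁻¹).2, h.1.1.1, h.1.1.2, h.1.2, h.2⟩,
      fun h => ⟨⟨⟨h.2.1, h.2.2.1⟩, h.2.2.2.1⟩, h.2.2.2.2⟩⟩
  let e : H ≃* ↥(stabGrp [squareMask] 7) :=
    { toFun := fun g => ⟨((k * g.1 * k⁻¹ : M24) : Equiv.Perm Cfsg.GolayPt), (hiff g.1).1 g.2⟩
      invFun := fun x => ⟨k⁻¹ * ⟨x.1, x.2.1⟩ * k, (hiff _).2 (by
        have e : k * (k⁻¹ * ⟨x.1, x.2.1⟩ * k) * k⁻¹ = (⟨x.1, x.2.1⟩ : M24) := by group
        rw [e]; exact x.2)⟩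
      left_inv := fun g => Subtype.ext (show k⁻¹ * (k * g.1 * k⁻¹) * k = g.1 by group)
      right_inv := fun x => Subtype.ext <| by
        show ((k * (k⁻¹ * ⟨x.1, x.2.1⟩ * k) * k⁻¹ : M24) : Equiv.Perm Cfsg.GolayPt) = x.1
        rw [show k * (k⁻¹ * ⟨x.1, x.2.1⟩ * k) * k⁻¹ = (⟨x.1, x.2.1⟩ : M24) by group]
      map_mul' := fun g h => Subtype.ext <| by
        show ((k * (g.1 * h.1) * k⁻¹ : M24) : Equiv.Perm Cfsg.GolayPt)
          = ((k * g.1 * k⁻¹ : M24) : Equiv.Perm Cfsg.GolayPt) * ((k * h.1 * k⁻¹ : M24) : Equiv.Perm Cfsg.GolayPt)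
        rw [← Subgroup.coe_mul]
        exact congrArg Subtype.val (show k * (g.1 * h.1) * k⁻¹ = (k * g.1 * k⁻¹) * (k * h.1 * k⁻¹) by group) }
  have hH72 : Nat.card H = 72 := (Nat.card_congr e.toEquiv).trans hK
  haveI : Fact (Nat.Prime 3) := ⟨Nat.prime_three⟩
  haveI : Fact (Nat.Prime 2) := ⟨Nat.prime_two⟩
  constructor
  · intro Q
    let N' : Subgroup H := N.comap e.toMonoidHom
    have hN' : Nat.card N' = 9 := by
      rw [← hN9]
      exact Nat.card_congr (e.toEquiv.subtypeEquiv fun x => Iff.rfl)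
    have hp3 : IsPGroup 3 N' := IsPGroup.of_card (n := 2) (by rw [hN']; norm_num)
    have hidx : ¬ 3 ∣ N'.index := by
      have := N'.card_mul_index
      rw [hN', hH72] at this
      omega
    haveI hn : N'.Normal := hN.comap _
    haveI hn3 : (hp3.toSylow hidx : Subgroup H).Normal := hn
    have hQ : (Q : Subgroup H) = N' := by
      obtain ⟨g, hg⟩ := MulAction.exists_smul_eq H (hp3.toSylow hidx) Q
      rw [← hg, Sylow.smul_eq_of_normal]
      exact IsPGroup.toSylow_coe _ _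
    refine ⟨hQ ▸ hn, ?_, ?_⟩
    · rw [← hN']; exact congrArg (fun S : Subgroup H => Nat.card S) hQ
    · intro x hx
      rw [hQ] at hx
      refine e.injective ?_
      rw [map_pow, map_one]
      exact hN3 _ hx
  · intro P
    let F : QuaternionGroup 2 →* H := e.symm.toMonoidHom.comp f
    have hF : Function.Injective F := e.symm.injective.comp hf
    have hc8 : Nat.card F.range = 8 := by
      rw [← Nat.card_congr (MonoidHom.ofInjective hF).toEquiv, Nat.card_eq_fintype_card]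
      rfl
    have hp2 : IsPGroup 2 F.range := IsPGroup.of_card (n := 3) (by rw [hc8]; norm_num)
    have hidx : ¬ 2 ∣ F.range.index := by
      have := F.range.card_mul_index
      rw [hc8, hH72] at this
      omega
    exact ⟨((P.equiv (hp2.toSylow hidx)).trans
      (MulEquiv.subgroupCongr (IsPGroup.toSylow_coe _ _))).trans
      (MonoidHom.ofInjective hF).symm⟩

end Cfsg.Agent.S5619
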