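import Cfsg.Statements.S5620
import Cfsg.Agent.Golay.M11Out
open Cfsg.Agent.Golay

set_option autoImplicit false
open scoped Pointwise
open Cfsg

namespace Cfsg.Agent.S5620

lemma compl_mem_dodecads : (Finset.univ \ Cfsg.Spor.squareDodecad) ∈ Cfsg.dodecads := by
  refine ⟨mem_supports_iff.2 ?_, by rw [← ptSet_squareMask]; decide +kernel⟩
  decide +kernel

/-- Inside the stabiliser of the dodecad of squares (a Mathieu group of degree 12), the stabiliser of the residue 0 (a point of the dodecad) and the stabiliser of the extra point (a point outside the dodecad) are isomorphic but not conjugate; conjugation by a suitable element of the code's group that maps the dodecad of squares onto its complement carries the first onto the second. -/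
theorem result : Nonempty (↥(Cfsg.Spor.M12 ⊓ MulAction.stabilizer (Equiv.Perm Cfsg.GolayPt) (none : Cfsg.GolayPt)) ≃* ↥Cfsg.Spor.M11) ∧ (¬ ∃ k ∈ Cfsg.Spor.M12, MulAut.conj k • Cfsg.Spor.M11 = Cfsg.Spor.M12 ⊓ MulAction.stabilizer (Equiv.Perm Cfsg.GolayPt) (none : Cfsg.GolayPt)) ∧ ∃ g ∈ Cfsg.M24, g • Cfsg.Spor.squareDodecad = Finset.univ \ Cfsg.Spor.squareDodecad ∧ MulAut.conj g • Cfsg.Spor.M11 = Cfsg.Spor.M12 ⊓ MulAction.stabilizer (Equiv.Perm Cfsg.GolayPt) (none : Cfsg.GolayPt) := by
  have hD : Spor.squareDodecad ∈ Cfsg.dodecads := squareDodecad_mem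
  have hnone : (none : GolayPt) ∈ Finset.univ \ Spor.squareDodecad := by
    rw [← ptSet_squareMask]; decide +kernel
  obtain ⟨k, hk, hk0⟩ := exists_M24_map_dodecad_point compl_mem_dodecads hnone
  set g : Equiv.Perm GolayPt := ((k⁻¹ : M24) : Equiv.Perm GolayPt) with hg
  have hgD : g • Spor.squareDodecad = Finset.univ \ Spor.squareDodecad := by
    show k⁻¹ • Spor.squareDodecad = _
    rw [inv_smul_eq_iff, hk]
  have hg0 : g (some 0) = none := by
    show k⁻¹ • (some 0 : GolayPt) = none
    rw [inv_smul_eq_iff, hk0]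
  have hM : ∀ σ : Equiv.Perm GolayPt, σ • (Finset.univ \ Spor.squareDodecad) = Finset.univ \ Spor.squareDodecad
      ↔ σ • Spor.squareDodecad = Spor.squareDodecad := by
    intro σ
    rw [Finset.smul_finset_sdiff, Finset.smul_finset_univ]
    constructor
    · intro h
      rw [← Finset.compl_eq_univ_sdiff, ← Finset.compl_eq_univ_sdiff, compl_inj_iff] at h
      exact h
    · intro h; rw [h]
  have hconj : MulAut.conj g • Spor.M11
      = Spor.M12 ⊓ MulAction.stabilizer (Equiv.Perm GolayPt) (none : GolayPt) := by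
    ext x
    rw [Subgroup.mem_pointwise_smul_iff_inv_smul_mem, MulAut.smul_def, MulAut.conj_inv_apply,
      Spor.M11, Spor.M12]
    simp only [Subgroup.mem_inf]
    show ((g⁻¹ * x * g ∈ M24 ∧ (g⁻¹ * x * g) • Spor.squareDodecad = Spor.squareDodecad) ∧
        (g⁻¹ * x * g) • (some 0 : GolayPt) = some 0) ↔
      ((x ∈ M24 ∧ x • Spor.squareDodecad = Spor.squareDodecad) ∧ x • (none : GolayPt) = none)
    have hgM : g ∈ M24 := (k⁻¹).2
    have e1 : g⁻¹ * x * g ∈ M24 ↔ x ∈ M24 := by
      rw [M24.mul_mem_cancel_right hgM, M24.mul_mem_cancel_left (M24.inv_mem hgM)]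
    have e2 : (g⁻¹ * x * g) • Spor.squareDodecad = Spor.squareDodecad
        ↔ x • Spor.squareDodecad = Spor.squareDodecad := by
      rw [mul_smul, mul_smul, hgD, inv_smul_eq_iff, hgD, hM]
    have e3 : (g⁻¹ * x * g) • (some 0 : GolayPt) = some 0 ↔ x • (none : GolayPt) = none := by
      rw [mul_smul, mul_smul, Equiv.Perm.smul_def g (some 0), hg0, inv_smul_eq_iff,
        Equiv.Perm.smul_def g (some 0), hg0]
    rw [e1, e2, e3]
  refine ⟨?_, ?_, g, (k⁻¹).2, hgD, hconj⟩
  · rw [← hconj]
    exact ⟨(Subgroup.equivSMul (MulAut.conj g) Spor.M11).symm⟩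
  · rintro ⟨c, hc, hce⟩
    set q := c (some 0 : GolayPt) with hq
    have h0 : (some 0 : GolayPt) ∈ Spor.squareDodecad := by
      rw [← ptSet_squareMask]; decide +kernel
    have hqD : q ∈ Spor.squareDodecad := by
      rw [← (hc.2 : c • Spor.squareDodecad = Spor.squareDodecad)]
      exact Finset.smul_mem_smul_finset h0
    have hfix : ∀ σ ∈ Spor.M11, (g * σ * g⁻¹) q = q := by
      intro σ hσ
      have h : g * σ * g⁻¹ ∈ MulAut.conj c • Spor.M11 := by
        rw [hce, ← hconj]
        exact Subgroup.smul_mem_pointwise_smul σ (MulAut.conj g) _ hσ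
      obtain ⟨τ, hτ, hτe⟩ := h
      rw [← hτe]
      show (c * τ * c⁻¹) q = q
      simp only [Equiv.Perm.mul_apply, hq, Equiv.Perm.coe_inv, Equiv.symm_apply_apply]
      rw [show τ (some 0) = some 0 from hτ.2]
    have hout : g⁻¹ q ∉ Spor.squareDodecad := by
      intro h
      have h' : g (g⁻¹ q) ∈ g • Spor.squareDodecad := Finset.smul_mem_smul_finset h
      rw [hgD, Equiv.Perm.coe_inv, Equiv.apply_symm_apply, Finset.mem_sdiff] at h'
      exact h'.2 hqD
    have hsz : 3 ≤ ((Finset.univ \ Spor.squareDodecad).erase (g⁻¹ q)).card := by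
      rw [Finset.card_erase_of_mem (Finset.mem_sdiff.2 ⟨Finset.mem_univ _, hout⟩),
        (compl_mem_dodecads).2]
      norm_num
    obtain ⟨t, hts, htc⟩ := Finset.exists_subset_card_eq hsz
    let y : Fin 3 ↪ GolayPt :=
      (t.equivFinOfCardEq htc).symm.toEmbedding.trans (Function.Embedding.subtype _)
    have hy : ∀ i, y i ∉ Spor.squareDodecad ∧ y i ≠ g⁻¹ q := fun i => by
      have := hts (Subtype.prop ((t.equivFinOfCardEq htc).symm i))
      simp only [Finset.mem_erase, Finset.mem_sdiff] at this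
      exact ⟨this.2.2, this.1⟩
    have hxi : Function.Injective ![g⁻¹ q, y 1, y 2] := by
      intro i j h
      have h12 : y 1 ≠ y 2 := fun e => absurd (y.injective e) (by decide)
      fin_cases i <;> fin_cases j <;>
        simp [-Equiv.Perm.coe_inv, (hy 1).2, (hy 2).2, (hy 1).2.symm, (hy 2).2.symm, h12, h12.symm] at h ⊢
    obtain ⟨α, hα, hαe⟩ := exists_spor_M11_out ⟨_, hxi⟩ (by
      intro i; fin_cases i
      · exact hout
      · exact (hy 1).1
      · exact (hy 2).1)
    obtain ⟨β, hβ, hβe⟩ := exists_spor_M11_out y (fun i => (hy i).1)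
    simp only [List.map_cons, List.map_nil, List.cons.injEq, and_true] at hαe hβe
    have h := hfix (β * α⁻¹) (mul_mem hβ (inv_mem hα))
    rw [Equiv.Perm.mul_apply, Equiv.Perm.mul_apply, Equiv.Perm.mul_apply] at h
    have hα0 : α (pt 23) = g⁻¹ q := hαe.1
    rw [← hα0, Equiv.Perm.coe_inv α, Equiv.symm_apply_apply, hβe.1] at h
    exact (hy 0).2 (by rw [Equiv.Perm.coe_inv, Equiv.eq_symm_apply]; exact h)

end Cfsg.Agent.S5620
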