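import Cfsg.Statements.S5623
import Cfsg.Agent.H95.SelfDual24

set_option autoImplicit false
open Cfsg

namespace Cfsg.Agent.S5623

open Cfsg.Agent.H95

/-- Let C be a self-dual binary code of length 24 with minimum weight at least 8 (a 12-dimensional subspace of the 24-dimensional space over the field with two elements, any two of whose words have dot product zero, with no non-zero word of weight below 8 — an abstract extended binary Golay code). Then every coset w + C of C in the ambient space contains either exactly one word of weight at most 4, which then has weight at most 3, or exactly six words of weight at most 4, all of weight exactly 4 and with pairwise disjoint supports (a sextet). -/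
theorem result (C : Submodule (ZMod 2) (Fin 24 → ZMod 2)) (hdim : Module.finrank (ZMod 2) C = 12) (horth : ∀ v ∈ C, ∀ w ∈ C, ∑ i, v i * w i = 0) (hmin : ∀ w ∈ C, w ≠ 0 → 8 ≤ hammingNorm w) (w : Fin 24 → ZMod 2) : (∃ u : Fin 24 → ZMod 2, {u : Fin 24 → ZMod 2 | u - w ∈ C ∧ hammingNorm u ≤ 4} = {u} ∧ hammingNorm u ≤ 3) ∨ ({u : Fin 24 → ZMod 2 | u - w ∈ C ∧ hammingNorm u ≤ 4}.ncard = 6 ∧ ∀ u ∈ {u : Fin 24 → ZMod 2 | u - w ∈ C ∧ hammingNorm u ≤ 4}, hammingNorm u = 4 ∧ ∀ u' ∈ {u : Fin 24 → ZMod 2 | u - w ∈ C ∧ hammingNorm u ≤ 4}, u ≠ u' → Disjoint (Finset.univ.filter fun i => u i ≠ 0) (Finset.univ.filter fun i => u' i ≠ 0)) := by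
  classical
  have key : ∀ u : Fin 24 → ZMod 2, u ∈ {u : Fin 24 → ZMod 2 | u - w ∈ C ∧ hammingNorm u ≤ 4} ↔
      cls C (sup24 u) = cls C (sup24 w) ∧ (sup24 u).card ≤ 4 := by
    intro u
    rw [cls_eq_iff, ind24_sup24, ind24_sup24, ← sub24]
    exact Iff.rfl
  rcases coset_cases C hdim hmin (cls C (sup24 w)) with ⟨t, ht, h⟩ | ⟨hno, h6, -⟩
  · left
    have ht3 := mem_small.1 ht
    refine ⟨ind24 t, ?_, by rw [← card_sup24, sup24_ind24]; exact ht3⟩
    ext u
    rw [key, Set.mem_singleton_iff]
    constructor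
    · rintro ⟨hu, hu4⟩
      by_contra hne
      have hne' : sup24 u ≠ t := fun e => hne (by rw [← e, ind24_sup24])
      have := cls_eq_weight C hmin (hu.trans h.symm) hne'
      omega
    · rintro rfl
      rw [sup24_ind24]
      exact ⟨h, by omega⟩
  · right
    have hmem : ∀ u, u ∈ {u : Fin 24 → ZMod 2 | u - w ∈ C ∧ hammingNorm u ≤ 4} →
        (sup24 u).card = 4 ∧ cls C (sup24 u) = cls C (sup24 w) := by
      intro u hu
      obtain ⟨h1, h2⟩ := (key u).1 hu
      refine ⟨?_, h1⟩
      by_contra hne
      exact hno _ (mem_small.2 (by omega)) h1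
    refine ⟨?_, fun u hu => ⟨(hmem u hu).1, fun u' hu' hne => ?_⟩⟩
    · have himg : {u : Fin 24 → ZMod 2 | u - w ∈ C ∧ hammingNorm u ≤ 4} =
          ↑((quads.filter fun t => cls C t = cls C (sup24 w)).image ind24) := by
        ext u
        rw [Finset.coe_image, Set.mem_image]
        constructor
        · intro hu
          exact ⟨sup24 u, Finset.mem_filter.2 ⟨mem_quads.2 (hmem u hu).1, (hmem u hu).2⟩,
            ind24_sup24 u⟩
        · rintro ⟨t, ht, rfl⟩
          obtain ⟨ht1, ht2⟩ := Finset.mem_filter.1 ht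
          rw [key, sup24_ind24]
          exact ⟨ht2, le_of_eq (mem_quads.1 ht1)⟩
      rw [himg, Set.ncard_coe_finset, Finset.card_image_of_injective _
        (Function.LeftInverse.injective sup24_ind24)]
      convert h6
    · exact quads_disjoint C hmin (hmem u hu).1 (hmem u' hu').1
        ((hmem u hu).2.trans (hmem u' hu').2.symm)
        (fun e => hne ((ind24_sup24 u).symm.trans ((congrArg ind24 e).trans (ind24_sup24 u'))))

end Cfsg.Agent.S5623
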