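import Cfsg.Statements.S5624
import Cfsg.Agent.H95.SelfDual24

set_option autoImplicit false
open Cfsg

namespace Cfsg.Agent.S5624

open Cfsg.Agent.H95

/-- Let C be a self-dual binary code of length 24 with minimum weight at least 8 (a 12-dimensional subspace of the 24-dimensional space over the field with two elements, any two of whose words have dot product zero, with no non-zero word of weight below 8 — an abstract extended binary Golay code). Then C is spanned, as a vector space over the field with two elements, by its words of weight 8. -/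
theorem result (C : Submodule (ZMod 2) (Fin 24 → ZMod 2)) (hdim : Module.finrank (ZMod 2) C = 12) (horth : ∀ v ∈ C, ∀ w ∈ C, ∑ i, v i * w i = 0) (hmin : ∀ w ∈ C, w ≠ 0 → 8 ≤ hammingNorm w) : Submodule.span (ZMod 2) {w : Fin 24 → ZMod 2 | w ∈ C ∧ hammingNorm w = 8} = C := by
  refine le_antisymm (Submodule.span_le.2 fun w hw => hw.1) ?_
  suffices ∀ n, ∀ w ∈ C, hammingNorm w = n →
      w ∈ Submodule.span (ZMod 2) {w : Fin 24 → ZMod 2 | w ∈ C ∧ hammingNorm w = 8} from
    fun w hw => this _ w hw rfl
  intro n
  induction n using Nat.strong_induction_on with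
  | _ n ih =>
    intro w hw hn
    rcases eq_or_ne w 0 with rfl | hw0
    · exact Submodule.zero_mem _
    obtain ⟨b, hb, hb8, h⟩ := exists_peel C hdim hmin horth hw hw0
    have h1 := ih (hammingNorm (w + b)) (by omega) _ (C.add_mem hw hb) rfl
    rw [← add_sub_cancel_right w b]
    exact Submodule.sub_mem _ h1 (Submodule.subset_span ⟨hb, hb8⟩)

end Cfsg.Agent.S5624
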