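import Cfsg.Statements.S5625


set_option autoImplicit false
open Cfsg

namespace Cfsg.Agent.S5625

open Finset

/-- Between `I ⊆ b` the number of `k`-sets. -/
lemma count_between {α : Type*} [DecidableEq α] (I b : Finset α) (hI : I ⊆ b) (k : ℕ)
    (hk : I.card ≤ k) :
    ((powersetCard k b).filter fun s => I ⊆ s).card = (b.card - I.card).choose (k - I.card) := by
  rw [← card_sdiff_of_subset hI, ← card_powersetCard (k - I.card) (b \ I)]
  refine card_bij' (fun s _ => s \ I) (fun s _ => s ∪ I) ?_ ?_ ?_ ?_
  · intro s hs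
    obtain ⟨h1, h2⟩ := mem_filter.1 hs
    obtain ⟨h3, h4⟩ := mem_powersetCard.1 h1
    exact mem_powersetCard.2 ⟨sdiff_subset_sdiff h3 subset_rfl, by rw [card_sdiff_of_subset h2, h4]⟩
  · intro s hs
    obtain ⟨h3, h4⟩ := mem_powersetCard.1 hs
    have hd : Disjoint s I := disjoint_of_subset_left h3 sdiff_disjoint
    exact mem_filter.2 ⟨mem_powersetCard.2 ⟨union_subset (h3.trans sdiff_subset) hI,
      by rw [card_union_of_disjoint hd, h4]; omega⟩, subset_union_right⟩
  · intro s hs
    exact sdiff_union_of_subset (mem_filter.1 hs).2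
  · intro s hs
    exact union_sdiff_cancel_right
      (disjoint_of_subset_left (mem_powersetCard.1 hs).1 sdiff_disjoint)

/-- Blocks through an `i`-set. -/
lemma lambda_eq {α : Type*} [Fintype α] [DecidableEq α] (B : Finset (Finset α))
    (hB : Cfsg.IsSteinerSystem 5 8 (B : Set (Finset α))) (I : Finset α) (hI : I.card ≤ 5) :
    (B.filter fun b => I ⊆ b).card * (8 - I.card).choose (5 - I.card) =
      (Fintype.card α - I.card).choose (5 - I.card) := by
  have h1 := count_between I univ (subset_univ I) 5 hI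
  rw [card_univ] at h1
  have hcover : (powersetCard 5 univ).filter (fun s => I ⊆ s) =
      (B.filter fun b => I ⊆ b).biUnion fun b => (powersetCard 5 b).filter fun s => I ⊆ s := by
    ext s
    simp only [mem_filter, mem_powersetCard, subset_univ, true_and, mem_biUnion]
    constructor
    · rintro ⟨h5, hIs⟩
      obtain ⟨b, ⟨hb, hsb⟩, -⟩ := hB.2 s h5
      exact ⟨b, ⟨hb, hIs.trans hsb⟩, ⟨hsb, h5⟩, hIs⟩
    · rintro ⟨b, -, ⟨-, h5⟩, hIs⟩
      exact ⟨h5, hIs⟩
  rw [hcover, card_biUnion] at h1
  · rw [← h1, ← smul_eq_mul, ← sum_const]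
    refine sum_congr rfl fun b hb => ?_
    obtain ⟨hbB, hIb⟩ := mem_filter.1 hb
    rw [count_between I b hIb 5 hI, hB.1 b hbB]
  · intro b hb b' hb' hne
    rw [Function.onFun, disjoint_left]
    intro s hs hs'
    obtain ⟨h2, -⟩ := mem_filter.1 hs
    obtain ⟨h3, -⟩ := mem_filter.1 hs'
    obtain ⟨h4, h5⟩ := mem_powersetCard.1 h2
    obtain ⟨x, -, hu⟩ := hB.2 s h5
    exact hne ((hu b ⟨(mem_filter.1 hb).1, h4⟩).trans
      (hu b' ⟨(mem_filter.1 hb').1, (mem_powersetCard.1 h3).1⟩).symm)

/-- In any Steiner system S(5, 8, 24) and for any set Y of three points, the blocks meeting Y in exactly 3, 2, 1 and 0 points number 21, 168, 360 and 210 respectively (so there are 759 blocks in all). -/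
theorem result (α : Type*) [Fintype α] [DecidableEq α] (hα : Fintype.card α = 24) (B : Set (Finset α)) (hB : Cfsg.IsSteinerSystem 5 8 B) (Y : Finset α) (hY : Y.card = 3) : {b : Finset α | b ∈ B ∧ (b ∩ Y).card = 3}.ncard = 21 ∧ {b : Finset α | b ∈ B ∧ (b ∩ Y).card = 2}.ncard = 168 ∧ {b : Finset α | b ∈ B ∧ (b ∩ Y).card = 1}.ncard = 360 ∧ {b : Finset α | b ∈ B ∧ (b ∩ Y).card = 0}.ncard = 210 := by
  classical
  set T : Finset (Finset α) := Finset.univ.filter fun b => b ∈ B with hT
  have hTB : (T : Set (Finset α)) = B := by ext b; simp [hT]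
  have hst : Cfsg.IsSteinerSystem 5 8 (T : Set (Finset α)) := hTB.symm ▸ hB
  have hset : ∀ k, {b : Finset α | b ∈ B ∧ (b ∩ Y).card = k}.ncard =
      (T.filter fun b => (b ∩ Y).card = k).card := by
    intro k
    rw [← Set.ncard_coe_finset]
    congr 1
    ext b
    simp [hT]
  have hlam : ∀ I : Finset α, I.card ≤ 3 → (T.filter fun b => I ⊆ b).card *
      (8 - I.card).choose (5 - I.card) = (24 - I.card).choose (5 - I.card) := fun I hI =>
    hα ▸ lambda_eq T hst I (by omega)
  have hdc : ∀ i lam, (∀ I : Finset α, I.card = i → (T.filter fun b => I ⊆ b).card = lam) →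
      ∑ b ∈ T, (b ∩ Y).card.choose i = (3 : ℕ).choose i * lam := by
    intro i lam h
    have h1 : ∀ b ∈ T, (b ∩ Y).card.choose i =
        ((powersetCard i Y).filter fun I => I ⊆ b).card := by
      intro b _
      rw [← card_powersetCard]
      congr 1
      ext I
      simp only [mem_powersetCard, mem_filter, subset_inter_iff]
      tauto
    rw [sum_congr rfl h1]
    simp only [card_filter]
    rw [sum_comm, sum_congr rfl (g := fun _ => lam), sum_const, card_powersetCard, hY, smul_eq_mul]
    intro I hI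
    rw [← card_filter]
    exact h I (mem_powersetCard.1 hI).2
  have e0 := hdc 0 759 fun I hI => by
    have := hlam I (by omega); rw [hI] at this; norm_num [Nat.choose] at this ⊢; omega
  have e1 := hdc 1 253 fun I hI => by
    have := hlam I (by omega); rw [hI] at this; norm_num [Nat.choose] at this ⊢; omega
  have e2 := hdc 2 77 fun I hI => by
    have := hlam I (by omega); rw [hI] at this; norm_num [Nat.choose] at this ⊢; omega
  have e3 := hdc 3 21 fun I hI => by
    have := hlam I (by omega); rw [hI] at this; norm_num [Nat.choose] at this ⊢; omega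
  have hfib : ∀ i, ∑ b ∈ T, (b ∩ Y).card.choose i =
      ∑ k ∈ range 4, (T.filter fun b => (b ∩ Y).card = k).card * k.choose i := by
    intro i
    rw [← sum_fiberwise_of_maps_to (t := range 4) (g := fun b => (b ∩ Y).card) (fun b _ => by
      rw [mem_range]
      have := card_le_card (inter_subset_right (s₁ := b) (s₂ := Y))
      omega)]
    refine sum_congr rfl fun k _ => ?_
    rw [← smul_eq_mul, ← sum_const]
    exact sum_congr rfl fun b hb => by rw [(mem_filter.1 hb).2]
  rw [hfib] at e0 e1 e2 e3
  rw [hset, hset, hset, hset]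
  generalize hN : (fun k => (T.filter fun b => (b ∩ Y).card = k).card) = N
  simp only [fun k => show (T.filter fun b => (b ∩ Y).card = k).card = N k from congrFun hN k]
    at e0 e1 e2 e3 ⊢
  norm_num [sum_range_succ, Nat.choose] at e0 e1 e2 e3
  omega

end Cfsg.Agent.S5625
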