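import Cfsg.Statements.S5628
import Cfsg.Agent.H95.Plane21Ovals

set_option autoImplicit false
open Cfsg

namespace Cfsg.Agent.S5628

open Cfsg.Agent.H95.Plane21
open scoped Pointwise

/-- In a projective plane of order 4 (a Steiner system S(2, 5, 21)), every permutation of the six points of a hyperoval (a 6-set met by no line in more than two points) is the restriction of exactly one automorphism of the plane. In particular the stabiliser of a hyperoval in the automorphism group is isomorphic to the symmetric group of degree 6 acting faithfully on the hyperoval. -/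
theorem result {α : Type*} [Fintype α] [DecidableEq α] (hα : Fintype.card α = 21) (L : Set (Finset α)) (hL : Cfsg.IsSteinerSystem 2 5 L) (H : Finset α) (hH : (H.card = 6 ∧ ∀ l ∈ L, (l ∩ H).card ≤ 2)) (σ : Equiv.Perm ↥H) : ∃! g : Equiv.Perm α, g ∈ Cfsg.setSystemAut L ∧ ∀ p : ↥H, g p = σ p := by
  set f : Fin 6 ≃ H := (H.equivFinOfCardEq hH.1).symm with hf
  obtain ⟨O, hO⟩ := exists_label hH.2 f
  obtain ⟨O', hO'⟩ := exists_label hH.2 (f.trans σ)
  obtain ⟨e, he, hpt⟩ := exists_iso hL hα O hL hα O'
  have hmem : ∀ g : Equiv.Perm α, g ∈ Cfsg.setSystemAut L ↔ (fun b => b.image g) '' L = L := by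
    intro g
    rw [MulAction.mem_stabilizer_iff]
    exact Iff.rfl
  have he' : ∀ p : ↥H, e p = σ p := fun p => by
    obtain ⟨i, rfl⟩ := f.surjective p
    rw [← hO i, hpt i, hO' i]
    rfl
  refine ⟨e, ⟨(hmem e).2 he, he'⟩, ?_⟩
  rintro g ⟨hg, hgp⟩
  rw [hmem] at hg
  have hesymm : ∀ l ∈ L, l.image e.symm ∈ L := by
    intro l hl
    rw [← he] at hl
    obtain ⟨l', hl', rfl⟩ := hl
    convert hl'
    ext x
    simp
  have hfwd : ∀ l ∈ L, l.image (g.trans e.symm) ∈ L := fun l hl => by
    rw [Equiv.coe_trans, ← Finset.image_image]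
    exact hesymm _ (hg ▸ ⟨l, hl, rfl⟩)
  have hfix : ∀ i, g.trans e.symm (O.pt i) = O.pt i := fun i => by
    rw [Equiv.trans_apply, hO i, hgp (f i), ← he' (f i), Equiv.symm_apply_apply]
  refine Equiv.ext fun p => ?_
  have := aut_ext hL hα O hfwd hfix p
  rwa [Equiv.trans_apply, Equiv.symm_apply_eq] at this

end Cfsg.Agent.S5628
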