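import Cfsg.Statements.S5630
import Cfsg.Agent.Aschbacher.Linear

set_option autoImplicit false
open Cfsg

namespace Cfsg.Agent.S5630

theorem result {F : Type*} [Field F] [Fintype F] (n : ℕ) (hn : 3 ≤ n) (H : Subgroup (Matrix.GeneralLinearGroup (Fin n) F)) (hH : H ≤ Cfsg.Geo.specialLinear (Fin n) F) (hproper : H ⊔ (Cfsg.Geo.scalars (Fin n) F ⊓ Cfsg.Geo.specialLinear (Fin n) F) ≠ Cfsg.Geo.specialLinear (Fin n) F) : (∃ M : Subgroup (Matrix.GeneralLinearGroup (Fin n) F), Cfsg.Geo.InLinearClass n F M ∧ H ≤ M) ∨ Cfsg.Geo.InLinearResidualClass H := by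
  cases Cfsg.Agent.Aschbacher.linear_aschbacher H (by simpa using hn) with
  | reducible W h1 h2 h => exact Or.inl ⟨_, Or.inl ⟨W, h1, h2, rfl⟩, h⟩
  | decomp t m D hD _ h => exact Or.inl ⟨_, Or.inr <| Or.inr <| Or.inr <| Or.inl ⟨t, m, D, hD, rfl⟩, h⟩
  | field r K hr _ hK h =>
      exact Or.inl ⟨_, Or.inr <| Or.inr <| Or.inr <| Or.inr <| Or.inl ⟨r, K, hr, hK, rfl⟩, h⟩
  | tensor n₁ n₂ e P h1 h2 h =>
      exact Or.inl ⟨_, Or.inr <| Or.inr <| Or.inr <| Or.inr <| Or.inr <| Or.inl ⟨n₁, n₂, e, P, h1, h2, rfl⟩, h⟩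
  | subfld F₀ r P hr hF h =>
      exact Or.inl ⟨_, Or.inr <| Or.inr <| Or.inr <| Or.inr <| Or.inr <| Or.inr <| Or.inl ⟨F₀, r, P, hr, hF, rfl⟩, h⟩
  | symp r m R _ _ hR _ h =>
      exact Or.inl ⟨_, Or.inr <| Or.inr <| Or.inr <| Or.inr <| Or.inr <| Or.inr <| Or.inr <| Or.inl ⟨r, R, hR, rfl⟩, h⟩
  | wreath m t e P h1 h2 _ h =>
      exact Or.inl ⟨_, Or.inr <| Or.inr <| Or.inr <| Or.inr <| Or.inr <| Or.inr <| Or.inr <| Or.inr <| Or.inl ⟨m, t, e, P, h1, h2, rfl⟩, h⟩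
  | sympForm f hf hev h =>
      have hev' : Even n := by simpa using hev
      exact Or.inl ⟨_, Or.inr <| Or.inr <| Or.inr <| Or.inr <| Or.inr <| Or.inr <| Or.inr <| Or.inr <| Or.inr <| Or.inl ⟨f, hf, hev', by obtain ⟨k, rfl⟩ := hev'; omega, rfl⟩, h⟩
  | unitForm σ f hf h =>
      exact Or.inl ⟨_, Or.inr <| Or.inr <| Or.inr <| Or.inr <| Or.inr <| Or.inr <| Or.inr <| Or.inr <| Or.inr <| Or.inr <| Or.inl ⟨σ, f, hf, hn, rfl⟩, h⟩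
  | quadForm Q hQ hodd h =>
      exact Or.inl ⟨_, Or.inr <| Or.inr <| Or.inr <| Or.inr <| Or.inr <| Or.inr <| Or.inr <| Or.inr <| Or.inr <| Or.inr <| Or.inr ⟨Q, hQ, hodd, hn, rfl⟩, h⟩
  | residual h => exact Or.inr h

end Cfsg.Agent.S5630
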