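import Cfsg.Statements.S5632
import Cfsg.Agent.H95.SubspaceStab

set_option autoImplicit false
open Cfsg

namespace Cfsg.Agent.S5632

open scoped MatrixGroups Matrix
open Matrix Cfsg.Agent.H95

/-- For a finite field F and subspaces 0 < W < U of F^n with dim W + dim U = n, the elements of SL_n(F) stabilising both W and U form a subgroup that is not maximal in SL_n(F): some subgroup lies strictly between it and SL_n(F). -/
theorem result {F : Type*} [Field F] [Fintype F] (n : ℕ) (W U : Submodule F (Fin n → F)) (hW0 : W ≠ ⊥) (hWU : W < U) (hdim : Module.finrank F W + Module.finrank F U = n) : ∃ K : Subgroup (Matrix.GeneralLinearGroup (Fin n) F), Cfsg.Geo.subspaceStabilizer W ⊓ Cfsg.Geo.subspaceStabilizer U ⊓ Cfsg.Geo.specialLinear (Fin n) F < K ∧ K < Cfsg.Geo.specialLinear (Fin n) F := by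
  refine ⟨Geo.subspaceStabilizer W ⊓ Geo.specialLinear (Fin n) F, ?_, ?_⟩
  · -- a transvection fixing W that moves U
    obtain ⟨u, huU, huW⟩ := SetLike.exists_of_lt hWU
    have hUtop : U ≠ ⊤ := by
      rintro rfl
      rw [finrank_top, Module.finrank_fin_fun] at hdim
      have := Submodule.one_le_finrank_iff.2 hW0
      omega
    obtain ⟨a, -, ha⟩ := SetLike.exists_of_lt (lt_top_iff_ne_top.2 hUtop)
    have haW : a ∉ W := fun h => ha (hWU.le h)
    obtain ⟨φ, hφu, hφ⟩ := exists_covec (W ⊔ Submodule.span F {a}) (v := u) (by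
      rw [Submodule.mem_sup]
      rintro ⟨w, hw, z, hz, rfl⟩
      obtain ⟨c, rfl⟩ := Submodule.mem_span_singleton.1 hz
      rcases eq_or_ne c 0 with rfl | hc
      · simp only [zero_smul, add_zero] at huW
        exact huW hw
      · apply ha
        have h2 := U.smul_mem c⁻¹ (U.sub_mem huU (hWU.le hw))
        rwa [add_sub_cancel_left, smul_smul, inv_mul_cancel₀ hc, one_smul] at h2)
    have h0 : φ ⬝ᵥ a = 0 := hφ a (Submodule.mem_sup_right (Submodule.mem_span_singleton_self a))
    refine lt_of_le_of_ne (le_inf (inf_le_left.trans inf_le_left) inf_le_right) fun hEq => ?_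
    have h : tv a φ h0 ∈ Geo.subspaceStabilizer W ⊓ Geo.subspaceStabilizer U ⊓
        Geo.specialLinear (Fin n) F := hEq.symm ▸
      ⟨tv_mem_stab_right h0 fun w hw => hφ w (Submodule.mem_sup_left hw),
        tv_mem_specialLinear a φ h0⟩
    have h1 := (mem_subspaceStabilizer.1 h.1.2 u).1 huU
    rw [tv_mulVec, hφu, one_smul] at h1
    exact ha (by simpa using U.sub_mem h1 huU)
  · obtain ⟨w, hw, hw0⟩ := W.ne_bot_iff.1 hW0
    obtain ⟨a, -, ha⟩ := SetLike.exists_of_lt (lt_of_lt_of_le hWU le_top)
    obtain ⟨φ, hφw, hφ⟩ := exists_covec (Submodule.span F {a}) (v := w) (by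
      rw [Submodule.mem_span_singleton]
      rintro ⟨c, rfl⟩
      exact ha (by
        rcases eq_or_ne c 0 with rfl | hc
        · simp at hw0
        · simpa [smul_smul, inv_mul_cancel₀ hc] using W.smul_mem c⁻¹ hw))
    have h0 : φ ⬝ᵥ a = 0 := hφ a (Submodule.mem_span_singleton_self a)
    refine lt_of_le_of_ne inf_le_right fun hEq => ?_
    have h : tv a φ h0 ∈ Geo.subspaceStabilizer W ⊓ Geo.specialLinear (Fin n) F :=
      hEq.symm ▸ tv_mem_specialLinear a φ h0
    have h1 := (mem_subspaceStabilizer.1 h.1 w).1 hw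
    rw [tv_mulVec, hφw, one_smul] at h1
    exact ha (by simpa using W.sub_mem h1 hw)

end Cfsg.Agent.S5632
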