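import Cfsg.Statements.S5633
import Cfsg.Agent.H95.SubspaceStab

set_option autoImplicit false
open Cfsg

namespace Cfsg.Agent.S5633

open scoped MatrixGroups Matrix
open Matrix Cfsg.Agent.H95

/-- For a finite field F and complementary non-zero subspaces W ⊕ U = F^n with dim W < dim U, the elements of SL_n(F) stabilising both W and U form a subgroup that is not maximal in SL_n(F): some subgroup lies strictly between it and SL_n(F). -/
theorem result {F : Type*} [Field F] [Fintype F] (n : ℕ) (W U : Submodule F (Fin n → F)) (hW0 : W ≠ ⊥) (hWU : W ⊓ U = ⊥) (hWU' : W ⊔ U = ⊤) (hdim : Module.finrank F W < Module.finrank F U) : ∃ K : Subgroup (Matrix.GeneralLinearGroup (Fin n) F), Cfsg.Geo.subspaceStabilizer W ⊓ Cfsg.Geo.subspaceStabilizer U ⊓ Cfsg.Geo.specialLinear (Fin n) F < K ∧ K < Cfsg.Geo.specialLinear (Fin n) F := by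
  refine ⟨Geo.subspaceStabilizer W ⊓ Geo.specialLinear (Fin n) F, ?_, ?_⟩
  · obtain ⟨a, haW, ha0⟩ := W.ne_bot_iff.1 hW0
    have hU0 : U ≠ ⊥ := by
      rintro rfl
      simp at hdim
    obtain ⟨u, huU, hu0⟩ := U.ne_bot_iff.1 hU0
    obtain ⟨φ, hφu, hφ⟩ := exists_covec W (v := u) fun h => hu0 (by
      have : u ∈ W ⊓ U := ⟨h, huU⟩
      rwa [hWU, Submodule.mem_bot] at this)
    have h0 : φ ⬝ᵥ a = 0 := hφ a haW
    refine lt_of_le_of_ne (le_inf (inf_le_left.trans inf_le_left) inf_le_right) fun hEq => ?_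
    have h : tv a φ h0 ∈ Geo.subspaceStabilizer W ⊓ Geo.subspaceStabilizer U ⊓
        Geo.specialLinear (Fin n) F :=
      hEq.symm ▸ ⟨tv_mem_stab_left h0 haW, tv_mem_specialLinear a φ h0⟩
    have h1 := (mem_subspaceStabilizer.1 h.1.2 u).1 huU
    rw [tv_mulVec, hφu, one_smul] at h1
    have h2 : a ∈ W ⊓ U := ⟨haW, by simpa using U.sub_mem h1 huU⟩
    rw [hWU, Submodule.mem_bot] at h2
    exact ha0 h2
  · obtain ⟨w, hw, hw0⟩ := W.ne_bot_iff.1 hW0
    have hU0 : U ≠ ⊥ := by
      rintro rfl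
      simp at hdim
    obtain ⟨a, haU, ha0⟩ := U.ne_bot_iff.1 hU0
    have ha : a ∉ W := fun h => ha0 (by
      have : a ∈ W ⊓ U := ⟨h, haU⟩
      rwa [hWU, Submodule.mem_bot] at this)
    obtain ⟨φ, hφw, hφ⟩ := exists_covec (Submodule.span F {a}) (v := w) (by
      rw [Submodule.mem_span_singleton]
      rintro ⟨c, rfl⟩
      exact ha (by
        rcases eq_or_ne c 0 with rfl | hc
        · simp at hw0
        · simpa [smul_smul, inv_mul_cancel₀ hc] using W.smul_mem c⁻¹ hw))
    have h0 : φ ⬝ᵥ a = 0 := hφ a (Submodule.mem_span_singleton_self a)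
    refine lt_of_le_of_ne inf_le_right fun hEq => ?_
    have h : tv a φ h0 ∈ Geo.subspaceStabilizer W ⊓ Geo.specialLinear (Fin n) F :=
      hEq.symm ▸ tv_mem_specialLinear a φ h0
    have h1 := (mem_subspaceStabilizer.1 h.1 w).1 hw
    rw [tv_mulVec, hφw, one_smul] at h1
    exact ha (by simpa using W.sub_mem h1 hw)

end Cfsg.Agent.S5633
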