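import Cfsg.Statements.S5635
import Cfsg.Agent.H95.BlockCount

set_option autoImplicit false
open Cfsg

namespace Cfsg.Agent.S5635

open scoped MatrixGroups Matrix
open Matrix Cfsg.Agent.H95

lemma nz_one {ι : Type} [Fintype ι] [DecidableEq ι] {F : Type*} [Field F] [Fintype F]
    {t : ℕ} {D : Fin t → Submodule F (ι → F)} (hD : Geo.IsMDecomposition 1 D) (x : ι → F) :
    (nzCount hD x : F) = ∑ i, crd hD x ⟨i, 0⟩ ^ (Fintype.card F - 1) := by
  classical
  rw [nzCount, Finset.card_filter, Nat.cast_sum]
  refine Finset.sum_congr (by convert rfl) fun i _ => ?_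
  by_cases h : crd hD x ⟨i, 0⟩ = 0
  · rw [if_neg, Nat.cast_zero, h, zero_pow]
    · have := Fintype.one_lt_card (α := F); omega
    · rintro ⟨j, hj⟩; rw [Subsingleton.elim j 0] at hj; exact hj h
  · rw [if_pos ⟨0, h⟩, Nat.cast_one, FiniteField.pow_card_sub_one_eq_one _ h]

lemma nz_two {ι : Type} [Fintype ι] [DecidableEq ι] {F : Type*} [Field F] [Fintype F]
    (hq : Fintype.card F = 2) {t : ℕ} {D : Fin t → Submodule F (ι → F)}
    (hD : Geo.IsMDecomposition 2 D) (x : ι → F) :
    (nzCount hD x : F) = ∑ i, (crd hD x ⟨i, 0⟩ + crd hD x ⟨i, 1⟩ +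
      crd hD x ⟨i, 0⟩ * crd hD x ⟨i, 1⟩) := by
  classical
  have h1 : ∀ c : F, c ≠ 0 → c = 1 := fun c hc => by
    simpa [hq] using FiniteField.pow_card_sub_one_eq_one c hc
  have h2 : (2 : F) = 0 := by
    have := FiniteField.cast_card_eq_zero F
    rwa [hq, Nat.cast_ofNat] at this
  rw [nzCount, Finset.card_filter, Nat.cast_sum]
  refine Finset.sum_congr (by convert rfl) fun i _ => ?_
  simp only [Fin.exists_fin_two]
  by_cases ha : crd hD x ⟨i, 0⟩ = 0 <;> by_cases hb : crd hD x ⟨i, 1⟩ = 0
  · simp [ha, hb]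
  · simp [ha, h1 _ hb]
  · simp [hb, h1 _ ha]
  · simp only [h1 _ ha, h1 _ hb, ne_eq, one_ne_zero, not_false_eq_true, or_self, if_true,
      Nat.cast_one, mul_one]
    linear_combination -h2

/-- For a finite field F with q elements and n ≥ 13, let D be a decomposition of F^n into t ≥ 2 independent subspaces of equal dimension m spanning F^n, where m = 1 and q ≤ 4, or m = 2 and q = 2. Then the elements of SL_n(F) permuting the members of D form a subgroup that is not maximal: some subgroup lies strictly between it and SL_n(F). -/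
theorem result {F : Type*} [Field F] [Fintype F] (n : ℕ) (hn : 13 ≤ n) {t : ℕ} (m : ℕ) (D : Fin t → Submodule F (Fin n → F)) (hD : Cfsg.Geo.IsMDecomposition m D) (h : (m = 1 ∧ Fintype.card F ≤ 4) ∨ (m = 2 ∧ Fintype.card F = 2)) : ∃ K : Subgroup (Matrix.GeneralLinearGroup (Fin n) F), Cfsg.Geo.decompositionStabilizer D ⊓ Cfsg.Geo.specialLinear (Fin n) F < K ∧ K < Cfsg.Geo.specialLinear (Fin n) F := by
  classical
  have ht4 : 4 ≤ t := by
    have hcard := Module.finrank_eq_card_basis (blockBasis D hD)
    rw [Module.finrank_fin_fun, Fintype.card_sigma, Finset.sum_const, Finset.card_univ,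
      Fintype.card_fin, Fintype.card_fin, smul_eq_mul] at hcard
    rcases h with ⟨rfl, -⟩ | ⟨rfl, -⟩ <;> omega
  obtain ⟨s, rfl⟩ : ∃ s, t = 4 + s := ⟨t - 4, by omega⟩
  set B := blockBasis D hD with hB
  set SL := Geo.specialLinear (Fin n) F with hSL
  set K := fixFun (fun x : Fin n → F => (nzCount hD x : F)) ⊓ SL with hK
  have hSK : Geo.decompositionStabilizer D ⊓ SL ≤ K := by
    rintro g ⟨hg, hg'⟩
    obtain ⟨σ, hσ⟩ := mem_decompositionStabilizer_iff hg
    exact ⟨fun x => by simp only [nzCount_mulVec hD hσ x], hg'⟩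
  have hne : ∀ a b : Fin 4, a ≠ b → Fin.castAdd s a ≠ Fin.castAdd s b := fun a b hab e =>
    hab (Fin.castAdd_injective _ _ e)
  have hnat : ∀ (a : Fin 4) (b : Fin s), Fin.castAdd s a ≠ Fin.natAdd 4 b := fun a b e => by
    have := congrArg Fin.val e
    simp at this
    omega
  have hm0 : 0 < m := hD.pos
  refine ⟨K, lt_of_le_of_ne hSK ?_, lt_of_le_of_ne inf_le_right ?_⟩
  · intro hEq
    suffices ∃ g ∈ K, g ∉ Geo.decompositionStabilizer D by
      obtain ⟨g, h1, h2⟩ := this
      exact h2 (hEq.symm ▸ h1 : g ∈ Geo.decompositionStabilizer D ⊓ SL).1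
    rcases h with ⟨rfl, hq⟩ | ⟨rfl, hq⟩
    · -- one-dimensional members
      have hq2 : Fintype.card F = 2 ∨ Fintype.card F = 3 ∨ Fintype.card F = 4 := by
        have := Fintype.one_lt_card (α := F)
        omega
      set e : Fin 4 → (Fin n → F) := fun k => B ⟨Fin.castAdd s k, 0⟩ with he
      set d : Fin 4 → (Fin n → F) := fun k => crdVec hD ⟨Fin.castAdd s k, 0⟩ with hd
      have hde : ∀ j k, d j ⬝ᵥ e k = if k = j then 1 else 0 := fun j k => by
        rw [hd, he, crdVec_dot, crd_basis]
        rcases eq_or_ne k j with rfl | hjk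
        · simp
        · rw [if_neg hjk, if_neg]
          simp [hjk]
      have he4 : ∀ k b, crd hD (e k) ⟨Fin.natAdd 4 b, 0⟩ = 0 := fun k b => by
        rw [he, crd_basis, if_neg]
        simp [hnat]
      have hek : ∀ k j, crd hD (e k) ⟨Fin.castAdd s j, 0⟩ = if k = j then 1 else 0 := fun k j => by
        rw [← crdVec_dot]
        exact hde j k
      by_cases hq3 : Fintype.card F = 3
      · have h3 : (3 : F) = 0 := by
          have := FiniteField.cast_card_eq_zero F
          rwa [hq3, Nat.cast_ofNat] at this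
        have p1 : (d 0 + d 1 + d 2) ⬝ᵥ e 3 = 0 := by simp [add_dotProduct, hde]
        have p2 : -(d 0 + d 1 + d 2 + d 3) ⬝ᵥ (e 0 + e 1 + e 2) = 0 := by
          simp [add_dotProduct, dotProduct_add, hde]
          linear_combination -h3
        set g := tv (e 0 + e 1 + e 2) _ p2 * tv (e 3) _ p1 with hg
        have hgx : ∀ x p, crd hD ((g : Matrix (Fin n) (Fin n) F) *ᵥ x) p =
            crd hD x p + (d 0 ⬝ᵥ x + d 1 ⬝ᵥ x + d 2 ⬝ᵥ x) * crd hD (e 3) p +
            -(2 * (d 0 ⬝ᵥ x + d 1 ⬝ᵥ x + d 2 ⬝ᵥ x) + d 3 ⬝ᵥ x) *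
              (crd hD (e 0) p + crd hD (e 1) p + crd hD (e 2) p) := by
          intro x p
          rw [hg, mul_mulVec, tv_mulVec, tv_mulVec]
          simp only [crd_add, crd_smul, neg_dotProduct, add_dotProduct, dotProduct_add,
            dotProduct_smul, smul_eq_mul, hde]
          simp only [Fin.isValue, Fin.reduceEq, ↓reduceIte]
          ring
        refine ⟨g, ⟨fun x => ?_, Subgroup.mul_mem _ (tv_mem_specialLinear _ _ _)
          (tv_mem_specialLinear _ _ _)⟩, not_mem_decompositionStabilizer hD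
          (x := e 0) (a := Fin.castAdd s 1) (b := Fin.castAdd s 2) (ja := 0) (jb := 0)
          (blockBasis_mem hD _) (hne 1 2 (by decide)) ?_ ?_⟩
        · simp only [nz_one, hq3, hgx, Fin.sum_univ_add, Fin.sum_univ_four, he4, hek]
          simp only [Fin.isValue, Fin.reduceEq, ↓reduceIte, mul_zero, add_zero]
          simp only [hd, crdVec_dot]
          set c0 := crd hD x ⟨Fin.castAdd s 0, 0⟩
          set c1 := crd hD x ⟨Fin.castAdd s 1, 0⟩
          set c2 := crd hD x ⟨Fin.castAdd s 2, 0⟩
          set c3 := crd hD x ⟨Fin.castAdd s 3, 0⟩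
          linear_combination ((2 * (c0 + c1 + c2) + c3) ^ 2 - (c0 + c1 + c2) ^ 2) * h3
        · rw [hgx, hek, hek, hek, hek, hde, hde, hde, hde]
          simp only [Fin.isValue, Fin.reduceEq, ↓reduceIte, ne_eq]
          intro h0
          exact one_ne_zero (α := F) (by linear_combination h0 + h3)
        · rw [hgx, hek, hek, hek, hek, hde, hde, hde, hde]
          simp only [Fin.isValue, Fin.reduceEq, ↓reduceIte, ne_eq]
          intro h0
          exact one_ne_zero (α := F) (by linear_combination h0 + h3)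
      · have h2 : (2 : F) = 0 := by
          have hc := FiniteField.cast_card_eq_zero F
          rcases hq2 with h | h | h
          · rwa [h, Nat.cast_ofNat] at hc
          · exact absurd h hq3
          · rw [h] at hc
            norm_num at hc
            have : (2 : F) ^ 2 = 0 := by linear_combination hc
            exact pow_eq_zero_iff two_ne_zero |>.1 this
        have p1 : (d 0 + d 1 + d 2 + d 3) ⬝ᵥ (e 0 + e 1 + e 2 + e 3) = 0 := by
          simp [add_dotProduct, dotProduct_add, hde]
          linear_combination 2 * h2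
        set g := tv _ _ p1 with hg
        have hgx : ∀ x p, crd hD ((g : Matrix (Fin n) (Fin n) F) *ᵥ x) p = crd hD x p +
            (d 0 ⬝ᵥ x + d 1 ⬝ᵥ x + d 2 ⬝ᵥ x + d 3 ⬝ᵥ x) *
              (crd hD (e 0) p + crd hD (e 1) p + crd hD (e 2) p + crd hD (e 3) p) := by
          intro x p
          rw [hg, tv_mulVec]
          simp only [crd_add, crd_smul, add_dotProduct]
        refine ⟨g, ⟨fun x => ?_, tv_mem_specialLinear _ _ _⟩, not_mem_decompositionStabilizer hD
          (x := e 0) (a := Fin.castAdd s 1) (b := Fin.castAdd s 2) (ja := 0) (jb := 0)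
          (blockBasis_mem hD _) (hne 1 2 (by decide)) ?_ ?_⟩
        · simp only [nz_one, hgx, Fin.sum_univ_add, Fin.sum_univ_four, he4, hek]
          simp only [Fin.isValue, Fin.reduceEq, ↓reduceIte, mul_zero, add_zero, zero_add]
          simp only [hd, crdVec_dot]
          set c0 := crd hD x ⟨Fin.castAdd s 0, 0⟩
          set c1 := crd hD x ⟨Fin.castAdd s 1, 0⟩
          set c2 := crd hD x ⟨Fin.castAdd s 2, 0⟩
          set c3 := crd hD x ⟨Fin.castAdd s 3, 0⟩
          rcases hq2 with h | h | h
          · rw [h]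
            linear_combination 2 * (c0 + c1 + c2 + c3) * h2
          · exact absurd h hq3
          · rw [h]
            linear_combination (5 * (c0 + c1 + c2 + c3) ^ 3 - 3 * (c0 + c1 + c2 + c3) *
              (c0 * c1 + c0 * c2 + c0 * c3 + c1 * c2 + c1 * c3 + c2 * c3)) * h2
        · rw [hgx, hek, hek, hek, hek, hde, hde, hde, hde]
          simp
        · rw [hgx, hek, hek, hek, hek, hde, hde, hde, hde]
          simp
    · -- two-dimensional members over the field of two elements
      have h2 : (2 : F) = 0 := by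
        have := FiniteField.cast_card_eq_zero F
        rwa [hq, Nat.cast_ofNat] at this
      have hsq : ∀ c : F, c ^ 2 = c := fun c => by
        simpa [hq] using FiniteField.pow_card c
      set e : Fin 4 → Fin 2 → (Fin n → F) := fun k i => B ⟨Fin.castAdd s k, i⟩ with he
      set d : Fin 4 → Fin 2 → (Fin n → F) := fun k i => crdVec hD ⟨Fin.castAdd s k, i⟩ with hd
      have he4 : ∀ k i b j, crd hD (e k i) ⟨Fin.natAdd 4 b, j⟩ = 0 := fun k i b j => by
        rw [he, crd_basis, if_neg]
        simp [hnat]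
      have hek : ∀ k i j l, crd hD (e k i) ⟨Fin.castAdd s j, l⟩ =
          if k = j ∧ i = l then 1 else 0 := fun k i j l => by
        rw [he, crd_basis]
        rcases eq_or_ne k j with rfl | hjk
        · rcases eq_or_ne i l with rfl | hil
          · simp
          · rw [if_neg, if_neg] <;> simp [hil]
        · rw [if_neg, if_neg] <;> simp [hjk]
      have hde : ∀ j l k i, d j l ⬝ᵥ e k i = if k = j ∧ i = l then 1 else 0 := fun j l k i => by
        rw [hd, crdVec_dot]
        exact hek k i j l
      have p1 : (d 0 1 + d 1 1 + d 2 1) ⬝ᵥ (e 0 0 + e 1 0 + e 2 0) = 0 := by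
        simp [add_dotProduct, dotProduct_add, hde]
      set g := tv _ _ p1 with hg
      have hgx : ∀ x p, crd hD ((g : Matrix (Fin n) (Fin n) F) *ᵥ x) p = crd hD x p +
          (d 0 1 ⬝ᵥ x + d 1 1 ⬝ᵥ x + d 2 1 ⬝ᵥ x) *
            (crd hD (e 0 0) p + crd hD (e 1 0) p + crd hD (e 2 0) p) := by
        intro x p
        rw [hg, tv_mulVec]
        simp only [crd_add, crd_smul, add_dotProduct]
      refine ⟨g, ⟨fun x => ?_, tv_mem_specialLinear _ _ _⟩, not_mem_decompositionStabilizer hD
        (x := e 0 1) (a := Fin.castAdd s 1) (b := Fin.castAdd s 2) (ja := 0) (jb := 0)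
        (blockBasis_mem hD _) (hne 1 2 (by decide)) ?_ ?_⟩
      · simp only [nz_two hq, hgx, Fin.sum_univ_add, Fin.sum_univ_four, he4, hek]
        simp only [Fin.isValue, Fin.reduceEq, ↓reduceIte, mul_zero, add_zero, zero_add, and_true,
          and_false, false_and, and_self]
        simp only [hd, crdVec_dot]
        set b0 := crd hD x ⟨Fin.castAdd s 0, 1⟩
        set b1 := crd hD x ⟨Fin.castAdd s 1, 1⟩
        set b2 := crd hD x ⟨Fin.castAdd s 2, 1⟩
        linear_combination 2 * (b0 + b1 + b2) * h2 + hsq (b0 + b1 + b2)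
      · simp [hgx, hek, hde]
      · simp [hgx, hek, hde]
  · intro hEq
    set p : Σ _i : Fin (4 + s), Fin m := ⟨Fin.castAdd s 0, ⟨0, hm0⟩⟩ with hp
    set p' : Σ _i : Fin (4 + s), Fin m := ⟨Fin.castAdd s 1, ⟨0, hm0⟩⟩ with hp'
    have hpp : p.1 ≠ p'.1 := hne 0 1 (by decide)
    have h0 : crdVec hD p ⬝ᵥ B p' = 0 := by
      rw [crdVec_dot, crd_basis, if_neg]
      exact fun e => hpp (by rw [e])
    have hg : tv (B p') (crdVec hD p) h0 ∈ K := hEq.symm ▸ tv_mem_specialLinear _ _ _
    have h1 := hg.1 (B p)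
    simp only [tv_mulVec, crdVec_dot] at h1
    rw [crd_basis, if_pos rfl, one_smul] at h1
    have e1 : nzCount hD (B p) = 1 := by
      rw [nzCount, Finset.card_eq_one]
      refine ⟨p.1, ?_⟩
      ext i
      simp only [Finset.mem_filter, Finset.mem_univ, true_and, Finset.mem_singleton, hB, crd_basis]
      refine ⟨fun ⟨j, hj⟩ => ?_, fun hi => ⟨⟨0, hm0⟩, by rw [if_pos]; exacts [one_ne_zero, by rw [hi]]⟩⟩
      split_ifs at hj with hpj
      · rw [hpj]
      · exact absurd rfl hj
    have e2 : nzCount hD (B p + B p') = 2 := by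
      rw [nzCount, Finset.card_eq_two]
      refine ⟨p.1, p'.1, hpp, ?_⟩
      ext i
      simp only [Finset.mem_filter, Finset.mem_univ, true_and, Finset.mem_insert,
        Finset.mem_singleton, hB, crd_add, crd_basis]
      constructor
      · rintro ⟨j, hj⟩
        split_ifs at hj with h1 h2 h3
        · left; rw [h1]
        · left; rw [h1]
        · right; rw [h3]
        · exact absurd (add_zero 0) hj
      · rintro (rfl | rfl)
        · exact ⟨⟨0, hm0⟩, by rw [if_pos rfl, if_neg fun e => hpp (by rw [e])]; simp⟩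
        · exact ⟨⟨0, hm0⟩, by
            rw [if_neg (fun e => hpp (by rw [e])), if_pos rfl]; simp⟩
    rw [e1, e2] at h1
    push_cast at h1
    exact one_ne_zero (α := F) (by linear_combination h1)

end Cfsg.Agent.S5635
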