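import Cfsg.Statements.S5638
-- import your own Cfsg.Agent.* helpers here

set_option autoImplicit false
open Cfsg

namespace Cfsg.Agent.S5638

open Matrix Kronecker

variable {F : Type*} [Field F] [Fintype F]

lemma zero_or_one (hq : Fintype.card F = 2) (x : F) : x = 0 ∨ x = 1 := by
  classical
  by_contra h
  push Not at h
  have : ({0, 1, x} : Finset F).card ≤ 2 := hq ▸ Finset.card_le_univ _
  rw [Finset.card_eq_three.mpr ⟨0, 1, x, zero_ne_one, h.1.symm, h.2.symm, rfl⟩] at this
  omega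

lemma two_zero (hq : Fintype.card F = 2) : (1 : F) + 1 = 0 := by
  rcases zero_or_one hq ((1 : F) + 1) with h | h
  · exact h
  · exact absurd (add_eq_left.mp h) one_ne_zero

/-- A matrix of order three over the field with two elements. -/
def om (F : Type*) [Field F] : Matrix (Fin 2) (Fin 2) F := !![0, 1; 1, 1]

/-- Its square. -/
def om2 (F : Type*) [Field F] : Matrix (Fin 2) (Fin 2) F := !![1, 1; 1, 0]

lemma om_mul (hq : Fintype.card F = 2) : om F * om2 F = 1 ∧ om2 F * om F = 1 := by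
  have h := two_zero hq
  constructor <;>
  · ext i j; fin_cases i <;> fin_cases j <;> simp [om, om2, h]

lemma a_om (hq : Fintype.card F = 2) (a : GL (Fin 2) F) :
    (a : Matrix (Fin 2) (Fin 2) F) * om F = om F * a ∨
      (a : Matrix (Fin 2) (Fin 2) F) * om F = om2 F * a := by
  have h := two_zero hq
  have hd : (a : Matrix (Fin 2) (Fin 2) F).det ≠ 0 :=
    isUnit_iff_ne_zero.mp ((Matrix.isUnit_iff_isUnit_det _).mp a.isUnit)
  rw [Matrix.det_fin_two] at hd
  rcases zero_or_one hq ((a : Matrix (Fin 2) (Fin 2) F) 0 0) with h0 | h0 <;>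
  rcases zero_or_one hq ((a : Matrix (Fin 2) (Fin 2) F) 0 1) with h1 | h1 <;>
  rcases zero_or_one hq ((a : Matrix (Fin 2) (Fin 2) F) 1 0) with h2 | h2 <;>
  rcases zero_or_one hq ((a : Matrix (Fin 2) (Fin 2) F) 1 1) with h3 | h3 <;>
  simp only [h0, h1, h2, h3, mul_zero, mul_one, sub_self, ne_eq, not_true_eq_false] at hd <;>
  rw [Matrix.eta_fin_two (a : Matrix (Fin 2) (Fin 2) F), h0, h1, h2, h3] <;>
  simp [om, om2, h]

/-- The elements conjugating `W` to itself or to its inverse. -/
def flipGroup {G : Type*} [Group G] (W : G) : Subgroup G where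
  carrier := {g | MulAut.conj g W = W ∨ MulAut.conj g W = W⁻¹}
  one_mem' := Or.inl (by simp)
  mul_mem' {x y} hx hy := by
    simp only [Set.mem_setOf_eq, map_mul, MulAut.mul_apply] at *
    rcases hy with hy | hy <;> rcases hx with hx | hx <;>
      simp only [hy, hx, map_inv, inv_inv, true_or, or_true]
  inv_mem' {x} hx := by
    simp only [Set.mem_setOf_eq, map_inv] at *
    rcases hx with hx | hx
    · left
      conv_lhs => rw [← hx]
      simp [mul_assoc]
    · right
      have : (MulAut.conj x) W⁻¹ = W := by rw [map_inv, hx, inv_inv]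
      conv_lhs => rw [← this]
      simp [mul_assoc]

lemma key (hq : Fintype.card F = 2) (m : ℕ) (hm : 2 ≤ m) :
    ∃ K : Subgroup (GL (Fin 2 × Fin m) F), Cfsg.Geo.kroneckerSubgroup 2 m F < K ∧ K < ⊤ := by
  have h2 := two_zero hq
  let M : Type _ := Matrix (Fin 2 × Fin m) (Fin 2 × Fin m) F
  let W : GL (Fin 2 × Fin m) F :=
    ⟨om F ⊗ₖ (1 : Matrix (Fin m) (Fin m) F), om2 F ⊗ₖ (1 : Matrix (Fin m) (Fin m) F),
      by rw [← Matrix.mul_kronecker_mul, (om_mul hq).1, one_mul, Matrix.one_kronecker_one],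
      by rw [← Matrix.mul_kronecker_mul, (om_mul hq).2, one_mul, Matrix.one_kronecker_one]⟩
  have hW : (W : M) = om F ⊗ₖ (1 : Matrix (Fin m) (Fin m) F) := rfl
  have hW' : ((W⁻¹ : GL (Fin 2 × Fin m) F) : M) = om2 F ⊗ₖ (1 : Matrix (Fin m) (Fin m) F) := rfl
  have hmem : ∀ g, g ∈ flipGroup W ↔ (g : M) * W = W * g ∨ (g : M) * W = (W⁻¹ : GL _ F) * g := by
    intro g
    show (MulAut.conj g W = W ∨ MulAut.conj g W = W⁻¹) ↔ _
    simp only [MulAut.conj_apply, mul_inv_eq_iff_eq_mul, Units.ext_iff, Units.val_mul, M]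
  let i0 : Fin m := ⟨0, by omega⟩
  let i1 : Fin m := ⟨1, by omega⟩
  have h01 : i0 ≠ i1 := by simp [i0, i1]
  let N : Matrix (Fin m) (Fin m) F := Matrix.single i0 i1 1
  have hNN : N * N = 0 := Matrix.single_mul_single_of_ne _ _ _ _ h01.symm _
  have hinv : ∀ A : Matrix (Fin 2) (Fin 2) F, (1 + A ⊗ₖ N) * (1 + A ⊗ₖ N) = 1 := by
    intro A
    have hz : ∀ X : M, X + X = 0 := fun X => by
      ext i j
      show X i j + X i j = 0
      calc X i j + X i j = X i j * (1 + 1) := by ring
        _ = 0 := by rw [h2, mul_zero]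
    simp only [mul_add, add_mul, one_mul, mul_one, ← Matrix.mul_kronecker_mul, hNN,
      Matrix.kronecker_zero, add_zero]
    rw [add_assoc, hz, add_zero]
  let g (A : Matrix (Fin 2) (Fin 2) F) : GL (Fin 2 × Fin m) F :=
    ⟨1 + A ⊗ₖ N, 1 + A ⊗ₖ N, hinv A, hinv A⟩
  have hg : ∀ A, ((g A : GL (Fin 2 × Fin m) F) : M) = 1 + A ⊗ₖ N := fun A => rfl
  refine ⟨flipGroup W, ?_, ?_⟩
  · rw [SetLike.lt_iff_le_and_exists]
    refine ⟨?_, g (om F), ?_, ?_⟩
    · rintro x ⟨a, b, hx⟩
      rw [hmem, hx, hW, hW', ← Matrix.mul_kronecker_mul, ← Matrix.mul_kronecker_mul,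
        ← Matrix.mul_kronecker_mul, mul_one, one_mul]
      rcases a_om hq a with h | h
      · left; rw [h]
      · right; rw [h]
    · rw [hmem, hg, hW]
      left
      simp only [mul_add, add_mul, one_mul, mul_one, ← Matrix.mul_kronecker_mul]
    · rintro ⟨a, b, hx⟩
      rw [hg] at hx
      have e1 := congrFun (congrFun hx (0, i0)) (0, i0)
      have e2 := congrFun (congrFun hx (0, i0)) (1, i0)
      have e3 := congrFun (congrFun hx (0, i0)) (1, i1)
      simp [om, N, Matrix.kroneckerMap_apply, h01, h01.symm] at e1 e2 e3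
      rcases e2 with e2 | e2
      · rw [e2, zero_mul] at e3; exact one_ne_zero e3
      · rw [e2, mul_zero] at e1; exact one_ne_zero e1
  · rw [lt_top_iff_ne_top]
    intro htop
    have h := (hmem (g (!![1, 0; 0, 0]))).mp (htop ▸ Subgroup.mem_top _)
    rw [hg, hW, hW'] at h
    rcases h with h | h <;>
    · simp only [mul_add, add_mul, one_mul, mul_one, ← Matrix.mul_kronecker_mul] at h
      have e1 := congrFun (congrFun h (0, i0)) (1, i1)
      have e2 := congrFun (congrFun h (0, i0)) (0, i0)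
      simp [om, om2, N, Matrix.kroneckerMap_apply, h01, h01.symm] at e1 e2

/-- Over the field with 2 elements, for n = 2 n₂ ≥ 13, the stabiliser in SL_n of a tensor decomposition with factors of dimensions 2 and n₂ (the conjugate by any P of the Kronecker-product subgroup transported along any bijection Fin n ≃ Fin 2 × Fin n₂, intersected with SL_n) is not a maximal subgroup: some subgroup lies strictly between it and SL_n. -/
theorem result {F : Type*} [Field F] [Fintype F] (n : ℕ) (hn : 13 ≤ n) (hq : Fintype.card F = 2) (n₂ : ℕ) (e : Fin n ≃ Fin 2 × Fin n₂) (P : Matrix.GeneralLinearGroup (Fin n) F) : ∃ K : Subgroup (Matrix.GeneralLinearGroup (Fin n) F), Cfsg.Geo.tensorProductSubgroup 2 n₂ e P ⊓ Cfsg.Geo.specialLinear (Fin n) F < K ∧ K < Cfsg.Geo.specialLinear (Fin n) F := by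
  let Φ : GL (Fin 2 × Fin n₂) F ≃* GL (Fin n) F := (Cfsg.Geo.glReindex e.symm).trans (MulAut.conj P)
  have hT : Cfsg.Geo.tensorProductSubgroup 2 n₂ e P =
      (Cfsg.Geo.kroneckerSubgroup 2 n₂ F).map Φ.toMonoidHom := by
    rw [Cfsg.Geo.tensorProductSubgroup, Subgroup.map_map]
    rfl
  have hn2 : n = 2 * n₂ := by simpa using Fintype.card_congr e
  have hsl : Cfsg.Geo.specialLinear (Fin n) F = ⊤ := by
    refine top_le_iff.mp fun g _ => ?_
    refine MonoidHom.mem_ker.mpr (Units.ext ?_)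
    rcases zero_or_one hq ((Matrix.GeneralLinearGroup.det g : Fˣ) : F) with h | h
    · exact absurd h (Units.ne_zero _)
    · simpa using h
  obtain ⟨K, h1, h2⟩ := key hq n₂ (by omega)
  refine ⟨K.map Φ.toMonoidHom, ?_, ?_⟩
  · rw [hsl, inf_top_eq, hT]
    exact (Subgroup.map_lt_map_iff_of_injective Φ.injective).mpr h1
  · rw [hsl, ← Subgroup.map_top_of_surjective Φ.toMonoidHom Φ.surjective]
    exact (Subgroup.map_lt_map_iff_of_injective Φ.injective).mpr h2

end Cfsg.Agent.S5638
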