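import Cfsg.Statements.S5643
import Cfsg.Agent.H95.Herm

set_option autoImplicit false
open Cfsg

namespace Cfsg.Agent.S5643

open scoped MatrixGroups Matrix
open Matrix Cfsg.Agent.H95

variable {ι : Type} [Fintype ι] [DecidableEq ι] {F : Type*} [Field F]
  {σ : F ≃+* F} {f : (ι → F) → (ι → F) → F}

lemma udv_dot (hf : Geo.IsUnitaryForm σ f) (a x : ι → F) : dv f a ⬝ᵥ x = f x a := u_dot hf a x

lemma vec_ext {φ ψ : ι → F} (h : ∀ x, φ ⬝ᵥ x = ψ ⬝ᵥ x) : φ = ψ := by
  ext j
  simpa using h (Pi.single j 1)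

lemma udv_add (hf : Geo.IsUnitaryForm σ f) (a b : ι → F) : dv f (a + b) = dv f a + dv f b := by
  ext j; simp [dv, u_add_right hf]

lemma udv_smul (hf : Geo.IsUnitaryForm σ f) (c : F) (a : ι → F) :
    dv f (c • a) = σ c • dv f a := by
  ext j; simp [dv, u_smul_right hf]

lemma exists_udv [Fintype F] (hf : Geo.IsUnitaryForm σ f) (φ : ι → F) : ∃ c, dv f c = φ := by
  refine Finite.surjective_of_injective (f := dv f) (fun a b h => ?_) φ
  by_contra hne
  obtain ⟨⟨y, hy⟩, -⟩ := hf.nondegenerate _ (sub_ne_zero.2 hne)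
  apply hy
  rw [u_sub_right hf, ← udv_dot hf a y, h, udv_dot hf, sub_self]

lemma udv_vecMul (hf : Geo.IsUnitaryForm σ f) {b : ι → F} {m : F} (hm : σ m = -m)
    (h0 : (m • dv f b) ⬝ᵥ b = 0) (w : ι → F) :
    dv f w ᵥ* (((tv b (m • dv f b) h0)⁻¹ : GL ι F) : Matrix ι ι F) =
      dv f (w + (m * f w b) • b) := by
  refine vec_ext fun y => ?_
  rw [← dotProduct_mulVec]
  show dv f w ⬝ᵥ (tvMat b (-(m • dv f b)) *ᵥ y) = _
  rw [tvMat_mulVec, udv_dot hf, udv_dot hf, neg_dotProduct, smul_dotProduct, udv_dot hf,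
    u_add_left hf, u_add_right hf, u_smul_left hf, u_smul_right hf, map_mul, hm, u_conj hf,
    smul_eq_mul]
  ring

/-- The subgroup generated by the unitary transvections and one transvection outside the unitary
group contains the special linear group. -/
lemma specialLinear_le_of_not_similarity [Fintype F] (hf : Geo.IsUnitaryForm σ f)
    (hn : 7 ≤ Fintype.card ι) {M : Subgroup (GL ι F)}
    (hM : ∀ b l, f b b = 0 → σ l = -l → InTv M b (l • dv f b))
    {u x : ι → F} (hu : u ≠ 0) (hxM : InTv M u (dv f x)) (hx : ∀ t : F, x ≠ t • u) :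
    Geo.specialLinear ι F ≤ M := by
  obtain ⟨δ, hδ0, hδ⟩ := exists_skew_ne_zero hf
  have hux : f u x = 0 := by rw [← udv_dot hf]; exact hxM.1
  have hstep : ∀ w b m, InTv M u (dv f w) → f b b = 0 → f u b = 0 → σ m = -m →
      InTv M u (dv f ((m * f w b) • b)) := by
    intro w b m hw hb hub hm
    obtain ⟨h0, hT⟩ := hM b m hb hm
    have h1 := hw.conj hT
    have hTu : (tv b (m • dv f b) h0 : Matrix ι ι F) *ᵥ u = u := by
      rw [tv_mulVec, smul_dotProduct, udv_dot hf, hub]; simp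
    rw [udv_vecMul hf hm, hTu] at h1
    have hneg : InTv M u (-dv f w) :=
      ⟨by rw [neg_dotProduct, hw.1, neg_zero], by
        convert M.inv_mem hw.2 using 1
        exact Units.ext rfl⟩
    have h2 := h1.add_right hneg
    rwa [udv_add hf, add_neg_cancel_comm] at h2
  -- an isotropic vector of `W`
  obtain ⟨e₀, he₀, he₀u, he₀n⟩ := exists_isotropic hf hn u
  obtain ⟨b, hb, hbu, hxb⟩ : ∃ b, f b b = 0 ∧ f b u = 0 ∧ f x b ≠ 0 := by
    by_contra hcon
    push Not at hcon
    obtain ⟨y, hy1, hy2⟩ := exists_u_perp_one hf hx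
    let D : Submodule F (ι → F) :=
      { carrier := {d | f x d = 0}
        add_mem' := fun {p q} (hp : f x p = 0) (hq : f x q = 0) =>
          show f x (p + q) = 0 by rw [u_add_right hf, hp, hq, add_zero]
        zero_mem' := u_zero_right hf x
        smul_mem' := fun c p (hp : f x p = 0) =>
          show f x (c • p) = 0 by rw [u_smul_right hf, hp, mul_zero] }
    have h : f x y = 0 :=
      mem_of_perp hf (D := D) he₀ he₀u he₀n (fun d h1 h2 _ => hcon d h1 h2) hy1
    rw [← u_conj hf, hy2, map_one] at h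
    exact one_ne_zero h
  set e1 := (δ * f x b) • b with he1
  have hk : δ * f x b ≠ 0 := mul_ne_zero hδ0 hxb
  have hW1 : InTv M u (dv f e1) := hstep x b δ hxM hb (u_symm_zero hf hbu) hδ
  have he11 : f e1 e1 = 0 := by rw [he1, u_smul_left hf, u_smul_right hf, hb]; ring
  have he1u : f e1 u = 0 := by rw [he1, u_smul_left hf, hbu, mul_zero]
  have he1n : ∀ t : F, e1 ≠ t • u := by
    intro t ht
    have h : f x e1 = 0 := by rw [ht, u_smul_right hf, u_symm_zero hf hux, mul_zero]
    rw [he1, u_smul_right hf] at h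
    rcases mul_eq_zero.1 h with h | h
    · exact hk ((map_eq_zero_iff σ σ.injective).1 h)
    · exact hxb h
  obtain ⟨f1, hf1, hf1u, hef⟩ := exists_partner hf he11 he1u he1n
  have hfe : f f1 e1 = 1 := by rw [← u_conj hf, hef, map_one]
  obtain ⟨z, hzu, hze, hzf, hzz⟩ := exists_aniso_perp3 hf hn u e1 f1
  have hW2 : InTv M u (dv f (δ • f1)) := by
    have := hstep e1 f1 δ hW1 hf1 (u_symm_zero hf hf1u) hδ
    rwa [hef, mul_one] at this
  obtain ⟨α, hα⟩ := exists_trace_eq hf (s := -f z z) (by rw [map_neg, u_conj hf])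
  set e := α • e1 + f1 + z with he
  have hee : f e e = 0 := by
    simp only [he, u_add_left hf, u_add_right hf, u_smul_left hf, u_smul_right hf, he11, hf1, hef,
      hfe, hze, hzf, u_symm_zero hf hze, u_symm_zero hf hzf]
    linear_combination hα
  have heu : f e u = 0 := by
    rw [he, u_add_left hf, u_add_left hf, u_smul_left hf, he1u, hf1u, hzu]; ring
  have h1e : f e1 e = 1 := by
    rw [he, u_add_right hf, u_add_right hf, u_smul_right hf, he11, hef, u_symm_zero hf hze]; ring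
  have h2e : f f1 e = σ α := by
    rw [he, u_add_right hf, u_add_right hf, u_smul_right hf, hf1, hfe, u_symm_zero hf hzf]; ring
  have hen : ∀ t : F, e ≠ t • u := by
    intro t ht
    rw [ht, u_smul_right hf, he1u, mul_zero] at h1e
    exact zero_ne_one h1e
  have hindep : δ * σ (σ α) - σ δ * σ α ≠ 0 := by
    rw [u_inv hf, hδ, show δ * α - -δ * σ α = δ * (α + σ α) by ring, hα]
    exact mul_ne_zero hδ0 (neg_ne_zero.2 hzz)
  have hline : ∀ c : F, InTv M u (dv f (c • e)) := by
    intro c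
    obtain ⟨p, r, hp, hr, rfl⟩ := exists_fixed_combination hf hindep c
    have h1 := hstep e1 e (p * δ) hW1 hee (u_symm_zero hf heu)
      (by rw [map_mul, hp, hδ, mul_neg])
    have h2 := hstep (δ • f1) e (r / δ) hW2 hee (u_symm_zero hf heu)
      (by rw [map_div₀, hr, hδ, div_neg])
    rw [h1e, mul_one] at h1
    rw [u_smul_left hf, h2e, ← mul_assoc, div_mul_cancel₀ _ hδ0] at h2
    rw [add_smul, udv_add hf]
    exact h1.add_right h2
  let D : Submodule F (ι → F) :=
    { carrier := {w | ∀ c : F, InTv M u (dv f (c • w))}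
      add_mem' := fun {p q} hp hq c => by
        rw [smul_add, udv_add hf]; exact (hp c).add_right (hq c)
      zero_mem' := fun c => by
        have h : dv f (0 : ι → F) = 0 := funext fun j => u_zero_right hf _
        rw [smul_zero, h]; exact inTv_zero_right M u
      smul_mem' := fun t p hp c => by rw [smul_smul]; exact hp _ }
  have hD : ∀ d, f d d = 0 → f d u = 0 → f e d ≠ 0 → d ∈ D := by
    intro d h1 h2 h3 c
    have := hstep ((c / (δ * f e d)) • e) d δ (hline _) h1 (u_symm_zero hf h2) hδ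
    rwa [u_smul_left hf, mul_left_comm, div_mul_cancel₀ _ (mul_ne_zero hδ0 h3)] at this
  have hufan : u ∈ fan M := by
    intro φ hφ
    obtain ⟨c, rfl⟩ := exists_udv hf φ
    rw [udv_dot hf] at hφ
    simpa using mem_of_perp hf hee heu hen hD (u_symm_zero hf hφ) 1
  -- the fan is invariant, hence everything
  have hmove : ∀ v ∈ fan M, ∀ d, f d d = 0 → f v d ≠ 0 → d ∈ fan M := by
    intro v hv d hd hvd
    obtain ⟨h0, hT⟩ := hM d δ hd hδ
    have h1 := (fan M).sub_mem (mulVec_mem_fan hT hv) hv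
    rw [tv_mulVec, smul_dotProduct, udv_dot hf, smul_eq_mul, add_sub_cancel_left] at h1
    have h2 := (fan M).smul_mem (δ * f v d)⁻¹ h1
    rwa [smul_smul, inv_mul_cancel₀ (mul_ne_zero hδ0 hvd), one_smul] at h2
  obtain ⟨s₀, hs₀, -, hs₀n⟩ := exists_isotropic hf hn 0
  obtain ⟨b', hb', hub'⟩ : ∃ b', f b' b' = 0 ∧ f u b' ≠ 0 := by
    by_contra hcon
    push Not at hcon
    obtain ⟨-, y, hy⟩ := hf.nondegenerate u hu
    let E : Submodule F (ι → F) :=
      { carrier := {d | f u d = 0}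
        add_mem' := fun {p q} (hp : f u p = 0) (hq : f u q = 0) =>
          show f u (p + q) = 0 by rw [u_add_right hf, hp, hq, add_zero]
        zero_mem' := u_zero_right hf u
        smul_mem' := fun c p (hp : f u p = 0) =>
          show f u (c • p) = 0 by rw [u_smul_right hf, hp, mul_zero] }
    exact hy (mem_of_perp hf (D := E) hs₀ (u_zero_right hf _) hs₀n (fun d h1 _ _ => hcon d h1)
      (u_zero_right hf _))
  have hb'f := hmove u hufan b' hb' hub'
  have hb'0 : ∀ t : F, b' ≠ t • (0 : ι → F) := by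
    intro t ht
    apply hub'
    rw [ht, smul_zero, u_zero_right hf]
  refine specialLinear_le_of_fan (eq_top_iff.2 fun y _ => ?_)
  exact mem_of_perp hf (D := fan M) hb' (u_zero_right hf _) hb'0
    (fun d h1 _ h3 => hmove b' hb'f d h1 h3) (u_zero_right hf y)

/-- For a finite field F and n ≥ 13, let σ be a field automorphism of F of order two and f a non-degenerate unitary form on F^n with respect to σ. Then the elements of SL_n(F) that are similarities of f form a maximal subgroup of SL_n(F). -/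
theorem result {F : Type*} [Field F] [Fintype F] (n : ℕ) (hn : 13 ≤ n) (σ : F ≃+* F) (f : (Fin n → F) → (Fin n → F) → F) (hf : Cfsg.Geo.IsUnitaryForm σ f) : Cfsg.Geo.IsMaximalIn (Cfsg.Geo.specialLinear (Fin n) F) (Cfsg.Geo.similarityGroup f ⊓ Cfsg.Geo.specialLinear (Fin n) F) := by
  have hn7 : 7 ≤ Fintype.card (Fin n) := by rw [Fintype.card_fin]; omega
  set SL := Geo.specialLinear (Fin n) F with hSL
  refine ⟨lt_of_le_of_ne inf_le_right ?_, ?_⟩
  · intro hEq
    obtain ⟨a, -, -, -, ha⟩ := exists_aniso_perp3 hf hn7 0 0 0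
    obtain ⟨c, hca, -, -, hc⟩ := exists_aniso_perp3 hf hn7 a a a
    have h0 : dv f c ⬝ᵥ a = 0 := by rw [udv_dot hf, u_symm_zero hf hca]
    obtain ⟨⟨μ, hμ⟩, -⟩ : tv a (dv f c) h0 ∈ Geo.similarityGroup f ⊓ SL :=
      hEq.symm ▸ tv_mem_specialLinear a (dv f c) h0
    have e1 := hμ c a
    rw [tv_mulVec, tv_mulVec, udv_dot hf, udv_dot hf, u_symm_zero hf hca, zero_smul, add_zero,
      u_add_left hf, u_smul_left hf, hca, zero_add, mul_zero] at e1
    exact mul_ne_zero hc ha e1
  intro M hSM hMSL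
  by_cases hMS : M ≤ Geo.similarityGroup f ⊓ SL
  · exact Or.inl (le_antisymm hMS hSM)
  right
  refine le_antisymm hMSL ?_
  obtain ⟨g, hgM, hgS⟩ := SetLike.not_le_iff_exists.1 hMS
  have hM : ∀ b l, f b b = 0 → σ l = -l → InTv M b (l • dv f b) := by
    intro b l hb hl
    have h0 : (l • dv f b) ⬝ᵥ b = 0 := by rw [smul_dotProduct, udv_dot hf, hb, smul_zero]
    refine ⟨h0, hSM ⟨⟨1, fun p q => ?_⟩, tv_mem_specialLinear _ _ h0⟩⟩
    rw [tv_mulVec, tv_mulVec, smul_dotProduct, smul_dotProduct, udv_dot hf, udv_dot hf,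
      smul_eq_mul, smul_eq_mul, u_add_left hf, u_add_right hf, u_add_right hf, u_smul_left hf,
      u_smul_left hf, u_smul_right hf, u_smul_right hf, hb, map_mul, hl, u_conj hf, Units.val_one]
    ring
  by_cases hB : ∃ u x, u ≠ 0 ∧ InTv M u (dv f x) ∧ ∀ t : F, x ≠ t • u
  · obtain ⟨u, x, h1, h2, h3⟩ := hB
    exact specialLinear_le_of_not_similarity hf hn7 hM h1 h2 h3
  push Not at hB
  exfalso
  obtain ⟨δ, hδ0, hδ⟩ := exists_skew_ne_zero hf
  have key : ∀ a, f a a = 0 → a ≠ 0 → ∃ μ : F, μ ≠ 0 ∧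
      ∀ y, f y a = μ * f ((g : Matrix (Fin n) (Fin n) F) *ᵥ y) ((g : Matrix (Fin n) (Fin n) F) *ᵥ a) := by
    intro a ha ha0
    have h1 := (hM a δ ha hδ).conj hgM
    obtain ⟨c, hc⟩ := exists_udv hf
      ((δ • dv f a) ᵥ* ((g⁻¹ : GL (Fin n) F) : Matrix (Fin n) (Fin n) F))
    rw [← hc] at h1
    have hga : (g : Matrix (Fin n) (Fin n) F) *ᵥ a ≠ 0 := by
      intro h
      apply ha0
      rw [← inv_mulVec_mulVec g a, h, mulVec_zero]
    obtain ⟨t, rfl⟩ := hB _ c hga h1
    have h2 : ∀ y, f y a = σ t / δ *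
        f ((g : Matrix (Fin n) (Fin n) F) *ᵥ y) ((g : Matrix (Fin n) (Fin n) F) *ᵥ a) := by
      intro y
      rw [div_mul_eq_mul_div, eq_div_iff hδ0, ← u_smul_right hf]
      conv_rhs => rw [← udv_dot hf, hc, ← dotProduct_mulVec, inv_mulVec_mulVec, smul_dotProduct,
        udv_dot hf, smul_eq_mul]
      rw [mul_comm]
    refine ⟨σ t / δ, fun h => ?_, h2⟩
    obtain ⟨⟨y, hy⟩, -⟩ := hf.nondegenerate a ha0
    exact hy (by rw [h2 y, h, zero_mul])
  obtain ⟨e, he, -, hen⟩ := exists_isotropic hf hn7 0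
  have he0 : e ≠ 0 := by simpa using hen 0
  obtain ⟨μ, hμ0, hμ⟩ := key e he he0
  let D : Submodule F (Fin n → F) :=
    { carrier := {a | ∀ y, f y a = σ μ *
        f ((g : Matrix (Fin n) (Fin n) F) *ᵥ y) ((g : Matrix (Fin n) (Fin n) F) *ᵥ a)}
      add_mem' := fun {p q} hp hq y => by
        rw [u_add_right hf, mulVec_add, u_add_right hf, hp y, hq y, mul_add]
      zero_mem' := fun y => by rw [mulVec_zero, u_zero_right hf, u_zero_right hf, mul_zero]
      smul_mem' := fun c p hp y => by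
        rw [u_smul_right hf, mulVec_smul, u_smul_right hf, hp y, mul_left_comm] }
  have hD : ∀ d, f d d = 0 → f d 0 = 0 → f e d ≠ 0 → d ∈ D := by
    intro d hd _ hed y
    have hd0 : d ≠ 0 := fun h => hed (by rw [h, u_zero_right hf])
    obtain ⟨ν, -, hν⟩ := key d hd hd0
    suffices ν = σ μ by rw [← this]; exact hν y
    have h1 := hν e
    have h2 := congrArg σ (hμ d)
    rw [map_mul, u_conj hf, u_conj hf, h1] at h2
    refine mul_right_cancel₀ (fun h => hed ?_) h2
    rw [h1, h, mul_zero]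
  apply hgS
  refine ⟨⟨Units.mk0 (σ μ)⁻¹ (inv_ne_zero ((map_ne_zero_iff σ σ.injective).2 hμ0)), fun y a => ?_⟩,
    hMSL hgM⟩
  have ha : a ∈ D := mem_of_perp hf (D := D) he (u_zero_right hf _) hen hD (u_zero_right hf a)
  rw [Units.val_mk0, ha y, inv_mul_cancel_left₀ ((map_ne_zero_iff σ σ.injective).2 hμ0)]

end Cfsg.Agent.S5643
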