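import Cfsg.Statements.S5645
import Cfsg.Agent.Symplectic.Center
import Cfsg.Agent.H95.Symp
import Cfsg.Agent.H95.SubspaceStab

set_option autoImplicit false
open Cfsg

namespace Cfsg.Agent.S5645

open scoped MatrixGroups Matrix
open Matrix Cfsg.Agent.H95

/-- For a finite field F and m ≥ 7, in the symplectic group Sp_2m(F) of the standard alternating form on F^(2m) (as a subgroup of GL_2m(F)), the stabiliser of any non-zero subspace on which the form vanishes identically is a maximal subgroup. -/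
theorem result {F : Type*} [Field F] [Fintype F] (m : ℕ) (hm : 7 ≤ m) (W : Submodule F (Fin m ⊕ Fin m → F)) (hW0 : W ≠ ⊥) (hW : Cfsg.Geo.IsTotallySingularFor (Cfsg.sympForm m F) W) : Cfsg.Geo.IsMaximalIn (Cfsg.spGL m F) (Cfsg.Geo.subspaceStabilizer W ⊓ Cfsg.spGL m F) := by
  classical
  set f := Cfsg.sympForm m F with hfdef
  have hf : Geo.IsSymplecticForm f := isSymplecticForm_sympForm m
  set B := Cfsg.Agent.Symplectic.spB m F with hB
  set P := B.orthogonal W with hP
  have hBapp : ∀ u v, B u v = f u v := fun u v => Cfsg.Agent.Symplectic.spB_apply u v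
  have hmemP : ∀ x, x ∈ P ↔ ∀ w ∈ W, f w x = 0 := fun x =>
    forall₂_congr fun w _ => by
      show B w x = 0 ↔ _
      rw [hBapp]
  have hnd := Cfsg.Agent.Symplectic.spB_nondeg m F
  have halt := Cfsg.Agent.Symplectic.spB_alt m F
  have hWP : W ≤ P := fun w hw => (hmemP w).2 fun a ha => hW a ha w hw
  have hWeq : ∀ x, (∀ p ∈ P, f p x = 0) → x ∈ W := fun x hx =>
    (Cfsg.Agent.Symplectic.orth_le_iff_apply hnd halt W x).1 fun y hy => by rw [hBapp]; exact hx y hy
  set S := Geo.subspaceStabilizer W ⊓ Cfsg.spGL m F with hS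
  have hrootS : ∀ u ∈ P, RootIn hf S u := fun u hu l =>
    ⟨mem_stab_of_forward fun x hx => by
      rw [rt_fix hf ((hmemP u).1 hu x hx)]; exact hx, rt_mem_iso hf u l⟩
  obtain ⟨w₀, hw₀, hw₀0⟩ := W.ne_bot_iff.1 hW0
  obtain ⟨x₀, hx₀⟩ := exists_f_eq_one hf hw₀0
  have hx₀P : x₀ ∉ P := fun h => one_ne_zero (hx₀.symm.trans ((hmemP x₀).1 h w₀ hw₀))
  refine ⟨lt_of_le_of_ne inf_le_right fun hEq => ?_, ?_⟩
  · have h : rt hf x₀ 1 ∈ S := hEq.symm ▸ rt_mem_iso hf x₀ 1
    have h1 := (mem_subspaceStabilizer.1 h.1 w₀).1 hw₀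
    rw [rt_mulVec hf, one_mul, hx₀, one_smul] at h1
    exact hx₀P (hWP (by simpa using W.sub_mem h1 hw₀))
  intro M hSM hMS
  by_cases hM : M ≤ S
  · exact Or.inl (le_antisymm hM hSM)
  right
  obtain ⟨g, hgM, hgS⟩ := SetLike.not_le_iff_exists.1 hM
  have hgi : g ∈ isoGrp f := hMS hgM
  have hMP : ∀ u ∈ P, RootIn hf M u := fun u hu l => hSM (hrootS u hu l)
  obtain ⟨y, hyM, hyP⟩ : ∃ y, RootIn hf M y ∧ y ∉ P := by
    by_contra hcon
    push Not at hcon
    have him : ∀ p ∈ P, (g : Matrix (Fin m ⊕ Fin m) (Fin m ⊕ Fin m) F) *ᵥ p ∈ P := fun p hp =>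
      hcon _ ((hMP p hp).conj hf hgM hgi)
    refine hgS ⟨mem_stab_of_forward fun w hw => hWeq _ fun p hp => ?_, hgi⟩
    obtain ⟨p', hp', rfl⟩ : ∃ p' ∈ P, (g : Matrix (Fin m ⊕ Fin m) (Fin m ⊕ Fin m) F) *ᵥ p' = p := by
      let L : P →ₗ[F] P := LinearMap.restrict (Matrix.toLin' (g : Matrix (Fin m ⊕ Fin m) (Fin m ⊕ Fin m) F))
        fun x hx => by rw [Matrix.toLin'_apply]; exact him x hx
      have hinj : Function.Injective L := fun a b hab => Subtype.ext (gl_mulVec_injective g
        (by simpa [L, Subtype.ext_iff] using hab))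
      obtain ⟨⟨p', hp'⟩, h⟩ := LinearMap.injective_iff_surjective.1 hinj ⟨p, hp⟩
      exact ⟨p', hp', by simpa [L, Subtype.ext_iff] using h⟩
    rw [(mem_isoGrp.1 hgi), f_skew hf, (hmemP p').1 hp' w hw, neg_zero]
  have hall : ∀ z, z ∉ P → RootIn hf M z := by
    intro z hzP
    let φ : (Fin m ⊕ Fin m → F) → (W →ₗ[F] F) := fun x => (B.flip x).comp W.subtype
    have hφ : ∀ x, x ∉ P → φ x ≠ 0 := fun x hx h => hx ((hmemP x).2 fun w hw => by
      have := LinearMap.congr_fun h ⟨w, hw⟩
      simpa [φ, hBapp] using this)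
    -- an automorphism of `W` carrying one functional to the other
    obtain ⟨α, hα⟩ : ∃ α : W ≃ₗ[F] W, φ z ∘ₗ α.toLinearMap = φ y := by
      obtain ⟨e, he⟩ := Submodule.exists_linearEquiv_restrict_eq
        ((LinearEquiv.toSpanNonzeroSingleton F _ (φ z) (hφ z hzP)).symm.trans
          (LinearEquiv.toSpanNonzeroSingleton F _ (φ y) (hφ y hyP)))
      have hez : e (φ z) = φ y := by
        have h2 := he ⟨φ z, Submodule.mem_span_singleton_self _⟩
        have h3 : (⟨φ z, Submodule.mem_span_singleton_self _⟩ : Submodule.span F {φ z}) =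
            LinearEquiv.toSpanNonzeroSingleton F _ (φ z) (hφ z hzP) 1 := Subtype.ext (by simp)
        rw [LinearEquiv.trans_apply, h3, LinearEquiv.symm_apply_apply] at h2
        simpa using h2.symm
      refine ⟨(Module.evalEquiv F W).trans (e.dualMap.trans (Module.evalEquiv F W).symm), ?_⟩
      refine LinearMap.ext fun w => ?_
      simp [Module.apply_evalEquiv_symm_apply, hez]
    have hyW : y ∉ W := fun h => hyP (hWP h)
    have hzW : z ∉ W := fun h => hzP (hWP h)
    let bW := Module.finBasis F W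
    let a : Option (Fin (Module.finrank F W)) → (Fin m ⊕ Fin m → F) :=
      fun i => i.elim y (fun i => (bW i : Fin m ⊕ Fin m → F))
    let b : Option (Fin (Module.finrank F W)) → (Fin m ⊕ Fin m → F) :=
      fun i => i.elim z (fun i => (α (bW i) : Fin m ⊕ Fin m → F))
    have hli : ∀ (c : Fin (Module.finrank F W) → W), LinearIndependent F c →
        ∀ v, v ∉ W → LinearIndependent F (fun i : Option (Fin (Module.finrank F W)) =>
          i.elim v (fun i => (c i : Fin m ⊕ Fin m → F))) := by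
      intro c hc v hv
      rw [linearIndependent_option]
      refine ⟨hc.map' W.subtype W.ker_subtype, fun h => hv (Submodule.span_le.2 ?_ h)⟩
      rintro _ ⟨i, rfl⟩
      exact (c i).2
    have hgram : ∀ i j, Cfsg.sympForm m F (a i) (a j) = Cfsg.sympForm m F (b i) (b j) := by
      have key : ∀ w : W, f (w : Fin m ⊕ Fin m → F) y = f (α w : Fin m ⊕ Fin m → F) z := fun w => by
        have := LinearMap.congr_fun hα w
        simpa [φ, hBapp] using this.symm
      rintro (_ | i) (_ | j)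
      · show f y y = f z z; rw [f_self hf, f_self hf]
      · show f y (bW j) = f z (α (bW j)); rw [f_skew hf, key, ← f_skew hf]
      · show f (bW i) y = f (α (bW i)) z; exact key _
      · show f (bW i) (bW j) = f (α (bW i)) (α (bW j))
        rw [hW _ (bW i).2 _ (bW j).2, hW _ (α (bW i)).2 _ (α (bW j)).2]
    obtain ⟨h, hh⟩ := Cfsg.Agent.Symplectic.exists_sp_map a b
      (hli _ bW.linearIndependent y hyW)
      (hli _ (bW.linearIndependent.map' α.toLinearMap (LinearEquiv.ker α)) z hzW) hgram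
    let hg : GL (Fin m ⊕ Fin m) F :=
      { val := (h : Matrix (Fin m ⊕ Fin m) (Fin m ⊕ Fin m) F)
        inv := ((h⁻¹ : Matrix.symplecticGroup (Fin m) F) : Matrix (Fin m ⊕ Fin m) (Fin m ⊕ Fin m) F)
        val_inv := by rw [← Submonoid.coe_mul, mul_inv_cancel]; rfl
        inv_val := by rw [← Submonoid.coe_mul, inv_mul_cancel]; rfl }
    have hgi' : hg ∈ isoGrp f := fun u v => Cfsg.Agent.Symplectic.sf_invariant h u v
    have hgS' : hg ∈ S := by
      refine ⟨mem_stab_of_forward fun w hw => ?_, hgi'⟩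
      let L := (Cfsg.Agent.Symplectic.spEquiv m F h).1.toLinearMap
      have hle : W ≤ W.comap L := by
        have hsp : Submodule.span F (Set.range fun i => (bW i : Fin m ⊕ Fin m → F)) = W := by
          show Submodule.span F (Set.range (W.subtype ∘ bW)) = W
          rw [Set.range_comp, Submodule.span_image, bW.span_eq, Submodule.map_subtype_top]
        conv_lhs => rw [← hsp]
        rw [Submodule.span_le]
        rintro _ ⟨i, rfl⟩
        show (h : Matrix (Fin m ⊕ Fin m) (Fin m ⊕ Fin m) F) *ᵥ _ ∈ W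
        have h2 : (h : Matrix (Fin m ⊕ Fin m) (Fin m ⊕ Fin m) F) *ᵥ (bW i : Fin m ⊕ Fin m → F) =
            (α (bW i) : Fin m ⊕ Fin m → F) := hh (some i)
        exact h2 ▸ (α (bW i)).2
      exact hle hw
    have := hyM.conj hf (hSM hgS') hgi'
    rwa [show (hg : Matrix (Fin m ⊕ Fin m) (Fin m ⊕ Fin m) F) *ᵥ y = z from hh none] at this
  refine le_antisymm hMS ?_
  rw [spGL_eq_isoGrp]
  refine iso_le_of_roots hf fun u => ?_
  by_cases hu : u ∈ P
  · exact hMP u hu
  · exact hall u hu

end Cfsg.Agent.S5645
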