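import Cfsg.Statements.S5648
import Cfsg.Agent.H95.SympDecomp

set_option autoImplicit false
open Cfsg

namespace Cfsg.Agent.S5648

open scoped MatrixGroups Matrix
open Matrix Cfsg.Agent.H95

/-- The subgroup of matrices preserving a function on vectors. -/
def keep {ι : Type} [Fintype ι] [DecidableEq ι] {F : Type*} [Field F] (Q : (ι → F) → F) :
    Subgroup (GL ι F) where
  carrier := {g | ∀ x, Q ((g : Matrix ι ι F) *ᵥ x) = Q x}
  mul_mem' {a b} ha hb x := by rw [mul_mulVec, ha, hb]
  one_mem' x := by simp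
  inv_mem' {a} ha x := by rw [← ha, mulVec_inv_mulVec]

/-- Over the field with 2 elements and for m ≥ 7, let D be a decomposition of F^(2m) into t pairwise orthogonal non-degenerate 2-dimensional subspaces for the standard alternating form (t = m ≥ 2). Then the elements of Sp_2m(2) permuting the members of D form a subgroup that is not maximal: some subgroup lies strictly between it and Sp_2m(2). -/
theorem result {F : Type*} [Field F] [Fintype F] (m : ℕ) (hm : 7 ≤ m) (hq : Fintype.card F = 2) {t : ℕ} (D : Fin t → Submodule F (Fin m ⊕ Fin m → F)) (hD : Cfsg.Geo.IsNondegenerateMDecomposition (Cfsg.sympForm m F) 2 D) : ∃ K : Subgroup (Matrix.GeneralLinearGroup (Fin m ⊕ Fin m) F), Cfsg.Geo.decompositionStabilizer D ⊓ Cfsg.spGL m F < K ∧ K < Cfsg.spGL m F := by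
  classical
  set f := Cfsg.sympForm m F with hfdef
  have hf : Geo.IsSymplecticForm f := isSymplecticForm_sympForm m
  have hO : OrthDec f D := ⟨fun i => ndOn_of_isNondegenerateOn hf (hD.nondegenerate i),
    fun i j hij u hu v hv => hD.orthogonal i j hij u hu v hv, hD.decomp.iSup_eq_top⟩
  have hk := hD.decomp.finrank_eq
  have h2 : (2 : F) = 0 := by
    have := FiniteField.cast_card_eq_zero F
    rwa [hq, Nat.cast_ofNat] at this
  have hF : ∀ c : F, c = 0 ∨ c = 1 := fun c => by
    by_cases hc : c = 0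
    · exact Or.inl hc
    · right; simpa [hq] using FiniteField.pow_card_sub_one_eq_one c hc
  let nz : (Fin m ⊕ Fin m → F) → F := fun x => if x = 0 then 0 else 1
  -- on each member the indicator is a quadratic form with polar f
  have hblock : ∀ i, ∀ x ∈ D i, ∀ y ∈ D i, nz (x + y) = nz x + nz y + f x y := by
    intro i x hx y hy
    rcases eq_or_ne x 0 with rfl | hx0
    · simp [nz, f_zero_left hf]
    rcases eq_or_ne y 0 with rfl | hy0
    · simp [nz, f_zero_right hf]
    rcases eq_or_ne (x + y) 0 with hxy | hxy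
    · have : y = -x := eq_neg_of_add_eq_zero_right hxy
      simp only [nz, hxy, hx0, hy0, if_false, if_true]
      rw [this, f_neg_right hf, f_self hf]
      linear_combination -h2
    · simp only [nz, hxy, hx0, hy0, if_false]
      rcases hF (f x y) with h | h
      · exfalso
        apply hxy
        obtain ⟨z, hz, hz1⟩ := hO.nd i x hx hx0
        have hle : Submodule.span F {x, z} = D i := by
          refine Submodule.eq_of_le_of_finrank_eq (Submodule.span_le.2 ?_) ?_
          · intro w hw
            rcases hw with rfl | rfl <;> assumption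
          · have hli : LinearIndependent F ![x, z] := by
              rw [LinearIndependent.pair_iff]
              intro a b hab
              have e1 : f x (a • x + b • z) = 0 := by rw [hab, f_zero_right hf]
              rw [f_add_right hf, f_smul_right hf, f_smul_right hf, f_self hf, hz1] at e1
              have hb : b = 0 := by linear_combination e1
              rw [hb, zero_smul, add_zero] at hab
              exact ⟨(smul_eq_zero.1 hab).resolve_right hx0, hb⟩
            have := finrank_span_eq_card hli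
            rw [Matrix.range_cons_cons_empty, Fintype.card_fin] at this
            rw [hk]
            exact this
        rw [← hle, Submodule.mem_span_pair] at hy
        obtain ⟨a, b, rfl⟩ := hy
        rw [f_add_right hf, f_smul_right hf, f_smul_right hf, f_self hf, hz1] at h
        have hb : b = 0 := by linear_combination h
        subst hb
        rcases hF a with rfl | rfl
        · simp at hy0
        · rw [one_smul, zero_smul, add_zero]
          funext j
          show x j + x j = 0
          linear_combination x j * h2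
      · rw [h]; linear_combination -h2
  set Q : (Fin m ⊕ Fin m → F) → F := fun x => ∑ i, nz (proj hf (hO.nd i) x) with hQ
  have hfsum : ∀ x y, f x y = ∑ i, f (proj hf (hO.nd i) x) (proj hf (hO.nd i) y) := by
    intro x y
    let L : (Fin m ⊕ Fin m → F) →ₗ[F] F :=
      { toFun := fun z => f z y
        map_add' := fun a b => f_add_left hf a b y
        map_smul' := fun c a => f_smul_left hf c a y }
    calc f x y = L (∑ i, proj hf (hO.nd i) x) := by rw [sum_proj hf hO]; rfl
      _ = _ := by
        rw [map_sum]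
        refine Finset.sum_congr rfl fun i _ => ?_
        show f (proj hf (hO.nd i) x) y = _
        rw [f_skew hf, f_proj hf (hO.nd i) y (proj_mem hf _ x), ← f_skew hf]
  have hQadd : ∀ x y, Q (x + y) = Q x + Q y + f x y := fun x y => by
    simp only [hQ]
    rw [hfsum, ← Finset.sum_add_distrib, ← Finset.sum_add_distrib]
    exact Finset.sum_congr rfl fun i _ => by
      rw [proj_add hf]; exact hblock i _ (proj_mem hf _ x) _ (proj_mem hf _ y)
  have hQsingle : ∀ i, ∀ x ∈ D i, Q x = nz x := fun i x hx => by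
    simp only [hQ]
    rw [Finset.sum_eq_single i (fun j _ hj => by
      rw [proj_other hf hO (Ne.symm hj) hx]; simp [nz])
      (fun h => absurd (Finset.mem_univ i) h), proj_self hf _ hx]
  set K := keep Q ⊓ Cfsg.spGL m F with hK
  have hSK : Geo.decompositionStabilizer D ⊓ Cfsg.spGL m F ≤ K := by
    rintro g ⟨⟨σ, hσ⟩, hg⟩
    refine ⟨fun x => ?_, hg⟩
    simp only [hQ]
    rw [← Equiv.sum_comp σ]
    refine Finset.sum_congr rfl fun i _ => ?_
    have hmap : ∀ z ∈ D i, (g : Matrix (Fin m ⊕ Fin m) (Fin m ⊕ Fin m) F) *ᵥ z ∈ D (σ i) :=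
      fun z hz => hσ i ▸ ⟨z, hz, by simp⟩
    have hp : proj hf (hO.nd (σ i)) ((g : Matrix (Fin m ⊕ Fin m) (Fin m ⊕ Fin m) F) *ᵥ x) =
        (g : Matrix (Fin m ⊕ Fin m) (Fin m ⊕ Fin m) F) *ᵥ proj hf (hO.nd i) x := by
      refine proj_eq hf _ (hmap _ (proj_mem hf _ x)) fun u hu => ?_
      rw [← hσ i] at hu
      obtain ⟨z, hz, rfl⟩ := hu
      rw [Matrix.toLin'_apply, ← mulVec_sub, (mem_isoGrp (f := f)).1 hg, proj_orth hf _ x hz]
    rw [hp]
    simp only [nz]
    by_cases h0 : proj hf (hO.nd i) x = 0
    · rw [h0, mulVec_zero]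
    · rw [if_neg h0, if_neg]
      exact fun h => h0 (by rw [← inv_mulVec_mulVec g (proj hf (hO.nd i) x), h, mulVec_zero])
  have ht : 3 ≤ t := by
    have h1 := Module.finrank_eq_card_basis
      (((DirectSum.isInternal_submodule_iff_iSupIndep_and_iSup_eq_top D).2
        ⟨hD.decomp.indep, hD.decomp.iSup_eq_top⟩).collectedBasis
        (fun i => Module.finBasisOfFinrankEq F (D i) (hk i)))
    rw [Module.finrank_fintype_fun_eq_card] at h1
    simp at h1
    omega
  have hne : ∀ i, ∃ a ∈ D i, a ≠ 0 := fun i => (D i).ne_bot_iff.1 fun h => by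
    have := hk i
    rw [h, finrank_bot] at this
    omega
  obtain ⟨a0, ha0, ha0'⟩ := hne ⟨0, by omega⟩
  obtain ⟨a1, ha1, ha1'⟩ := hne ⟨1, by omega⟩
  obtain ⟨a2, ha2, ha2'⟩ := hne ⟨2, by omega⟩
  obtain ⟨x, hx, hx1⟩ := hO.nd _ a0 ha0 ha0'
  have h01 : (⟨0, by omega⟩ : Fin t) ≠ ⟨1, by omega⟩ := by simp
  have h02 : (⟨0, by omega⟩ : Fin t) ≠ ⟨2, by omega⟩ := by simp
  have h12 : (⟨1, by omega⟩ : Fin t) ≠ ⟨2, by omega⟩ := by simp
  have hxa : f x (a0 + a1) = 1 := by
    rw [f_add_right hf, hO.orth _ _ h01 x hx a1 ha1, f_skew hf, hx1]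
    linear_combination -h2
  have hQT : ∀ u y, Q ((rt hf u 1 : Matrix (Fin m ⊕ Fin m) (Fin m ⊕ Fin m) F) *ᵥ y) =
      Q y + f y u * (Q u + 1) := by
    intro u y
    rw [rt_mulVec hf, one_mul]
    rcases hF (f y u) with h | h
    · rw [h, zero_smul, add_zero]; ring
    · rw [h, one_smul, hQadd, h]; ring
  refine ⟨K, lt_of_le_of_ne hSK fun hEq => ?_, lt_of_le_of_ne inf_le_right fun hEq => ?_⟩
  · have hu : Q (a0 + a1 + a2) = 1 := by
      rw [hQadd, hQadd, hQsingle _ a0 ha0, hQsingle _ a1 ha1, hQsingle _ a2 ha2, f_add_left hf,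
        hO.orth _ _ h01 a0 ha0 a1 ha1, hO.orth _ _ h02 a0 ha0 a2 ha2, hO.orth _ _ h12 a1 ha1 a2 ha2]
      simp only [nz, ha0', ha1', ha2', if_false]
      linear_combination h2
    have hg : rt hf (a0 + a1 + a2) 1 ∈ K :=
      ⟨fun y => by rw [hQT, hu]; linear_combination f y (a0 + a1 + a2) * h2, rt_mem_iso hf _ _⟩
    rw [← hEq] at hg
    obtain ⟨σ, hσ⟩ := hg.1
    have h1 : (rt hf (a0 + a1 + a2) 1 : Matrix (Fin m ⊕ Fin m) (Fin m ⊕ Fin m) F) *ᵥ x ∈
        D (σ ⟨0, by omega⟩) := hσ _ ▸ ⟨x, hx, by simp⟩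
    rw [rt_mulVec hf, one_mul, f_add_right hf, hxa, hO.orth _ _ h02 x hx a2 ha2, add_zero,
      one_smul] at h1
    have p1 : proj hf (hO.nd ⟨1, by omega⟩) (x + (a0 + a1 + a2)) = a1 := by
      rw [proj_add hf, proj_add hf, proj_add hf, proj_other hf hO h01 hx, proj_other hf hO h01 ha0,
        proj_self hf _ ha1, proj_other hf hO h12.symm ha2]
      simp
    have p2 : proj hf (hO.nd ⟨2, by omega⟩) (x + (a0 + a1 + a2)) = a2 := by
      rw [proj_add hf, proj_add hf, proj_add hf, proj_other hf hO h02 hx, proj_other hf hO h02 ha0,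
        proj_other hf hO h12 ha1, proj_self hf _ ha2]
      simp
    rcases eq_or_ne (σ ⟨0, by omega⟩) (⟨1, by omega⟩ : Fin t) with he | he
    · exact ha2' (by rw [← p2, proj_other hf hO (he ▸ h12) h1])
    · exact ha1' (by rw [← p1, proj_other hf hO he h1])
  · have hg : rt hf (a0 + a1) 1 ∈ K := hEq.symm ▸ rt_mem_iso hf _ _
    have h1 := hg.1 x
    rw [hQT, hxa, hQadd, hQsingle _ a0 ha0, hQsingle _ a1 ha1,
      hO.orth _ _ h01 a0 ha0 a1 ha1] at h1
    simp only [nz, ha0', ha1', if_false] at h1
    exact one_ne_zero (α := F) (by linear_combination h1 - h2)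

end Cfsg.Agent.S5648
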