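import Cfsg.Statements.S5654
import Cfsg.Agent.Symplectic.HermMove
import Cfsg.Agent.H95.SubspaceStab
import Cfsg.Agent.Unitary.Isotropic
import Mathlib

set_option autoImplicit false
open Cfsg

namespace Cfsg.Agent.S5654

open scoped MatrixGroups Matrix
open Matrix Cfsg.Agent.H95 Cfsg.Agent.Symplectic

variable {F : Type*} [Field F] [Fintype F] {n q : ℕ}

theorem finrank_span_pair_le (u v : Fin n → F) :
    Module.finrank F (Submodule.span F ({u, v} : Set (Fin n → F))) ≤ 2 := by
  classical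
  have := finrank_span_finset_le_card (R := F) ({u, v} : Finset (Fin n → F))
  rw [Finset.coe_insert, Finset.coe_singleton] at this
  exact this.trans Finset.card_le_two

/-- Isotropic vectors orthogonal to `c ∈ U` generate the orthogonal of `c` in any `Z ⊇ U`. -/
theorem gen_orth (hF : Fintype.card F = q ^ 2) {U Z : Submodule F (Fin n → F)}
    (hU : Unitary.Nondeg q U) (h5 : 5 ≤ Module.finrank F U) (hUZ : U ≤ Z) {c : Fin n → F}
    (hc : c ∈ U) (D : AddSubgroup (Fin n → F))
    (hD : ∀ w ∈ Z, Cfsg.hermForm n F q w w = 0 → Cfsg.hermForm n F q w c = 0 → w ∈ D) :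
    ∀ y ∈ Z, Cfsg.hermForm n F q y c = 0 → y ∈ D := by
  set f := Cfsg.hermForm n F q with hf
  obtain ⟨U', hU', hU'2, hU'le, hU'c⟩ : ∃ U' : Submodule F (Fin n → F), Unitary.Nondeg q U' ∧
      2 ≤ Module.finrank F U' ∧ U' ≤ U ∧ ∀ u ∈ U', f u c = 0 := by
    by_cases hc0 : c = 0
    · exact ⟨U, hU, by omega, le_rfl, fun u _ => by rw [hc0]; exact Unitary.herm_zero_right hF u⟩
    obtain ⟨P, hP, hPU, hcP, hP2⟩ : ∃ P : Submodule F (Fin n → F), Unitary.Nondeg q P ∧ P ≤ U ∧
        c ∈ P ∧ Module.finrank F P ≤ 2 := by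
      by_cases hcc : f c c = 0
      · obtain ⟨d, hd, hdd, hdc⟩ := Unitary.exists_partner hF hU hc hc0 hcc
        exact ⟨_, Unitary.nondeg_pair hF hdd hcc (by rw [hdc]; exact one_ne_zero),
          Unitary.span_pair_le hd hc, Submodule.subset_span (Or.inr rfl),
          finrank_span_pair_le d c⟩
      · refine ⟨F ∙ c, fun x hx h => ?_, (Submodule.span_singleton_le_iff_mem c U).2 hc,
          Submodule.mem_span_singleton_self c, ?_⟩
        · obtain ⟨t, rfl⟩ := Submodule.mem_span_singleton.1 hx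
          have h1 := h c (Submodule.mem_span_singleton_self c)
          rw [Unitary.herm_smul_left] at h1
          rw [(mul_eq_zero.1 h1).resolve_right hcc, zero_smul]
        · rw [finrank_span_singleton hc0]; omega
    have := Unitary.inf_perp_finrank hF hP hPU
    exact ⟨_, Unitary.inf_perp_nondeg hF hU hP hPU, by omega, inf_le_left,
      fun u hu => hu.2 c hcP⟩
  obtain ⟨w, hw, hw0, hww⟩ := Unitary.exists_isotropic hF hU' hU'2
  obtain ⟨d, hd, hdd, hdw⟩ := Unitary.exists_partner hF hU' hw hw0 hww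
  have key : ∀ y ∈ Z, f y c = 0 → f y w ≠ 0 → y ∈ D := by
    intro y hy hyc hyw
    obtain ⟨l, hl⟩ := Unitary.exists_isotropic_add hF hww hyw
    have hlw : l • w ∈ Z := Z.smul_mem l (hUZ (hU'le hw))
    have h1 := hD _ (Z.add_mem hy hlw) hl
      (by rw [hf, Unitary.herm_add_left, Unitary.herm_smul_left, ← hf, hyc, hU'c w hw]; ring)
    have h2 := hD _ hlw
      (by rw [hf, Unitary.herm_self_smul, ← hf, show f w w = 0 from hww, mul_zero])
      (by rw [hf, Unitary.herm_smul_left, ← hf, hU'c w hw, mul_zero])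
    simpa using D.sub_mem h1 h2
  intro y hy hyc
  by_cases hyw : f y w = 0
  · have h1 := key (y + d) (Z.add_mem hy (hUZ (hU'le hd)))
      (by rw [hf, Unitary.herm_add_left, ← hf, hyc, hU'c d hd, add_zero])
      (by rw [hf, Unitary.herm_add_left, ← hf, hyw, show f d w = 1 from hdw, zero_add]
          exact one_ne_zero)
    simpa using D.sub_mem h1 (hD d (hUZ (hU'le hd)) hdd (hU'c d hd))
  · exact key y hy hyc hyw

/-- An isotropic vector of `U` orthogonal to `c` and not to `b`. -/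
theorem exists_sep (hF : Fintype.card F = q ^ 2) {U : Submodule F (Fin n → F)}
    (hU : Unitary.Nondeg q U) (h5 : 5 ≤ Module.finrank F U) {c b : Fin n → F} (hc : c ∈ U)
    (hb : b ∈ U) (hind : ∀ t : F, b ≠ t • c) :
    ∃ e ∈ U, Cfsg.hermForm n F q e e = 0 ∧ Cfsg.hermForm n F q e c = 0 ∧
      Cfsg.hermForm n F q b e ≠ 0 := by
  set f := Cfsg.hermForm n F q with hf
  by_contra hcon
  push Not at hcon
  let D : AddSubgroup (Fin n → F) :=
    { carrier := {y | f b y = 0}
      add_mem' := fun {p r} hp hr => by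
        show f b (p + r) = 0
        rw [hf, Unitary.herm_add_right hF, ← hf, hp, hr, add_zero]
      zero_mem' := Unitary.herm_zero_right hF b
      neg_mem' := fun {p} hp => by
        show f b (-p) = 0
        rw [← neg_one_smul F p, hf, Unitary.herm_smul_right, ← hf, hp, mul_zero] }
  have orth : ∀ y ∈ U, f y c = 0 → f b y = 0 := fun y hy hyc =>
    gen_orth hF hU h5 le_rfl hc D (fun w hw h1 h2 => hcon w hw h1 h2) y hy hyc
  by_cases hc0 : c = 0
  · refine hind 0 ?_
    rw [zero_smul]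
    exact hU b hb fun v hv => orth v hv (by rw [hc0]; exact Unitary.herm_zero_right hF v)
  obtain ⟨z, hz, hzc⟩ : ∃ z ∈ U, f z c = 1 := by
    obtain ⟨z, hz, h⟩ := Unitary.exists_herm_eq_mem hF hU (b := fun _ : Fin 1 => c)
      (linearIndependent_unique_iff.2 hc0) (fun _ => hc) (fun _ => (1 : F))
    exact ⟨z, hz, h 0⟩
  have hcz : f c z = 1 := by
    rw [hf, ← Unitary.herm_swap hF z c, ← hf, hzc, one_pow]
  refine hind (f b z) (sub_eq_zero.1 (hU _ (U.sub_mem hb (U.smul_mem _ hc)) fun v hv => ?_))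
  set y := v - f v c • z with hy
  have hyU : y ∈ U := U.sub_mem hv (U.smul_mem _ hz)
  have hyc : f y c = 0 := by
    rw [hy, hf, Unitary.herm_sub_left, Unitary.herm_smul_left, ← hf, hzc, mul_one, sub_self]
  have hby := orth y hyU hyc
  have hcy : f c y = 0 := (Unitary.herm_eq_zero_symm hF).1 hyc
  have e : v = y + f v c • z := by rw [hy, sub_add_cancel]
  show f (b - f b z • c) v = 0
  clear_value y
  rw [e]
  simp only [hf, Unitary.herm_sub_left, Unitary.herm_smul_left, Unitary.herm_add_right hF,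
    Unitary.herm_smul_right]
  simp only [← hf, hby, hcy, hcz]
  ring

variable {σ : F ≃+* F}

theorem uh_mem (hf : Geo.IsUnitaryForm σ (Cfsg.hermForm n F q)) {M : Subgroup (GL (Fin n) F)}
    {Z : Submodule F (Fin n → F)}
    (hZ : ∀ v ∈ Z, Cfsg.hermForm n F q v v = 0 → UtIn hf M v) {e w : Fin n → F}
    (hew : OrthIso hf e w) (he : e ∈ Z) (hw : w ∈ Z) (c : F) : uh hf e w c ∈ M := by
  obtain ⟨d, hd0, hd⟩ := exists_skew_ne_zero hf
  set k := c / d with hk
  have hc : c = d * k := by rw [hk, mul_div_cancel₀ _ hd0]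
  have hww : Cfsg.hermForm n F q (e + k • w) (e + k • w) = 0 := by
    simp only [u_add_left hf, u_add_right hf, u_smul_left hf, u_smul_right hf, hew.1, hew.2.1,
      hew.2.2, u_symm_zero hf hew.2.2]
    ring
  have m1 := hZ _ (Z.add_mem he (Z.smul_mem k hw)) hww d hd
  have m2 := hZ e he hew.1 d hd
  have m3 := hZ w hw hew.2.1 (d * (k * σ k)) (by rw [map_mul, map_mul, u_inv hf, hd]; ring)
  have h := M.mul_mem (M.inv_mem m3) (M.mul_mem (M.inv_mem m2) m1)
  rw [ut_inv hf hew.1, ut_inv hf hew.2.1] at h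
  rw [hc]
  clear_value k
  convert h using 1
  refine gl_ext fun x => ?_
  simp only [mul_mulVec, ut_mulVec hf hew.1, ut_mulVec hf hew.2.1, ut_mulVec hf hww,
    uh_mulVec hf hew, u_add_left hf, u_add_right hf, u_smul_left hf, u_smul_right hf, hew.1,
    hew.2.1, hew.2.2, u_symm_zero hf hew.2.2, map_mul, hd]
  module

theorem ue_mem (hF : Fintype.card F = q ^ 2) (hf : Geo.IsUnitaryForm σ (Cfsg.hermForm n F q))
    {M : Subgroup (GL (Fin n) F)} {U Z : Submodule F (Fin n → F)} (hU : Unitary.Nondeg q U)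
    (h5 : 5 ≤ Module.finrank F U) (hUZ : U ≤ Z)
    (hZ : ∀ v ∈ Z, Cfsg.hermForm n F q v v = 0 → UtIn hf M v) {e d : Fin n → F} (he : e ∈ U)
    (hd : d ∈ Z) {t : F} (hok : EichOK hf e d t) : ue hf e d t ∈ M := by
  set f := Cfsg.hermForm n F q with hfdef
  have hee : f e e = 0 := hok.1
  let D : AddSubgroup (Fin n → F) :=
    { carrier := {d | ∃ t, EichOK hf e d t ∧ ue hf e d t ∈ M}
      add_mem' := fun {p r} ⟨t₁, h₁, m₁⟩ ⟨t₂, h₂, m₂⟩ =>
        ⟨_, h₁.add hf h₂, by rw [← ue_mul hf h₁ h₂]; exact M.mul_mem m₁ m₂⟩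
      zero_mem' := by
        have h : EichOK hf e 0 0 :=
          ⟨hee, u_zero_left hf e, by rw [u_zero_left hf, map_zero, add_zero, neg_zero]⟩
        refine ⟨0, h, ?_⟩
        convert M.one_mem
        exact gl_ext fun y => by rw [ue_mulVec hf h, u_zero_right hf]; simp
      neg_mem' := fun {p} ⟨t, h, m⟩ => by
        have h' : EichOK hf e (-p) (σ t) := by
          refine ⟨h.1, by rw [u_neg_left hf, h.2.1, neg_zero], ?_⟩
          rw [u_inv hf, u_neg_left hf, u_neg_right hf]
          linear_combination h.2.2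
        refine ⟨σ t, h', ?_⟩
        rw [show ue hf e (-p) (σ t) = (ue hf e p t)⁻¹ from
          eq_inv_of_mul_eq_one_left (gl_ext fun y => by
            rw [mul_mulVec, ue_mulVec hf h, ue_mulVec hf h']
            simp only [u_add_left hf, u_smul_left hf, u_neg_right hf, h.1, h.2.1,
              u_symm_zero hf h.2.1, Units.val_one, one_mulVec]
            match_scalars <;>
              first
              | ring1
              | linear_combination (f y e) * h.2.2)]
        exact M.inv_mem m }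
  have hall := gen_orth hF hU h5 hUZ he D (fun w hw h1 h2 => by
    have h : EichOK hf e w 0 := ⟨hee, h2, by rw [map_zero, add_zero, show f w w = 0 from h1]; simp⟩
    refine ⟨0, h, ?_⟩
    convert uh_mem hf hZ (e := e) (w := w) ⟨hee, h1, u_symm_zero hf h2⟩ (hUZ he) hw 1 using 1
    refine gl_ext fun y => ?_
    rw [ue_mulVec hf h, uh_mulVec hf ⟨hee, h1, u_symm_zero hf h2⟩, map_one]
    module) d hd hok.2.1
  obtain ⟨t₀, h₀, m₀⟩ := hall
  have hs : σ (t - t₀) = -(t - t₀) := by
    rw [map_sub]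
    linear_combination hok.2.2 - h₀.2.2
  convert M.mul_mem (hZ e (hUZ he) hee _ hs) m₀ using 1
  refine gl_ext fun y => ?_
  simp only [mul_mulVec, ue_mulVec hf hok, ue_mulVec hf h₀, ut_mulVec hf hee, u_add_left hf,
    u_smul_left hf, show f d e = 0 from hok.2.1, show f e e = 0 from hee]
  module

theorem main (hF : Fintype.card F = q ^ 2)
    (hf : Geo.IsUnitaryForm σ (Cfsg.hermForm n F q)) (hn : 13 ≤ n)
    (G : Subgroup (GL (Fin n) F))
    (hG : G = isoGrp (Cfsg.hermForm n F q) ⊓ Geo.specialLinear (Fin n) F)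
    (hgen : ∀ M : Subgroup (GL (Fin n) F),
      (∀ v, Cfsg.hermForm n F q v v = 0 → UtIn hf M v) → G ≤ M)
    (W : Submodule F (Fin n → F)) (hW0 : W ≠ ⊥) (hW : Unitary.Nondeg q W)
    (hdim : 2 * Module.finrank F W < n) :
    Geo.IsMaximalIn G (Geo.subspaceStabilizer W ⊓ G) := by
  set f := Cfsg.hermForm n F q with hfdef
  set U := Unitary.perp q (W : Set (Fin n → F)) with hUdef
  have hU : Unitary.Nondeg q U := Unitary.nondeg_perp hF hW
  have hsum := Unitary.finrank_perp_add hF hW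
  rw [← hUdef] at hsum
  have h5 : 5 ≤ Module.finrank F U := by omega
  have hUW : ∀ u ∈ U, ∀ w ∈ W, f u w = 0 ∧ f w u = 0 := fun u hu w hw =>
    ⟨hu w hw, u_symm_zero hf (hu w hw)⟩
  have split : ∀ x, ∃ a ∈ W, ∃ b ∈ U, a + b = x := fun x =>
    Submodule.mem_sup.1 ((Unitary.isCompl_perp hF hW).sup_eq_top.symm ▸ Submodule.mem_top (x := x))
  have hdis : ∀ x ∈ W, x ∈ U → x = 0 := fun x h1 h2 =>
    Submodule.disjoint_def.1 (Unitary.isCompl_perp hF hW).disjoint x h1 h2
  refine ⟨lt_of_le_of_ne inf_le_right fun hEq => ?_, fun M hSM hMG => ?_⟩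
  · obtain ⟨a, ha, haa⟩ := Unitary.exists_norm_one hF hW hW0
    obtain ⟨b, hb, hbb⟩ := Unitary.exists_norm_one hF hU (by
      intro h; rw [h, finrank_bot] at h5; omega)
    obtain ⟨c, hc⟩ := Unitary.exists_norm_eq_neg_one hF
    set v := a + c • b with hv
    have hvv : f v v = 0 := by
      simp only [hv, u_add_left hf, u_add_right hf, u_smul_left hf, u_smul_right hf,
        (hUW b hb a ha).1, (hUW b hb a ha).2, show f a a = 1 from haa]
      have h1 : f (c • b) (c • b) = c * c ^ q * f b b := Unitary.herm_self_smul c b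
      rw [u_smul_left hf, u_smul_right hf, show f b b = 1 from hbb] at h1
      rw [show f b b = 1 from hbb]
      linear_combination h1 + hc
    obtain ⟨d, hd0, hd⟩ := exists_skew_ne_zero hf
    have hmem : ut hf v d ∈ Geo.subspaceStabilizer W ⊓ G :=
      hEq.symm ▸ (hG ▸ ⟨ut_mem_iso hf hvv hd, ut_mem_sl hf v d⟩ : ut hf v d ∈ G)
    have h1 := (mem_subspaceStabilizer.1 hmem.1 a).1 ha
    rw [ut_mulVec hf hvv, W.add_mem_iff_right ha] at h1
    have hne : d * f a v ≠ 0 := by
      rw [hv, u_add_right hf, u_smul_right hf, (hUW b hb a ha).2, show f a a = 1 from haa]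
      simpa using hd0
    have hvW := W.smul_mem (d * f a v)⁻¹ h1
    rw [inv_smul_smul₀ hne, hv, W.add_mem_iff_right ha] at hvW
    have h0 := hdis _ hvW (U.smul_mem c hb)
    rw [smul_eq_zero] at h0
    rcases h0 with h | h
    · rw [h, zero_mul] at hc; exact one_ne_zero (neg_eq_zero.1 hc.symm)
    · rw [h, Unitary.herm_zero_left] at hbb; exact zero_ne_one hbb
  by_cases hM : M ≤ Geo.subspaceStabilizer W ⊓ G
  · exact Or.inl (le_antisymm hM hSM)
  obtain ⟨g, hgM, hgS⟩ := SetLike.not_le_iff_exists.1 hM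
  have hiso : ∀ k ∈ M, k ∈ isoGrp f := fun k hk => (hG ▸ hMG hk : k ∈ isoGrp f ⊓ _).1
  have hgi := hiso g hgM
  have utU : ∀ v ∈ U, f v v = 0 → UtIn hf M v := fun v hv hvv l hl => by
    refine hSM ⟨mem_stab_of_forward fun x hx => ?_, hG ▸ ⟨ut_mem_iso hf hvv hl, ut_mem_sl hf v l⟩⟩
    rw [ut_mulVec hf hvv, (hUW v hv x hx).2, mul_zero, zero_smul, add_zero]
    exact hx
  have utW : ∀ v ∈ W, f v v = 0 → UtIn hf M v := fun v hv hvv l hl => by
    refine hSM ⟨mem_stab_of_forward fun x hx => ?_, hG ▸ ⟨ut_mem_iso hf hvv hl, ut_mem_sl hf v l⟩⟩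
    rw [ut_mulVec hf hvv]
    exact W.add_mem hx (W.smul_mem _ hv)
  -- a mixed vector
  obtain ⟨v₀, hv₀v₀, hv₀M, a₀, ha₀, b₀, hb₀, hab, ha₀0, hb₀0⟩ :
      ∃ v, f v v = 0 ∧ UtIn hf M v ∧ ∃ a ∈ W, ∃ b ∈ U, a + b = v ∧ a ≠ 0 ∧ b ≠ 0 := by
    by_contra hcon
    push Not at hcon
    have side : ∀ u ∈ U, f u u = 0 →
        (g : Matrix (Fin n) (Fin n) F) *ᵥ u ∈ W ∨ (g : Matrix (Fin n) (Fin n) F) *ᵥ u ∈ U := by
      intro u hu huu
      obtain ⟨a, ha, b, hb, hab⟩ := split ((g : Matrix (Fin n) (Fin n) F) *ᵥ u)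
      have h1 := hcon ((g : Matrix (Fin n) (Fin n) F) *ᵥ u) (by rw [mem_isoGrp.1 hgi]; exact huu)
        ((utU u hu huu).conj hf huu hgM hgi) a ha b hb hab
      rcases eq_or_ne a 0 with h | h
      · right; rw [← hab, h, zero_add]; exact hb
      · left; rw [← hab, h1 h, add_zero]; exact ha
    obtain ⟨u₁, hu₁, hu₁0, hu₁₁⟩ := Unitary.exists_isotropic hF hU (by omega)
    have same : ∀ u ∈ U, f u u = 0 → ∀ u' ∈ U, f u' u' = 0 → f u u' ≠ 0 →
        ((g : Matrix (Fin n) (Fin n) F) *ᵥ u ∈ W → (g : Matrix (Fin n) (Fin n) F) *ᵥ u' ∈ W) := by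
      intro u hu huu u' hu' hu'u' hne hW'
      rcases side u' hu' hu'u' with h | h
      · exact h
      · refine absurd ?_ hne
        rw [← mem_isoGrp.1 hgi]
        exact (hUW _ h _ hW').2
    have all : (g : Matrix (Fin n) (Fin n) F) *ᵥ u₁ ∈ W → ∀ u ∈ U, f u u = 0 →
        (g : Matrix (Fin n) (Fin n) F) *ᵥ u ∈ W := by
      intro h u hu huu
      rcases eq_or_ne u 0 with rfl | hu0
      · rw [mulVec_zero]; exact W.zero_mem
      obtain ⟨z, hz, hzz, hz1, hz2⟩ :=
        Unitary.exists_iso_nonperp hF hU (by omega) hu₁ hu hu₁₁ huu hu₁0 hu0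
      exact same z hz hzz u hu huu hz2 (same u₁ hu₁ hu₁₁ z hz hzz
        (fun h => hz1 (u_symm_zero hf h)) h)
    have span : ∀ Y : Submodule F (Fin n → F),
        (∀ u ∈ U, f u u = 0 → (g : Matrix (Fin n) (Fin n) F) *ᵥ u ∈ Y) →
        ∀ u ∈ U, (g : Matrix (Fin n) (Fin n) F) *ᵥ u ∈ Y := fun Y h =>
      Unitary.exists_add_isotropic hF hU (by omega) h fun w _ w' _ h1 h2 => by
        rw [mulVec_add]; exact Y.add_mem h1 h2
    by_cases h1 : (g : Matrix (Fin n) (Fin n) F) *ᵥ u₁ ∈ W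
    · have hle : U.map (Matrix.toLin' (g : Matrix (Fin n) (Fin n) F)) ≤ W := by
        rintro _ ⟨u, hu, rfl⟩
        simpa using span W (all h1) u hu
      have := Submodule.finrank_mono hle
      rw [(Submodule.equivMapOfInjective _ (fun x y h => gl_mulVec_injective g (by simpa using h))
        U).finrank_eq.symm] at this
      omega
    · apply hgS
      have hgU : g ∈ Geo.subspaceStabilizer U := mem_stab_of_forward <| span U fun u hu huu => by
        rcases side u hu huu with h | h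
        · rcases eq_or_ne u 0 with rfl | hu0
          · rw [mulVec_zero]; exact U.zero_mem
          obtain ⟨z, hz, hzz, hz1, hz2⟩ :=
            Unitary.exists_iso_nonperp hF hU (by omega) hu hu₁ huu hu₁₁ hu0 hu₁0
          exact absurd (same z hz hzz u₁ hu₁ hu₁₁ hz2
            (same u hu huu z hz hzz (fun h => hz1 (u_symm_zero hf h)) h)) h1
        · exact h
      refine ⟨mem_stab_of_forward fun w hw => ?_, hMG hgM⟩
      obtain ⟨a, ha, b, hb, hab⟩ := split ((g : Matrix (Fin n) (Fin n) F) *ᵥ w)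
      have : b = 0 := hU b hb fun u hu => by
        have hu' : ((g⁻¹ : GL (Fin n) F) : Matrix (Fin n) (Fin n) F) *ᵥ u ∈ U := by
          rw [mem_subspaceStabilizer.1 hgU, mulVec_inv_mulVec]; exact hu
        have h2 : f ((g : Matrix (Fin n) (Fin n) F) *ᵥ w) u = 0 := by
          conv_lhs => rw [← mulVec_inv_mulVec g u]
          rw [mem_isoGrp.1 hgi]
          exact (hUW _ hu' w hw).2
        rwa [← hab, u_add_left hf, (hUW u hu a ha).2, zero_add] at h2
      rw [← hab, this, add_zero]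
      exact ha
  -- a maximal subspace with all its transvections
  obtain ⟨Z, hZm⟩ := (Set.toFinite {Z : Submodule F (Fin n → F) | U ≤ Z ∧
    ∀ v ∈ Z, f v v = 0 → UtIn hf M v}).exists_maximal ⟨U, le_rfl, utU⟩
  obtain ⟨hUZ, hZ⟩ := hZm.prop
  have extend : ∀ v, f v v = 0 → UtIn hf M v → ∀ a ∈ W, ∀ b ∈ U, a + b = v → b ≠ 0 → v ∈ Z := by
    intro v hvv hvM a ha b hb hab hb0
    suffices hZ' : ∀ x ∈ Z ⊔ F ∙ v, f x x = 0 → UtIn hf M x from
      hZm.2 (show Z ⊔ F ∙ v ∈ {Z : Submodule F (Fin n → F) | _} from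
        ⟨hUZ.trans le_sup_left, hZ'⟩) le_sup_left
        (Submodule.mem_sup_right (Submodule.mem_span_singleton_self v))
    -- the generic case
    have step : ∀ z ∈ Z, ∀ zW ∈ W, ∀ zU ∈ U, zW + zU = z → (∀ t : F, b ≠ t • zU) →
        f (z + v) (z + v) = 0 → UtIn hf M (z + v) := by
      intro z hz zW hzW zU hzU hzsum hind hxx
      obtain ⟨e, he, hee, hec, hbe⟩ := exists_sep hF hU h5 hzU hb hind
      have hze : f z e = 0 := by
        rw [← hzsum, u_add_left hf, (hUW e he zW hzW).2, u_symm_zero hf hec, add_zero]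
      have hve : f v e = f b e := by rw [← hab, u_add_left hf, (hUW e he a ha).2, zero_add]
      set k := (f v e)⁻¹ with hk
      have hk0 : f v e ≠ 0 := by rwa [hve]
      have h1 : f (k • v) e = 1 := by rw [u_smul_left hf, hk, inv_mul_cancel₀ hk0]
      have h2 : f (k • (z + v)) e = 1 := by
        rw [u_smul_left hf, u_add_left hf, hze, zero_add, hk, inv_mul_cancel₀ hk0]
      have hkv : f (k • v) (k • v) = 0 := by rw [u_smul_left hf, u_smul_right hf, hvv]; ring
      have hkx : f (k • (z + v)) (k • (z + v)) = 0 := by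
        rw [u_smul_left hf, u_smul_right hf, hxx]; ring
      obtain ⟨hok, hmove⟩ := ue_move hf hee (hkv.trans hkx.symm) h1 h2
      have hd : k • (z + v) - k • v ∈ Z := by
        rw [← smul_sub, add_sub_cancel_right]; exact Z.smul_mem k hz
      have hu := (hvM.smul hf hvv k).conj hf hkv (ue_mem hF hf hU h5 hUZ hZ he hd hok)
        (ue_mem_iso hf hok)
      rw [hmove] at hu
      have := hu.smul hf hkx k⁻¹
      rwa [inv_smul_smul₀ (inv_ne_zero hk0)] at this
    intro x hx hxx
    obtain ⟨z, hz, _, hy, rfl⟩ := Submodule.mem_sup.1 hx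
    obtain ⟨α, rfl⟩ := Submodule.mem_span_singleton.1 hy
    rcases eq_or_ne α 0 with rfl | hα
    · rw [zero_smul, add_zero] at hxx ⊢
      exact hZ z hz hxx
    rw [show z + α • v = α • (α⁻¹ • z + v) by rw [smul_add, smul_inv_smul₀ hα]] at hxx ⊢
    have hyy : f (α⁻¹ • z + v) (α⁻¹ • z + v) = 0 := by
      rw [u_smul_left hf, u_smul_right hf] at hxx
      exact ((mul_eq_zero.1 ((mul_eq_zero.1 hxx).resolve_left hα)).resolve_left
        fun h => hα ((map_eq_zero_iff σ σ.injective).1 h))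
    refine UtIn.smul hf hyy ?_ α
    set z' := α⁻¹ • z with hz'
    have hz'Z : z' ∈ Z := Z.smul_mem _ hz
    clear_value z'
    obtain ⟨zW, hzW, zU, hzU, hzsum⟩ := split z'
    by_cases hind : ∀ t : F, b ≠ t • zU
    · exact step z' hz'Z zW hzW zU hzU hzsum hind hyy
    push Not at hind
    obtain ⟨t, ht⟩ := hind
    by_cases hxU : zU + b = 0
    · refine utW _ ?_ hyy
      rw [← hzsum, ← hab, show zW + zU + (a + b) = zW + a + (zU + b) by abel, hxU, add_zero]
      exact W.add_mem hzW ha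
    obtain ⟨u, hu, huu, -, hbu⟩ := exists_sep hF hU h5 U.zero_mem (U.add_mem hzU hb)
      (fun s hs => hxU (by rw [hs, smul_zero]))
    obtain ⟨m, hm0, hm⟩ := exists_skew_ne_zero hf
    set κ := m * f (z' + v) u with hκ
    have hκ0 : κ ≠ 0 := by
      refine mul_ne_zero hm0 ?_
      have : f (z' + v) u = f (zU + b) u := by
        rw [← hzsum, ← hab]
        simp only [u_add_left hf, (hUW u hu zW hzW).2, (hUW u hu a ha).2]
        ring
      rwa [this]
    have huM := utU u hu huu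
    have hind2 : ∀ s : F, b ≠ s • (zU + κ • u) := by
      intro s hs
      rw [ht] at hs
      have h1 : (t - s) • zU = (s * κ) • u := by
        rw [sub_smul, hs, smul_add, smul_smul]; abel
      rcases eq_or_ne s 0 with rfl | hs0
      · exact hb0 (by rw [ht, hs, zero_smul])
      have hzU' : u = ((s * κ)⁻¹ * (t - s)) • zU := by
        rw [mul_smul, h1, inv_smul_smul₀ (mul_ne_zero hs0 hκ0)]
      apply hbu
      show f (zU + b) u = 0
      have e1 : zU + b = (1 + t) • zU := by rw [ht, add_smul, one_smul]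
      rw [e1, hzU', u_smul_left hf, u_smul_right hf]
      have e2 : f u u = 0 := huu
      rw [hzU', u_smul_left hf, u_smul_right hf] at e2
      rcases mul_eq_zero.1 e2 with h | h
      · rw [h, map_zero]; ring
      rcases mul_eq_zero.1 h with h | h
      · rw [(map_eq_zero_iff σ σ.injective).1 h, map_zero]; ring
      · rw [h]; ring
    set z₂ := z' + κ • u with hz₂
    have e3 : (ut hf u m : Matrix (Fin n) (Fin n) F) *ᵥ (z' + v) = z₂ + v := by
      rw [ut_mulVec hf huu, hz₂, hκ]; abel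
    have hz₂₂ : f (z₂ + v) (z₂ + v) = 0 := by
      rw [← e3, mem_isoGrp.1 (ut_mem_iso hf huu hm)]; exact hyy
    have := (step z₂ (Z.add_mem hz'Z (Z.smul_mem _ (hUZ hu))) zW hzW (zU + κ • u)
      (U.add_mem hzU (U.smul_mem _ hu)) (by rw [hz₂, ← hzsum]; abel) hind2 hz₂₂).conj hf hz₂₂
      (huM (-m) (by rw [map_neg, hm])) (ut_mem_iso hf huu (by rw [map_neg, hm]))
    rwa [← e3, ← mul_mulVec, ut_add hf huu, neg_add_cancel, ut_zero hf u huu, Units.val_one,
      one_mulVec] at this
  have hv₀Z := extend v₀ hv₀v₀ hv₀M a₀ ha₀ b₀ hb₀ hab hb₀0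
  have ha₀Z : a₀ ∈ Z := by
    have := Z.sub_mem hv₀Z (hUZ hb₀)
    rwa [← hab, add_sub_cancel_right] at this
  have hWZ : W ≤ Z := by
    by_cases hk : Module.finrank F W ≤ 1
    · intro x hx
      have : F ∙ a₀ = W := Submodule.eq_of_le_of_finrank_le
        ((Submodule.span_singleton_le_iff_mem _ _).2 ha₀) (by rw [finrank_span_singleton ha₀0]; exact hk)
      rw [← this] at hx
      obtain ⟨t, rfl⟩ := Submodule.mem_span_singleton.1 hx
      exact Z.smul_mem t ha₀Z
    have moved : ∀ w ∈ W, f w w = 0 → f a₀ w ≠ 0 → w ∈ Z := by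
      intro w hw hww hne
      obtain ⟨l, hl0, hl⟩ := exists_skew_ne_zero hf
      have e1 : (ut hf w l : Matrix (Fin n) (Fin n) F) *ᵥ v₀ = v₀ + (l * f a₀ w) • w := by
        rw [ut_mulVec hf hww]
        congr 3
        rw [← hab, u_add_left hf, (hUW b₀ hb₀ w hw).1, add_zero]
      have h1 := extend _ (by rw [mem_isoGrp.1 (ut_mem_iso hf hww hl)]; exact hv₀v₀)
        (hv₀M.conj hf hv₀v₀ (utW w hw hww l hl) (ut_mem_iso hf hww hl))
        (a₀ + (l * f a₀ w) • w) (W.add_mem ha₀ (W.smul_mem _ hw)) b₀ hb₀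
        (by rw [e1, ← hab]; abel) hb₀0
      rw [e1] at h1
      have h2 := Z.smul_mem (l * f a₀ w)⁻¹ ((Submodule.add_mem_iff_right Z hv₀Z).1 h1)
      rwa [inv_smul_smul₀ (mul_ne_zero hl0 hne)] at h2
    obtain ⟨w₁, hw₁, hw₁₁, hw₁a⟩ : ∃ w ∈ W, f w w = 0 ∧ f a₀ w ≠ 0 := by
      by_contra hcon
      push Not at hcon
      exact ha₀0 (hW a₀ ha₀ (Unitary.exists_add_isotropic hF hW (by omega) hcon
        fun w _ w' _ h1 h2 => by
          show f a₀ (w + w') = 0
          rw [u_add_right hf, show f a₀ w = 0 from h1, show f a₀ w' = 0 from h2, add_zero]))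
    refine fun x hx => Unitary.exists_add_isotropic hF hW (by omega) (p := (· ∈ Z))
      (fun w hw hww => ?_) (fun w _ w' _ h1 h2 => Z.add_mem h1 h2) x hx
    by_cases hwa : f a₀ w = 0
    swap
    · exact moved w hw hww hwa
    obtain ⟨t, ht0, ht⟩ : ∃ t : F, t ≠ 0 ∧ f (w + t • w₁) (w + t • w₁) = 0 := by
      by_cases hr : f w w₁ = 0
      · refine ⟨1, one_ne_zero, ?_⟩
        rw [one_smul, u_add_left hf, u_add_right hf, u_add_right hf, show f w w = 0 from hww,
          show f w₁ w₁ = 0 from hw₁₁, hr, u_symm_zero hf hr]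
        ring
      · obtain ⟨s, hs0, hs⟩ := exists_skew_ne_zero hf
        refine ⟨σ (s / f w w₁),
          fun h => div_ne_zero hs0 hr ((map_eq_zero_iff σ σ.injective).1 h), ?_⟩
        rw [u_add_left hf, u_add_right hf, u_add_right hf, u_smul_left hf, u_smul_left hf,
          u_smul_right hf, u_smul_right hf, show f w w = 0 from hww,
          show f w₁ w₁ = 0 from hw₁₁, u_inv hf, div_mul_cancel₀ _ hr, ← u_conj hf w w₁, ← map_mul,
          div_mul_cancel₀ _ hr, hs]
        ring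
    have h1 := moved _ (W.add_mem hw (W.smul_mem t hw₁)) ht (by
      rw [u_add_right hf, hwa, zero_add, u_smul_right hf]
      exact mul_ne_zero (fun h => ht0 ((map_eq_zero_iff σ σ.injective).1 h)) hw₁a)
    have h2 := Z.sub_mem h1 (Z.smul_mem t (moved w₁ hw₁ hw₁₁ hw₁a))
    rwa [add_sub_cancel_right] at h2
  have htop : ∀ x, x ∈ Z := fun x => by
    obtain ⟨a, ha, b, hb, rfl⟩ := split x
    exact Z.add_mem (hWZ ha) (hUZ hb)
  exact Or.inr (le_antisymm hMG (hgen M fun x hx => hZ x (htop x) hx))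

/-- Let F be the field with q² elements and n ≥ 13. In SU_n(q) (determinant-one isometries of the standard unitary form on F^n) the stabiliser of a non-zero subspace W on which the form is non-degenerate and with 2 dim W < n is a maximal subgroup. -/
theorem result {F : Type*} [Field F] [Fintype F] (n q : ℕ) (hF : Fintype.card F = q ^ 2) (hn : 13 ≤ n) (W : Submodule F (Fin n → F)) (hW0 : W ≠ ⊥) (hW : Cfsg.Geo.IsNondegenerateOn (Cfsg.hermForm n F q) W) (hdim : 2 * Module.finrank F W < n) : Cfsg.Geo.IsMaximalIn (Cfsg.GU n F q ⊓ Cfsg.Geo.specialLinear (Fin n) F) (Cfsg.Geo.subspaceStabilizer W ⊓ (Cfsg.GU n F q ⊓ Cfsg.Geo.specialLinear (Fin n) F)) := by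
  obtain ⟨σ, hσ, hf⟩ := isUnitaryForm_hermForm (n := n) hF
  refine main hF hf hn _ rfl (fun M h => su_le_of_ut hF (by omega) hσ hf h) W hW0 ?_ hdim
  intro u hu h
  by_contra h0
  obtain ⟨x, hx, hne⟩ := (hW u hu h0).2
  exact hne (h x hx)

end Cfsg.Agent.S5654
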