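import Cfsg.Statements.S5656
import Cfsg.Agent.H95.SubspaceStab
import Cfsg.Agent.Unitary.Basis

set_option autoImplicit false
open Cfsg

namespace Cfsg.Agent.S5656

open scoped MatrixGroups Matrix
open Matrix Cfsg.Agent.H95 Cfsg.Agent.Unitary

/-- Let F be the field with 4 elements (q = 2) and n ≥ 13. Let D be a decomposition of F^n into t pairwise orthogonal 2-dimensional subspaces, each non-degenerate for the standard unitary form Σ u_i v_i². Then the elements of SU_n(2) permuting the members of D form a subgroup that is not maximal: some subgroup lies strictly between it and SU_n(2). -/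
theorem result {F : Type*} [Field F] [Fintype F] (n : ℕ) (hF : Fintype.card F = 4) (hn : 13 ≤ n) {t : ℕ} (D : Fin t → Submodule F (Fin n → F)) (hD : Cfsg.Geo.IsNondegenerateMDecomposition (Cfsg.hermForm n F 2) 2 D) : ∃ K : Subgroup (Matrix.GeneralLinearGroup (Fin n) F), Cfsg.Geo.decompositionStabilizer D ⊓ (Cfsg.GU n F 2 ⊓ Cfsg.Geo.specialLinear (Fin n) F) < K ∧ K < (Cfsg.GU n F 2 ⊓ Cfsg.Geo.specialLinear (Fin n) F) := by
  classical
  have hF2 : Fintype.card F = 2 ^ 2 := by rw [hF]; norm_num
  have h2 : (2 : F) = 0 := by exact_mod_cast natCast_q_eq_zero (q := 2) hF2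
  set h := hermForm n F 2 with hh
  set SU := Cfsg.GU n F 2 ⊓ Geo.specialLinear (Fin n) F with hSU
  set S := Geo.decompositionStabilizer D ⊓ SU with hS
  set A : Set (Fin n → F) := {v | ∃ i, v ∈ D i ∧ h v v ≠ 0} with hA
  have hk := hD.decomp.finrank_eq
  have hne : ∀ i, D i ≠ ⊥ := fun i e => by
    have := hk i
    rw [e, finrank_bot] at this
    omega
  have hnd : ∀ i, Unitary.Nondeg 2 (D i) := fun i u hu h0 => by
    by_contra hu0
    obtain ⟨-, v, hv, hv'⟩ := hD.nondegenerate i u hu hu0
    exact hv' (h0 v hv)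
  have horth : ∀ i j, i ≠ j → ∀ u ∈ D i, ∀ v ∈ D j, h u v = 0 :=
    fun i j hij u hu v hv => hD.orthogonal i j hij u hu v hv
  have hinj : ∀ i j, ∀ v ∈ D i, v ∈ D j → v ≠ 0 → i = j := by
    intro i j v hi hj hv
    by_contra hij
    exact hv (hnd i v hi fun w hw => horth j i (Ne.symm hij) v hj w hw)
  have hfix : ∀ c : F, c ^ 2 = c → c ≠ 0 → c = 1 := fun c hc hc0 =>
    mul_left_cancel₀ hc0 (by rw [← sq, hc, mul_one])
  have hcube : ∀ c : F, c ≠ 0 → c * c ^ 2 = 1 := fun c hc => by
    have := FiniteField.pow_card_sub_one_eq_one c hc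
    rw [hF] at this
    rw [← this]; ring
  -- anisotropic vectors of a member
  have hstruct : ∀ i, ∀ a ∈ D i, h a a = 1 → ∀ v ∈ D i, h v v ≠ 0 →
      h v a = 0 ∨ v = h v a • a := by
    intro i a ha ha1 v hv hv0
    by_cases hva : h v a = 0
    · exact Or.inl hva
    right
    set w := v - h v a • a with hw
    have hwa : h w a = 0 := by
      rw [hw, hh, herm_sub_left, herm_smul_left, ← hh, ha1]; ring
    rw [← sub_eq_zero, ← hw]
    by_contra hw0
    have hwD : w ∈ D i := (D i).sub_mem hv ((D i).smul_mem _ ha)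
    have haw : h a w = 0 := (herm_eq_zero_symm hF2).1 hwa
    -- the norm of `w` is zero
    have hww : h w w = 0 := by
      by_contra hww
      have h1 : h w w = 1 := hfix _ (herm_self_fixed hF2 w) hww
      apply hv0
      have e : v = h v a • a + w := by rw [hw]; abel
      rw [e, hh, herm_self_add hF2, herm_self_smul, herm_smul_left, ← hh, ha1, haw, h1,
        hcube _ hva]
      simp only [mul_zero, zero_pow two_ne_zero, mul_one, add_zero]
      linear_combination h2
    refine hw0 (hnd i w hwD fun z hz => ?_)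
    have hspan : Submodule.span F {a, w} = D i := by
      refine Submodule.eq_of_le_of_finrank_eq (Submodule.span_le.2 ?_) ?_
      · intro x hx
        rcases hx with rfl | rfl <;> assumption
      · have hli : LinearIndependent F ![a, w] := by
          rw [LinearIndependent.pair_iff]
          intro c d hcd
          have e1 : h (c • a + d • w) a = 0 := by rw [hcd]; exact herm_zero_left _
          rw [hh, herm_add_left, herm_smul_left, herm_smul_left, ← hh, ha1, hwa] at e1
          have hc : c = 0 := by linear_combination e1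
          rw [hc, zero_smul, zero_add] at hcd
          exact ⟨hc, (smul_eq_zero.1 hcd).resolve_right hw0⟩
        have := finrank_span_eq_card hli
        rw [Matrix.range_cons_cons_empty, Fintype.card_fin] at this
        rw [hk]
        exact this
    rw [← hspan, Submodule.mem_span_pair] at hz
    obtain ⟨c, d, rfl⟩ := hz
    rw [herm_add_right hF2, herm_smul_right, herm_smul_right, ← hh, hwa, hww]
    ring
  set K := Cfsg.stabilizing (Cfsg.glToMat (Fin n) F) A ⊓ SU with hK
  have hpres : ∀ g : GL (Fin n) F, g ∈ SU → ∀ u v,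
      h ((g : Matrix (Fin n) (Fin n) F) *ᵥ u) ((g : Matrix (Fin n) (Fin n) F) *ᵥ v) = h u v :=
    fun g hg => hg.1
  have hfwd : ∀ g ∈ S, ∀ v ∈ A, (g : Matrix (Fin n) (Fin n) F) *ᵥ v ∈ A := by
    rintro g ⟨⟨σ, hσ⟩, hg⟩ v ⟨i, hi, hv⟩
    exact ⟨σ i, hσ i ▸ ⟨v, hi, by simp⟩, by rwa [hpres g hg]⟩
  have hSK : S ≤ K := fun g hg => ⟨fun v => ⟨hfwd g hg v, fun hv => by
    have := hfwd g⁻¹ (S.inv_mem hg) _ hv
    rwa [Units.coeHom_apply, inv_mulVec_mulVec] at this⟩, hg.2⟩
  -- transvections along isotropic vectors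
  have hdot : ∀ d x : Fin n → F, (fun j => d j ^ 2) ⬝ᵥ x = h x d := fun d x =>
    Finset.sum_congr rfl fun j _ => mul_comm _ _
  have hT : ∀ d : Fin n → F, h d d = 0 → ∃ g ∈ SU, ∀ x,
      (g : Matrix (Fin n) (Fin n) F) *ᵥ x = x + h x d • d := by
    intro d hd
    have h0 : (fun j => d j ^ 2) ⬝ᵥ d = 0 := by rw [hdot, hd]
    refine ⟨tv d _ h0, ⟨fun u v => ?_, tv_mem_specialLinear _ _ _⟩, fun x => by rw [tv_mulVec, hdot]⟩
    rw [Units.coeHom_apply, tv_mulVec, tv_mulVec, hdot, hdot]
    simp only [hh, herm_add_left, herm_smul_left, herm_add_right hF2, herm_smul_right]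
    rw [← hh, hd, show h v d ^ 2 = h d v from herm_swap hF2 v d]
    linear_combination (h u d * h d v) * h2
  have ht : 4 ≤ t := by
    have h1 := Module.finrank_eq_card_basis
      (((DirectSum.isInternal_submodule_iff_iSupIndep_and_iSup_eq_top D).2
        ⟨hD.decomp.indep, hD.decomp.iSup_eq_top⟩).collectedBasis
        (fun i => Module.finBasisOfFinrankEq F (D i) (hk i)))
    rw [Module.finrank_fin_fun] at h1
    simp at h1
    omega
  choose a ha ha1' using fun i => exists_norm_one hF2 (hnd i) (hne i)
  have ha1 : ∀ i, h (a i) (a i) = 1 := ha1'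
  set i0 : Fin t := ⟨0, by omega⟩
  set i1 : Fin t := ⟨1, by omega⟩
  set i2 : Fin t := ⟨2, by omega⟩
  set i3 : Fin t := ⟨3, by omega⟩
  have ha0 : ∀ i, a i ≠ 0 := fun i e => by
    have := ha1 i
    rw [e, hh, herm_zero_left] at this
    exact zero_ne_one this
  have h01 : i0 ≠ i1 := by simp [i0, i1]
  have h02 : i0 ≠ i2 := by simp [i0, i2]
  have h03 : i0 ≠ i3 := by simp [i0, i3]
  have h12 : i1 ≠ i2 := by simp [i1, i2]
  have h13 : i1 ≠ i3 := by simp [i1, i3]
  have h23 : i2 ≠ i3 := by simp [i2, i3]
  refine ⟨K, lt_of_le_of_ne hSK fun hEq => ?_, lt_of_le_of_ne inf_le_right fun hEq => ?_⟩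
  · set d := a i0 + a i1 with hdd
    have hd : h d d = 0 := by
      rw [hdd, hh, herm_self_add hF2, ← hh, ha1, ha1, horth _ _ h01 _ (ha i0) _ (ha i1)]
      simp only [zero_pow two_ne_zero, add_zero]
      linear_combination h2
    obtain ⟨g, hg, hgx⟩ := hT d hd
    have hgA : ∀ v ∈ A, (g : Matrix (Fin n) (Fin n) F) *ᵥ v ∈ A := by
      rintro v ⟨i, hi, hv⟩
      rw [hgx]
      -- the two interesting members behave in the same way
      have hside : ∀ j k, j ≠ k → d = a j + a k → i = j → v + h v d • d ∈ A := by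
        rintro j k hjk hdjk rfl
        have hvd : h v d = h v (a i) := by
          rw [hdjk, hh, herm_add_right hF2, ← hh, horth _ _ hjk v hi _ (ha k), add_zero]
        rw [hvd]
        rcases hstruct i (a i) (ha i) (ha1 i) v hi hv with h0 | h0
        · rw [h0, zero_smul, add_zero]; exact ⟨i, hi, hv⟩
        · have hc : h v (a i) ≠ 0 := fun e => by
            rw [e, zero_smul] at h0
            rw [h0, hh, herm_zero_left] at hv
            exact hv rfl
          refine ⟨k, ?_, ?_⟩
          · have e : v + h v (a i) • d = h v (a i) • a k := by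
              nth_rw 1 [h0]
              rw [hdjk, smul_add]
              funext l
              simp only [Pi.add_apply, Pi.smul_apply, smul_eq_mul]
              linear_combination (h v (a i) * a i l) * h2
            rw [e]
            exact (D k).smul_mem _ (ha k)
          · rw [← hvd, ← hgx, hpres g hg]
            exact hv
      rcases eq_or_ne i i0 with hi0 | hi0
      · exact hside i0 i1 h01 hdd hi0
      rcases eq_or_ne i i1 with hi1 | hi1
      · exact hside i1 i0 h01.symm (by rw [hdd, add_comm]) hi1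
      · have hvd : h v d = 0 := by
          rw [hdd, hh, herm_add_right hF2, ← hh, horth _ _ hi0 v hi _ (ha i0),
            horth _ _ hi1 v hi _ (ha i1), add_zero]
        rw [hvd, zero_smul, add_zero]
        exact ⟨i, hi, hv⟩
    have hgg : ∀ x, (g : Matrix (Fin n) (Fin n) F) *ᵥ ((g : Matrix (Fin n) (Fin n) F) *ᵥ x) = x := by
      intro x
      rw [hgx, hgx]
      simp only [hh, herm_add_left, herm_smul_left]
      rw [← hh, hd, mul_zero, add_zero]
      funext l
      simp only [Pi.add_apply, Pi.smul_apply, smul_eq_mul]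
      linear_combination (h x d * d l) * h2
    have hgK : g ∈ K := ⟨fun v => ⟨hgA v, fun hv => by
      have := hgA _ hv
      rwa [Units.coeHom_apply, hgg] at this⟩, hg⟩
    rw [← hEq] at hgK
    obtain ⟨σ, hσ⟩ := hgK.1
    have hga : (g : Matrix (Fin n) (Fin n) F) *ᵥ a i0 = a i1 := by
      rw [hgx, hdd, hh, herm_add_right hF2, ← hh, ha1, horth _ _ h01 _ (ha i0) _ (ha i1), add_zero,
        one_smul]
      funext l
      simp only [Pi.add_apply]
      linear_combination a i0 l * h2
    have e1 : σ i0 = i1 :=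
      hinj _ _ _ (hσ i0 ▸ ⟨a i0, ha i0, by simpa using hga⟩) (ha i1) (ha0 i1)
    -- a vector of the first member orthogonal to `a i0`
    obtain ⟨w, hw, hw0, hwa⟩ : ∃ w ∈ D i0, w ≠ 0 ∧ h w (a i0) = 0 := by
      by_contra hcon
      push Not at hcon
      have hle : D i0 ≤ Submodule.span F {a i0} := by
        intro x hx
        rw [Submodule.mem_span_singleton]
        refine ⟨h x (a i0), ?_⟩
        by_contra hne'
        refine hcon (x - h x (a i0) • a i0) ((D i0).sub_mem hx ((D i0).smul_mem _ (ha i0)))
          (sub_ne_zero.2 (Ne.symm hne')) ?_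
        rw [hh, herm_sub_left, herm_smul_left, ← hh, ha1]; ring
      have := Submodule.finrank_mono hle
      rw [hk, finrank_span_singleton (ha0 i0)] at this
      omega
    have hgw : (g : Matrix (Fin n) (Fin n) F) *ᵥ w = w := by
      rw [hgx, hdd, hh, herm_add_right hF2, ← hh, hwa, horth _ _ h01 w hw _ (ha i1), add_zero,
        zero_smul, add_zero]
    have e2 : σ i0 = i0 := hinj _ _ _ (hσ i0 ▸ ⟨w, hw, by simpa using hgw⟩) hw hw0
    exact h01 (e2.symm.trans e1)
  · set d := a i0 + a i1 + a i2 + a i3 with hdd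
    have o01 := horth _ _ h01 _ (ha i0) _ (ha i1)
    have o02 := horth _ _ h02 _ (ha i0) _ (ha i2)
    have o03 := horth _ _ h03 _ (ha i0) _ (ha i3)
    have hd : h d d = 0 := by
      rw [hdd, hh, herm_self_add hF2, herm_self_add hF2, herm_self_add hF2]
      simp only [herm_add_left, ← hh, ha1, o01, o02, o03, horth _ _ h12 _ (ha i1) _ (ha i2),
        horth _ _ h13 _ (ha i1) _ (ha i3), horth _ _ h23 _ (ha i2) _ (ha i3), add_zero,
        zero_pow two_ne_zero]
      linear_combination 2 * h2
    obtain ⟨g, hg, hgx⟩ := hT d hd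
    have hgK : g ∈ K := hEq.symm ▸ hg
    obtain ⟨i, hi, -⟩ := (hgK.1 (a i0)).1 ⟨i0, ha i0, by rw [ha1]; exact one_ne_zero⟩
    rw [Units.coeHom_apply, hgx, hdd] at hi
    simp only [hh, herm_add_right hF2] at hi
    rw [← hh, ha1, o01, o02, o03, add_zero, add_zero, add_zero, one_smul] at hi
    -- `v = a i0 + d` has non-zero products with two members
    have hv1 : ∀ j ∈ [i1, i2], h (a i0 + (a i0 + a i1 + a i2 + a i3)) (a j) = 1 := by
      intro j hj
      simp only [List.mem_cons, List.not_mem_nil, or_false] at hj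
      rcases hj with rfl | rfl
      · simp only [hh, herm_add_left]
        rw [← hh, ha1, o01, horth _ _ h12.symm _ (ha i2) _ (ha i1),
          horth _ _ h13.symm _ (ha i3) _ (ha i1)]
        ring
      · simp only [hh, herm_add_left]
        rw [← hh, ha1, o02, horth _ _ h12 _ (ha i1) _ (ha i2),
          horth _ _ h23.symm _ (ha i3) _ (ha i2)]
        ring
    have key : ∀ j ∈ [i1, i2], i = j := fun j hj => by
      by_contra hij
      have := hv1 j hj
      rw [horth i j hij _ hi _ (ha j)] at this
      exact zero_ne_one this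
    exact h12 ((key i1 (by simp)).symm.trans (key i2 (by simp)))

end Cfsg.Agent.S5656
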