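import Cfsg.Statements.S5663
import Cfsg.Agent.Aschbacher.UnitTheorem

set_option autoImplicit false
open Cfsg

namespace Cfsg.Agent.S5663

/-- Subgroup structure of the finite unitary groups. Let F be the field with q² elements and n ≥ 3 with (n, q) ≠ (3, 2), and let SU_n(q) be the group of matrices of determinant one preserving the standard unitary form Σ u_i v_i^q on F^n. Let H be a subgroup of SU_n(q) whose product with the scalar matrices in SU_n(q) is not all of SU_n(q) (H does not cover PSU_n(q)). Then either H is contained in a member of one of the geometric classes of subgroups of the unitary group GU_n(q) (with the conditions built into InUnitaryClass), or H is in the residual class: modulo scalars it is almost simple, and the perfect preimage of its socle acts absolutely irreducibly, is realisable over no proper subfield of F, and fixes no non-degenerate quadratic form and no non-degenerate symplectic form on F^n. -/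
theorem result {F : Type*} [Field F] [Fintype F] (n q : ℕ) (hF : Fintype.card F = q ^ 2) (hn : 3 ≤ n) (hex : ¬ (n = 3 ∧ q = 2)) (H : Subgroup (Matrix.GeneralLinearGroup (Fin n) F)) (hH : H ≤ (Cfsg.GU n F q ⊓ Cfsg.Geo.specialLinear (Fin n) F)) (hproper : H ⊔ (Cfsg.Geo.scalars (Fin n) F ⊓ (Cfsg.GU n F q ⊓ Cfsg.Geo.specialLinear (Fin n) F)) ≠ (Cfsg.GU n F q ⊓ Cfsg.Geo.specialLinear (Fin n) F)) : (∃ M : Subgroup (Matrix.GeneralLinearGroup (Fin n) F), Cfsg.Geo.InUnitaryClass n F q M ∧ H ≤ M) ∨ Cfsg.Geo.InUnitaryResidualClass H := by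
  have hI : H ≤ Cfsg.GU n F q := le_trans hH inf_le_left
  have hf := Cfsg.Agent.Aschbacher.formSpace_hermForm hF n
  cases Cfsg.Agent.Aschbacher.unitary_aschbacher hF hf (by simp; omega)
    (Cfsg.Agent.Aschbacher.fixesForm_of_le_GU hI) with
  | ts W h0 hts h =>
      exact Or.inl ⟨_, Or.inl (Or.inl ⟨W, h0, hts, rfl⟩), le_inf h hI⟩
  | nd W h0 hnd hk h =>
      exact Or.inl ⟨_, Or.inl (Or.inr <| Or.inl ⟨W, h0, hnd, by simpa using hk, rfl⟩), le_inf h hI⟩
  | decomp t k D hD _ h =>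
      exact Or.inl ⟨_, Or.inl (Or.inr <| Or.inr <| Or.inl ⟨t, k, D, hD, rfl⟩), le_inf h hI⟩
  | tsPair k D hk hD hts h =>
      exact Or.inl ⟨_, Or.inl (Or.inr <| Or.inr <| Or.inr <| Or.inl
        ⟨k, D, by simpa using hk, hD, hts, rfl⟩), le_inf h hI⟩
  | fieldU r K hr hodd _ hK hA h =>
      exact Or.inl ⟨_, Or.inr <| Or.inl ⟨r, K, hr, hodd, hK, hA, rfl⟩, le_inf h hI⟩
  | tensor n₁ n₂ e P f₁ f₂ h1 h2 _ hf₁ hf₂ hs h =>
      exact Or.inl ⟨_, Or.inr <| Or.inr <| Or.inl ⟨n₁, n₂, e, P, f₁, f₂, h1, h2, hf₁, hf₂, hs, rfl⟩,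
        le_inf h hI⟩
  | subfld hsub =>
      rcases hsub with ⟨F₁, r, B, hr, hodd, hc, hrat, h⟩ | ⟨F₁, B, hq, hc, hrat, h⟩ |
        ⟨F₁, B, ζ, hev, hc, hζ, hζ', hrat, halt, h⟩
      · exact Or.inl ⟨_, Or.inl (Or.inr <| Or.inr <| Or.inr <| Or.inr <| Or.inl
          ⟨F₁, r, B, hr, hodd, hc, hrat, rfl⟩), le_inf h hI⟩
      · exact Or.inl ⟨_, Or.inl (Or.inr <| Or.inr <| Or.inr <| Or.inr <| Or.inr <| Or.inl
          ⟨F₁, B, hq, hc, hrat, rfl⟩), le_inf h hI⟩
      · exact Or.inl ⟨_, Or.inl (Or.inr <| Or.inr <| Or.inr <| Or.inr <| Or.inr <| Or.inr <| Or.inl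
          ⟨F₁, B, ζ, by simpa using hev, hc, hζ, hζ', hrat, halt, rfl⟩), le_inf h hI⟩
  | symp r p e k R hR habs hsim _ hrp hmin hcase _ _ h =>
      exact Or.inl ⟨_, Or.inl (Or.inr <| Or.inr <| Or.inr <| Or.inr <| Or.inr <| Or.inr <| Or.inr
        ⟨r, R, p, e, k, hR, habs, hsim, hrp, hmin, hcase, rfl⟩), le_inf h hI⟩
  | power k t e P f₁ hk ht hne _ hf₁ hs h =>
      exact Or.inl ⟨_, Or.inr <| Or.inr <| Or.inr ⟨k, t, e, P, f₁, hk, ht, hne, hf₁, hs, rfl⟩,
        le_inf h hI⟩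
  | residual h => exact Or.inr h

end Cfsg.Agent.S5663
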