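import Cfsg.Statements.S5666
import Cfsg.Agent.H24.Tensor.SpMain

set_option autoImplicit false
open Cfsg

namespace Cfsg.Agent.S5666

open Matrix

theorem even_of_symplectic {F : Type*} [Field F] (htwo : (2 : F) ≠ 0) {n : ℕ}
    {f : (Fin n → F) → (Fin n → F) → F} (hf : Cfsg.Geo.IsSymplecticForm f) : Even n := by
  by_contra hn
  rw [Nat.not_even_iff_odd] at hn
  have hT : (Cfsg.Geo.gramMatrix f)ᵀ = -Cfsg.Geo.gramMatrix f := Matrix.ext fun i j => hf.skew _ _
  have hdet := congrArg Matrix.det hT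
  rw [Matrix.det_transpose, Matrix.det_neg, Fintype.card_fin, hn.neg_one_pow, neg_one_mul] at hdet
  have h0 : (Cfsg.Geo.gramMatrix f).det = 0 :=
    (mul_eq_zero.1 (show (2 : F) * (Cfsg.Geo.gramMatrix f).det = 0 by linear_combination hdet)).resolve_left htwo
  obtain ⟨v, hv, hGv⟩ := Matrix.exists_mulVec_eq_zero_iff.2 h0
  obtain ⟨⟨x, hx⟩, -⟩ := hf.nondegenerate v hv
  refine hx ?_
  rw [← H96.sum_gram hf.bilinear x v]
  refine Finset.sum_eq_zero fun i _ => ?_
  have h1 := congrFun hGv i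
  simp only [Matrix.mulVec, dotProduct, Pi.zero_apply] at h1
  simp only [mul_assoc]
  rw [← Finset.mul_sum, h1, mul_zero]

/-- For a finite field F of odd order q and m ≥ 7, suppose the standard alternating form on F^(2m) is similar, through a change of basis P and a bijection of index sets e, to the tensor product of a non-degenerate symplectic form f₁ on F^(n₁) and a non-degenerate symmetric bilinear form f₂ on F^(n₂) with n₂ ≥ 3. Unless q = 3 and n₂ = 3, the elements of Sp_2m(F) in the stabiliser of this tensor decomposition (the conjugate by P of the Kronecker-product subgroup transported along e) form a maximal subgroup of Sp_2m(F). -/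
theorem result {F : Type*} [Field F] [Fintype F] (m : ℕ) (hm : 7 ≤ m) (hodd : Odd (Fintype.card F)) (n₁ n₂ : ℕ) (hn₂ : 3 ≤ n₂) (hex : ¬ (Fintype.card F = 3 ∧ n₂ = 3)) (e : (Fin m ⊕ Fin m) ≃ Fin n₁ × Fin n₂) (P : Matrix.GeneralLinearGroup (Fin m ⊕ Fin m) F) (f₁ : (Fin n₁ → F) → (Fin n₁ → F) → F) (f₂ : (Fin n₂ → F) → (Fin n₂ → F) → F) (hf₁ : Cfsg.Geo.IsSymplecticForm f₁) (hf₂ : Cfsg.Geo.IsSymmetricForm f₂) (hT : Cfsg.Geo.IsTensorFormStructure id (Cfsg.sympForm m F) f₁ f₂ e P) : Cfsg.Geo.IsMaximalIn (Cfsg.spGL m F) (Cfsg.Geo.tensorProductSubgroup n₁ n₂ e P ⊓ Cfsg.spGL m F) := by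
  have htwo : (2 : F) ≠ 0 := fun h => by
    have : CharP F 2 := CharTwo.of_one_ne_zero_of_two_eq_zero one_ne_zero h
    have h2 := FiniteField.even_card_of_char_two (F := F) ((CharP.eq F (ringChar.charP F) inferInstance))
    rw [Nat.odd_iff] at hodd
    omega
  have hev := even_of_symplectic htwo hf₁
  have hcard := Fintype.card_congr e
  simp only [Fintype.card_sum, Fintype.card_prod, Fintype.card_fin] at hcard
  have hf := H95.isSymplecticForm_sympForm (F := F) m
  rcases Nat.lt_or_ge n₁ 4 with h | h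
  · obtain ⟨k, hk⟩ := hev
    obtain rfl : n₁ = 2 := by
      rcases Nat.eq_zero_or_pos n₁ with h0 | h0
      · rw [h0, zero_mul] at hcard; omega
      · omega
    exact H98.TensorSymTwo.maximal hf hodd (by omega) e P f₁ f₂ hf₁ hf₂ hT
  · exact H24.Tensor.sp_maximal hf hodd h hn₂ hex e P f₁ f₂ hf₁ hf₂ hT

end Cfsg.Agent.S5666
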