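import Cfsg.Statements.S5667
import Cfsg.Agent.H99.SymmThree
import Cfsg.Agent.H95.Symp

set_option autoImplicit false
open Cfsg

namespace Cfsg.Agent.S5667

open Matrix Module Cfsg.Agent.H95 Cfsg.Agent.H99

/-- Over the field with 3 elements and for m ≥ 7, suppose the standard alternating form on F^(2m) is similar, through P and e, to the tensor product of a non-degenerate symplectic form f₁ on F^(n₁) and a non-degenerate symmetric bilinear form f₂ on F^3. Then the elements of Sp_2m(3) in the stabiliser of this tensor decomposition form a subgroup that is not maximal: some subgroup lies strictly between it and Sp_2m(3). -/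
theorem result {F : Type*} [Field F] [Fintype F] (m : ℕ) (hm : 7 ≤ m) (hq : Fintype.card F = 3) (n₁ : ℕ) (e : (Fin m ⊕ Fin m) ≃ Fin n₁ × Fin 3) (P : Matrix.GeneralLinearGroup (Fin m ⊕ Fin m) F) (f₁ : (Fin n₁ → F) → (Fin n₁ → F) → F) (f₂ : (Fin 3 → F) → (Fin 3 → F) → F) (hf₁ : Cfsg.Geo.IsSymplecticForm f₁) (hf₂ : Cfsg.Geo.IsSymmetricForm f₂) (hT : Cfsg.Geo.IsTensorFormStructure id (Cfsg.sympForm m F) f₁ f₂ e P) : ∃ K : Subgroup (Matrix.GeneralLinearGroup (Fin m ⊕ Fin m) F), Cfsg.Geo.tensorProductSubgroup n₁ 3 e P ⊓ Cfsg.spGL m F < K ∧ K < Cfsg.spGL m F := by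
  classical
  have hS := isSymplecticForm_sympForm (F := F) m
  obtain ⟨a, hdiag, horth, hmono⟩ := symm_three_frame hq hf₂
  obtain ⟨c, hc, hform⟩ := pure_form (σ := id) (fun _ _ => rfl) hT
  have hn1 : 0 < n₁ := by
    have h := Fintype.card_congr e
    simp only [Fintype.card_sum, Fintype.card_prod, Fintype.card_fin] at h
    rcases Nat.eq_zero_or_pos n₁ with rfl | h0
    · omega
    · exact h0
  let D : Framed (Cfsg.spGL m F) 3 :=
    { k := 3
      l := n₁
      t := (Cfsg.Agent.H99.pure e P).flip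
      f := Cfsg.sympForm m F
      inv := fun g hg u v => hg u v
      c := c
      hc := hc
      φ₁ := f₂
      φ₂ := f₁
      form := fun x y u v => by
        rw [LinearMap.flip_apply, LinearMap.flip_apply, hform, gram_eq hf₁.bilinear, gram_eq hf₂.bilinear]
        ring
      a := a
      diag := hdiag
      orth := horth
      sep := fun u hu => by
        by_contra h
        obtain ⟨y, hy⟩ := (hf₁.nondegenerate u h).2
        exact hy (hu y)
      zero_left := fun w => by
        have h := hf₁.bilinear.smul_left 0 0 w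
        rwa [zero_smul, zero_mul] at h
      lpos := hn1
      monomial := hmono }
  have hperp : ∀ i j : Fin 3, i ≠ j → ∀ x ∈ D.S i, ∀ y ∈ D.S j, Cfsg.sympForm m F x y = 0 := by
    rintro i j hij _ ⟨u, rfl⟩ _ ⟨v, rfl⟩
    have h := D.form (D.a i) (D.a j) u v
    rw [D.orth i j hij, mul_zero, zero_mul] at h
    exact h
  let u0 : Fin n₁ → F := Pi.single ⟨0, hn1⟩ 1
  have hu0 : u0 ≠ 0 := by simp [u0]
  obtain ⟨u1, hu1⟩ := (hf₁.nondegenerate u0 hu0).1
  have hne : ∀ j, D.t (D.a j) u0 ≠ 0 := fun j h => hu0 (D.injective_t j (h.trans (map_zero _).symm))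
  have hx : Cfsg.sympForm m F (D.t (D.a 0) u1) (D.t (D.a 0) u0) ≠ 0 := by
    have h := D.form (D.a 0) (D.a 0) u1 u0
    intro h0
    exact mul_ne_zero (mul_ne_zero D.hc (D.diag 0)) hu1 (h.symm.trans h0)
  refine D.not_maximal (T := Cfsg.Geo.tensorProductSubgroup n₁ 3 e P) (fun g hg => ?_) 0 1 (by decide) ?_ ?_
  · obtain ⟨A, B, h⟩ := pure_action hg
    exact ⟨B, A, fun x u => h u x⟩
  · refine ⟨rt hS (D.t (D.a 0) u0) 1, rt_mem_iso hS _ _, ?_, ?_, ⟨_, D.mem_S, hne 0, ?_⟩, _, D.mem_S (u := u1), ?_⟩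
    · intro j hj x hx'
      rw [rt_mulVec hS, hperp j 0 hj _ hx' _ D.mem_S, mul_zero, zero_smul, add_zero]
    · intro x hx'
      rw [rt_mulVec hS]
      exact Submodule.add_mem _ hx' (Submodule.smul_mem _ _ D.mem_S)
    · rw [rt_mulVec hS, hS.alternating, mul_zero, zero_smul, add_zero]
    · rw [rt_mulVec hS, one_mul]
      intro h
      exact hne 0 ((smul_eq_zero.1 (add_eq_left.1 h)).resolve_left hx)
  · refine ⟨rt hS (D.t (D.a 0) u0 + D.t (D.a 1) u0) 1, rt_mem_iso hS _ _, ⟨_, D.mem_S (u := u0), hne 0, ?_⟩,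
      _, D.mem_S (u := u1), ?_⟩
    · rw [rt_mulVec hS, f_add_right hS, hS.alternating, hperp 0 1 (by decide) _ D.mem_S _ D.mem_S, add_zero,
        mul_zero, zero_smul, add_zero]
    · rw [rt_mulVec hS, one_mul, f_add_right hS, hperp 0 1 (by decide) _ D.mem_S _ D.mem_S, add_zero, smul_add,
        ← add_assoc]
      intro h
      have h2 := Submodule.sub_mem _ h (Submodule.add_mem _ (D.mem_S (j := 0) (u := u1))
        (Submodule.smul_mem _ (Cfsg.sympForm m F (D.t (D.a 0) u1) (D.t (D.a 0) u0)) (D.mem_S (j := 0) (u := u0))))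
      rw [add_sub_cancel_left] at h2
      have h3 := D.disjoint (by decide : (0 : Fin 3) ≠ 1) h2 (Submodule.smul_mem _ _ D.mem_S)
      exact hne 1 ((smul_eq_zero.1 h3).resolve_left hx)

end Cfsg.Agent.S5667
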