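import Cfsg.Statements.S5668
import Cfsg.Agent.H24.Wreath.SpBridge
import Cfsg.Agent.H24.Wreath.FlatThree

set_option autoImplicit false
open Cfsg

namespace Cfsg.Agent.S5668

/-- For a finite field F of odd order q and m ≥ 7, suppose the standard alternating form on F^(2m) is similar, through a change of basis P and a bijection of index sets e, to the t-fold tensor power of a non-degenerate symplectic form f₁ on F^k, with t odd, t ≥ 3 and (q, k) ≠ (3, 2). Then the elements of Sp_2m(F) in the stabiliser of this decomposition (the conjugate by P of the standard tensor-wreath subgroup transported along e) form a maximal subgroup of Sp_2m(F). -/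
theorem result {F : Type*} [Field F] [Fintype F] (m : ℕ) (hm : 7 ≤ m) (hodd : Odd (Fintype.card F)) (k t : ℕ) (ht : Odd t) (ht3 : 3 ≤ t) (hex : ¬ (Fintype.card F = 3 ∧ k = 2)) (e : (Fin m ⊕ Fin m) ≃ (Fin t → Fin k)) (P : Matrix.GeneralLinearGroup (Fin m ⊕ Fin m) F) (f₁ : (Fin k → F) → (Fin k → F) → F) (hf₁ : Cfsg.Geo.IsSymplecticForm f₁) (hT : Cfsg.Geo.IsTensorPowerFormStructure id (Cfsg.sympForm m F) f₁ e P) : Cfsg.Geo.IsMaximalIn (Cfsg.spGL m F) (Cfsg.Geo.tensorWreathSubgroup k t e P ⊓ Cfsg.spGL m F) := by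
  have h2 : (2 : F) ≠ 0 := Ring.two_ne_zero fun h => by
    have := FiniteField.even_card_iff_char_two.1 h
    rw [Nat.odd_iff] at hodd
    omega
  refine H24.Wreath.sp_maximal h2 (by omega) ht ht3 e P f₁ hf₁ hT fun H hH hno => ?_
  by_cases h3 : Nat.card F = 3
  · have hk0 : k ≠ 0 := fun h => by
      subst h
      exact (e (Sum.inl ⟨0, by omega⟩) ⟨0, by omega⟩).elim0
    have : NeZero k := ⟨hk0⟩
    obtain ⟨j, hj⟩ := (H24.Wreath.gramOf h2 hf₁).even_dim
    have hk2 : k ≠ 2 := fun h => hex ⟨by rwa [← Nat.card_eq_fintype_card], h⟩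
    exact hH.flat_three (by omega) h3 hno
  · exact hH.flat_of_test (hH.test_of_pair h3 hno)

end Cfsg.Agent.S5668
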