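import Cfsg.Statements.S5671
import Cfsg.Agent.H99.TensorBlocks
import Cfsg.Agent.H95.SubspaceStab
import Cfsg.Agent.Unitary.Basis

set_option autoImplicit false
open Cfsg

namespace Cfsg.Agent.S5671

open Matrix Module Cfsg.Agent.H95 Cfsg.Agent.H99

section
variable {F : Type*} [Field F] [Fintype F] {k : ℕ} {f : (Fin k → F) → (Fin k → F) → F}

lemma two_zero (hF : Fintype.card F = 4) : (2 : F) = 0 := by
  have h := FiniteField.cast_card_eq_zero F
  rw [hF] at h
  exact mul_self_eq_zero.1 (by push_cast at h; linear_combination h)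

lemma pow_four_eq (hF : Fintype.card F = 4) (x : F) : x ^ 4 = x := by
  conv_rhs => rw [← FiniteField.pow_card x, hF]

lemma cube_cases (hF : Fintype.card F = 4) (x : F) : x ^ 3 = 0 ∧ x = 0 ∨ x ^ 3 = 1 ∧ x ≠ 0 := by
  by_cases hx : x = 0
  · exact Or.inl ⟨by simp [hx], hx⟩
  · exact Or.inr ⟨mul_left_cancel₀ hx (by rw [← pow_succ', pow_four_eq hF, mul_one]), hx⟩

lemma add_sq' (hF : Fintype.card F = 4) (a b : F) : (a + b) ^ 2 = a ^ 2 + b ^ 2 := by
  linear_combination a * b * two_zero hF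

lemma f_zero (hf : Cfsg.Geo.IsUnitaryFormPow 2 f) (w : Fin k → F) : f 0 w = 0 := by
  have h := hf.smul_left 0 0 w
  rwa [zero_smul, zero_mul] at h

lemma f_smul_right (hf : Cfsg.Geo.IsUnitaryFormPow 2 f) (c : F) (v x : Fin k → F) :
    f v (c • x) = c ^ 2 * f v x := by
  rw [hf.herm, hf.smul_left, mul_pow, ← hf.herm]

lemma f_add_right (hF : Fintype.card F = 4) (hf : Cfsg.Geo.IsUnitaryFormPow 2 f) (v x y : Fin k → F) :
    f v (x + y) = f v x + f v y := by
  rw [hf.herm, hf.add_left, add_sq' hF, ← hf.herm, ← hf.herm]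

lemma sum_form (hF : Fintype.card F = 4) (hf : Cfsg.Geo.IsUnitaryFormPow 2 f) (a b : Fin k → F) :
    Cfsg.Geo.formOfGram (fun x : F => x ^ 2) (Cfsg.Geo.gramMatrix f) a b = f a b := by
  let L : (Fin k → F) → ((Fin k → F) →ₗ[F] F) := fun w =>
    { toFun := fun x => f x w
      map_add' := fun x y => hf.add_left x y w
      map_smul' := fun c x => hf.smul_left c x w }
  have hL : ∀ x w, f x w = ∑ i, x i * f (Pi.single i 1) w := fun x w => by
    show L w x = ∑ i, x i * L w (Pi.single i 1)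
    conv_lhs => rw [pi_eq_sum_univ' x]
    simp only [map_sum, map_smul, smul_eq_mul]
  haveI : Fact (Nat.Prime 2) := ⟨Nat.prime_two⟩
  haveI : CharP F 2 := CharTwo.of_one_ne_zero_of_two_eq_zero one_ne_zero (two_zero hF)
  rw [hL a b]
  refine Finset.sum_congr rfl fun i _ => ?_
  rw [hf.herm, hL b, sum_pow_char 2, Finset.mul_sum]
  refine Finset.sum_congr rfl fun j _ => ?_
  rw [mul_pow, ← hf.herm]
  show a i * f (Pi.single i 1) (Pi.single j 1) * b j ^ 2 = _
  ring

lemma f_self_cases (hF : Fintype.card F = 4) (hf : Cfsg.Geo.IsUnitaryFormPow 2 f) (v : Fin k → F) :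
    f v v = 0 ∨ f v v = 1 := by
  have h := hf.herm v v
  have h2 : f v v * (f v v - 1) = 0 := by linear_combination -h
  rcases mul_eq_zero.1 h2 with h | h
  · exact Or.inl h
  · exact Or.inr (sub_eq_zero.1 h)

lemma exists_norm_one' (hF : Fintype.card F = 4) (hf : Cfsg.Geo.IsUnitaryFormPow 2 f) (hk : 0 < k) :
    ∃ v, f v v = 1 := by
  by_contra! h
  have h0 : ∀ v, f v v = 0 := fun v => (f_self_cases hF hf v).resolve_right (h v)
  have hfix : ∀ x y, f x y = f x y ^ 2 := fun x y => by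
    have h1 := h0 (x + y)
    rw [hf.add_left, f_add_right hF hf, f_add_right hF hf, h0, h0, hf.herm y x] at h1
    linear_combination h1 - f x y ^ 2 * two_zero hF
  let u : Fin k → F := Pi.single ⟨0, hk⟩ 1
  obtain ⟨-, y, hy⟩ := hf.nondegenerate u (by simp [u])
  obtain ⟨ω, hω0, hω1⟩ : ∃ ω : F, ω ≠ 0 ∧ ω ≠ 1 := by
    by_contra! h'
    classical
    have : (Finset.univ : Finset F) ⊆ {0, 1} := fun x _ => by
      by_cases hx : x = 0 <;> simp [hx, h' x]
    have := (Finset.card_le_card this).trans (Finset.card_le_two)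
    rw [Finset.card_univ, hF] at this
    omega
  have e1 : f u y = 1 := mul_left_cancel₀ hy (by rw [mul_one, ← sq, ← hfix])
  have e2 := hfix (ω • u) y
  rw [hf.smul_left, e1, mul_one] at e2
  exact hω1 (mul_left_cancel₀ hω0 (by rw [mul_one, ← sq, ← e2]))

lemma exists_perp (hf : Cfsg.Geo.IsUnitaryFormPow 2 f) (hk : 2 ≤ k) (v : Fin k → F) :
    ∃ w, w ≠ 0 ∧ f w v = 0 := by
  let L : (Fin k → F) →ₗ[F] F :=
    { toFun := fun x => f x v
      map_add' := fun x y => hf.add_left x y v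
      map_smul' := fun c x => hf.smul_left c x v }
  have h := L.finrank_range_add_finrank_ker
  have h1 := Submodule.finrank_le (LinearMap.range L)
  rw [Module.finrank_fin_fun] at h
  rw [Module.finrank_self] at h1
  obtain ⟨w, hw, hw0⟩ := Submodule.exists_mem_ne_zero_of_ne_bot (p := LinearMap.ker L)
    fun e => by rw [e, finrank_bot] at h; omega
  exact ⟨w, hw0, LinearMap.mem_ker.1 hw⟩

end

lemma frame_two {F : Type*} [Field F] [Fintype F] (hF : Fintype.card F = 4)
    {f : (Fin 2 → F) → (Fin 2 → F) → F} (hf : Cfsg.Geo.IsUnitaryFormPow 2 f) :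
    ∃ a : Fin 2 → Fin 2 → F, (∀ j, f (a j) (a j) = 1) ∧ (∀ i j, i ≠ j → f (a i) (a j) = 0) ∧
      ∀ A : GL (Fin 2) F,
        (∃ μ : F, ∀ x y, f ((A : Matrix (Fin 2) (Fin 2) F) *ᵥ x) ((A : Matrix (Fin 2) (Fin 2) F) *ᵥ y) = μ * f x y) →
        ∃ σ : Equiv.Perm (Fin 2), ∀ j, ∃ r : F, r ≠ 0 ∧ (A : Matrix (Fin 2) (Fin 2) F) *ᵥ a j = r • a (σ j) := by
  obtain ⟨u, hu⟩ := exists_norm_one' hF hf (by norm_num)
  obtain ⟨w, hw0, hwu⟩ := exists_perp hf le_rfl u
  have huw : f u w = 0 := by rw [hf.herm, hwu]; simp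
  have hlin : ∀ x : Fin 2 → F, ∃ c d : F, x = c • u + d • w := by
    intro x
    have hli : LinearIndependent F ![u, w] := by
      rw [LinearIndependent.pair_iff]
      intro c d hcd
      have h := congrArg (fun z => f z u) hcd
      simp only [hf.add_left, hf.smul_left, hu, hwu, f_zero hf, mul_one, mul_zero, add_zero] at h
      rw [h, zero_smul, zero_add] at hcd
      exact ⟨h, (smul_eq_zero.1 hcd).resolve_right hw0⟩
    have := hli.span_eq_top_of_card_eq_finrank (by simp)
    have hx : x ∈ Submodule.span F (Set.range ![u, w]) := this ▸ Submodule.mem_top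
    rw [Matrix.range_cons_cons_empty, Submodule.mem_span_pair] at hx
    obtain ⟨c, d, h⟩ := hx
    exact ⟨c, d, h.symm⟩
  have hw : f w w = 1 := (f_self_cases hF hf w).resolve_left fun h0 => by
    obtain ⟨y, hy⟩ := (hf.nondegenerate w hw0).2
    obtain ⟨c, d, rfl⟩ := hlin y
    apply hy
    rw [f_add_right hF hf, f_smul_right hf, f_smul_right hf, hwu, h0]
    ring
  let a : Fin 2 → Fin 2 → F := ![u, w]
  have hd : ∀ j, f (a j) (a j) = 1 := by intro j; fin_cases j <;> simp [a, hu, hw]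
  have ho : ∀ i j, i ≠ j → f (a i) (a j) = 0 := by
    intro i j hij
    fin_cases i <;> fin_cases j
    all_goals first
      | exact absurd rfl hij
      | exact huw
      | exact hwu
  refine ⟨a, hd, ho, fun A ⟨μ, hA⟩ => ?_⟩
  set M := (A : Matrix (Fin 2) (Fin 2) F) with hM
  set N := ((A⁻¹ : GL (Fin 2) F) : Matrix (Fin 2) (Fin 2) F) with hN
  have hNM : ∀ x, N *ᵥ (M *ᵥ x) = x := fun x => by
    rw [hM, hN, Matrix.mulVec_mulVec, ← Units.val_mul, inv_mul_cancel, Units.val_one, Matrix.one_mulVec]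
  have hMN : ∀ x, M *ᵥ (N *ᵥ x) = x := fun x => by
    rw [hM, hN, Matrix.mulVec_mulVec, ← Units.val_mul, mul_inv_cancel, Units.val_one, Matrix.one_mulVec]
  have hμ : μ = 1 := by
    have h := hA u u
    rw [hu, mul_one] at h
    rcases f_self_cases hF hf (M *ᵥ u) with h' | h'
    · exfalso
      have hμ0 : μ = 0 := h ▸ h'
      obtain ⟨y, hy⟩ := (hf.nondegenerate (M *ᵥ u) fun e => by
        have := congrArg (fun z => N *ᵥ z) e
        simp only [hNM, Matrix.mulVec_zero] at this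
        rw [this, f_zero hf] at hu
        exact zero_ne_one hu).2
      apply hy
      have h2 := hA u (N *ᵥ y)
      rw [hMN] at h2
      rw [h2, hμ0, zero_mul]
    · exact h ▸ h'
  have hex : ∀ j, ∃ l, ∃ r : F, r ≠ 0 ∧ M *ᵥ a j = r • a l := by
    intro j
    obtain ⟨c, d, hcd⟩ := hlin (M *ᵥ a j)
    have h := hA (a j) (a j)
    rw [hd, hμ, mul_one, hcd, hf.add_left, f_add_right hF hf, f_add_right hF hf, hf.smul_left, hf.smul_left,
      hf.smul_left, hf.smul_left, f_smul_right hf, f_smul_right hf, f_smul_right hf, f_smul_right hf, hu, hw, huw,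
      hwu] at h
    have h' : c ^ 3 + d ^ 3 = 1 := by linear_combination h
    rcases cube_cases hF c with ⟨hc3, hc⟩ | ⟨hc3, hc⟩ <;> rcases cube_cases hF d with ⟨hd3, hd'⟩ | ⟨hd3, hd'⟩ <;>
      rw [hc3, hd3] at h'
    · simp at h'
    · exact ⟨1, d, hd', by rw [hcd, hc, zero_smul, zero_add]; rfl⟩
    · exact ⟨0, c, hc, by rw [hcd, hd', zero_smul, add_zero]; rfl⟩
    · exact absurd (by linear_combination two_zero hF - h' : (1 : F) = 0) one_ne_zero
  choose s r hr hs using hex
  have hsinj : Function.Injective s := by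
    intro i j hij
    by_contra hne
    have h := hA (a i) (a j)
    rw [ho i j hne, mul_zero, hs, hs, hij, hf.smul_left, f_smul_right hf, hd, mul_one] at h
    exact mul_ne_zero (hr i) (pow_ne_zero 2 (hr j)) h
  exact ⟨Equiv.ofBijective s (Finite.injective_iff_bijective.1 hsinj), fun j => ⟨r j, hr j, hs j⟩⟩

/-- Let F be the field with 4 elements (q = 2) and n = 2 n₂ ≥ 13. Suppose the standard unitary form Σ u_i v_i² on F^n is similar, through P and e, to the tensor product of non-degenerate unitary forms f₁ on F^2 and f₂ on F^(n₂). Then the elements of SU_n(2) in the stabiliser of this tensor decomposition form a subgroup that is not maximal: some subgroup lies strictly between it and SU_n(2). -/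
theorem result {F : Type*} [Field F] [Fintype F] (n : ℕ) (hF : Fintype.card F = 4) (hn : 13 ≤ n) (n₂ : ℕ) (e : Fin n ≃ Fin 2 × Fin n₂) (P : Matrix.GeneralLinearGroup (Fin n) F) (f₁ : (Fin 2 → F) → (Fin 2 → F) → F) (f₂ : (Fin n₂ → F) → (Fin n₂ → F) → F) (hf₁ : Cfsg.Geo.IsUnitaryFormPow 2 f₁) (hf₂ : Cfsg.Geo.IsUnitaryFormPow 2 f₂) (hT : Cfsg.Geo.IsTensorFormStructure (fun x : F => x ^ 2) (Cfsg.hermForm n F 2) f₁ f₂ e P) : ∃ K : Subgroup (Matrix.GeneralLinearGroup (Fin n) F), Cfsg.Geo.tensorProductSubgroup 2 n₂ e P ⊓ (Cfsg.GU n F 2 ⊓ Cfsg.Geo.specialLinear (Fin n) F) < K ∧ K < (Cfsg.GU n F 2 ⊓ Cfsg.Geo.specialLinear (Fin n) F) := by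
  classical
  have hF2 : Fintype.card F = 2 ^ 2 := by rw [hF]; norm_num
  have h2 := two_zero hF
  obtain ⟨a, hd, ho, hmono⟩ := frame_two hF hf₁
  obtain ⟨c, hc, hform⟩ := pure_form (σ := fun x : F => x ^ 2) (fun x y => mul_pow x y 2) hT
  have hn2 : 7 ≤ n₂ := by
    have h := Fintype.card_congr e
    simp only [Fintype.card_prod, Fintype.card_fin] at h
    omega
  set SU := Cfsg.GU n F 2 ⊓ Cfsg.Geo.specialLinear (Fin n) F with hSU
  let D : Framed SU 2 :=
    { k := 2
      l := n₂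
      t := Cfsg.Agent.H99.pure e P
      f := Cfsg.hermForm n F 2
      inv := fun g hg u v => hg.1 u v
      c := c
      hc := hc
      φ₁ := f₁
      φ₂ := f₂
      form := fun x y u v => by rw [hform, sum_form hF hf₁, sum_form hF hf₂]
      a := a
      diag := fun j => by rw [hd]; exact one_ne_zero
      orth := ho
      sep := fun u hu => by
        by_contra h
        obtain ⟨y, hy⟩ := (hf₂.nondegenerate u h).2
        exact hy (hu y)
      zero_left := f_zero hf₂
      lpos := by omega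
      monomial := hmono }
  have hdot : ∀ d x : Fin n → F, (fun j => d j ^ 2) ⬝ᵥ x = Cfsg.hermForm n F 2 x d := fun d x =>
    Finset.sum_congr rfl fun j _ => mul_comm _ _
  have hTv : ∀ d : Fin n → F, Cfsg.hermForm n F 2 d d = 0 → ∃ g ∈ SU, ∀ x,
      (g : Matrix (Fin n) (Fin n) F) *ᵥ x = x + Cfsg.hermForm n F 2 x d • d := by
    intro d hdd
    have h0 : (fun j => d j ^ 2) ⬝ᵥ d = 0 := by rw [hdot, hdd]
    refine ⟨tv d _ h0, ⟨fun u v => ?_, tv_mem_specialLinear _ _ _⟩, fun x => by rw [tv_mulVec, hdot]⟩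
    rw [Units.coeHom_apply, tv_mulVec, tv_mulVec, hdot, hdot]
    simp only [Cfsg.Agent.Unitary.herm_add_left, Cfsg.Agent.Unitary.herm_smul_left,
      Cfsg.Agent.Unitary.herm_add_right hF2, Cfsg.Agent.Unitary.herm_smul_right]
    rw [hdd, show Cfsg.hermForm n F 2 v d ^ 2 = Cfsg.hermForm n F 2 d v from
      Cfsg.Agent.Unitary.herm_swap hF2 v d]
    linear_combination (Cfsg.hermForm n F 2 u d * Cfsg.hermForm n F 2 d v) * h2
  have hformS : ∀ i j u v, Cfsg.hermForm n F 2 (D.t (D.a i) u) (D.t (D.a j) v) =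
      if i = j then c * f₂ u v else 0 := by
    intro i j u v
    have h := D.form (D.a i) (D.a j) u v
    split_ifs with hij
    · subst hij
      exact h.trans (by show c * f₁ (a i) (a i) * f₂ u v = _; rw [hd, mul_one])
    · exact h.trans (by show c * f₁ (a i) (a j) * f₂ u v = _; rw [ho i j hij]; ring)
  obtain ⟨u, hu⟩ := exists_norm_one' hF hf₂ (by omega)
  obtain ⟨y, hy0, hyu⟩ := exists_perp hf₂ (by omega) u
  have huy : f₂ u y = 0 := by rw [hf₂.herm, hyu]; simp
  have hne : ∀ j v, v ≠ 0 → D.t (D.a j) v ≠ 0 := fun j v hv h => hv (D.injective_t j (h.trans (map_zero _).symm))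
  have hu0 : u ≠ 0 := fun h => by rw [h, f_zero hf₂] at hu; exact zero_ne_one hu
  obtain ⟨z, hz0, hz⟩ : ∃ z, z ≠ 0 ∧ f₂ z z = 0 := by
    rcases f_self_cases hF hf₂ y with h | h
    · exact ⟨y, hy0, h⟩
    · refine ⟨u + y, fun e => ?_, ?_⟩
      · have := congrArg (fun x => f₂ x u) e
        simp only [hf₂.add_left, hu, hyu, f_zero hf₂, add_zero] at this
        exact one_ne_zero this
      · rw [hf₂.add_left, f_add_right hF hf₂, f_add_right hF hf₂, hu, huy, hyu, h]
        linear_combination h2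
  refine D.not_maximal (T := Cfsg.Geo.tensorProductSubgroup 2 n₂ e P) (fun g hg => pure_action hg) 0 1 (by decide) ?_ ?_
  · obtain ⟨g, hg, hgx⟩ := hTv (D.t (D.a 0) z) (by rw [hformS, if_pos rfl, hz, mul_zero])
    refine ⟨g, hg, ?_, ?_, ⟨_, D.mem_S, hne 0 z hz0, ?_⟩, ?_⟩
    · rintro j hj _ ⟨v, rfl⟩
      rw [hgx, hformS, if_neg hj, zero_smul, add_zero]
    · intro x hx
      rw [hgx]
      exact Submodule.add_mem _ hx (Submodule.smul_mem _ _ D.mem_S)
    · rw [hgx, hformS, if_pos rfl, hz, mul_zero, zero_smul, add_zero]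
    · obtain ⟨v, hv⟩ := (hf₂.nondegenerate z hz0).1
      refine ⟨_, D.mem_S (u := v), fun h => ?_⟩
      rw [hgx, hformS, if_pos rfl] at h
      exact hne 0 z hz0 ((smul_eq_zero.1 (add_eq_left.1 h)).resolve_left (mul_ne_zero hc hv))
  · set d0 := D.t (D.a 0) u with hd0
    set d1 := D.t (D.a 1) u with hd1
    obtain ⟨g, hg, hgx⟩ := hTv (d0 + d1) (by
      simp only [hd0, hd1, Cfsg.Agent.Unitary.herm_add_left, Cfsg.Agent.Unitary.herm_add_right hF2, hformS,
        if_pos, hu, if_neg (show (0 : Fin 2) ≠ 1 by decide), if_neg (show (1 : Fin 2) ≠ 0 by decide)]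
      linear_combination c * h2)
    refine ⟨g, hg, ⟨_, D.mem_S, hne 0 y hy0, ?_⟩, d0, D.mem_S, ?_⟩
    · rw [hgx, Cfsg.Agent.Unitary.herm_add_right hF2, hformS, hformS, if_pos rfl,
        if_neg (show (0 : Fin 2) ≠ 1 by decide), hyu, mul_zero, zero_add, zero_smul, add_zero]
    · rw [hgx, Cfsg.Agent.Unitary.herm_add_right hF2, hd0, hd1, hformS, hformS, if_pos rfl,
        if_neg (show (0 : Fin 2) ≠ 1 by decide), hu, mul_one, add_zero, smul_add, ← add_assoc]
      intro h
      have h3 := Submodule.sub_mem _ h (Submodule.add_mem _ (D.mem_S (j := 0) (u := u))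
        (Submodule.smul_mem _ c (D.mem_S (j := 0) (u := u))))
      rw [add_sub_cancel_left] at h3
      have h4 := D.disjoint (by decide : (0 : Fin 2) ≠ 1) h3 (Submodule.smul_mem _ _ D.mem_S)
      exact hne 1 u hu0 ((smul_eq_zero.1 h4).resolve_left hc)

end Cfsg.Agent.S5671
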