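import Cfsg.Statements.S5673
import Cfsg.Agent.Aschbacher.OrthTheorem

set_option autoImplicit false
open Cfsg

namespace Cfsg.Agent.S5673

/-- Subgroup structure of the odd-dimensional orthogonal groups. Let F be a finite field of odd order and m ≥ 3, let Q be the standard quadratic form x₀² + Σ x_i y_i on F^(2m+1), and let Ω be the commutator subgroup of its isometry group, viewed inside GL_(2m+1)(F). Let H be a subgroup of Ω whose product with the scalar matrices in Ω is not all of Ω. Then either H is contained in a member of one of the geometric classes of subgroups of the isometry group (with the conditions built into InOrthogonalOddClass), or H is in the residual class: modulo scalars it is almost simple, and the perfect preimage of its socle acts absolutely irreducibly, is realisable over no proper subfield, and fixes no non-degenerate unitary form. -/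
theorem result {F : Type*} [Field F] [Fintype F] (hodd : Odd (Fintype.card F)) (m : ℕ) (hm : 3 ≤ m) (H : Subgroup (Matrix.GeneralLinearGroup (Unit ⊕ (Fin m ⊕ Fin m)) F)) (hH : H ≤ Cfsg.Geo.omegaGL (Cfsg.quadFormOdd m F)) (hproper : H ⊔ (Cfsg.Geo.scalars (Unit ⊕ (Fin m ⊕ Fin m)) F ⊓ Cfsg.Geo.omegaGL (Cfsg.quadFormOdd m F)) ≠ Cfsg.Geo.omegaGL (Cfsg.quadFormOdd m F)) : (∃ M : Subgroup (Matrix.GeneralLinearGroup (Unit ⊕ (Fin m ⊕ Fin m)) F), Cfsg.Geo.InOrthogonalOddClass m F M ∧ H ≤ M) ∨ Cfsg.Geo.InOrthogonalResidualClass H := by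
  have h2 : (2 : F) ≠ 0 := Cfsg.Agent.Aschbacher.odd_card_iff.mp hodd
  have hQ := Cfsg.Agent.Aschbacher.isNondegenerateQuadraticForm_odd (F := F) m h2
  have hI : H ≤ Cfsg.isometryGroup F (Cfsg.quadFormOdd m F) :=
    le_trans hH (Subgroup.map_subtype_le _)
  have hc : Fintype.card (Unit ⊕ (Fin m ⊕ Fin m)) = 2 * m + 1 := by simp; omega
  cases Cfsg.Agent.Aschbacher.orthogonal_aschbacher hQ h2 (by rw [hc]; exact odd_two_mul_add_one m)
    (by omega) (Cfsg.Agent.Aschbacher.polar_quadFormOdd_gram m)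
    (Cfsg.Agent.Aschbacher.fixesQuadForm_of_le_omegaGL hH) with
  | ts W h0 hts h =>
      exact Or.inl ⟨_, Or.inl ⟨W, h0, hts, rfl⟩, le_inf h hI⟩
  | nd W h0 htop hnd _ h =>
      exact Or.inl ⟨_, Or.inr <| Or.inl ⟨W, h0, htop, hnd, rfl⟩, le_inf h hI⟩
  | decomp t k D hk hD _ h =>
      exact Or.inl ⟨_, Or.inr <| Or.inr <| Or.inl ⟨t, k, D, hk, hD, rfl⟩, le_inf h hI⟩
  | frame D hp hD h =>
      exact Or.inl ⟨_, Or.inr <| Or.inr <| Or.inr <| Or.inl ⟨_, D, hp, hD, rfl⟩, le_inf h hI⟩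
  | fieldSA r K hr _ _ hne hK hsa h =>
      exact Or.inl ⟨_, Or.inr <| Or.inr <| Or.inr <| Or.inr <| Or.inl
        ⟨r, K, hr, by omega, hK, hsa, rfl⟩, le_inf h hI⟩
  | tensor n₁ n₂ e P f₁ f₂ h1 h12 _ hf₁ hf₂ hs h =>
      exact Or.inl ⟨_, Or.inr <| Or.inr <| Or.inr <| Or.inr <| Or.inr <| Or.inl
        ⟨n₁, n₂, e, P, f₁, f₂, h1, h12, hf₁, hf₂, hs, rfl⟩, le_inf h hI⟩
  | subfld F₀ r P hr hF hrat h =>
      exact Or.inl ⟨_, Or.inr <| Or.inr <| Or.inr <| Or.inr <| Or.inr <| Or.inr <| Or.inl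
        ⟨F₀, r, P, hr, hF, hrat, rfl⟩, le_inf h hI⟩
  | power k t e P f₁ hk _ ht hne _ hf₁ hs h =>
      exact Or.inl ⟨_, Or.inr <| Or.inr <| Or.inr <| Or.inr <| Or.inr <| Or.inr <| Or.inr
        ⟨k, t, e, P, f₁, hk, ht, hne, hf₁, hs, rfl⟩, le_inf h hI⟩
  | residual h => exact Or.inr h

end Cfsg.Agent.S5673
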