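import Cfsg.Statements.S5675
import Cfsg.Agent.H98.OrthMax.NondegWrap

set_option autoImplicit false
open Cfsg

namespace Cfsg.Agent.S5675

open Module Cfsg.Agent.Orthogonal Cfsg.Agent.H98.OrthMax

/-- Let F be a finite field of odd order q, m ≥ 6, Q the standard quadratic form on F^(2m+1) and Ω the commutator subgroup of its isometry group. Let W be a non-zero subspace of even dimension on which the polar form of Q is non-degenerate; exclude the case q = 3, dim W = 2 with Q vanishing on some line of W (a plus-type plane). Then the elements of Ω stabilising W (equivalently, stabilising its orthogonal complement, of odd dimension) form a maximal subgroup of Ω. -/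
theorem result {F : Type*} [Field F] [Fintype F] (hodd : Odd (Fintype.card F)) (m : ℕ) (hm : 6 ≤ m) (W : Submodule F (Unit ⊕ (Fin m ⊕ Fin m) → F)) (hW0 : W ≠ ⊥) (hev : Even (Module.finrank F W)) (hW : Cfsg.Geo.IsNondegenerateOn (QuadraticMap.polar (Cfsg.quadFormOdd m F)) W) (hex : ¬ (Fintype.card F = 3 ∧ Module.finrank F W = 2 ∧ Cfsg.Geo.IsPlusTypeOn (Cfsg.quadFormOdd m F) W)) : Cfsg.Geo.IsMaximalIn (Cfsg.Geo.omegaGL (Cfsg.quadFormOdd m F)) (Cfsg.Geo.subspaceStabilizer W ⊓ Cfsg.Geo.omegaGL (Cfsg.quadFormOdd m F)) := by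
  have h2 : (2 : F) ≠ 0 := fun h => by
    refine Ring.two_ne_zero (fun h1 => ?_) h
    have := FiniteField.even_card_of_char_two h1
    rw [Nat.odd_iff] at hodd
    omega
  have hQ := formOdd_nondeg F m h2
  have hd : finrank F (Unit ⊕ (Fin m ⊕ Fin m) → F) = 2 * m + 1 := by
    rw [Module.finrank_fintype_fun_eq_card]; simp; omega
  have hWn : Nondeg (restr (formOdd F m) W) := nondeg_restr_of_nondegenerateOn (Q := formOdd F m) hW
  have hr := hQ.finrank_add_perp W
  obtain ⟨i, hi⟩ := hev
  refine isMaximalIn_nondeg' hQ (by omega) hW0 (fun h => ?_) hWn (fun h => by omega) ?_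
  · rw [h, finrank_top] at hi
    omega
  rintro T (rfl | rfl) hT hx
  · obtain ⟨x, hxT, hx0, hx⟩ := hx
    by_contra hlt
    refine hex ⟨?_, hT, isPlusTypeOn_of_singular (Q := formOdd F m) hT hxT hx0 hx⟩
    have := Fintype.one_lt_card (α := F)
    rw [Nat.odd_iff] at hodd
    omega
  · omega

end Cfsg.Agent.S5675
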