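import Cfsg.Statements.S5676
import Cfsg.Agent.H96.FixedLine
import Cfsg.Agent.Orthogonal.StdForms
import Cfsg.Agent.Orthogonal.Witt

set_option autoImplicit false
open Cfsg

namespace Cfsg.Agent.S5676

open QuadraticMap Cfsg.Agent.Orthogonal Cfsg.Agent.H96

/-- Let F be the field with 3 elements, m ≥ 6, Q the standard quadratic form on F^(2m+1) and Ω the commutator subgroup of its isometry group. Let W be a 2-dimensional subspace on which the polar form is non-degenerate and which contains a line on which Q vanishes. Then the elements of Ω stabilising W form a subgroup that is not maximal: some subgroup lies strictly between it and Ω. -/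
theorem result {F : Type*} [Field F] [Fintype F] (hq : Fintype.card F = 3) (m : ℕ) (hm : 6 ≤ m) (W : Submodule F (Unit ⊕ (Fin m ⊕ Fin m) → F)) (hdim : Module.finrank F W = 2) (hW : Cfsg.Geo.IsNondegenerateOn (QuadraticMap.polar (Cfsg.quadFormOdd m F)) W) (hplus : Cfsg.Geo.IsPlusTypeOn (Cfsg.quadFormOdd m F) W) : ∃ K : Subgroup (Matrix.GeneralLinearGroup (Unit ⊕ (Fin m ⊕ Fin m)) F), Cfsg.Geo.subspaceStabilizer W ⊓ Cfsg.Geo.omegaGL (Cfsg.quadFormOdd m F) < K ∧ K < Cfsg.Geo.omegaGL (Cfsg.quadFormOdd m F) := by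
  have h2 : (2 : F) ≠ 0 := by
    have h := FiniteField.cast_card_eq_zero F
    rw [hq] at h
    intro h2
    exact one_ne_zero (α := F) (by push_cast at h; linear_combination h - h2)
  set Q : QuadraticForm F (Unit ⊕ (Fin m ⊕ Fin m) → F) := formOdd F m with hQdef
  have hN : Nondeg Q := formOdd_nondeg F m h2
  obtain ⟨U, hUW, hU, hUd⟩ := hplus
  rw [hdim] at hUd
  have hNW : Nondeg (restr Q W) := fun x hx => by
    by_contra hne
    obtain ⟨y, hy, hy'⟩ := (hW x x.2 (fun h => hne (Subtype.ext h))).2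
    exact hy' ((polar_restr (Q := Q) W x ⟨y, hy⟩).symm.trans (hx ⟨y, hy⟩))
  obtain ⟨e, heU, he0⟩ := U.exists_mem_ne_zero_of_ne_bot fun h => by
    rw [h, finrank_bot] at hUd; omega
  obtain ⟨f, hf, hef⟩ := hNW.exists_partner (u := ⟨e, hUW heU⟩)
    (fun h => he0 (congrArg Subtype.val h)) (hU e heU)
  rw [restr_apply] at hf
  rw [polar_restr] at hef
  have he : Q e = 0 := hU e heU
  have hWeq : Submodule.span F {e, (f : Unit ⊕ (Fin m ⊕ Fin m) → F)} = W := by
    refine Submodule.eq_of_le_of_finrank_eq ?_ ?_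
    · rw [Submodule.span_le]
      rintro x (rfl | rfl)
      · exact hUW heU
      · exact f.2
    · rw [hdim, finrank_hyperbolic_plane he hf hef]
  obtain ⟨h1, ⟨g, hg, hgX, hge⟩, h3⟩ := plane_stabiliser_not_maximal hN
    (by rw [Module.finrank_fintype_fun_eq_card]; simp; omega) (by omega) he hf hef
  refine exists_between Q _ (signStab Q (e + f)) (fun x _ hx => h1 x ?_) ⟨g, hg, hgX, ?_⟩ h3
  · rw [hWeq]
    exact ((mem_subspaceStabilizer_om Q W x).1 hx _).1 (W.add_mem (hUW heU) f.2)
  · intro hmem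
    rw [hWeq] at hge
    exact hge (((mem_subspaceStabilizer_om Q W g).1 hmem e).1 (hUW heU))

end Cfsg.Agent.S5676
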