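import Cfsg.Statements.S5677
import Cfsg.Agent.H98.OrthDecomp.Main
import Cfsg.Agent.H98.OrthMax.NondegWrap
import Cfsg.Agent.Orthogonal.StdForms

set_option autoImplicit false
open Cfsg

namespace Cfsg.Agent.S5677

open QuadraticMap Module Cfsg.Agent.Orthogonal

/-- Let F be a finite field of odd order q, m ≥ 6, Q the standard quadratic form on F^(2m+1) and Ω the commutator subgroup of its isometry group. Let D be a decomposition of F^(2m+1) into t ≥ 2 pairwise orthogonal, pairwise Q-isometric subspaces of equal dimension k > 1 on which the polar form is non-degenerate. Unless q = 3 and k = 3, the elements of Ω permuting the members of D form a maximal subgroup of Ω. -/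
theorem result {F : Type*} [Field F] [Fintype F] (hodd : Odd (Fintype.card F)) (m : ℕ) (hm : 6 ≤ m) {t : ℕ} (k : ℕ) (hk : 1 < k) (D : Fin t → Submodule F (Unit ⊕ (Fin m ⊕ Fin m) → F)) (hD : Cfsg.Geo.IsOrthogonalMDecomposition (Cfsg.quadFormOdd m F) k D) (hex : ¬ (Fintype.card F = 3 ∧ k = 3)) : Cfsg.Geo.IsMaximalIn (Cfsg.Geo.omegaGL (Cfsg.quadFormOdd m F)) (Cfsg.Geo.decompositionStabilizer D ⊓ Cfsg.Geo.omegaGL (Cfsg.quadFormOdd m F)) := by
  have h2 : (2 : F) ≠ 0 := fun h => by
    have : CharP F 2 := CharTwo.of_one_ne_zero_of_two_eq_zero one_ne_zero h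
    have := FiniteField.even_card_iff_char_two.1 (ringChar.eq F 2)
    rw [Nat.odd_iff] at hodd
    omega
  have hN := formOdd_nondeg F m h2
  have hd : finrank F (Unit ⊕ (Fin m ⊕ Fin m) → F) = 2 * m + 1 := by simp; omega
  have hM := hD.decomp.decomp
  have htk : 2 * m + 1 = t * k := by
    classical
    have hint : DirectSum.IsInternal D :=
      DirectSum.isInternal_submodule_of_iSupIndep_of_iSup_eq_top hM.indep hM.iSup_eq_top
    rw [← hd, ← (LinearEquiv.ofBijective (DirectSum.coeLinearMap D) hint).finrank_eq, Module.finrank_directSum]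
    simp [hM.finrank_eq]
  have hkodd : Odd k := (Nat.odd_mul.1 (htk ▸ odd_two_mul_add_one m)).2
  have htodd : Odd t := (Nat.odd_mul.1 (htk ▸ odd_two_mul_add_one m)).1
  have hk3 : 3 ≤ k := by obtain ⟨j, hj⟩ := hkodd; omega
  have ht3 : 3 ≤ t := by obtain ⟨j, hj⟩ := htodd; have := hM.two_le; omega
  refine H98.OrthDecomp.isMaximalIn_decomp (Q := formOdd F m) ⟨h2, hk3, ht3, fun hk3' => ?_, hM.finrank_eq,
    fun i => H98.OrthMax.nondeg_restr_of_nondegenerateOn (hD.decomp.nondegenerate i),
    fun i j hij x hx y hy => hD.decomp.orthogonal i j hij x hx y hy, fun i j => hD.isometric i j,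
    hM.iSup_eq_top, hN⟩
  by_contra hs
  push Not at hs
  classical
  have hsub : (Finset.univ : Finset F) ⊆ {0, 1, -1} := fun s _ => by
    rcases eq_or_ne s 0 with rfl | hs0
    · simp
    · rcases sq_eq_one_iff.1 (hs s hs0) with e | e <;> simp [e]
  have h3 := (Finset.card_le_card hsub).trans Finset.card_le_three
  rw [Finset.card_univ] at h3
  refine hex ⟨?_, hk3'⟩
  obtain ⟨j, hj⟩ := hodd
  have := Fintype.one_lt_card (α := F)
  omega

end Cfsg.Agent.S5677
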