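import Cfsg.Statements.S5680
import Cfsg.Agent.H57.ExtOrth.Three.Main
import Cfsg.Agent.Orthogonal.StdForms

set_option autoImplicit false
open Cfsg

namespace Cfsg.Agent.S5680

/-- Let F be a finite field of odd order, m ≥ 6, Q the standard quadratic form on F^(2m+1) and Ω the commutator subgroup of its isometry group. Let K be a subfield of the algebra of (2m+1) × (2m+1) matrices over F containing the scalars, of prime degree r over F with r ≠ 2m + 1, whose elements are self-adjoint for the polar form of Q. Then the elements of Ω normalising K form a maximal subgroup of Ω. -/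
theorem result {F : Type*} [Field F] [Fintype F] (hodd : Odd (Fintype.card F)) (m : ℕ) (hm : 6 ≤ m) (r : ℕ) (hr : r.Prime) (hrn : 2 * m + 1 ≠ r) (K : Subalgebra F (Matrix (Unit ⊕ (Fin m ⊕ Fin m)) (Unit ⊕ (Fin m ⊕ Fin m)) F)) (hK : Cfsg.Geo.IsFieldSubalgebra r K) (hsa : Cfsg.Geo.IsSelfAdjointFor (QuadraticMap.polar (Cfsg.quadFormOdd m F)) K) : Cfsg.Geo.IsMaximalIn (Cfsg.Geo.omegaGL (Cfsg.quadFormOdd m F)) (Cfsg.Geo.subalgebraNormalizer K ⊓ Cfsg.Geo.omegaGL (Cfsg.quadFormOdd m F)) := by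
  have : Nonempty (Unit ⊕ (Fin m ⊕ Fin m)) := ⟨Sum.inl ()⟩
  obtain ⟨d, hd⟩ := H57.ExtOrth.dvd_of_isFieldSubalgebra hK
  have hcard : Fintype.card (Unit ⊕ (Fin m ⊕ Fin m)) = 2 * m + 1 := by simp; omega
  rw [hcard] at hd
  have hdim := Cfsg.Agent.Orthogonal.finrank_formOdd (F := F) (m := m)
  have h2 : (2 : F) ≠ 0 := Ring.two_ne_zero fun h => by
    have := FiniteField.even_card_of_char_two h
    have := Nat.odd_iff.1 hodd
    omega
  have hN := Cfsg.Agent.Orthogonal.formOdd_nondeg (F := F) (m := m) h2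
  rw [← Cfsg.Agent.Orthogonal.formOdd_coe] at hsa ⊢
  have hr2 : r ≠ 2 := fun e => by rw [e] at hd; omega
  have hd1 : d ≠ 1 := fun e => hrn (by rw [hd, e, mul_one])
  have hd2 : d ≠ 2 := fun e => by rw [e] at hd; omega
  have hd0 : d ≠ 0 := fun e => by rw [e, mul_zero] at hd; omega
  have := hr.two_le
  rcases (show d = 3 ∨ 4 ≤ d by omega) with rfl | hd4
  · have h5 : 5 ≤ r := by
      rcases (show r = 4 ∨ 5 ≤ r by omega) with rfl | h
      · norm_num at hr
      · exact h
    refine H57.ExtOrth.isMaximalIn_ext_of _ hN hodd K r hr hK hsa (by omega) (by omega)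
      fun L _ _ _ _ _ _ S X hL hX hXc g hg hns => ?_
    have hmul := Module.finrank_mul_finrank F L (Unit ⊕ (Fin m ⊕ Fin m) → F)
    rw [hL, hdim, hd] at hmul
    exact S.sieGroup_le_three (Nat.eq_of_mul_eq_mul_left hr.pos hmul) (hL ▸ hr) (hL ▸ (by omega : 3 ≤ r)) hX hXc hg hns
  · refine H57.ExtOrth.isMaximalIn_ext _ hN hodd K r hr hK hsa (by omega) ?_ (Or.inl (by omega))
    rw [hdim, hd, mul_comm]
    exact Nat.mul_le_mul_left _ hd4

end Cfsg.Agent.S5680
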