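import Cfsg.Statements.S5682
import Cfsg.Agent.H99.SymmThree
import Cfsg.Agent.H96.OmegaBridge
import Cfsg.Agent.Orthogonal.StdForms

set_option autoImplicit false
open Cfsg

namespace Cfsg.Agent.S5682

open QuadraticMap Matrix Module Cfsg.Agent.Orthogonal Cfsg.Agent.H96 Cfsg.Agent.H99

/-- Let F be the field with 3 elements, m ≥ 6, Q the standard quadratic form on F^(2m+1) and Ω the commutator subgroup of its isometry group. Suppose the polar form of Q is similar, through P and e, to the tensor product of non-degenerate symmetric bilinear forms f₁ on F^3 and f₂ on F^(n₂) with 3 < n₂. Then the elements of Ω in the stabiliser of this tensor decomposition form a subgroup that is not maximal: some subgroup lies strictly between it and Ω. -/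
theorem result {F : Type*} [Field F] [Fintype F] (hq : Fintype.card F = 3) (m : ℕ) (hm : 6 ≤ m) (n₂ : ℕ) (h2 : 3 < n₂) (e : (Unit ⊕ (Fin m ⊕ Fin m)) ≃ Fin 3 × Fin n₂) (P : Matrix.GeneralLinearGroup (Unit ⊕ (Fin m ⊕ Fin m)) F) (f₁ : (Fin 3 → F) → (Fin 3 → F) → F) (f₂ : (Fin n₂ → F) → (Fin n₂ → F) → F) (hf₁ : Cfsg.Geo.IsSymmetricForm f₁) (hf₂ : Cfsg.Geo.IsSymmetricForm f₂) (hT : Cfsg.Geo.IsTensorFormStructure id (QuadraticMap.polar (Cfsg.quadFormOdd m F)) f₁ f₂ e P) : ∃ K : Subgroup (Matrix.GeneralLinearGroup (Unit ⊕ (Fin m ⊕ Fin m)) F), Cfsg.Geo.tensorProductSubgroup 3 n₂ e P ⊓ Cfsg.Geo.omegaGL (Cfsg.quadFormOdd m F) < K ∧ K < Cfsg.Geo.omegaGL (Cfsg.quadFormOdd m F) := by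
  classical
  set R : QuadraticForm F (Unit ⊕ (Fin m ⊕ Fin m) → F) := formOdd F m with hR
  have hN : Nondeg R := formOdd_nondeg F m (two_ne hq)
  have hn5 : 5 ≤ finrank F (Unit ⊕ (Fin m ⊕ Fin m) → F) := by
    rw [Module.finrank_fintype_fun_eq_card]; simp; omega
  obtain ⟨a, hdiag, horth, hmono⟩ := symm_three_frame hq hf₁
  obtain ⟨c, hc, hform⟩ := pure_form (σ := id) (fun _ _ => rfl) hT
  let D : Framed (Cfsg.Geo.omegaGL (⇑R)) 3 :=
    { k := 3
      l := n₂
      t := Cfsg.Agent.H99.pure e P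
      f := QuadraticMap.polar R
      inv := fun g hg u v => by
        obtain ⟨x, -, rfl⟩ := (mem_omegaGL_iff R g).1 hg
        rw [om_mulVec, om_mulVec, O.polar_app]
      c := c
      hc := hc
      φ₁ := f₁
      φ₂ := f₂
      form := fun x y u v => by rw [← gram_eq hf₁.bilinear, ← gram_eq hf₂.bilinear]; exact hform x y u v
      a := a
      diag := hdiag
      orth := horth
      sep := fun u hu => by
        by_contra h
        obtain ⟨y, hy⟩ := (hf₂.nondegenerate u h).2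
        exact hy (hu y)
      zero_left := fun w => by
        have h := hf₂.bilinear.smul_left 0 0 w
        rwa [zero_smul, zero_mul] at h
      lpos := by omega
      monomial := hmono }
  have hfin : ∀ j, finrank F (D.S j) = n₂ := fun j => by
    show finrank F (LinearMap.range (D.t (D.a j))) = n₂
    rw [LinearMap.finrank_range_of_inj (D.injective_t j)]
    exact Module.finrank_fin_fun F
  have hnd : Nondeg (restr R (D.S 0)) := by
    rintro ⟨_, u, rfl⟩ hx
    have hu : u = 0 := D.sep u fun w => by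
      have h := hx ⟨D.t (D.a 0) w, D.mem_S⟩
      rw [polar_restr] at h
      exact (mul_eq_zero.1 ((D.form (D.a 0) (D.a 0) u w).symm.trans h)).resolve_left (mul_ne_zero D.hc (D.diag 0))
    exact Subtype.ext (by simp [hu])
  have hperp : ∀ i j : Fin 3, i ≠ j → ∀ x ∈ D.S i, ∀ y ∈ D.S j, polar R x y = 0 := by
    rintro i j hij _ ⟨u, rfl⟩ _ ⟨v, rfl⟩
    have h := D.form (D.a i) (D.a j) u v
    rw [D.orth i j hij, mul_zero, zero_mul] at h
    exact h
  obtain ⟨u, hu0, hu⟩ := hnd.exists_singular (by rw [hfin]; omega)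
  obtain ⟨y, hy, huy⟩ := hnd.exists_partner hu0 hu
  rw [restr_apply] at hu
  rw [polar_restr] at huy
  have hu0' : (u : Unit ⊕ (Fin m ⊕ Fin m) → F) ≠ 0 := fun h => hu0 (Subtype.ext h)
  obtain ⟨w, hw, hwu⟩ : ∃ w ∈ perp (restr R (D.S 0)) (Submodule.span F {u}), w ∉ Submodule.span F {u} := by
    refine SetLike.not_le_iff_exists.1 fun hle => ?_
    have := Submodule.finrank_mono hle
    have h' := hnd.finrank_perp_singleton hu0
    rw [finrank_span_singleton hu0] at this
    rw [hfin] at h'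
    omega
  rw [mem_perp_span_singleton, polar_restr] at hw
  refine D.not_maximal (T := Cfsg.Geo.tensorProductSubgroup 3 n₂ e P) (fun g hg => pure_action hg) 0 1 (by decide) ?_ ?_
  · refine ⟨om R (sie (u : Unit ⊕ (Fin m ⊕ Fin m) → F) w hu hw), (mem_omegaGL_iff R _).2 ⟨_,
      (sieGroup_eq_commutator hN hn5) ▸ sie_mem hu hw, rfl⟩, ?_, ?_, ⟨u, u.2, hu0', ?_⟩, y, y.2, ?_⟩
    · intro j hj x hx
      rw [om_mulVec, sie_app, hperp 0 j (Ne.symm hj) _ w.2 _ hx, hperp 0 j (Ne.symm hj) _ u.2 _ hx]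
      simp
    · intro x hx
      rw [om_mulVec, sie_app]
      exact Submodule.sub_mem _ (Submodule.add_mem _ hx (Submodule.smul_mem _ _ u.2)) (Submodule.smul_mem _ _ w.2)
    · rw [om_mulVec, sie_app, polar_comm (⇑R) (w : Unit ⊕ (Fin m ⊕ Fin m) → F) u, hw, polar_self', hu]
      simp
    · intro h
      rw [om_mulVec, sie_app, huy, mul_one, one_smul, add_sub_assoc, add_eq_left, sub_eq_zero] at h
      exact hwu (Submodule.mem_span_singleton.2 ⟨_, Subtype.ext h⟩)
  · obtain ⟨v, hv⟩ : ∃ v : Fin n₂ → F, v ≠ 0 := ⟨Pi.single ⟨0, by omega⟩ 1, by simp⟩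
    have hv1 : D.t (D.a 1) v ≠ 0 := fun h => hv (D.injective_t 1 (h.trans (map_zero _).symm))
    have huv : polar R (u : Unit ⊕ (Fin m ⊕ Fin m) → F) (D.t (D.a 1) v) = 0 :=
      hperp 0 1 (by decide) _ u.2 _ D.mem_S
    refine ⟨om R (sie (u : Unit ⊕ (Fin m ⊕ Fin m) → F) _ hu huv), (mem_omegaGL_iff R _).2 ⟨_,
      (sieGroup_eq_commutator hN hn5) ▸ sie_mem hu huv, rfl⟩, ⟨u, u.2, hu0', ?_⟩, y, y.2, ?_⟩
    · rw [om_mulVec, sie_app, polar_comm, huv, polar_self', hu]
      simp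
    · rw [om_mulVec, sie_app, huy, one_smul]
      intro h
      refine hv1 (D.disjoint (by decide : (0 : Fin 3) ≠ 1) ?_ D.mem_S)
      have h2 := Submodule.sub_mem _ (Submodule.add_mem _ y.2 (Submodule.smul_mem _ (polar (⇑R) (D.t (D.a 1) v) (y : Unit ⊕ (Fin m ⊕ Fin m) → F) - R (D.t (D.a 1) v) * 1) u.2)) h
      rwa [sub_sub_cancel] at h2

end Cfsg.Agent.S5682
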