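import Cfsg.Statements.S5686
import Cfsg.Agent.H96.OmegaBridge
import Cfsg.Agent.Orthogonal.MaxTSFamily
-- import your own Cfsg.Agent.* helpers here

set_option autoImplicit false
open Cfsg

namespace Cfsg.Agent.S5686

/-- Let F be a finite field with q elements, n ≥ 13 even, Q a non-degenerate quadratic form on F^n of plus type (some subspace of dimension n/2 is totally singular), and Ω the commutator subgroup of the isometry group of Q, viewed inside GL_n(F). The elements of Ω stabilising a subspace of dimension n/2 − 1 on which Q vanishes form a subgroup that is not maximal: some subgroup lies strictly between it and Ω. -/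
theorem result {F : Type*} [Field F] [Fintype F] {n : ℕ} (hn : 13 ≤ n) (heven : Even n) (Q : (Fin n → F) → F) (hQ : Cfsg.Geo.IsNondegenerateQuadraticForm Q) (hplus : Cfsg.Geo.IsPlusTypeOn Q ⊤) (W : Submodule F (Fin n → F)) (hW : Cfsg.Geo.IsTotallySingularQuad Q W) (hdim : 2 * (Module.finrank F W + 1) = n) : ∃ K : Subgroup (Matrix.GeneralLinearGroup (Fin n) F), Cfsg.Geo.subspaceStabilizer W ⊓ Cfsg.Geo.omegaGL Q < K ∧ K < Cfsg.Geo.omegaGL Q := by
  obtain ⟨Q, rfl⟩ : ∃ Q' : QuadraticForm F (Fin n → F), ⇑Q' = Q := ⟨H96.asForm hQ, rfl⟩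
  have hN : Orthogonal.Nondeg Q := H96.asForm_nondeg hQ
  obtain ⟨W₀, -, hW₀, hr₀⟩ := hplus
  rw [finrank_top, Module.finrank_fin_fun] at hr₀
  obtain ⟨m, hm⟩ := heven
  have hV : Module.finrank F (Fin n → F) = 2 * m := by rw [Module.finrank_fin_fun]; omega
  have hWts : Orthogonal.TotSing Q W := hW
  have hW₀ts : Orthogonal.TotSing Q W₀ := hW₀
  obtain ⟨W₁, hle, hW₁, hr₁⟩ := hWts.exists_max_ge hN hW₀ts (by omega)
  have hr : Module.finrank F W₁ = m := by omega
  have hU : Module.finrank F W + 1 = m := by omega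
  obtain ⟨u, hu, huW⟩ : ∃ u ∈ W₁, u ∉ W := SetLike.not_le_iff_exists.1 fun h => by
    have := Submodule.finrank_mono h; omega
  have hmem : ∀ (a w : Fin n → F) (ha : Q a = 0) (hw : QuadraticMap.polar Q a w = 0),
      Orthogonal.sie a w ha hw ∈ commutator (Orthogonal.O Q) := fun a w ha hw => by
    rw [← Orthogonal.sieGroup_eq_commutator hN (by rw [Module.finrank_fin_fun]; omega)]
    exact Orthogonal.sie_mem ha hw
  refine H96.exists_between Q _
    ((Cfsg.Geo.subspaceStabilizer W₁).comap (H96.om Q)) ?_ ?_ ?_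
  · intro g hg hgW
    rw [H96.mem_subspaceStabilizer_om] at hgW
    have hfix : W.map ((g : (Fin n → F) ≃ₗ[F] (Fin n → F)) : (Fin n → F) →ₗ[F] (Fin n → F)) = W := by
      ext v
      constructor
      · rintro ⟨x, hx, rfl⟩; exact (hgW x).1 hx
      · intro hv
        exact ⟨(g : (Fin n → F) ≃ₗ[F] (Fin n → F)).symm v,
          (hgW _).2 (by rw [LinearEquiv.apply_symm_apply]; exact hv), LinearEquiv.apply_symm_apply _ v⟩
    have h1 := Orthogonal.map_eq_of_hyperplane hN hV hU hW₁ hr hle hg hfix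
    rw [Subgroup.mem_comap, H96.mem_subspaceStabilizer_om]
    intro v
    constructor
    · intro hv; rw [← h1]; exact ⟨v, hv, rfl⟩
    · intro hv
      rw [← h1] at hv
      obtain ⟨x, hx, hxv⟩ := hv
      rwa [← (g : (Fin n → F) ≃ₗ[F] (Fin n → F)).injective hxv]
  · obtain ⟨x, hx, hx0⟩ : ∃ x ∈ W, x ≠ 0 := Submodule.exists_mem_ne_zero_of_ne_bot fun h => by
      rw [h, finrank_bot] at hU; omega
    obtain ⟨l, hlx, hlu⟩ : ∃ l : (Fin n → F) →ₗ[F] F, l x ≠ 0 ∧ l u = 0 := by
      obtain ⟨l, h1, h2⟩ := Submodule.exists_dual_map_eq_bot_of_notMem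
        (show x ∉ Submodule.span F {u} from fun h => by
          obtain ⟨c, rfl⟩ := Submodule.mem_span_singleton.1 h
          exact huW ((Submodule.smul_mem_iff W (left_ne_zero_of_smul hx0)).1 hx)) inferInstance
      refine ⟨l, h1, (Submodule.mem_bot F).1 ?_⟩
      rw [← h2]; exact ⟨u, Submodule.mem_span_singleton_self u, rfl⟩
    obtain ⟨w, hw⟩ := hN.exists_repr l
    have hQu : Q u = 0 := hW₁ u hu
    have huw : QuadraticMap.polar Q u w = 0 := by rw [QuadraticMap.polar_comm, hw, hlu]
    refine ⟨_, hmem u w hQu huw, ?_, fun hS => ?_⟩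
    · rw [Subgroup.mem_comap, H96.mem_subspaceStabilizer_om]
      have key : ∀ y w', y ∈ W₁ → ∀ hw' : QuadraticMap.polar Q u w' = 0,
          (Orthogonal.sie u w' hQu hw' : (Fin n → F) ≃ₗ[F] (Fin n → F)) y ∈ W₁ := fun y w' hy hw' => by
        rw [Orthogonal.sie_app, hW₁.polar_eq hu hy, zero_smul, sub_zero]
        exact W₁.add_mem hy (W₁.smul_mem _ hu)
      refine fun v => ⟨fun hv => key v w hv huw, fun hv => ?_⟩
      have h3 := key _ (-w) hv (by rw [QuadraticMap.polar_neg_right, huw, neg_zero])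
      rwa [← Orthogonal.sie_inv hQu huw, ← Orthogonal.mul_app, ← Subgroup.coe_mul,
        inv_mul_cancel] at h3
    · rw [H96.mem_subspaceStabilizer_om] at hS
      have h4 := (hS x).1 hx
      rw [Orthogonal.sie_app, hW₁.polar_eq hu (hle hx), mul_zero, zero_smul, sub_zero, sub_zero,
        hw] at h4
      have h5 := W.sub_mem h4 hx
      rw [add_sub_cancel_left] at h5
      exact huW ((Submodule.smul_mem_iff W hlx).1 h5)
  · obtain ⟨a, ha, haW⟩ : ∃ a, Q a = 0 ∧ a ∉ W₁ := by
      by_contra hc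
      push Not at hc
      have := Orthogonal.span_singular hN (by omega) W₁ hc
      rw [this, finrank_top] at hr; omega
    have ha0 : a ≠ 0 := fun h => haW (h ▸ W₁.zero_mem)
    obtain ⟨x, hx, hax⟩ : ∃ x ∈ W₁, QuadraticMap.polar Q a x ≠ 0 := by
      by_contra hc
      push Not at hc
      exact haW (hW₁.perp_eq_self hN hV hr ▸ (fun v hv => by
        rw [QuadraticMap.polar_comm]; exact hc v hv : a ∈ Orthogonal.perp Q W₁))
    obtain ⟨w, hw, hwW⟩ : ∃ w ∈ Orthogonal.perp Q (Submodule.span F {a}),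
        w ∉ W₁ ⊔ Submodule.span F {a} := SetLike.not_le_iff_exists.1 fun h => by
      have h1 := Submodule.finrank_mono h
      have h2 := hN.finrank_perp_singleton ha0
      rw [Orthogonal.finrank_sup_span haW] at h1
      omega
    refine ⟨_, hmem a w ha ((Orthogonal.mem_perp_span_singleton (Q := Q)).1 hw), fun hS => ?_⟩
    rw [Subgroup.mem_comap, H96.mem_subspaceStabilizer_om] at hS
    have h4 := (hS x).1 hx
    rw [Orthogonal.sie_app] at h4
    have h5 := W₁.sub_mem h4 hx
    refine hwW ?_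
    have h6 : QuadraticMap.polar Q a x • w ∈ W₁ ⊔ Submodule.span F {a} := by
      have h7 := Submodule.sub_mem (W₁ ⊔ Submodule.span F {a}) (Submodule.mem_sup_right
        (Submodule.smul_mem _ (QuadraticMap.polar Q w x - Q w * QuadraticMap.polar Q a x)
          (Submodule.mem_span_singleton_self a))) (Submodule.mem_sup_left h5)
      convert h7 using 1
      abel
    exact (Submodule.smul_mem_iff _ hax).1 h6

end Cfsg.Agent.S5686
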