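import Cfsg.Statements.S5688
import Cfsg.Agent.H98.OrthMax.NondegWrap

set_option autoImplicit false
open Cfsg

namespace Cfsg.Agent.S5688

open Module Cfsg.Agent.Orthogonal Cfsg.Agent.H98.OrthMax

/-- Let F be a finite field with q elements, n ≥ 13 even, Q a non-degenerate quadratic form on F^n of plus type (some subspace of dimension n/2 is totally singular), and Ω the commutator subgroup of the isometry group of Q, viewed inside GL_n(F). Let W be a non-zero proper subspace with dim W ≠ n/2 on which the polar form of Q is non-degenerate. Exclude the case q ≤ 3 in which W, or its orthogonal complement, is a plane containing a line on which Q vanishes. Then the elements of Ω stabilising W form a maximal subgroup of Ω. -/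
theorem result {F : Type*} [Field F] [Fintype F] {n : ℕ} (hn : 13 ≤ n) (heven : Even n) (Q : (Fin n → F) → F) (hQ : Cfsg.Geo.IsNondegenerateQuadraticForm Q) (hplus : Cfsg.Geo.IsPlusTypeOn Q ⊤) (W : Submodule F (Fin n → F)) (hW0 : W ≠ ⊥) (hW1 : W ≠ ⊤) (hdim : 2 * Module.finrank F W ≠ n) (hW : Cfsg.Geo.IsNondegenerateOn (QuadraticMap.polar Q) W) (hex : ¬ (Fintype.card F ≤ 3 ∧ (∃ U : Submodule F (Fin n → F), Module.finrank F U = 2 ∧ Cfsg.Geo.IsNondegenerateOn (QuadraticMap.polar Q) U ∧ Cfsg.Geo.IsPlusTypeOn Q U ∧ (U = W ∨ (Cfsg.Geo.AreOrthogonalFor (QuadraticMap.polar Q) U W ∧ Module.finrank F U + Module.finrank F W = n))))) : Cfsg.Geo.IsMaximalIn (Cfsg.Geo.omegaGL Q) (Cfsg.Geo.subspaceStabilizer W ⊓ Cfsg.Geo.omegaGL Q) := by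
  obtain ⟨Q, rfl⟩ : ∃ Q' : QuadraticForm F (Fin n → F), ⇑Q' = Q := ⟨H96.asForm hQ, rfl⟩
  have hN : Nondeg Q := H96.asForm_nondeg hQ
  have hd : finrank F (Fin n → F) = n := Module.finrank_fin_fun F
  have hWn : Nondeg (restr Q W) := nondeg_restr_of_nondegenerateOn hW
  refine isMaximalIn_nondeg' hN (by omega) hW0 hW1 hWn (fun h g => ?_) ?_
  · exact absurd (by omega) hdim
  rintro T hT h2 ⟨x, hxT, hx0, hx⟩
  by_contra hlt
  refine hex ⟨by omega, T, h2, ?_, isPlusTypeOn_of_singular h2 hxT hx0 hx, ?_⟩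
  · have hTn : Nondeg (restr Q T) := by
      rcases hT with rfl | rfl
      · exact hWn
      · exact hN.nondeg_perp hWn
    intro w hw hw0
    obtain ⟨y, hy⟩ := hTn.exists_polar_ne (x := ⟨w, hw⟩) (fun h => hw0 (congrArg Subtype.val h))
    rw [polar_restr] at hy
    exact ⟨⟨y, y.2, by rwa [QuadraticMap.polar_comm]⟩, y, y.2, hy⟩
  · rcases hT with rfl | rfl
    · exact Or.inl rfl
    · refine Or.inr ⟨fun u hu v hv => (QuadraticMap.polar_comm (⇑Q) u v).trans (hu v hv), ?_⟩
      have := hN.finrank_add_perp W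
      omega

end Cfsg.Agent.S5688
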