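import Cfsg.Statements.S5697
import Cfsg.Agent.H98.OrthMax.PolarMain

set_option autoImplicit false
open Cfsg

namespace Cfsg.Agent.S5697

open Module Cfsg.Agent.Orthogonal Cfsg.Agent.H98.OrthMax

/-- Let F be a finite field with q elements, n ≥ 13 even, Q a non-degenerate quadratic form on F^n of plus type (some subspace of dimension n/2 is totally singular), and Ω the commutator subgroup of the isometry group of Q, viewed inside GL_n(F). Suppose n/2 is even and let D be a decomposition of F^n into two complementary subspaces of dimension n/2 on each of which Q vanishes. Then the elements of Ω preserving or interchanging the two subspaces form a maximal subgroup of Ω. -/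
theorem result {F : Type*} [Field F] [Fintype F] {n : ℕ} (hn : 13 ≤ n) (heven : Even n) (Q : (Fin n → F) → F) (hQ : Cfsg.Geo.IsNondegenerateQuadraticForm Q) (hplus : Cfsg.Geo.IsPlusTypeOn Q ⊤) (k : ℕ) (hk : 2 * k = n) (hke : Even k) (D : Fin 2 → Submodule F (Fin n → F)) (hD : Cfsg.Geo.IsMDecomposition k D) (hts : ∀ i, Cfsg.Geo.IsTotallySingularQuad Q (D i)) : Cfsg.Geo.IsMaximalIn (Cfsg.Geo.omegaGL Q) (Cfsg.Geo.decompositionStabilizer D ⊓ Cfsg.Geo.omegaGL Q) := by
  obtain ⟨Q, rfl⟩ : ∃ Q' : QuadraticForm F (Fin n → F), ⇑Q' = Q := ⟨H96.asForm hQ, rfl⟩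
  have hN : Nondeg Q := H96.asForm_nondeg hQ
  have hnV : finrank F (Fin n → F) = n := Module.finrank_fin_fun F
  have hd : finrank F (D 0) = finrank F (D 1) := by rw [hD.finrank_eq, hD.finrank_eq]
  have hP : Polarised Q (D 0) (D 1) := by
    refine ⟨hts 0, hts 1, hD.indep.pairwiseDisjoint (by decide), codisjoint_iff.2 (eq_top_iff.2 ?_)⟩
    rw [← hD.iSup_eq_top]
    exact iSup_le (Fin.forall_fin_two.2 ⟨le_sup_left, le_sup_right⟩)
  have hmem : ∀ x : O Q, H96.om Q x ∈ Cfsg.Geo.decompositionStabilizer D ↔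
      ((∀ v ∈ D 0, (x : (Fin n → F) ≃ₗ[F] (Fin n → F)) v ∈ D 0) ∧
        ∀ v ∈ D 1, (x : (Fin n → F) ≃ₗ[F] (Fin n → F)) v ∈ D 1) ∨
      ((∀ v ∈ D 0, (x : (Fin n → F) ≃ₗ[F] (Fin n → F)) v ∈ D 1) ∧
        ∀ v ∈ D 1, (x : (Fin n → F) ≃ₗ[F] (Fin n → F)) v ∈ D 0) := by
    intro x
    constructor
    · rintro ⟨σ, hσ⟩
      have h0 : ∀ i, ∀ v ∈ D i, (x : (Fin n → F) ≃ₗ[F] (Fin n → F)) v ∈ D (σ i) := fun i v hv => by
        rw [← hσ i, H96.om_toLin']
        exact ⟨v, hv, rfl⟩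
      have hne : σ 1 ≠ σ 0 := fun e => absurd (σ.injective e) (by decide)
      rcases (by omega : (σ 0 = 0 ∧ σ 1 = 1) ∨ (σ 0 = 1 ∧ σ 1 = 0)) with ⟨e0, e1⟩ | ⟨e0, e1⟩
      · exact Or.inl ⟨fun v hv => (congrArg D e0) ▸ h0 0 v hv, fun v hv => (congrArg D e1) ▸ h0 1 v hv⟩
      · exact Or.inr ⟨fun v hv => (congrArg D e0) ▸ h0 0 v hv, fun v hv => (congrArg D e1) ▸ h0 1 v hv⟩
    · intro hx
      have map_eq : ∀ i j, (∀ v ∈ D i, (x : (Fin n → F) ≃ₗ[F] (Fin n → F)) v ∈ D j) →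
          (D i).map (Matrix.toLin' (H96.om Q x : Matrix (Fin n) (Fin n) F)) = D j := fun i j hij => by
        rw [H96.om_toLin']
        exact Submodule.eq_of_le_of_finrank_eq (by rintro _ ⟨v, hv, rfl⟩; exact hij v hv)
          (by rw [LinearEquiv.finrank_map_eq, hD.finrank_eq, hD.finrank_eq])
      rcases hx with ⟨a, b⟩ | ⟨a, b⟩
      · exact ⟨1, Fin.forall_fin_two.2 ⟨map_eq 0 0 a, map_eq 1 1 b⟩⟩
      · exact ⟨Equiv.swap 0 1, Fin.forall_fin_two.2 ⟨by simpa using map_eq 0 1 a, by simpa using map_eq 1 0 b⟩⟩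
  refine isMaximalIn_omega hN (by omega) _ ?_ fun X hX hg => ?_
  · -- a root element moving the first part out of both
    obtain ⟨a, ha, ha0⟩ := (Submodule.ne_bot_iff (D 0)).1 fun e => by
      have := hD.finrank_eq 0
      rw [e, finrank_bot] at this
      omega
    obtain ⟨a', ha', ha'a⟩ : ∃ a' ∈ D 0, a' ∉ Submodule.span F ({a} : Set (Fin n → F)) := by
      by_contra hc
      push Not at hc
      have := Submodule.finrank_mono (show D 0 ≤ Submodule.span F ({a} : Set (Fin n → F)) from hc)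
      rw [finrank_span_singleton ha0, hD.finrank_eq] at this
      omega
    obtain ⟨z, hz, hzs, hz1⟩ := hP.exists_coord hN (S := Submodule.span F {a}) (by simpa using ha) ha' ha'a
    have hQa : Q a = 0 := hts 0 a ha
    have haa' : QuadraticMap.polar Q a a' = 0 := TotSing.polar_eq (Q := Q) (hts 0) ha ha'
    refine ⟨sie a a' hQa haa', sie_mem_commutator hN (by omega) hQa haa', fun h => ?_⟩
    have hval : (sie a a' hQa haa' : (Fin n → F) ≃ₗ[F] (Fin n → F)) z = z + a := by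
      rw [sie_app, hts 0 a' ha', hz1, hzs a (Submodule.mem_span_singleton_self a)]
      simp
    rcases (hmem _).1 h with ⟨-, h1⟩ | ⟨-, h1⟩ <;> have h2 := h1 z hz <;> rw [hval] at h2
    · exact ha0 (hP.eq_zero ha ((Submodule.add_mem_iff_right _ hz).1 h2))
    · have hz0 : z = 0 := hP.eq_zero ((Submodule.add_mem_iff_left _ ha).1 h2) hz
      rw [hz0, QuadraticMap.polar_zero_right] at hz1
      exact zero_ne_one hz1
  · obtain ⟨σ, hσ, hσA, hσB⟩ := hP.exists_swap hN (by rw [hD.finrank_eq]; exact hke) hd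
    obtain ⟨g, hg, hgS⟩ := hg
    exact sieGroup_le_of_polarised hN (by omega) hP (by rw [hD.finrank_eq]; omega) hd
      (fun x hx hA hB => hX x hx ((hmem x).2 (Or.inl ⟨hA, hB⟩)))
      (hX σ hσ ((hmem σ).2 (Or.inr ⟨hσA, hσB⟩))) hσA hσB
      ⟨g, hg, fun h => hgS ((hmem g).2 h)⟩

end Cfsg.Agent.S5697
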