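import Cfsg.Statements.S5698
import Cfsg.Agent.H96.SwapFree

set_option autoImplicit false
open Cfsg

namespace Cfsg.Agent.S5698

open QuadraticMap Cfsg.Agent.Orthogonal Cfsg.Agent.H96

/-- Let F be a finite field with q elements, n ≥ 13 even, Q a non-degenerate quadratic form on F^n of plus type (some subspace of dimension n/2 is totally singular), and Ω the commutator subgroup of the isometry group of Q, viewed inside GL_n(F). Suppose n/2 is odd and let D be a decomposition of F^n into two complementary subspaces of dimension n/2 on each of which Q vanishes. Then the elements of Ω preserving or interchanging the two subspaces form a subgroup that is not maximal: some subgroup lies strictly between it and Ω. -/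
theorem result {F : Type*} [Field F] [Fintype F] {n : ℕ} (hn : 13 ≤ n) (heven : Even n) (Q : (Fin n → F) → F) (hQ : Cfsg.Geo.IsNondegenerateQuadraticForm Q) (hplus : Cfsg.Geo.IsPlusTypeOn Q ⊤) (k : ℕ) (hk : 2 * k = n) (hko : Odd k) (D : Fin 2 → Submodule F (Fin n → F)) (hD : Cfsg.Geo.IsMDecomposition k D) (hts : ∀ i, Cfsg.Geo.IsTotallySingularQuad Q (D i)) : ∃ K : Subgroup (Matrix.GeneralLinearGroup (Fin n) F), Cfsg.Geo.decompositionStabilizer D ⊓ Cfsg.Geo.omegaGL Q < K ∧ K < Cfsg.Geo.omegaGL Q := by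
  obtain ⟨Q, rfl⟩ : ∃ Q' : QuadraticForm F (Fin n → F), ⇑Q' = Q := ⟨asForm hQ, rfl⟩
  have hN : Nondeg Q := fun x hx => by
    by_contra hne
    obtain ⟨y, hy⟩ := (hQ.nondegenerate x hne).2
    exact hy (hx y)
  have hnV : Module.finrank F (Fin n → F) = 2 * k := by
    rw [Module.finrank_fintype_fun_eq_card, Fintype.card_fin, hk]
  have hc : IsCompl (D 0) (D 1) := by
    refine ⟨hD.indep.pairwiseDisjoint (by decide), codisjoint_iff.2 (eq_top_iff.2 ?_)⟩
    rw [← hD.iSup_eq_top]
    exact iSup_le (Fin.forall_fin_two.2 ⟨le_sup_left, le_sup_right⟩)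
  refine exists_between Q _ (subStab Q (D 0)) (fun x hx hS => ?_) ?_ ?_
  · obtain ⟨σ, hσ⟩ := hS
    have h0 := hσ 0
    rw [om_toLin'] at h0
    rcases (by omega : σ 0 = 0 ∨ σ 0 = 1) with h | h <;> rw [h] at h0
    · exact h0
    · exact absurd h0 (map_ne_of_disjoint hN hnV hko (by omega) (hts 0) (hD.finrank_eq 0) hc.inf_eq_bot hx)
  · obtain ⟨g, hg, hfix, y, hy, hgy⟩ := exists_fix_move hN (by omega) (hts 0) (hts 1) hc
      (by rw [hD.finrank_eq]; omega)
    have hmap : (D 0).map (((g : O Q) : (Fin n → F) ≃ₗ[F] (Fin n → F)) : (Fin n → F) →ₗ[F] (Fin n → F)) = D 0 := by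
      refine le_antisymm ?_ fun x hx => ⟨x, hx, hfix x hx⟩
      rintro _ ⟨x, hx, rfl⟩
      rw [LinearEquiv.coe_coe, hfix x hx]
      exact hx
    refine ⟨g, hg, hmap, ?_⟩
    rintro ⟨σ, hσ⟩
    have h0 := hσ 0
    have h1 := hσ 1
    rw [om_toLin'] at h0 h1
    have hne : D 0 ≠ D 1 := by
      intro h
      have := hc.inf_eq_bot
      rw [h, inf_idem] at this
      have h' := hD.finrank_eq 1
      rw [this, finrank_bot] at h'
      omega
    rcases (by omega : σ 1 = 1 ∨ σ 1 = 0) with h | h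
    · rw [h] at h1
      exact hgy (h1.le ⟨y, hy, rfl⟩)
    · rcases (by omega : σ 0 = 1 ∨ σ 0 = 0) with h' | h'
      · rw [h', hmap] at h0
        exact hne h0
      · exact absurd (σ.injective (h.trans h'.symm)) (by decide)
  · obtain ⟨g, hg, -, y, hy, hgy⟩ := exists_fix_move hN (by omega) (hts 1) (hts 0) hc.symm
      (by rw [hD.finrank_eq]; omega)
    exact ⟨g, hg, fun h => hgy (h.le ⟨y, hy, rfl⟩)⟩

end Cfsg.Agent.S5698
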