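import Cfsg.Statements.S5699
import Cfsg.Statements.S5699
import Cfsg.Agent.H98.OrthMax.NondegWrap

set_option autoImplicit false
open Cfsg

namespace Cfsg.Agent.S5699

open Module Cfsg.Agent.Orthogonal Cfsg.Agent.H98.OrthMax

/-- Let F be a finite field with q elements, n ≥ 13 even, Q a non-degenerate quadratic form on F^n (of either type), and Ω the commutator subgroup of the isometry group of Q, viewed inside GL_n(F). Let D be a decomposition of F^n into two orthogonal subspaces of odd dimension n/2 on which the polar form is non-degenerate and which are not Q-isometric to each other. Then the elements of Ω permuting (necessarily fixing) the two subspaces form a maximal subgroup of Ω. -/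
theorem result {F : Type*} [Field F] [Fintype F] {n : ℕ} (hn : 13 ≤ n) (heven : Even n) (Q : (Fin n → F) → F) (hQ : Cfsg.Geo.IsNondegenerateQuadraticForm Q) (k : ℕ) (hk : 2 * k = n) (hko : Odd k) (D : Fin 2 → Submodule F (Fin n → F)) (hD : Cfsg.Geo.IsNondegenerateMDecomposition (QuadraticMap.polar Q) k D) (hni : ¬ Cfsg.Geo.AreIsometricFor Q (D 0) (D 1)) : Cfsg.Geo.IsMaximalIn (Cfsg.Geo.omegaGL Q) (Cfsg.Geo.decompositionStabilizer D ⊓ Cfsg.Geo.omegaGL Q) := by
  obtain ⟨Q, rfl⟩ : ∃ Q' : QuadraticForm F (Fin n → F), ⇑Q' = Q := ⟨H96.asForm hQ, rfl⟩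
  have hN : Nondeg Q := H96.asForm_nondeg hQ
  have hd : finrank F (Fin n → F) = n := Module.finrank_fin_fun F
  have hk0 := hD.decomp.finrank_eq 0
  have hk1 := hD.decomp.finrank_eq 1
  have hr := hN.finrank_add_perp (D 0)
  have hle : D 1 ≤ perp Q (D 0) := fun x hx => (mem_perp Q).2 fun w hw => hD.orthogonal 0 1 (by decide) w hw x hx
  have hperp : D 1 = perp Q (D 0) := Submodule.eq_of_le_of_finrank_eq hle (by omega)
  have hswap : ∀ g : O Q, (D 0).map ((g : (Fin n → F) ≃ₗ[F] (Fin n → F)) : (Fin n → F) →ₗ[F] (Fin n → F)) ≠ D 1 :=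
    fun g h => hni ⟨((g : (Fin n → F) ≃ₗ[F] (Fin n → F)).submoduleMap (D 0)).trans (LinearEquiv.ofEq _ _ h),
      fun w => g.2 w⟩
  have hS : Cfsg.Geo.decompositionStabilizer D ⊓ Cfsg.Geo.omegaGL ⇑Q =
      Cfsg.Geo.subspaceStabilizer (D 0) ⊓ Cfsg.Geo.omegaGL ⇑Q := by
    refine le_antisymm (fun g hg => ⟨?_, hg.2⟩) (fun g hg => ⟨?_, hg.2⟩) <;>
      obtain ⟨x, -, rfl⟩ := (H96.mem_omegaGL_iff Q g).1 hg.2
    · have h0 : ∀ v ∈ D 0, (x : (Fin n → F) ≃ₗ[F] (Fin n → F)) v ∈ D 0 := fun v hv =>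
        ((H96.mem_subspaceStabilizer_om Q _ x).1 hg.1 v).1 hv
      have h1 : ∀ v ∈ D 1, (x : (Fin n → F) ≃ₗ[F] (Fin n → F)) v ∈ D 1 := by
        rw [hperp]; exact perp_invariant x h0
      refine ⟨1, Fin.forall_fin_two.2 ⟨?_, ?_⟩⟩ <;> rw [H96.om_toLin', Equiv.Perm.one_apply] <;>
        refine Submodule.eq_of_le_of_finrank_eq ?_ (LinearEquiv.finrank_map_eq _ _) <;>
        rintro _ ⟨v, hv, rfl⟩
      · exact h0 v hv
      · exact h1 v hv
    · obtain ⟨σ, hσ⟩ := hg.1
      have h0 : σ 0 = 0 := by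
        by_contra hne
        have h1 := hσ 0
        rw [(by omega : σ 0 = 1), H96.om_toLin'] at h1
        exact hswap x h1
      refine (H96.mem_subspaceStabilizer_om Q _ x).2 fun v => stab_iff_of_le x (fun w hw => ?_) v
      have h1 := hσ 0
      rw [h0, H96.om_toLin'] at h1
      exact h1 ▸ ⟨w, hw, rfl⟩
  rw [hS]
  refine isMaximalIn_nondeg' hN (by omega) (fun h => ?_) (fun h => ?_)
    (nondeg_restr_of_nondegenerateOn (hD.nondegenerate 0)) (fun _ g => ?_) fun T hT h2 _ => ?_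
  · rw [h, finrank_bot] at hk0; omega
  · rw [h, finrank_top] at hk0; omega
  · by_contra hc
    push Not at hc
    refine hswap g⁻¹ (Submodule.eq_of_le_of_finrank_eq ?_ ?_)
    · rintro _ ⟨v, hv, rfl⟩
      have hm : (perp Q (D 0)).map ((g : (Fin n → F) ≃ₗ[F] (Fin n → F)) : (Fin n → F) →ₗ[F] (Fin n → F)) = D 0 :=
        Submodule.eq_of_le_of_finrank_eq (by rintro _ ⟨v, hv, rfl⟩; exact hc v hv)
          (by rw [LinearEquiv.finrank_map_eq]; omega)
      rw [← hm] at hv
      obtain ⟨w, hw, rfl⟩ := hv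
      rw [hperp]
      simpa using hw
    · rw [LinearEquiv.finrank_map_eq]; omega
  · rcases hT with rfl | rfl <;> obtain ⟨j, rfl⟩ := hko <;> omega

end Cfsg.Agent.S5699
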