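import Cfsg.Statements.S5700
import Cfsg.Agent.H98.HermOrth.Main

set_option autoImplicit false
open Cfsg

namespace Cfsg.Agent.S5700

open QuadraticMap Module Cfsg.Agent.Orthogonal
open scoped Matrix

/-- Let F be a finite field with q elements, n ≥ 13 even, Q a non-degenerate quadratic form on F^n (of either type), and Ω the commutator subgroup of the isometry group of Q, viewed inside GL_n(F). Let K be a subfield of the algebra of n × n matrices over F containing the scalars, of degree 2 over F, closed under adjoints for the polar form of Q but not consisting of self-adjoint elements, and such that every k in K rescales Q (Q(k v) = c Q(v) for a constant c depending on k). Then the elements of Ω normalising K form a maximal subgroup of Ω. -/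
theorem result {F : Type*} [Field F] [Fintype F] {n : ℕ} (hn : 13 ≤ n) (heven : Even n) (Q : (Fin n → F) → F) (hQ : Cfsg.Geo.IsNondegenerateQuadraticForm Q) (K : Subalgebra F (Matrix (Fin n) (Fin n) F)) (hK : Cfsg.Geo.IsFieldSubalgebra 2 K) (hac : Cfsg.Geo.IsAdjointClosedFor (QuadraticMap.polar Q) K) (hnsa : ¬ Cfsg.Geo.IsSelfAdjointFor (QuadraticMap.polar Q) K) (hsc : ∀ k ∈ K, ∃ c : F, ∀ v : (Fin n → F), Q (Matrix.mulVec k v) = c * Q v) : Cfsg.Geo.IsMaximalIn (Cfsg.Geo.omegaGL Q) (Cfsg.Geo.subalgebraNormalizer K ⊓ Cfsg.Geo.omegaGL Q) := by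
  obtain ⟨Q, rfl⟩ : ∃ Q' : QuadraticForm F (Fin n → F), ⇑Q' = Q := ⟨H96.asForm hQ, rfl⟩
  have hN : Nondeg Q := H96.asForm_nondeg hQ
  have : Nonempty (Fin n) := ⟨⟨0, by omega⟩⟩
  obtain ⟨j, hjK, hj⟩ : ∃ j ∈ K, ∀ c : F, j ≠ c • (1 : Matrix (Fin n) (Fin n) F) := by
    by_contra hc
    push Not at hc
    refine hnsa fun k hk u v => ?_
    obtain ⟨c, rfl⟩ := hc k hk
    rw [Matrix.smul_mulVec, Matrix.smul_mulVec, Matrix.one_mulVec, Matrix.one_mulVec, polar_smul_left',
      polar_smul_right']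
  have hind : LinearIndependent F ![(⟨1, K.one_mem⟩ : K), ⟨j, hjK⟩] := by
    rw [LinearIndependent.pair_iff]
    intro s t hst
    have hst' : s • (1 : Matrix (Fin n) (Fin n) F) + t • j = 0 := congrArg Subtype.val hst
    rcases eq_or_ne t 0 with rfl | ht
    · rw [zero_smul, add_zero, smul_eq_zero] at hst'
      exact ⟨hst'.resolve_right one_ne_zero, rfl⟩
    · exact absurd (by rw [neg_div, neg_smul, div_eq_inv_mul, mul_smul, eq_neg_of_add_eq_zero_left hst', smul_neg,
        inv_smul_smul₀ ht, neg_neg]) (hj (-s / t))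
  have hspan : ∀ k, k ∈ K ↔ ∃ a b : F, k = a • (1 : Matrix (Fin n) (Fin n) F) + b • j := by
    refine fun k => ⟨fun hkK => ?_, ?_⟩
    · have htop := hind.span_eq_top_of_card_eq_finrank (by rw [Fintype.card_fin, hK.finrank_eq])
      have : (⟨k, hkK⟩ : K) ∈ Submodule.span F (Set.range ![(⟨1, K.one_mem⟩ : K), ⟨j, hjK⟩]) :=
        htop ▸ Submodule.mem_top
      rw [Matrix.range_cons_cons_empty, Submodule.mem_span_pair] at this
      obtain ⟨a, b, hab⟩ := this
      exact ⟨a, b, (congrArg Subtype.val hab).symm⟩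
    · rintro ⟨a, b, rfl⟩
      exact K.add_mem (K.smul_mem K.one_mem a) (K.smul_mem hjK b)
  have hzero : ∀ x ∈ K, ∀ y ∈ K, x * y = 0 → x = 0 ∨ y = 0 := fun x hx y hy hxy => by
    by_contra hc
    push Not at hc
    obtain ⟨z, hzK, hz⟩ := hK.inv x hx hc.1
    refine hc.2 ?_
    rw [← one_mul y, ← hz, hK.comm x hx z hzK, mul_assoc, hxy, mul_zero]
  obtain ⟨β, α, hjj⟩ := (hspan (j * j)).1 (K.mul_mem hjK hjK)
  have hsq : ∀ x, j *ᵥ (j *ᵥ x) = α • (j *ᵥ x) + β • x := fun x => by
    rw [Matrix.mulVec_mulVec, hjj, Matrix.add_mulVec, Matrix.smul_mulVec, Matrix.smul_mulVec, Matrix.one_mulVec,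
      add_comm]
  obtain ⟨k', hk'K, hk'⟩ := hac j hjK
  have hk'' : ∀ x y, polar Q (j *ᵥ x) y = polar Q x (k' *ᵥ y) := hk'
  have hkk : k' * k' = α • k' + β • (1 : Matrix (Fin n) (Fin n) F) := by
    refine Matrix.ext_iff_mulVec.2 fun y => hN.eq_of_polar fun x => ?_
    rw [polar_comm (⇑Q) _ x, polar_comm (⇑Q) _ x, ← Matrix.mulVec_mulVec, ← hk'', ← hk'', hsq, polar_add_left,
      polar_smul_left', polar_smul_left', hk'', Matrix.add_mulVec, Matrix.smul_mulVec, Matrix.smul_mulVec,
      Matrix.one_mulVec, polar_add_right, polar_smul_right', polar_smul_right']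
  have hk1 : k' = α • (1 : Matrix (Fin n) (Fin n) F) - j := by
    have hprod : (k' - j) * (k' + j - α • (1 : Matrix (Fin n) (Fin n) F)) = 0 := by
      rw [sub_mul, mul_sub, mul_sub, mul_add, mul_add, hK.comm j hjK k' hk'K, hkk, hjj, Matrix.mul_smul,
        Matrix.mul_smul, mul_one, mul_one]
      module
    rcases hzero _ (K.sub_mem hk'K hjK) _ (K.sub_mem (K.add_mem hk'K hjK) (K.smul_mem K.one_mem α)) hprod with e | e
    · refine absurd ?_ hnsa
      intro k hk u v
      obtain ⟨a, b, rfl⟩ := (hspan k).1 hk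
      simp only [Matrix.add_mulVec, Matrix.smul_mulVec, Matrix.one_mulVec, polar_add_left, polar_add_right,
        polar_smul_left', polar_smul_right', hk'', sub_eq_zero.1 e]
    · linear_combination (norm := module) e
  refine H98.HermOrth.isMaximalIn_herm Q hN (by rw [Module.finrank_fin_fun]; omega) K (j := j) (α := α) (β := β)
    hspan ⟨hsq, fun c hc => ?_, fun x y => ?_, fun u hu => ?_⟩
  · have hprod : (j - c • (1 : Matrix (Fin n) (Fin n) F)) * (j + c • (1 : Matrix (Fin n) (Fin n) F) -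
        α • (1 : Matrix (Fin n) (Fin n) F)) = 0 := by
      rw [sub_mul, mul_sub, mul_sub, mul_add, mul_add, hjj]
      simp only [Matrix.mul_smul, Matrix.smul_mul, mul_one, one_mul, smul_smul, hc]
      module
    rcases hzero _ (K.sub_mem hjK (K.smul_mem K.one_mem c)) _
      (K.sub_mem (K.add_mem hjK (K.smul_mem K.one_mem c)) (K.smul_mem K.one_mem α)) hprod with e | e
    · exact hj c (sub_eq_zero.1 e)
    · exact hj (α - c) (by linear_combination (norm := module) e)
  · simp only [Matrix.mulVecLin_apply, hk'', hk1, Matrix.sub_mulVec, Matrix.smul_mulVec, Matrix.one_mulVec,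
      polar_sub_right, polar_smul_right']
  · obtain ⟨c, hc⟩ := hsc j hjK
    obtain ⟨c', hc'⟩ := hsc (1 + j) (K.add_mem K.one_mem hjK)
    have h1 : Q (j *ᵥ u) = 0 := by rw [hc, hu, mul_zero]
    refine ⟨h1, ?_⟩
    have h2 := hc' u
    rw [Matrix.add_mulVec, Matrix.one_mulVec, map_add_polar, hu, h1, mul_zero, add_zero, zero_add] at h2
    exact h2

end Cfsg.Agent.S5700
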