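import Cfsg.Statements.S5701
import Cfsg.Agent.H57.ExtOrth.Main

set_option autoImplicit false
open Cfsg

namespace Cfsg.Agent.S5701

/-- Let F be a finite field with q elements, n ≥ 13 even, Q a non-degenerate quadratic form on F^n (of either type), and Ω the commutator subgroup of the isometry group of Q, viewed inside GL_n(F). Suppose q is odd. Let K be a subfield of the algebra of n × n matrices over F containing the scalars, of prime degree r over F with n/r ≥ 3, whose elements are self-adjoint for the polar form of Q. Then the elements of Ω normalising K form a maximal subgroup of Ω. -/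
theorem result {F : Type*} [Field F] [Fintype F] {n : ℕ} (hn : 13 ≤ n) (heven : Even n) (Q : (Fin n → F) → F) (hQ : Cfsg.Geo.IsNondegenerateQuadraticForm Q) (hodd : Odd (Fintype.card F)) (r : ℕ) (hr : r.Prime) (hnr : 3 * r ≤ n) (K : Subalgebra F (Matrix (Fin n) (Fin n) F)) (hK : Cfsg.Geo.IsFieldSubalgebra r K) (hsa : Cfsg.Geo.IsSelfAdjointFor (QuadraticMap.polar Q) K) : Cfsg.Geo.IsMaximalIn (Cfsg.Geo.omegaGL Q) (Cfsg.Geo.subalgebraNormalizer K ⊓ Cfsg.Geo.omegaGL Q) := by
  obtain ⟨Q, rfl⟩ : ∃ Q' : QuadraticForm F (Fin n → F), ⇑Q' = Q := ⟨H96.asForm hQ, rfl⟩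
  have : Nonempty (Fin n) := ⟨⟨0, by omega⟩⟩
  have hN : Cfsg.Agent.Orthogonal.Nondeg Q := H96.asForm_nondeg hQ
  obtain ⟨d, hd⟩ := H57.ExtOrth.dvd_of_isFieldSubalgebra hK
  rw [Fintype.card_fin] at hd
  have hn' : Module.finrank F (Fin n → F) = n := Module.finrank_fin_fun F
  refine H57.ExtOrth.isMaximalIn_ext Q hN hodd K r hr hK hsa (by omega) ?_ ?_
  all_goals rw [hn']
  all_goals rcases hr.eq_two_or_odd' with h2 | h2
  · omega
  · have hd3 : 3 ≤ d := Nat.le_of_mul_le_mul_left (by rw [← hd, mul_comm]; exact hnr) hr.pos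
    have hdev : Even d := (Nat.even_mul.1 (hd ▸ heven)).resolve_left (Nat.not_even_iff_odd.2 h2)
    obtain ⟨k, rfl⟩ := hdev
    calc 4 * r ≤ (k + k) * r := Nat.mul_le_mul_right _ (by omega)
      _ = n := by rw [hd, mul_comm]
  · exact Or.inr (by omega)
  · exact Or.inl (by have := hr.two_le; obtain ⟨j, rfl⟩ := h2; omega)

end Cfsg.Agent.S5701
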