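import Cfsg.Statements.S5702
import Cfsg.Statements.S5702
import Cfsg.Agent.H98.SubfieldOrth.Main

set_option autoImplicit false
open Cfsg

namespace Cfsg.Agent.S5702

open Cfsg.Agent.Orthogonal Cfsg.Agent.H98.SubfieldOrth

theorem omegaGL_congr {F : Type*} [Field F] {ι : Type} [Fintype ι] [DecidableEq ι] {Q Q' : (ι → F) → F}
    (h : Cfsg.isometryGroup F Q = Cfsg.isometryGroup F Q') : Cfsg.Geo.omegaGL Q = Cfsg.Geo.omegaGL Q' := by
  unfold Cfsg.Geo.omegaGL Cfsg.Omega
  rw [h]

/-- Let F be a finite field with q elements, n ≥ 13 even, Q a non-degenerate quadratic form on F^n (of either type), and Ω the commutator subgroup of the isometry group of Q, viewed inside GL_n(F). Let F₀ be a subfield with |F| = |F₀| ^ r for a prime r, ζ a non-zero scalar and P an invertible matrix such that ζ·Q takes values in F₀ on the F₀-span of the columns of P. Then the elements of Ω lying in the subfield group of P (the conjugate by P of the product of GL_n(F₀) with the scalars) form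 a maximal subgroup of Ω. -/
theorem result {F : Type*} [Field F] [Fintype F] {n : ℕ} (hn : 13 ≤ n) (heven : Even n) (Q : (Fin n → F) → F) (hQ : Cfsg.Geo.IsNondegenerateQuadraticForm Q) (F₀ : Subfield F) (r : ℕ) (hr : r.Prime) (hcard : Fintype.card F = Nat.card F₀ ^ r) (P : Matrix.GeneralLinearGroup (Fin n) F) (ζ : F) (hζ : ζ ≠ 0) (hP : Cfsg.Geo.IsQuadFormRationalStructure (fun v : Fin n → F => ζ * Q v) F₀ P) : Cfsg.Geo.IsMaximalIn (Cfsg.Geo.omegaGL Q) (Cfsg.Geo.subfieldSubgroup F₀ P ⊓ Cfsg.Geo.omegaGL Q) := by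
  obtain ⟨Q, rfl⟩ : ∃ Q' : QuadraticForm F (Fin n → F), ⇑Q' = Q := ⟨H96.asForm hQ, rfl⟩
  have hN : Nondeg Q := H96.asForm_nondeg hQ
  have hN' : Nondeg (ζ • Q) := fun x hx => hN x fun y => by
    have := hx y
    rw [show ⇑(ζ • Q) = ζ • ⇑Q from rfl, QuadraticMap.polar_smul, smul_eq_mul] at this
    exact (mul_eq_zero.1 this).resolve_left hζ
  have hiso : Cfsg.Geo.omegaGL ⇑Q = Cfsg.Geo.omegaGL ⇑(ζ • Q) := by
    have h : Cfsg.isometryGroup F ⇑Q = Cfsg.isometryGroup F ⇑(ζ • Q) := by
      ext g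
      simp [Cfsg.Agent.Orthogonal.mem_isometryGroup_iff, hζ]
    exact omegaGL_congr h
  rw [hiso]
  exact isMaximalIn_subfield F₀ P (ζ • Q) hN' (by simpa using hn) r hr hcard hP

end Cfsg.Agent.S5702
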