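import Cfsg.Statements.S5704
import Cfsg.Agent.Aschbacher.Forms
import Cfsg.Agent.H98.TensorSp.Main

set_option autoImplicit false
open Cfsg

namespace Cfsg.Agent.S5704

open QuadraticMap Module Matrix Cfsg.Agent.H96 Cfsg.Agent.Orthogonal Cfsg.Agent.H98 Cfsg.Agent.H98.ExtField
  Cfsg.Agent.H98.TensorGL Cfsg.Agent.H98.TensorSp


/-- Let F be a finite field with q elements, n ≥ 13 even, Q a non-degenerate quadratic form on F^n of plus type (some subspace of dimension n/2 is totally singular), and Ω the commutator subgroup of the isometry group of Q, viewed inside GL_n(F). Suppose that, through a change of basis P and a bijection of index sets e, the polar form of Q is similar to the tensor product of non-degenerate symplectic forms f₁ on F^(n₁) and f₂ on F^(n₂) with n₁ < n₂, and Q vanishes on the images of all pure tensors. Unless q = 2 and n₁ = 2, the elements of Ω in the stabiliser of this tensor decomposition form a maximal subgroup of Ω. -/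
theorem result {F : Type*} [Field F] [Fintype F] {n : ℕ} (hn : 13 ≤ n) (heven : Even n) (Q : (Fin n → F) → F) (hQ : Cfsg.Geo.IsNondegenerateQuadraticForm Q) (hplus : Cfsg.Geo.IsPlusTypeOn Q ⊤) (n₁ n₂ : ℕ) (h12 : n₁ < n₂) (hex : ¬ (Fintype.card F = 2 ∧ n₁ = 2)) (e : (Fin n) ≃ Fin n₁ × Fin n₂) (P : Matrix.GeneralLinearGroup (Fin n) F) (f₁ : (Fin n₁ → F) → (Fin n₁ → F) → F) (f₂ : (Fin n₂ → F) → (Fin n₂ → F) → F) (hf₁ : Cfsg.Geo.IsSymplecticForm f₁) (hf₂ : Cfsg.Geo.IsSymplecticForm f₂) (hT : Cfsg.Geo.IsTensorFormStructure id (QuadraticMap.polar Q) f₁ f₂ e P) (hpure : (∀ (x₁ : Fin n₁ → F) (x₂ : Fin n₂ → F), Q (Matrix.mulVec (P : Matrix (Fin n) (Fin n) F) ((fun a : Fin n₁ × Fin n₂ => x₁ a.1 * x₂ a.2) ∘ e)) = 0)) : Cfsg.Geo.IsMaximalIn (Cfsg.Geo.omegaGL Q) (Cfsg.Geo.tensorProductSubgroup n₁ n₂ e P ⊓ Cfsg.Geo.omegaGL Q) := by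
  classical
  obtain ⟨Q, rfl⟩ : ∃ Q' : QuadraticForm F (Fin n → F), ⇑Q' = Q := ⟨H96.asForm hQ, rfl⟩
  have hN : Nondeg Q := H96.asForm_nondeg hQ
  obtain ⟨c, hc0, hpol⟩ := tensor_polar hf₂.bilinear hT
  let B₁ : (Fin n₁ → F) →ₗ[F] (Fin n₁ → F) →ₗ[F] F := c • LinearMap.mk₂ F f₁ hf₁.bilinear.add_left
    hf₁.bilinear.smul_left hf₁.bilinear.add_right (fun r v x => hf₁.bilinear.smul_right r v x)
  let B₂ : (Fin n₂ → F) →ₗ[F] (Fin n₂ → F) →ₗ[F] F := LinearMap.mk₂ F f₂ hf₂.bilinear.add_left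
    hf₂.bilinear.smul_left hf₂.bilinear.add_right (fun r v x => hf₂.bilinear.smul_right r v x)
  let S : TensorSp.Pair F n₁ n₂ :=
    { B₁ := B₁
      B₂ := B₂
      alt₁ := fun x => by
        show c * f₁ x x = 0
        rw [hf₁.alternating, mul_zero]
      nd₁ := fun x hx => by
        by_contra hne
        obtain ⟨y, hy⟩ := (hf₁.nondegenerate x hne).2
        exact mul_ne_zero hc0 hy (hx y)
      alt₂ := hf₂.alternating
      nd₂ := fun x hx => by
        by_contra hne
        obtain ⟨y, hy⟩ := (hf₂.nondegenerate x hne).2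
        exact hy (hx y) }
  have heven' : ∀ {k : ℕ} (B : (Fin k → F) →ₗ[F] (Fin k → F) →ₗ[F] F), (∀ x, B x x = 0) →
      (∀ x, (∀ y, B x y = 0) → x = 0) → Even k := by
    intro k B halt hnd
    have hskew : ∀ x y, B x y = -B y x := fun x y => by
      have h := halt (x + y)
      simp only [map_add, LinearMap.add_apply, halt, zero_add, add_zero] at h
      exact eq_neg_of_add_eq_zero_right h
    let G : Matrix (Fin k) (Fin k) F := fun i j => B (Pi.single i 1) (Pi.single j 1)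
    have hG : IsUnit G := Matrix.mulVec_injective_iff_isUnit.1
      ((injective_iff_map_eq_zero (Matrix.mulVecLin G)).2 fun u hu => hnd u fun y => by
        have h1 : ∀ i, B (Pi.single i 1) u = 0 := fun i => by
          rw [pi_eq_sum_univ' u, map_sum]
          refine Eq.trans ?_ (congrFun hu i)
          simp only [G, Matrix.mulVecLin_apply, Matrix.mulVec, dotProduct, map_smul, smul_eq_mul]
          exact Finset.sum_congr rfl fun j _ => mul_comm _ _
        rw [hskew, pi_eq_sum_univ' y, map_sum, LinearMap.sum_apply]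
        simp [h1])
    simpa using Cfsg.Agent.Aschbacher.even_card_of_alternating (A := G) (fun i j => hskew _ _) (fun i => halt _) hG
  have hcard : n = n₁ * n₂ := by simpa using Fintype.card_congr e
  have h1e := heven' S.B₁ S.alt₁ S.nd₁
  have h2e := heven' S.B₂ S.alt₂ S.nd₂
  have ha0 : 0 < n₁ := Nat.pos_of_ne_zero fun h => by rw [h, zero_mul] at hcard; omega
  have hab : n₁ + 2 ≤ n₂ := by obtain ⟨i, hi⟩ := h1e; obtain ⟨j, hj⟩ := h2e; omega
  have hb : 6 ≤ n₂ := by
    by_contra hb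
    obtain ⟨j, hj⟩ := h2e
    have : n₁ * n₂ ≤ 2 * 4 := Nat.mul_le_mul (by omega) (by omega)
    omega
  have hq : 3 ≤ n₁ ∨ ∃ t : F, t ≠ 0 ∧ t ≠ 1 := by
    rcases Nat.lt_or_ge n₁ 3 with ha | ha
    · right
      by_contra hcon
      push Not at hcon
      obtain ⟨i, hi⟩ := h1e
      refine hex ⟨le_antisymm ?_ Fintype.one_lt_card, by omega⟩
      have : (Finset.univ : Finset F) ⊆ {0, 1} := fun t _ => by
        rcases eq_or_ne t 0 with rfl | ht <;> simp_all
      exact (Finset.card_le_card this).trans Finset.card_le_two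
    · exact Or.inl ha
  let L := tensorIso e P
  have hC : Coord S Q L := by
    refine ⟨fun x y => ?_, fun v u => ?_⟩
    · rw [hpol x y, Pair.Bt, Finset.mul_sum]
      refine Finset.sum_congr rfl fun i _ => ?_
      rw [Finset.mul_sum]
      exact Finset.sum_congr rfl fun k _ => by
        show c * (_ * f₂ (x i) (y k)) = (c * f₁ _ _) * f₂ (x i) (y k)
        rw [← mul_assoc]
        rfl
    · exact hpure u v
  set φ := coordUnits Q L with hφ
  have hval : ∀ (x : O Q) m, (toUnits e P (H96.om Q x) : Module.End F (T F n₁ n₂)) m =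
      (φ x : Module.End F (T F n₁ n₂)) m := fun x m => by
    rw [toUnits_apply, hφ, coordUnits_apply, H96.om_mulVec]
  have hn5 : 5 ≤ finrank F (Fin n → F) := by rw [Module.finrank_fin_fun]; omega
  refine OrthMax.isMaximalIn_omega hN hn5 _ ?_ fun X hXS ⟨g, hgX, hgS⟩ => ?_
  · obtain ⟨v, w, -, hv, hw, -, hvw, -, -, -⟩ := exists_pairs S hb
    let cc : Fin n₁ → F := Pi.single ⟨0, ha0⟩ 1
    obtain ⟨z, hz⟩ : ∃ z, S.B₁ cc z = 1 := by
      obtain ⟨z, hz⟩ := not_forall.1 fun h0 => (show cc ≠ 0 by simp [cc]) (S.nd₁ cc h0)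
      exact ⟨(S.B₁ cc z)⁻¹ • z, by rw [map_smul, smul_eq_mul, inv_mul_cancel₀ hz]⟩
    obtain ⟨w', hw', hz'⟩ := exists_partner S (U := Submodule.span F {v}) (w := w) hw 1
    have hvw' : S.B₂ v w' = 0 := hz' v (Submodule.mem_span_singleton_self v)
    have h0 : polar Q (L (TensorGL.pure v cc)) (L (TensorGL.pure w cc)) = 0 := by
      rw [hC.polar_eq, S.Bt_pure_pure, hvw, zero_mul]
    refine ⟨sie _ _ (hC.pure_eq v cc) h0, OrthMax.sie_mem_commutator hN hn5 _ _, fun hS => ?_⟩
    obtain ⟨A, B, hAB⟩ := exists_tensor_action hS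
    set x := TensorGL.pure w' z with hx
    have h1 : (toUnits e P (H96.om Q (sie _ _ (hC.pure_eq v cc) h0)) : Module.End F (T F n₁ n₂)) x =
        TensorGL.pure ((B : Matrix (Fin n₂) (Fin n₂) F) *ᵥ w') ((A : Matrix (Fin n₁) (Fin n₁) F) *ᵥ z) := by
      rw [toUnits_apply, LinearEquiv.symm_apply_eq]
      refine (hAB x).trans (congrArg _ (funext fun i => ?_))
      simp only [hx, TensorGL.pure_apply, Matrix.mulVec_smul, smul_smul]
      rw [← Finset.sum_smul]
      rfl
    rw [hval, hφ, hC.sie_val, LinearMap.add_apply, Module.End.one_apply, Pair.sk, LinearMap.add_apply, te_apply,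
      te_apply, hx, ev_pure, ev_pure, hvw', hw', one_smul, zero_smul, Matrix.mulVec_zero, map_zero, add_zero,
      Pair.tau_mulVec, hz, one_smul] at h1
    set r := (A : Matrix (Fin n₁) (Fin n₁) F) *ᵥ z with hr
    set s := (B : Matrix (Fin n₂) (Fin n₂) F) *ᵥ w' with hs
    obtain ⟨ψ, hψv, hψ⟩ := Submodule.exists_le_ker_of_notMem (p := Submodule.span F {w'}) (v := v) fun hm => by
      obtain ⟨t, ht⟩ := Submodule.mem_span_singleton.1 hm
      have := S.comm₂ hvw
      rw [← ht, map_smul, hw', smul_eq_mul, mul_one] at this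
      rw [this, zero_smul] at ht
      exact hv ht.symm
    have h2 := congrArg (ev (S.B₂ w)) h1
    have h3 := congrArg (ev ψ) h1
    rw [map_add, ev_pure, ev_pure, ev_pure, hw', one_smul, S.comm₂ hvw, zero_smul, add_zero] at h2
    rw [map_add, ev_pure, ev_pure, ev_pure, LinearMap.mem_ker.1 (hψ (Submodule.mem_span_singleton_self w')),
      zero_smul, zero_add] at h3
    have hcc : cc = ((ψ v)⁻¹ * ψ s) • r := by rw [mul_smul, ← h3, inv_smul_smul₀ hψv]
    rw [hcc, h2] at hz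
    simp [S.alt₁] at hz
  have hmn : ∀ (Z : Module.End F (T F n₁ n₂)) (A : GL (Fin n₁) F) (B : GL (Fin n₂) F),
      MN ((sieGroup Q).map φ) Z → (∀ m, (1 + Z) m =
        fun i => ∑ k, (A : Matrix (Fin n₁) (Fin n₁) F) i k • ((B : Matrix (Fin n₂) (Fin n₂) F) *ᵥ m k)) →
      MN (X.map φ) Z := by
    rintro Z A B ⟨hZ, u, ⟨x, hx, rfl⟩, hu⟩ hact
    rw [SetLike.mem_coe, sieGroup_eq_commutator hN hn5] at hx
    exact ⟨hZ, _, ⟨x, hXS x hx (tensor_mem A B fun m => by rw [hval, hu]; exact hact m), rfl⟩, hu⟩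
  have hunit : ∀ {k : ℕ} (Y : Matrix (Fin k) (Fin k) F), Y * Y = 0 →
      ∃ A : GL (Fin k) F, (A : Matrix (Fin k) (Fin k) F) = 1 + Y := fun Y hY =>
    ⟨⟨1 + Y, 1 - Y, by rw [add_mul, one_mul, mul_sub, mul_one, hY]; abel,
      by rw [sub_mul, one_mul, mul_add, mul_one, hY]; abel⟩, rfl⟩
  have hG : Gen S (X.map φ) := by
    refine ⟨fun t v => ?_, fun t cv => ?_, ?_⟩
    · let Y : Matrix (Fin n₂) (Fin n₂) F := LinearMap.toMatrix' ((S.B₂ v).smulRight (t • v))
      have hY : ∀ w, Y *ᵥ w = S.B₂ v w • t • v := fun w => LinearMap.toMatrix'_mulVec _ w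
      obtain ⟨B, hB⟩ := hunit Y (Matrix.ext_iff_mulVec.2 fun w => by
        rw [← Matrix.mulVec_mulVec, hY, hY, map_smul, map_smul, S.alt₂, smul_zero, smul_zero, zero_smul,
          Matrix.zero_mulVec])
      refine hmn _ 1 B (hC.mn_right t v) fun m => funext fun i => ?_
      simp [hB, Matrix.add_mulVec, hY, te_apply, Matrix.one_apply, Finset.sum_add_distrib, Matrix.smul_mulVec,
        smul_smul, mul_comm]
    · have h0 : (t • S.tau cv cv) * (t • S.tau cv cv) = 0 := by
        rw [smul_mul_assoc, Matrix.mul_smul, S.tau_mul_tau, S.alt₁, zero_smul, smul_zero, smul_zero]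
      obtain ⟨A, hA⟩ := hunit _ h0
      refine hmn _ A 1 (hC.mn_left t cv) fun m => ?_
      rw [hA, ← lt_one, ← lt_add]
      simp [lt]
    · rintro _ ⟨x, -, rfl⟩ m m'
      exact hC.iso x m m'
  obtain ⟨v, hv, hnp⟩ : ∃ v : Fin n₂ → F, v ≠ 0 ∧
      NotPure ((φ g : Module.End F (T F n₁ n₂)) ∘ₗ TensorGL.pure v) := by
    by_contra hcon
    push Not at hcon
    obtain ⟨A, B, hAB⟩ := exists_of_pure ha0 (by omega) hcon
    exact hgS (tensor_mem A B fun m => (hval g m).trans (hAB m))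
  refine hC.sieGroup_le hN (by omega) ha0 hb hq hG (hG.hasL hb hab ⟨g, hgX, rfl⟩ hv hnp)

end Cfsg.Agent.S5704
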