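import Cfsg.Statements.S5705
import Cfsg.Agent.H96.TensorHalf
import Cfsg.Agent.H96.TensorCoords

set_option autoImplicit false
open Cfsg

namespace Cfsg.Agent.S5705

open QuadraticMap Cfsg.Agent.Orthogonal Cfsg.Agent.H96

/-- Let F be the field with 2 elements, n = 2 n₂ ≥ 13 even, Q a non-degenerate quadratic form on F^n of plus type and Ω the commutator subgroup of its isometry group. Suppose that, through P and e, the polar form of Q is similar to the tensor product of non-degenerate symplectic forms f₁ on F^2 and f₂ on F^(n₂), and Q vanishes on the images of all pure tensors. Then the elements of Ω in the stabiliser of this tensor decomposition form a subgroup that is not maximal: some subgroup lies strictly between it and Ω. -/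
theorem result {F : Type*} [Field F] [Fintype F] {n : ℕ} (hn : 13 ≤ n) (heven : Even n) (Q : (Fin n → F) → F) (hQ : Cfsg.Geo.IsNondegenerateQuadraticForm Q) (hplus : Cfsg.Geo.IsPlusTypeOn Q ⊤) (hq : Fintype.card F = 2) (n₂ : ℕ) (h2 : 2 < n₂) (e : (Fin n) ≃ Fin 2 × Fin n₂) (P : Matrix.GeneralLinearGroup (Fin n) F) (f₁ : (Fin 2 → F) → (Fin 2 → F) → F) (f₂ : (Fin n₂ → F) → (Fin n₂ → F) → F) (hf₁ : Cfsg.Geo.IsSymplecticForm f₁) (hf₂ : Cfsg.Geo.IsSymplecticForm f₂) (hT : Cfsg.Geo.IsTensorFormStructure id (QuadraticMap.polar Q) f₁ f₂ e P) (hpure : (∀ (x₁ : Fin 2 → F) (x₂ : Fin n₂ → F), Q (Matrix.mulVec (P : Matrix (Fin n) (Fin n) F) ((fun a : Fin 2 × Fin n₂ => x₁ a.1 * x₂ a.2) ∘ e)) = 0)) : ∃ K : Subgroup (Matrix.GeneralLinearGroup (Fin n) F), Cfsg.Geo.tensorProductSubgroup 2 n₂ e P ⊓ Cfsg.Geo.omegaGL Q < K ∧ K < Cfsg.Geo.omegaGL Q := by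
  obtain ⟨Q, rfl⟩ : ∃ Q' : QuadraticForm F (Fin n → F), ⇑Q' = Q := ⟨asForm hQ, rfl⟩
  have hN : Nondeg Q := fun x hx => by
    by_contra hne
    obtain ⟨y, hy⟩ := (hQ.nondegenerate x hne).2
    exact hy (hx y)
  have hF : ∀ t : F, t = 0 ∨ t = 1 := fun t => by
    rcases eq_or_ne t 0 with h | h
    · exact Or.inl h
    · have := FiniteField.pow_card_sub_one_eq_one t h
      rw [hq] at this
      exact Or.inr (by simpa using this)
  have h20 : (2 : F) = 0 := by
    rcases hF 2 with h | h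
    · exact h
    · exact absurd (by linear_combination h : (1 : F) = 0) one_ne_zero
  let β : (Fin n₂ → F) →ₗ[F] (Fin n₂ → F) →ₗ[F] F := LinearMap.mk₂ F f₂ hf₂.bilinear.add_left
    hf₂.bilinear.smul_left hf₂.bilinear.add_right hf₂.bilinear.smul_right
  let Φ : ((Fin n₂ → F) × (Fin n₂ → F)) ≃ₗ[F] (Fin n → F) :=
    (LinearEquiv.finTwoArrow F (Fin n₂ → F)).symm.trans (tensorIso e P)
  have hΦ : ∀ a b, Φ (a, b) = tensorIso e P ![a, b] := fun a b => rfl
  obtain ⟨c, hc, hpol⟩ := tensor_polar hf₂.bilinear hT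
  have hf00 : ∀ v, f₁ v v = 0 := hf₁.alternating
  have hg01 : Cfsg.Geo.gramMatrix f₁ 0 1 = 1 := by
    rcases hF (Cfsg.Geo.gramMatrix f₁ 0 1) with h | h
    · exfalso
      obtain ⟨x, hx⟩ := (hf₁.nondegenerate (Pi.single 0 1) (by simp)).2
      apply hx
      have hs := sum_gram hf₁.bilinear (Pi.single 0 1) x
      rw [← hs]
      simp only [Cfsg.Geo.gramMatrix] at h
      simp [Fin.sum_univ_two, Cfsg.Geo.gramMatrix, hf00, h]
    · exact h
  have hc1 : c = 1 := (hF c).resolve_left hc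
  have hsingle : ∀ (i : Fin 2) (a : Fin n₂ → F), Q (tensorIso e P (fun i' => (Pi.single i 1 : Fin 2 → F) i' • a)) = 0 :=
    fun i a => hpure (Pi.single i 1) a
  have h0 : ∀ a, Q (Φ (a, 0)) = 0 ∧ Q (Φ (0, a)) = 0 := fun a => by
    constructor
    · convert hsingle 0 a using 2
      rw [hΦ]; congr 1; funext i; fin_cases i <;> simp
    · convert hsingle 1 a using 2
      rw [hΦ]; congr 1; funext i; fin_cases i <;> simp
  have hQΦ : ∀ a b, Q (Φ (a, b)) = β a b := fun a b => by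
    have e1 : Φ (a, b) = Φ (a, 0) + Φ (0, b) := by rw [← map_add, Prod.mk_add_mk, add_zero, zero_add]
    rw [e1, map_add_polar, (h0 a).1, (h0 b).2, zero_add, zero_add, hΦ, hΦ, hpol, hc1, one_mul]
    have hz : ∀ v, f₂ v 0 = 0 := fun v => LinearMap.map_zero (β v)
    have hz' : ∀ v, f₂ 0 v = 0 := fun v => LinearMap.map_zero₂ β v
    simp [Fin.sum_univ_two, hg01, hz, hz']
    rfl
  obtain ⟨y, hy⟩ : ∃ y : Fin n₂ → F, y ≠ 0 := ⟨Pi.single ⟨0, by omega⟩ 1, by simp⟩
  obtain ⟨y', hy'⟩ := (hf₂.nondegenerate y hy).2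
  have hyy : β y y' = 1 := (hF _).resolve_left hy'
  obtain ⟨z, hz, hz0⟩ := Submodule.exists_mem_ne_zero_of_ne_bot
    (p := LinearMap.ker ((β.flip y).prod (β.flip y'))) fun h => by
      have := LinearMap.finrank_le_finrank_of_injective (LinearMap.ker_eq_bot.1 h)
      rw [Module.finrank_fintype_fun_eq_card, Fintype.card_fin, Module.finrank_prod, Module.finrank_self] at this
      omega
  rw [LinearMap.mem_ker, Prod.ext_iff] at hz
  obtain ⟨X, hX1, ⟨g, hg, hgX, hgS⟩, hX3⟩ := tensor_half Φ hQΦ hN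
    (by rw [Module.finrank_fintype_fun_eq_card, Fintype.card_fin]; omega) hF hf₂.alternating hyy hz.1 hz.2 hz0
  have key : ∀ x : O Q, om Q x ∈ Cfsg.Geo.tensorProductSubgroup 2 n₂ e P →
      ∃ (A : Matrix.GeneralLinearGroup (Fin 2) F) (B : (Fin n₂ → F) →ₗ[F] (Fin n₂ → F)), ∀ a b,
        (x : (Fin n → F) ≃ₗ[F] (Fin n → F)) (Φ (a, b)) = Φ ((A : Matrix (Fin 2) (Fin 2) F) 0 0 • B a +
          (A : Matrix (Fin 2) (Fin 2) F) 0 1 • B b, (A : Matrix (Fin 2) (Fin 2) F) 1 0 • B a +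
          (A : Matrix (Fin 2) (Fin 2) F) 1 1 • B b) := by
    intro x hx
    obtain ⟨A, B, hAB⟩ := exists_tensor_action hx
    refine ⟨A, Matrix.toLin' (B : Matrix (Fin n₂) (Fin n₂) F), fun a b => ?_⟩
    rw [← om_mulVec, hΦ, hΦ, hAB]
    congr 1
    funext i
    fin_cases i <;> simp [Fin.sum_univ_two]
  refine exists_between Q _ X (fun x _ hx => ?_) ⟨g, hg, hgX, fun hmem => ?_⟩ hX3
  · obtain ⟨A, B, hAB⟩ := key x hx
    exact hX1 x _ B (Matrix.GeneralLinearGroup.det_ne_zero A) hAB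
  · obtain ⟨A, B, hAB⟩ := key g hmem
    exact hgS _ B hAB

end Cfsg.Agent.S5705
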