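import Cfsg.Statements.S5706
import Cfsg.Agent.H72.SympWreath.Main
import Cfsg.Agent.H96.TensorCoords
import Cfsg.Agent.H98.OrthMax.Roots

set_option autoImplicit false
open Cfsg

namespace Cfsg.Agent.S5706

open QuadraticMap Module Matrix Cfsg.Agent.Orthogonal Cfsg.Agent.H98 Cfsg.Agent.H96 Cfsg.Agent.H96.TensorPower
  Cfsg.Agent.H72.SympWreath

/-- Let F be a finite field with q elements, n ≥ 13 even, Q a non-degenerate quadratic form on F^n of plus type (some subspace of dimension n/2 is totally singular), and Ω the commutator subgroup of the isometry group of Q, viewed inside GL_n(F). Suppose that, through a change of basis P and a bijection of index sets e, the polar form of Q is similar to the t-fold tensor power (t ≥ 2) of a non-degenerate symplectic form f₁ on F^k, that Q vanishes on the images of all pure tensors, that t is even if q is odd, that (q, k) is neither (2, 2) nor (3, 2), and that k ≥ 6 if q is even. Then the elements of Ω in the stabiliser of this decomposition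 form a maximal subgroup of Ω. -/
theorem result {F : Type*} [Field F] [Fintype F] {n : ℕ} (hn : 13 ≤ n) (heven : Even n) (Q : (Fin n → F) → F) (hQ : Cfsg.Geo.IsNondegenerateQuadraticForm Q) (hplus : Cfsg.Geo.IsPlusTypeOn Q ⊤) (k t : ℕ) (ht : 2 ≤ t) (hqt : Odd (Fintype.card F) → Even t) (hex1 : ¬ (Fintype.card F = 2 ∧ k = 2)) (hex2 : ¬ (Fintype.card F = 3 ∧ k = 2)) (hex3 : ¬ Odd (Fintype.card F) → 6 ≤ k) (e : (Fin n) ≃ (Fin t → Fin k)) (P : Matrix.GeneralLinearGroup (Fin n) F) (f₁ : (Fin k → F) → (Fin k → F) → F) (hf₁ : Cfsg.Geo.IsSymplecticForm f₁) (hT : Cfsg.Geo.IsTensorPowerFormStructure id (QuadraticMap.polar Q) f₁ e P) (hpure : (∀ xs : Fin t → (Fin k → F), Q (Matrix.mulVec (P : Matrix (Fin n) (Fin n) F) ((fun a : Fin t → Fin k => ∏ i, xs i (a i)) ∘ e)) = 0)) : Cfsg.Geo.IsMaximalIn (Cfsg.Geo.omegaGL Q) (Cfsg.Geo.tensorWreathSubgroup k t e P ⊓ Cfsg.Geo.omegaGL Q) := by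
  obtain ⟨Q, rfl⟩ : ∃ Q' : QuadraticForm F (Fin n → F), ⇑Q' = Q := ⟨asForm hQ, rfl⟩
  have hN : Nondeg Q := fun x hx => by
    by_contra hne
    obtain ⟨y, hy⟩ := (hQ.nondegenerate x hne).2
    exact hy (hx y)
  let β : (Fin k → F) →ₗ[F] (Fin k → F) →ₗ[F] F := LinearMap.mk₂ F f₁ hf₁.bilinear.add_left
    hf₁.bilinear.smul_left hf₁.bilinear.add_right hf₁.bilinear.smul_right
  have hkt : 13 ≤ k ^ t := by
    have := Fintype.card_congr e
    rw [Fintype.card_fin, Fintype.card_fun, Fintype.card_fin, Fintype.card_fin] at this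
    omega
  let Ψ : Sp F k t ≃ₗ[F] (Fin n → F) := (LinearEquiv.funCongrLeft F F e).trans
    (LinearMap.GeneralLinearGroup.generalLinearEquiv F (Fin n → F) (Matrix.GeneralLinearGroup.toLin P))
  have hΨ : ∀ x, Ψ x = (P : Matrix (Fin n) (Fin n) F).mulVec (x ∘ e) := fun x => rfl
  let Q₀ : QuadraticForm F (Sp F k t) := Q.comp (Ψ : Sp F k t →ₗ[F] (Fin n → F))
  have hQ₀ : ∀ x y, polar Q₀ x y = polar Q (Ψ x) (Ψ y) := fun x y => by
    simp only [polar, Q₀, QuadraticMap.comp_apply, LinearEquiv.coe_coe, map_add]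
  obtain ⟨c, hc, hform⟩ := hT
  have hB : ∀ x y, polar Q₀ (pureT x) (pureT y) = c * ∏ l, β (x l) (y l) := by
    intro x y
    rw [hQ₀, hΨ, hΨ, hform]
    congr 1
    have : ∀ l, β (x l) (y l) = ∑ a, ∑ b, x l a * Cfsg.Geo.gramMatrix f₁ a b * y l b := fun l =>
      (sum_gram hf₁.bilinear (x l) (y l)).symm
    simp only [this]
    rw [Fintype.prod_sum]
    refine Finset.sum_congr rfl fun a _ => ?_
    rw [Fintype.prod_sum]
    refine Finset.sum_congr rfl fun b _ => ?_
    simp only [pureT, id_eq, Finset.prod_mul_distrib]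
  have hkt0 : 0 < k := by
    rcases Nat.eq_zero_or_pos k with h | h
    · rw [h, zero_pow (by omega)] at hkt; omega
    · exact h
  let D : Base F k t :=
    { β := β
      Q := Q₀
      c := c
      alt := hf₁.alternating
      nd := fun x hx => by
        by_contra hne
        obtain ⟨y, hy⟩ := (hf₁.nondegenerate x hne).2
        exact hy (hx y)
      k_pos := hkt0
      ht := ht
      hQ := fun x hx => Ψ.injective ((hN _ fun y => by
        obtain ⟨y, rfl⟩ := Ψ.surjective y
        exact (hQ₀ x y).symm.trans (hx y)).trans (map_zero Ψ).symm)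
      polar_pure := hB
      pure_sing := fun x => hpure x }
  have hA : D.Allowed := by
    by_cases hk6 : 6 ≤ k
    · exact Or.inl hk6
    have hodd : Odd (Fintype.card F) := by
      by_contra h
      exact hk6 (hex3 h)
    have h2 : (2 : F) ≠ 0 := Ring.two_ne_zero fun h => by
      have := FiniteField.even_card_iff_char_two.1 h
      rw [Nat.odd_iff] at hodd
      omega
    obtain ⟨j, hj⟩ := (D.gram h2).even_dim
    refine Or.inr ⟨by omega, h2, hqt hodd, fun h3 => ?_⟩
    rw [Nat.card_eq_fintype_card] at h3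
    by_contra h4
    exact hex2 ⟨h3, by omega⟩
  let E : O Q₀ ≃* O Q := congrO Ψ fun x => rfl
  have hE : ∀ g, g ∈ commutator (O Q₀) → E g ∈ commutator (O Q) := by
    intro g hg
    have := Subgroup.mem_map_of_mem E.toMonoidHom hg
    rw [commutator_def, Subgroup.map_commutator, Subgroup.map_top_of_surjective _ E.surjective] at this
    exact this
  have hval : ∀ (w : GL (Fin t → Fin k) F) (z : Sp F k t),
      (((MulAut.conj P).toMonoidHom ((Cfsg.Geo.glReindex e.symm).toMonoidHom w) :
        GL (Fin n) F) : Matrix (Fin n) (Fin n) F) *ᵥ Ψ z = Ψ ((w : Matrix _ _ F) *ᵥ z) := fun w z => by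
    have hmat : (((MulAut.conj P).toMonoidHom ((Cfsg.Geo.glReindex e.symm).toMonoidHom w) :
        GL (Fin n) F) : Matrix (Fin n) (Fin n) F) =
        (P : Matrix (Fin n) (Fin n) F) * Matrix.reindex e.symm e.symm (w : Matrix _ _ F) *
          ((P⁻¹ : GL (Fin n) F) : Matrix (Fin n) (Fin n) F) := rfl
    have hP : ((P⁻¹ : GL (Fin n) F) : Matrix (Fin n) (Fin n) F) * (P : Matrix (Fin n) (Fin n) F) = 1 := by
      rw [← Units.val_mul, inv_mul_cancel, Units.val_one]
    rw [hmat, hΨ, hΨ, Matrix.mulVec_mulVec, Matrix.mul_assoc, hP, Matrix.mul_one, ← Matrix.mulVec_mulVec]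
    congr 1
    funext i
    simp only [Matrix.mulVec, dotProduct, Matrix.reindex_apply, Matrix.submatrix_apply, Function.comp_apply,
      Equiv.symm_symm]
    exact Equiv.sum_comp e (fun p => (w : Matrix _ _ F) (e i) p * z p)
  have hEapp : ∀ (g : O Q₀) z, (om Q (E g) : Matrix (Fin n) (Fin n) F) *ᵥ Ψ z =
      Ψ ((g : Sp F k t ≃ₗ[F] Sp F k t) z) := fun g z => by
    rw [om_mulVec]
    show Ψ ((g : Sp F k t ≃ₗ[F] Sp F k t) (Ψ.symm (Ψ z))) = _
    rw [LinearEquiv.symm_apply_apply]
  have key : ∀ g : O Q₀, om Q (E g) ∈ Cfsg.Geo.tensorWreathSubgroup k t e P ↔ D.Wreath g := by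
    intro g
    constructor
    · rintro ⟨_, ⟨w, hw, rfl⟩, hwg⟩
      obtain ⟨gs, π, hgs⟩ := isWreathMap_of_mem hw
      refine ⟨gs, π, fun x => Ψ.injective ?_⟩
      rw [← hEapp, ← hwg, hval, hgs]
    · rintro ⟨gs, π, hg⟩
      let w : GL (Fin t → Fin k) F := Aschbacher.pureGL gs * Aschbacher.factorPermGL π.symm
      have hw : ∀ z, (w : Matrix _ _ F) *ᵥ z = (g : Sp F k t ≃ₗ[F] Sp F k t) z := by
        refine LinearMap.congr_fun (ext_pure (f := Matrix.mulVecLin (w : Matrix _ _ F))
          (g := ((g : Sp F k t ≃ₗ[F] Sp F k t) : Sp F k t →ₗ[F] Sp F k t)) fun x => ?_)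
        rw [LinearEquiv.coe_coe, hg, Matrix.mulVecLin_apply]
        show (Aschbacher.pureMat (fun l => (gs l : Matrix (Fin k) (Fin k) F)) * Aschbacher.factorPerm π.symm) *ᵥ _ = _
        rw [← Matrix.mulVec_mulVec,
          show Aschbacher.factorPerm π.symm *ᵥ pureT x = pureT fun l => x (π l) from ?_]
        · exact Aschbacher.pureMat_mulVec _ _
        funext a
        simp only [Aschbacher.factorPerm, Matrix.mulVec, dotProduct, Matrix.of_apply, ite_mul, one_mul, zero_mul,
          Finset.sum_ite_eq', Finset.mem_univ, if_true, pureT, Function.comp_apply]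
        rw [← Equiv.prod_comp π.symm (fun l => x (π l) (a l))]
        exact Finset.prod_congr rfl fun l _ => by rw [Equiv.apply_symm_apply]
      refine ⟨_, ⟨w, mul_mem (Subgroup.subset_closure (Or.inl ⟨gs, fun _ _ => rfl⟩))
        (Subgroup.subset_closure (Or.inr ⟨π.symm, fun _ _ => rfl⟩)), rfl⟩, ?_⟩
      refine Units.ext (Matrix.ext_iff_mulVec.2 fun v => ?_)
      obtain ⟨z, rfl⟩ := Ψ.surjective v
      rw [hEapp, ← hw, ← hval]
  have hn5 : 5 ≤ finrank F (Fin n → F) := by rw [Module.finrank_fin_fun]; omega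
  refine OrthMax.isMaximalIn_omega hN hn5 _ ?_ fun Y hY ⟨g, hgY, hgS⟩ => ?_
  · obtain ⟨g, hg, hgw⟩ := D.exists_not_wreath hkt hA
    exact ⟨E g, hE g hg, fun h => hgw ((key g).1 h)⟩
  have hle : sieGroup Q₀ ≤ Y.comap E.toMonoidHom := by
    refine D.sieGroup_le hkt hA (fun x hx hxw => hY _ (hE x hx) ((key x).2 hxw)) ⟨E.symm g, ?_, fun h => hgS ?_⟩
    · rw [Subgroup.mem_comap, MulEquiv.coe_toMonoidHom, MulEquiv.apply_symm_apply]
      exact hgY
    · rw [← E.apply_symm_apply g]
      exact (key _).2 h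
  intro x hx
  rw [sieGroup_eq_commutator hN hn5] at hx
  have hx' : E.symm x ∈ commutator (O Q₀) := by
    have := Subgroup.mem_map_of_mem E.symm.toMonoidHom hx
    rwa [commutator_def, Subgroup.map_commutator, Subgroup.map_top_of_surjective _ E.symm.surjective] at this
  rw [← sieGroup_eq_commutator D.hQ (by rw [Base.finrank_sp]; omega)] at hx'
  have := hle hx'
  rwa [Subgroup.mem_comap, MulEquiv.coe_toMonoidHom, MulEquiv.apply_symm_apply] at this

end Cfsg.Agent.S5706
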