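import Cfsg.Statements.S5707
import Cfsg.Agent.H96.SlotInstance
import Cfsg.Agent.H96.TensorCoords

set_option autoImplicit false
open Cfsg

namespace Cfsg.Agent.S5707

open QuadraticMap Cfsg.Agent.Orthogonal Cfsg.Agent.H96 Cfsg.Agent.H96.TensorPower

/-- Let F be a finite field with q elements, n ≥ 13 even, Q a non-degenerate quadratic form on F^n of plus type (some subspace of dimension n/2 is totally singular), and Ω the commutator subgroup of the isometry group of Q, viewed inside GL_n(F). Suppose q is even and that, through P and e, the polar form of Q is similar to the t-fold tensor power (t ≥ 2) of a non-degenerate symplectic form f₁ on F^k with k ≤ 4 and (q, k) ≠ (2, 2), Q vanishing on the images of all pure tensors. Then the elements of Ω in the stabiliser of this decomposition form a subgroup that is not maximal: some subgroup lies strictly between it and Ω. -/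
theorem result {F : Type*} [Field F] [Fintype F] {n : ℕ} (hn : 13 ≤ n) (heven : Even n) (Q : (Fin n → F) → F) (hQ : Cfsg.Geo.IsNondegenerateQuadraticForm Q) (hplus : Cfsg.Geo.IsPlusTypeOn Q ⊤) (hchar : ¬ Odd (Fintype.card F)) (k t : ℕ) (ht : 2 ≤ t) (hk : k ≤ 4) (hex1 : ¬ (Fintype.card F = 2 ∧ k = 2)) (e : (Fin n) ≃ (Fin t → Fin k)) (P : Matrix.GeneralLinearGroup (Fin n) F) (f₁ : (Fin k → F) → (Fin k → F) → F) (hf₁ : Cfsg.Geo.IsSymplecticForm f₁) (hT : Cfsg.Geo.IsTensorPowerFormStructure id (QuadraticMap.polar Q) f₁ e P) (hpure : (∀ xs : Fin t → (Fin k → F), Q (Matrix.mulVec (P : Matrix (Fin n) (Fin n) F) ((fun a : Fin t → Fin k => ∏ i, xs i (a i)) ∘ e)) = 0)) : ∃ K : Subgroup (Matrix.GeneralLinearGroup (Fin n) F), Cfsg.Geo.tensorWreathSubgroup k t e P ⊓ Cfsg.Geo.omegaGL Q < K ∧ K < Cfsg.Geo.omegaGL Q := by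
  obtain ⟨Q, rfl⟩ : ∃ Q' : QuadraticForm F (Fin n → F), ⇑Q' = Q := ⟨asForm hQ, rfl⟩
  have hN : Nondeg Q := fun x hx => by
    by_contra hne
    obtain ⟨y, hy⟩ := (hQ.nondegenerate x hne).2
    exact hy (hx y)
  have h2 : (2 : F) = 0 := by
    by_contra h
    exact hchar (Nat.odd_iff.2 (FiniteField.odd_card_of_char_ne_two fun hr => by
      haveI := ringChar.of_eq hr
      exact h (CharTwo.two_eq_zero)))
  let β : (Fin k → F) →ₗ[F] (Fin k → F) →ₗ[F] F := LinearMap.mk₂ F f₁ hf₁.bilinear.add_left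
    hf₁.bilinear.smul_left hf₁.bilinear.add_right hf₁.bilinear.smul_right
  have hkt : 13 ≤ k ^ t := by
    have := Fintype.card_congr e
    rw [Fintype.card_fin, Fintype.card_fun, Fintype.card_fin, Fintype.card_fin] at this
    omega
  let Ψ : Sp F k t ≃ₗ[F] (Fin n → F) := (LinearEquiv.funCongrLeft F F e).trans
    (LinearMap.GeneralLinearGroup.generalLinearEquiv F (Fin n → F) (Matrix.GeneralLinearGroup.toLin P))
  have hΨ : ∀ x, Ψ x = (P : Matrix (Fin n) (Fin n) F).mulVec (x ∘ e) := fun x => rfl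
  let Q₀ : QuadraticForm F (Sp F k t) := Q.comp (Ψ : Sp F k t →ₗ[F] (Fin n → F))
  have hQ₀ : ∀ x y, polar Q₀ x y = polar Q (Ψ x) (Ψ y) := fun x y => by
    simp only [polar, Q₀, QuadraticMap.comp_apply, LinearEquiv.coe_coe, map_add]
  obtain ⟨c, hc, hform⟩ := hT
  have hB : ∀ x y, polar Q₀ (pureT x) (pureT y) = c * ∏ l, β (x l) (y l) := by
    intro x y
    rw [hQ₀, hΨ, hΨ, hform]
    congr 1
    have : ∀ l, β (x l) (y l) = ∑ a, ∑ b, x l a * Cfsg.Geo.gramMatrix f₁ a b * y l b := fun l =>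
      (sum_gram hf₁.bilinear (x l) (y l)).symm
    simp only [this]
    rw [Fintype.prod_sum]
    refine Finset.sum_congr rfl fun a _ => ?_
    rw [Fintype.prod_sum]
    refine Finset.sum_congr rfl fun b _ => ?_
    simp only [pureT, id_eq, Finset.prod_mul_distrib]
  obtain ⟨X, hX1, ⟨g, hg, hgX, hgS⟩, hX3⟩ := slot_instance h2 (β := β) hf₁.alternating
    (fun a ha => (hf₁.nondegenerate a ha).2) hk ht hkt (Q := Q₀)
    (fun x hx => Ψ.injective ((hN _ fun y => by
      obtain ⟨y, rfl⟩ := Ψ.surjective y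
      exact (hQ₀ x y).symm.trans (hx y)).trans (map_zero Ψ).symm)) hc hB (fun x => hpure x)
  let E : O Q₀ ≃* O Q := congrO Ψ fun x => rfl
  have hE : ∀ g, g ∈ commutator (O Q₀) → E g ∈ commutator (O Q) := by
    intro g hg
    have := Subgroup.mem_map_of_mem E.toMonoidHom hg
    rw [commutator_def, Subgroup.map_commutator, Subgroup.map_top_of_surjective _ E.surjective] at this
    exact this
  have key : ∀ g : O Q₀, om Q (E g) ∈ Cfsg.Geo.tensorWreathSubgroup k t e P →
      ∃ (gs : Fin t → (Fin k → F) ≃ₗ[F] (Fin k → F)) (π : Equiv.Perm (Fin t)),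
        ∀ x, (g : Sp F k t ≃ₗ[F] Sp F k t) (pureT x) = pureT fun l => gs l (x (π l)) := by
    intro g hg
    obtain ⟨_, ⟨w, hw, rfl⟩, hwg⟩ := hg
    obtain ⟨gs, π, hgs⟩ := isWreathMap_of_mem hw
    refine ⟨fun l => glEquiv (gs l), π, fun x => Ψ.injective ?_⟩
    have h1 : Ψ ((g : Sp F k t ≃ₗ[F] Sp F k t) (pureT x)) = (om Q (E g) : Matrix (Fin n) (Fin n) F).mulVec (Ψ (pureT x)) := by
      rw [om_mulVec]
      show _ = Ψ ((g : Sp F k t ≃ₗ[F] Sp F k t) (Ψ.symm (Ψ (pureT x))))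
      rw [LinearEquiv.symm_apply_apply]
    rw [h1, ← hwg]
    have hval : (((MulAut.conj P).toMonoidHom ((Cfsg.Geo.glReindex e.symm).toMonoidHom w) :
        Matrix.GeneralLinearGroup (Fin n) F) : Matrix (Fin n) (Fin n) F) =
        (P : Matrix (Fin n) (Fin n) F) * Matrix.reindex e.symm e.symm (w : Matrix _ _ F) *
          ((P⁻¹ : Matrix.GeneralLinearGroup (Fin n) F) : Matrix (Fin n) (Fin n) F) := rfl
    have hP : ((P⁻¹ : Matrix.GeneralLinearGroup (Fin n) F) : Matrix (Fin n) (Fin n) F) * (P : Matrix (Fin n) (Fin n) F) = 1 := by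
      rw [← Units.val_mul, inv_mul_cancel, Units.val_one]
    rw [hval, hΨ, hΨ, Matrix.mulVec_mulVec, Matrix.mul_assoc, hP, Matrix.mul_one, ← Matrix.mulVec_mulVec]
    congr 1
    have h2 : pureT (fun l => glEquiv (gs l) (x (π l))) = (w : Matrix _ _ F).mulVec (pureT x) := (hgs x).symm
    rw [h2]
    funext i
    simp only [Matrix.mulVec, dotProduct, Matrix.reindex_apply, Matrix.submatrix_apply, Function.comp_apply,
      Equiv.symm_symm]
    exact Equiv.sum_comp e (fun p => (w : Matrix _ _ F) (e i) p * pureT x p)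
  refine exists_between Q _ (X.map E.toMonoidHom) (fun x _ hx => ?_) ⟨E g, hE g hg, ⟨g, hgX, rfl⟩, fun hmem => ?_⟩ ?_
  · obtain ⟨y, rfl⟩ := E.surjective x
    obtain ⟨gs, π, hy⟩ := key y hx
    exact ⟨y, hX1 y gs π hy (fun x => ⟨_, inv_wreath y gs π hy x⟩), rfl⟩
  · obtain ⟨gs, π, hy⟩ := key g hmem
    exact hgS fun x => ⟨_, hy x⟩
  · obtain ⟨g', hg', hg''⟩ := hX3
    refine ⟨E g', hE g' hg', fun ⟨y, hy, hye⟩ => hg'' ?_⟩
    rwa [← E.injective hye]

end Cfsg.Agent.S5707
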