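import Cfsg.Statements.S5711
import Cfsg.Agent.Linear.Mitchell.Main
import Cfsg.Agent.Linear.Mitchell.Subgroups.Normaliser
import Cfsg.Agent.Linear.Mitchell.Subgroups.Orth
import Cfsg.Agent.S0495

set_option autoImplicit false
set_option linter.style.haveILetI false
open scoped MatrixGroups
open Cfsg

namespace Cfsg.Agent.S5711

open Cfsg.Geo Cfsg.Agent.Linear.Mitchell Cfsg.Agent.Linear.Mitchell.Socle Cfsg.Agent.Linear.Mitchell.Subgroups

/-- The outcomes of Mitchell's theorem give the list. -/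
theorem list_of_layer {F : Type*} [Field F] [Fintype F] (p α : ℕ) [Fact p.Prime] [CharP F p] (hp : p ≠ 2)
    (hF : Fintype.card F = p ^ α) {G P : Subgroup (GL (Fin 3) F)} (hG : G ≤ specialLinear (Fin 3) F)
    (hle : P ≤ G) (hi : Invt G P) (hS : Setting P) : List5711 p α (PX G) := by
  have hall := fun h : ∀ g ∈ G, InP P g => (iso_of_all hle h : Nonempty (PX G ≃* PX P))
  haveI := hS.simple
  rcases mitchell p hS with h | h | ⟨-, Q, hQ, hfix⟩ | h | h | ⟨h, h5⟩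
  · exact form_case p hF hG hle hi hS (Or.inl h)
  · exact form_case p hF hG hle hi hS (Or.inr h)
  · exact quad_case p α hp hF hG hle hi hS hQ hfix
  · by_cases h7 : p = 7
    · obtain ⟨Q, hQ, hfix⟩ := quad_168 p hS h h7
      exact quad_case p α hp hF hG hle hi hS hQ hfix
    obtain ⟨e⟩ := hall fun g hg => pair_inP p hS h7 (Or.inl h) (hi g hg)
    haveI : Fact (Nat.Prime 7) := ⟨by norm_num⟩
    obtain ⟨f⟩ := Cfsg.Agent.S0495.result (G := PX P) h (F := ZMod 7) (ZMod.card 7)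
    exact Or.inr (Or.inr (Or.inr (Or.inr (Or.inr (Or.inr (Or.inl
      ⟨mod_seven_168 p α hS h h7 hF, ZMod 7, inferInstance, inferInstance, ZMod.card 7, ⟨e.trans f⟩⟩))))))
  · by_cases h3 : p = 3
    · obtain ⟨Q, hQ, hfix⟩ := quad_360 p hS h h3
      exact quad_case p α hp hF hG hle hi hS hQ hfix
    obtain ⟨f⟩ := iso_six hS h
    by_cases h5 : p = 5
    · refine Or.inr (Or.inr (Or.inr (Or.inr (Or.inr (Or.inr (Or.inr (Or.inl
        ⟨h5, even_of_five p α hS (Or.inl h) h5 hF, ?_⟩)))))))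
      by_cases hout : ∀ g ∈ G, InP P g
      · exact (hall hout).elim fun e => Or.inl ⟨e.trans f⟩
      push Not at hout
      obtain ⟨g, hg, ho⟩ := hout
      obtain ⟨L, hL, ⟨eL⟩⟩ := exists_sub_two hle (fun a b oa ob =>
        six_index_two p hS h h3 (hi a a.2) (hi b b.2) oa ob) (g := ⟨g, hg⟩) ho
      exact Or.inr (Or.inr ⟨L, hL, ⟨eL.trans f⟩⟩)
    · obtain ⟨e⟩ := hall fun g hg => six_inP p hS h h3 h5 (hi g hg)
      exact Or.inr (Or.inr (Or.inr (Or.inr (Or.inr (Or.inr (Or.inr (Or.inr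
        ⟨mod_thirty_360 p α hS h hp h3 h5 hF, ⟨e.trans f⟩⟩)))))))
  · obtain ⟨f⟩ := iso_seven hS h
    obtain ⟨e⟩ := hall fun g hg => pair_inP p hS (by omega) (Or.inr h) (hi g hg)
    exact Or.inr (Or.inr (Or.inr (Or.inr (Or.inr (Or.inr (Or.inr (Or.inl
      ⟨h5, even_of_five p α hS (Or.inr h) h5 hF, Or.inr (Or.inl ⟨e.trans f⟩)⟩)))))))

/-- The subgroups of the three-dimensional projective special linear group over a finite field of odd order q = p^α with no nontrivial normal elementary abelian subgroup. Every nontrivial subgroup H of PSL₃(q) having no normal elementary abelian subgroup other than 1 satisfies one of: H ≅ PSL₃(p^β) with β ∣ α; H ≅ PSU₃(p^β) (realised over the field with p^{2β} elements) with 2β ∣ α; 3 ∣ p^β − 1, 3β ∣ α and H has a subgroup of index 3 isomorphic to PSL₃(p^β); 3 ∣ p^β + 1, 6β ∣ α and H has a subgroup of index 3 isomorphic to PSU₃(p^β); H ≅ PSL₂(p^β) or PGL₂(p^β)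 with β ∣ α and p^β ≠ 3; H ≅ PSL₂(5) with q ≡ ±1 (mod 10); H ≅ PSL₂(7) with q³ ≡ 1 (mod 7); p = 5, α is even and H ≅ A₆ or A₇ or H has a subgroup of index 2 isomorphic to A₆; H ≅ A₆ with q ≡ 1 or 19 (mod 30). -/
theorem result {F : Type*} [Field F] [Fintype F] (p α : ℕ) [Fact p.Prime] (hp : p ≠ 2) (hα : 1 ≤ α) (hF : Fintype.card F = p ^ α)
    (H : Subgroup (Matrix.ProjectiveSpecialLinearGroup (Fin 3) F)) (hH : H ≠ ⊥)
    (hN : ∀ N : Subgroup ↥H, N.Normal → IsMulCommutative ↥N → (∃ r : ℕ, r.Prime ∧ ∀ x ∈ N, x ^ r = 1) → N = ⊥) :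
    (∃ (K : Type) (_ : Field K) (_ : Fintype K) (β : ℕ), Fintype.card K = p ^ β ∧ β ∣ α ∧ Nonempty (↥H ≃* Matrix.ProjectiveSpecialLinearGroup (Fin 3) K)) ∨
    (∃ (K : Type) (_ : Field K) (_ : Fintype K) (β : ℕ), Fintype.card K = p ^ (2 * β) ∧ 2 * β ∣ α ∧ Nonempty (↥H ≃* Cfsg.PSU 3 K (p ^ β))) ∨
    (∃ (K : Type) (_ : Field K) (_ : Fintype K) (β : ℕ), Fintype.card K = p ^ β ∧ 3 ∣ p ^ β - 1 ∧ 3 * β ∣ α ∧ ∃ L : Subgroup ↥H, L.index = 3 ∧ Nonempty (↥L ≃* Matrix.ProjectiveSpecialLinearGroup (Fin 3) K)) ∨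
    (∃ (K : Type) (_ : Field K) (_ : Fintype K) (β : ℕ), Fintype.card K = p ^ (2 * β) ∧ 3 ∣ p ^ β + 1 ∧ 6 * β ∣ α ∧ ∃ L : Subgroup ↥H, L.index = 3 ∧ Nonempty (↥L ≃* Cfsg.PSU 3 K (p ^ β))) ∨
    (∃ (K : Type) (_ : Field K) (_ : Fintype K) (β : ℕ), Fintype.card K = p ^ β ∧ β ∣ α ∧ p ^ β ≠ 3 ∧ (Nonempty (↥H ≃* Matrix.ProjectiveSpecialLinearGroup (Fin 2) K) ∨ Nonempty (↥H ≃* (GL (Fin 2) K ⧸ Subgroup.center (GL (Fin 2) K))))) ∨
    ((p ^ α % 10 = 1 ∨ p ^ α % 10 = 9) ∧ ∃ (K : Type) (_ : Field K) (_ : Fintype K), Fintype.card K = 5 ∧ Nonempty (↥H ≃* Matrix.ProjectiveSpecialLinearGroup (Fin 2) K)) ∨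
    ((p ^ α) ^ 3 % 7 = 1 ∧ ∃ (K : Type) (_ : Field K) (_ : Fintype K), Fintype.card K = 7 ∧ Nonempty (↥H ≃* Matrix.ProjectiveSpecialLinearGroup (Fin 2) K)) ∨
    (p = 5 ∧ Even α ∧ (Nonempty (↥H ≃* ↥(alternatingGroup (Fin 6))) ∨ Nonempty (↥H ≃* ↥(alternatingGroup (Fin 7))) ∨
      ∃ L : Subgroup ↥H, L.index = 2 ∧ Nonempty (↥L ≃* ↥(alternatingGroup (Fin 6))))) ∨
    ((p ^ α % 30 = 1 ∨ p ^ α % 30 = 19) ∧ Nonempty (↥H ≃* ↥(alternatingGroup (Fin 6)))) := by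
  classical
  haveI : CharP F p := charP_of_card_eq_prime_pow hF
  obtain ⟨G, hG, ⟨e⟩⟩ := exists_lift H
  refine List5711.congr e ?_
  have hab : NoAb G := noAb_of_quotient fun A hA hc => by
    have hmap := comm_normal_eq_bot hN (A.map e.toMonoidHom) (hA.map _ e.surjective) (by
      rintro _ ⟨a, ha, rfl⟩ _ ⟨b, hb, rfl⟩
      rw [← map_mul, ← map_mul, hc a ha b hb])
    exact (Subgroup.map_eq_bot_iff_of_injective A e.injective).mp hmap
  have hns : ¬ G ≤ scalars (Fin 3) F := fun hle => hH ((Subgroup.eq_bot_iff_forall H).mpr fun x hx => by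
    obtain ⟨X, hX⟩ := e.surjective ⟨x, hx⟩
    obtain ⟨g, rfl⟩ := px_surjective X
    rw [show px G g = 1 from (QuotientGroup.eq_one_iff g).mpr (Subgroup.mem_subgroupOf.mpr (hle g.2)), map_one] at hX
    exact (congrArg Subtype.val hX).symm)
  obtain ⟨P, hPG, hP⟩ := exists_layer hab le_rfl (fun g hg a ha => G.mul_mem (G.mul_mem hg ha) (G.inv_mem hg)) hns
  exact list_of_layer p α hp hF hG hPG hP.invt (hP.setting hab hG p hp)

end Cfsg.Agent.S5711
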