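import Cfsg.Statements.S5712
import Cfsg.Agent.H96.TwoRoot.PointStab
import Cfsg.Agent.H96.TwoRoot.Small
import Cfsg.Agent.H96.TwoRoot.SixIndex
import Cfsg.Agent.H27.SpFourTwo
import Cfsg.Agent.Symplectic.Std
import Cfsg.Agent.Orthogonal.Basic

set_option autoImplicit false
open Cfsg
open LinearMap (BilinForm)

namespace Cfsg.Agent.S5712

open Cfsg.Agent.Orthogonal (glEquiv glEquiv_apply)
open Cfsg.Agent.H96.TwoRoot
open Cfsg.Agent.Symplectic (Isom spB spB_alt spB_nondeg)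

theorem pCore_isPGroup' {G : Type*} [Group G] [Finite G] : IsPGroup 2 (Cfsg.pCore 2 G) := by
  have : Fact (Nat.Prime 2) := ⟨Nat.prime_two⟩
  obtain ⟨S⟩ : Nonempty (Sylow 2 G) := inferInstance
  refine S.isPGroup'.to_le (sSup_le fun N hN => ?_)
  have := hN.1
  exact le_sup_right.trans (S.is_maximal' (S.isPGroup'.to_sup_of_normal_right hN.2) le_sup_left).le

theorem pCore_normal' {G : Type*} [Group G] {x : G} (hx : x ∈ Cfsg.pCore 2 G) (g : G) :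
    g * x * g⁻¹ ∈ Cfsg.pCore 2 G := by
  have h : (Cfsg.pCore 2 G).map (MulAut.conj g).toMonoidHom ≤ Cfsg.pCore 2 G := by
    rw [Cfsg.pCore, sSup_eq_iSup, Subgroup.map_iSup]
    refine iSup_le fun N => ?_
    rw [Subgroup.map_iSup]
    refine iSup_le fun hN => le_trans ?_ (le_iSup₂_of_le N hN le_rfl)
    rintro _ ⟨a, ha, rfl⟩
    exact hN.1.conj_mem a ha g
  exact h ⟨x, hx, rfl⟩

/-- The form of the statement is the standard alternating form. -/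
theorem form_eq {F : Type*} [Field F] [CharP F 2] {n : ℕ} (u v : Fin n ⊕ Fin n → F) :
    ∑ i : Fin n, (u (Sum.inl i) * v (Sum.inr i) + u (Sum.inr i) * v (Sum.inl i)) = spB n F u v := by
  rw [Cfsg.Agent.Symplectic.spB_apply, Cfsg.Agent.Symplectic.sympForm_eq]
  refine Finset.sum_congr rfl fun i _ => ?_
  rw [CharTwo.sub_eq_add, add_comm]

theorem rank_sub_one {F : Type*} [Field F] {n : ℕ} (g : GL (Fin n ⊕ Fin n) F) :
    ((g : Matrix (Fin n ⊕ Fin n) (Fin n ⊕ Fin n) F) - 1).rank =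
      Module.finrank F (LinearMap.range
        ((glEquiv g : (Fin n ⊕ Fin n → F) →ₗ[F] (Fin n ⊕ Fin n → F)) - LinearMap.id)) := by
  rw [Matrix.rank]
  have : ((g : Matrix (Fin n ⊕ Fin n) (Fin n ⊕ Fin n) F) - 1).mulVecLin =
      (glEquiv g : (Fin n ⊕ Fin n → F) →ₗ[F] (Fin n ⊕ Fin n → F)) - LinearMap.id :=
    LinearMap.ext fun v => by
      simp [Matrix.sub_mulVec, glEquiv_apply]
  rw [this]


/-- Let F be a finite field of characteristic two, n ≥ 2, V = F^{2n} with the non-degenerate alternating form f(u, v) = Σ (u_i v_{n+i} + u_{n+i} v_i), and G the group of invertible matrices preserving f. Let a ≠ 0 be a vector, H its stabilizer in G, and X a subgroup of O₂(H) of order |F|^{2n−2} no element of which is a transvection (no element g has g − 1 of rank one). If L is a subgroup of G containing X that acts irreducibly on V (no proper non-zero L-invariant subspace), then L = G, or, for some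 quadratic form Q on V whose polar form is f, L is the isometry group of Q or its subgroup of the isometries g for which g − 1 has even rank, or |F| = 2, n = 2 and L is isomorphic to the alternating group of degree 6 or to the symmetric group of degree 5. -/
theorem result {F : Type*} [Field F] [Fintype F] [CharP F 2] {n : ℕ} (hn : 2 ≤ n) (a : (Fin n ⊕ Fin n → F)) (ha : a ≠ 0)
    (X : Subgroup (GL (Fin n ⊕ Fin n) F)) (hXG : X ≤ Cfsg.preserving (Units.coeHom (Matrix (Fin n ⊕ Fin n) (Fin n ⊕ Fin n) F)) (fun u v : (Fin n ⊕ Fin n → F) => ∑ i : Fin n, (u (Sum.inl i) * v (Sum.inr i) + u (Sum.inr i) * v (Sum.inl i))))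
    (hXO : ∀ H : Subgroup (GL (Fin n ⊕ Fin n) F),
      (∀ g : GL (Fin n ⊕ Fin n) F, g ∈ H ↔ (g ∈ Cfsg.preserving (Units.coeHom (Matrix (Fin n ⊕ Fin n) (Fin n ⊕ Fin n) F)) (fun u v : (Fin n ⊕ Fin n → F) => ∑ i : Fin n, (u (Sum.inl i) * v (Sum.inr i) + u (Sum.inr i) * v (Sum.inl i))) ∧ Matrix.mulVec (g : Matrix (Fin n ⊕ Fin n) (Fin n ⊕ Fin n) F) a = a)) →
      X ≤ (Cfsg.pCore 2 ↥H).map H.subtype)
    (hcard : Nat.card ↥X = Fintype.card F ^ (2 * n - 2))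
    (hntv : ∀ x ∈ X, ((x : Matrix (Fin n ⊕ Fin n) (Fin n ⊕ Fin n) F) - 1).rank ≠ 1)
    (L : Subgroup (GL (Fin n ⊕ Fin n) F)) (hXL : X ≤ L) (hLG : L ≤ Cfsg.preserving (Units.coeHom (Matrix (Fin n ⊕ Fin n) (Fin n ⊕ Fin n) F)) (fun u v : (Fin n ⊕ Fin n → F) => ∑ i : Fin n, (u (Sum.inl i) * v (Sum.inr i) + u (Sum.inr i) * v (Sum.inl i))))
    (hirr : ∀ W : Submodule F (Fin n ⊕ Fin n → F), (∀ g ∈ L, ∀ w ∈ W, Matrix.mulVec (g : Matrix (Fin n ⊕ Fin n) (Fin n ⊕ Fin n) F) w ∈ W) → W = ⊥ ∨ W = ⊤) :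
    L = Cfsg.preserving (Units.coeHom (Matrix (Fin n ⊕ Fin n) (Fin n ⊕ Fin n) F)) (fun u v : (Fin n ⊕ Fin n → F) => ∑ i : Fin n, (u (Sum.inl i) * v (Sum.inr i) + u (Sum.inr i) * v (Sum.inl i))) ∨
    (∃ Q : QuadraticForm F (Fin n ⊕ Fin n → F), (∀ u v, QuadraticMap.polar ⇑Q u v = (fun u v : (Fin n ⊕ Fin n → F) => ∑ i : Fin n, (u (Sum.inl i) * v (Sum.inr i) + u (Sum.inr i) * v (Sum.inl i))) u v) ∧
      (L = Cfsg.isometryGroup F ⇑Q ∨
        ∀ g : GL (Fin n ⊕ Fin n) F, g ∈ L ↔ (g ∈ Cfsg.isometryGroup F ⇑Q ∧ Even ((g : Matrix (Fin n ⊕ Fin n) (Fin n ⊕ Fin n) F) - 1).rank))) ∨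
    (Fintype.card F = 2 ∧ n = 2 ∧ (Nonempty (↥L ≃* ↥(alternatingGroup (Fin 6))) ∨ Nonempty (↥L ≃* Equiv.Perm (Fin 5)))) := by
  classical
  set B := spB n F with hBdef
  have h2 : (2 : F) = 0 := CharTwo.two_eq_zero
  have hpres : ∀ g : GL (Fin n ⊕ Fin n) F, g ∈ Cfsg.preserving (Units.coeHom (Matrix (Fin n ⊕ Fin n) (Fin n ⊕ Fin n) F)) (fun u v : (Fin n ⊕ Fin n → F) => ∑ i : Fin n, (u (Sum.inl i) * v (Sum.inr i) + u (Sum.inr i) * v (Sum.inl i))) ↔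
      glEquiv g ∈ Isom B := by
    intro g
    constructor
    · intro h u v
      have := h u v
      simp only [form_eq] at this
      exact this
    · intro h u v
      simp only [form_eq]
      exact h u v
  let e : GL (Fin n ⊕ Fin n) F →* ((Fin n ⊕ Fin n → F) ≃ₗ[F] (Fin n ⊕ Fin n → F)) := glEquiv.toMonoidHom
  have hmap : ∀ (K : Subgroup (GL (Fin n ⊕ Fin n) F)) g, glEquiv g ∈ K.map e ↔ g ∈ K := fun K g =>
    Subgroup.mem_map_iff_mem glEquiv.injective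
  have hle : ∀ K, K ≤ Cfsg.preserving (Units.coeHom (Matrix (Fin n ⊕ Fin n) (Fin n ⊕ Fin n) F)) (fun u v : (Fin n ⊕ Fin n → F) => ∑ i : Fin n, (u (Sum.inl i) * v (Sum.inr i) + u (Sum.inr i) * v (Sum.inl i))) → K.map e ≤ Isom B := by
    rintro K hK _ ⟨g, hg, rfl⟩
    exact (hpres g).1 (hK hg)
  have hdim : Module.finrank F (Fin n ⊕ Fin n → F) = 2 * n := by simp; omega
  -- the stabiliser and its core
  let H : Subgroup (GL (Fin n ⊕ Fin n) F) :=
    Cfsg.preserving (Units.coeHom (Matrix (Fin n ⊕ Fin n) (Fin n ⊕ Fin n) F)) (fun u v : (Fin n ⊕ Fin n → F) => ∑ i : Fin n, (u (Sum.inl i) * v (Sum.inr i) + u (Sum.inr i) * v (Sum.inl i))) ⊓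
      (MulAction.stabilizer ((Fin n ⊕ Fin n → F) ≃ₗ[F] (Fin n ⊕ Fin n → F)) a).comap e
  have hH : ∀ g, g ∈ H ↔ (g ∈ Cfsg.preserving (Units.coeHom (Matrix (Fin n ⊕ Fin n) (Fin n ⊕ Fin n) F)) (fun u v : (Fin n ⊕ Fin n → F) => ∑ i : Fin n, (u (Sum.inl i) * v (Sum.inr i) + u (Sum.inr i) * v (Sum.inl i))) ∧ Matrix.mulVec (g : Matrix (Fin n ⊕ Fin n) (Fin n ⊕ Fin n) F) a = a) := fun g => Iff.rfl
  have hXP := hXO H hH
  let P : Subgroup ((Fin n ⊕ Fin n → F) ≃ₗ[F] (Fin n ⊕ Fin n → F)) := ((Cfsg.pCore 2 ↥H).map H.subtype).map e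
  have hPp : IsPGroup 2 P := (pCore_isPGroup'.map H.subtype).map e
  have hPH : (Cfsg.pCore 2 ↥H).map H.subtype ≤ H := Subgroup.map_subtype_le _
  have hPfix : ∀ p ∈ P, p a = a := by
    rintro _ ⟨g, hg, rfl⟩
    exact ((hH g).1 (hPH hg)).2
  have hPle : P ≤ Isom B := hle _ (hPH.trans inf_le_left)
  have hnorm : ∀ h ∈ Isom B, h a = a → ∀ p ∈ P, h⁻¹ * p * h ∈ P := by
    rintro h hh hha _ ⟨g, ⟨g', hg', rfl⟩, rfl⟩
    obtain ⟨k, rfl⟩ := glEquiv.surjective h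
    have hk : k ∈ H := (hH k).2 ⟨(hpres k).2 hh, hha⟩
    exact ⟨k⁻¹ * (g' : GL (Fin n ⊕ Fin n) F) * k, ⟨_, pCore_normal' hg' (⟨k, hk⟩⁻¹ : H), by simp⟩, by simp [e]⟩
  have C0 : Ctx B (Isom B) := ⟨h2, spB_alt n F, spB_nondeg n F, le_rfl⟩
  have hntv' : ∀ g ∈ X.map e, ∀ m : F, m ≠ 0 → ¬ ∀ x, g x = rtf B a 0 m x := by
    rintro _ ⟨g, hg, rfl⟩ m hm heq
    refine hntv g hg ?_
    rw [rank_sub_one]
    have hr : LinearMap.range ((glEquiv g : (Fin n ⊕ Fin n → F) →ₗ[F] (Fin n ⊕ Fin n → F)) - LinearMap.id) = F ∙ a := by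
      refine le_antisymm ?_ ?_
      · rintro _ ⟨x, rfl⟩
        rw [Submodule.mem_span_singleton]
        refine ⟨m * B x a, ?_⟩
        have := heq x
        simp [rtf] at this
        simp [this, e] at *
      · rw [Submodule.span_singleton_le_iff_mem]
        obtain ⟨b, hab⟩ := Symplectic.exists_partner C0.nd C0.alt ha
        refine ⟨m⁻¹ • b, ?_⟩
        have := heq (m⁻¹ • b)
        simp [rtf, C0.comm b a, hab, hm, e] at this
        simp [smul_sub, this]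
    rw [hr, finrank_span_singleton ha]
  have hroot : RootAt B (X.map e) a := rootAt_of_card C0 ha (by omega) P hPp hPle hPfix hnorm _
    (Subgroup.map_mono hXP) (by
      rw [Nat.card_congr (X.equivMapOfInjective e glEquiv.injective).symm.toEquiv, hcard, hdim,
        Nat.card_eq_fintype_card]) hntv'
  let L' := L.map e
  have C : Ctx B L' := ⟨h2, spB_alt n F, spB_nondeg n F, hle L hLG⟩
  have hra : RootAt B L' a := fun w hw => by
    obtain ⟨l, g, hg, eg⟩ := hroot w hw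
    exact ⟨l, g, Subgroup.map_mono hXL hg, eg⟩
  have hirr' : ∀ W : Submodule F (Fin n ⊕ Fin n → F), (∀ g ∈ L', ∀ w ∈ W, g w ∈ W) → W = ⊥ ∨ W = ⊤ := fun W hW =>
    hirr W fun g hg w hw => hW (e g) ⟨g, hg, rfl⟩ w hw
  have back : ∀ Q : QuadraticForm F (Fin n ⊕ Fin n → F), (∀ x y, QuadraticMap.polar Q x y = B x y) →
      (L' = Cfsg.Agent.Orthogonal.O Q ∨ ∀ g : (Fin n ⊕ Fin n → F) ≃ₗ[F] (Fin n ⊕ Fin n → F), g ∈ L' ↔ g ∈ Cfsg.Agent.Orthogonal.O Q ∧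
        Even (Module.finrank F (LinearMap.range ((g : (Fin n ⊕ Fin n → F) →ₗ[F] (Fin n ⊕ Fin n → F)) - LinearMap.id)))) →
      ∃ Q : QuadraticForm F (Fin n ⊕ Fin n → F), (∀ u v, QuadraticMap.polar ⇑Q u v = (fun u v : (Fin n ⊕ Fin n → F) => ∑ i : Fin n, (u (Sum.inl i) * v (Sum.inr i) + u (Sum.inr i) * v (Sum.inl i))) u v) ∧
      (L = Cfsg.isometryGroup F ⇑Q ∨
        ∀ g : GL (Fin n ⊕ Fin n) F, g ∈ L ↔ (g ∈ Cfsg.isometryGroup F ⇑Q ∧ Even ((g : Matrix (Fin n ⊕ Fin n) (Fin n ⊕ Fin n) F) - 1).rank)) := by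
    intro Q hQ hcl
    have hO : ∀ g, g ∈ Cfsg.isometryGroup F ⇑Q ↔ glEquiv g ∈ Cfsg.Agent.Orthogonal.O Q := fun g =>
      Cfsg.Agent.Orthogonal.mem_isometryGroup_iff _ g
    refine ⟨Q, fun u v => by rw [hQ]; exact (form_eq u v).symm, hcl.imp (fun h => ?_) fun h g => ?_⟩
    · ext g
      rw [hO, ← h, hmap]
    · rw [hO, rank_sub_one, ← h, hmap]
  rcases overgroups C ha hra (by omega) hirr' with h | ⟨Q, hQ, h⟩ | ⟨hF, hd, b, K, ha0, hb0⟩
  · left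
    ext g
    rw [hpres, ← h, hmap]
  · exact Or.inr (Or.inl (back Q hQ h))
  -- the smallest case
  obtain ⟨v, hv, hva, hvb⟩ := K.exists_v₀ (by omega)
  obtain ⟨w, hwa, hwb, hwv⟩ := K.exists_pair hv hva hvb 1
  have R : Four B a v b w :=
    ⟨hF, hd, C.alt, K.hab, by rw [C.comm]; exact hwv, hva, hwa, hvb, hwb⟩
  obtain ⟨p, hp⟩ := K.rootA v hva
  obtain ⟨q, hq⟩ := K.rootA w hwa
  obtain ⟨r, hr⟩ := K.rootB v hvb
  obtain ⟨s, hs⟩ := K.rootB w hwb
  rcases R.classify C hp hq hr hs with ⟨Q, hQ, h⟩ | hbig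
  · exact Or.inr (Or.inl (back Q hQ h))
  have hcardF : Fintype.card F = 2 := by
    rw [← Nat.card_eq_fintype_card, Nat.card_eq_two_iff]
    exact ⟨0, 1, zero_ne_one, Set.eq_univ_of_forall fun x => by simpa using hF x⟩
  obtain rfl : n = 2 := by omega
  obtain ⟨ψ⟩ := Cfsg.Agent.H27.SpFourTwo.sp_four_two' hcardF
  let θ : Isom B ≃* Equiv.Perm (Fin 6) := (Cfsg.Agent.Symplectic.spEquiv 2 F).symm.trans ψ
  let S := (L'.subgroupOf (Isom B)).map θ.toMonoidHom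
  let ι : L ≃* S := ((L.equivMapOfInjective e glEquiv.injective).trans
    (Subgroup.subgroupOfEquivOfLe C.le).symm).trans (θ.subgroupMap _)
  rcases six_cases S (by
    rw [← Nat.card_congr ι.toEquiv, Nat.card_congr (L.equivMapOfInjective e glEquiv.injective).toEquiv]
    exact hbig) with h | ⟨⟨f⟩⟩ | ⟨⟨f⟩⟩
  · left
    ext g
    rw [hpres, ← hmap]
    refine ⟨fun hg => C.le hg, fun hg => ?_⟩
    have h1 : θ ⟨_, hg⟩ ∈ S := by rw [h]; trivial
    exact ((Subgroup.mem_map_iff_mem (f := θ.toMonoidHom) θ.injective).1 h1 :)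
  · exact Or.inr (Or.inr ⟨hcardF, rfl, Or.inl ⟨ι.trans f⟩⟩)
  · exact Or.inr (Or.inr ⟨hcardF, rfl, Or.inr ⟨ι.trans f⟩⟩)

end Cfsg.Agent.S5712
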