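import Cfsg.Statements.S5713
import Cfsg.Statements.S5713
import Mathlib
import Cfsg.Agent.H33.MinimalDegree

set_option autoImplicit false
open Cfsg

namespace Cfsg.Agent.S5713

open MulAction Cfsg.Agent.H33.MinDegree in
/-- The natural number form of the bound. -/
theorem nat_bound {G Ω : Type*} [Group G] [Finite G] [MulAction G Ω] [FaithfulSMul G Ω] [Fintype Ω]
    [DecidableEq Ω] (hprim : IsPreprimitive G Ω) (hA : ¬ alternatingGroup Ω ≤ (toPermHom G Ω).range)
    (g : G) (hg : g ≠ 1) :
    Fintype.card Ω ≤ (2 * (toPerm g : Equiv.Perm Ω).support.card + 1) ^ 2 := by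
  classical
  have := Fintype.ofFinite G
  set S := (toPerm g : Equiv.Perm Ω).support with hS
  have hSne : S.Nonempty := by
    rw [hS, Finset.nonempty_iff_ne_empty, Ne, Equiv.Perm.support_eq_empty_iff]
    exact fun e => hg (MulAction.toPerm_injective (e.trans (MulAction.toPermHom G Ω).map_one.symm))
  have hpos := Finset.card_pos.2 hSne
  by_cases hn : Fintype.card Ω < 4
  · have := Nat.pow_le_pow_left (show 3 ≤ 2 * S.card + 1 by omega) 2
    omega
  by_cases h2 : ∀ a b c : Ω, b ≠ a → c ≠ a → Same G b c a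
  · by_contra hlt
    push Not at hlt
    have h2' : ∀ a b c d : Ω, a ≠ b → c ≠ d → ∃ h : G, h • a = c ∧ h • b = d := by
      intro a b c d hab hcd
      obtain ⟨t, rfl⟩ := exists_smul_eq G a c
      obtain ⟨h, h1, h3⟩ := h2 (t • a) (t • b) d (fun e => hab (smul_left_cancel t e).symm) hcd.symm
      exact ⟨h * t, by rw [mul_smul, h1], by rw [mul_smul, h3]⟩
    obtain ⟨h, hh⟩ := exists_meet_one h2' S hSne (lt_of_le_of_lt (by
      obtain ⟨m, hm⟩ : ∃ m, S.card = m + 1 := ⟨S.card - 1, by omega⟩
      rw [hm, Nat.add_sub_cancel]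
      calc m ^ 2 + 1 ≤ m ^ 2 + (3 * m ^ 2 + 12 * m + 9) := by omega
        _ = _ := by ring) hlt)
    let P : G →* Equiv.Perm Ω := toPermHom G Ω
    obtain ⟨w, hw⟩ := Finset.card_eq_one.1 hh
    have hmeet : (P g).support ∩ (P (h * g * h⁻¹)).support = {h • w} := by
      rw [show P (h * g * h⁻¹) = P h * P g * (P h)⁻¹ by rw [map_mul, map_mul, map_inv],
        Equiv.Perm.support_conj]
      ext x
      simp only [Finset.mem_inter, Finset.mem_map, Finset.mem_singleton, Equiv.coe_toEmbedding]
      constructor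
      · rintro ⟨hx, y, hy, rfl⟩
        have : y ∈ S.filter fun s => h • s ∈ S := Finset.mem_filter.2 ⟨hy, hx⟩
        rw [hw, Finset.mem_singleton] at this
        rw [this]; rfl
      · rintro rfl
        have : w ∈ S.filter fun s => h • s ∈ S := hw ▸ Finset.mem_singleton_self w
        obtain ⟨h1, h2⟩ := Finset.mem_filter.1 this
        exact ⟨h2, w, h1, rfl⟩
    have hc := isThreeCycle_commutator hmeet
    haveI := hprim
    have hpr : IsPreprimitive P.range Ω :=
      IsPreprimitive.of_surjective (φ := P.rangeRestrict) (f :=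
        { toFun := id, map_smul' := fun _ _ => rfl }) Function.surjective_id
    exact hA (Equiv.Perm.alternatingGroup_le_of_isPreprimitive_of_isThreeCycle_mem hpr hc
      (mul_mem (mul_mem (mul_mem ⟨g, rfl⟩ ⟨_, rfl⟩) (inv_mem ⟨g, rfl⟩)) (inv_mem ⟨_, rfl⟩)))
  · push Not at h2
    obtain ⟨a, b, c, hb, hc, hbc⟩ := h2
    obtain ⟨x, hx⟩ := hSne
    have hxy : x ≠ g • x := fun e => Equiv.Perm.mem_support.1 hx e.symm
    refine (uniprimitive_bound (hprim := hprim) (by omega) hb hc hbc hxy).trans
      (Nat.pow_le_pow_left (Nat.succ_le_succ (Nat.mul_le_mul_left 2 ?_)) 2)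
    unfold dist'
    refine Finset.card_le_card fun z hz => ?_
    rw [hS, Equiv.Perm.mem_support]
    intro e
    exact (Finset.mem_filter.1 hz).2 ⟨g, e, rfl⟩
/-- A classification-free minimal-degree bound. Let G be a finite group acting faithfully and primitively on a finite set Ω with n elements, and suppose that the image of G in the symmetric group on Ω does not contain the alternating group on Ω. Then every non-identity element of G moves at least (√n − 1)/2 points of Ω, that is, it fixes at most n − (√n − 1)/2 points. -/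
theorem result {G Ω : Type*} [Group G] [Finite G] [MulAction G Ω] [FaithfulSMul G Ω] [Fintype Ω] [DecidableEq Ω]
    (hprim : MulAction.IsPreprimitive G Ω)
    (hA : ¬ alternatingGroup Ω ≤ (MulAction.toPermHom G Ω).range)
    (g : G) (hg : g ≠ 1) :
    (Real.sqrt (Fintype.card Ω) - 1) / 2 ≤ (Fintype.card Ω : ℝ) - Nat.card (MulAction.fixedBy Ω g) := by
  classical
  set m := (MulAction.toPerm g : Equiv.Perm Ω).support.card with hm
  have h := nat_bound hprim hA g hg
  have hf : Nat.card (MulAction.fixedBy Ω g) + m = Fintype.card Ω := by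
    rw [hm, ← Finset.card_compl_add_card (MulAction.toPerm g : Equiv.Perm Ω).support]
    congr 1
    rw [Nat.card_eq_fintype_card, Fintype.card_of_subtype]
    intro x
    simp [MulAction.mem_fixedBy]
  have h' : (Fintype.card Ω : ℝ) ≤ (2 * (m : ℝ) + 1) ^ 2 := by exact_mod_cast h
  have hf' : (Nat.card (MulAction.fixedBy Ω g) : ℝ) + m = Fintype.card Ω := by exact_mod_cast hf
  have h3 : Real.sqrt (Fintype.card Ω) ≤ 2 * (m : ℝ) + 1 := by
    rw [Real.sqrt_le_iff]
    exact ⟨by positivity, h'⟩
  linarith

end Cfsg.Agent.S5713
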