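import Cfsg.Statements.S5726
import Cfsg.Agent.H96.SylowOrbit

set_option autoImplicit false
open Cfsg

namespace Cfsg.Agent.S5726

/-- If a finite group acts faithfully and transitively on a set with p^k elements, p a prime and k ≥ 1, then some element of order p fixes no point. -/
theorem result {G Ω : Type*} [Group G] [Finite G] [MulAction G Ω] [FaithfulSMul G Ω] [Fintype Ω] (htr : MulAction.IsPretransitive G Ω)
    (p k : ℕ) (hp : p.Prime) (hk : 1 ≤ k) (hΩ : Fintype.card Ω = p ^ k) :
    ∃ g : G, orderOf g = p ∧ ∀ ω : Ω, g • ω ≠ ω := by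
  classical
  haveI : Fact p.Prime := ⟨hp⟩
  haveI := htr
  let P : Sylow p G := default
  have hn : Nat.card Ω = p ^ k := by rw [Nat.card_eq_fintype_card, hΩ]
  have horb : ∀ a : Ω, MulAction.orbit (↥(P : Subgroup G)) a = Set.univ := by
    intro a
    have h := Cfsg.Agent.H96.pow_factorization_le_card_orbit P a
    rw [hn, Nat.Prime.factorization_pow hp, Finsupp.single_eq_same] at h
    refine Set.eq_of_subset_of_ncard_le (Set.subset_univ _) ?_
    rw [Set.ncard_univ, hn]
    exact h
  have hne : Nonempty Ω := Fintype.card_pos_iff.mp (by rw [hΩ]; exact pow_pos hp.pos k)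
  obtain ⟨a⟩ := hne
  haveI : Nontrivial (↥(P : Subgroup G)) := by
    by_contra hnt
    rw [not_nontrivial_iff_subsingleton] at hnt
    have hsub : (MulAction.orbit (↥(P : Subgroup G)) a).Subsingleton := by
      rintro _ ⟨x, rfl⟩ _ ⟨y, rfl⟩
      rw [Subsingleton.elim x y]
    rw [horb a, Set.subsingleton_univ_iff] at hsub
    have h1 : p ^ k = 1 := by rw [← hn, Nat.card_eq_one_iff_unique]; exact ⟨hsub, ⟨a⟩⟩
    exact absurd h1 (Nat.one_lt_pow (by omega) hp.one_lt).ne'
  haveI := P.isPGroup'.center_nontrivial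
  have hdvd : p ∣ Nat.card (Subgroup.center (↥(P : Subgroup G))) := by
    obtain ⟨j, hj⟩ := IsPGroup.iff_card.mp (P.isPGroup'.to_subgroup (Subgroup.center (↥(P : Subgroup G))))
    have : 1 < Nat.card (Subgroup.center (↥(P : Subgroup G))) := Finite.one_lt_card
    rw [hj] at this ⊢
    exact dvd_pow_self p (by rintro rfl; simp at this)
  obtain ⟨z, hz⟩ := exists_prime_orderOf_dvd_card' p hdvd
  refine ⟨((z : ↥(P : Subgroup G)) : G), by rwa [Subgroup.orderOf_coe, Subgroup.orderOf_coe], ?_⟩
  intro ω hω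
  have hall : ∀ b : Ω, ((z : ↥(P : Subgroup G)) : G) • b = b := by
    intro b
    have hb : b ∈ MulAction.orbit (↥(P : Subgroup G)) ω := by rw [horb ω]; trivial
    obtain ⟨x, rfl⟩ := hb
    have hc : x * (z : ↥(P : Subgroup G)) = (z : ↥(P : Subgroup G)) * x :=
      Subgroup.mem_center_iff.mp z.2 x
    calc ((z : ↥(P : Subgroup G)) : G) • (x • ω) = ((z : ↥(P : Subgroup G)) * x) • ω := (mul_smul _ _ _).symm
      _ = (x * (z : ↥(P : Subgroup G))) • ω := by rw [hc]
      _ = x • (((z : ↥(P : Subgroup G)) : G) • ω) := mul_smul _ _ _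
      _ = x • ω := by rw [hω]
  have h1 : ((z : ↥(P : Subgroup G)) : G) = 1 := eq_of_smul_eq_smul (α := Ω) fun b => by rw [hall, one_smul]
  have h2 : orderOf ((z : ↥(P : Subgroup G)) : G) = p := by rwa [Subgroup.orderOf_coe, Subgroup.orderOf_coe]
  rw [h1, orderOf_one] at h2
  exact hp.one_lt.ne h2

end Cfsg.Agent.S5726
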