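import Cfsg.Statements.S5727
import Cfsg.Agent.H96.SylowOrbit
import Cfsg.Agent.S5726

set_option autoImplicit false
open Cfsg

namespace Cfsg.Agent.S5727

/-- If a finite group acts faithfully and transitively on a set with m·p elements, where p is a prime and 1 ≤ m ≤ p, then some element of order p fixes no point. -/
theorem result {G Ω : Type*} [Group G] [Finite G] [MulAction G Ω] [FaithfulSMul G Ω] [Fintype Ω] (htr : MulAction.IsPretransitive G Ω)
    (p m : ℕ) (hp : p.Prime) (hm : 1 ≤ m) (hmp : m ≤ p) (hΩ : Fintype.card Ω = m * p) :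
    ∃ g : G, orderOf g = p ∧ ∀ ω : Ω, g • ω ≠ ω := by
  classical
  haveI : Fact p.Prime := ⟨hp⟩
  haveI := htr
  rcases eq_or_lt_of_le hmp with rfl | hlt
  · exact Cfsg.Agent.S5726.result htr m 2 hp (by norm_num) (by rw [hΩ, sq])
  let P : Sylow p G := default
  have hn : Nat.card Ω = m * p := by rw [Nat.card_eq_fintype_card, hΩ]
  have hfac : (Nat.card Ω).factorization p = 1 := by
    rw [hn, Nat.factorization_mul (by omega) hp.ne_zero, Finsupp.add_apply,
      Nat.factorization_eq_zero_of_lt hlt, hp.factorization_self]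
  have horb : ∀ a : Ω, Nat.card (MulAction.orbit (↥(P : Subgroup G)) a) = p := by
    intro a
    have h := Cfsg.Agent.H96.pow_factorization_le_card_orbit P a
    rw [hfac, pow_one] at h
    obtain ⟨j, hj⟩ := P.isPGroup'.card_orbit a
    have hle : Nat.card (MulAction.orbit (↥(P : Subgroup G)) a) < p ^ 2 :=
      calc Nat.card (MulAction.orbit (↥(P : Subgroup G)) a) ≤ Nat.card Ω := Finite.card_subtype_le _
        _ < p ^ 2 := by rw [hn, sq]; exact Nat.mul_lt_mul_of_pos_right hlt hp.pos
    rw [hj] at h hle ⊢
    have h2 := (Nat.pow_lt_pow_iff_right hp.one_lt).mp hle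
    have h1 : j ≠ 0 := by
      rintro rfl
      rw [pow_zero] at h
      exact absurd h (by have := hp.two_le; omega)
    rw [show j = 1 by omega, pow_one]
  have hstab : ∀ a : Ω, Nat.card (MulAction.stabilizer (↥(P : Subgroup G)) a) * p = Nat.card (↥(P : Subgroup G)) := by
    intro a
    have h := Nat.card_congr (MulAction.orbitProdStabilizerEquivGroup (↥(P : Subgroup G)) a)
    rw [Nat.card_prod, horb a, mul_comm] at h
    exact h
  have hidx : ∀ a : Ω, (MulAction.stabilizer (↥(P : Subgroup G)) a).index = p := by
    intro a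
    have h1 := Subgroup.card_mul_index (MulAction.stabilizer (↥(P : Subgroup G)) a)
    rw [← hstab a] at h1
    exact Nat.eq_of_mul_eq_mul_left Nat.card_pos h1
  have hnormal : ∀ a : Ω, (MulAction.stabilizer (↥(P : Subgroup G)) a).Normal := by
    intro a
    apply Subgroup.normal_of_index_eq_minFac_card
    rw [hidx a]
    obtain ⟨j, hj⟩ := IsPGroup.iff_card.mp P.isPGroup'
    have hj0 : j ≠ 0 := by
      rintro rfl
      have h1 : 1 < Nat.card (↥(P : Subgroup G)) := by
        rw [← hstab a]
        exact lt_of_lt_of_le hp.one_lt (Nat.le_mul_of_pos_left p Nat.card_pos)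
      rw [hj, pow_zero] at h1
      exact lt_irrefl _ h1
    rw [hj, Nat.pow_minFac hj0, hp.minFac_eq]
  -- elements of the stabilisers fix whole orbits
  have hwhole : ∀ (x : ↥(P : Subgroup G)) (a : Ω), x • a = a → ∀ b ∈ MulAction.orbit (↥(P : Subgroup G)) a, x • b = b := by
    intro x a hx b hb
    obtain ⟨y, rfl⟩ := hb
    have := (hnormal a).conj_mem x hx y⁻¹
    rw [inv_inv, MulAction.mem_stabilizer_iff, mul_smul, mul_smul, inv_smul_eq_iff] at this
    exact this
  -- double count
  have key : ∃ x : ↥(P : Subgroup G), ∀ a : Ω, x • a ≠ a := by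
    by_contra hcon
    push Not at hcon
    haveI : Fintype (↥(P : Subgroup G)) := Fintype.ofFinite _
    have hcount : ∑ x : ↥(P : Subgroup G), (Finset.univ.filter fun a : Ω => x • a = a).card
        = ∑ a : Ω, (Finset.univ.filter fun x : ↥(P : Subgroup G) => x • a = a).card := by
      simp only [Finset.card_filter]
      exact Finset.sum_comm
    have hge : ∀ x : ↥(P : Subgroup G), p ≤ (Finset.univ.filter fun a : Ω => x • a = a).card := by
      intro x
      obtain ⟨a, ha⟩ := hcon x
      refine (horb a).symm.le.trans ?_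
      rw [Nat.card_eq_card_toFinset]
      apply Finset.card_le_card
      intro b hb
      simp only [Set.mem_toFinset] at hb
      simp only [Finset.mem_filter, Finset.mem_univ, true_and]
      exact hwhole x a ha b hb
    have heq : ∀ a : Ω, (Finset.univ.filter fun x : ↥(P : Subgroup G) => x • a = a).card
        = Nat.card (MulAction.stabilizer (↥(P : Subgroup G)) a) := by
      intro a
      rw [Nat.card_eq_fintype_card, ← Fintype.card_subtype]
      exact Fintype.card_congr (Equiv.subtypeEquivRight fun x => MulAction.mem_stabilizer_iff.symm)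
    have h1 : p * Fintype.card (↥(P : Subgroup G)) ≤ m * Fintype.card (↥(P : Subgroup G)) := by
      have hsum : ∑ x : ↥(P : Subgroup G), p ≤ ∑ x : ↥(P : Subgroup G), (Finset.univ.filter fun a : Ω => x • a = a).card :=
        Finset.sum_le_sum fun x _ => hge x
      rw [hcount, Finset.sum_const, Finset.card_univ, smul_eq_mul, mul_comm] at hsum
      refine hsum.trans ?_
      simp only [heq]
      have : (∑ a : Ω, Nat.card (MulAction.stabilizer (↥(P : Subgroup G)) a)) * p = m * Fintype.card (↥(P : Subgroup G)) * p := by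
        rw [Finset.sum_mul]
        rw [Finset.sum_congr rfl fun a _ => hstab a, Finset.sum_const, Finset.card_univ, smul_eq_mul, hΩ,
          Nat.card_eq_fintype_card]
        ring
      exact (Nat.eq_of_mul_eq_mul_right hp.pos this).le
    have := Nat.le_of_mul_le_mul_right h1 Fintype.card_pos
    omega
  obtain ⟨x, hx⟩ := key
  have hxp : ((x : ↥(P : Subgroup G)) : G) ^ p = 1 := by
    apply eq_of_smul_eq_smul (α := Ω)
    intro a
    have := hnormal a
    have hmem := (MulAction.stabilizer (↥(P : Subgroup G)) a).pow_index_mem x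
    rw [hidx a, MulAction.mem_stabilizer_iff] at hmem
    rw [one_smul]
    exact hmem
  have hne : Nonempty Ω := Fintype.card_pos_iff.mp (by rw [hΩ]; exact Nat.mul_pos hm hp.pos)
  obtain ⟨a⟩ := hne
  have hx1 : (x : G) ≠ 1 := by
    intro h
    exact hx a (show (x : G) • a = a by rw [h, one_smul])
  exact ⟨(x : G), orderOf_eq_prime hxp hx1, fun ω => hx ω⟩

end Cfsg.Agent.S5727
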