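import Cfsg.Statements.S5728
-- import your own Cfsg.Agent.* helpers here

set_option autoImplicit false
open Cfsg

namespace Cfsg.Agent.S5728

/-- An elusive transitive action. Let p = 2^s − 1 be a prime and let F be the field with p² elements. Inside the group of affine maps x ↦ a·x + b of F (a ≠ 0), consider the subgroup of maps with both coefficients in the prime field. Then every element of prime order of the affine group is conjugate, within the affine group, to an element of that subgroup; equivalently, in the transitive action of the affine group on the cosets of that subgroup (of degree p(p + 1)) every element of prime order fixes a point. -/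
theorem result (p s : ℕ) [Fact p.Prime] (hs : p = 2 ^ s - 1)
    (g : Equiv.Perm (GaloisField p 2)) (hg : g ∈ Cfsg.affineGroup (GaloisField p 2)) (hord : (orderOf g).Prime) :
    ∃ x ∈ Cfsg.affineGroup (GaloisField p 2), ∃ a b : ZMod p, a ≠ 0 ∧
      ∀ y : GaloisField p 2, (x * g * x⁻¹) y = algebraMap (ZMod p) (GaloisField p 2) a * y + algebraMap (ZMod p) (GaloisField p 2) b := by
  classical
  have hp : p.Prime := Fact.out
  obtain ⟨a, b, hab⟩ := hg
  have hgr : g ^ (orderOf g) = 1 := pow_orderOf_eq_one g
  have hne : g ≠ 1 := by rintro rfl; rw [orderOf_one] at hord; exact Nat.not_prime_one hord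
  -- the linear part of powers
  have hpow : ∀ (k : ℕ) (y z : GaloisField p 2), (g ^ k) y - (g ^ k) z = (a : GaloisField p 2) ^ k * (y - z) := by
    intro k
    induction k with
    | zero => intro y z; simp
    | succ k ih =>
      intro y z
      rw [pow_succ, Equiv.Perm.mul_apply, Equiv.Perm.mul_apply, ih, hab, hab]
      ring
  have hak : (a : GaloisField p 2) ^ orderOf g = 1 := by
    have := hpow (orderOf g) 1 0
    rw [hgr] at this
    simpa using this.symm
  by_cases ha1 : (a : GaloisField p 2) = 1
  · have hb0 : b ≠ 0 := by
      rintro rfl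
      exact hne (Equiv.ext fun y => by simp [hab, ha1])
    refine ⟨Equiv.mulLeft₀ b⁻¹ (inv_ne_zero hb0), ⟨Units.mk0 b⁻¹ (inv_ne_zero hb0), 0, fun y => by simp⟩,
      1, 1, one_ne_zero, fun y => ?_⟩
    have hinv : (Equiv.mulLeft₀ b⁻¹ (inv_ne_zero hb0))⁻¹ y = b * y := by
      rw [Equiv.Perm.inv_def, Equiv.symm_apply_eq]
      simp [hb0]
    rw [Equiv.Perm.mul_apply, Equiv.Perm.mul_apply, hinv, hab, ha1]
    simp only [map_one, one_mul, Equiv.mulLeft₀_apply, mul_add, inv_mul_cancel_left₀ hb0, inv_mul_cancel₀ hb0]
  · have ha' : (1 : GaloisField p 2) - a ≠ 0 := sub_ne_zero.mpr (Ne.symm ha1)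
    set c : GaloisField p 2 := b / (1 - a) with hc
    have hmem : ∃ a' : ZMod p, algebraMap (ZMod p) (GaloisField p 2) a' = (a : GaloisField p 2) := by
      have hord' : orderOf (a : GaloisField p 2) = orderOf g :=
        haveI : Fact (orderOf g).Prime := ⟨hord⟩
        orderOf_eq_prime hak ha1
      haveI : Fintype (GaloisField p 2) := Fintype.ofFinite _
      have hq : Fintype.card (GaloisField p 2) = p ^ 2 := by
        rw [← Nat.card_eq_fintype_card]; exact GaloisField.card p 2 (by norm_num)
      have hdvd : orderOf g ∣ (p + 1) * (p - 1) := by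
        rw [← hord', ← Nat.sq_sub_sq]
        have := FiniteField.pow_card_sub_one_eq_one (a : GaloisField p 2) a.ne_zero
        rw [hq] at this
        exact orderOf_dvd_of_pow_eq_one (by simpa using this)
      suffices h : (a : GaloisField p 2) ^ p = a by
        have hb : (a : GaloisField p 2) ∈ (⊥ : Subfield (GaloisField p 2)) :=
          (Subfield.mem_bot_iff_pow_eq_self (F := GaloisField p 2) (p := p)).mpr h
        rw [← ZMod.fieldRange_castHom_eq_bot p] at hb
        obtain ⟨a', ha''⟩ := hb
        exact ⟨a', by rw [← ha'']; exact RingHom.congr_fun (Subsingleton.elim _ _) a'⟩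
      have key : (a : GaloisField p 2) ^ (p - 1) = 1 → (a : GaloisField p 2) ^ p = a := by
        intro h
        have h1 : (a : GaloisField p 2) ^ (p - 1 + 1) = a := by rw [pow_succ, h, one_mul]
        rwa [Nat.sub_add_cancel hp.one_lt.le] at h1
      apply key
      rw [← orderOf_dvd_iff_pow_eq_one, hord']
      rcases hord.dvd_mul.mp hdvd with h | h
      · have h2s : orderOf g ∣ 2 ^ s := by
          have h1 : 1 ≤ 2 ^ s := Nat.one_le_two_pow
          have h3 : p + 1 = 2 ^ s := by omega
          rwa [h3] at h
        have h2 : orderOf g = 2 := (Nat.prime_dvd_prime_iff_eq hord Nat.prime_two).mp (hord.dvd_of_dvd_pow h2s)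
        rw [h2]
        have hodd : ¬ 2 ∣ p := by
          intro h2p
          have := (Nat.prime_dvd_prime_iff_eq Nat.prime_two hp).mp h2p
          have h3 : 2 ^ s = 3 := by omega
          rcases s with _ | s
          · simp at h3
          · rw [pow_succ] at h3; omega
        have := hp.one_lt
        omega
      · exact h
    obtain ⟨a', ha''⟩ := hmem
    refine ⟨Equiv.addLeft (-c), ⟨1, -c, fun y => by simp [add_comm]⟩, a', 0, ?_, fun y => ?_⟩
    · rintro rfl
      rw [map_zero] at ha''
      exact a.ne_zero ha''.symm
    · have hinv : (Equiv.addLeft (-c))⁻¹ y = c + y := by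
        rw [Equiv.Perm.inv_def, Equiv.symm_apply_eq]
        simp
      rw [Equiv.Perm.mul_apply, Equiv.Perm.mul_apply, hinv, hab, map_zero, ha'', add_zero]
      simp only [Equiv.coe_addLeft, hc]
      field_simp
      ring

end Cfsg.Agent.S5728
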