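import Cfsg.Statements.S5729
import Cfsg.Agent.H96.FixCount

set_option autoImplicit false
open Cfsg

namespace Cfsg.Agent.S5729

/-- Let a finite group G act faithfully and transitively on a set with n ≥ 3 points. Then either G is a Frobenius permutation group (Frobenius as a permutation group: transitive, some non-identity element fixes a point, and no non-identity element fixes two points) of order n(n − 1) and exactly |G|/n of its elements are derangements (fix no point), or the number of derangements is greater than |G|/n. -/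
theorem result {G Ω : Type*} [Group G] [Finite G] [MulAction G Ω] [FaithfulSMul G Ω] [Fintype Ω] (htr : MulAction.IsPretransitive G Ω) (hn : 3 ≤ Fintype.card Ω) :
    ((MulAction.IsPretransitive G Ω ∧ (∃ g : G, g ≠ 1 ∧ ∃ ω : Ω, g • ω = ω) ∧ ∀ g : G, g ≠ 1 → Nat.card (MulAction.fixedBy Ω g) ≤ 1) ∧ Nat.card G = Fintype.card Ω * (Fintype.card Ω - 1) ∧ Fintype.card Ω * Nat.card {g : G // ∀ ω : Ω, g • ω ≠ ω} = Nat.card G) ∨
    Nat.card G < Fintype.card Ω * Nat.card {g : G // ∀ ω : Ω, g • ω ≠ ω} := by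
  classical
  haveI := htr
  haveI : Fintype G := Fintype.ofFinite G
  have hne : Nonempty Ω := Fintype.card_pos_iff.mp (by omega)
  obtain ⟨a⟩ := hne
  have hid := Cfsg.Agent.H96.derangements_identity (G := G) a
  set r := Cfsg.Agent.H96.rankAt G a with hr
  have hr2 : 2 ≤ r := Cfsg.Agent.H96.two_le_rankAt a (by omega)
  set S := ∑ g ∈ Finset.univ.filter (fun g : G => 0 < Cfsg.Agent.H96.fixCard Ω g),
      ((Cfsg.Agent.H96.fixCard Ω g : ℤ) - 1) * ((Fintype.card Ω : ℤ) - Cfsg.Agent.H96.fixCard Ω g) with hS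
  have hterm : ∀ g ∈ Finset.univ.filter (fun g : G => 0 < Cfsg.Agent.H96.fixCard Ω g),
      0 ≤ ((Cfsg.Agent.H96.fixCard Ω g : ℤ) - 1) * ((Fintype.card Ω : ℤ) - Cfsg.Agent.H96.fixCard Ω g) := by
    intro g hg
    have h1 := (Finset.mem_filter.mp hg).2
    have h2 := Cfsg.Agent.H96.fixCard_le (Ω := Ω) g
    exact mul_nonneg (by omega) (by omega)
  have hS0 : 0 ≤ S := Finset.sum_nonneg hterm
  have hGpos : (0 : ℤ) < Fintype.card G := by exact_mod_cast Fintype.card_pos (α := G)
  rcases lt_or_ge (Nat.card G) (Fintype.card Ω * Nat.card {g : G // ∀ ω : Ω, g • ω ≠ ω}) with hlt | hge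
  · exact Or.inr hlt
  left
  rw [Nat.card_eq_fintype_card (α := G)] at hge
  have hge' : (Fintype.card Ω : ℤ) * Nat.card {g : G // ∀ ω : Ω, g • ω ≠ ω} ≤ Fintype.card G := by
    exact_mod_cast hge
  have hr' : (r : ℤ) = 2 := by
    by_contra h
    have : (3 : ℤ) ≤ r := by omega
    nlinarith
  have hSz : S = 0 := by nlinarith
  have heq : (Fintype.card Ω : ℤ) * Nat.card {g : G // ∀ ω : Ω, g • ω ≠ ω} = Fintype.card G := by
    rw [hid, hr', hSz]; ring
  have hall : ∀ g : G, g ≠ 1 → Cfsg.Agent.H96.fixCard Ω g ≤ 1 := by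
    intro g hg
    by_contra hcon
    have hmem : g ∈ Finset.univ.filter (fun g : G => 0 < Cfsg.Agent.H96.fixCard Ω g) :=
      Finset.mem_filter.mpr ⟨Finset.mem_univ g, by omega⟩
    have h0 := (Finset.sum_eq_zero_iff_of_nonneg hterm).mp hSz g hmem
    rcases mul_eq_zero.mp h0 with h | h
    · omega
    · exact hg (Cfsg.Agent.H96.eq_one_of_fixCard_eq (Ω := Ω) (by omega))
  -- the order of a point stabiliser
  have hsum := Cfsg.Agent.H96.sum_fixCard_stabilizer (G := G) a
  rw [← hr, show r = 2 by omega] at hsum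
  have hone : ∀ g : MulAction.stabilizer G a, g ≠ 1 → Cfsg.Agent.H96.fixCard Ω (g : G) = 1 := by
    intro g hg
    have h1 := hall (g : G) (by simpa using hg)
    have h2 : 0 < Cfsg.Agent.H96.fixCard Ω (g : G) := (Cfsg.Agent.H96.fixCard_pos_iff _).mpr ⟨a, g.2⟩
    omega
  rw [← Finset.add_sum_erase Finset.univ _ (Finset.mem_univ (1 : MulAction.stabilizer G a)),
    Finset.sum_congr rfl (fun g hg => hone g (Finset.ne_of_mem_erase hg)), Finset.sum_const,
    Finset.card_erase_of_mem (Finset.mem_univ _), Finset.card_univ, OneMemClass.coe_one,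
    Cfsg.Agent.H96.fixCard_one, smul_eq_mul, mul_one] at hsum
  have hapos : 0 < Fintype.card (MulAction.stabilizer G a) := Fintype.card_pos
  have hcard : Fintype.card (MulAction.stabilizer G a) = Fintype.card Ω - 1 := by omega
  have horder : Nat.card G = Fintype.card Ω * (Fintype.card Ω - 1) := by
    rw [Nat.card_eq_fintype_card, ← Cfsg.Agent.H96.card_stabilizer_mul (G := G) a, hcard, mul_comm]
  refine ⟨⟨htr, ?_, hall⟩, horder, ?_⟩
  · haveI : Nontrivial (MulAction.stabilizer G a) := by
      rw [← Fintype.one_lt_card_iff_nontrivial]; omega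
    obtain ⟨g, hg⟩ := exists_ne (1 : MulAction.stabilizer G a)
    exact ⟨(g : G), by simpa using hg, a, g.2⟩
  · rw [Nat.card_eq_fintype_card (α := G)]
    exact_mod_cast heq

end Cfsg.Agent.S5729
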