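import Cfsg.Statements.S5730
import Cfsg.Agent.H96.TwoTransDerange
import Cfsg.Agent.S5729

set_option autoImplicit false
open Cfsg

namespace Cfsg.Agent.S5730

/-- Let a finite group G act faithfully and transitively on a set with n ≥ 7 points. Then either G is a Frobenius permutation group (Frobenius as a permutation group: transitive, some non-identity element fixes a point, and no non-identity element fixes two points) of order n(n − 1)/a with a ∈ {1, 2}, in which case exactly a|G|/n of its elements are derangements, or the number of derangements is at least 2|G|/n. (Equality does occur: PSL₃(2) acting on the 7 points of the Fano plane has exactly 2|G|/7 derangements.) -/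
theorem result {G Ω : Type*} [Group G] [Finite G] [MulAction G Ω] [FaithfulSMul G Ω] [Fintype Ω] (htr : MulAction.IsPretransitive G Ω) (hn : 7 ≤ Fintype.card Ω) :
    (∃ a : ℕ, (a = 1 ∨ a = 2) ∧ (MulAction.IsPretransitive G Ω ∧ (∃ g : G, g ≠ 1 ∧ ∃ ω : Ω, g • ω = ω) ∧ ∀ g : G, g ≠ 1 → Nat.card (MulAction.fixedBy Ω g) ≤ 1) ∧ a * Nat.card G = Fintype.card Ω * (Fintype.card Ω - 1) ∧ Fintype.card Ω * Nat.card {g : G // ∀ ω : Ω, g • ω ≠ ω} = a * Nat.card G) ∨
    2 * Nat.card G ≤ Fintype.card Ω * Nat.card {g : G // ∀ ω : Ω, g • ω ≠ ω} := by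
  classical
  haveI := htr
  haveI : Fintype G := Fintype.ofFinite G
  rcases Cfsg.Agent.S5729.result (G := G) htr (by omega : 3 ≤ Fintype.card Ω) with ⟨hfrob, hord, hder⟩ | hlt
  · exact Or.inl ⟨1, Or.inl rfl, hfrob, by rw [one_mul, hord], by rw [one_mul, hder]⟩
  right
  obtain ⟨a⟩ : Nonempty Ω := Fintype.card_pos_iff.mp (by omega)
  have hid := Cfsg.Agent.H96.derangements_identity (G := G) a
  have hr2 : 2 ≤ Cfsg.Agent.H96.rankAt G a := Cfsg.Agent.H96.two_le_rankAt a (by omega)
  rcases eq_or_lt_of_le hr2 with hr | hr3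
  · obtain ⟨b, hb⟩ := Fintype.exists_ne_of_one_lt_card (by omega : 1 < Fintype.card Ω) a
    rw [Nat.card_eq_fintype_card (α := G)]
    refine Cfsg.Agent.H96.two_mul_card_le_derangements a b (Ne.symm hb) hn hr.symm ?_
    by_contra hh
    -- a trivial two-point stabiliser makes the group sharply two-transitive
    have h2 := Cfsg.Agent.H96.twoTrans_of_rank a hr.symm
    have htriv : ∀ g : G, 0 < Cfsg.Agent.H96.fixCard Ω g →
        ((Cfsg.Agent.H96.fixCard Ω g : ℤ) - 1) * ((Fintype.card Ω : ℤ) - Cfsg.Agent.H96.fixCard Ω g) = 0 := by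
      intro g hg
      by_cases h1 : g = 1
      · rw [h1, Cfsg.Agent.H96.fixCard_one, sub_self, mul_zero]
      have hle : Cfsg.Agent.H96.fixCard Ω g ≤ 1 := by
        by_contra hgt
        rw [Cfsg.Agent.H96.fixCard_eq_filter] at hgt
        obtain ⟨p, hp, q, hq, hpq⟩ := Finset.one_lt_card.mp (Nat.lt_of_not_le hgt)
        obtain ⟨y, hy1, hy2⟩ := h2 p q a b hpq (Ne.symm hb)
        have hm := Cfsg.Agent.H96.conj_mem_pairStab (x := y)
          (Cfsg.Agent.H96.mem_pairStab.mpr ⟨(Finset.mem_filter.mp hp).2, (Finset.mem_filter.mp hq).2⟩)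
        rw [hy1, hy2] at hm
        have hsub : Subsingleton (Cfsg.Agent.H96.pairStab G a b) := Finite.card_le_one_iff_subsingleton.mp (by omega)
        have h3 := congrArg Subtype.val (hsub.elim ⟨_, hm⟩ 1)
        exact h1 (by simpa [conj_eq_one_iff] using h3)
      rw [show Cfsg.Agent.H96.fixCard Ω g = 1 by omega]
      simp
    rw [Finset.sum_eq_zero (fun g hg => htriv g (Finset.mem_filter.mp hg).2), ← hr] at hid
    push_cast at hid
    have hlt' : ((Nat.card G : ℕ) : ℤ) < ((Fintype.card Ω * Nat.card {g : G // ∀ ω : Ω, g • ω ≠ ω} : ℕ) : ℤ) := by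
      exact_mod_cast hlt
    rw [Nat.card_eq_fintype_card (α := G)] at hlt'
    push_cast at hlt'
    omega
  · have hS : 0 ≤ ∑ g ∈ Finset.univ.filter (fun g : G => 0 < Cfsg.Agent.H96.fixCard Ω g),
        ((Cfsg.Agent.H96.fixCard Ω g : ℤ) - 1) * ((Fintype.card Ω : ℤ) - Cfsg.Agent.H96.fixCard Ω g) := by
      refine Finset.sum_nonneg fun g hg => ?_
      have h1 := (Finset.mem_filter.mp hg).2
      have h2 := Cfsg.Agent.H96.fixCard_le (Ω := Ω) g
      exact mul_nonneg (by omega) (by omega)
    have h3 : (2 : ℤ) * Fintype.card G ≤ ((Cfsg.Agent.H96.rankAt G a : ℤ) - 1) * Fintype.card G :=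
      mul_le_mul_of_nonneg_right (by omega) (by positivity)
    rw [Nat.card_eq_fintype_card (α := G)]
    zify
    linarith

end Cfsg.Agent.S5730
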