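import Cfsg.Statements.S5732
import Cfsg.Agent.Derange.Frobenius

set_option autoImplicit false
open Cfsg

namespace Cfsg.Agent.S5732

/-- There is a bound N such that for every finite group G acting faithfully and transitively on a set with n ≥ N points, either G is primitive and a Frobenius permutation group (Frobenius as a permutation group: transitive, some non-identity element fixes a point, and no non-identity element fixes two points), or the subgroup generated by the derangements of G has index at most √n − 1 in G. -/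
theorem result : ∃ N : ℕ, ∀ (G Ω : Type*) [Group G] [Finite G] [MulAction G Ω] [FaithfulSMul G Ω] [Fintype Ω],
      MulAction.IsPretransitive G Ω → N ≤ Fintype.card Ω →
      (MulAction.IsPreprimitive G Ω ∧ (MulAction.IsPretransitive G Ω ∧ (∃ g : G, g ≠ 1 ∧ ∃ ω : Ω, g • ω = ω) ∧ ∀ g : G, g ≠ 1 → Nat.card (MulAction.fixedBy Ω g) ≤ 1)) ∨
      ((Subgroup.closure {g : G | ∀ ω : Ω, g • ω ≠ ω}).index : ℝ) ≤ Real.sqrt (Fintype.card Ω) - 1 := by
  obtain ⟨N, hN⟩ := Cfsg.Agent.Derange.exists_log_bound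
  refine ⟨max N 4, fun G Ω _ _ _ _ _ htrans hn => ?_⟩
  have hn4 : 4 ≤ Nat.card Ω := by
    rw [Nat.card_eq_fintype_card]; exact le_trans (le_max_right _ _) hn
  have hnN : N ≤ Nat.card Ω := by
    rw [Nat.card_eq_fintype_card]; exact le_trans (le_max_left _ _) hn
  have : Nonempty Ω := (Nat.card_pos_iff.1 (by omega)).1
  obtain ⟨a⟩ := this
  haveI : Nonempty Ω := ⟨a⟩
  rw [← Nat.card_eq_fintype_card]
  by_cases hprim : MulAction.IsPreprimitive G Ω
  swap
  · exact Or.inr (Cfsg.Agent.H68.index_le_sqrt htrans hprim)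
  set D := Cfsg.Agent.H68.derSub G Ω
  have hset : Cfsg.Agent.Derange.Setting D Ω := Cfsg.Agent.Derange.setting_derSub htrans
  rcases Nat.lt_or_ge D.index 2 with hr | hr
  · refine Or.inr (Cfsg.Agent.Derange.real_bound ?_)
    calc (D.index + 1) ^ 2 ≤ 2 ^ 2 := Nat.pow_le_pow_left (by omega) 2
      _ ≤ Nat.card Ω := hn4
  rcases hset.bound_or_regular hr hn4 a with hb | ⟨p, k, P, hp, hnp, hPD, hPc, hPt, hcop⟩
  · exact Or.inr (Cfsg.Agent.Derange.real_bound hb)
  have hconf : Cfsg.Agent.Derange.RegConf D P a p k :=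
    ⟨hset, hr, hp, hnp, hn4, hPD, hPc, hPt, hcop⟩
  have hlog : 15625 * k ^ 24 ≤ p ^ k := hnp ▸ hN _ k hnN
    (hnp.symm ▸ Nat.pow_le_pow_left hp.two_le k)
  rcases hconf.bound_or_frobenius hlog with hb | hf
  · exact Or.inr (Cfsg.Agent.Derange.real_bound hb)
  refine Or.inl ⟨hprim, htrans, ?_, fun g hg => ?_⟩
  · obtain ⟨g, hg⟩ : ∃ g : G, g ∉ D := by
      by_contra hno
      push Not at hno
      rw [(Subgroup.eq_top_iff' D).2 hno, Subgroup.index_top] at hr
      omega
    exact ⟨g, fun e => hg (e ▸ one_mem D), hset.exists_fix g hg⟩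
  · exact Finite.card_le_one_iff_subsingleton.2
      ⟨fun x y => Subtype.ext (hf g hg x y x.2 y.2)⟩

end Cfsg.Agent.S5732
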