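import Cfsg.Statements.S5738
import Cfsg.Agent.H96.Singer

set_option autoImplicit false
open Cfsg

namespace Cfsg.Agent.S5738

/-- Let F ⊆ K be finite fields with |F| = q and [K : F] = n ≥ 2, so |K| = q^n. Regard K as an n-dimensional F-vector space; the multiplications by non-zero elements of K form a cyclic subgroup of GL_F(K) of order q^n − 1 acting regularly on the non-zero vectors (a Singer group). Its normaliser in GL_F(K) has order n·(q^n − 1). -/
theorem result {F K : Type*} [Field F] [Fintype F] [Field K] [Fintype K] [Algebra F K] (n : ℕ) (hn : 2 ≤ n) (hdim : Module.finrank F K = n) :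
    Nat.card (Subgroup.normalizer (((Units.map ((Algebra.lmul F K : K →ₐ[F] Module.End F K) : K →* Module.End F K)).range : Subgroup (Module.End F K)ˣ) : Set (Module.End F K)ˣ)) = n * (Fintype.card K - 1) := by
  classical
  change Nat.card (Subgroup.normalizer ((Cfsg.Agent.H96.mulU F K).range : Set (Module.End F K)ˣ)) = _
  set M := (Cfsg.Agent.H96.mulU F K).range with hM
  haveI : Finite (Module.End F K) := Finite.of_injective (fun f => (f : K → K)) DFunLike.coe_injective
  -- the semilinear element attached to a pair
  let σU : (K ≃ₐ[F] K) → (Module.End F K)ˣ := fun σ =>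
    LinearMap.GeneralLinearGroup.generalLinearEquiv F K |>.symm σ.toLinearEquiv
  have hσU : ∀ (σ : K ≃ₐ[F] K) (y : K), (σU σ : Module.End F K) y = σ y := fun σ y => rfl
  let Φ : Kˣ × (K ≃ₐ[F] K) → (Module.End F K)ˣ := fun p => Cfsg.Agent.H96.mulU F K p.1 * σU p.2
  have hΦ : ∀ (a : Kˣ) (σ : K ≃ₐ[F] K) (y : K), (Φ (a, σ) : Module.End F K) y = (a : K) * σ y := fun a σ y => rfl
  have hinj : Function.Injective Φ := by
    rintro ⟨a, σ⟩ ⟨b, τ⟩ h
    have h' : ∀ y : K, (a : K) * σ y = (b : K) * τ y := fun y => by rw [← hΦ, ← hΦ, h]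
    have hab : a = b := Units.ext (by simpa using h' 1)
    subst hab
    exact Prod.ext rfl (AlgEquiv.ext fun y => mul_left_cancel₀ a.ne_zero (h' y))
  have hrange : Set.range Φ = (Subgroup.normalizer (M : Set (Module.End F K)ˣ) : Set (Module.End F K)ˣ) := by
    apply Set.Subset.antisymm
    · rintro _ ⟨⟨a, σ⟩, rfl⟩
      refine Subgroup.mul_mem _ (Subgroup.le_normalizer ⟨a, rfl⟩) ?_
      apply Subgroup.mem_normalizer_fintype
      rintro _ ⟨c, rfl⟩
      refine ⟨Units.map (σ : K →* K) c, Cfsg.Agent.H96.units_ext fun y => ?_⟩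
      have hinv : ((σU σ)⁻¹ : (Module.End F K)ˣ).val y = σ.symm y := rfl
      show σ (c : K) * y = (σU σ : Module.End F K) ((c : K) * ((σU σ)⁻¹ : (Module.End F K)ˣ).val y)
      rw [hinv, hσU, map_mul, AlgEquiv.apply_symm_apply]
    · intro g hg
      have h1 : (g : Module.End F K) 1 ≠ 0 := by
        intro h
        have := Cfsg.Agent.H96.units_inv_apply_apply g 1
        rw [h, map_zero] at this
        exact one_ne_zero this.symm
      have hmul : ∀ x y : K, (g : Module.End F K) (x * y) =
          (g : Module.End F K) x / (g : Module.End F K) 1 * (g : Module.End F K) y := by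
        intro x y
        rcases eq_or_ne x 0 with rfl | hx
        · simp
        obtain ⟨c, hc⟩ := ((Subgroup.mem_normalizer_iff.mp hg) (Cfsg.Agent.H96.mulU F K (Units.mk0 x hx))).mp ⟨_, rfl⟩
        have hgx : ∀ z : K, (g : Module.End F K) (x * z) = (c : K) * (g : Module.End F K) z := by
          intro z
          have := congrArg (fun u : (Module.End F K)ˣ => (u : Module.End F K) ((g : Module.End F K) z)) hc
          simp only [Units.val_mul, Module.End.mul_apply, Cfsg.Agent.H96.mulU_apply,
            Cfsg.Agent.H96.units_inv_apply_apply, Units.val_mk0] at this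
          exact this.symm
        have hc1 : (c : K) = (g : Module.End F K) x / (g : Module.End F K) 1 := by
          rw [eq_div_iff h1, ← hgx 1, mul_one]
        rw [hgx y, hc1]
      let τ : K →ₐ[F] K := AlgHom.ofLinearMap ((((g : Module.End F K) 1)⁻¹) • (g : Module.End F K))
        (by simp [h1])
        (fun x y => by
          simp only [LinearMap.smul_apply, smul_eq_mul, hmul x y]
          ring)
      have hτ : ∀ y, τ y = ((g : Module.End F K) 1)⁻¹ * (g : Module.End F K) y := fun y => rfl
      have hbij : Function.Bijective τ := by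
        rw [← Finite.injective_iff_bijective]
        exact τ.toRingHom.injective
      refine ⟨⟨Units.mk0 _ h1, AlgEquiv.ofBijective τ hbij⟩, Cfsg.Agent.H96.units_ext fun y => ?_⟩
      rw [hΦ]
      show (g : Module.End F K) 1 * τ y = _
      rw [hτ, ← mul_assoc, mul_inv_cancel₀ h1, one_mul]
  rw [← SetLike.coe_sort_coe, ← hrange, Nat.card_range_of_injective hinj, Nat.card_prod, Nat.card_units,
    IsGalois.card_aut_eq_finrank, hdim, Nat.card_eq_fintype_card, mul_comm]

end Cfsg.Agent.S5738
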