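import Cfsg.Statements.S5739
import Cfsg.Agent.H96.Singer

set_option autoImplicit false
open Cfsg

namespace Cfsg.Agent.S5739

/-- Let F ⊆ K be finite fields with |F| = q and [K : F] = n ≥ 2, and let M ≤ GL_F(K) be the Singer group of multiplications by non-zero elements of K. If g ∈ GL_F(K) does not normalise M, then the order of M ∩ gMg⁻¹ divides q^r − 1 for some proper divisor r of n. In particular, when n is prime, that order divides q − 1. -/
theorem result {F K : Type*} [Field F] [Fintype F] [Field K] [Fintype K] [Algebra F K] (n : ℕ) (hn : 2 ≤ n) (hdim : Module.finrank F K = n)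
    (g : (Module.End F K)ˣ) (hg : ((Units.map ((Algebra.lmul F K : K →ₐ[F] Module.End F K) : K →* Module.End F K)).range).map (MulAut.conj g).toMonoidHom ≠ (Units.map ((Algebra.lmul F K : K →ₐ[F] Module.End F K) : K →* Module.End F K)).range) :
    ∃ r : ℕ, 1 ≤ r ∧ r ∣ n ∧ r < n ∧ Nat.card ↥(((Units.map ((Algebra.lmul F K : K →ₐ[F] Module.End F K) : K →* Module.End F K)).range).map (MulAut.conj g).toMonoidHom ⊓ (Units.map ((Algebra.lmul F K : K →ₐ[F] Module.End F K) : K →* Module.End F K)).range) ∣ Fintype.card F ^ r - 1 := by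
  classical
  change ((Cfsg.Agent.H96.mulU F K).range).map (MulAut.conj g).toMonoidHom ≠ (Cfsg.Agent.H96.mulU F K).range at hg
  change ∃ r : ℕ, 1 ≤ r ∧ r ∣ n ∧ r < n ∧ Nat.card ↥(((Cfsg.Agent.H96.mulU F K).range).map (MulAut.conj g).toMonoidHom ⊓ (Cfsg.Agent.H96.mulU F K).range) ∣ Fintype.card F ^ r - 1
  set M := (Cfsg.Agent.H96.mulU F K).range with hM
  set C : Subgroup Kˣ := (M.map (MulAut.conj g).toMonoidHom).comap (Cfsg.Agent.H96.mulU F K) with hC
  set L : IntermediateField F K := IntermediateField.adjoin F ((fun a : Kˣ => (a : K)) '' (C : Set Kˣ)) with hL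
  haveI : Finite (Module.End F K) := Finite.of_injective (fun f => (f : K → K)) DFunLike.coe_injective
  -- cardinality of the intersection
  have hI : M.map (MulAut.conj g).toMonoidHom ⊓ M = C.map (Cfsg.Agent.H96.mulU F K) := by
    rw [hC, Subgroup.map_comap_eq, inf_comm]
  have hcardC : Nat.card ↥(M.map (MulAut.conj g).toMonoidHom ⊓ M) = Nat.card C := by
    rw [hI]
    exact Nat.card_congr (C.equivMapOfInjective _ Cfsg.Agent.H96.mulU_injective).toEquiv.symm
  haveI : Fintype L := Fintype.ofFinite L
  have hCdvd : Nat.card C ∣ Fintype.card F ^ Module.finrank F L - 1 := by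
    have hmem : ∀ c : C, ((c : Kˣ) : K) ∈ L := fun c => IntermediateField.subset_adjoin F _ ⟨c, c.2, rfl⟩
    let f : C →* Lˣ := MonoidHom.toHomUnits
      { toFun := fun c => ⟨((c : Kˣ) : K), hmem c⟩
        map_one' := rfl
        map_mul' := fun x y => rfl }
    have hf : Function.Injective f := fun x y h =>
      Subtype.ext (Units.ext (congrArg (fun u : Lˣ => ((u : L) : K)) h))
    have := Subgroup.card_dvd_of_injective f hf
    rwa [Nat.card_units, Nat.card_eq_fintype_card (α := L), Module.card_eq_pow_finrank (K := F) (V := L)] at this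
  refine ⟨Module.finrank F L, Module.finrank_pos, ?_, ?_, by rw [hcardC]; exact hCdvd⟩
  · rw [← hdim, ← Module.finrank_mul_finrank F L K]
    exact Dvd.intro _ rfl
  by_contra hlt
  have htop : L = ⊤ := by
    apply IntermediateField.toSubalgebra_injective
    rw [IntermediateField.top_toSubalgebra]
    apply Subalgebra.toSubmodule_injective
    rw [Algebra.top_toSubmodule]
    apply Submodule.eq_top_of_finrank_eq
    apply le_antisymm (Submodule.finrank_le _)
    rw [hdim]
    exact Nat.le_of_not_lt hlt
  -- the elements conjugated by g⁻¹ into the multiplications form a subfield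
  let P : K → Prop := fun x => ∃ y : K, ∀ z : K, x * (g : Module.End F K) z = (g : Module.End F K) (y * z)
  have hP : ∀ x ∈ L, P x := by
    intro x hx
    induction hx using IntermediateField.adjoin_induction with
    | mem x hx =>
      obtain ⟨c, hc, rfl⟩ := hx
      obtain ⟨m, ⟨d, rfl⟩, hd⟩ := hc
      refine ⟨(d : K), fun z => ?_⟩
      have h2 := congrArg (fun u : (Module.End F K)ˣ => (u : Module.End F K) ((g : Module.End F K) z)) hd
      simp only [MulEquiv.coe_toMonoidHom, MulAut.conj_apply, Units.val_mul, Module.End.mul_apply,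
        Cfsg.Agent.H96.mulU_apply, Cfsg.Agent.H96.units_inv_apply_apply] at h2
      exact h2.symm
    | algebraMap a =>
      exact ⟨algebraMap F K a, fun z => by rw [← Algebra.smul_def, ← Algebra.smul_def, map_smul]⟩
    | add x y _ _ hx hy =>
      obtain ⟨a, ha⟩ := hx
      obtain ⟨b, hb⟩ := hy
      exact ⟨a + b, fun z => by rw [add_mul, add_mul, map_add, ha, hb]⟩
    | inv x _ hx =>
      obtain ⟨a, ha⟩ := hx
      rcases eq_or_ne x 0 with rfl | hx0
      · exact ⟨0, fun z => by simp⟩
      have ha0 : a ≠ 0 := by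
        rintro rfl
        have := ha (((g⁻¹ : (Module.End F K)ˣ) : Module.End F K) 1)
        rw [Cfsg.Agent.H96.units_apply_inv_apply, zero_mul, map_zero, mul_one] at this
        exact hx0 this
      refine ⟨a⁻¹, fun z => ?_⟩
      have := ha (a⁻¹ * z)
      rw [← mul_assoc a, mul_inv_cancel₀ ha0, one_mul] at this
      rw [← this, ← mul_assoc, inv_mul_cancel₀ hx0, one_mul]
    | mul x y _ _ hx hy =>
      obtain ⟨a, ha⟩ := hx
      obtain ⟨b, hb⟩ := hy
      exact ⟨a * b, fun z => by rw [mul_assoc, hb, ha, mul_assoc]⟩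
  apply hg
  apply (Subgroup.eq_of_le_of_card_ge _ _).symm
  · rintro _ ⟨x, rfl⟩
    obtain ⟨y, hy⟩ := hP (x : K) (htop ▸ IntermediateField.mem_top)
    have hy0 : y ≠ 0 := by
      rintro rfl
      have := hy (((g⁻¹ : (Module.End F K)ˣ) : Module.End F K) 1)
      rw [Cfsg.Agent.H96.units_apply_inv_apply, zero_mul, map_zero, mul_one] at this
      exact x.ne_zero this
    refine ⟨Cfsg.Agent.H96.mulU F K (Units.mk0 y hy0), ⟨_, rfl⟩, Cfsg.Agent.H96.units_ext fun w => ?_⟩
    simp only [MulEquiv.coe_toMonoidHom, MulAut.conj_apply, Units.val_mul, Module.End.mul_apply,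
      Cfsg.Agent.H96.mulU_apply, Units.val_mk0]
    rw [← hy, Cfsg.Agent.H96.units_apply_inv_apply]
  · exact (Nat.card_congr (M.equivMapOfInjective _ (MulAut.conj g).injective).toEquiv).symm.le

end Cfsg.Agent.S5739
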