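import Cfsg.Statements.S5742
import Cfsg.Agent.H99.E6.Fi22.Conj
import Cfsg.Agent.S2079
-- import your own Cfsg.Agent.* helpers here

set_option autoImplicit false
open Cfsg

namespace Cfsg.Agent.S5742

/-- The simple group ²E₆(2) (the twisted group of type E₆ over the field with 4 elements) contains at least three pairwise non-conjugate subgroups isomorphic to the Fischer group Fi₂₂. -/
theorem result {K : Type*} [Field K] [Fintype K] (hK : Fintype.card K = 4) :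
    ∃ H : Fin 3 → Subgroup (Cfsg.Lie.twistedE6 K 2),
      (∀ i, Cfsg.Spor.IsoFi22 (H i)) ∧
      (∀ i j, i ≠ j → ∀ g : (Cfsg.Lie.twistedE6 K 2), (H i).map (MulAut.conj g).toMonoidHom ≠ H j) := by
  haveI : CharP K 2 := charP_of_card_eq_prime_pow (f := 2) (by rw [Fintype.card_eq_nat_card] at hK ⊢; simpa using hK)
  have : Finite Cfsg.Spor.Fi22 := Cfsg.Agent.H45.Fi22Top.order_facts.1
  have hout : ∀ α : Cfsg.Spor.Fi22 ≃* Cfsg.Spor.Fi22, ∃ h, ∀ z, α (α z) = h * z * h⁻¹ := by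
    intro α
    have h := pow_card_eq_one' (x := (QuotientGroup.mk α : Cfsg.Out Cfsg.Spor.Fi22))
    rw [Cfsg.Agent.S2079.result, ← QuotientGroup.mk_pow, QuotientGroup.eq_one_iff] at h
    obtain ⟨g, hg⟩ := h
    refine ⟨g, fun z => ?_⟩
    have := DFunLike.congr_fun hg z
    simpa [pow_two] using this.symm
  obtain ⟨H, h1, h2⟩ := Cfsg.Agent.H99.E6.Fi22.three (MonoidHom.id Cfsg.Spor.Fi22) hK Function.injective_id
    (fun k hk => ⟨_, Classical.choose_spec (show ∃ x, Cfsg.Agent.H99.E6.Fi22.gi x = k by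
      fin_cases k
      exacts [⟨.a, rfl⟩, ⟨.b, rfl⟩, ⟨.c, rfl⟩, ⟨.d, rfl⟩, ⟨.e, rfl⟩, ⟨.f, rfl⟩, ⟨.g, rfl⟩, ⟨.h, rfl⟩,
        ⟨.i, rfl⟩]), ⟨_, rfl⟩⟩) hout
  exact ⟨H, h1, h2⟩

end Cfsg.Agent.S5742
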