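import Cfsg.Statements.S5743
import Cfsg.Agent.H99.E6.FourTwo.Three

set_option autoImplicit false
open Cfsg

namespace Cfsg.Agent.S5743

open Cfsg.Agent.H99.E6 Cfsg.Agent.H99.E6.FourTwo

/-- The simple group ²E₆(2) (the twisted group of type E₆ over the field with 4 elements) contains at least three pairwise non-conjugate subgroups isomorphic to the Chevalley group F₄(2). -/
theorem result {K : Type*} [Field K] [Fintype K] (hK : Fintype.card K = 4) :
    ∃ H : Fin 3 → Subgroup (Cfsg.Lie.twistedE6 K 2),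
      (∀ i, Nonempty ((H i) ≃* Cfsg.Lie.chevF4.group (ZMod 2))) ∧
      (∀ i j, i ≠ j → ∀ g : (Cfsg.Lie.twistedE6 K 2), (H i).map (MulAut.conj g).toMonoidHom ≠ H j) := by
  haveI : CharP K 2 := charP_of_card_eq_prime_pow (f := 2) (by rw [Fintype.card_eq_nat_card] at hK ⊢; simpa using hK)
  classical
  obtain ⟨w, hw⟩ := IsCyclic.exists_generator (α := Kˣ)
  have hord : orderOf w = 3 := by
    rw [orderOf_eq_card_of_forall_mem_zpowers hw, Nat.card_eq_fintype_card, Fintype.card_units, hK]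
  have h3 : ∀ i : Fin 3, (w ^ i.val) ^ 3 = 1 := fun i => by
    rw [← pow_mul, mul_comm, pow_mul, show w ^ 3 = 1 from (congrArg (w ^ ·) hord).symm.trans (pow_orderOf_eq_one w), one_pow]
  refine ⟨fun i => ((Hu (w ^ i.val)).map psi).subgroupOf (Cfsg.Lie.twistedE6 K 2), fun i => ?_, ?_⟩
  · obtain ⟨e⟩ := Hu_iso (h3 i)
    exact ⟨(Subgroup.subgroupOfEquivOfLe (Hu_le _ (h3 i))).trans e⟩
  · intro i j hij g h
    obtain ⟨x, hx⟩ := twisted_le_range g.2
    refine hij (Fin.ext (pow_injOn_Iio_orderOf (x := w) (by simp [hord]) (by simp [hord])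
      (eq_of_conj hK (h3 i) (h3 j) x fun k => ?_)))
    have hk : psi (hu (w ^ i.val) k) ∈ (Hu (w ^ i.val)).map psi :=
      Subgroup.mem_map_of_mem _ (Subgroup.subset_closure ⟨k, rfl⟩)
    have hm : MulAut.conj g ⟨psi (hu (w ^ i.val) k), Hu_le _ (h3 i) hk⟩ ∈
        ((Hu (w ^ j.val)).map psi).subgroupOf (Cfsg.Lie.twistedE6 K 2) :=
      (SetLike.ext_iff.1 h _).1 (Subgroup.mem_map_of_mem _ (Subgroup.mem_subgroupOf.2 hk))
    rw [Subgroup.mem_subgroupOf] at hm
    rw [hx]
    simpa using hm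

end Cfsg.Agent.S5743
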