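import Cfsg.Statements.S5744
import Cfsg.Agent.H99.E6.Fi22.Conj
import Cfsg.Agent.H87.Fi22.FiHom
import Cfsg.Agent.Orthogonal.AutOutOdd
-- import your own Cfsg.Agent.* helpers here

set_option autoImplicit false
open Cfsg

namespace Cfsg.Agent.S5744

open Cfsg.Agent.H87.Fi22 in
/-- The simple group ²E₆(2) (the twisted group of type E₆ over the field with 4 elements) contains at least three pairwise non-conjugate subgroups isomorphic to the orthogonal group Ω₇(3) (the commutator subgroup of the isometry group of x₀² + x₁y₁ + x₂y₂ + x₃y₃ over the field with 3 elements). -/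
theorem result {K : Type*} [Field K] [Fintype K] (hK : Fintype.card K = 4) :
    ∃ H : Fin 3 → Subgroup (Cfsg.Lie.twistedE6 K 2),
      (∀ i, Nonempty ((H i) ≃* Cfsg.Omega (ZMod 3) (Cfsg.quadFormOdd 3 (ZMod 3)))) ∧
      (∀ i j, i ≠ j → ∀ g : (Cfsg.Lie.twistedE6 K 2), (H i).map (MulAut.conj g).toMonoidHom ≠ H j) := by
  haveI : CharP K 2 := charP_of_card_eq_prime_pow (f := 2) (by rw [Fintype.card_eq_nat_card] at hK ⊢; simpa using hK)
  obtain ⟨⟨E⟩, hfin, -, -⟩ := omega_facts
  haveI : Fact (Nat.Prime 3) := ⟨by norm_num⟩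
  obtain ⟨eO⟩ := Cfsg.Agent.Orthogonal.out_formOdd (F := ZMod 3) (p := 3) (f := 1) (m := 3) le_rfl
    (by simp [ZMod.card]) (by decide) le_rfl
  have hcard : Nat.card (Cfsg.Out (Cfsg.POmega (ZMod 3) (Cfsg.quadFormOdd 3 (ZMod 3)))) = 2 := by
    rw [Nat.card_congr eO.toEquiv, Nat.card_congr Multiplicative.toAdd, Nat.card_prod, Nat.card_zmod,
      Nat.card_zmod]
  have hout : ∀ α : omegaPres.Gp ≃* omegaPres.Gp, ∃ h, ∀ z, α (α z) = h * z * h⁻¹ := by
    intro α
    let β : MulAut (Cfsg.POmega (ZMod 3) (Cfsg.quadFormOdd 3 (ZMod 3))) := E.symm.trans (α.trans E)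
    have h := pow_card_eq_one' (x := (QuotientGroup.mk β :
      Cfsg.Out (Cfsg.POmega (ZMod 3) (Cfsg.quadFormOdd 3 (ZMod 3)))))
    rw [hcard, ← QuotientGroup.mk_pow, QuotientGroup.eq_one_iff] at h
    obtain ⟨g, hg⟩ := h
    refine ⟨E.symm g, fun z => E.injective ?_⟩
    have := DFunLike.congr_fun hg (E z)
    simpa [β, pow_two] using this.symm
  obtain ⟨H, h1, h2⟩ := Cfsg.Agent.H99.E6.Fi22.three (P := omegaPres.Gp) upHom hK upHom_injective
    (fun k hk => by
      have key : ∀ y : Gen7, ∃ x : Cfsg.Spor.Fi22.Gen, Cfsg.Agent.H99.E6.Fi22.gi x =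
          Cfsg.Agent.H99.E6.Fi22.gi y.up ∧ PresentedGroup.of x ∈ upHom.range :=
        fun y => ⟨y.up, rfl, PresentedGroup.of y, upHom_of y⟩
      fin_cases k
      · exact absurd hk (by decide)
      · exact key .b
      · exact key .c
      · exact key .d
      · exact key .e
      · exact key .f
      · exact key .g
      · exact key .h
      · exact key .i) hout
  refine ⟨H, fun i => ?_, h2⟩
  obtain ⟨e⟩ := h1 i
  exact ⟨e.trans (E.trans ((QuotientGroup.quotientMulEquivOfEq omega_center_bot).trans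
    QuotientGroup.quotientBot))⟩

end Cfsg.Agent.S5744
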