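import Cfsg.Statements.S5746
import Cfsg.Agent.H90.G2Four.ExtHom
import Cfsg.Agent.H90.G2Four.Ext
import Cfsg.Agent.H38.St.Groups
import Cfsg.Agent.S1059
import Cfsg.Agent.S1078

set_option autoImplicit false
open Cfsg

namespace Cfsg.Agent.S5746

/-- The Chevalley group G₂(4) (over the field with 4 elements) has a maximal subgroup H isomorphic to the Hall–Janko group J₂ such that for every x outside H the intersection H ∩ xHx⁻¹ is a maximal subgroup of H; that is, the action of G₂(4) on the cosets of H is extremely primitive. -/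
theorem result {F : Type*} [Field F] [Fintype F] (hF : Fintype.card F = 4) :
    ∃ H : Subgroup (Cfsg.Lie.chevG2.group F), IsCoatom H ∧ Cfsg.Spor.IsoJ2 H ∧
      ∀ x : Cfsg.Lie.chevG2.group F, x ∉ H → IsCoatom ((H ⊓ H.map (MulAut.conj x).toMonoidHom).subgroupOf H) := by
  classical
  have hcG : Nat.card ↥(Cfsg.Lie.chevG2.group F) = 251596800 := by
    rw [Cfsg.Agent.S1059.result hF]; norm_num
  obtain ⟨θ, hsurj, hker, -⟩ := Agent.H38.St.steinberg (D := Cfsg.Lie.chevG2) (F := F) (Agent.H37.Chev.dataG2 F)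
    (Agent.H38.St.relOK_of_check _ Agent.H37.Chev.typeG2.M (w := Agent.Chevalley.G2.tab.w) rfl (by decide +kernel))
    (Agent.H38.St.adj_of_check (by decide +kernel))
  rw [Cfsg.Agent.S1078.result Cfsg.Lie.chevG2 (by simp)] at hker
  let eG := MulEquiv.ofBijective θ ⟨(MonoidHom.ker_eq_bot_iff θ).1 hker, hsurj⟩
  haveI : Finite ↥(Cfsg.Lie.chevG2.group F) := Nat.finite_of_card_ne_zero (by rw [hcG]; norm_num)
  let ε : F ≃+* H90.G2Four.K4 := FiniteField.ringEquivOfCardEq (by rw [hF, H90.G2Four.K4.card_eq])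
  refine H90.G2Four.Ext.main ((H90.G2Four.Ext.extRep ε).comp eG.symm.toMonoidHom) hcG fun l => ?_
  obtain ⟨g, hg⟩ := H90.G2Four.Ext.exists_extRep ε l
  exact ⟨H90.G2Four.Ext.map_code_ok l, eG g, by simpa [H90.G2Four.Ext.wordPerm] using hg⟩

end Cfsg.Agent.S5746
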