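import Cfsg.Statements.S5747
import Cfsg.Agent.H96.IBIS

set_option autoImplicit false
open Cfsg

namespace Cfsg.Agent.S5747

/-- Let a finite group G act on a finite set Ω. An irredundant base is a sequence of points ω₁, …, ω_t whose pointwise stabiliser is trivial and in which each ω_i is moved by some element fixing ω₁, …, ω_{i−1}. Then all irredundant bases have the same length if and only if every reordering of an irredundant base is again an irredundant base. -/
theorem result {G Ω : Type*} [Group G] [Finite G] [MulAction G Ω] [Fintype Ω] :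
    (∀ (t t' : ℕ) (f : Fin t → Ω) (f' : Fin t' → Ω), ((∀ g : G, (∀ i : Fin t, g • f i = f i) → g = 1) ∧ ∀ i : Fin t, ∃ g : G, (∀ j : Fin t, j < i → g • f j = f j) ∧ g • f i ≠ f i) → ((∀ g : G, (∀ i : Fin t', g • f' i = f' i) → g = 1) ∧ ∀ i : Fin t', ∃ g : G, (∀ j : Fin t', j < i → g • f' j = f' j) ∧ g • f' i ≠ f' i) → t = t') ↔
    (∀ (t : ℕ) (f : Fin t → Ω) (σ : Equiv.Perm (Fin t)), ((∀ g : G, (∀ i : Fin t, g • f i = f i) → g = 1) ∧ ∀ i : Fin t, ∃ g : G, (∀ j : Fin t, j < i → g • f j = f j) ∧ g • f i ≠ f i) → ((∀ g : G, (∀ i : Fin t, g • (f ∘ σ) i = (f ∘ σ) i) → g = 1) ∧ ∀ i : Fin t, ∃ g : G, (∀ j : Fin t, j < i → g • (f ∘ σ) j = (f ∘ σ) j) ∧ g • (f ∘ σ) i ≠ (f ∘ σ) i)) := by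
  classical
  constructor
  · intro hlen t f σ hf
    obtain ⟨hb, hi⟩ := hf
    have hbσ : Cfsg.Agent.H96.BaseSeq G (f ∘ σ) := fun g hg => hb g fun i => by
      simpa using hg (σ.symm i)
    refine ⟨hbσ, ?_⟩
    obtain ⟨B0, hsub, hmin⟩ := Cfsg.Agent.H96.exists_minBase _ (Cfsg.Agent.H96.baseSet_image.mpr hbσ)
    obtain ⟨f0, hinj, him⟩ := Cfsg.Agent.H96.exists_enum B0
    have hmem : ∀ i, f0 i ∈ B0 := fun i => him ▸ Finset.mem_image_of_mem _ (Finset.mem_univ i)
    have hcard := hlen t B0.card f f0 ⟨hb, hi⟩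
      ⟨Cfsg.Agent.H96.baseSet_image.mp (him.symm ▸ hmin.1), hmin.indepSeq hinj hmem⟩
    have hfσ : Function.Injective (f ∘ σ) :=
      (Cfsg.Agent.H96.IndepSeq.injective (G := G) hi).comp σ.injective
    have heq : B0 = Finset.univ.image (f ∘ σ) := by
      apply Finset.eq_of_subset_of_card_le hsub
      rw [Finset.card_image_of_injective _ hfσ, Finset.card_univ, Fintype.card_fin, hcard]
    exact hmin.indepSeq hfσ fun i => heq ▸ Finset.mem_image_of_mem _ (Finset.mem_univ i)
  · intro hre t t' f f' hf hf'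
    have hyp : ∀ (t : ℕ) (f : Fin t → Ω), Cfsg.Agent.H96.BaseSeq G f → Cfsg.Agent.H96.IndepSeq G f →
        Cfsg.Agent.H96.MinBase G (Finset.univ.image f) := by
      intro t f hb hi
      refine ⟨Cfsg.Agent.H96.baseSet_image.mpr hb, ?_⟩
      intro x hx
      obtain ⟨i, _, rfl⟩ := Finset.mem_image.mp hx
      cases t with
      | zero => exact i.elim0
      | succ t =>
        obtain ⟨-, hσ⟩ := hre (t + 1) f (Equiv.swap i (Fin.last t)) ⟨hb, hi⟩
        obtain ⟨g, hg, hg'⟩ := hσ (Fin.last t)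
        refine ⟨g, fun y hy hne => ?_, by simpa using hg'⟩
        obtain ⟨j, _, rfl⟩ := Finset.mem_image.mp hy
        have hji : j ≠ i := fun h => hne (by rw [h])
        have hlt : Equiv.swap i (Fin.last t) j < Fin.last t := by
          refine lt_of_le_of_ne (Fin.le_last _) fun h => hji ?_
          apply (Equiv.swap i (Fin.last t)).injective
          rw [h, Equiv.swap_apply_left]
        simpa using hg _ hlt
    have hm := hyp t f hf.1 hf.2
    have hm' := hyp t' f' hf'.1 hf'.2
    have := Cfsg.Agent.H96.minBase_card_eq hyp _ _ _ hm hm' le_rfl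
    rwa [Finset.card_image_of_injective _ (Cfsg.Agent.H96.IndepSeq.injective (G := G) hf.2),
      Finset.card_image_of_injective _ (Cfsg.Agent.H96.IndepSeq.injective (G := G) hf'.2),
      Finset.card_univ, Finset.card_univ, Fintype.card_fin, Fintype.card_fin] at this

end Cfsg.Agent.S5747
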