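import Cfsg.Statements.S5752
import Cfsg.Agent.Components.ThompsonWielandt
-- import your own Cfsg.Agent.* helpers here

set_option autoImplicit false
open Cfsg

namespace Cfsg.Agent.S5752

open Cfsg.Agent.Components
open scoped commutatorElement
set_option linter.style.haveILetI false

/-- A form of the Thompson–Wielandt Theorem on primitive permutation groups. Let G be a finite group and M₁, M₂ two distinct conjugate maximal subgroups of G with trivial core in G; define two descending sequences of subgroups by A₀ = M₁, B₀ = M₂ and, for every i, A_{i+1} = the core in M₁ of A_i ∩ B_i and B_{i+1} = the core in M₂ of A_i ∩ B_i (the core in M of a subgroup Y ≤ M is the largest normal subgroup of M contained in Y). If A₂ and B₂ are both non-trivial, then for some prime p the subgroup generated by A₂ and B₂ is a p-group, and for each j the generalized Fitting subgroups of M_j and of its first core (A₁, resp. B₁) are their largest normal p-subgroups. -/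
theorem result {G : Type*} [Group G] [Finite G] (M₁ M₂ : Subgroup G) (hmax : IsCoatom M₁) (g : G)
    (hconj : M₂ = M₁.map (MulAut.conj g).toMonoidHom) (hne : M₁ ≠ M₂) (hcore : M₁.normalCore = ⊥)
    (A B : ℕ → Subgroup G) (hA0 : A 0 = M₁) (hB0 : B 0 = M₂)
    (hA : ∀ i, A (i + 1) = ((A i ⊓ B i).subgroupOf M₁).normalCore.map M₁.subtype)
    (hB : ∀ i, B (i + 1) = ((A i ⊓ B i).subgroupOf M₂).normalCore.map M₂.subtype) (hA2 : A 2 ≠ ⊥) (hB2 : B 2 ≠ ⊥) :
    ∃ p : ℕ, p.Prime ∧ IsPGroup p ↥(A 2 ⊔ B 2) ∧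
      Cfsg.generalizedFittingSubgroup ↥M₁ = Cfsg.pCore p ↥M₁ ∧ Cfsg.generalizedFittingSubgroup ↥(A 1) = Cfsg.pCore p ↥(A 1) ∧
      Cfsg.generalizedFittingSubgroup ↥M₂ = Cfsg.pCore p ↥M₂ ∧ Cfsg.generalizedFittingSubgroup ↥(B 1) = Cfsg.pCore p ↥(B 1) := by
  set D := M₁ ⊓ M₂ with hD
  have hMg : ∀ K : Subgroup G, K ≠ ⊥ → K ≤ M₁ → M₁ ≤ Subgroup.normalizer (K : Set G) →
      Subgroup.normalizer (K : Set G) = M₁ := fun K hK hle hn => by
    refine (hmax.le_iff.mp hn).resolve_left fun ht => hK (le_bot_iff.mp ?_)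
    haveI := Subgroup.normalizer_eq_top_iff.mp ht
    exact hcore ▸ Subgroup.normal_le_normalCore.mpr hle
  have hmax2 : IsCoatom M₂ := by
    rw [hconj]
    exact ((MulEquiv.mapSubgroup (MulAut.conj g)).isCoatom_iff M₁).mpr hmax
  have hMg2 : ∀ K : Subgroup G, K ≠ ⊥ → K ≤ M₂ → M₂ ≤ Subgroup.normalizer (K : Set G) →
      Subgroup.normalizer (K : Set G) = M₂ := fun K hK hle hn => by
    refine (hmax2.le_iff.mp hn).resolve_left fun ht => hK (le_bot_iff.mp ?_)
    haveI := Subgroup.normalizer_eq_top_iff.mp ht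
    refine hcore ▸ Subgroup.normal_le_normalCore.mpr fun x hx => ?_
    have h1 : g * x * g⁻¹ ∈ M₂ := hle (Subgroup.Normal.conj_mem inferInstance x hx g)
    rw [hconj] at h1
    obtain ⟨y, hy, hyx⟩ := h1
    have : y = x := (MulAut.conj g).injective (by simpa using hyx)
    rwa [← this]
  have hcoreprop : ∀ (M Y : Subgroup G),
      ((Y.subgroupOf M).normalCore.map M.subtype ≤ Y ⊓ M) ∧
      M ≤ Subgroup.normalizer (((Y.subgroupOf M).normalCore.map M.subtype : Subgroup G) : Set G) ∧
      ∀ K : Subgroup G, K ≤ Y ⊓ M → M ≤ Subgroup.normalizer (K : Set G) →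
        K ≤ (Y.subgroupOf M).normalCore.map M.subtype := fun M Y => by
    refine ⟨le_inf ((Subgroup.map_mono (Subgroup.normalCore_le _)).trans
      (Subgroup.map_comap_le _ _)) (Subgroup.map_subtype_le _), le_normalizer_map_subtype _,
      fun K hK hn => ?_⟩
    rw [← map_subgroupOf (hK.trans inf_le_right)]
    haveI := Subgroup.normal_subgroupOf_of_le_normalizer hn
    exact Subgroup.map_mono (Subgroup.normal_le_normalCore.mpr
      (Subgroup.comap_mono (hK.trans inf_le_left)))
  obtain ⟨a1, a2, a3⟩ := hcoreprop M₁ (A 0 ⊓ B 0)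
  obtain ⟨b1, b2, b3⟩ := hcoreprop M₂ (A 0 ⊓ B 0)
  rw [← hA 0] at a1 a2 a3
  rw [← hB 0] at b1 b2 b3
  rw [hA0, hB0, ← hD] at a1 a3 b1 b3
  obtain ⟨c1, c2, -⟩ := hcoreprop M₁ (A 1 ⊓ B 1)
  obtain ⟨d1, d2, -⟩ := hcoreprop M₂ (A 1 ⊓ B 1)
  rw [← hA 1] at c1 c2
  rw [← hB 1] at d1 d2
  refine thompson_wielandt hne hMg hMg2 (a1.trans inf_le_left) a2
    (fun K hK => a3 K (le_inf hK (hK.trans inf_le_left))) (b1.trans inf_le_left) b2
    (fun K hK => b3 K (le_inf hK (hK.trans inf_le_right))) (c1.trans inf_le_left) c2 hA2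
    (d1.trans inf_le_left) d2 hB2 fun r => ?_
  have e : M₁ ≃* M₂ := (M₁.equivMapOfInjective _ (MulAut.conj g).injective).trans
    (MulEquiv.subgroupCongr hconj.symm)
  rw [Subgroup.card_map_of_injective M₁.subtype_injective,
    Subgroup.card_map_of_injective M₂.subtype_injective, ← Cores.pCore_map_mulEquiv e,
    Subgroup.card_map_of_injective e.injective]

end Cfsg.Agent.S5752
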