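import Cfsg.Statements.S5753
import Cfsg.Agent.H52.Binary.Field

set_option autoImplicit false
open Cfsg

namespace Cfsg.Agent.S5753

open Cfsg.Agent.H52.Binary in
/-- The binary primitive permutation groups of affine type (the known proof uses the classification of the finite simple groups). Let a finite group G act faithfully and primitively on a finite set Ω, with a non-trivial abelian normal subgroup, and suppose the action is binary: for every n ≥ 2 and all n-tuples I, J of points, if for every pair of positions some element of G carries the corresponding pair of entries of I to those of J, then a single element carries I to J. Then either Ω has a prime number of points and every point stabilizer has order at most 2, or Ω can be identified with a field E that is a quadratic extension of a subfield F in such a way that the permutations induced by G are exactly the maps x ↦ a·φ(x) + b with a ∈ E of norm 1 over F, φ an automorphism of E over F and b ∈ E (the affine group of the anisotropic plane orthogonal group).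 -/
theorem result {G Ω : Type*} [Group G] [Finite G] [MulAction G Ω] [FaithfulSMul G Ω] [Fintype Ω]
    (hprim : MulAction.IsPreprimitive G Ω)
    (haff : ∃ N : Subgroup G, N.Normal ∧ N ≠ ⊥ ∧ IsMulCommutative ↥N)
    (hbin : ∀ (n : ℕ) (I J : Fin n → Ω), 2 ≤ n →
      (∀ i j : Fin n, i ≠ j → ∃ g : G, g • I i = J i ∧ g • I j = J j) → ∃ g : G, ∀ i, g • I i = J i) :
    ((Fintype.card Ω).Prime ∧ ∀ ω : Ω, Nat.card ↥(MulAction.stabilizer G ω) ≤ 2) ∨
    (∃ (F E : Type) (_ : Field F) (_ : Fintype F) (_ : Field E) (_ : Fintype E) (_ : Algebra F E) (e : Ω ≃ E),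
        Module.finrank F E = 2 ∧
        ∀ σ : Equiv.Perm Ω, σ ∈ (MulAction.toPermHom G Ω).range ↔
          ∃ (a b : E) (φ : E ≃ₐ[F] E), Algebra.norm F a = 1 ∧ ∀ ω : Ω, e (σ ω) = a * φ (e ω) + b) := by
  classical
  obtain ⟨N₁, hN₁n, hN₁, hN₁c⟩ := haff
  have hcomm₁ : ∀ a ∈ N₁, ∀ b ∈ N₁, a * b = b * a := fun a ha b hb =>
    congrArg Subtype.val (mul_comm' (⟨a, ha⟩ : N₁) ⟨b, hb⟩)
  -- a prime exponent subgroup
  have hnt₁ : 1 < Nat.card N₁ := by
    rcases (Nat.card N₁).lt_or_ge 2 with c | c
    · exact absurd (Subgroup.eq_bot_of_card_le N₁ (by omega)) hN₁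
    · omega
  obtain ⟨p, hp, hpd⟩ := Nat.exists_prime_and_dvd (by omega : Nat.card N₁ ≠ 1)
  have : Fact p.Prime := ⟨hp⟩
  let N : Subgroup G :=
    { carrier := {g | g ∈ N₁ ∧ g ^ p = 1}
      one_mem' := ⟨N₁.one_mem, one_pow p⟩
      mul_mem' := fun {a b} ha hb => ⟨N₁.mul_mem ha.1 hb.1, by
        rw [(Commute.mul_pow (hcomm₁ a ha.1 b hb.1)), ha.2, hb.2, one_mul]⟩
      inv_mem' := fun {a} ha => ⟨N₁.inv_mem ha.1, by rw [inv_pow, ha.2, inv_one]⟩ }
  have hN : N.Normal := ⟨fun n hn g => ⟨hN₁n.conj_mem n hn.1 g, by rw [conj_pow, hn.2]; group⟩⟩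
  have hNne : N ≠ ⊥ := by
    obtain ⟨a, ha⟩ := exists_prime_orderOf_dvd_card' p hpd
    intro e
    have : (a : G) ∈ N := ⟨a.2, by
      rw [← SubgroupClass.coe_pow, ← ha, pow_orderOf_eq_one]; rfl⟩
    rw [e, Subgroup.mem_bot] at this
    have h1 : a = 1 := Subtype.ext this
    rw [h1, orderOf_one] at ha
    exact hp.ne_one ha.symm
  have hcomm : ∀ a ∈ N, ∀ b ∈ N, a * b = b * a := fun a ha b hb => hcomm₁ a ha.1 b hb.1
  have hexp : ∀ a ∈ N, a ^ p = 1 := fun a ha => ha.2
  clear_value N
  clear hcomm₁ hnt₁ hpd hN₁ hN₁n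
  -- transitivity of nontrivial normal subgroups
  have htr : ∀ M : Subgroup G, M.Normal → M ≠ ⊥ → MulAction.IsPretransitive M Ω := by
    intro M hM hMne
    refine MulAction.IsQuasiPreprimitive.isPretransitive_of_normal ?_
    intro e
    refine hMne ((Subgroup.eq_bot_iff_forall M).mpr fun g hg => eq_of_smul_eq_smul (α := Ω) fun ω => ?_)
    rw [one_smul]
    have : ω ∈ MulAction.fixedPoints M Ω := e ▸ Set.mem_univ ω
    exact this ⟨g, hg⟩
  have htN := htr N hN hNne
  have hΩ : Nonempty Ω := by
    by_contra hc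
    rw [not_nonempty_iff] at hc
    exact hNne ((Subgroup.eq_bot_iff_forall N).mpr fun g _ =>
      eq_of_smul_eq_smul (α := Ω) fun ω => (hc.false ω).elim)
  obtain ⟨ω₀⟩ := hΩ
  let cN : CommGroup N :=
    { (inferInstance : Group N) with mul_comm := fun a b => Subtype.ext (hcomm a a.2 b b.2) }
  let V := Additive N
  let acV : AddCommGroup V := @Additive.addCommGroup N cN
  let H : Subgroup G := MulAction.stabilizer G ω₀
  let ι : V → Ω := fun v => ((Additive.toMul v : N) : G) • ω₀
  have hιb : Function.Bijective ι := by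
    refine ⟨fun a b e => ?_, fun ω => ?_⟩
    · have hfix : ∀ n : N, (n : G) • ω₀ = ω₀ → n = 1 := by
        intro n hn
        refine Subtype.ext (eq_of_smul_eq_smul (α := Ω) fun ω => ?_)
        obtain ⟨m, hm⟩ := MulAction.exists_smul_eq N ω₀ ω
        have hm' : (m : G) • ω₀ = ω := hm
        rw [← hm', ← mul_smul, hcomm n n.2 m m.2, mul_smul, hn, OneMemClass.coe_one, one_smul]
      have h1 : ((Additive.toMul a : N)⁻¹ * Additive.toMul b : N) = 1 := by
        apply hfix
        rw [Subgroup.coe_mul, Subgroup.coe_inv, mul_smul, inv_smul_eq_iff]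
        exact e.symm
      exact Additive.toMul.injective (inv_mul_eq_one.mp h1)
    · obtain ⟨m, hm⟩ := MulAction.exists_smul_eq N ω₀ ω
      exact ⟨Additive.ofMul m, hm⟩
  let act : DistribMulAction H V :=
    { smul := fun h v => Additive.ofMul
        (⟨(h : G) * ((Additive.toMul v : N) : G) * (h : G)⁻¹,
          hN.conj_mem _ (Additive.toMul v).2 h⟩ : N)
      one_smul := fun v => congrArg Additive.ofMul (Subtype.ext (by
        show ((1 : H) : G) * ((Additive.toMul v : N) : G) * ((1 : H) : G)⁻¹ = ((Additive.toMul v : N) : G)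
        simp))
      mul_smul := fun a b v => congrArg Additive.ofMul (Subtype.ext (by
        show ((a * b : H) : G) * _ * ((a * b : H) : G)⁻¹ =
          (a : G) * ((b : G) * _ * (b : G)⁻¹) * (a : G)⁻¹
        simp [mul_assoc]))
      smul_zero := fun a => congrArg Additive.ofMul (Subtype.ext (by
        show (a : G) * ((1 : N) : G) * (a : G)⁻¹ = ((1 : N) : G)
        simp))
      smul_add := fun a v w => congrArg Additive.ofMul (Subtype.ext (by
        show (a : G) * (((Additive.toMul v : N) : G) * ((Additive.toMul w : N) : G)) * (a : G)⁻¹ =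
          ((a : G) * ((Additive.toMul v : N) : G) * (a : G)⁻¹) *
            ((a : G) * ((Additive.toMul w : N) : G) * (a : G)⁻¹)
        group)) }
  have ι_add : ∀ a v : V, ι (a + v) = ((Additive.toMul a : N) : G) • ι v := fun a v => by
    change (((Additive.toMul a : N) : G) * ((Additive.toMul v : N) : G)) • ω₀ = _
    exact mul_smul _ _ _
  have ι_smul : ∀ (h : H) (v : V), ι (h • v) = (h : G) • ι v := fun h v => by
    change ((h : G) * ((Additive.toMul v : N) : G) * (h : G)⁻¹) • ω₀ = _
    rw [mul_smul, mul_smul, inv_smul_eq_iff.mpr (show ω₀ = (h : G) • ω₀ from h.2.symm)]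
  have ι_zero : ι 0 = ω₀ := one_smul G ω₀
  have decomp : ∀ g : G, ∃ (n : V) (h : H), g = ((Additive.toMul n : N) : G) * h := by
    intro g
    obtain ⟨n, hn⟩ := hιb.2 (g • ω₀)
    refine ⟨n, ⟨((Additive.toMul n : N) : G)⁻¹ * g, ?_⟩, by simp⟩
    rw [MulAction.mem_stabilizer_iff, mul_smul, ← hn, inv_smul_smul]
  have finV : Finite V := Finite.of_injective ι hιb.1
  have hA : Affine H V p := by
    refine ⟨hp, fun v => ?_, fun h hh => ?_, ?_, ?_⟩
    · exact congrArg Additive.ofMul (Subtype.ext (hexp _ (Additive.toMul v).2))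
    · refine Subtype.ext (eq_of_smul_eq_smul (α := Ω) fun ω => ?_)
      obtain ⟨v, rfl⟩ := hιb.2 ω
      rw [← ι_smul, hh, OneMemClass.coe_one, one_smul]
    · intro S f horb hdif
      let f' : V → V := fun v => if v = 0 then 0 else f v
      have f'S : ∀ x ∈ S, f' x = f x := by
        intro x hx
        by_cases h0 : x = 0
        · obtain ⟨h, hh⟩ := horb x hx
          rw [h0, smul_zero] at hh
          simp only [f', h0, if_true]
          exact hh
        · simp [f', h0]
      let T : Set V := insert 0 S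
      obtain ⟨m, ⟨eT⟩⟩ := Finite.exists_equiv_fin T
      let pt : Fin (m + 2) → V := Fin.append (fun i => ((eT.symm i : T) : V)) (fun _ => 0)
      have hpt : ∀ i, pt i ∈ T := by
        intro i
        induction i using Fin.addCases with
        | left i => simp only [pt, Fin.append_left]; exact (eT.symm i).2
        | right i => simp only [pt, Fin.append_right]; exact Set.mem_insert _ _
      have hpair : ∀ x ∈ T, ∀ y ∈ T, ∃ h : H, h • (x - y) = f' x - f' y := by
        intro x hx y hy
        rcases hx with rfl | hx <;> rcases hy with rfl | hy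
        · exact ⟨1, by simp⟩
        · obtain ⟨h, hh⟩ := horb y hy
          refine ⟨h, ?_⟩
          rw [f'S y hy, show f' 0 = 0 by simp [f'], zero_sub, zero_sub, smul_neg, hh]
        · obtain ⟨h, hh⟩ := horb x hx
          refine ⟨h, ?_⟩
          rw [f'S x hx, show f' 0 = 0 by simp [f'], sub_zero, sub_zero, hh]
        · rw [f'S x hx, f'S y hy]; exact hdif x hx y hy
      obtain ⟨g, hg⟩ := hbin (m + 2) (fun i => ι (pt i)) (fun i => ι (f' (pt i))) (by omega) (by
        intro i j _
        obtain ⟨h, hh⟩ := hpair _ (hpt i) _ (hpt j)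
        refine ⟨((Additive.toMul (f' (pt j)) : N) : G) * (h : G) *
          ((Additive.toMul (-pt j) : N) : G), ?_, ?_⟩
        · rw [mul_smul, mul_smul, ← ι_add, ← ι_smul, ← ι_add, neg_add_eq_sub, hh, add_sub_cancel]
        · rw [mul_smul, mul_smul, ← ι_add, ← ι_smul, ← ι_add, neg_add_cancel, smul_zero, add_zero])
      have g0 : g • ω₀ = ω₀ := by
        have := hg (Fin.natAdd m 0)
        simp only [pt, Fin.append_right] at this
        rwa [show f' 0 = 0 by simp [f'], ι_zero] at this
      refine ⟨⟨g, g0⟩, fun x hx => hιb.1 ?_⟩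
      rw [ι_smul]
      have := hg (Fin.castAdd 2 (eT ⟨x, Set.mem_insert_of_mem _ hx⟩))
      simp only [pt, Fin.append_left, Equiv.symm_apply_apply] at this
      rwa [f'S x hx] at this
    · intro T hT
      by_cases hb : T = ⊥
      · exact Or.inl hb
      right
      let T' : Subgroup G :=
        { carrier := {g | ∃ t ∈ T, ((Additive.toMul t : N) : G) = g}
          one_mem' := ⟨0, T.zero_mem, rfl⟩
          mul_mem' := by
            rintro _ _ ⟨a, ha, rfl⟩ ⟨b, hb, rfl⟩
            exact ⟨a + b, T.add_mem ha hb, rfl⟩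
          inv_mem' := by
            rintro _ ⟨a, ha, rfl⟩
            exact ⟨-a, T.neg_mem ha, rfl⟩ }
      have hT'n : T'.Normal := by
        refine ⟨?_⟩
        rintro _ ⟨t, ht, rfl⟩ g
        obtain ⟨n, h, rfl⟩ := decomp g
        refine ⟨h • t, hT h t ht, ?_⟩
        have hc := hcomm _ (Additive.toMul n).2 _ (Additive.toMul (h • t)).2
        change _ = _ * (h : G) * ((Additive.toMul t : N) : G) * (_ * (h : G))⁻¹
        rw [mul_inv_rev, show ((Additive.toMul n : N) : G) * (h : G) * ((Additive.toMul t : N) : G) *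
            ((h : G)⁻¹ * ((Additive.toMul n : N) : G)⁻¹) = ((Additive.toMul n : N) : G) *
            ((h : G) * ((Additive.toMul t : N) : G) * (h : G)⁻¹) *
            ((Additive.toMul n : N) : G)⁻¹ by group]
        exact (mul_inv_eq_of_eq_mul hc).symm
      have hT'ne : T' ≠ ⊥ := by
        intro e
        refine hb ((AddSubgroup.eq_bot_iff_forall T).mpr fun t ht => ?_)
        have : ((Additive.toMul t : N) : G) ∈ T' := ⟨t, ht, rfl⟩
        rw [e, Subgroup.mem_bot] at this
        exact Additive.toMul.injective (Subtype.ext this)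
      have := htr T' hT'n hT'ne
      refine (AddSubgroup.eq_top_iff' T).mpr fun v => ?_
      obtain ⟨⟨_, t, ht, rfl⟩, ht'⟩ := MulAction.exists_smul_eq T' ω₀ (ι v)
      have e : v = t := hιb.1 (ht'.symm)
      rw [e]; exact ht
  have hntV : Nontrivial V := by
    have : Nontrivial N := (Subgroup.nontrivial_iff_ne_bot N).mpr hNne
    exact inferInstanceAs (Nontrivial (Additive N))
  rcases classify hA with ⟨h2, hpr⟩ | ⟨E, hE1, hE2, F, e, hfin, hiff⟩
  · left
    refine ⟨?_, fun ω => ?_⟩
    · rwa [← Nat.card_eq_fintype_card, ← Nat.card_congr (Equiv.ofBijective ι hιb)]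
    · obtain ⟨g, rfl⟩ := MulAction.exists_smul_eq G ω₀ ω
      rw [MulAction.stabilizer_smul_eq_stabilizer_map_conj,
        Subgroup.card_map_of_injective (MulEquiv.injective _)]
      exact h2
  · right
    have : Fintype F := Fintype.ofFinite F
    let e' : Ω ≃ E := (Equiv.ofBijective ι hιb).symm.trans e.toEquiv
    have e'ι : ∀ v, e' (ι v) = e v := fun v => by
      simp only [e', Equiv.trans_apply, Equiv.ofBijective_symm_apply_apply]
      rfl
    refine ⟨F, E, inferInstance, inferInstance, hE1, hE2, inferInstance, e', hfin, fun σ => ?_⟩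
    constructor
    · rintro ⟨g, rfl⟩
      obtain ⟨n, h, rfl⟩ := decomp g
      obtain ⟨a, φ, ha, hφ⟩ := (hiff (fun v => h • v)).mp ⟨h, fun v => rfl⟩
      refine ⟨a, e n, φ, ha, fun ω => ?_⟩
      obtain ⟨v, rfl⟩ := hιb.2 ω
      rw [MulAction.toPermHom_apply, MulAction.toPerm_apply, mul_smul, ← ι_smul, ← ι_add, e'ι, e'ι,
        map_add, hφ, add_comm]
    · rintro ⟨a, b, φ, ha, hσ⟩
      obtain ⟨h, hh⟩ := (hiff (fun v => e.symm (a * φ (e v)))).mpr ⟨a, φ, ha, fun v => by simp⟩
      refine ⟨((Additive.toMul (e.symm b) : N) : G) * h, Equiv.ext fun ω => e'.injective ?_⟩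
      obtain ⟨v, rfl⟩ := hιb.2 ω
      rw [MulAction.toPermHom_apply, MulAction.toPerm_apply, mul_smul, ← ι_smul, ← ι_add, e'ι,
        hσ, e'ι, map_add, hh]
      simp [add_comm]

end Cfsg.Agent.S5753
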