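import Cfsg.Statements.S5754
import Cfsg.Agent.H96.Anisotropic

set_option autoImplicit false
open Cfsg

namespace Cfsg.Agent.S5754

/-- Let V be a finite-dimensional vector space over a finite field F carrying an anisotropic quadratic form Q (Q(v) = 0 only for v = 0). Then the group of all maps v ↦ φ(v) + c, with φ an isometry of Q and c ∈ V, acts on V as a binary permutation group: given n ≥ 2 and two n-tuples u, u' of vectors such that every pair of corresponding entries of u is carried to that of u' by such a map, one such map carries u to u'. -/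
theorem result {F V : Type*} [Field F] [Finite F] [AddCommGroup V] [Module F V] [Module.Finite F V]
    (Q : QuadraticForm F V) (hQ : Q.Anisotropic) (n : ℕ) (hn : 2 ≤ n) (u u' : Fin n → V)
    (h2 : ∀ i j : Fin n, i ≠ j → ∃ (φ : Q.IsometryEquiv Q) (c : V), φ (u i) + c = u' i ∧ φ (u j) + c = u' j) :
    ∃ (φ : Q.IsometryEquiv Q) (c : V), ∀ i, φ (u i) + c = u' i := by
  classical
  obtain ⟨i0⟩ : Nonempty (Fin n) := ⟨⟨0, by omega⟩⟩
  have hdiff : ∀ i j : Fin n, Q (u i - u j) = Q (u' i - u' j) := by
    intro i j
    by_cases hij : i = j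
    · subst hij; simp
    · obtain ⟨φ, c, hi, hj⟩ := h2 i j hij
      rw [← hi, ← hj, add_sub_add_right_eq_sub, ← map_sub, QuadraticMap.IsometryEquiv.map_app]
  obtain ⟨φ, hφ⟩ := Cfsg.Agent.H96.exists_isometry_of_anisotropic Q hQ
    (fun i => u i - u i0) (fun i => u' i - u' i0) (fun i => hdiff i i0) (fun i j => by
      have e1 := Cfsg.Agent.H96.quad_sub Q (u i - u i0) (u j - u i0)
      have e2 := Cfsg.Agent.H96.quad_sub Q (u' i - u' i0) (u' j - u' i0)
      rw [sub_sub_sub_cancel_right] at e1 e2
      linear_combination e1 - e2 - hdiff i j + hdiff i i0 + hdiff j i0) Finset.univ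
  refine ⟨φ, u' i0 - φ (u i0), fun i => ?_⟩
  have := hφ i (Finset.mem_univ i)
  simp only [map_sub] at this
  rw [sub_eq_iff_eq_add] at this
  rw [this]
  abel

end Cfsg.Agent.S5754
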