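import Cfsg.Statements.S5763
import Cfsg.Agent.H96.SylowEight

set_option autoImplicit false
open Cfsg

namespace Cfsg.Agent.S5763

/-- In the symmetric group on 8 letters any two Sylow 2-subgroups have non-trivial intersection: for a Sylow 2-subgroup H and every element x, H ∩ xHx⁻¹ ≠ 1. -/
theorem result (H : Sylow 2 (Equiv.Perm (Fin 8))) (x : Equiv.Perm (Fin 8)) :
    (H : Subgroup (Equiv.Perm (Fin 8))) ⊓ (H : Subgroup (Equiv.Perm (Fin 8))).map (MulAut.conj x).toMonoidHom ≠ ⊥ := by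
  obtain ⟨P, hP⟩ := H96.SylowEight.exists_sylow
  obtain ⟨c, hc⟩ := MulAction.exists_smul_eq (Equiv.Perm (Fin 8)) P H
  have hH : (H : Subgroup (Equiv.Perm (Fin 8))) = H96.SylowEight.treeGroup.map (MulAut.conj c).toMonoidHom := by
    rw [← hc, ← hP]; rfl
  obtain ⟨g, hg, hg1, hg2⟩ := H96.SylowEight.exists_witness (c⁻¹ * x * c)
  intro hbot
  have hmem : c * g * c⁻¹ ∈ (H : Subgroup (Equiv.Perm (Fin 8))) ⊓
      (H : Subgroup (Equiv.Perm (Fin 8))).map (MulAut.conj x).toMonoidHom := by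
    rw [hH]
    refine ⟨⟨g, hg, rfl⟩, c * ((c⁻¹ * x * c)⁻¹ * g * (c⁻¹ * x * c)) * c⁻¹, ⟨_, hg2, rfl⟩, ?_⟩
    show x * _ * x⁻¹ = _
    group
  rw [hbot, Subgroup.mem_bot, conj_eq_one_iff] at hmem
  exact hg1 hmem

end Cfsg.Agent.S5763
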