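import Cfsg.Statements.S5775
import Cfsg.Agent.Aschbacher.LinearMaximal
import Cfsg.Agent.Aschbacher.FieldFour

set_option autoImplicit false
open Cfsg

namespace Cfsg.Agent.S5775

open Cfsg.Agent.Aschbacher in
theorem result {F : Type*} [Field F] [Fintype F] (H : Subgroup (Matrix.GeneralLinearGroup (Fin 3) F)) (hH : Cfsg.Geo.IsMaximalIn (Cfsg.Geo.specialLinear (Fin 3) F) H) :
    (∃ W : Submodule F (Fin 3 → F), W ≠ ⊥ ∧ W ≠ ⊤ ∧ H = Cfsg.Geo.subspaceStabilizer W ⊓ Cfsg.Geo.specialLinear (Fin 3) F) ∨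
    (5 ≤ Fintype.card F ∧ ∃ D : Fin 3 → Submodule F (Fin 3 → F), Cfsg.Geo.IsMDecomposition 1 D ∧ H = Cfsg.Geo.decompositionStabilizer D ⊓ Cfsg.Geo.specialLinear (Fin 3) F) ∨
    (Fintype.card F ≠ 4 ∧ ∃ K : Subalgebra F (Matrix (Fin 3) (Fin 3) F), Cfsg.Geo.IsFieldSubalgebra 3 K ∧ H = Cfsg.Geo.subalgebraNormalizer K ⊓ Cfsg.Geo.specialLinear (Fin 3) F) ∨
    (∃ (F₀ : Subfield F) (r : ℕ) (P : Matrix.GeneralLinearGroup (Fin 3) F), r.Prime ∧ Fintype.card F = Nat.card F₀ ^ r ∧ H = Cfsg.Geo.subfieldSubgroup F₀ P ⊓ Cfsg.Geo.specialLinear (Fin 3) F) ∨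
    (∃ (p : ℕ) (R : Subgroup (Matrix.GeneralLinearGroup (Fin 3) F)), p.Prime ∧ Fintype.card F = p ∧ p % 3 = 1 ∧ Cfsg.Geo.IsLinearSymplecticTypeData 3 R ∧ H = Cfsg.Geo.subgroupNormalizer R ⊓ Cfsg.Geo.specialLinear (Fin 3) F) ∨
    (Odd (Fintype.card F) ∧ ∃ Q : (Fin 3 → F) → F, Cfsg.Geo.IsNondegenerateQuadraticForm Q ∧ H = Cfsg.Geo.quadSimilarityGroup Q ⊓ Cfsg.Geo.specialLinear (Fin 3) F) ∨
    (∃ (σ : F ≃+* F) (f : (Fin 3 → F) → (Fin 3 → F) → F), Cfsg.Geo.IsUnitaryForm σ f ∧ H = Cfsg.Geo.similarityGroup f ⊓ Cfsg.Geo.specialLinear (Fin 3) F) ∨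
    Cfsg.Geo.InLinearResidualClass H := by
  rcases linear_maximal_prime (n := 3) (by norm_num) (Fintype.card_fin 3) le_rfl H hH with
    h | h | ⟨K, hK, h⟩ | h | ⟨⟨p, e, hp, -, hF, he, hz, hmin⟩, R, hR, h⟩ | h | h | h
  · exact Or.inl h
  · exact Or.inr (Or.inl h)
  · by_cases hq : Fintype.card F = 4
    · obtain ⟨F₀, P, hF₀, hle⟩ := fieldNormalizer_four hq (Fintype.card_fin 3) hK
      exact Or.inr (Or.inr (Or.inr (Or.inl ⟨F₀, 2, P, Nat.prime_two, hF₀,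
        maximal_eq_inf hH (h.le.trans hle)
          (subfieldSubgroup_proper (by simp) (subfield_ne_top Nat.prime_two hF₀) P)⟩)))
    · exact Or.inr (Or.inr (Or.inl ⟨hq, K, hK, h⟩))
  · exact Or.inr (Or.inr (Or.inr (Or.inl h)))
  · have he1 : e = 1 := by
      by_contra hne
      have he3 : 3 ≤ e := by obtain ⟨k, rfl⟩ := he; omega
      refine hmin 2 (by norm_num) (by omega) ?_
      have hp0 : p % 3 ≠ 0 := fun h0 => by
        rw [Nat.pow_mod, h0, Nat.zero_pow (by omega)] at hz; omega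
      have : p % 3 = 1 ∨ p % 3 = 2 := by omega
      rw [Nat.pow_mod]
      rcases this with h | h <;> rw [h]
    subst he1
    rw [pow_one] at hF hz
    exact Or.inr (Or.inr (Or.inr (Or.inr (Or.inl ⟨p, R, hp, hF, hz, hR, h⟩))))
  · exact Or.inr (Or.inr (Or.inr (Or.inr (Or.inr (Or.inl h)))))
  · exact Or.inr (Or.inr (Or.inr (Or.inr (Or.inr (Or.inr (Or.inl h))))))
  · exact Or.inr (Or.inr (Or.inr (Or.inr (Or.inr (Or.inr (Or.inr h))))))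

end Cfsg.Agent.S5775
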