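import Cfsg.Statements.S5778
import Cfsg.Agent.Unitary.AschThreeExt

set_option autoImplicit false
open Cfsg

namespace Cfsg.Agent.S5778

/-- Every maximal subgroup of SU_3(q), q ≥ 3, is of one of the listed geometric types or lies in the residual class. Let F be the field with q² elements, f the standard unitary form Σ u_i v_i^q on F^3, and H a maximal subgroup of SU_3(q) (the determinant-one isometries of f, inside GL_3(F)). Then H is the intersection with SU_3(q) of one of: the stabiliser of a non-zero subspace on which f vanishes; the stabiliser of a non-degenerate 1-space; for q ≠ 5, the stabiliser of a decomposition into three mutually orthogonal non-degenerate 1-spaces; for q ≠ 3, 5, the normaliser of an adjoint-closed degree-3 subfield of the matrix algebra; a subfield group of odd prime index whose F₀-structure carries f; for q odd, q ≥ 7, a subfield group of index 2 whose F₀-structure carries f; for q = p ≡ 2 mod 3 prime with p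 ≥ 11, the normaliser of an absolutely irreducible subgroup of order 27 with centre of order 3, exponent 3 and all characteristic abelian subgroups cyclic, contained in the similarity group of f — or else H lies in the residual class of the unitary case. -/
theorem result {F : Type*} [Field F] [Fintype F] (q : ℕ) (hF : Fintype.card F = q ^ 2) (hq : 3 ≤ q) (H : Subgroup (Matrix.GeneralLinearGroup (Fin 3) F)) (hH : Cfsg.Geo.IsMaximalIn (Cfsg.GU 3 F q ⊓ Cfsg.Geo.specialLinear (Fin 3) F) H) :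
    (∃ W : Submodule F (Fin 3 → F), W ≠ ⊥ ∧ Cfsg.Geo.IsTotallySingularFor (Cfsg.hermForm 3 F q) W ∧ H = Cfsg.Geo.subspaceStabilizer W ⊓ (Cfsg.GU 3 F q ⊓ Cfsg.Geo.specialLinear (Fin 3) F)) ∨
    (∃ W : Submodule F (Fin 3 → F), W ≠ ⊥ ∧ Cfsg.Geo.IsNondegenerateOn (Cfsg.hermForm 3 F q) W ∧ 2 * Module.finrank F W < 3 ∧ H = Cfsg.Geo.subspaceStabilizer W ⊓ (Cfsg.GU 3 F q ⊓ Cfsg.Geo.specialLinear (Fin 3) F)) ∨
    (q ≠ 5 ∧ ∃ D : Fin 3 → Submodule F (Fin 3 → F), Cfsg.Geo.IsNondegenerateMDecomposition (Cfsg.hermForm 3 F q) 1 D ∧ H = Cfsg.Geo.decompositionStabilizer D ⊓ (Cfsg.GU 3 F q ⊓ Cfsg.Geo.specialLinear (Fin 3) F)) ∨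
    (q ≠ 3 ∧ q ≠ 5 ∧ ∃ K : Subalgebra F (Matrix (Fin 3) (Fin 3) F), Cfsg.Geo.IsFieldSubalgebra 3 K ∧ Cfsg.Geo.IsAdjointClosedFor (Cfsg.hermForm 3 F q) K ∧ H = Cfsg.Geo.subalgebraNormalizer K ⊓ (Cfsg.GU 3 F q ⊓ Cfsg.Geo.specialLinear (Fin 3) F)) ∨
    (∃ (F₀ : Subfield F) (r : ℕ) (P : Matrix.GeneralLinearGroup (Fin 3) F), r.Prime ∧ Odd r ∧ Fintype.card F = Nat.card F₀ ^ r ∧ Cfsg.Geo.IsFormRationalStructure (Cfsg.hermForm 3 F q) F₀ 1 P ∧ H = Cfsg.Geo.subfieldSubgroup F₀ P ⊓ (Cfsg.GU 3 F q ⊓ Cfsg.Geo.specialLinear (Fin 3) F)) ∨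
    (Odd q ∧ 7 ≤ q ∧ ∃ (F₀ : Subfield F) (P : Matrix.GeneralLinearGroup (Fin 3) F), Fintype.card F = Nat.card F₀ ^ 2 ∧ Cfsg.Geo.IsFormRationalStructure (Cfsg.hermForm 3 F q) F₀ 1 P ∧ H = Cfsg.Geo.subfieldSubgroup F₀ P ⊓ (Cfsg.GU 3 F q ⊓ Cfsg.Geo.specialLinear (Fin 3) F)) ∨
    (∃ (p : ℕ) (R : Subgroup (Matrix.GeneralLinearGroup (Fin 3) F)), p.Prime ∧ q = p ∧ p % 3 = 2 ∧ 11 ≤ p ∧ Cfsg.Geo.IsSymplecticTypeGroup 3 R ∧ Cfsg.Geo.ActsAbsolutelyIrreducibly (Cfsg.Geo.matrixSet R) ∧ R ≤ Cfsg.Geo.similarityGroup (Cfsg.hermForm 3 F q) ∧ Nat.card R = 27 ∧ Nat.card (Subgroup.center R) = 3 ∧ H = Cfsg.Geo.subgroupNormalizer R ⊓ (Cfsg.GU 3 F q ⊓ Cfsg.Geo.specialLinear (Fin 3) F)) ∨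
    Cfsg.Geo.InUnitaryResidualClass H := by
  classical
  open Cfsg.Agent.Unitary.Asch in
  cases unitary_maximal hF (by norm_num) (by omega) H hH with
  | ts W h1 h2 h => exact Or.inl ⟨W, h1, h2, h⟩
  | nondeg W h1 h2 h3 h => exact Or.inr <| Or.inl ⟨W, h1, h2, h3, h⟩
  | decomp t k D hD hcard hk hfr h =>
    have := hD.decomp.two_le
    have : t ≤ 3 := Nat.le_of_dvd (by norm_num) ⟨k, hcard.symm⟩
    interval_cases t <;> try omega
    obtain rfl : k = 1 := by omega
    refine Or.inr <| Or.inr <| Or.inl ⟨?_, D, hD, h⟩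
    rintro rfl
    subst h
    exact frame_three_five hF hD hH
  | tsPair k D hcard hD hts hq h => omega
  | field r K hr hodd hdvd hK hs h =>
    obtain rfl : r = 3 := (Nat.prime_dvd_prime_iff_eq hr Nat.prime_three).1 hdvd
    have hne : ∀ p, p = 3 ∨ p = 5 → q ≠ p := by
      rintro p hp rfl
      subst h
      exact field_three_small hp hF hK hs hH
    exact Or.inr <| Or.inr <| Or.inr <| Or.inl ⟨hne 3 (Or.inl rfl), hne 5 (Or.inr rfl), K, hK, hs, h⟩
  | tensor n₁ n₂ e P h1 h2 hcard hq hP h =>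
    exfalso
    have : n₁ ≤ 3 := Nat.le_of_dvd (by norm_num) ⟨n₂, hcard.symm⟩
    interval_cases n₁ <;> omega
  | subOdd F₀ r P hr hodd hcard hP h =>
    exact Or.inr <| Or.inr <| Or.inr <| Or.inr <| Or.inl ⟨F₀, r, P, hr, hodd, hcard, hP, h⟩
  | subSymp F₀ P ζ hev hcard hζ hζq hP halt h => exact absurd hev (by decide)
  | subOrth F₀ P hodd hcard hP h =>
    by_cases h7 : 7 ≤ q
    · exact Or.inr <| Or.inr <| Or.inr <| Or.inr <| Or.inr <| Or.inl ⟨hodd, h7, F₀, P, hcard, hP, h⟩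
    · obtain ⟨j, hj⟩ := id hodd
      rcases (show q = 3 ∨ q = 5 by omega) with rfl | rfl
      · obtain ⟨D, hD, hle⟩ := subOrth_three_three hF hcard hP
        exact Or.inr <| Or.inr <| Or.inl ⟨by norm_num, D, hD,
          max_eq hH (h.le.trans hle) (decomp_proper_of_big hF (by norm_num) hD.decomp (Or.inr le_rfl))⟩
      · subst h
        exact absurd hH (subOrth_three_five hF hcard hP)
  | class6 r k R hR h =>
    obtain rfl : r = 3 := (Nat.prime_dvd_prime_iff_eq hR.sympType.prime Nat.prime_three).1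
      ((dvd_pow_self r (Nat.one_le_iff_ne_zero.1 hR.pos)).trans hR.card_eq.symm.dvd)
    obtain rfl : k = 1 := Nat.pow_right_injective (by norm_num) (hR.card_eq.symm.trans (pow_one 3).symm)
    obtain ⟨p, a, hp, hc, hqp, ha, hle, hpos, hz, hmin, hRc, hZ⟩ := hR.odd_data hF (by decide)
    obtain rfl : a = 1 := by omega
    rw [pow_one] at hqp
    have hp3 : p % 3 = 2 := by
      have := Nat.mod_lt p (show 3 > 0 by norm_num)
      have h1 := hmin 1 (by simp)
      rw [pow_one] at h1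
      omega
    have h11 : 11 ≤ p := by
      by_contra hlt
      have : p = 5 := by
        have := hp.two_le
        interval_cases p <;> first | omega | norm_num at hp
      subst this hqp h
      exact class6_three_five hF hR hH
    exact Or.inr <| Or.inr <| Or.inr <| Or.inr <| Or.inr <| Or.inr <| Or.inl ⟨p, R, hp, hqp, hp3, h11, hR.sympType, hR.absIrred, hR.le, hRc, hZ, h⟩
  | wreath k t e P h1 h2 hex hcard hP h =>
    exfalso
    have h3 : k ^ 2 ≤ k ^ t := Nat.pow_le_pow_right (by omega) h2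
    nlinarith
  | residual h => exact Or.inr <| Or.inr <| Or.inr <| Or.inr <| Or.inr <| Or.inr <| Or.inr <|  h

end Cfsg.Agent.S5778
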