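import Cfsg.Statements.S5781
import Cfsg.Agent.Aschbacher.LinearComposite
import Cfsg.Agent.Aschbacher.FrameFive

set_option autoImplicit false
open Cfsg

namespace Cfsg.Agent.S5781

open Cfsg.Agent.Aschbacher in
theorem result {F : Type*} [Field F] [Fintype F] (H : Subgroup (Matrix.GeneralLinearGroup (Fin 4) F)) (hH : Cfsg.Geo.IsMaximalIn (Cfsg.Geo.specialLinear (Fin 4) F) H) :
    (∃ W : Submodule F (Fin 4 → F), W ≠ ⊥ ∧ W ≠ ⊤ ∧ H = Cfsg.Geo.subspaceStabilizer W ⊓ Cfsg.Geo.specialLinear (Fin 4) F) ∨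
    (7 ≤ Fintype.card F ∧ ∃ D : Fin 4 → Submodule F (Fin 4 → F), Cfsg.Geo.IsMDecomposition 1 D ∧ H = Cfsg.Geo.decompositionStabilizer D ⊓ Cfsg.Geo.specialLinear (Fin 4) F) ∨
    (4 ≤ Fintype.card F ∧ ∃ D : Fin 2 → Submodule F (Fin 4 → F), Cfsg.Geo.IsMDecomposition 2 D ∧ H = Cfsg.Geo.decompositionStabilizer D ⊓ Cfsg.Geo.specialLinear (Fin 4) F) ∨
    (∃ K : Subalgebra F (Matrix (Fin 4) (Fin 4) F), Cfsg.Geo.IsFieldSubalgebra 2 K ∧ H = Cfsg.Geo.subalgebraNormalizer K ⊓ Cfsg.Geo.specialLinear (Fin 4) F) ∨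
    (∃ (F₀ : Subfield F) (r : ℕ) (P : Matrix.GeneralLinearGroup (Fin 4) F), r.Prime ∧ Fintype.card F = Nat.card F₀ ^ r ∧ H = Cfsg.Geo.subfieldSubgroup F₀ P ⊓ Cfsg.Geo.specialLinear (Fin 4) F) ∨
    (∃ (p : ℕ) (R : Subgroup (Matrix.GeneralLinearGroup (Fin 4) F)), p.Prime ∧ Fintype.card F = p ∧ p % 4 = 1 ∧ Cfsg.Geo.IsLinearSymplecticTypeData 2 R ∧ H = Cfsg.Geo.subgroupNormalizer R ⊓ Cfsg.Geo.specialLinear (Fin 4) F) ∨
    (Odd (Fintype.card F) ∧ ∃ Q : (Fin 4 → F) → F, Cfsg.Geo.IsNondegenerateQuadraticForm Q ∧ H = Cfsg.Geo.quadSimilarityGroup Q ⊓ Cfsg.Geo.specialLinear (Fin 4) F) ∨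
    (∃ f : (Fin 4 → F) → (Fin 4 → F) → F, Cfsg.Geo.IsSymplecticForm f ∧ H = Cfsg.Geo.similarityGroup f ⊓ Cfsg.Geo.specialLinear (Fin 4) F) ∨
    (∃ (σ : F ≃+* F) (f : (Fin 4 → F) → (Fin 4 → F) → F), Cfsg.Geo.IsUnitaryForm σ f ∧ H = Cfsg.Geo.similarityGroup f ⊓ Cfsg.Geo.specialLinear (Fin 4) F) ∨
    Cfsg.Geo.InLinearResidualClass H := by
  cases linear_maximal H (by simp) hH with
  | reducible W h1 h2 h => exact Or.inl ⟨W, h1, h2, h⟩
  | decomp t m D hD hcard hq h =>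
    rw [Fintype.card_fin] at hcard
    have ht := hD.two_le
    have ht' : t ≤ 4 := Nat.le_of_dvd (by norm_num) ⟨m, hcard.symm⟩
    interval_cases t
    · obtain rfl : m = 2 := by omega
      rcases planes_cases hH (by simp) hD h with hq' | h'
      · by_cases hq3 : Fintype.card F = 3
        · obtain ⟨f, hf, hle⟩ := planes_three hq3 hD
          exact Or.inr <| Or.inr <| Or.inr <| Or.inr <| Or.inr <| Or.inr <| Or.inr <| Or.inl ⟨f, hf,
            maximal_eq_inf hH (h.le.trans hle)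
              (similarityGroup_proper (by simp) (isSesq_of_bilinear hf.bilinear) hf.nondegenerate)⟩
        · exact Or.inr <| Or.inr <| Or.inl ⟨by omega, D, hD, h⟩
      · exact Or.inr <| Or.inr <| Or.inr <| Or.inr <| Or.inr <| Or.inr <| Or.inr <| Or.inl h'
    · omega
    · obtain rfl : m = 1 := by omega
      have h5 := hq rfl
      by_cases h7 : 7 ≤ Fintype.card F
      · exact Or.inr <| Or.inl ⟨h7, D, hD, h⟩
      · have hq5 : Fintype.card F = 5 := by
          obtain ⟨p, hp⟩ := CharP.exists F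
          obtain ⟨k, hk, hcard'⟩ := FiniteField.card F p
          by_contra hne
          have h6 : p ^ (k : ℕ) = 6 := by omega
          exact not_pow_eq hk k.pos (by decide) h6
        obtain ⟨R, hR, hle⟩ := frame_five hq5 hD
        exact Or.inr <| Or.inr <| Or.inr <| Or.inr <| Or.inr <| Or.inl ⟨5, R, by norm_num, hq5,
          by norm_num, hR, maximal_eq_inf hH (h.le.trans hle)
            (subgroupNormalizer_proper (by simp) hR.symplecticType.pGroup (sympData_char_ne hR)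
              (absIrred_not_le_scalars (by simp) hR.absIrred))⟩
  | field r K hr hdvd hK h =>
    rw [Fintype.card_fin] at hdvd
    obtain rfl : r = 2 := (Nat.prime_dvd_prime_iff_eq hr Nat.prime_two).mp
      (hr.dvd_of_dvd_pow (n := 2) (by simpa using hdvd))
    exact Or.inr <| Or.inr <| Or.inr <| Or.inl ⟨K, hK, h⟩
  | tensor n₁ n₂ e P h1 h2 hcard h =>
    rw [Fintype.card_fin] at hcard
    nlinarith
  | subfld F₀ r P hr hF h => exact Or.inr <| Or.inr <| Or.inr <| Or.inr <| Or.inl ⟨F₀, r, P, hr, hF, h⟩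
  | symp r m R hm hcard hR hcardR h =>
    rw [Fintype.card_fin] at hcard
    obtain rfl : r = 2 := (Nat.prime_dvd_prime_iff_eq hR.symplecticType.prime Nat.prime_two).mp
      (hR.symplecticType.prime.dvd_of_dvd_pow (n := 2) (by
        rw [show 2 ^ 2 = r ^ m by rw [← hcard]; norm_num]; exact dvd_pow_self r (by omega)))
    obtain ⟨p, hp, hF, hp4⟩ := symp_two_cases hR (by simp)
    exact Or.inr <| Or.inr <| Or.inr <| Or.inr <| Or.inr <| Or.inl ⟨p, R, hp, hF, hp4, hR, h⟩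
  | wreath m t e P h1 h2 hcard h =>
    rw [Fintype.card_fin] at hcard
    have hm2 : m * m ≤ 4 := by
      rw [← pow_two, hcard]; exact Nat.pow_le_pow_right (by omega) h2
    nlinarith
  | sympForm f hf hev h =>
    exact Or.inr <| Or.inr <| Or.inr <| Or.inr <| Or.inr <| Or.inr <| Or.inr <| Or.inl ⟨f, hf, h⟩
  | unitForm σ f hf h =>
    exact Or.inr <| Or.inr <| Or.inr <| Or.inr <| Or.inr <| Or.inr <| Or.inr <| Or.inr <| Or.inl ⟨σ, f, hf, h⟩
  | quadForm Q hQ hodd h =>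
    exact Or.inr <| Or.inr <| Or.inr <| Or.inr <| Or.inr <| Or.inr <| Or.inl ⟨hodd, Q, hQ, h⟩
  | residual h =>
    exact Or.inr <| Or.inr <| Or.inr <| Or.inr <| Or.inr <| Or.inr <| Or.inr <| Or.inr <| Or.inr h

end Cfsg.Agent.S5781
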