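import Cfsg.Statements.S5787
import Cfsg.Agent.Symplectic.AschMaximalSmall

set_option autoImplicit false
open Cfsg

namespace Cfsg.Agent.S5787

/-- Every maximal subgroup of Sp_4(q), q odd, is of one of the listed geometric types or lies in the residual class. Let F be a finite field of odd order q, f the standard alternating form on F^4 (coordinates Fin 2 ⊕ Fin 2), and H a maximal subgroup of the isometry group Sp_4(F) (inside GL_4(F)). Then H is the intersection with Sp_4(F) of one of: the stabiliser of a non-zero totally isotropic subspace; the stabiliser of a decomposition into two orthogonal non-degenerate 2-spaces; for q ≥ 5, of a decomposition into two totally isotropic 2-spaces; the normaliser of a degree-2 subfield K of the matrix algebra, self-adjoint with f(k v, v) = 0; for q ≥ 5, the normaliser of a degree-2 subfield closed under adjoints but not self-adjoint; a subfield group whose F₀-structure carries a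 non-zero multiple of f, |F| = |F₀|^r with r prime; for q = p prime, the normaliser of an absolutely irreducible symplectic-type 2-group of exponent 4, order 32, centre of order 2 and minus type inside the similarity group of f — or else H lies in the residual class of the symplectic case. -/
theorem result {F : Type*} [Field F] [Fintype F] (hodd : Odd (Fintype.card F)) (H : Subgroup (Matrix.GeneralLinearGroup (Fin 2 ⊕ Fin 2) F)) (hH : Cfsg.Geo.IsMaximalIn (Cfsg.spGL 2 F) H) :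
    (∃ W : Submodule F (Fin 2 ⊕ Fin 2 → F), W ≠ ⊥ ∧ Cfsg.Geo.IsTotallySingularFor (Cfsg.sympForm 2 F) W ∧ H = Cfsg.Geo.subspaceStabilizer W ⊓ Cfsg.spGL 2 F) ∨
    (∃ D : Fin 2 → Submodule F (Fin 2 ⊕ Fin 2 → F), Cfsg.Geo.IsNondegenerateMDecomposition (Cfsg.sympForm 2 F) 2 D ∧ H = Cfsg.Geo.decompositionStabilizer D ⊓ Cfsg.spGL 2 F) ∨
    (5 ≤ Fintype.card F ∧ ∃ D : Fin 2 → Submodule F (Fin 2 ⊕ Fin 2 → F), Cfsg.Geo.IsMDecomposition 2 D ∧ (∀ i, Cfsg.Geo.IsTotallySingularFor (Cfsg.sympForm 2 F) (D i)) ∧ H = Cfsg.Geo.decompositionStabilizer D ⊓ Cfsg.spGL 2 F) ∨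
    (∃ K : Subalgebra F (Matrix (Fin 2 ⊕ Fin 2) (Fin 2 ⊕ Fin 2) F), Cfsg.Geo.IsFieldSubalgebra 2 K ∧ Cfsg.Geo.IsSelfAdjointFor (Cfsg.sympForm 2 F) K ∧ (∀ k ∈ K, ∀ v : (Fin 2 ⊕ Fin 2 → F), (Cfsg.sympForm 2 F) (Matrix.mulVec k v) v = 0) ∧ H = Cfsg.Geo.subalgebraNormalizer K ⊓ Cfsg.spGL 2 F) ∨
    (5 ≤ Fintype.card F ∧ ∃ K : Subalgebra F (Matrix (Fin 2 ⊕ Fin 2) (Fin 2 ⊕ Fin 2) F), Cfsg.Geo.IsFieldSubalgebra 2 K ∧ Cfsg.Geo.IsAdjointClosedFor (Cfsg.sympForm 2 F) K ∧ ¬ Cfsg.Geo.IsSelfAdjointFor (Cfsg.sympForm 2 F) K ∧ H = Cfsg.Geo.subalgebraNormalizer K ⊓ Cfsg.spGL 2 F) ∨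
    (∃ (F₀ : Subfield F) (r : ℕ) (P : Matrix.GeneralLinearGroup (Fin 2 ⊕ Fin 2) F) (ζ : F), r.Prime ∧ Fintype.card F = Nat.card F₀ ^ r ∧ ζ ≠ 0 ∧ Cfsg.Geo.IsFormRationalStructure (Cfsg.sympForm 2 F) F₀ ζ P ∧ H = Cfsg.Geo.subfieldSubgroup F₀ P ⊓ Cfsg.spGL 2 F) ∨
    (∃ (p : ℕ) (R : Subgroup (Matrix.GeneralLinearGroup (Fin 2 ⊕ Fin 2) F)), p.Prime ∧ Fintype.card F = p ∧ Cfsg.Geo.IsSymplecticTypeGroup 2 R ∧ Cfsg.Geo.ActsAbsolutelyIrreducibly (Cfsg.Geo.matrixSet R) ∧ R ≤ Cfsg.Geo.similarityGroup (Cfsg.sympForm 2 F) ∧ Nat.card R = 32 ∧ Nat.card (Subgroup.center R) = 2 ∧ Cfsg.Geo.IsOfMinusType 2 R ∧ H = Cfsg.Geo.subgroupNormalizer R ⊓ Cfsg.spGL 2 F) ∨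
    Cfsg.Geo.InSymplecticResidualClass H := by
  open Cfsg.Agent.Symplectic.Asch in
  cases symplectic_maximal le_rfl H hH with
  | ts W h1 h2 h =>
    exact Or.inl ⟨W, h1, h2, h⟩
  | nondeg W h1 h2 h3 hev h =>
    exact (nondeg_none hev h1 h3).elim
  | decomp t k D hD hcard hev hq h =>
    obtain ⟨rfl, rfl⟩ := decomp_two hD hcard hev
    exact Or.inr <| Or.inl ⟨D, hD, h⟩
  | tsPair D _ hD hts h =>
    by_cases hq : Fintype.card F = 3
    · obtain ⟨D', hD', hle⟩ := tsPair_three hq hD hts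
      exact Or.inr <| Or.inl ⟨D', hD', maximal_eq hH (h.le.trans hle) (decomp_proper hD'.decomp le_rfl)⟩
    · exact Or.inr <| Or.inr <| Or.inl ⟨five_le_of_odd hodd hq, D, hD, hts, h⟩
  | field r K hr hdvd hK hs hk h =>
    obtain rfl := (Nat.prime_dvd_prime_iff_eq hr Nat.prime_two).mp hdvd
    exact Or.inr <| Or.inr <| Or.inr <| Or.inl ⟨K, hK, hs, hk, h⟩
  | unitaryField K _ hK hs hns h =>
    by_cases hq : Fintype.card F = 3
    · obtain ⟨R, k, hR, habs, hle, hcard, hcen, hminus, hdim, hsub⟩ := unitaryField_three hq hK hs hns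
      obtain rfl := dim_pow_four hdim
      exact Or.inr <| Or.inr <| Or.inr <| Or.inr <| Or.inr <| Or.inr <| Or.inl ⟨3, R, Nat.prime_three, hq, hR, habs, hle, by simpa using hcard, hcen, hminus,
        class6_eq le_rfl hodd hH hR habs hle (h.le.trans hsub)⟩
    · exact Or.inr <| Or.inr <| Or.inr <| Or.inr <| Or.inl ⟨five_le_of_odd hodd hq, K, hK, hs, hns, h⟩
  | tensor n₁ n₂ e P f₁ f₂ _ h1 h2 hev hcard hf₁ hf₂ hs hq h =>
    exfalso
    nlinarith
  | subfld F₀ r P ζ hr hF hζ hs h =>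
    exact Or.inr <| Or.inr <| Or.inr <| Or.inr <| Or.inr <| Or.inl ⟨F₀, r, P, ζ, hr, hF, hζ, hs, h⟩
  | class6 R p k hR habs hle hp hpodd hF hcard hcen hminus hdim h =>
    obtain rfl := dim_pow_four hdim
    exact Or.inr <| Or.inr <| Or.inr <| Or.inr <| Or.inr <| Or.inr <| Or.inl ⟨p, R, hp, hF, hR, habs, hle, by simpa using hcard, hcen, hminus, h⟩
  | wreath k t e P f₁ _ ht ht3 hk hev hcard hq hf₁ hs h =>
    exfalso
    have := (Nat.pow_le_pow_left hk t).trans hcard.le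
    have := (Nat.pow_le_pow_right (n := 2) (by omega) ht3).trans this
    omega
  | quad Q he hQ hpol h =>
    exact absurd hodd he
  | residual h =>
    exact Or.inr <| Or.inr <| Or.inr <| Or.inr <| Or.inr <| Or.inr <| Or.inr <| h

end Cfsg.Agent.S5787
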