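import Cfsg.Statements.S5791
import Cfsg.Agent.H97.SpEven.Main
import Cfsg.Agent.H97.SpEven.Bridge

set_option autoImplicit false
open Cfsg
open Cfsg.Agent.H97.SpEven

namespace Cfsg.Agent.S5791

/-- The maximal subgroups of Sp_4(q), q ≥ 4 even, in the residual class. Let F be a finite field of even order q ≥ 4 and H a maximal subgroup of Sp_4(F) (isometries of the standard alternating form on F^4) lying in the residual class of the symplectic case. Then q = 2^(2m+1) with m ≥ 1 and the perfect socle preimage P of H is, modulo scalars, isomorphic to the Suzuki group over F (the subgroup Sz(F, θ) of the four-dimensional symplectic group with θ(x) = x^(2^(m+1))). -/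
theorem result {F : Type*} [Field F] [Fintype F] (heven : ¬ Odd (Fintype.card F)) (h4 : 4 ≤ Fintype.card F) (H : Subgroup (Matrix.GeneralLinearGroup (Fin 2 ⊕ Fin 2) F)) (hH : Cfsg.Geo.IsMaximalIn (Cfsg.spGL 2 F) H) (hS : Cfsg.Geo.InSymplecticResidualClass H) :
    ∃ (P : Subgroup (Matrix.GeneralLinearGroup (Fin 2 ⊕ Fin 2) F)) (m : ℕ), Cfsg.Geo.IsResidualCore H P ∧ 1 ≤ m ∧ Fintype.card F = 2 ^ (2 * m + 1) ∧
    Nonempty ((P ⧸ (Cfsg.Geo.scalars (Fin 2 ⊕ Fin 2) F).subgroupOf P) ≃* Cfsg.Lie.Sz F (2 ^ (m + 1))) := by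
  classical
  have hev : Even (Fintype.card F) := Nat.not_odd_iff_even.mp heven
  have : CharP F 2 := by
    have h2 : ringChar F = 2 := FiniteField.even_card_iff_char_two.mpr (Nat.even_iff.mp hev)
    exact h2 ▸ ringChar.charP F
  obtain ⟨P, hcore, hquad, -⟩ := hS
  have hle : P ≤ Cfsg.spGL 2 F := hcore.le.trans hH.1.le
  have hbot := scalars_disjoint hle
  have hsimple := hcore.simple
  let eQ : P ⧸ (Cfsg.Geo.scalars (Fin 2 ⊕ Fin 2) F).subgroupOf P ≃* P :=
    (QuotientGroup.quotientMulEquivOfEq hbot).trans QuotientGroup.quotientBot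
  let e : P ≃* (P.map (toG4 (F := F)).toMonoidHom) :=
    Subgroup.equivMapOfInjective P _ (toG4 (F := F)).injective
  have : IsSimpleGroup (P.map (toG4 (F := F)).toMonoidHom) :=
    (eQ.trans e).symm.isSimpleGroup
  have sp : P.map (toG4 (F := F)).toMonoidHom ≤ Lie.Sp4 F := by
    rintro _ ⟨g, hg, rfl⟩
    exact toG4_mem.mpr (hle hg)
  have hnc : ∃ a b : P.map (toG4 (F := F)).toMonoidHom, a * b ≠ b * a := by
    by_contra hc
    push Not at hc
    exact hcore.nonabelian ⟨⟨fun a b => (eQ.trans e).injective (by rw [map_mul, map_mul, hc])⟩⟩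
  have hq : ∃ c : F, c ≠ 0 ∧ c ≠ 1 := by
    obtain ⟨c, hc⟩ := Finset.exists_mem_notMem_of_card_lt_card
      (show ({0, 1} : Finset F).card < (Finset.univ : Finset F).card from
        lt_of_le_of_lt Finset.card_le_two (by rw [Finset.card_univ]; omega))
    exact ⟨c, fun h => hc.2 (by simp [h]), fun h => hc.2 (by simp [h])⟩
  have habs := absIrr_toG4 hcore.absIrred
  have hreal : ∀ F₀ : Subfield F, F₀ ≠ ⊤ →
      ¬ Cfsg.Geo.RealisableOver F₀ (Cfsg.Geo.matrixSet (P.map (toG4 (F := F)).toMonoidHom)) :=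
    fun F₀ h => not_realisable_toG4 (hcore.no_subfield F₀ h)
  have hbig : ¬ ∀ v : Fin 4 → F, v ≠ 0 → tv v ∈ P.map (toG4 (F := F)).toMonoidHom := fun h =>
    not_le_of_gt hH.1 ((spGL_le_of_tv h).trans hcore.le)
  have hsz := isoSuzuki_of_hyps sp hnc hq habs hreal (no_quad_toG4 hquad) hbig
  obtain ⟨n, -, hn⟩ := FiniteField.card F 2
  have hdvd : Nat.card (P.map (toG4 (F := F)).toMonoidHom) ∣
      2 ^ (4 * (n : ℕ)) * ((2 ^ (2 * (n : ℕ)) - 1) * (2 ^ (4 * (n : ℕ)) - 1)) := by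
    rw [← Nat.card_congr e.toEquiv]
    refine (Subgroup.card_dvd_of_le hle).trans (dvd_of_eq ?_)
    rw [card_spGL, hn, ← pow_mul, ← pow_mul, mul_comm (n : ℕ) 4, mul_comm (n : ℕ) 2]
  obtain ⟨m, hm, hcard, ⟨eS⟩⟩ := sz_case habs hreal hsz hn n.2 hdvd
  exact ⟨P, m, hcore, hm, hcard, ⟨(eQ.trans e).trans eS⟩⟩

end Cfsg.Agent.S5791
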