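import Cfsg.Statements.S5796
import Cfsg.Agent.Unitary.AschFieldFive

set_option autoImplicit false
open Cfsg

namespace Cfsg.Agent.S5796

/-- Every maximal subgroup of SU_5(q) is of one of the listed geometric types or lies in the residual class. Let F be the field with q² elements (characteristic p), f the standard unitary form Σ u_i v_i^q on F^5, and H a maximal subgroup of SU_5(q) (inside GL_5(F)). Then H is the intersection with SU_5(q) of one of: the stabiliser of a non-zero totally isotropic subspace; the stabiliser of a non-degenerate 1-space or 2-space; the stabiliser of a decomposition into five mutually orthogonal non-degenerate 1-spaces; for q ≥ 3, the normaliser of an adjoint-closed degree-5 subfield of the matrix algebra; a subfield group of odd prime index whose F₀-structure carries f; for q odd, a subfield group of index 2 whose F₀-structure carries f; for q = p ≡ 4 mod 5 or q = p² with p ≡ 2, 3 mod 5, the normaliser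 of an absolutely irreducible 5-group of exponent 5, order 125 and centre of order 5 with all characteristic abelian subgroups cyclic inside the similarity group of f — or else H lies in the residual class of the unitary case. -/
theorem result {F : Type*} [Field F] [Fintype F] (q : ℕ) (hF : Fintype.card F = q ^ 2) (H : Subgroup (Matrix.GeneralLinearGroup (Fin 5) F)) (hH : Cfsg.Geo.IsMaximalIn (Cfsg.GU 5 F q ⊓ Cfsg.Geo.specialLinear (Fin 5) F) H) :
    (∃ W : Submodule F (Fin 5 → F), W ≠ ⊥ ∧ Cfsg.Geo.IsTotallySingularFor (Cfsg.hermForm 5 F q) W ∧ H = Cfsg.Geo.subspaceStabilizer W ⊓ (Cfsg.GU 5 F q ⊓ Cfsg.Geo.specialLinear (Fin 5) F)) ∨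
    (∃ W : Submodule F (Fin 5 → F), W ≠ ⊥ ∧ Cfsg.Geo.IsNondegenerateOn (Cfsg.hermForm 5 F q) W ∧ 2 * Module.finrank F W < 5 ∧ H = Cfsg.Geo.subspaceStabilizer W ⊓ (Cfsg.GU 5 F q ⊓ Cfsg.Geo.specialLinear (Fin 5) F)) ∨
    (∃ D : Fin 5 → Submodule F (Fin 5 → F), Cfsg.Geo.IsNondegenerateMDecomposition (Cfsg.hermForm 5 F q) 1 D ∧ H = Cfsg.Geo.decompositionStabilizer D ⊓ (Cfsg.GU 5 F q ⊓ Cfsg.Geo.specialLinear (Fin 5) F)) ∨
    (3 ≤ q ∧ ∃ K : Subalgebra F (Matrix (Fin 5) (Fin 5) F), Cfsg.Geo.IsFieldSubalgebra 5 K ∧ Cfsg.Geo.IsAdjointClosedFor (Cfsg.hermForm 5 F q) K ∧ H = Cfsg.Geo.subalgebraNormalizer K ⊓ (Cfsg.GU 5 F q ⊓ Cfsg.Geo.specialLinear (Fin 5) F)) ∨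
    (∃ (F₀ : Subfield F) (r : ℕ) (P : Matrix.GeneralLinearGroup (Fin 5) F), r.Prime ∧ Odd r ∧ Fintype.card F = Nat.card F₀ ^ r ∧ Cfsg.Geo.IsFormRationalStructure (Cfsg.hermForm 5 F q) F₀ 1 P ∧ H = Cfsg.Geo.subfieldSubgroup F₀ P ⊓ (Cfsg.GU 5 F q ⊓ Cfsg.Geo.specialLinear (Fin 5) F)) ∨
    (Odd q ∧ ∃ (F₀ : Subfield F) (P : Matrix.GeneralLinearGroup (Fin 5) F), Fintype.card F = Nat.card F₀ ^ 2 ∧ Cfsg.Geo.IsFormRationalStructure (Cfsg.hermForm 5 F q) F₀ 1 P ∧ H = Cfsg.Geo.subfieldSubgroup F₀ P ⊓ (Cfsg.GU 5 F q ⊓ Cfsg.Geo.specialLinear (Fin 5) F)) ∨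
    (∃ (p : ℕ) (R : Subgroup (Matrix.GeneralLinearGroup (Fin 5) F)), p.Prime ∧ CharP F p ∧ ((q = p ∧ p % 5 = 4) ∨ (q = p ^ 2 ∧ (p % 5 = 2 ∨ p % 5 = 3))) ∧ Cfsg.Geo.IsSymplecticTypeGroup 5 R ∧ Cfsg.Geo.ActsAbsolutelyIrreducibly (Cfsg.Geo.matrixSet R) ∧ R ≤ Cfsg.Geo.similarityGroup (Cfsg.hermForm 5 F q) ∧ Nat.card R = 125 ∧ Nat.card (Subgroup.center R) = 5 ∧ H = Cfsg.Geo.subgroupNormalizer R ⊓ (Cfsg.GU 5 F q ⊓ Cfsg.Geo.specialLinear (Fin 5) F)) ∨
    Cfsg.Geo.InUnitaryResidualClass H := by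
  classical
  open Cfsg.Agent.Unitary.Asch in
  cases unitary_maximal hF (by norm_num) (by norm_num) H hH with
  | ts W h1 h2 h => exact Or.inl ⟨W, h1, h2, h⟩
  | nondeg W h1 h2 h3 h => exact Or.inr <| Or.inl ⟨W, h1, h2, h3, h⟩
  | decomp t k D hD hcard hk hfr h =>
    have := hD.decomp.two_le
    have : t ≤ 5 := Nat.le_of_dvd (by norm_num) ⟨k, hcard.symm⟩
    interval_cases t <;> try omega
    obtain rfl : k = 1 := by omega
    exact Or.inr <| Or.inr <| Or.inl ⟨D, hD, h⟩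
  | tsPair k D hcard hD hts hq h => omega
  | field r K hr hodd hdvd hK hs h =>
    obtain rfl : r = 5 := (Nat.prime_dvd_prime_iff_eq hr (by norm_num)).1 hdvd
    have h3 : 3 ≤ q := by
      by_contra hlt
      obtain rfl : q = 2 := by have := Cfsg.Agent.Unitary.two_le_q hF; omega
      subst h
      exact field_five_two hF hK hs hH
    exact Or.inr <| Or.inr <| Or.inr <| Or.inl ⟨h3, K, hK, hs, h⟩
  | tensor n₁ n₂ e P h1 h2 hcard hq hP h =>
    exfalso
    have : n₁ ≤ 5 := Nat.le_of_dvd (by norm_num) ⟨n₂, hcard.symm⟩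
    interval_cases n₁ <;> omega
  | subOdd F₀ r P hr hodd hcard hP h =>
    exact Or.inr <| Or.inr <| Or.inr <| Or.inr <| Or.inl ⟨F₀, r, P, hr, hodd, hcard, hP, h⟩
  | subSymp F₀ P ζ hev hcard hζ hζq hP halt h => exact absurd hev (by decide)
  | subOrth F₀ P hodd hcard hP h =>
    exact Or.inr <| Or.inr <| Or.inr <| Or.inr <| Or.inr <| Or.inl ⟨hodd, F₀, P, hcard, hP, h⟩
  | class6 r k R hR h =>
    obtain rfl : r = 5 := (Nat.prime_dvd_prime_iff_eq hR.sympType.prime (by norm_num)).1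
      ((dvd_pow_self r (Nat.one_le_iff_ne_zero.1 hR.pos)).trans hR.card_eq.symm.dvd)
    obtain rfl : k = 1 := Nat.pow_right_injective (by norm_num) (hR.card_eq.symm.trans (pow_one 5).symm)
    obtain ⟨p, a, hp, hc, hq, ha, hle, hpos, hz, hmin, hRc, hZ⟩ := hR.odd_data hF (by decide)
    have hlt := Nat.mod_lt p (show 5 > 0 by norm_num)
    have hcase : (q = p ∧ p % 5 = 4) ∨ (q = p ^ 2 ∧ (p % 5 = 2 ∨ p % 5 = 3)) := by
      rcases (show a = 1 ∨ a = 2 by omega) with rfl | rfl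
      · refine Or.inl ⟨by rw [hq, pow_one], ?_⟩
        have h1 := hmin 1 (by simp)
        interval_cases hm : p % 5 <;> simp_all
      · refine Or.inr ⟨hq, ?_⟩
        have h1 := hmin 1 (by simp)
        have h2 := hmin 2 (by simp)
        interval_cases hm : p % 5 <;> simp_all
    exact Or.inr <| Or.inr <| Or.inr <| Or.inr <| Or.inr <| Or.inr <| Or.inl ⟨p, R, hp, hc, hcase, hR.sympType, hR.absIrred, hR.le, hRc, hZ, h⟩
  | wreath k t e P h1 h2 hex hcard hP h =>
    exfalso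
    have h3 : k ^ 2 ≤ k ^ t := Nat.pow_le_pow_right (by omega) h2
    nlinarith
  | residual h => exact Or.inr <| Or.inr <| Or.inr <| Or.inr <| Or.inr <| Or.inr <| Or.inr <|  h

end Cfsg.Agent.S5796
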