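import Cfsg.Statements.S5799
import Cfsg.Agent.Aschbacher.LinearComposite

set_option autoImplicit false
open Cfsg

namespace Cfsg.Agent.S5799

open Cfsg.Agent.Aschbacher in
theorem result {F : Type*} [Field F] [Fintype F] (H : Subgroup (Matrix.GeneralLinearGroup (Fin 6) F)) (hH : Cfsg.Geo.IsMaximalIn (Cfsg.Geo.specialLinear (Fin 6) F) H) :
    (∃ W : Submodule F (Fin 6 → F), W ≠ ⊥ ∧ W ≠ ⊤ ∧ H = Cfsg.Geo.subspaceStabilizer W ⊓ Cfsg.Geo.specialLinear (Fin 6) F) ∨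
    (5 ≤ Fintype.card F ∧ ∃ D : Fin 6 → Submodule F (Fin 6 → F), Cfsg.Geo.IsMDecomposition 1 D ∧ H = Cfsg.Geo.decompositionStabilizer D ⊓ Cfsg.Geo.specialLinear (Fin 6) F) ∨
    (3 ≤ Fintype.card F ∧ ∃ D : Fin 3 → Submodule F (Fin 6 → F), Cfsg.Geo.IsMDecomposition 2 D ∧ H = Cfsg.Geo.decompositionStabilizer D ⊓ Cfsg.Geo.specialLinear (Fin 6) F) ∨
    (∃ D : Fin 2 → Submodule F (Fin 6 → F), Cfsg.Geo.IsMDecomposition 3 D ∧ H = Cfsg.Geo.decompositionStabilizer D ⊓ Cfsg.Geo.specialLinear (Fin 6) F) ∨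
    (∃ K : Subalgebra F (Matrix (Fin 6) (Fin 6) F), Cfsg.Geo.IsFieldSubalgebra 2 K ∧ H = Cfsg.Geo.subalgebraNormalizer K ⊓ Cfsg.Geo.specialLinear (Fin 6) F) ∨
    (∃ K : Subalgebra F (Matrix (Fin 6) (Fin 6) F), Cfsg.Geo.IsFieldSubalgebra 3 K ∧ H = Cfsg.Geo.subalgebraNormalizer K ⊓ Cfsg.Geo.specialLinear (Fin 6) F) ∨
    (3 ≤ Fintype.card F ∧ ∃ (e : Fin 6 ≃ Fin 2 × Fin 3) (P : Matrix.GeneralLinearGroup (Fin 6) F), H = Cfsg.Geo.tensorProductSubgroup 2 3 e P ⊓ Cfsg.Geo.specialLinear (Fin 6) F) ∨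
    (∃ (F₀ : Subfield F) (r : ℕ) (P : Matrix.GeneralLinearGroup (Fin 6) F), r.Prime ∧ Fintype.card F = Nat.card F₀ ^ r ∧ H = Cfsg.Geo.subfieldSubgroup F₀ P ⊓ Cfsg.Geo.specialLinear (Fin 6) F) ∨
    (Odd (Fintype.card F) ∧ ∃ Q : (Fin 6 → F) → F, Cfsg.Geo.IsNondegenerateQuadraticForm Q ∧ H = Cfsg.Geo.quadSimilarityGroup Q ⊓ Cfsg.Geo.specialLinear (Fin 6) F) ∨
    (∃ f : (Fin 6 → F) → (Fin 6 → F) → F, Cfsg.Geo.IsSymplecticForm f ∧ H = Cfsg.Geo.similarityGroup f ⊓ Cfsg.Geo.specialLinear (Fin 6) F) ∨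
    (∃ (σ : F ≃+* F) (f : (Fin 6 → F) → (Fin 6 → F) → F), Cfsg.Geo.IsUnitaryForm σ f ∧ H = Cfsg.Geo.similarityGroup f ⊓ Cfsg.Geo.specialLinear (Fin 6) F) ∨
    Cfsg.Geo.InLinearResidualClass H := by
  cases linear_maximal H (by simp) hH with
  | reducible W h1 h2 h => exact Or.inl ⟨W, h1, h2, h⟩
  | decomp t m D hD hcard hq h =>
    rw [Fintype.card_fin] at hcard
    have ht := hD.two_le
    have ht' : t ≤ 6 := Nat.le_of_dvd (by norm_num) ⟨m, hcard.symm⟩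
    interval_cases t
    · obtain rfl : m = 3 := by omega
      exact Or.inr <| Or.inr <| Or.inr <| Or.inl ⟨D, hD, h⟩
    · obtain rfl : m = 2 := by omega
      rcases planes_cases hH (by simp) hD h with hq' | h'
      · exact Or.inr <| Or.inr <| Or.inl ⟨hq', D, hD, h⟩
      · exact Or.inr <| Or.inr <| Or.inr <| Or.inr <| Or.inr <| Or.inr <| Or.inr <| Or.inr <| Or.inr <| Or.inl h'
    · omega
    · omega
    · obtain rfl : m = 1 := by omega
      exact Or.inr <| Or.inl ⟨hq rfl, D, hD, h⟩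
  | field r K hr hdvd hK h =>
    rw [Fintype.card_fin] at hdvd
    have hr' : r ≤ 6 := Nat.le_of_dvd (by norm_num) hdvd
    have hr2 := hr.two_le
    interval_cases r
    · exact Or.inr <| Or.inr <| Or.inr <| Or.inr <| Or.inl ⟨K, hK, h⟩
    · exact Or.inr <| Or.inr <| Or.inr <| Or.inr <| Or.inr <| Or.inl ⟨K, hK, h⟩
    · omega
    · omega
    · exact absurd hr (by norm_num)
  | tensor n₁ n₂ e P h1 h2 hcard h =>
    rw [Fintype.card_fin] at hcard
    have hn : n₁ ≤ 6 := Nat.le_of_dvd (by norm_num) ⟨n₂, hcard.symm⟩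
    interval_cases n₁
    · obtain rfl : n₂ = 3 := by omega
      rcases tensor_cases hH (by simp) h with hq' | h'
      · exact Or.inr <| Or.inr <| Or.inr <| Or.inr <| Or.inr <| Or.inr <| Or.inl ⟨hq', e, P, h⟩
      · exact Or.inr <| Or.inr <| Or.inr <| Or.inr <| Or.inl h'
    · omega
    · omega
    · omega
    · omega
  | subfld F₀ r P hr hF h => exact Or.inr <| Or.inr <| Or.inr <| Or.inr <| Or.inr <| Or.inr <| Or.inr <| Or.inl ⟨F₀, r, P, hr, hF, h⟩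
  | symp r m R hm hcard hR hcardR h =>
    rw [Fintype.card_fin] at hcard
    exact absurd hcard.symm (not_pow_eq hR.symplecticType.prime hm (by decide))
  | wreath m t e P h1 h2 hcard h =>
    rw [Fintype.card_fin] at hcard
    have hm2 : m * m ≤ 6 := by
      rw [← pow_two, hcard]; exact Nat.pow_le_pow_right (by omega) h2
    obtain rfl : m = 3 := by nlinarith
    have : t < 3 := by
      by_contra hlt
      have := Nat.pow_le_pow_right (by norm_num : 3 > 0) (not_lt.mp hlt)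
      omega
    interval_cases t
    omega
  | sympForm f hf hev h => exact Or.inr <| Or.inr <| Or.inr <| Or.inr <| Or.inr <| Or.inr <| Or.inr <| Or.inr <| Or.inr <| Or.inl ⟨f, hf, h⟩
  | unitForm σ f hf h => exact Or.inr <| Or.inr <| Or.inr <| Or.inr <| Or.inr <| Or.inr <| Or.inr <| Or.inr <| Or.inr <| Or.inr <| Or.inl ⟨σ, f, hf, h⟩
  | quadForm Q hQ hodd h => exact Or.inr <| Or.inr <| Or.inr <| Or.inr <| Or.inr <| Or.inr <| Or.inr <| Or.inr <| Or.inl ⟨hodd, Q, hQ, h⟩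
  | residual h => exact Or.inr <| Or.inr <| Or.inr <| Or.inr <| Or.inr <| Or.inr <| Or.inr <| Or.inr <| Or.inr <| Or.inr <| Or.inr <| h

end Cfsg.Agent.S5799
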