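import Cfsg.Statements.S5808
import Cfsg.Agent.Aschbacher.LinearMaximal

set_option autoImplicit false
open Cfsg

namespace Cfsg.Agent.S5808

open Cfsg.Agent.Aschbacher in
theorem result {F : Type*} [Field F] [Fintype F] (H : Subgroup (Matrix.GeneralLinearGroup (Fin 7) F)) (hH : Cfsg.Geo.IsMaximalIn (Cfsg.Geo.specialLinear (Fin 7) F) H) :
    (∃ W : Submodule F (Fin 7 → F), W ≠ ⊥ ∧ W ≠ ⊤ ∧ H = Cfsg.Geo.subspaceStabilizer W ⊓ Cfsg.Geo.specialLinear (Fin 7) F) ∨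
    (5 ≤ Fintype.card F ∧ ∃ D : Fin 7 → Submodule F (Fin 7 → F), Cfsg.Geo.IsMDecomposition 1 D ∧ H = Cfsg.Geo.decompositionStabilizer D ⊓ Cfsg.Geo.specialLinear (Fin 7) F) ∨
    (∃ K : Subalgebra F (Matrix (Fin 7) (Fin 7) F), Cfsg.Geo.IsFieldSubalgebra 7 K ∧ H = Cfsg.Geo.subalgebraNormalizer K ⊓ Cfsg.Geo.specialLinear (Fin 7) F) ∨
    (∃ (F₀ : Subfield F) (r : ℕ) (P : Matrix.GeneralLinearGroup (Fin 7) F), r.Prime ∧ Fintype.card F = Nat.card F₀ ^ r ∧ H = Cfsg.Geo.subfieldSubgroup F₀ P ⊓ Cfsg.Geo.specialLinear (Fin 7) F) ∨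
    ((∃ p : ℕ, p.Prime ∧ CharP F p ∧ ((Fintype.card F = p ∧ p % 7 = 1) ∨ (Fintype.card F = p ^ 3 ∧ (p % 7 = 2 ∨ p % 7 = 4)))) ∧ ∃ R : Subgroup (Matrix.GeneralLinearGroup (Fin 7) F), Cfsg.Geo.IsLinearSymplecticTypeData 7 R ∧ H = Cfsg.Geo.subgroupNormalizer R ⊓ Cfsg.Geo.specialLinear (Fin 7) F) ∨
    (Odd (Fintype.card F) ∧ ∃ Q : (Fin 7 → F) → F, Cfsg.Geo.IsNondegenerateQuadraticForm Q ∧ H = Cfsg.Geo.quadSimilarityGroup Q ⊓ Cfsg.Geo.specialLinear (Fin 7) F) ∨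
    (∃ (σ : F ≃+* F) (f : (Fin 7 → F) → (Fin 7 → F) → F), Cfsg.Geo.IsUnitaryForm σ f ∧ H = Cfsg.Geo.similarityGroup f ⊓ Cfsg.Geo.specialLinear (Fin 7) F) ∨
    Cfsg.Geo.InLinearResidualClass H := by
  rcases linear_maximal_prime (n := 7) (by norm_num) (Fintype.card_fin 7) (by norm_num) H hH with
    h | h | h | h | ⟨⟨p, e, hp, hc, hF, he, hz, hmin⟩, R, hR, h⟩ | h | h | h
  · exact Or.inl h
  · exact Or.inr (Or.inl h)
  · exact Or.inr (Or.inr (Or.inl h))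
  · exact Or.inr (Or.inr (Or.inr (Or.inl h)))
  · have hp0 : p % 7 ≠ 0 := fun h0 => by
      rw [Nat.pow_mod, h0, Nat.zero_pow (by obtain ⟨k, rfl⟩ := he; omega)] at hz; omega
    have hlt : p % 7 < 7 := Nat.mod_lt _ (by norm_num)
    have he6 : e ≤ 6 := by
      by_contra hne
      refine hmin 6 (by norm_num) (by omega) ?_
      rw [Nat.pow_mod]
      interval_cases h : p % 7 <;> simp_all
    have hcases : (Fintype.card F = p ∧ p % 7 = 1) ∨
        (Fintype.card F = p ^ 3 ∧ (p % 7 = 2 ∨ p % 7 = 4)) := by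
      rcases he with ⟨k, hk⟩
      have h1 : 1 < e → p % 7 ≠ 1 := fun he1 h' => hmin 1 one_pos he1 (by rw [pow_one]; exact h')
      rw [Nat.pow_mod] at hz
      interval_cases e
      · omega
      · exact Or.inl ⟨by rw [hF, pow_one], by simpa using hz⟩
      · omega
      · refine Or.inr ⟨hF, ?_⟩
        have := h1 (by norm_num)
        interval_cases h : p % 7 <;> simp_all
      · omega
      · exfalso
        have := h1 (by norm_num)
        interval_cases h : p % 7 <;> simp_all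
      · omega
    exact Or.inr (Or.inr (Or.inr (Or.inr (Or.inl ⟨⟨p, hp, hc, hcases⟩, R, hR, h⟩))))
  · exact Or.inr (Or.inr (Or.inr (Or.inr (Or.inr (Or.inl h)))))
  · exact Or.inr (Or.inr (Or.inr (Or.inr (Or.inr (Or.inr (Or.inl h))))))
  · exact Or.inr (Or.inr (Or.inr (Or.inr (Or.inr (Or.inr (Or.inr h))))))

end Cfsg.Agent.S5808
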