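import Cfsg.Statements.S5814
import Cfsg.Agent.Aschbacher.OrthOddMaximal

set_option autoImplicit false
open Cfsg

namespace Cfsg.Agent.S5814

/-- Every maximal subgroup of Ω_7(q), q odd, is of one of the listed geometric types or lies in the residual class. Let F be a finite field of odd order q, Q the standard quadratic form x₀² + Σ x_i y_i on F^7 (coordinates Unit ⊕ (Fin 3 ⊕ Fin 3)), Ω the commutator subgroup of its isometry group, and H a maximal subgroup of Ω (inside GL_7(F)). Then H is the intersection with Ω of one of: the stabiliser of a non-zero totally singular subspace; the stabiliser of a non-zero non-degenerate subspace of even dimension (not a plus-type plane when q = 3); for q prime, the stabiliser of a decomposition into seven pairwise orthogonal, pairwise isometric non-degenerate 1-spaces; a subfield group (|F| = |F₀|^r, r prime) whose F₀-structure carries Q — or else H lies in the residual class of the orthogonal case (modulo scalars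 H is almost simple, with absolutely irreducible perfect socle preimage realisable over no proper subfield and fixing no non-degenerate unitary form). -/
theorem result {F : Type*} [Field F] [Fintype F] (hodd : Odd (Fintype.card F)) (H : Subgroup (Matrix.GeneralLinearGroup (Unit ⊕ (Fin 3 ⊕ Fin 3)) F)) (hH : Cfsg.Geo.IsMaximalIn (Cfsg.Geo.omegaGL (Cfsg.quadFormOdd 3 F)) H) :
    (∃ W : Submodule F (Unit ⊕ (Fin 3 ⊕ Fin 3) → F), W ≠ ⊥ ∧ Cfsg.Geo.IsTotallySingularQuad (Cfsg.quadFormOdd 3 F) W ∧ H = Cfsg.Geo.subspaceStabilizer W ⊓ Cfsg.Geo.omegaGL (Cfsg.quadFormOdd 3 F)) ∨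
    (∃ W : Submodule F (Unit ⊕ (Fin 3 ⊕ Fin 3) → F), W ≠ ⊥ ∧ Even (Module.finrank F W) ∧ Cfsg.Geo.IsNondegenerateOn (QuadraticMap.polar (Cfsg.quadFormOdd 3 F)) W ∧ ¬ (Fintype.card F = 3 ∧ Module.finrank F W = 2 ∧ Cfsg.Geo.IsPlusTypeOn (Cfsg.quadFormOdd 3 F) W) ∧ H = Cfsg.Geo.subspaceStabilizer W ⊓ Cfsg.Geo.omegaGL (Cfsg.quadFormOdd 3 F)) ∨
    ((Fintype.card F).Prime ∧ ∃ D : Fin 7 → Submodule F (Unit ⊕ (Fin 3 ⊕ Fin 3) → F), Cfsg.Geo.IsOrthogonalMDecomposition (Cfsg.quadFormOdd 3 F) 1 D ∧ H = Cfsg.Geo.decompositionStabilizer D ⊓ Cfsg.Geo.omegaGL (Cfsg.quadFormOdd 3 F)) ∨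
    (∃ (F₀ : Subfield F) (r : ℕ) (P : Matrix.GeneralLinearGroup (Unit ⊕ (Fin 3 ⊕ Fin 3)) F), r.Prime ∧ Fintype.card F = Nat.card F₀ ^ r ∧ Cfsg.Geo.IsQuadFormRationalStructure (Cfsg.quadFormOdd 3 F) F₀ P ∧ H = Cfsg.Geo.subfieldSubgroup F₀ P ⊓ Cfsg.Geo.omegaGL (Cfsg.quadFormOdd 3 F)) ∨
    Cfsg.Geo.InOrthogonalResidualClass H := by
  have h2 : (2 : F) ≠ 0 := Cfsg.Agent.Aschbacher.odd_card_iff.mp hodd
  have hQ := Cfsg.Agent.Aschbacher.isNondegenerateQuadraticForm_odd (F := F) 3 h2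
  have hc : Fintype.card (Unit ⊕ (Fin 3 ⊕ Fin 3)) = 7 := by simp
  cases Cfsg.Agent.Aschbacher.oddMax_cases hQ h2 (by rw [hc]; decide) (by omega)
    (Cfsg.Agent.Aschbacher.polar_quadFormOdd_gram 3) hH with
  | ts W h0 hts h => exact Or.inl ⟨W, h0, hts, h⟩
  | nd W h0 hev hnd hex h => exact Or.inr <| Or.inl ⟨W, h0, hev, hnd, hex, h⟩
  | frame D hp hD h =>
      obtain ⟨D', hD', heq⟩ := Cfsg.Agent.Aschbacher.exists_decomp_cast hc D hD
      exact Or.inr <| Or.inr <| Or.inl ⟨hp, D', hD', by rw [heq]; exact h⟩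
  | decomp t k D hk hex hD hcard h =>
      have ht := hD.decomp.decomp.two_le
      have hdk : k ∣ 7 := ⟨t, by rw [← hc, ← hcard, mul_comm]⟩
      rcases (Nat.dvd_prime (by norm_num)).1 hdk with rfl | rfl <;> omega
  | fieldSA r K hr hdvd hne _ _ _ =>
      rw [hc] at hdvd hne
      exact absurd ((Nat.prime_dvd_prime_iff_eq hr (by norm_num)).1 hdvd).symm hne
  | tensor n₁ n₂ h1 h12 hcard =>
      have hdk : n₁ ∣ 7 := ⟨n₂, by rw [← hc, ← hcard]⟩
      rcases (Nat.dvd_prime (by norm_num)).1 hdk with rfl | rfl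
      · omega
      · nlinarith
  | subfld F₀ r P hr hF hrat h => exact Or.inr <| Or.inr <| Or.inr <| Or.inl ⟨F₀, r, P, hr, hF, hrat, h⟩
  | power k t e P f₁ hk ht _ hcard _ _ _ =>
      have hdk : k ∣ 7 := by rw [← hc, ← hcard]; exact dvd_pow_self k (by omega)
      rcases (Nat.dvd_prime (by norm_num)).1 hdk with rfl | rfl
      · omega
      · have := Nat.pow_le_pow_right (show 0 < 7 by norm_num) ht
        omega
  | residual h => exact Or.inr <| Or.inr <| Or.inr <| Or.inr h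

end Cfsg.Agent.S5814
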