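import Cfsg.Statements.S5822
import Cfsg.Agent.H39.SympGeoSmall
import Cfsg.Agent.H55.SpGeo.Nondeg
import Cfsg.Agent.H55.SpGeo.Ext
import Cfsg.Agent.H55.SpGeo.Quad
import Cfsg.Agent.H55.SpGeo.TsDecomp
import Cfsg.Agent.S5665
import Cfsg.Agent.S5650
import Cfsg.Agent.H57.TensorTwo.Wrap
import Cfsg.Agent.H57.CSix.Geo
import Cfsg.Agent.H24.Wreath.SpBridge
import Cfsg.Agent.H24.Wreath.FlatThree

set_option autoImplicit false
open Cfsg

namespace Cfsg.Agent.S5822

open Cfsg.Agent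

/-- Maximal subgroups of Sp_8(q) of geometric type (any q). Let F be a finite field with q elements, f the standard alternating form on F^8 (coordinates Fin 4 ⊕ Fin 4) and Sp_8(F) its isometry group inside GL_8(F). Each of the following, intersected with Sp_8(F), is a maximal subgroup of Sp_8(F): (1) the stabiliser of any non-zero totally isotropic subspace (dimensions 1 to 4); (2) the stabiliser of any non-degenerate 2-space; (3) for q ≥ 3, the stabiliser of any decomposition of F^8 into four mutually orthogonal non-degenerate 2-spaces; (4) the stabiliser of any decomposition into two mutually orthogonal non-degenerate 4-spaces; (5) for q odd, the stabiliser of any decomposition into two totally isotropic 4-spaces; (6) the normaliser of any degree-2 subfield K of the matrix algebra whose elements are self-adjoint for f with f(k v, v) = 0; (7) for q odd, the normaliser of any degree-2 subfield of the matrix algebra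 closed under adjoints but not self-adjoint; (8) for q odd, the stabiliser of any tensor decomposition of f as (alternating form on F^2) ⊗ (non-degenerate symmetric bilinear form on F^4 of minus type, i.e. whose quadratic form v ↦ f₂(v, v) vanishes on no 2-space) up to a scalar; (9) every subfield group for a subfield F₀ with |F| = |F₀|^r, r prime, whose F₀-structure carries a non-zero scalar multiple of f; (10) for q = p an odd prime, the normaliser of any absolutely irreducible 2-group R of symplectic type and exponent 4, of order 2^7 with centre of order 2 and of minus type, consisting of isometries of f; (11) for q odd with q ≥ 5, the stabiliser of any decomposition of f as the third tensor power of an alternating form on F^2 up to a scalar (tensor-wreath subgroup); (12) for q even, the similarity group of any non-degenerate quadratic form whose polar form is f (either Witt type); its intersection with Sp_8(F) is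 the orthogonal group of that form. -/
theorem result {F : Type*} [Field F] [Fintype F] :
    (∀ W : Submodule F (Fin 4 ⊕ Fin 4 → F), W ≠ ⊥ → Cfsg.Geo.IsTotallySingularFor (Cfsg.sympForm 4 F) W → Cfsg.Geo.IsMaximalIn (Cfsg.spGL 4 F) (Cfsg.Geo.subspaceStabilizer W ⊓ Cfsg.spGL 4 F)) ∧
    (∀ W : Submodule F (Fin 4 ⊕ Fin 4 → F), W ≠ ⊥ → Cfsg.Geo.IsNondegenerateOn (Cfsg.sympForm 4 F) W → Module.finrank F W < 4 → Cfsg.Geo.IsMaximalIn (Cfsg.spGL 4 F) (Cfsg.Geo.subspaceStabilizer W ⊓ Cfsg.spGL 4 F)) ∧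
    (3 ≤ Fintype.card F → ∀ D : Fin 4 → Submodule F (Fin 4 ⊕ Fin 4 → F), Cfsg.Geo.IsNondegenerateMDecomposition (Cfsg.sympForm 4 F) 2 D → Cfsg.Geo.IsMaximalIn (Cfsg.spGL 4 F) (Cfsg.Geo.decompositionStabilizer D ⊓ Cfsg.spGL 4 F)) ∧
    (∀ D : Fin 2 → Submodule F (Fin 4 ⊕ Fin 4 → F), Cfsg.Geo.IsNondegenerateMDecomposition (Cfsg.sympForm 4 F) 4 D → Cfsg.Geo.IsMaximalIn (Cfsg.spGL 4 F) (Cfsg.Geo.decompositionStabilizer D ⊓ Cfsg.spGL 4 F)) ∧
    (Odd (Fintype.card F) → ∀ D : Fin 2 → Submodule F (Fin 4 ⊕ Fin 4 → F), Cfsg.Geo.IsMDecomposition 4 D → (∀ i, Cfsg.Geo.IsTotallySingularFor (Cfsg.sympForm 4 F) (D i)) → Cfsg.Geo.IsMaximalIn (Cfsg.spGL 4 F) (Cfsg.Geo.decompositionStabilizer D ⊓ Cfsg.spGL 4 F)) ∧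
    (∀ K : Subalgebra F (Matrix (Fin 4 ⊕ Fin 4) (Fin 4 ⊕ Fin 4) F), Cfsg.Geo.IsFieldSubalgebra 2 K → Cfsg.Geo.IsSelfAdjointFor (Cfsg.sympForm 4 F) K → (∀ k ∈ K, ∀ v : (Fin 4 ⊕ Fin 4 → F), (Cfsg.sympForm 4 F) (Matrix.mulVec k v) v = 0) → Cfsg.Geo.IsMaximalIn (Cfsg.spGL 4 F) (Cfsg.Geo.subalgebraNormalizer K ⊓ Cfsg.spGL 4 F)) ∧
    (Odd (Fintype.card F) → ∀ K : Subalgebra F (Matrix (Fin 4 ⊕ Fin 4) (Fin 4 ⊕ Fin 4) F), Cfsg.Geo.IsFieldSubalgebra 2 K → Cfsg.Geo.IsAdjointClosedFor (Cfsg.sympForm 4 F) K → ¬ Cfsg.Geo.IsSelfAdjointFor (Cfsg.sympForm 4 F) K → Cfsg.Geo.IsMaximalIn (Cfsg.spGL 4 F) (Cfsg.Geo.subalgebraNormalizer K ⊓ Cfsg.spGL 4 F)) ∧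
    (Odd (Fintype.card F) → ∀ (e : (Fin 4 ⊕ Fin 4) ≃ Fin 2 × Fin 4) (P : Matrix.GeneralLinearGroup (Fin 4 ⊕ Fin 4) F) (f₁ : (Fin 2 → F) → (Fin 2 → F) → F) (f₂ : (Fin 4 → F) → (Fin 4 → F) → F), Cfsg.Geo.IsSymplecticForm f₁ → Cfsg.Geo.IsSymmetricForm f₂ → ¬ Cfsg.Geo.IsPlusTypeOn (fun v : Fin 4 → F => f₂ v v) ⊤ → Cfsg.Geo.IsTensorFormStructure id (Cfsg.sympForm 4 F) f₁ f₂ e P → Cfsg.Geo.IsMaximalIn (Cfsg.spGL 4 F) (Cfsg.Geo.tensorProductSubgroup 2 4 e P ⊓ Cfsg.spGL 4 F)) ∧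
    (∀ (F₀ : Subfield F) (r : ℕ) (P : Matrix.GeneralLinearGroup (Fin 4 ⊕ Fin 4) F) (ζ : F), r.Prime → Fintype.card F = Nat.card F₀ ^ r → ζ ≠ 0 → Cfsg.Geo.IsFormRationalStructure (Cfsg.sympForm 4 F) F₀ ζ P → Cfsg.Geo.IsMaximalIn (Cfsg.spGL 4 F) (Cfsg.Geo.subfieldSubgroup F₀ P ⊓ Cfsg.spGL 4 F)) ∧
    (∀ (p : ℕ) (R : Subgroup (Matrix.GeneralLinearGroup (Fin 4 ⊕ Fin 4) F)), p.Prime → Odd p → Fintype.card F = p → Cfsg.Geo.IsSymplecticTypeGroup 2 R → Cfsg.Geo.ActsAbsolutelyIrreducibly (Cfsg.Geo.matrixSet R) → R ≤ Cfsg.spGL 4 F → Nat.card R = 128 → Nat.card (Subgroup.center R) = 2 → Cfsg.Geo.IsOfMinusType 3 R → Cfsg.Geo.IsMaximalIn (Cfsg.spGL 4 F) (Cfsg.Geo.subgroupNormalizer R ⊓ Cfsg.spGL 4 F)) ∧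
    (Odd (Fintype.card F) → 5 ≤ Fintype.card F → ∀ (e : (Fin 4 ⊕ Fin 4) ≃ (Fin 3 → Fin 2)) (P : Matrix.GeneralLinearGroup (Fin 4 ⊕ Fin 4) F) (f₁ : (Fin 2 → F) → (Fin 2 → F) → F), Cfsg.Geo.IsSymplecticForm f₁ → Cfsg.Geo.IsTensorPowerFormStructure id (Cfsg.sympForm 4 F) f₁ e P → Cfsg.Geo.IsMaximalIn (Cfsg.spGL 4 F) (Cfsg.Geo.tensorWreathSubgroup 2 3 e P ⊓ Cfsg.spGL 4 F)) ∧
    (¬ Odd (Fintype.card F) → ∀ Q : (Fin 4 ⊕ Fin 4 → F) → F, Cfsg.Geo.IsNondegenerateQuadraticForm Q → (∀ u v : (Fin 4 ⊕ Fin 4 → F), QuadraticMap.polar Q u v = (Cfsg.sympForm 4 F) u v) → Cfsg.Geo.IsMaximalIn (Cfsg.spGL 4 F) (Cfsg.Geo.quadSimilarityGroup Q ⊓ Cfsg.spGL 4 F)) := by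
  classical
  have hsp : Cfsg.spGL 4 F = H95.isoGrp (Cfsg.sympForm 4 F) := H95.spGL_eq_isoGrp 4
  have hf := H95.isSymplecticForm_sympForm (F := F) 4
  have two : Odd (Fintype.card F) → (2 : F) ≠ 0 := fun hodd =>
    Ring.two_ne_zero ((FiniteField.even_card_iff_char_two (F := F)).not.2
      (Nat.mod_two_ne_zero.2 (Nat.odd_iff.1 hodd)))
  refine ⟨fun W hW0 hW => H39.SympSmall.singular 4 W hW0 hW,
    fun W hW0 hW hdim => H55.SpGeo.nondeg 4 W hW0 hW hdim,
    fun hq D hD => H39.SympSmall.decomposition 4 2 D hD (by omega),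
    fun D hD => H39.SympSmall.decomposition 4 4 D hD (by omega),
    fun hodd D hD hts => ?_,
    fun K hK hsa halt => H55.SpGeo.extension 4 (by norm_num) 2 Nat.prime_two (by norm_num) K hK hsa halt,
    fun hodd K hK hac hnsa => ?_,
    fun hodd e P f₁ f₂ h₁ h₂ hplus hT => ?_,
    fun F₀ r P ζ hr hcard hζ hP => ?_,
    fun p R hp hpo hF hRs hRi hR hcard hZ hminus => ?_,
    fun hodd h5 e P f₁ h₁ hT => ?_,
    fun heven Q hQ hpol => H55.SpGeo.quadratic 4 (by norm_num) heven Q hQ hpol⟩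
  · rw [hsp]
    exact H55.SpGeo.tsDecomp (two hodd) (by norm_num) (by simp) hf D hD hts
  · rw [hsp]
    exact S5665.main (two hodd) (by simp) K hK hf hac hnsa
  · rw [hsp]
    refine H57.TensorTwo.maximal hf hodd le_rfl e P f₁ f₂ h₁ h₂ hT fun W hW => ?_
    by_contra hc
    push Not at hc
    obtain ⟨g, hg⟩ := exists_linearIndependent_of_le_finrank (R := F) (M := W) (n := 2) (by omega)
    have hU := finrank_span_eq_card (hg.map' W.subtype W.ker_subtype)
    rw [Fintype.card_fin] at hU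
    refine hplus ⟨Submodule.span F (Set.range (W.subtype ∘ g)), le_top, fun w hw => hc w ?_, ?_⟩
    · exact Submodule.span_le.2 (by rintro _ ⟨i, rfl⟩; exact (g i).2) hw
    rw [finrank_top, Module.finrank_fin_fun, hU]
  · have hiso : Cfsg.spGL 4 F = H95.isoGrp fun u v => ζ * Cfsg.sympForm 4 F u v := by
      ext g
      rw [hsp, H95.mem_isoGrp, H95.mem_isoGrp]
      exact forall₂_congr fun u v => (mul_right_inj' hζ).symm
    rw [hiso]
    exact S5650.main (by simp) F₀ r hr hcard P (S5650.smul_symp hf hζ) hP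
  · exact H57.CSix.maximal_of_hyps (by norm_num) hp hpo hF (k := 3) (by norm_num) hRs hRi hR
      (by rw [hcard]; norm_num) hZ hminus
  · refine H24.Wreath.sp_maximal (two hodd) (by norm_num) (by decide) le_rfl e P f₁ h₁ hT fun H hH hno => ?_
    exact hH.flat_of_test (hH.test_of_pair (by rw [Nat.card_eq_fintype_card]; omega) hno)

end Cfsg.Agent.S5822
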