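import Cfsg.Statements.S5825
import Cfsg.Agent.H97.OmegaEight.Eight
import Cfsg.Agent.H97.OmegaEight.ExtTwo
import Cfsg.Agent.H97.OmegaEight.SubMain
import Cfsg.Agent.H96.EvenMax.Proper

set_option autoImplicit false
open Cfsg

namespace Cfsg.Agent.S5825

open Cfsg.Agent.Orthogonal Cfsg.Agent.H98.OrthMax Cfsg.Agent.H97.OmegaEight

/-- Maximal subgroups of Ω_8^-(q) of geometric type (any q). Let F be a finite field with q elements, Q a non-degenerate quadratic form on F^8 (non-degenerate polar form) of minus type (Witt index 3: no totally singular 4-space), and Ω = Ω_8^-(q) the commutator subgroup of the isometry group of Q, inside GL_8(F). Each of the following, intersected with Ω, is a maximal subgroup of Ω: (1) the stabiliser of any non-zero subspace on which Q vanishes identically (totally singular 1-, 2- and 3-spaces); (2) for q odd, the stabiliser of any proper subspace of odd dimension (1, 3, 5 or 7) on which the polar form of Q is non-degenerate;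 (3) the stabiliser of any non-degenerate 2-space of minus type (containing no non-zero singular vector); (4) for q ≥ 4, the stabiliser of any non-degenerate 2-space of plus type (containing a non-zero singular vector); (5) the stabiliser of any non-degenerate 4-space (its orthogonal complement is then a non-degenerate 4-space of the opposite type); (6) for q even, the stabiliser of the 1-space spanned by any non-singular vector v (Q(v) ≠ 0); (7) for q odd, the normaliser of any degree-2 subfield K of the matrix algebra whose elements are self-adjoint for the polar form of Q (Q is then the trace of a quadratic form over K); (8) every subfield group for a subfield F₀ of odd prime index r in F whose F₀-structure carries a non-zero scalar multiple of Q. -/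
theorem result {F : Type*} [Field F] [Fintype F] (Q : (Fin 8 → F) → F) (hQ : Cfsg.Geo.IsNondegenerateQuadraticForm Q) (hminus : ¬ Cfsg.Geo.IsPlusTypeOn Q ⊤) :
    (∀ W : Submodule F (Fin 8 → F), W ≠ ⊥ → Cfsg.Geo.IsTotallySingularQuad Q W → Cfsg.Geo.IsMaximalIn (Cfsg.Geo.omegaGL Q) (Cfsg.Geo.subspaceStabilizer W ⊓ Cfsg.Geo.omegaGL Q)) ∧
    (Odd (Fintype.card F) → ∀ W : Submodule F (Fin 8 → F), W ≠ ⊥ → W ≠ ⊤ → Odd (Module.finrank F W) → Cfsg.Geo.IsNondegenerateOn (QuadraticMap.polar Q) W → Cfsg.Geo.IsMaximalIn (Cfsg.Geo.omegaGL Q) (Cfsg.Geo.subspaceStabilizer W ⊓ Cfsg.Geo.omegaGL Q)) ∧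
    (∀ W : Submodule F (Fin 8 → F), Module.finrank F W = 2 → Cfsg.Geo.IsNondegenerateOn (QuadraticMap.polar Q) W → ¬ Cfsg.Geo.IsPlusTypeOn Q W → Cfsg.Geo.IsMaximalIn (Cfsg.Geo.omegaGL Q) (Cfsg.Geo.subspaceStabilizer W ⊓ Cfsg.Geo.omegaGL Q)) ∧
    (4 ≤ Fintype.card F → ∀ W : Submodule F (Fin 8 → F), Module.finrank F W = 2 → Cfsg.Geo.IsNondegenerateOn (QuadraticMap.polar Q) W → Cfsg.Geo.IsPlusTypeOn Q W → Cfsg.Geo.IsMaximalIn (Cfsg.Geo.omegaGL Q) (Cfsg.Geo.subspaceStabilizer W ⊓ Cfsg.Geo.omegaGL Q)) ∧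
    (∀ W : Submodule F (Fin 8 → F), Module.finrank F W = 4 → Cfsg.Geo.IsNondegenerateOn (QuadraticMap.polar Q) W → Cfsg.Geo.IsMaximalIn (Cfsg.Geo.omegaGL Q) (Cfsg.Geo.subspaceStabilizer W ⊓ Cfsg.Geo.omegaGL Q)) ∧
    (¬ Odd (Fintype.card F) → ∀ v : (Fin 8 → F), Q v ≠ 0 → Cfsg.Geo.IsMaximalIn (Cfsg.Geo.omegaGL Q) (Cfsg.Geo.subspaceStabilizer (Submodule.span F {v}) ⊓ Cfsg.Geo.omegaGL Q)) ∧
    (Odd (Fintype.card F) → ∀ K : Subalgebra F (Matrix (Fin 8) (Fin 8) F), Cfsg.Geo.IsFieldSubalgebra 2 K → Cfsg.Geo.IsSelfAdjointFor (QuadraticMap.polar Q) K → Cfsg.Geo.IsMaximalIn (Cfsg.Geo.omegaGL Q) (Cfsg.Geo.subalgebraNormalizer K ⊓ Cfsg.Geo.omegaGL Q)) ∧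
    (∀ (F₀ : Subfield F) (r : ℕ) (P : Matrix.GeneralLinearGroup (Fin 8) F) (ζ : F), r.Prime → Odd r → Fintype.card F = Nat.card F₀ ^ r → ζ ≠ 0 → Cfsg.Geo.IsQuadFormRationalStructure (fun v : Fin 8 → F => ζ * Q v) F₀ P → Cfsg.Geo.IsMaximalIn (Cfsg.Geo.omegaGL Q) (Cfsg.Geo.subfieldSubgroup F₀ P ⊓ Cfsg.Geo.omegaGL Q)) := by
  obtain ⟨Q, rfl⟩ : ∃ Q' : QuadraticForm F (Fin 8 → F), ⇑Q' = Q := ⟨H96.asForm hQ, rfl⟩
  have hN : Nondeg Q := H96.asForm_nondeg hQ
  have hn : Module.finrank F (Fin 8 → F) = 8 := Module.finrank_fin_fun F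
  have hhalf : ∀ T : Submodule F (Fin 8 → F), TotSing Q T → Module.finrank F T ≠ 4 := fun T hT h =>
    hminus ⟨T, le_top, hT, by rw [finrank_top, hn, h]⟩
  refine ⟨fun W hW0 hW => isMaximalIn_totSing hN (by omega) hW0 hW fun U hU h => absurd (by omega) (hhalf U hU),
    fun _ W _ _ hodd hW => isMaximalIn_odd hN hn (H96.EvenMax.nd_restr hW) hodd,
    fun W hd hW hm => isMaximalIn_small hN hn (H96.EvenMax.nd_restr hW) (Or.inl hd) fun _ ⟨x, hx, hx0, hQx⟩ =>
      absurd ⟨Submodule.span F {x}, by simpa using hx, fun y hy => ?_, ?_⟩ hm,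
    fun hq W hd hW _ => isMaximalIn_small hN hn (H96.EvenMax.nd_restr hW) (Or.inl hd) fun _ _ => hq,
    fun W hd hW => isMaximalIn_four hN hn hminus (H96.EvenMax.nd_restr hW) hd,
    fun _ v hv => isMaximalIn_point hN (by omega) hv,
    fun hodd K hK hsa => isMaximalIn_ext_two Q hN hodd K hK hsa hn hhalf,
    fun F₀ r P ζ hr hrodd hcard hζ hP => ?_⟩
  · obtain ⟨c, rfl⟩ := Submodule.mem_span_singleton.1 hy
    rw [qmap_smul, hQx, mul_zero]
  · rw [finrank_span_singleton hx0, hd]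
  have hN' : Nondeg (ζ • Q) := fun x hx => hN x fun y => by
    have := hx y
    rw [show ⇑(ζ • Q) = ζ • ⇑Q from rfl, QuadraticMap.polar_smul, smul_eq_mul] at this
    exact (mul_eq_zero.1 this).resolve_left hζ
  have hiso : Cfsg.isometryGroup F ⇑Q = Cfsg.isometryGroup F ⇑(ζ • Q) := by
    ext g
    simp [Cfsg.Agent.Orthogonal.mem_isometryGroup_iff, hζ]
  have hΩ : Cfsg.Geo.omegaGL ⇑Q = Cfsg.Geo.omegaGL ⇑(ζ • Q) := by
    unfold Cfsg.Geo.omegaGL Cfsg.Omega
    rw [hiso]
  rw [hΩ]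
  refine H97.OmegaEight.isMaximalIn_subfield F₀ P (ζ • Q) hN' (by simp) r hr hrodd hcard (fun T hT => hhalf T fun x hx => ?_) hP
  have := hT x hx
  rw [QuadraticMap.smul_apply, smul_eq_mul] at this
  exact (mul_eq_zero.1 this).resolve_left hζ

end Cfsg.Agent.S5825
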