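import Cfsg.Statements.S5829
import Cfsg.Agent.Aschbacher.LinearComposite

set_option autoImplicit false
open Cfsg

namespace Cfsg.Agent.S5829

open Cfsg.Agent.Aschbacher in
theorem result {F : Type*} [Field F] [Fintype F] (H : Subgroup (Matrix.GeneralLinearGroup (Fin 9) F)) (hH : Cfsg.Geo.IsMaximalIn (Cfsg.Geo.specialLinear (Fin 9) F) H) :
    (∃ W : Submodule F (Fin 9 → F), W ≠ ⊥ ∧ W ≠ ⊤ ∧ H = Cfsg.Geo.subspaceStabilizer W ⊓ Cfsg.Geo.specialLinear (Fin 9) F) ∨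
    (5 ≤ Fintype.card F ∧ ∃ D : Fin 9 → Submodule F (Fin 9 → F), Cfsg.Geo.IsMDecomposition 1 D ∧ H = Cfsg.Geo.decompositionStabilizer D ⊓ Cfsg.Geo.specialLinear (Fin 9) F) ∨
    (∃ D : Fin 3 → Submodule F (Fin 9 → F), Cfsg.Geo.IsMDecomposition 3 D ∧ H = Cfsg.Geo.decompositionStabilizer D ⊓ Cfsg.Geo.specialLinear (Fin 9) F) ∨
    (∃ K : Subalgebra F (Matrix (Fin 9) (Fin 9) F), Cfsg.Geo.IsFieldSubalgebra 3 K ∧ H = Cfsg.Geo.subalgebraNormalizer K ⊓ Cfsg.Geo.specialLinear (Fin 9) F) ∨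
    (∃ (F₀ : Subfield F) (r : ℕ) (P : Matrix.GeneralLinearGroup (Fin 9) F), r.Prime ∧ Fintype.card F = Nat.card F₀ ^ r ∧ H = Cfsg.Geo.subfieldSubgroup F₀ P ⊓ Cfsg.Geo.specialLinear (Fin 9) F) ∨
    ((∃ p : ℕ, p.Prime ∧ Fintype.card F = p ∧ (p % 3 = 1)) ∧ ∃ R : Subgroup (Matrix.GeneralLinearGroup (Fin 9) F), Cfsg.Geo.IsLinearSymplecticTypeData 3 R ∧ H = Cfsg.Geo.subgroupNormalizer R ⊓ Cfsg.Geo.specialLinear (Fin 9) F) ∨
    (∃ (e : Fin 9 ≃ (Fin 2 → Fin 3)) (P : Matrix.GeneralLinearGroup (Fin 9) F), H = Cfsg.Geo.tensorWreathSubgroup 3 2 e P ⊓ Cfsg.Geo.specialLinear (Fin 9) F) ∨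
    (Odd (Fintype.card F) ∧ ∃ Q : (Fin 9 → F) → F, Cfsg.Geo.IsNondegenerateQuadraticForm Q ∧ H = Cfsg.Geo.quadSimilarityGroup Q ⊓ Cfsg.Geo.specialLinear (Fin 9) F) ∨
    (∃ (σ : F ≃+* F) (f : (Fin 9 → F) → (Fin 9 → F) → F), Cfsg.Geo.IsUnitaryForm σ f ∧ H = Cfsg.Geo.similarityGroup f ⊓ Cfsg.Geo.specialLinear (Fin 9) F) ∨
    Cfsg.Geo.InLinearResidualClass H := by
  cases linear_maximal H (by simp) hH with
  | reducible W h1 h2 h => exact Or.inl ⟨W, h1, h2, h⟩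
  | decomp t m D hD hcard hq h =>
    rw [Fintype.card_fin] at hcard
    have ht := hD.two_le
    have ht' : t ≤ 9 := Nat.le_of_dvd (by norm_num) ⟨m, hcard.symm⟩
    interval_cases t
    · omega
    · obtain rfl : m = 3 := by omega
      exact Or.inr <| Or.inr <| Or.inl ⟨D, hD, h⟩
    · omega
    · omega
    · omega
    · omega
    · omega
    · obtain rfl : m = 1 := by omega
      exact Or.inr <| Or.inl ⟨hq rfl, D, hD, h⟩
  | field r K hr hdvd hK h =>
    rw [Fintype.card_fin] at hdvd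
    have hr' : r ≤ 9 := Nat.le_of_dvd (by norm_num) hdvd
    have hr2 := hr.two_le
    interval_cases r
    · omega
    · exact Or.inr <| Or.inr <| Or.inr <| Or.inl ⟨K, hK, h⟩
    · omega
    · omega
    · omega
    · omega
    · omega
    · exact absurd hr (by norm_num)
  | tensor n₁ n₂ e P h1 h2 hcard h =>
    rw [Fintype.card_fin] at hcard
    have hn : n₁ ≤ 9 := Nat.le_of_dvd (by norm_num) ⟨n₂, hcard.symm⟩
    interval_cases n₁
    · omega
    · omega
    · omega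
    · omega
    · omega
    · omega
    · omega
    · omega
  | subfld F₀ r P hr hF h => exact Or.inr <| Or.inr <| Or.inr <| Or.inr <| Or.inl ⟨F₀, r, P, hr, hF, h⟩
  | symp r m R hm hcard hR hcardR h =>
    rw [Fintype.card_fin] at hcard
    obtain rfl : r = 3 := (Nat.prime_dvd_prime_iff_eq hR.symplecticType.prime (by norm_num)).mp
      (hR.symplecticType.prime.dvd_of_dvd_pow (n := 2) (by
        rw [show 3 ^ 2 = r ^ m by rw [← hcard]; norm_num]; exact dvd_pow_self r (by omega)))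
    obtain ⟨p, e, hp, hc, hF, he, hz, hmin⟩ := symp_odd_cases hR (by norm_num)
    have he1 : e = 1 := by
      by_contra hne
      have he3 : 3 ≤ e := by obtain ⟨k, rfl⟩ := he; omega
      refine hmin 2 (by norm_num) (by omega) ?_
      have hp0 : p % 3 ≠ 0 := fun h0 => by
        rw [Nat.pow_mod, h0, Nat.zero_pow (by omega)] at hz; omega
      have : p % 3 = 1 ∨ p % 3 = 2 := by omega
      rw [Nat.pow_mod]
      rcases this with h | h <;> rw [h]
    subst he1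
    rw [pow_one] at hF hz
    exact Or.inr <| Or.inr <| Or.inr <| Or.inr <| Or.inr <| Or.inl ⟨⟨p, hp, hF, hz⟩, R, hR, h⟩
  | wreath m t e P h1 h2 hcard h =>
    rw [Fintype.card_fin] at hcard
    have hm2 : m * m ≤ 9 := by
      rw [← pow_two, hcard]; exact Nat.pow_le_pow_right (by omega) h2
    obtain rfl : m = 3 := by nlinarith
    obtain rfl : t = 2 := Nat.pow_right_injective (by norm_num) (hcard.symm.trans (by norm_num : 9 = 3 ^ 2))
    exact Or.inr <| Or.inr <| Or.inr <| Or.inr <| Or.inr <| Or.inr <| Or.inl ⟨e, P, h⟩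
  | sympForm f hf hev h => exact absurd hev (by simp; decide)
  | unitForm σ f hf h => exact Or.inr <| Or.inr <| Or.inr <| Or.inr <| Or.inr <| Or.inr <| Or.inr <| Or.inr <| Or.inl ⟨σ, f, hf, h⟩
  | quadForm Q hQ hodd h => exact Or.inr <| Or.inr <| Or.inr <| Or.inr <| Or.inr <| Or.inr <| Or.inr <| Or.inl ⟨hodd, Q, hQ, h⟩
  | residual h => exact Or.inr <| Or.inr <| Or.inr <| Or.inr <| Or.inr <| Or.inr <| Or.inr <| Or.inr <| Or.inr <| h

end Cfsg.Agent.S5829
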