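import Cfsg.Statements.S5834
import Cfsg.Agent.H55.OmegaNine.Main
import Cfsg.Agent.H55.OmegaNine.Four
import Cfsg.Agent.H85.OmegaEleven.Six
import Cfsg.Agent.H85.OddSubfield.Main
import Cfsg.Agent.H85.Frame.Main
import Cfsg.Agent.H98.OrthDecomp.Main
import Cfsg.Agent.H98.OrthMax.Point
import Cfsg.Agent.H98.OrthMax.TotSing
import Cfsg.Agent.H57.ExtOrth.Three.Main
import Cfsg.Agent.Orthogonal.StdForms

set_option autoImplicit false
open Cfsg

namespace Cfsg.Agent.S5834

open QuadraticMap Module Cfsg.Agent.Orthogonal Cfsg.Agent.H98.OrthMax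

theorem isMaximalIn_even {F : Type*} [Field F] [Fintype F] {ι : Type} [Fintype ι] [DecidableEq ι]
    {Q : QuadraticForm F (ι → F)} (hQ : Nondeg Q) (h2 : (2 : F) ≠ 0) (hn : finrank F (ι → F) = 9)
    {W : Submodule F (ι → F)} (hW0 : W ≠ ⊥) (hW : Nondeg (restr Q W)) (heven : Even (finrank F W))
    (hex : finrank F W = 2 → (∃ x ∈ W, x ≠ 0 ∧ Q x = 0) → 4 ≤ Fintype.card F) :
    Cfsg.Geo.IsMaximalIn (Cfsg.Geo.omegaGL ⇑Q) (Cfsg.Geo.subspaceStabilizer W ⊓ Cfsg.Geo.omegaGL ⇑Q) := by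
  have hr := hQ.finrank_add_perp W
  have hpos : 0 < finrank F W := Nat.pos_of_ne_zero fun h => hW0 (Submodule.finrank_eq_zero.1 h)
  obtain ⟨j, hj⟩ := heven
  rcases (show finrank F W = 2 ∨ finrank F W = 4 ∨ finrank F W = 6 ∨ finrank F W = 8 by omega) with h | h | h | h
  · exact H85.OmegaEleven.isMaximalIn_nondeg_six hQ (by omega) hW0 hW h2 (by omega)
      (fun g => exists_not_mem_of_lt (by omega) g) hex
  · exact H55.OmegaNine.isMaximalIn_four hQ hW (by omega) h
  · rw [← stabilizer_inf_omega_perp hQ W]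
    exact H85.OmegaEleven.isMaximalIn_nondeg_six hQ (by omega) (fun e => by rw [e, finrank_bot] at hr; omega)
      (hQ.nondeg_perp hW) h2 (by rw [hQ.perp_perp]; omega)
      (fun g => by rw [hQ.perp_perp]; exact exists_not_mem_of_lt (by omega) g) (fun e => by omega)
  · rw [← stabilizer_inf_omega_perp hQ W]
    have hT := hQ.nondeg_perp hW
    obtain ⟨v, hv, hv0⟩ := Submodule.exists_mem_ne_zero_of_ne_bot (p := perp Q W) fun e => by
      rw [e, finrank_bot] at hr; omega
    have hTv : perp Q W = Submodule.span F {v} :=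
      (Submodule.eq_of_le_of_finrank_le (by simpa using hv) (by rw [finrank_span_singleton hv0]; omega)).symm
    rw [hTv]
    refine isMaximalIn_point hQ (by omega) fun hQv => ?_
    obtain ⟨f, hf, hvf⟩ := hT.exists_partner (u := ⟨v, hv⟩) (fun e => hv0 (congrArg Subtype.val e)) hQv
    have h3 := finrank_hyperbolic_plane (Q := restr Q (perp Q W)) hQv hf hvf
    have h4 := Submodule.finrank_le (Submodule.span F ({(⟨v, hv⟩ : perp Q W), f} : Set (perp Q W)))
    omega


/-- Maximal subgroups of Ω_9(q) of geometric type, q odd. Let F be a finite field of odd order q, Q the standard quadratic form x₀² + Σ x_i y_i on F^9 (coordinates Unit ⊕ (Fin 4 ⊕ Fin 4)), and Ω = Ω_9(q) the commutator subgroup of its isometry group, inside GL_9(F). Each of the following, intersected with Ω, is a maximal subgroup of Ω: (1) the stabiliser of any non-zero subspace on which Q vanishes identically (totally singular 1- to 4-spaces); (2) the stabiliser of any non-zero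 even-dimensional subspace W (dimension 2, 4, 6 or 8) on which the polar form of Q is non-degenerate (equivalently of its odd-dimensional orthogonal complement), except when q = 3 and W is a 2-space containing a non-zero singular vector (a plus-type plane); (3) for q = p prime, the stabiliser of any decomposition of F^9 into nine pairwise orthogonal, pairwise Q-isometric non-degenerate 1-spaces; (4) for q ≥ 5, the stabiliser of any decomposition of F^9 into three pairwise orthogonal, pairwise Q-isometric non-degenerate 3-spaces; (5) the normaliser of any degree-3 subfield K of the matrix algebra whose elements are self-adjoint for the polar form of Q (Q is then the trace of a quadratic form over K); (6) every subfield group for a subfield F₀ with |F| = |F₀|^r, r prime, whose F₀-structure carries Q; (7) for q ≥ 5, the stabiliser of any decomposition of the polar form of Q as the tensor square of a non-degenerate symmetric bilinear form on F^3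 up to a scalar (tensor-wreath subgroup). -/
theorem result {F : Type*} [Field F] [Fintype F] (hodd : Odd (Fintype.card F)) :
    (∀ W : Submodule F (Unit ⊕ (Fin 4 ⊕ Fin 4) → F), W ≠ ⊥ → Cfsg.Geo.IsTotallySingularQuad (Cfsg.quadFormOdd 4 F) W → Cfsg.Geo.IsMaximalIn (Cfsg.Geo.omegaGL (Cfsg.quadFormOdd 4 F)) (Cfsg.Geo.subspaceStabilizer W ⊓ Cfsg.Geo.omegaGL (Cfsg.quadFormOdd 4 F))) ∧
    (∀ W : Submodule F (Unit ⊕ (Fin 4 ⊕ Fin 4) → F), W ≠ ⊥ → Even (Module.finrank F W) → Cfsg.Geo.IsNondegenerateOn (QuadraticMap.polar (Cfsg.quadFormOdd 4 F)) W → ¬ (Fintype.card F = 3 ∧ Module.finrank F W = 2 ∧ Cfsg.Geo.IsPlusTypeOn (Cfsg.quadFormOdd 4 F) W) → Cfsg.Geo.IsMaximalIn (Cfsg.Geo.omegaGL (Cfsg.quadFormOdd 4 F)) (Cfsg.Geo.subspaceStabilizer W ⊓ Cfsg.Geo.omegaGL (Cfsg.quadFormOdd 4 F))) ∧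
    ((Fintype.card F).Prime → ∀ D : Fin 9 → Submodule F (Unit ⊕ (Fin 4 ⊕ Fin 4) → F), Cfsg.Geo.IsOrthogonalMDecomposition (Cfsg.quadFormOdd 4 F) 1 D → Cfsg.Geo.IsMaximalIn (Cfsg.Geo.omegaGL (Cfsg.quadFormOdd 4 F)) (Cfsg.Geo.decompositionStabilizer D ⊓ Cfsg.Geo.omegaGL (Cfsg.quadFormOdd 4 F))) ∧
    (5 ≤ Fintype.card F → ∀ D : Fin 3 → Submodule F (Unit ⊕ (Fin 4 ⊕ Fin 4) → F), Cfsg.Geo.IsOrthogonalMDecomposition (Cfsg.quadFormOdd 4 F) 3 D → Cfsg.Geo.IsMaximalIn (Cfsg.Geo.omegaGL (Cfsg.quadFormOdd 4 F)) (Cfsg.Geo.decompositionStabilizer D ⊓ Cfsg.Geo.omegaGL (Cfsg.quadFormOdd 4 F))) ∧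
    (∀ K : Subalgebra F (Matrix (Unit ⊕ (Fin 4 ⊕ Fin 4)) (Unit ⊕ (Fin 4 ⊕ Fin 4)) F), Cfsg.Geo.IsFieldSubalgebra 3 K → Cfsg.Geo.IsSelfAdjointFor (QuadraticMap.polar (Cfsg.quadFormOdd 4 F)) K → Cfsg.Geo.IsMaximalIn (Cfsg.Geo.omegaGL (Cfsg.quadFormOdd 4 F)) (Cfsg.Geo.subalgebraNormalizer K ⊓ Cfsg.Geo.omegaGL (Cfsg.quadFormOdd 4 F))) ∧
    (∀ (F₀ : Subfield F) (r : ℕ) (P : Matrix.GeneralLinearGroup (Unit ⊕ (Fin 4 ⊕ Fin 4)) F), r.Prime → Fintype.card F = Nat.card F₀ ^ r → Cfsg.Geo.IsQuadFormRationalStructure (Cfsg.quadFormOdd 4 F) F₀ P → Cfsg.Geo.IsMaximalIn (Cfsg.Geo.omegaGL (Cfsg.quadFormOdd 4 F)) (Cfsg.Geo.subfieldSubgroup F₀ P ⊓ Cfsg.Geo.omegaGL (Cfsg.quadFormOdd 4 F))) ∧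
    (5 ≤ Fintype.card F → ∀ (e : (Unit ⊕ (Fin 4 ⊕ Fin 4)) ≃ (Fin 2 → Fin 3)) (P : Matrix.GeneralLinearGroup (Unit ⊕ (Fin 4 ⊕ Fin 4)) F) (f₁ : (Fin 3 → F) → (Fin 3 → F) → F), Cfsg.Geo.IsSymmetricForm f₁ → Cfsg.Geo.IsTensorPowerFormStructure id (QuadraticMap.polar (Cfsg.quadFormOdd 4 F)) f₁ e P → Cfsg.Geo.IsMaximalIn (Cfsg.Geo.omegaGL (Cfsg.quadFormOdd 4 F)) (Cfsg.Geo.tensorWreathSubgroup 3 2 e P ⊓ Cfsg.Geo.omegaGL (Cfsg.quadFormOdd 4 F))) := by
  have h2 : (2 : F) ≠ 0 := Ring.two_ne_zero fun h => by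
    have := (FiniteField.even_card_iff_char_two (F := F)).1 h
    rw [Nat.odd_iff] at hodd
    omega
  rw [← formOdd_coe (F := F) (m := 4)]
  have hQ : Nondeg (formOdd F 4) := formOdd_nondeg F 4 h2
  have hn : finrank F (Unit ⊕ (Fin 4 ⊕ Fin 4) → F) = 9 := by simp [Module.finrank_fintype_fun_eq_card]
  refine ⟨fun W hW0 hW => isMaximalIn_totSing hQ (by omega) hW0 hW fun U hU h => absurd h (by
      have := hU.two_mul_finrank_le hQ; omega),
    fun W hW0 heven hW hex => S5834.isMaximalIn_even hQ h2 hn hW0 (nondeg_restr_of_nondegenerateOn hW) heven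
      fun hd hx => ?_,
    fun hp D hD => H85.Frame.isMaximalIn_frame (Q := formOdd F 4) hQ h2 hp (by norm_num : 5 ≤ 9) (by decide) D hD,
    fun h5 D hD => ?_,
    fun K hK hsa => ?_,
    fun F₀ r P hr hcard hP => H85.OddSubfield.isMaximalIn_subfield F₀ P _ hQ h2 (by simp) (by simp; decide) r hr hcard hP,
    fun h5 e P f₁ hf hT => ?_⟩
  · obtain ⟨x, hx, hx0, hQx⟩ := hx
    by_contra h4
    obtain ⟨j, hj⟩ := hodd
    have := Fintype.one_lt_card (α := F)
    exact hex ⟨by omega, hd, isPlusTypeOn_of_singular hd hx hx0 hQx⟩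
  · have hM := hD.decomp.decomp
    refine H98.OrthDecomp.isMaximalIn_decomp (Q := formOdd F 4) ⟨h2, le_rfl, le_rfl, fun _ => ?_, hM.finrank_eq,
      fun i => nondeg_restr_of_nondegenerateOn (hD.decomp.nondegenerate i),
      fun i j hij x hx y hy => hD.decomp.orthogonal i j hij x hx y hy, fun i j => hD.isometric i j,
      hM.iSup_eq_top, hQ⟩
    by_contra hs
    push Not at hs
    classical
    have hsub : (Finset.univ : Finset F) ⊆ {0, 1, -1} := fun s _ => by
      rcases eq_or_ne s 0 with rfl | hs0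
      · simp
      · rcases sq_eq_one_iff.1 (hs s hs0) with e | e <;> simp [e]
    have := (Finset.card_le_card hsub).trans Finset.card_le_three
    rw [Finset.card_univ] at this
    omega
  · refine H57.ExtOrth.isMaximalIn_ext_of _ hQ hodd K 3 Nat.prime_three hK hsa (by omega) (by omega)
      fun L _ _ _ _ _ _ S X hL hX hXc g hg hns => ?_
    have hmul := Module.finrank_mul_finrank F L (Unit ⊕ (Fin 4 ⊕ Fin 4) → F)
    rw [hL, hn] at hmul
    exact S.sieGroup_le_three (by omega) (hL ▸ Nat.prime_three) (by omega) hX hXc hg hns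
  · obtain ⟨C⟩ := H55.OmegaNine.exists_coord h2 (by rwa [Nat.card_eq_fintype_card]) hQ e P hf hT
    exact H55.OmegaNine.maximal C

end Cfsg.Agent.S5834
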