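import Cfsg.Statements.S5835
import Cfsg.Agent.Aschbacher.OrthOddMaximal
import Cfsg.Agent.S0292

set_option autoImplicit false
open Cfsg

namespace Cfsg.Agent.S5835

/-- Every maximal subgroup of Ω_9(q), q odd, is of one of the listed geometric types or lies in the residual class. Let F be a finite field of odd order q, Q the standard quadratic form x₀² + Σ x_i y_i on F^9 (coordinates Unit ⊕ (Fin 4 ⊕ Fin 4)), Ω the commutator subgroup of its isometry group, and H a maximal subgroup of Ω (inside GL_9(F)). Then H is the intersection with Ω of one of: the stabiliser of a non-zero totally singular subspace; the stabiliser of a non-zero non-degenerate subspace of even dimension (not a plus-type plane when q = 3); for q prime, the stabiliser of a decomposition into nine pairwise orthogonal, pairwise isometric non-degenerate 1-spaces; for q ≥ 5, the stabiliser of a decomposition into three pairwise orthogonal, pairwise isometric non-degenerate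 3-spaces; the normaliser of a degree-3 subfield of the matrix algebra, self-adjoint for the polar form; a subfield group (|F| = |F₀|^r, r prime) whose F₀-structure carries Q; for q ≥ 5, the stabiliser of a tensor decomposition of the polar form as a tensor square of a symmetric form on F^3 — or else H lies in the residual class of the orthogonal case (modulo scalars H is almost simple, with absolutely irreducible perfect socle preimage realisable over no proper subfield and fixing no non-degenerate unitary form). -/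
theorem result {F : Type*} [Field F] [Fintype F] (hodd : Odd (Fintype.card F)) (H : Subgroup (Matrix.GeneralLinearGroup (Unit ⊕ (Fin 4 ⊕ Fin 4)) F)) (hH : Cfsg.Geo.IsMaximalIn (Cfsg.Geo.omegaGL (Cfsg.quadFormOdd 4 F)) H) :
    (∃ W : Submodule F (Unit ⊕ (Fin 4 ⊕ Fin 4) → F), W ≠ ⊥ ∧ Cfsg.Geo.IsTotallySingularQuad (Cfsg.quadFormOdd 4 F) W ∧ H = Cfsg.Geo.subspaceStabilizer W ⊓ Cfsg.Geo.omegaGL (Cfsg.quadFormOdd 4 F)) ∨
    (∃ W : Submodule F (Unit ⊕ (Fin 4 ⊕ Fin 4) → F), W ≠ ⊥ ∧ Even (Module.finrank F W) ∧ Cfsg.Geo.IsNondegenerateOn (QuadraticMap.polar (Cfsg.quadFormOdd 4 F)) W ∧ ¬ (Fintype.card F = 3 ∧ Module.finrank F W = 2 ∧ Cfsg.Geo.IsPlusTypeOn (Cfsg.quadFormOdd 4 F) W) ∧ H = Cfsg.Geo.subspaceStabilizer W ⊓ Cfsg.Geo.omegaGL (Cfsg.quadFormOdd 4 F)) ∨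
    ((Fintype.card F).Prime ∧ ∃ D : Fin 9 → Submodule F (Unit ⊕ (Fin 4 ⊕ Fin 4) → F), Cfsg.Geo.IsOrthogonalMDecomposition (Cfsg.quadFormOdd 4 F) 1 D ∧ H = Cfsg.Geo.decompositionStabilizer D ⊓ Cfsg.Geo.omegaGL (Cfsg.quadFormOdd 4 F)) ∨
    (5 ≤ Fintype.card F ∧ ∃ D : Fin 3 → Submodule F (Unit ⊕ (Fin 4 ⊕ Fin 4) → F), Cfsg.Geo.IsOrthogonalMDecomposition (Cfsg.quadFormOdd 4 F) 3 D ∧ H = Cfsg.Geo.decompositionStabilizer D ⊓ Cfsg.Geo.omegaGL (Cfsg.quadFormOdd 4 F)) ∨
    (∃ K : Subalgebra F (Matrix (Unit ⊕ (Fin 4 ⊕ Fin 4)) (Unit ⊕ (Fin 4 ⊕ Fin 4)) F), Cfsg.Geo.IsFieldSubalgebra 3 K ∧ Cfsg.Geo.IsSelfAdjointFor (QuadraticMap.polar (Cfsg.quadFormOdd 4 F)) K ∧ H = Cfsg.Geo.subalgebraNormalizer K ⊓ Cfsg.Geo.omegaGL (Cfsg.quadFormOdd 4 F)) ∨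
    (∃ (F₀ : Subfield F) (r : ℕ) (P : Matrix.GeneralLinearGroup (Unit ⊕ (Fin 4 ⊕ Fin 4)) F), r.Prime ∧ Fintype.card F = Nat.card F₀ ^ r ∧ Cfsg.Geo.IsQuadFormRationalStructure (Cfsg.quadFormOdd 4 F) F₀ P ∧ H = Cfsg.Geo.subfieldSubgroup F₀ P ⊓ Cfsg.Geo.omegaGL (Cfsg.quadFormOdd 4 F)) ∨
    (5 ≤ Fintype.card F ∧ ∃ (e : (Unit ⊕ (Fin 4 ⊕ Fin 4)) ≃ (Fin 2 → Fin 3)) (P : Matrix.GeneralLinearGroup (Unit ⊕ (Fin 4 ⊕ Fin 4)) F) (f₁ : (Fin 3 → F) → (Fin 3 → F) → F), Cfsg.Geo.IsSymmetricForm f₁ ∧ Cfsg.Geo.IsTensorPowerFormStructure id (QuadraticMap.polar (Cfsg.quadFormOdd 4 F)) f₁ e P ∧ H = Cfsg.Geo.tensorWreathSubgroup 3 2 e P ⊓ Cfsg.Geo.omegaGL (Cfsg.quadFormOdd 4 F)) ∨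
    Cfsg.Geo.InOrthogonalResidualClass H := by
  have h2 : (2 : F) ≠ 0 := Cfsg.Agent.Aschbacher.odd_card_iff.mp hodd
  have hQ := Cfsg.Agent.Aschbacher.isNondegenerateQuadraticForm_odd (F := F) 4 h2
  have hc : Fintype.card (Unit ⊕ (Fin 4 ⊕ Fin 4)) = 9 := by simp
  cases Cfsg.Agent.Aschbacher.oddMax_cases hQ h2 (by rw [hc]; decide) (by omega)
    (Cfsg.Agent.Aschbacher.polar_quadFormOdd_gram 4) hH with
  | ts W h0 hts h => exact Or.inl ⟨W, h0, hts, h⟩
  | nd W h0 hev hnd hex h => exact Or.inr <| Or.inl ⟨W, h0, hev, hnd, hex, h⟩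
  | frame D hp hD h =>
      obtain ⟨D', hD', heq⟩ := Cfsg.Agent.Aschbacher.exists_decomp_cast hc D hD
      exact Or.inr <| Or.inr <| Or.inl ⟨hp, D', hD', by rw [heq]; exact h⟩
  | decomp t k D hk hex hD hcard h =>
      have ht := hD.decomp.decomp.two_le
      have hdk : k ∣ 9 := ⟨t, by rw [← hc, ← hcard, mul_comm]⟩
      have hk3 : k = 3 := by
        have := Nat.le_of_dvd (by norm_num) hdk
        interval_cases k <;> omega
      subst hk3
      obtain rfl : t = 3 := by omega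
      refine Or.inr <| Or.inr <| Or.inr <| Or.inl ⟨?_, D, hD, h⟩
      have := Fintype.one_lt_card (α := F)
      obtain ⟨j, hj⟩ := hodd
      by_contra hlt
      exact hex ⟨by omega, rfl⟩
  | fieldSA r K hr hdvd hne hK hsa h =>
      rw [hc] at hdvd hne
      obtain rfl : r = 3 := by
        have := hr.two_le
        have := Nat.le_of_dvd (by norm_num) hdvd
        interval_cases r <;> norm_num at *
      exact Or.inr <| Or.inr <| Or.inr <| Or.inr <| Or.inl ⟨K, hK, hsa, h⟩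
  | tensor n₁ n₂ h1 h12 hcard => nlinarith
  | subfld F₀ r P hr hF hrat h =>
      exact Or.inr <| Or.inr <| Or.inr <| Or.inr <| Or.inr <| Or.inl ⟨F₀, r, P, hr, hF, hrat, h⟩
  | power k t e P f₁ hk ht hne hcard hf₁ hs h =>
      rw [hc] at hcard
      obtain ⟨rfl, rfl⟩ : k = 3 ∧ t = 2 := by
        have h2t : 3 ^ t ≤ k ^ t := Nat.pow_le_pow_left hk t
        have ht2 : t ≤ 2 := by
          by_contra hlt
          have := Nat.pow_le_pow_right (show 0 < 3 by norm_num) (show 3 ≤ t by omega)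
          omega
        obtain rfl : t = 2 := by omega
        exact ⟨by nlinarith, rfl⟩
      have h5 : 5 ≤ Fintype.card F := by
        have := Fintype.one_lt_card (α := F)
        obtain ⟨j, hj⟩ := hodd
        by_contra hlt
        exact hne ⟨by omega, rfl⟩
      refine Or.inr <| Or.inr <| Or.inr <| Or.inr <| Or.inr <| Or.inr <| Or.inl
        ⟨h5, e, P, f₁, hf₁, hs, ?_⟩
      exact Cfsg.Agent.Aschbacher.eq_inf_of_isMaximalIn hH h
        (Cfsg.Agent.Aschbacher.omega_not_le_wreath_nine hodd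
          (Cfsg.Agent.S0292.result rfl hodd 4 (by norm_num)) e P)
  | residual h => exact Or.inr <| Or.inr <| Or.inr <| Or.inr <| Or.inr <| Or.inr <| Or.inr h

end Cfsg.Agent.S5835
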