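import Cfsg.Statements.S5850
import Cfsg.Agent.H96.EvenMax.Cases
import Cfsg.Agent.H96.EvenMax.FieldFive
import Cfsg.Agent.H96.EvenMax.Refute

set_option autoImplicit false
open Cfsg

namespace Cfsg.Agent.S5850

open Cfsg.Agent.H96.EvenMax

/-- Every maximal subgroup of Ω_10^-(q) is of one of the listed geometric types or lies in the residual class. Let F be a finite field with q elements (characteristic p), Q a non-degenerate quadratic form on F^10 of minus type (Witt index 4: no totally singular 5-space), Ω the commutator subgroup of its isometry group, and H a maximal subgroup of Ω (inside GL_10(F)). Then H is the intersection with Ω of one of: the stabiliser of a non-zero totally singular subspace; for q odd, the stabiliser of a non-degenerate subspace of odd dimension ≠ 5; the stabiliser of a non-degenerate 2-space of minus type; for q ≥ 4, the stabiliser of a non-degenerate 2-space of plus type; the stabiliser of a non-degenerate 4-space;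 for q even, the stabiliser of the span of a non-singular vector; for q = p prime with p ≡ 3 mod 4, the stabiliser of a decomposition into 10 pairwise orthogonal, pairwise isometric non-degenerate 1-spaces; for q ≠ 3, the stabiliser of a decomposition into 5 pairwise orthogonal, pairwise isometric non-degenerate 2-spaces; for q ≡ 3 mod 4, the stabiliser of a decomposition into 2 pairwise orthogonal, pairwise isometric non-degenerate 5-spaces; for q ≡ 1 mod 4, the stabiliser of a decomposition into two orthogonal, non-isometric non-degenerate 5-spaces; for q odd, the normaliser of a degree-2 subfield of the matrix algebra, self-adjoint for the polar form; the normaliser of a degree-2 subfield K, adjoint-closed but not self-adjoint, acting by similarities of Q; a subfield group (|F| = |F₀|^r, r odd prime) whose F₀-structure carries a non-zero multiple of Q — or else H lies in the residual class of the orthogonal case (modulo scalars H is almost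 simple, with absolutely irreducible perfect socle preimage realisable over no proper subfield and fixing no non-degenerate unitary form). -/
theorem result {F : Type*} [Field F] [Fintype F] (Q : (Fin 10 → F) → F) (hQ : Cfsg.Geo.IsNondegenerateQuadraticForm Q) (hminus : ¬ Cfsg.Geo.IsPlusTypeOn Q ⊤) (H : Subgroup (Matrix.GeneralLinearGroup (Fin 10) F)) (hH : Cfsg.Geo.IsMaximalIn (Cfsg.Geo.omegaGL Q) H) :
    (∃ W : Submodule F (Fin 10 → F), W ≠ ⊥ ∧ Cfsg.Geo.IsTotallySingularQuad Q W ∧ H = Cfsg.Geo.subspaceStabilizer W ⊓ Cfsg.Geo.omegaGL Q) ∨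
    (Odd (Fintype.card F) ∧ ∃ W : Submodule F (Fin 10 → F), W ≠ ⊥ ∧ W ≠ ⊤ ∧ Odd (Module.finrank F W) ∧ 2 * Module.finrank F W ≠ 10 ∧ Cfsg.Geo.IsNondegenerateOn (QuadraticMap.polar Q) W ∧ H = Cfsg.Geo.subspaceStabilizer W ⊓ Cfsg.Geo.omegaGL Q) ∨
    (∃ W : Submodule F (Fin 10 → F), Module.finrank F W = 2 ∧ Cfsg.Geo.IsNondegenerateOn (QuadraticMap.polar Q) W ∧ ¬ Cfsg.Geo.IsPlusTypeOn Q W ∧ H = Cfsg.Geo.subspaceStabilizer W ⊓ Cfsg.Geo.omegaGL Q) ∨
    (4 ≤ Fintype.card F ∧ ∃ W : Submodule F (Fin 10 → F), Module.finrank F W = 2 ∧ Cfsg.Geo.IsNondegenerateOn (QuadraticMap.polar Q) W ∧ Cfsg.Geo.IsPlusTypeOn Q W ∧ H = Cfsg.Geo.subspaceStabilizer W ⊓ Cfsg.Geo.omegaGL Q) ∨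
    (∃ W : Submodule F (Fin 10 → F), Module.finrank F W = 4 ∧ Cfsg.Geo.IsNondegenerateOn (QuadraticMap.polar Q) W ∧ H = Cfsg.Geo.subspaceStabilizer W ⊓ Cfsg.Geo.omegaGL Q) ∨
    (¬ Odd (Fintype.card F) ∧ ∃ v : (Fin 10 → F), Q v ≠ 0 ∧ H = Cfsg.Geo.subspaceStabilizer (Submodule.span F {v}) ⊓ Cfsg.Geo.omegaGL Q) ∨
    ((∃ p : ℕ, p.Prime ∧ Fintype.card F = p ∧ (p % 4 = 3)) ∧ ∃ D : Fin 10 → Submodule F (Fin 10 → F), Cfsg.Geo.IsOrthogonalMDecomposition Q 1 D ∧ H = Cfsg.Geo.decompositionStabilizer D ⊓ Cfsg.Geo.omegaGL Q) ∨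
    (Fintype.card F ≠ 3 ∧ ∃ D : Fin 5 → Submodule F (Fin 10 → F), Cfsg.Geo.IsOrthogonalMDecomposition Q 2 D ∧ H = Cfsg.Geo.decompositionStabilizer D ⊓ Cfsg.Geo.omegaGL Q) ∨
    (Fintype.card F % 4 = 3 ∧ ∃ D : Fin 2 → Submodule F (Fin 10 → F), Cfsg.Geo.IsOrthogonalMDecomposition Q 5 D ∧ H = Cfsg.Geo.decompositionStabilizer D ⊓ Cfsg.Geo.omegaGL Q) ∨
    (Fintype.card F % 4 = 1 ∧ ∃ D : Fin 2 → Submodule F (Fin 10 → F), Cfsg.Geo.IsNondegenerateMDecomposition (QuadraticMap.polar Q) 5 D ∧ ¬ Cfsg.Geo.AreIsometricFor Q (D 0) (D 1) ∧ H = Cfsg.Geo.decompositionStabilizer D ⊓ Cfsg.Geo.omegaGL Q) ∨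
    (Odd (Fintype.card F) ∧ ∃ K : Subalgebra F (Matrix (Fin 10) (Fin 10) F), Cfsg.Geo.IsFieldSubalgebra 2 K ∧ Cfsg.Geo.IsSelfAdjointFor (QuadraticMap.polar Q) K ∧ H = Cfsg.Geo.subalgebraNormalizer K ⊓ Cfsg.Geo.omegaGL Q) ∨
    (∃ K : Subalgebra F (Matrix (Fin 10) (Fin 10) F), Cfsg.Geo.IsFieldSubalgebra 2 K ∧ Cfsg.Geo.IsAdjointClosedFor (QuadraticMap.polar Q) K ∧ ¬ Cfsg.Geo.IsSelfAdjointFor (QuadraticMap.polar Q) K ∧ (∀ k ∈ K, ∃ c : F, ∀ v : (Fin 10 → F), Q (Matrix.mulVec k v) = c * Q v) ∧ H = Cfsg.Geo.subalgebraNormalizer K ⊓ Cfsg.Geo.omegaGL Q) ∨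
    (∃ (F₀ : Subfield F) (r : ℕ) (P : Matrix.GeneralLinearGroup (Fin 10) F) (ζ : F), r.Prime ∧ Odd r ∧ Fintype.card F = Nat.card F₀ ^ r ∧ ζ ≠ 0 ∧ Cfsg.Geo.IsQuadFormRationalStructure (fun v : Fin 10 → F => ζ * Q v) F₀ P ∧ H = Cfsg.Geo.subfieldSubgroup F₀ P ⊓ Cfsg.Geo.omegaGL Q) ∨
    Cfsg.Geo.InOrthogonalResidualClass H := by
  classical
  obtain ⟨Q, rfl, hN⟩ : ∃ Q' : QuadraticForm F (Fin 10 → F), ⇑Q' = Q ∧ Cfsg.Agent.Orthogonal.Nondeg Q' :=
    ⟨Cfsg.Agent.H96.asForm hQ, rfl, Cfsg.Agent.H96.asForm_nondeg hQ⟩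
  have hHQ := Cfsg.Agent.Aschbacher.fixesQuadForm_of_le_omegaGL hH.1.le
  have hc : Fintype.card (Fin 10) = 10 := Fintype.card_fin _
  cases Cfsg.Agent.Aschbacher.even_orthogonal_aschbacher hQ (by rw [hc]; decide) (by omega) hHQ with
  | ts W h0 hts h => exact Or.inl <| ⟨W, h0, hts, ts_eq hN (by omega) hH h0 hts h⟩
  | nd W h0 htop hW hk h =>
    rcases nd_cases hN hQ (by omega) hH h0 htop hW (by omega) h with
      ⟨hodd, W, h0, htop, ho, hk, hW, he⟩ | h | h | ⟨W, hev, h4, hk, hW, he⟩ | h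
    · exact Or.inr <| Or.inl <| ⟨hodd, W, h0, htop, ho, by omega, hW, he⟩
    · exact Or.inr <| Or.inr <| Or.inl <| h
    · exact Or.inr <| Or.inr <| Or.inr <| Or.inl <| h
    · exact Or.inr <| Or.inr <| Or.inr <| Or.inr <| Or.inl <| ⟨W, by omega, hW, he⟩
    · exact Or.inr <| Or.inr <| Or.inr <| Or.inr <| Or.inr <| Or.inl <| h
  | point v hev hv h =>
    exact Or.inr <| Or.inr <| Or.inr <| Or.inr <| Or.inr <| Or.inl <| ⟨not_odd_card hev, v, hv, point_eq hN (by omega) hH hv h⟩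
  | pair k D hk hD hniso hfix h =>
    obtain rfl : k = 5 := by omega
    obtain ⟨hs, ho, hn0, hn1⟩ := pair_sup hD
    have hd : Odd (Module.finrank F (D 0)) := by rw [hD.decomp.finrank_eq]; decide
    have hodd : Odd (Fintype.card F) := Cfsg.Agent.Aschbacher.odd_card_iff.2 fun h2 =>
      Nat.not_even_iff_odd.2 hd (Cfsg.Agent.Aschbacher.even_finrank_of_char_two hQ h2 (hD.nondegenerate 0))
    obtain ⟨c1, c2, c3, c4⟩ := odd_pair ho hn0 hn1 hd
      (by rw [hD.decomp.finrank_eq, hD.decomp.finrank_eq])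
    rw [hs] at c1 c2 c3 c4
    have hsq := mod_four_of_square hodd (by_contra fun hsq => hniso (c3 hminus hsq))
    exact Or.inr <| Or.inr <| Or.inr <| Or.inr <| Or.inr <| Or.inr <| Or.inr <| Or.inr <| Or.inr <| Or.inl <| ⟨hsq, D, hD, hniso, Cfsg.Agent.Aschbacher.eq_inf_of_isMaximalIn hH h (not_le_pair hN (five_le (by omega)) hD hniso (by omega) (by rw [Module.finrank_fin_fun]; omega))⟩
  | decomp t k D hk hD hcard h =>
    have he := decomp_eq hN (by omega) hH hD hk hcard h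
    have ht := hD.decomp.decomp.two_le
    have hkn : k ∣ 10 := ⟨t, by rw [← hc, ← hcard, mul_comm]⟩
    have := Nat.le_of_dvd (by norm_num) hkn
    rw [hc] at hcard
    obtain ⟨rfl, rfl⟩ | ⟨rfl, rfl⟩ : (k = 2 ∧ t = 5) ∨ (k = 5 ∧ t = 2) := by
      interval_cases k <;> omega
    · by_cases hq : Fintype.card F = 3
      · exact (false_of_between hH he (minus_planes_not_maximal hq le_rfl hD
          (fun i hi => hminus ((decomp_plus_iff hD (by decide) (by decide) i).2 hi)))).elim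
      exact Or.inr <| Or.inr <| Or.inr <| Or.inr <| Or.inr <| Or.inr <| Or.inr <| Or.inl <| ⟨hq, D, hD, he⟩
    · have hodd : Odd (Fintype.card F) := Cfsg.Agent.Aschbacher.odd_card_iff.2 fun h2 =>
        Nat.not_even_iff_odd.2 (show Odd (Module.finrank F (D 0)) by rw [hD.decomp.decomp.finrank_eq]; decide)
          (Cfsg.Agent.Aschbacher.even_finrank_of_char_two hQ h2 (hD.decomp.nondegenerate 0))
      have hsq := square_iff_of_decomp_two hD (by decide)
      exact Or.inr <| Or.inr <| Or.inr <| Or.inr <| Or.inr <| Or.inr <| Or.inr <| Or.inr <| Or.inl <| ⟨mod_four_of_not_square (mt hsq.2 hminus), D, hD, he⟩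
  | frame D hp hodd hD h =>
    obtain ⟨D', hD', he⟩ := frame_eq hN (by omega) hodd hH hD h
    have hsq := square_iff_of_frame (s := 5) hD' (by decide)
    exact Or.inr <| Or.inr <| Or.inr <| Or.inr <| Or.inr <| Or.inr <| Or.inl <| ⟨⟨_, hp, rfl, mod_four_of_not_square (mt hsq.2 hminus)⟩, D', hD', he⟩
  | tsPair k D hk hD hts h =>
    exact absurd (plus_top_of_totSing (hts 0) (by rw [hD.finrank_eq, hk])) hminus
  | fieldSA r K hr hdvd hne hK hsa heven h =>
    rw [hc] at hdvd hne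
    obtain rfl | rfl : r = 2 ∨ r = 5 := by
      have := hr.two_le
      have := Nat.le_of_dvd (by norm_num) hdvd
      interval_cases r <;> norm_num at *
    · have hodd : Odd (Fintype.card F) := Cfsg.Agent.Aschbacher.odd_card_iff.2 fun h2 => by
        obtain ⟨⟨j, hj⟩, -⟩ := heven h2
        omega
      exact Or.inr <| Or.inr <| Or.inr <| Or.inr <| Or.inr <| Or.inr <| Or.inr <| Or.inr <| Or.inr <| Or.inr <| Or.inl <| ⟨hodd, K, hK, hsa, field_eq hN (by omega) hH hK le_rfl h⟩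
    rcases field_five hN hc hK hsa (fun h2 => (heven h2).2) hH.1.le h with
      ⟨W, hts, hd, hle⟩ | ⟨K', hK', hA', hns', hsim', hle⟩
    · exact absurd (plus_top_of_totSing hts (by rw [hd, hc])) hminus
    · exact Or.inr <| Or.inr <| Or.inr <| Or.inr <| Or.inr <| Or.inr <| Or.inr <| Or.inr <| Or.inr <| Or.inr <| Or.inr <| Or.inl <| ⟨K', hK', hA', hns', hsim', field_eq hN (by omega) hH hK' le_rfl hle⟩
  | fieldU K hK hA hns hsim h =>
    exact Or.inr <| Or.inr <| Or.inr <| Or.inr <| Or.inr <| Or.inr <| Or.inr <| Or.inr <| Or.inr <| Or.inr <| Or.inr <| Or.inl <| ⟨K, hK, hA, hns, hsim, field_eq hN (by omega) hH hK le_rfl h⟩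
  | tensorSym a b e P f₁ f₂ hodd h1 h2 hcard _ _ _ _ =>
    rcases tensor_factors (by omega) h2 (hcard.trans hc) (by omega) with ⟨ha, -⟩ | ⟨-, hb⟩ <;> omega
  | tensorSymp a b e P f₁ f₂ h1 h2 hev₁ hev₂ hcard _ _ _ _ _ =>
    obtain ⟨i, rfl⟩ := hev₁
    obtain ⟨j, rfl⟩ := hev₂
    rcases tensor_factors h1 h2 (hcard.trans hc) (by omega) with ⟨ha, hb⟩ | ⟨ha, hb⟩ <;> omega
  | powerSym k t e P f₁ hodd hk hkev ht hcard _ _ _ =>
    obtain ⟨rfl, -⟩ := power_factors (by omega) hkev ht (hcard.trans hc) (by omega) (by omega)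
    omega
  | powerSymp k t e P f₁ hk hkev ht _ _ hcard _ _ _ _ =>
    obtain ⟨-, -, hh⟩ := power_factors hk hkev ht (hcard.trans hc) (by omega) (by omega)
    omega
  | subfld F₀ r P ζ hr hF hζ hrat h =>
    exact Or.inr <| Or.inr <| Or.inr <| Or.inr <| Or.inr <| Or.inr <| Or.inr <| Or.inr <| Or.inr <| Or.inr <| Or.inr <| Or.inr <| Or.inl <| ⟨F₀, r, P, ζ, hr, subfield_odd hN (by decide) (by omega) hminus hr hF hζ hrat, hF, hζ, hrat, subfield_eq hN (by omega) hH hr hF h⟩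
  | symp R p m hR habs _ hfixR hp hodd hF hcard hcen hn h =>
    rw [hc] at hn
    have : m < 4 := by
      by_contra hm
      have := Nat.pow_le_pow_right (show 0 < 2 by norm_num) (show 4 ≤ m by omega)
      omega
    interval_cases m <;> omega
  | residual h => exact Or.inr <| Or.inr <| Or.inr <| Or.inr <| Or.inr <| Or.inr <| Or.inr <| Or.inr <| Or.inr <| Or.inr <| Or.inr <| Or.inr <| Or.inr <| h

end Cfsg.Agent.S5850
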