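import Cfsg.Statements.S5853
import Cfsg.Agent.Aschbacher.LinearComposite

set_option autoImplicit false
open Cfsg

namespace Cfsg.Agent.S5853

open Cfsg.Agent.Aschbacher in
theorem result {F : Type*} [Field F] [Fintype F] (H : Subgroup (Matrix.GeneralLinearGroup (Fin 11) F)) (hH : Cfsg.Geo.IsMaximalIn (Cfsg.Geo.specialLinear (Fin 11) F) H) :
    (∃ W : Submodule F (Fin 11 → F), W ≠ ⊥ ∧ W ≠ ⊤ ∧ H = Cfsg.Geo.subspaceStabilizer W ⊓ Cfsg.Geo.specialLinear (Fin 11) F) ∨
    (5 ≤ Fintype.card F ∧ ∃ D : Fin 11 → Submodule F (Fin 11 → F), Cfsg.Geo.IsMDecomposition 1 D ∧ H = Cfsg.Geo.decompositionStabilizer D ⊓ Cfsg.Geo.specialLinear (Fin 11) F) ∨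
    (∃ K : Subalgebra F (Matrix (Fin 11) (Fin 11) F), Cfsg.Geo.IsFieldSubalgebra 11 K ∧ H = Cfsg.Geo.subalgebraNormalizer K ⊓ Cfsg.Geo.specialLinear (Fin 11) F) ∨
    (∃ (F₀ : Subfield F) (r : ℕ) (P : Matrix.GeneralLinearGroup (Fin 11) F), r.Prime ∧ Fintype.card F = Nat.card F₀ ^ r ∧ H = Cfsg.Geo.subfieldSubgroup F₀ P ⊓ Cfsg.Geo.specialLinear (Fin 11) F) ∨
    ((∃ p : ℕ, p.Prime ∧ CharP F p ∧ ((Fintype.card F = p ∧ p % 11 = 1) ∨ (Fintype.card F = p ^ 5 ∧ (p % 11 = 3 ∨ p % 11 = 4 ∨ p % 11 = 5 ∨ p % 11 = 9)))) ∧ ∃ R : Subgroup (Matrix.GeneralLinearGroup (Fin 11) F), Cfsg.Geo.IsLinearSymplecticTypeData 11 R ∧ H = Cfsg.Geo.subgroupNormalizer R ⊓ Cfsg.Geo.specialLinear (Fin 11) F) ∨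
    (Odd (Fintype.card F) ∧ ∃ Q : (Fin 11 → F) → F, Cfsg.Geo.IsNondegenerateQuadraticForm Q ∧ H = Cfsg.Geo.quadSimilarityGroup Q ⊓ Cfsg.Geo.specialLinear (Fin 11) F) ∨
    (∃ (σ : F ≃+* F) (f : (Fin 11 → F) → (Fin 11 → F) → F), Cfsg.Geo.IsUnitaryForm σ f ∧ H = Cfsg.Geo.similarityGroup f ⊓ Cfsg.Geo.specialLinear (Fin 11) F) ∨
    Cfsg.Geo.InLinearResidualClass H := by
  cases linear_maximal H (by simp) hH with
  | reducible W h1 h2 h => exact Or.inl ⟨W, h1, h2, h⟩
  | decomp t m D hD hcard hq h =>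
    rw [Fintype.card_fin] at hcard
    have ht := hD.two_le
    have ht' : t ≤ 11 := Nat.le_of_dvd (by norm_num) ⟨m, hcard.symm⟩
    interval_cases t
    · omega
    · omega
    · omega
    · omega
    · omega
    · omega
    · omega
    · omega
    · omega
    · obtain rfl : m = 1 := by omega
      exact Or.inr <| Or.inl ⟨hq rfl, D, hD, h⟩
  | field r K hr hdvd hK h =>
    rw [Fintype.card_fin] at hdvd
    have hr' : r ≤ 11 := Nat.le_of_dvd (by norm_num) hdvd
    have hr2 := hr.two_le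
    interval_cases r
    · omega
    · omega
    · omega
    · omega
    · omega
    · omega
    · omega
    · omega
    · omega
    · exact Or.inr <| Or.inr <| Or.inl ⟨K, hK, h⟩
  | tensor n₁ n₂ e P h1 h2 hcard h =>
    rw [Fintype.card_fin] at hcard
    have hn : n₁ ≤ 11 := Nat.le_of_dvd (by norm_num) ⟨n₂, hcard.symm⟩
    interval_cases n₁
    · omega
    · omega
    · omega
    · omega
    · omega
    · omega
    · omega
    · omega
    · omega
    · omega
  | subfld F₀ r P hr hF h => exact Or.inr <| Or.inr <| Or.inr <| Or.inl ⟨F₀, r, P, hr, hF, h⟩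
  | symp r m R hm hcard hR hcardR h =>
    rw [Fintype.card_fin] at hcard
    obtain rfl : r = 11 := (Nat.prime_dvd_prime_iff_eq hR.symplecticType.prime (by norm_num)).mp
      (hR.symplecticType.prime.dvd_of_dvd_pow (n := 1) (by
        rw [show 11 ^ 1 = r ^ m by rw [← hcard]; norm_num]; exact dvd_pow_self r (by omega)))
    obtain ⟨p, e, hp, hc, hF, he, hz, hmin⟩ := symp_odd_cases hR (by norm_num)
    have hp0 : p % 11 ≠ 0 := fun h0 => by
      rw [Nat.pow_mod, h0, Nat.zero_pow (by obtain ⟨k, rfl⟩ := he; omega)] at hz; omega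
    have hlt : p % 11 < 11 := Nat.mod_lt _ (by norm_num)
    have he10 : e ≤ 10 := by
      by_contra hne
      refine hmin 10 (by norm_num) (by omega) ?_
      rw [Nat.pow_mod]
      interval_cases h : p % 11 <;> omega
    have hcases : (Fintype.card F = p ∧ p % 11 = 1) ∨ (Fintype.card F = p ^ 5 ∧
        (p % 11 = 3 ∨ p % 11 = 4 ∨ p % 11 = 5 ∨ p % 11 = 9)) := by
      rcases he with ⟨k, hk⟩
      have h1 : 1 < e → p % 11 ≠ 1 := fun he1 h' => hmin 1 one_pos he1 (by rw [pow_one]; exact h')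
      rw [Nat.pow_mod] at hz
      interval_cases e
      all_goals first
        | omega
        | exact Or.inl ⟨by rw [hF, pow_one], by simpa using hz⟩
        | (have := h1 (by norm_num); refine Or.inr ⟨hF, ?_⟩; interval_cases h : p % 11 <;> omega)
        | (exfalso; have := h1 (by norm_num); interval_cases h : p % 11 <;> omega)
    exact Or.inr <| Or.inr <| Or.inr <| Or.inr <| Or.inl ⟨⟨p, hp, hc, hcases⟩, R, hR, h⟩
  | wreath m t e P h1 h2 hcard h =>
    rw [Fintype.card_fin] at hcard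
    have hm2 : m * m ≤ 11 := by
      rw [← pow_two, hcard]; exact Nat.pow_le_pow_right (by omega) h2
    obtain rfl : m = 3 := by nlinarith
    have : t < 3 := by
      by_contra hlt
      have := Nat.pow_le_pow_right (by norm_num : 3 > 0) (not_lt.mp hlt)
      omega
    interval_cases t
    omega
  | sympForm f hf hev h => exact absurd hev (by simp; decide)
  | unitForm σ f hf h => exact Or.inr <| Or.inr <| Or.inr <| Or.inr <| Or.inr <| Or.inr <| Or.inl ⟨σ, f, hf, h⟩
  | quadForm Q hQ hodd h => exact Or.inr <| Or.inr <| Or.inr <| Or.inr <| Or.inr <| Or.inl ⟨hodd, Q, hQ, h⟩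
  | residual h => exact Or.inr <| Or.inr <| Or.inr <| Or.inr <| Or.inr <| Or.inr <| Or.inr <| h

end Cfsg.Agent.S5853
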