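import Cfsg.Statements.S5871
import Cfsg.Agent.H96.EvenMax.Cases
import Cfsg.Agent.H96.EvenMax.Refute
import Cfsg.Agent.H96.EvenMax.TensorThreeFour
import Cfsg.Agent.H96.EvenMax.SmallField

set_option autoImplicit false
open Cfsg

namespace Cfsg.Agent.S5871

open Cfsg.Agent.H96.EvenMax

/-- Every maximal subgroup of Ω_12^+(q) is of one of the listed geometric types or lies in the residual class. Let F be a finite field with q elements (characteristic p), Q a non-degenerate quadratic form on F^12 of plus type (Witt index 6: some totally singular 6-space), Ω the commutator subgroup of its isometry group, and H a maximal subgroup of Ω (inside GL_12(F)). Then H is the intersection with Ω of one of: the stabiliser of a non-zero totally singular subspace of dimension ≠ 5; for q odd, the stabiliser of a non-degenerate subspace of odd dimension; the stabiliser of a non-degenerate 2-space of minus type; for q ≥ 4, the stabiliser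 of a non-degenerate 2-space of plus type; the stabiliser of a non-degenerate 4-space; for q even, the stabiliser of the span of a non-singular vector; for q = p an odd prime, the stabiliser of a decomposition into 12 pairwise orthogonal, pairwise isometric non-degenerate 1-spaces; for q ≥ 7, the stabiliser of a decomposition into 6 pairwise orthogonal, pairwise isometric non-degenerate 2-spaces of plus type; for q ≠ 3, the stabiliser of a decomposition into 6 pairwise orthogonal, pairwise isometric non-degenerate 2-spaces of minus type; for q odd with q ≥ 5, the stabiliser of a decomposition into 4 pairwise orthogonal, pairwise isometric non-degenerate 3-spaces; for q ≥ 3, the stabiliser of a decomposition into 3 pairwise orthogonal, pairwise isometric non-degenerate 4-spaces; the stabiliser of a decomposition into 2 pairwise orthogonal, pairwise isometric non-degenerate 6-spaces; of a decomposition into two totally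 singular 6-spaces; the normaliser of a degree-2 subfield of the matrix algebra; the normaliser of a degree-3 subfield of the matrix algebra; the normaliser of a degree-2 subfield K, adjoint-closed but not self-adjoint, acting by similarities of Q; for q ≥ 3, the stabiliser of a tensor decomposition of Q into alternating forms on F^2 and F^6 (Q vanishing on pure tensors); a subfield group (|F| = |F₀|^r, r prime) whose F₀-structure carries a non-zero multiple of Q — or else H lies in the residual class of the orthogonal case (modulo scalars H is almost simple, with absolutely irreducible perfect socle preimage realisable over no proper subfield and fixing no non-degenerate unitary form). -/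
theorem result {F : Type*} [Field F] [Fintype F] (Q : (Fin 12 → F) → F) (hQ : Cfsg.Geo.IsNondegenerateQuadraticForm Q) (hplus : Cfsg.Geo.IsPlusTypeOn Q ⊤) (H : Subgroup (Matrix.GeneralLinearGroup (Fin 12) F)) (hH : Cfsg.Geo.IsMaximalIn (Cfsg.Geo.omegaGL Q) H) :
    (∃ W : Submodule F (Fin 12 → F), W ≠ ⊥ ∧ Cfsg.Geo.IsTotallySingularQuad Q W ∧ Module.finrank F W ≠ 5 ∧ H = Cfsg.Geo.subspaceStabilizer W ⊓ Cfsg.Geo.omegaGL Q) ∨
    (Odd (Fintype.card F) ∧ ∃ W : Submodule F (Fin 12 → F), W ≠ ⊥ ∧ W ≠ ⊤ ∧ Odd (Module.finrank F W) ∧ 2 * Module.finrank F W ≠ 12 ∧ Cfsg.Geo.IsNondegenerateOn (QuadraticMap.polar Q) W ∧ H = Cfsg.Geo.subspaceStabilizer W ⊓ Cfsg.Geo.omegaGL Q) ∨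
    (∃ W : Submodule F (Fin 12 → F), Module.finrank F W = 2 ∧ Cfsg.Geo.IsNondegenerateOn (QuadraticMap.polar Q) W ∧ ¬ Cfsg.Geo.IsPlusTypeOn Q W ∧ H = Cfsg.Geo.subspaceStabilizer W ⊓ Cfsg.Geo.omegaGL Q) ∨
    (4 ≤ Fintype.card F ∧ ∃ W : Submodule F (Fin 12 → F), Module.finrank F W = 2 ∧ Cfsg.Geo.IsNondegenerateOn (QuadraticMap.polar Q) W ∧ Cfsg.Geo.IsPlusTypeOn Q W ∧ H = Cfsg.Geo.subspaceStabilizer W ⊓ Cfsg.Geo.omegaGL Q) ∨
    (∃ W : Submodule F (Fin 12 → F), Module.finrank F W = 4 ∧ Cfsg.Geo.IsNondegenerateOn (QuadraticMap.polar Q) W ∧ H = Cfsg.Geo.subspaceStabilizer W ⊓ Cfsg.Geo.omegaGL Q) ∨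
    (¬ Odd (Fintype.card F) ∧ ∃ v : (Fin 12 → F), Q v ≠ 0 ∧ H = Cfsg.Geo.subspaceStabilizer (Submodule.span F {v}) ⊓ Cfsg.Geo.omegaGL Q) ∨
    ((∃ p : ℕ, p.Prime ∧ Odd p ∧ Fintype.card F = p) ∧ ∃ D : Fin 12 → Submodule F (Fin 12 → F), Cfsg.Geo.IsOrthogonalMDecomposition Q 1 D ∧ H = Cfsg.Geo.decompositionStabilizer D ⊓ Cfsg.Geo.omegaGL Q) ∨
    (7 ≤ Fintype.card F ∧ ∃ D : Fin 6 → Submodule F (Fin 12 → F), Cfsg.Geo.IsOrthogonalMDecomposition Q 2 D ∧ (∀ i, Cfsg.Geo.IsPlusTypeOn Q (D i)) ∧ H = Cfsg.Geo.decompositionStabilizer D ⊓ Cfsg.Geo.omegaGL Q) ∨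
    (Fintype.card F ≠ 3 ∧ ∃ D : Fin 6 → Submodule F (Fin 12 → F), Cfsg.Geo.IsOrthogonalMDecomposition Q 2 D ∧ (∀ i, ¬ Cfsg.Geo.IsPlusTypeOn Q (D i)) ∧ H = Cfsg.Geo.decompositionStabilizer D ⊓ Cfsg.Geo.omegaGL Q) ∨
    (Odd (Fintype.card F) ∧ 5 ≤ Fintype.card F ∧ ∃ D : Fin 4 → Submodule F (Fin 12 → F), Cfsg.Geo.IsOrthogonalMDecomposition Q 3 D ∧ H = Cfsg.Geo.decompositionStabilizer D ⊓ Cfsg.Geo.omegaGL Q) ∨
    (3 ≤ Fintype.card F ∧ ∃ D : Fin 3 → Submodule F (Fin 12 → F), Cfsg.Geo.IsOrthogonalMDecomposition Q 4 D ∧ H = Cfsg.Geo.decompositionStabilizer D ⊓ Cfsg.Geo.omegaGL Q) ∨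
    (∃ D : Fin 2 → Submodule F (Fin 12 → F), Cfsg.Geo.IsOrthogonalMDecomposition Q 6 D ∧ H = Cfsg.Geo.decompositionStabilizer D ⊓ Cfsg.Geo.omegaGL Q) ∨
    (∃ D : Fin 2 → Submodule F (Fin 12 → F), Cfsg.Geo.IsMDecomposition 6 D ∧ (∀ i, Cfsg.Geo.IsTotallySingularQuad Q (D i)) ∧ H = Cfsg.Geo.decompositionStabilizer D ⊓ Cfsg.Geo.omegaGL Q) ∨
    (∃ K : Subalgebra F (Matrix (Fin 12) (Fin 12) F), Cfsg.Geo.IsFieldSubalgebra 2 K ∧ H = Cfsg.Geo.subalgebraNormalizer K ⊓ Cfsg.Geo.omegaGL Q) ∨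
    (∃ K : Subalgebra F (Matrix (Fin 12) (Fin 12) F), Cfsg.Geo.IsFieldSubalgebra 3 K ∧ H = Cfsg.Geo.subalgebraNormalizer K ⊓ Cfsg.Geo.omegaGL Q) ∨
    (∃ K : Subalgebra F (Matrix (Fin 12) (Fin 12) F), Cfsg.Geo.IsFieldSubalgebra 2 K ∧ Cfsg.Geo.IsAdjointClosedFor (QuadraticMap.polar Q) K ∧ ¬ Cfsg.Geo.IsSelfAdjointFor (QuadraticMap.polar Q) K ∧ (∀ k ∈ K, ∃ c : F, ∀ v : (Fin 12 → F), Q (Matrix.mulVec k v) = c * Q v) ∧ H = Cfsg.Geo.subalgebraNormalizer K ⊓ Cfsg.Geo.omegaGL Q) ∨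
    (3 ≤ Fintype.card F ∧ ∃ (e : Fin 12 ≃ Fin 2 × Fin 6) (P : Matrix.GeneralLinearGroup (Fin 12) F) (f₁ : (Fin 2 → F) → (Fin 2 → F) → F) (f₂ : (Fin 6 → F) → (Fin 6 → F) → F), Cfsg.Geo.IsSymplecticForm f₁ ∧ Cfsg.Geo.IsSymplecticForm f₂ ∧ Cfsg.Geo.IsTensorFormStructure id (QuadraticMap.polar Q) f₁ f₂ e P ∧ (∀ (x₁ : Fin 2 → F) (x₂ : Fin 6 → F), Q (Matrix.mulVec (P : Matrix (Fin 12) (Fin 12) F) ((fun a : Fin 2 × Fin 6 => x₁ a.1 * x₂ a.2) ∘ e)) = 0) ∧ H = Cfsg.Geo.tensorProductSubgroup 2 6 e P ⊓ Cfsg.Geo.omegaGL Q) ∨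
    (∃ (F₀ : Subfield F) (r : ℕ) (P : Matrix.GeneralLinearGroup (Fin 12) F) (ζ : F), r.Prime ∧ Fintype.card F = Nat.card F₀ ^ r ∧ ζ ≠ 0 ∧ Cfsg.Geo.IsQuadFormRationalStructure (fun v : Fin 12 → F => ζ * Q v) F₀ P ∧ H = Cfsg.Geo.subfieldSubgroup F₀ P ⊓ Cfsg.Geo.omegaGL Q) ∨
    Cfsg.Geo.InOrthogonalResidualClass H := by
  classical
  obtain ⟨Q, rfl, hN⟩ : ∃ Q' : QuadraticForm F (Fin 12 → F), ⇑Q' = Q ∧ Cfsg.Agent.Orthogonal.Nondeg Q' :=
    ⟨Cfsg.Agent.H96.asForm hQ, rfl, Cfsg.Agent.H96.asForm_nondeg hQ⟩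
  have hHQ := Cfsg.Agent.Aschbacher.fixesQuadForm_of_le_omegaGL hH.1.le
  have hc : Fintype.card (Fin 12) = 12 := Fintype.card_fin _
  cases Cfsg.Agent.Aschbacher.even_orthogonal_aschbacher hQ (by rw [hc]; decide) (by omega) hHQ with
  | ts W h0 hts h =>
    by_cases hd : Module.finrank F W = 5
    · obtain ⟨W₁, hts₁, hd₁, h₁⟩ := exists_ts_lift hN (m := 6) (by omega) hplus hH.1.le hts (by omega) h
      have h0₁ : W₁ ≠ ⊥ := fun hb => by rw [hb, finrank_bot] at hd₁; omega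
      exact Or.inl <| ⟨W₁, h0₁, hts₁, by omega, ts_eq hN (by omega) hH h0₁ hts₁ h₁⟩
    exact Or.inl <| ⟨W, h0, hts, hd, ts_eq hN (by omega) hH h0 hts h⟩
  | nd W h0 htop hW hk h =>
    rcases nd_cases hN hQ (by omega) hH h0 htop hW (by omega) h with
      ⟨hodd, W, h0, htop, ho, hk, hW, he⟩ | h | h | ⟨W, hev, h4, hk, hW, he⟩ | h
    · exact Or.inr <| Or.inl <| ⟨hodd, W, h0, htop, ho, by omega, hW, he⟩
    · exact Or.inr <| Or.inr <| Or.inl <| h
    · exact Or.inr <| Or.inr <| Or.inr <| Or.inl <| h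
    · exact Or.inr <| Or.inr <| Or.inr <| Or.inr <| Or.inl <| ⟨W, by omega, hW, he⟩
    · exact Or.inr <| Or.inr <| Or.inr <| Or.inr <| Or.inr <| Or.inl <| h
  | point v hev hv h =>
    exact Or.inr <| Or.inr <| Or.inr <| Or.inr <| Or.inr <| Or.inl <| ⟨not_odd_card hev, v, hv, point_eq hN (by omega) hH hv h⟩
  | pair k D hk hD hniso hfix h =>
    obtain ⟨hs, ho, hn0, hn1⟩ := pair_sup hD
    have hd : ∀ i, Module.finrank F (D i) = 6 := fun i => by rw [hD.decomp.finrank_eq]; omega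
    refine absurd (iso_of_type hn0 hn1 (by rw [hd]; decide) (by rw [hd, hd]) ⟨fun h0 => ?_, fun h1 => ?_⟩) hniso
    · by_contra h1
      refine not_plus_sup ho.symm hn1 hn0 h1 h0 ?_
      rw [sup_comm, hs]; exact hplus
    · by_contra h0
      refine not_plus_sup ho hn0 hn1 h0 h1 ?_
      rw [hs]; exact hplus
  | decomp t k D hk hD hcard h =>
    have he := decomp_eq hN (by omega) hH hD hk hcard h
    have ht := hD.decomp.decomp.two_le
    have hkn : k ∣ 12 := ⟨t, by rw [← hc, ← hcard, mul_comm]⟩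
    have := Nat.le_of_dvd (by norm_num) hkn
    rw [hc] at hcard
    obtain ⟨rfl, rfl⟩ | ⟨rfl, rfl⟩ | ⟨rfl, rfl⟩ | ⟨rfl, rfl⟩ :
        (k = 2 ∧ t = 6) ∨ (k = 3 ∧ t = 4) ∨ (k = 4 ∧ t = 3) ∨ (k = 6 ∧ t = 2) := by
      interval_cases k <;> omega
    · have hty : (∀ i, Cfsg.Geo.IsPlusTypeOn (⇑Q) (D i)) ∨ ∀ i, ¬ Cfsg.Geo.IsPlusTypeOn (⇑Q) (D i) :=
        plus_all_or_none hD
      rcases hty with hp | hm
      · by_cases hq : 7 ≤ Fintype.card F
        · exact Or.inr <| Or.inr <| Or.inr <| Or.inr <| Or.inr <| Or.inr <| Or.inr <| Or.inl <| ⟨hq, D, hD, hp, he⟩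
        exact (false_of_between hH he
          (plus_planes_not_maximal (by omega) (by omega) hN hD hp (card_le_six hq))).elim
      · by_cases hq : Fintype.card F = 3
        · exact (false_of_between hH he (minus_planes_not_maximal hq (by omega) hD hm)).elim
        exact Or.inr <| Or.inr <| Or.inr <| Or.inr <| Or.inr <| Or.inr <| Or.inr <| Or.inr <| Or.inl <| ⟨hq, D, hD, hm, he⟩
    · have hodd : Odd (Fintype.card F) := Cfsg.Agent.Aschbacher.odd_card_iff.2 fun h2 =>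
        Nat.not_even_iff_odd.2 (show Odd (Module.finrank F (D 0)) by rw [hD.decomp.decomp.finrank_eq]; decide)
          (Cfsg.Agent.Aschbacher.even_finrank_of_char_two hQ h2 (hD.decomp.nondegenerate 0))
      by_cases hq : Fintype.card F = 3
      · have h2 := Cfsg.Agent.Aschbacher.odd_card_iff.1 hodd
        obtain ⟨D', hD', hle⟩ := Cfsg.Agent.Aschbacher.frame_of_three h2 hq hD (by rw [hc]) hHQ h
        obtain ⟨D'', hD'', he'⟩ := frame_eq hN (by omega) h2 hH hD' hle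
        exact Or.inr <| Or.inr <| Or.inr <| Or.inr <| Or.inr <| Or.inr <| Or.inl <| ⟨⟨3, Nat.prime_three, by decide, hq⟩, D'', hD'', he'⟩
      have := Fintype.one_lt_card (α := F)
      obtain ⟨j, hj⟩ := id hodd
      exact Or.inr <| Or.inr <| Or.inr <| Or.inr <| Or.inr <| Or.inr <| Or.inr <| Or.inr <| Or.inr <| Or.inl <| ⟨hodd, by omega, D, hD, he⟩
    · by_cases hq : 3 ≤ Fintype.card F
      · exact Or.inr <| Or.inr <| Or.inr <| Or.inr <| Or.inr <| Or.inr <| Or.inr <| Or.inr <| Or.inr <| Or.inr <| Or.inl <| ⟨hq, D, hD, he⟩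
      have := Fintype.one_lt_card (α := F)
      exact (false_of_between hH he (plus_solids_not_maximal (by omega) le_rfl hN hD
        (fun i => (decomp_plus_iff hD (by decide) (by decide) i).1 hplus) (by omega))).elim
    · exact Or.inr <| Or.inr <| Or.inr <| Or.inr <| Or.inr <| Or.inr <| Or.inr <| Or.inr <| Or.inr <| Or.inr <| Or.inr <| Or.inl <| ⟨D, hD, he⟩
  | frame D hp hodd hD h =>
    obtain ⟨D', hD', he⟩ := frame_eq hN (by omega) hodd hH hD h
    exact Or.inr <| Or.inr <| Or.inr <| Or.inr <| Or.inr <| Or.inr <| Or.inl <| ⟨⟨_, hp, Cfsg.Agent.Aschbacher.odd_card_iff.2 hodd, rfl⟩, D', hD', he⟩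
  | tsPair k D hk hD hts h =>
    obtain rfl : k = 6 := by omega
    exact Or.inr <| Or.inr <| Or.inr <| Or.inr <| Or.inr <| Or.inr <| Or.inr <| Or.inr <| Or.inr <| Or.inr <| Or.inr <| Or.inr <| Or.inl <| ⟨D, hD, hts, Cfsg.Agent.Aschbacher.eq_inf_of_isMaximalIn hH h (not_le_tsPair hN (five_le (by omega)) hD hk hts)⟩
  | fieldSA r K hr hdvd hne hK hsa heven h =>
    rw [hc] at hdvd hne
    obtain rfl | rfl : r = 2 ∨ r = 3 := by
      have := hr.two_le
      have := Nat.le_of_dvd (by norm_num) hdvd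
      interval_cases r <;> norm_num at *
    · exact Or.inr <| Or.inr <| Or.inr <| Or.inr <| Or.inr <| Or.inr <| Or.inr <| Or.inr <| Or.inr <| Or.inr <| Or.inr <| Or.inr <| Or.inr <| Or.inl <| ⟨K, hK, field_eq hN (by omega) hH hK le_rfl h⟩
    · exact Or.inr <| Or.inr <| Or.inr <| Or.inr <| Or.inr <| Or.inr <| Or.inr <| Or.inr <| Or.inr <| Or.inr <| Or.inr <| Or.inr <| Or.inr <| Or.inr <| Or.inl <| ⟨K, hK, field_eq hN (by omega) hH hK (by omega) h⟩
  | fieldU K hK hA hns hsim h =>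
    exact Or.inr <| Or.inr <| Or.inr <| Or.inr <| Or.inr <| Or.inr <| Or.inr <| Or.inr <| Or.inr <| Or.inr <| Or.inr <| Or.inr <| Or.inr <| Or.inr <| Or.inr <| Or.inl <| ⟨K, hK, hA, hns, hsim, field_eq hN (by omega) hH hK le_rfl h⟩
  | tensorSym a b e P f₁ f₂ hodd h1 h2 hcard hf₁ hf₂ hs h =>
    obtain ⟨rfl, rfl⟩ : a = 3 ∧ b = 4 := by
      rcases tensor_factors (by omega) h2 (hcard.trans hc) (by omega) with ⟨ha, -⟩ | ⟨ha, hb⟩ <;> omega
    have hp2 : Cfsg.Geo.IsPlusTypeOn (fun v : Fin 4 → F => f₂ v v) ⊤ :=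
      by_contra fun hm => not_plus_of_minus_factor hN hodd hf₁ hf₂ hs hm hplus
    obtain ⟨e', P', g₁, g₂, hg₁, hg₂, hs', hQ0, hle⟩ :=
      exists_two_six hN hodd hc hf₁ hf₂ hs hp2 hH.1.le h
    have hq : 3 ≤ Fintype.card F := by
      have := Fintype.one_lt_card (α := F)
      have := (Cfsg.Agent.Aschbacher.odd_card_iff.2 hodd : Odd (Fintype.card F))
      obtain ⟨j, hj⟩ := this
      omega
    exact Or.inr <| Or.inr <| Or.inr <| Or.inr <| Or.inr <| Or.inr <| Or.inr <| Or.inr <| Or.inr <| Or.inr <| Or.inr <| Or.inr <| Or.inr <| Or.inr <| Or.inr <| Or.inr <| Or.inl <| ⟨hq, e', P', g₁, g₂, hg₁, hg₂, hs', hQ0, Cfsg.Agent.Aschbacher.eq_inf_of_isMaximalIn hH hle (not_le_tensorSymp hN (five_le (by omega)) le_rfl (by omega) hg₁ hg₂ hs' hQ0)⟩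
  | tensorSymp a b e P f₁ f₂ h1 h2 hev₁ hev₂ hcard hf₁ hf₂ hs hQ0 h =>
    obtain ⟨rfl, rfl⟩ : a = 2 ∧ b = 6 := by
      obtain ⟨i, hi⟩ := hev₁
      rcases tensor_factors h1 h2 (hcard.trans hc) (by omega) with ⟨ha, hb⟩ | ⟨ha, hb⟩ <;> omega
    have he := Cfsg.Agent.Aschbacher.eq_inf_of_isMaximalIn hH h
      (not_le_tensorSymp hN (five_le (by omega)) le_rfl (by omega) hf₁ hf₂ hs hQ0)
    by_cases hq : 3 ≤ Fintype.card F
    · exact Or.inr <| Or.inr <| Or.inr <| Or.inr <| Or.inr <| Or.inr <| Or.inr <| Or.inr <| Or.inr <| Or.inr <| Or.inr <| Or.inr <| Or.inr <| Or.inr <| Or.inr <| Or.inr <| Or.inl <| ⟨hq, e, P, f₁, f₂, hf₁, hf₂, hs, hQ0, he⟩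
    have := Fintype.one_lt_card (α := F)
    exact (false_of_between hH he (tensorSymp_two_not_maximal (by omega) _ hQ (by omega) 6 (by omega) e P f₁ f₂
      hf₁ hf₂ hs hQ0)).elim
  | powerSym k t e P f₁ hodd hk hkev ht hcard _ _ _ =>
    obtain ⟨rfl, -⟩ := power_factors (by omega) hkev ht (hcard.trans hc) (by omega) (by omega)
    omega
  | powerSymp k t e P f₁ hk hkev ht _ _ hcard _ _ _ _ =>
    obtain ⟨-, -, hh⟩ := power_factors hk hkev ht (hcard.trans hc) (by omega) (by omega)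
    omega
  | subfld F₀ r P ζ hr hF hζ hrat h =>
    exact Or.inr <| Or.inr <| Or.inr <| Or.inr <| Or.inr <| Or.inr <| Or.inr <| Or.inr <| Or.inr <| Or.inr <| Or.inr <| Or.inr <| Or.inr <| Or.inr <| Or.inr <| Or.inr <| Or.inr <| Or.inl <| ⟨F₀, r, P, ζ, hr, hF, hζ, hrat, subfield_eq hN (by omega) hH hr hF h⟩
  | symp R p m hR habs _ hfixR hp hodd hF hcard hcen hn h =>
    rw [hc] at hn
    have : m < 4 := by
      by_contra hm
      have := Nat.pow_le_pow_right (show 0 < 2 by norm_num) (show 4 ≤ m by omega)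
      omega
    interval_cases m <;> omega
  | residual h => exact Or.inr <| Or.inr <| Or.inr <| Or.inr <| Or.inr <| Or.inr <| Or.inr <| Or.inr <| Or.inr <| Or.inr <| Or.inr <| Or.inr <| Or.inr <| Or.inr <| Or.inr <| Or.inr <| Or.inr <| Or.inr <| h

end Cfsg.Agent.S5871
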