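import Cfsg.Statements.S5873
import Cfsg.Agent.H98.OrthMax.TotSing
import Cfsg.Agent.H98.OrthMax.Point
import Cfsg.Agent.H98.OrthMax.NondegWrap
import Cfsg.Agent.H98.OrthDecomp.Main
import Cfsg.Agent.H57.ExtOrth.Main
import Cfsg.Agent.H97.OmegaEight.Eight
import Cfsg.Agent.H69.OmegaTwelve.Nondeg
import Cfsg.Agent.H69.OmegaTwelve.BlocksMain
import Cfsg.Agent.H69.OmegaTwelve.SubfieldMain
import Cfsg.Agent.H69.OmegaTwelve.Tens.Wrap

set_option autoImplicit false
open Cfsg

namespace Cfsg.Agent.S5873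

open Module Cfsg.Agent.Orthogonal Cfsg.Agent.H98.OrthMax

theorem omegaGL_congr {F : Type*} [Field F] {ι : Type} [Fintype ι] [DecidableEq ι] {Q Q' : (ι → F) → F}
    (h : Cfsg.isometryGroup F Q = Cfsg.isometryGroup F Q') : Cfsg.Geo.omegaGL Q = Cfsg.Geo.omegaGL Q' := by
  unfold Cfsg.Geo.omegaGL Cfsg.Omega
  rw [h]

theorem nondeg_twelve {F : Type*} [Field F] [Fintype F] {Q : QuadraticForm F (Fin 12 → F)} (hN : Nondeg Q)
    {W : Submodule F (Fin 12 → F)} (hW0 : W ≠ ⊥) (hW1 : W ≠ ⊤)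
    (hW : Cfsg.Geo.IsNondegenerateOn (QuadraticMap.polar ⇑Q) W)
    (hhalf : finrank F W = 6 → ∀ g : O Q, ∃ v ∈ perp Q W, (g : (Fin 12 → F) ≃ₗ[F] (Fin 12 → F)) v ∉ W)
    (hex : ∀ T, T = W ∨ T = perp Q W → finrank F T = 2 → (∃ x ∈ T, x ≠ 0 ∧ Q x = 0) → 4 ≤ Fintype.card F) :
    Cfsg.Geo.IsMaximalIn (Cfsg.Geo.omegaGL ⇑Q) (Cfsg.Geo.subspaceStabilizer W ⊓ Cfsg.Geo.omegaGL ⇑Q) := by
  have hd : finrank F (Fin 12 → F) = 12 := Module.finrank_fin_fun F
  have hr := hN.finrank_add_perp W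
  have hWn : Nondeg (restr Q W) := nondeg_restr_of_nondegenerateOn hW
  rcases Nat.lt_or_ge (finrank F (perp Q W)) (finrank F W) with h | h
  · rw [← stabilizer_inf_omega_perp hN W]
    refine H69.OmegaTwelve.isMaximalIn_nondeg_six hN (by omega) (fun h0 => hW1 ?_) (hN.nondeg_perp hWn)
      (by rw [hN.perp_perp]; omega) (fun g => ?_) (hex _ (Or.inr rfl))
    · rw [← hN.perp_perp W, h0, perp_bot]
    · rw [hN.perp_perp]
      exact exists_not_mem_of_lt h g
  · refine H69.OmegaTwelve.isMaximalIn_nondeg_six hN (by omega) hW0 hWn (by omega) (fun g => ?_) (hex _ (Or.inl rfl))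
    rcases h.lt_or_eq with hlt | heq
    · exact exists_not_mem_of_lt hlt g
    · exact hhalf (by omega) g

/-- Maximal subgroups of Ω_12^-(q) of geometric type (any q). Let F be a finite field with q elements (characteristic p), Q a non-degenerate quadratic form on F^12 (non-degenerate polar form) of minus type (Witt index 5: no totally singular 6-space), and Ω = Ω_12^-(q) the commutator subgroup of the isometry group of Q, inside GL_12(F). Each of the following, intersected with Ω, is a maximal subgroup of Ω: (1) the stabiliser of any non-zero subspace on which Q vanishes identically (totally singular subspaces, dimensions 1 to 5); (2) for q odd, the stabiliser of any subspace of odd dimension on which the polar form of Q is non-degenerate; (3) the stabiliser of any non-degenerate 2-space of minus type (containing no non-zero singular vector); (4) for q ≥ 4, the stabiliser of any non-degenerate 2-space of plus type (containing a non-zero singular vector);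 (5) the stabiliser of any non-degenerate 4-space (either type); (6) the stabiliser of any non-degenerate 6-space (either type); (7) for q even, the stabiliser of the 1-space spanned by any non-singular vector v (Q(v) ≠ 0); (8) the stabiliser of any decomposition of F^12 into 3 pairwise orthogonal, pairwise Q-isometric non-degenerate 4-spaces of minus type; (9) for q odd, the normaliser of any degree-2 subfield K of the matrix algebra whose elements are self-adjoint for the polar form of Q (Q is then the trace of a quadratic form over K); (10) for q odd, the normaliser of any degree-3 subfield K of the matrix algebra whose elements are self-adjoint for the polar form of Q (Q is then the trace of a quadratic form over K); (11) for q odd with q ≥ 5, the stabiliser of any tensor decomposition F^12 = F^3 ⊗ F^4 in which the polar form of Q is the product of non-degenerate symmetric bilinear forms, the second of minus type, up to a scalar; (12) every subfield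 group for a subfield F₀ with |F| = |F₀|^r, r an odd prime, whose F₀-structure carries a non-zero scalar multiple of Q. -/
theorem result {F : Type*} [Field F] [Fintype F] (Q : (Fin 12 → F) → F) (hQ : Cfsg.Geo.IsNondegenerateQuadraticForm Q) (hminus : ¬ Cfsg.Geo.IsPlusTypeOn Q ⊤) :
    (∀ W : Submodule F (Fin 12 → F), W ≠ ⊥ → Cfsg.Geo.IsTotallySingularQuad Q W → Cfsg.Geo.IsMaximalIn (Cfsg.Geo.omegaGL Q) (Cfsg.Geo.subspaceStabilizer W ⊓ Cfsg.Geo.omegaGL Q)) ∧
    (Odd (Fintype.card F) → ∀ W : Submodule F (Fin 12 → F), W ≠ ⊥ → W ≠ ⊤ → Odd (Module.finrank F W) → 2 * Module.finrank F W ≠ 12 → Cfsg.Geo.IsNondegenerateOn (QuadraticMap.polar Q) W → Cfsg.Geo.IsMaximalIn (Cfsg.Geo.omegaGL Q) (Cfsg.Geo.subspaceStabilizer W ⊓ Cfsg.Geo.omegaGL Q)) ∧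
    (∀ W : Submodule F (Fin 12 → F), Module.finrank F W = 2 → Cfsg.Geo.IsNondegenerateOn (QuadraticMap.polar Q) W → ¬ Cfsg.Geo.IsPlusTypeOn Q W → Cfsg.Geo.IsMaximalIn (Cfsg.Geo.omegaGL Q) (Cfsg.Geo.subspaceStabilizer W ⊓ Cfsg.Geo.omegaGL Q)) ∧
    (4 ≤ Fintype.card F → ∀ W : Submodule F (Fin 12 → F), Module.finrank F W = 2 → Cfsg.Geo.IsNondegenerateOn (QuadraticMap.polar Q) W → Cfsg.Geo.IsPlusTypeOn Q W → Cfsg.Geo.IsMaximalIn (Cfsg.Geo.omegaGL Q) (Cfsg.Geo.subspaceStabilizer W ⊓ Cfsg.Geo.omegaGL Q)) ∧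
    (∀ W : Submodule F (Fin 12 → F), Module.finrank F W = 4 → Cfsg.Geo.IsNondegenerateOn (QuadraticMap.polar Q) W → Cfsg.Geo.IsMaximalIn (Cfsg.Geo.omegaGL Q) (Cfsg.Geo.subspaceStabilizer W ⊓ Cfsg.Geo.omegaGL Q)) ∧
    (∀ W : Submodule F (Fin 12 → F), Module.finrank F W = 6 → Cfsg.Geo.IsNondegenerateOn (QuadraticMap.polar Q) W → Cfsg.Geo.IsMaximalIn (Cfsg.Geo.omegaGL Q) (Cfsg.Geo.subspaceStabilizer W ⊓ Cfsg.Geo.omegaGL Q)) ∧
    (¬ Odd (Fintype.card F) → ∀ v : (Fin 12 → F), Q v ≠ 0 → Cfsg.Geo.IsMaximalIn (Cfsg.Geo.omegaGL Q) (Cfsg.Geo.subspaceStabilizer (Submodule.span F {v}) ⊓ Cfsg.Geo.omegaGL Q)) ∧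
    (∀ D : Fin 3 → Submodule F (Fin 12 → F), Cfsg.Geo.IsOrthogonalMDecomposition Q 4 D → (∀ i, ¬ Cfsg.Geo.IsPlusTypeOn Q (D i)) → Cfsg.Geo.IsMaximalIn (Cfsg.Geo.omegaGL Q) (Cfsg.Geo.decompositionStabilizer D ⊓ Cfsg.Geo.omegaGL Q)) ∧
    (Odd (Fintype.card F) → ∀ K : Subalgebra F (Matrix (Fin 12) (Fin 12) F), Cfsg.Geo.IsFieldSubalgebra 2 K → Cfsg.Geo.IsSelfAdjointFor (QuadraticMap.polar Q) K → Cfsg.Geo.IsMaximalIn (Cfsg.Geo.omegaGL Q) (Cfsg.Geo.subalgebraNormalizer K ⊓ Cfsg.Geo.omegaGL Q)) ∧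
    (Odd (Fintype.card F) → ∀ K : Subalgebra F (Matrix (Fin 12) (Fin 12) F), Cfsg.Geo.IsFieldSubalgebra 3 K → Cfsg.Geo.IsSelfAdjointFor (QuadraticMap.polar Q) K → Cfsg.Geo.IsMaximalIn (Cfsg.Geo.omegaGL Q) (Cfsg.Geo.subalgebraNormalizer K ⊓ Cfsg.Geo.omegaGL Q)) ∧
    (Odd (Fintype.card F) ∧ 5 ≤ Fintype.card F → ∀ (e : Fin 12 ≃ Fin 3 × Fin 4) (P : Matrix.GeneralLinearGroup (Fin 12) F) (f₁ : (Fin 3 → F) → (Fin 3 → F) → F) (f₂ : (Fin 4 → F) → (Fin 4 → F) → F), Cfsg.Geo.IsSymmetricForm f₁ → Cfsg.Geo.IsSymmetricForm f₂ → ¬ Cfsg.Geo.IsPlusTypeOn (fun v : Fin 4 → F => f₂ v v) ⊤ → Cfsg.Geo.IsTensorFormStructure id (QuadraticMap.polar Q) f₁ f₂ e P → Cfsg.Geo.IsMaximalIn (Cfsg.Geo.omegaGL Q) (Cfsg.Geo.tensorProductSubgroup 3 4 e P ⊓ Cfsg.Geo.omegaGL Q)) ∧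
    (∀ (F₀ : Subfield F) (r : ℕ) (P : Matrix.GeneralLinearGroup (Fin 12) F) (ζ : F), r.Prime → Odd r → Fintype.card F = Nat.card F₀ ^ r → ζ ≠ 0 → Cfsg.Geo.IsQuadFormRationalStructure (fun v : Fin 12 → F => ζ * Q v) F₀ P → Cfsg.Geo.IsMaximalIn (Cfsg.Geo.omegaGL Q) (Cfsg.Geo.subfieldSubgroup F₀ P ⊓ Cfsg.Geo.omegaGL Q)) := by
  obtain ⟨Q, rfl⟩ : ∃ Q' : QuadraticForm F (Fin 12 → F), ⇑Q' = Q := ⟨H96.asForm hQ, rfl⟩
  have hN : Nondeg Q := H96.asForm_nondeg hQ
  have hd : finrank F (Fin 12 → F) = 12 := Module.finrank_fin_fun F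
  have hno : ∀ U : Submodule F (Fin 12 → F), TotSing Q U → 2 * finrank F U ≠ 12 := fun U hU hUd =>
    hminus ⟨U, le_top, hU, by rw [finrank_top, hUd, hd]⟩
  have h2odd : Odd (Fintype.card F) → (2 : F) ≠ 0 := fun hodd h => by
    have : CharP F 2 := CharTwo.of_one_ne_zero_of_two_eq_zero one_ne_zero h
    have := FiniteField.even_card_iff_char_two.1 (ringChar.eq F 2)
    rw [Nat.odd_iff] at hodd
    omega
  have h2even : ¬ Odd (Fintype.card F) → (2 : F) = 0 := fun hev => by
    have h : ringChar F = 2 := FiniteField.even_card_iff_char_two.2 (by rwa [Nat.odd_iff, Nat.mod_two_not_eq_one] at hev)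
    have : CharP F 2 := ringChar.of_eq h
    exact CharTwo.two_eq_zero
  have hperp : ∀ W : Submodule F (Fin 12 → F), finrank F W + finrank F (perp Q W) = 12 := fun W => by
    have := hN.finrank_add_perp W
    omega
  refine ⟨?_, ?_, ?_, ?_, ?_, ?_, ?_, ?_, ?_, ?_, ?_, ?_⟩
  · intro W hW0 hW
    exact isMaximalIn_totSing hN (by omega) hW0 hW fun U hU hUd => absurd (hUd.trans hd) (hno U hU)
  · intro _ W hW0 hW1 hWodd hd6 hW
    refine nondeg_twelve hN hW0 hW1 hW (fun h => absurd (by omega) hd6) fun T hT h2 _ => ?_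
    exfalso
    obtain ⟨j, hj⟩ := hWodd
    have := hperp W
    rcases hT with rfl | rfl <;> omega
  · intro W hW2 hW hWm
    refine nondeg_twelve hN (W := W) (fun h : W = ⊥ => by rw [h, finrank_bot] at hW2; omega)
      (fun h : W = ⊤ => by rw [h, finrank_top] at hW2; omega) hW (by omega) ?_
    rintro T (rfl | rfl) h2 ⟨x, hxT, hx0, hx⟩
    · exact absurd (isPlusTypeOn_of_singular h2 hxT hx0 hx) hWm
    · have := hperp W
      omega
  · intro h4 W hW2 hW _
    exact nondeg_twelve hN (W := W) (fun h : W = ⊥ => by rw [h, finrank_bot] at hW2; omega)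
      (fun h : W = ⊤ => by rw [h, finrank_top] at hW2; omega) hW (by omega)
      fun T _ _ _ => h4
  · intro W hW4 hW
    refine nondeg_twelve hN (W := W) (fun h : W = ⊥ => by rw [h, finrank_bot] at hW4; omega)
      (fun h : W = ⊤ => by rw [h, finrank_top] at hW4; omega) hW (by omega) ?_
    intro T hT h2 _
    have := hperp W
    rcases hT with rfl | rfl <;> omega
  · intro W hW6 hW
    refine nondeg_twelve hN (W := W) (fun h : W = ⊥ => by rw [h, finrank_bot] at hW6; omega)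
      (fun h : W = ⊤ => by rw [h, finrank_top] at hW6; omega) hW (fun _ g => ?_) ?_
    · by_contra hc
      push Not at hc
      obtain ⟨U, hU, hUd⟩ := exists_totSing_of_halves hN (nondeg_restr_of_nondegenerateOn hW) (by omega)
        (by rw [hW6]; decide) g hc
      exact hno U hU (hUd.trans hd)
    · intro T hT h2 _
      have := hperp W
      rcases hT with rfl | rfl <;> omega
  · intro _ v hv
    exact isMaximalIn_point hN (by omega) hv
  · intro D hD hDm
    have hM := hD.decomp.decomp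
    have hnd := fun i => nondeg_restr_of_nondegenerateOn (hD.decomp.nondegenerate i)
    by_cases hq : Odd (Fintype.card F)
    · exact H98.OrthDecomp.isMaximalIn_decomp (Q := Q) ⟨h2odd hq, by omega, le_rfl, fun h => absurd h (by omega),
        hM.finrank_eq, hnd, fun i j hij x hx y hy => hD.decomp.orthogonal i j hij x hx y hy,
        fun i j => hD.isometric i j, hM.iSup_eq_top, hN⟩
    · exact H69.OmegaTwelve.isMaximalIn_blocks_two (Q := Q) ⟨h2even hq, hM.finrank_eq,
        fun i => H97.OmegaEight.no_plane_of_not_plus (hM.finrank_eq i) (hDm i), hnd,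
        fun i j hij x hx y hy => hD.decomp.orthogonal i j hij x hx y hy,
        fun i j => hD.isometric i j, hM.iSup_eq_top, hN⟩
  · intro hodd K hK hsa
    exact H57.ExtOrth.isMaximalIn_ext Q hN hodd K 2 Nat.prime_two hK hsa (by omega) (by omega) (Or.inr (by omega))
  · intro hodd K hK hsa
    exact H57.ExtOrth.isMaximalIn_ext Q hN hodd K 3 Nat.prime_three hK hsa (by omega) (by omega) (Or.inl le_rfl)
  · intro hq e P f₁ f₂ hf₁ hf₂ hf2m hT
    exact H69.OmegaTwelve.Tens.isMaximalIn_tensor_three_four hN hq.1 hq.2 e P f₁ f₂ hf₁ hf₂ hf2m hT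
  · intro F₀ r P ζ hr hrodd hcard hζ hP
    have hN' : Nondeg (ζ • Q) := fun x hx => hN x fun y => by
      have := hx y
      rw [show ⇑(ζ • Q) = ζ • ⇑Q from rfl, QuadraticMap.polar_smul, smul_eq_mul] at this
      exact (mul_eq_zero.1 this).resolve_left hζ
    have hiso : Cfsg.Geo.omegaGL ⇑Q = Cfsg.Geo.omegaGL ⇑(ζ • Q) := by
      refine omegaGL_congr ?_
      ext g
      simp [Cfsg.Agent.Orthogonal.mem_isometryGroup_iff, hζ]
    rw [hiso]
    refine H69.OmegaTwelve.isMaximalIn_subfield_twelve F₀ P (ζ • Q) hN' (Fintype.card_fin 12) r hr hrodd hcard ?_ hP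
    intro T hT h6
    exact hno T (fun x hx => (mul_eq_zero.1 (hT x hx)).resolve_left hζ) (by omega)

end Cfsg.Agent.S5873
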