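import Cfsg.Statements.S5874
import Cfsg.Agent.H96.EvenMax.Cases
import Cfsg.Agent.H96.EvenMax.Refute
import Cfsg.Agent.H96.EvenMax.TensorThreeFour

set_option autoImplicit false
open Cfsg

namespace Cfsg.Agent.S5874

open Cfsg.Agent.H96.EvenMax

/-- Every maximal subgroup of Ω_12^-(q) is of one of the listed geometric types or lies in the residual class. Let F be a finite field with q elements (characteristic p), Q a non-degenerate quadratic form on F^12 of minus type (Witt index 5: no totally singular 6-space), Ω the commutator subgroup of its isometry group, and H a maximal subgroup of Ω (inside GL_12(F)). Then H is the intersection with Ω of one of: the stabiliser of a non-zero totally singular subspace; for q odd, the stabiliser of a non-degenerate subspace of odd dimension; the stabiliser of a non-degenerate 2-space of minus type; for q ≥ 4, the stabiliser of a non-degenerate 2-space of plus type; the stabiliser of a non-degenerate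 4-space; the stabiliser of a non-degenerate 6-space; for q even, the stabiliser of the span of a non-singular vector; the stabiliser of a decomposition into 3 pairwise orthogonal, pairwise isometric non-degenerate 4-spaces of minus type; the normaliser of a degree-2 subfield of the matrix algebra; the normaliser of a degree-3 subfield of the matrix algebra; for q odd with q ≥ 5, the stabiliser of a tensor decomposition of the polar form into symmetric forms on F^3 and F^4 (minus type); a subfield group (|F| = |F₀|^r, r odd prime) whose F₀-structure carries a non-zero multiple of Q — or else H lies in the residual class of the orthogonal case (modulo scalars H is almost simple, with absolutely irreducible perfect socle preimage realisable over no proper subfield and fixing no non-degenerate unitary form). -/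
theorem result {F : Type*} [Field F] [Fintype F] (Q : (Fin 12 → F) → F) (hQ : Cfsg.Geo.IsNondegenerateQuadraticForm Q) (hminus : ¬ Cfsg.Geo.IsPlusTypeOn Q ⊤) (H : Subgroup (Matrix.GeneralLinearGroup (Fin 12) F)) (hH : Cfsg.Geo.IsMaximalIn (Cfsg.Geo.omegaGL Q) H) :
    (∃ W : Submodule F (Fin 12 → F), W ≠ ⊥ ∧ Cfsg.Geo.IsTotallySingularQuad Q W ∧ H = Cfsg.Geo.subspaceStabilizer W ⊓ Cfsg.Geo.omegaGL Q) ∨
    (Odd (Fintype.card F) ∧ ∃ W : Submodule F (Fin 12 → F), W ≠ ⊥ ∧ W ≠ ⊤ ∧ Odd (Module.finrank F W) ∧ 2 * Module.finrank F W ≠ 12 ∧ Cfsg.Geo.IsNondegenerateOn (QuadraticMap.polar Q) W ∧ H = Cfsg.Geo.subspaceStabilizer W ⊓ Cfsg.Geo.omegaGL Q) ∨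
    (∃ W : Submodule F (Fin 12 → F), Module.finrank F W = 2 ∧ Cfsg.Geo.IsNondegenerateOn (QuadraticMap.polar Q) W ∧ ¬ Cfsg.Geo.IsPlusTypeOn Q W ∧ H = Cfsg.Geo.subspaceStabilizer W ⊓ Cfsg.Geo.omegaGL Q) ∨
    (4 ≤ Fintype.card F ∧ ∃ W : Submodule F (Fin 12 → F), Module.finrank F W = 2 ∧ Cfsg.Geo.IsNondegenerateOn (QuadraticMap.polar Q) W ∧ Cfsg.Geo.IsPlusTypeOn Q W ∧ H = Cfsg.Geo.subspaceStabilizer W ⊓ Cfsg.Geo.omegaGL Q) ∨
    (∃ W : Submodule F (Fin 12 → F), Module.finrank F W = 4 ∧ Cfsg.Geo.IsNondegenerateOn (QuadraticMap.polar Q) W ∧ H = Cfsg.Geo.subspaceStabilizer W ⊓ Cfsg.Geo.omegaGL Q) ∨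
    (∃ W : Submodule F (Fin 12 → F), Module.finrank F W = 6 ∧ Cfsg.Geo.IsNondegenerateOn (QuadraticMap.polar Q) W ∧ H = Cfsg.Geo.subspaceStabilizer W ⊓ Cfsg.Geo.omegaGL Q) ∨
    (¬ Odd (Fintype.card F) ∧ ∃ v : (Fin 12 → F), Q v ≠ 0 ∧ H = Cfsg.Geo.subspaceStabilizer (Submodule.span F {v}) ⊓ Cfsg.Geo.omegaGL Q) ∨
    (∃ D : Fin 3 → Submodule F (Fin 12 → F), Cfsg.Geo.IsOrthogonalMDecomposition Q 4 D ∧ (∀ i, ¬ Cfsg.Geo.IsPlusTypeOn Q (D i)) ∧ H = Cfsg.Geo.decompositionStabilizer D ⊓ Cfsg.Geo.omegaGL Q) ∨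
    (∃ K : Subalgebra F (Matrix (Fin 12) (Fin 12) F), Cfsg.Geo.IsFieldSubalgebra 2 K ∧ H = Cfsg.Geo.subalgebraNormalizer K ⊓ Cfsg.Geo.omegaGL Q) ∨
    (∃ K : Subalgebra F (Matrix (Fin 12) (Fin 12) F), Cfsg.Geo.IsFieldSubalgebra 3 K ∧ H = Cfsg.Geo.subalgebraNormalizer K ⊓ Cfsg.Geo.omegaGL Q) ∨
    (Odd (Fintype.card F) ∧ 5 ≤ Fintype.card F ∧ ∃ (e : Fin 12 ≃ Fin 3 × Fin 4) (P : Matrix.GeneralLinearGroup (Fin 12) F) (f₁ : (Fin 3 → F) → (Fin 3 → F) → F) (f₂ : (Fin 4 → F) → (Fin 4 → F) → F), Cfsg.Geo.IsSymmetricForm f₁ ∧ Cfsg.Geo.IsSymmetricForm f₂ ∧ ¬ Cfsg.Geo.IsPlusTypeOn (fun v : Fin 4 → F => f₂ v v) ⊤ ∧ Cfsg.Geo.IsTensorFormStructure id (QuadraticMap.polar Q) f₁ f₂ e P ∧ H = Cfsg.Geo.tensorProductSubgroup 3 4 e P ⊓ Cfsg.Geo.omegaGL Q) ∨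
    (∃ (F₀ : Subfield F) (r : ℕ) (P : Matrix.GeneralLinearGroup (Fin 12) F) (ζ : F), r.Prime ∧ Odd r ∧ Fintype.card F = Nat.card F₀ ^ r ∧ ζ ≠ 0 ∧ Cfsg.Geo.IsQuadFormRationalStructure (fun v : Fin 12 → F => ζ * Q v) F₀ P ∧ H = Cfsg.Geo.subfieldSubgroup F₀ P ⊓ Cfsg.Geo.omegaGL Q) ∨
    Cfsg.Geo.InOrthogonalResidualClass H := by
  classical
  obtain ⟨Q, rfl, hN⟩ : ∃ Q' : QuadraticForm F (Fin 12 → F), ⇑Q' = Q ∧ Cfsg.Agent.Orthogonal.Nondeg Q' :=
    ⟨Cfsg.Agent.H96.asForm hQ, rfl, Cfsg.Agent.H96.asForm_nondeg hQ⟩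
  have hHQ := Cfsg.Agent.Aschbacher.fixesQuadForm_of_le_omegaGL hH.1.le
  have hc : Fintype.card (Fin 12) = 12 := Fintype.card_fin _
  cases Cfsg.Agent.Aschbacher.even_orthogonal_aschbacher hQ (by rw [hc]; decide) (by omega) hHQ with
  | ts W h0 hts h => exact Or.inl <| ⟨W, h0, hts, ts_eq hN (by omega) hH h0 hts h⟩
  | nd W h0 htop hW hk h =>
    rcases nd_cases hN hQ (by omega) hH h0 htop hW (by omega) h with
      ⟨hodd, W, h0, htop, ho, hk, hW, he⟩ | h | h | ⟨W, hev, h4, hk, hW, he⟩ | h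
    · exact Or.inr <| Or.inl <| ⟨hodd, W, h0, htop, ho, by omega, hW, he⟩
    · exact Or.inr <| Or.inr <| Or.inl <| h
    · exact Or.inr <| Or.inr <| Or.inr <| Or.inl <| h
    · exact Or.inr <| Or.inr <| Or.inr <| Or.inr <| Or.inl <| ⟨W, by omega, hW, he⟩
    · exact Or.inr <| Or.inr <| Or.inr <| Or.inr <| Or.inr <| Or.inr <| Or.inl <| h
  | point v hev hv h =>
    exact Or.inr <| Or.inr <| Or.inr <| Or.inr <| Or.inr <| Or.inr <| Or.inl <| ⟨not_odd_card hev, v, hv, point_eq hN (by omega) hH hv h⟩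
  | pair k D hk hD _ hfix _ =>
    obtain ⟨he, hd, hW⟩ := pair_facts hN (by omega) hH hD (hk.trans hc) (hfix 0)
    exact Or.inr <| Or.inr <| Or.inr <| Or.inr <| Or.inr <| Or.inl <| ⟨D 0, by omega, hW, he⟩
  | decomp t k D hk hD hcard h =>
    have he := decomp_eq hN (by omega) hH hD hk hcard h
    have ht := hD.decomp.decomp.two_le
    have hkn : k ∣ 12 := ⟨t, by rw [← hc, ← hcard, mul_comm]⟩
    have := Nat.le_of_dvd (by norm_num) hkn
    rw [hc] at hcard
    obtain ⟨rfl, rfl⟩ | ⟨rfl, rfl⟩ | ⟨rfl, rfl⟩ | ⟨rfl, rfl⟩ :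
        (k = 2 ∧ t = 6) ∨ (k = 3 ∧ t = 4) ∨ (k = 4 ∧ t = 3) ∨ (k = 6 ∧ t = 2) := by
      interval_cases k <;> omega
    · exact absurd (decomp_plus_of_even hD (by decide) (by decide)) hminus
    · exact absurd (decomp_plus_of_four hD (by decide)) hminus
    · have hm : ∀ i, ¬ Cfsg.Geo.IsPlusTypeOn (⇑Q) (D i) := fun i hi =>
        hminus ((decomp_plus_iff hD (by decide) (by decide) i).2 hi)
      exact Or.inr <| Or.inr <| Or.inr <| Or.inr <| Or.inr <| Or.inr <| Or.inr <| Or.inl <| ⟨D, hD, hm, he⟩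
    · exact absurd (decomp_plus_of_even hD (by decide) (by decide)) hminus
  | frame D hp hodd hD h => exact absurd (decomp_plus_of_four hD (by rw [hc]; decide)) hminus
  | tsPair k D hk hD hts h =>
    exact absurd (plus_top_of_totSing (hts 0) (by rw [hD.finrank_eq, hk])) hminus
  | fieldSA r K hr hdvd hne hK hsa heven h =>
    rw [hc] at hdvd hne
    obtain rfl | rfl : r = 2 ∨ r = 3 := by
      have := hr.two_le
      have := Nat.le_of_dvd (by norm_num) hdvd
      interval_cases r <;> norm_num at *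
    · exact Or.inr <| Or.inr <| Or.inr <| Or.inr <| Or.inr <| Or.inr <| Or.inr <| Or.inr <| Or.inl <| ⟨K, hK, field_eq hN (by omega) hH hK le_rfl h⟩
    · exact Or.inr <| Or.inr <| Or.inr <| Or.inr <| Or.inr <| Or.inr <| Or.inr <| Or.inr <| Or.inr <| Or.inl <| ⟨K, hK, field_eq hN (by omega) hH hK (by omega) h⟩
  | fieldU K hK hA hns hsim h => exact Or.inr <| Or.inr <| Or.inr <| Or.inr <| Or.inr <| Or.inr <| Or.inr <| Or.inr <| Or.inl <| ⟨K, hK, field_eq hN (by omega) hH hK le_rfl h⟩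
  | tensorSym a b e P f₁ f₂ hodd h1 h2 hcard hf₁ hf₂ hs h =>
    obtain ⟨rfl, rfl⟩ : a = 3 ∧ b = 4 := by
      rcases tensor_factors (by omega) h2 (hcard.trans hc) (by omega) with ⟨ha, -⟩ | ⟨ha, hb⟩ <;> omega
    have hm : ¬ Cfsg.Geo.IsPlusTypeOn (fun v : Fin 4 → F => f₂ v v) ⊤ := fun hp =>
      hminus (plus_of_plus_factor hodd hf₁ hf₂ hs hcard hp)
    have he := Cfsg.Agent.Aschbacher.eq_inf_of_isMaximalIn hH h
      (not_le_tensorSym hN (five_le (by omega)) hodd le_rfl (by omega) hf₁ hf₂ hs)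
    have hqo : Odd (Fintype.card F) := Cfsg.Agent.Aschbacher.odd_card_iff.2 hodd
    by_cases hq : Fintype.card F = 3
    · exact (false_of_between hH he (tensorSym_three_not_maximal (by omega) _ hQ hq 4 le_rfl e P f₁ f₂
        hf₁ hf₂ hm hs)).elim
    have := Fintype.one_lt_card (α := F)
    obtain ⟨j, hj⟩ := id hqo
    exact Or.inr <| Or.inr <| Or.inr <| Or.inr <| Or.inr <| Or.inr <| Or.inr <| Or.inr <| Or.inr <| Or.inr <| Or.inl <| ⟨hqo, by omega, e, P, f₁, f₂, hf₁, hf₂, hm, hs, he⟩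
  | tensorSymp a b e P f₁ f₂ h1 h2 hev₁ hev₂ hcard hf₁ hf₂ hs hQ0 h =>
    rcases tensor_factors h1 h2 (hcard.trans hc) (by omega) with ⟨ha, -⟩ | ⟨ha, -⟩
    · exact absurd (plus_tensorSymp_two ha e P hcard hQ0) hminus
    · obtain ⟨i, hi⟩ := hev₁; omega
  | powerSym k t e P f₁ hodd hk hkev ht hcard _ _ _ =>
    obtain ⟨rfl, -⟩ := power_factors (by omega) hkev ht (hcard.trans hc) (by omega) (by omega)
    omega
  | powerSymp k t e P f₁ hk hkev ht _ _ hcard _ _ _ _ =>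
    obtain ⟨-, -, hh⟩ := power_factors hk hkev ht (hcard.trans hc) (by omega) (by omega)
    omega
  | subfld F₀ r P ζ hr hF hζ hrat h =>
    exact Or.inr <| Or.inr <| Or.inr <| Or.inr <| Or.inr <| Or.inr <| Or.inr <| Or.inr <| Or.inr <| Or.inr <| Or.inr <| Or.inl <| ⟨F₀, r, P, ζ, hr, subfield_odd hN (by decide) (by omega) hminus hr hF hζ hrat, hF, hζ, hrat, subfield_eq hN (by omega) hH hr hF h⟩
  | symp R p m hR habs _ hfixR hp hodd hF hcard hcen hn h =>
    rw [hc] at hn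
    have : m < 4 := by
      by_contra hm
      have := Nat.pow_le_pow_right (show 0 < 2 by norm_num) (show 4 ≤ m by omega)
      omega
    interval_cases m <;> omega
  | residual h => exact Or.inr <| Or.inr <| Or.inr <| Or.inr <| Or.inr <| Or.inr <| Or.inr <| Or.inr <| Or.inr <| Or.inr <| Or.inr <| Or.inr <| h

end Cfsg.Agent.S5874
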