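import Cfsg.Statements.S5876
-- import your own Cfsg.Agent.* helpers here

set_option autoImplicit false
open Cfsg

namespace Cfsg.Agent.S5876


open scoped commutatorElement

section Abstract

variable {G : Type*} [Group G] [Finite G]

theorem abstract_bound [Group.IsSolvable G] (n : ℕ) (d : G → ℕ)
    (hcomm : ∀ a b : G, 2 * d a ≤ d ⁅a, b⁆ + n)
    (hab : ∀ A : Subgroup G, A.Normal → (∀ x ∈ A, ∀ y ∈ A, x * y = y * x) →
      ∀ a ∈ A, 0 < d a → a = 1)
    (g : G) (hg : 3 * n < 4 * d g) : g = 1 := by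
  classical
  obtain ⟨A, hA⟩ := (Set.toFinite {A : Subgroup G | A.Normal ∧ ∀ x ∈ A, ∀ y ∈ A, x * y = y * x}).exists_maximal
    ⟨⊥, inferInstance, fun x hx y hy => by simp [Subgroup.mem_bot.1 hx, Subgroup.mem_bot.1 hy]⟩
  obtain ⟨⟨hAn, hAc⟩, hAmax⟩ := hA
  have := hAn
  have hgA : ∀ a ∈ A, g * a = a * g := by
    intro a ha
    have hm : ⁅g, a⁆ ∈ A := by
      rw [commutatorElement_def]
      exact A.mul_mem (hAn.conj_mem a ha g) (A.inv_mem ha)
    have h := hcomm g a
    exact commutatorElement_eq_one_iff_mul_comm.1 (hab A hAn hAc _ hm (by omega))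
  set C := Subgroup.centralizer (A : Set G) with hC
  have hgC : g ∈ C := Subgroup.mem_centralizer_iff.2 fun a ha => (hgA a ha).symm
  have hAC : A ≤ C := fun a ha => Subgroup.mem_centralizer_iff.2 fun b hb => hAc b hb a ha
  obtain ⟨N, hN⟩ := (Set.toFinite {N : Subgroup G | N.Normal ∧ A ≤ N ∧ N ≤ C ∧ ⁅N, N⁆ ≤ A}).exists_maximal
    ⟨A, hAn, le_rfl, hAC, by
      rw [Subgroup.commutator_le]
      intro x hx y hy
      rw [commutatorElement_eq_one_iff_mul_comm.2 (hAc x hx y hy)]
      exact one_mem A⟩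
  obtain ⟨⟨hNn, hAN, hNC, hNN⟩, hNmax⟩ := hN
  have := hNn
  set Z := N ⊓ Subgroup.centralizer (N : Set G) with hZ
  have hZA : Z ≤ A := by
    refine hAmax ⟨inferInstance, ?_⟩ ?_
    · intro x hx y hy
      exact Subgroup.mem_centralizer_iff.1 hy.2 x hx.1
    · intro a ha
      refine ⟨hAN ha, Subgroup.mem_centralizer_iff.2 fun m hm => ?_⟩
      exact (Subgroup.mem_centralizer_iff.1 (hNC hm) a ha).symm
  have hgN : ∀ x ∈ N, g * x = x * g := by
    intro x hx
    have hu : ⁅g, x⁆ ∈ N := by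
      rw [commutatorElement_def]
      exact N.mul_mem (hNn.conj_mem x hx g) (N.inv_mem hx)
    have h := hcomm g x
    by_cases huA : ⁅g, x⁆ ∈ A
    · exact commutatorElement_eq_one_iff_mul_comm.1 (hab A hAn hAc _ huA (by omega))
    · exfalso
      apply huA
      apply hZA
      refine ⟨hu, Subgroup.mem_centralizer_iff.2 fun m hm => ?_⟩
      have hum : ⁅⁅g, x⁆, m⁆ ∈ A := hNN (Subgroup.commutator_mem_commutator hu hm)
      have h2 := hcomm ⁅g, x⁆ m
      exact (commutatorElement_eq_one_iff_mul_comm.1 (hab A hAn hAc _ hum (by omega))).symm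
  set C2 := C ⊓ Subgroup.centralizer (N : Set G) with hC2
  have key : ∀ L : Subgroup G, L.Normal → L ≤ C2 → L ≤ A := by
    intro L
    induction L using WellFoundedLT.induction with
    | _ L ih =>
      intro hLn hLC
      have := hLn
      rcases eq_or_ne L ⊥ with rfl | hne
      · exact bot_le
      have hlt := Group.IsSolvable.commutator_lt_of_ne_bot hne
      have hLL : ⁅L, L⁆ ≤ A := ih _ hlt inferInstance (hlt.le.trans hLC)
      have hLN : L ⊔ N ≤ N := by
        refine hNmax ⟨inferInstance, hAN.trans le_sup_right, sup_le (hLC.trans inf_le_left) hNC, ?_⟩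
          le_sup_right
        rw [Subgroup.commutator_le]
        intro p hp q hq
        obtain ⟨l, hl, m, hm, rfl⟩ := Subgroup.mem_sup_of_normal_left.1 hp
        obtain ⟨l', hl', m', hm', rfl⟩ := Subgroup.mem_sup_of_normal_left.1 hq
        have c : ∀ a ∈ L, ∀ b ∈ N, Commute b a := fun a ha b hb =>
          Subgroup.mem_centralizer_iff.1 (hLC ha).2 b hb
        have c1 : ∀ b : G, b ∈ N → b * l' = l' * b := fun b hb => c l' hl' b hb
        have c2 : ∀ b : G, b ∈ N → b * l = l * b := fun b hb => c l hl b hb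
        have e : ⁅l * m, l' * m'⁆ = ⁅l, l'⁆ * ⁅m, m'⁆ := by
          have hmm : ⁅m, m'⁆ ∈ N := by
            rw [commutatorElement_def]
            exact N.mul_mem (N.mul_mem (N.mul_mem hm hm') (N.inv_mem hm)) (N.inv_mem hm')
          have e1 : (l * m) * (l' * m') = (l * l') * (m * m') := by
            rw [mul_assoc l m, ← mul_assoc m l', c1 m hm]; group
          have e2 : (l' * m') * (l * m) = (l' * l) * (m' * m) := by
            rw [mul_assoc l' m', ← mul_assoc m' l, c2 m' hm']; group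
          have h3 : ⁅m, m'⁆ * (l' * l) = (l' * l) * ⁅m, m'⁆ := by
            rw [← mul_assoc, c1 _ hmm, mul_assoc l', c2 _ hmm, ← mul_assoc]
          have e3 : (l * m) * (l' * m') = ⁅l, l'⁆ * ⁅m, m'⁆ * ((l' * m') * (l * m)) := by
            rw [e1, e2]
            calc l * l' * (m * m') = ⁅l, l'⁆ * ((l' * l) * ⁅m, m'⁆) * (m' * m) := by
                  simp [commutatorElement_def, mul_assoc]
              _ = ⁅l, l'⁆ * ⁅m, m'⁆ * (l' * l * (m' * m)) := by
                  rw [← h3]; group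
          calc ⁅l * m, l' * m'⁆ = (l * m) * (l' * m') * ((l' * m') * (l * m))⁻¹ := by
                simp [commutatorElement_def, mul_assoc]
            _ = _ := by rw [e3]; group
        rw [e]
        exact A.mul_mem (hLL (Subgroup.commutator_mem_commutator hl hl'))
          (hNN (Subgroup.commutator_mem_commutator hm hm'))
      exact fun x hx => hZA ⟨hLN (Subgroup.mem_sup_left hx), (hLC hx).2⟩
  have hgC2 : g ∈ C2 := ⟨hgC, Subgroup.mem_centralizer_iff.2 fun x hx => (hgN x hx).symm⟩
  exact hab A hAn hAc g (key C2 inferInstance le_rfl hgC2) (by omega)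

end Abstract

section Linear

open Matrix

variable {F : Type*} [Field F] [Finite F] {n : ℕ}

theorem fixed_free (G A : Subgroup (GL (Fin n) F))
    (hirr : Cfsg.Geo.ActsIrreducibly (Cfsg.Geo.matrixSet G))
    (hprim : ∀ (m t : ℕ) (D : Fin t → Submodule F (Fin n → F)), 2 ≤ t → Cfsg.Geo.IsMDecomposition m D → ¬ G ≤ Cfsg.Geo.decompositionStabilizer D)
    (hnorm : ∀ g ∈ G, ∀ a ∈ A, g * a * g⁻¹ ∈ A)
    (hcomm : ∀ a ∈ A, ∀ b ∈ A, a * b = b * a)
    (a : GL (Fin n) F) (ha : a ∈ A) (v0 : Fin n → F) (hv0 : v0 ≠ 0)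
    (hav : (a : Matrix (Fin n) (Fin n) F) *ᵥ v0 = v0) : a = 1 := by
  classical
  have := Fintype.ofFinite F
  set R := Algebra.adjoin F (Cfsg.Geo.matrixSet A) with hR
  have memR : ∀ b ∈ A, (b : Matrix (Fin n) (Fin n) F) ∈ R := fun b hb =>
    Algebra.subset_adjoin ⟨b, hb, rfl⟩
  have commR : ∀ x ∈ R, ∀ y ∈ R, x * y = y * x := by
    have gen : ∀ s ∈ Cfsg.Geo.matrixSet A, ∀ t ∈ Cfsg.Geo.matrixSet A, s * t = t * s := by
      rintro _ ⟨s, hs, rfl⟩ _ ⟨t, ht, rfl⟩
      show (s : Matrix (Fin n) (Fin n) F) * t = t * s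
      rw [← Units.val_mul, ← Units.val_mul, hcomm s hs t ht]
    intro x hx y hy
    exact Algebra.commute_of_mem_adjoin_of_forall_mem_commute hy (fun t ht =>
      (Algebra.commute_of_mem_adjoin_of_forall_mem_commute hx (fun s hs => gen t ht s hs)).symm)
  have conjR : ∀ g ∈ G, ∀ x ∈ R,
      (g : Matrix (Fin n) (Fin n) F) * x * ((g⁻¹ : GL (Fin n) F) : Matrix (Fin n) (Fin n) F) ∈ R := by
    intro g hg x hx
    induction hx using Algebra.adjoin_induction with
    | mem x hx =>
      obtain ⟨b, hb, rfl⟩ := hx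
      simpa only [Units.val_mul] using memR _ (hnorm g hg b hb)
    | algebraMap c =>
      rw [← Algebra.commutes, mul_assoc, Units.mul_inv, mul_one]
      exact R.algebraMap_mem c
    | add x y _ _ hx hy => rw [mul_add, add_mul]; exact R.add_mem hx hy
    | mul x y _ _ hx hy =>
      have := R.mul_mem hx hy
      simpa [mul_assoc] using this
  let P : (Fin n → F) → Finset (Matrix (Fin n) (Fin n) F) := fun v =>
    Finset.univ.filter fun x => x ∈ R ∧ x *ᵥ v = 0
  obtain ⟨v, hv, hvmax⟩ := (Finset.univ.filter fun v : Fin n → F => v ≠ 0).exists_max_image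
    (fun v => (P v).card) ⟨v0, by simp [hv0]⟩
  rw [Finset.mem_filter] at hv
  replace hv := hv.2
  let W0 : Submodule F (Fin n → F) :=
    { carrier := {u | ∀ x ∈ P v, x *ᵥ u = 0}
      add_mem' := fun {a b} ha hb x hx => by rw [Matrix.mulVec_add, ha x hx, hb x hx, add_zero]
      zero_mem' := fun x _ => Matrix.mulVec_zero x
      smul_mem' := fun c u hu x hx => by rw [Matrix.mulVec_smul, hu x hx, smul_zero] }
  have hvW : v ∈ W0 := fun x hx => (Finset.mem_filter.1 hx).2.2
  -- properties of W0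
  have dich : ∀ x ∈ R, (∀ u ∈ W0, x *ᵥ u = 0) ∨ (∀ u ∈ W0, x *ᵥ u = 0 → u = 0) := by
    intro x hx
    by_cases hxP : x ∈ P v
    · exact Or.inl fun u hu => hu x hxP
    · refine Or.inr fun u hu hxu => by_contra fun hu0 => ?_
      have hsub : insert x (P v) ⊆ P u := by
        intro y hy
        rcases Finset.mem_insert.1 hy with rfl | hy
        · exact Finset.mem_filter.2 ⟨Finset.mem_univ _, hx, hxu⟩
        · exact Finset.mem_filter.2 ⟨Finset.mem_univ _, (Finset.mem_filter.1 hy).2.1, hu y hy⟩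
      have h1 := Finset.card_le_card hsub
      rw [Finset.card_insert_of_notMem hxP] at h1
      have h2 : (P u).card ≤ (P v).card := hvmax u (by simp [hu0])
      omega
  have closed0 : ∀ u, (∀ x ∈ R, (∀ w ∈ W0, x *ᵥ w = 0) → x *ᵥ u = 0) → u ∈ W0 := by
    intro u hu x hx
    exact hu x (Finset.mem_filter.1 hx).2.1 fun w hw => hw x hx
  -- the translates of W0
  let T : GL (Fin n) F → Submodule F (Fin n → F) := fun g =>
    W0.map (Matrix.toLin' (g : Matrix (Fin n) (Fin n) F))
  have memT : ∀ (g : GL (Fin n) F) u, u ∈ T g ↔ ((g⁻¹ : GL (Fin n) F) : Matrix (Fin n) (Fin n) F) *ᵥ u ∈ W0 := by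
    intro g u
    constructor
    · rintro ⟨w, hw, rfl⟩
      rw [Matrix.toLin'_apply, Matrix.mulVec_mulVec, ← Units.val_mul, inv_mul_cancel, Units.val_one, Matrix.one_mulVec]
      exact hw
    · intro h
      exact ⟨_, h, by rw [Matrix.toLin'_apply, Matrix.mulVec_mulVec, ← Units.val_mul, mul_inv_cancel, Units.val_one, Matrix.one_mulVec]⟩
  have Tcomp : ∀ g h : GL (Fin n) F, (T h).map (Matrix.toLin' (g : Matrix (Fin n) (Fin n) F)) = T (g * h) := by
    intro g h
    show Submodule.map _ (Submodule.map _ W0) = Submodule.map _ W0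
    rw [← Submodule.map_comp, ← Matrix.toLin'_mul, Units.val_mul]
  have Tinj : ∀ g : GL (Fin n) F, Function.Injective (Matrix.toLin' (g : Matrix (Fin n) (Fin n) F)) := by
    intro g
    have h : ∀ u, ((g⁻¹ : GL (Fin n) F) : Matrix (Fin n) (Fin n) F) *ᵥ ((g : Matrix (Fin n) (Fin n) F) *ᵥ u) = u := by
      intro u
      rw [Matrix.mulVec_mulVec, ← Units.val_mul, inv_mul_cancel, Units.val_one, Matrix.one_mulVec]
    intro u w huw
    rw [Matrix.toLin'_apply, Matrix.toLin'_apply] at huw
    rw [← h u, huw, h w]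
  have Tdim : ∀ g : GL (Fin n) F, Module.finrank F (T g) = Module.finrank F W0 := fun g =>
    (Submodule.equivMapOfInjective _ (Tinj g) W0).finrank_eq.symm
  have back : ∀ g ∈ G, ∀ x ∈ R, ∃ y ∈ R, ∀ u,
      ((g⁻¹ : GL (Fin n) F) : Matrix (Fin n) (Fin n) F) *ᵥ (x *ᵥ u) =
        y *ᵥ (((g⁻¹ : GL (Fin n) F) : Matrix (Fin n) (Fin n) F) *ᵥ u) := by
    intro g hg x hx
    refine ⟨_, conjR g⁻¹ (G.inv_mem hg) x hx, fun u => ?_⟩
    simp [Matrix.mulVec_mulVec, mul_assoc, ← Units.val_mul]
  have dichT : ∀ g ∈ G, ∀ x ∈ R, (∀ u ∈ T g, x *ᵥ u = 0) ∨ (∀ u ∈ T g, x *ᵥ u = 0 → u = 0) := by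
    intro g hg x hx
    obtain ⟨y, hy, e⟩ := back g hg x hx
    have inj : Function.Injective fun u : Fin n → F => ((g⁻¹ : GL (Fin n) F) : Matrix (Fin n) (Fin n) F) *ᵥ u :=
      Tinj g⁻¹
    rcases dich y hy with h | h
    · refine Or.inl fun u hu => inj ?_
      show _ *ᵥ (x *ᵥ u) = _ *ᵥ (0 : Fin n → F)
      rw [e, h _ ((memT g u).1 hu), Matrix.mulVec_zero]
    · refine Or.inr fun u hu hxu => inj ?_
      show _ *ᵥ u = _ *ᵥ (0 : Fin n → F)
      rw [Matrix.mulVec_zero]
      refine h _ ((memT g u).1 hu) ?_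
      rw [← e, hxu, Matrix.mulVec_zero]
  have closedT : ∀ g ∈ G, ∀ u, (∀ x ∈ R, (∀ w ∈ T g, x *ᵥ w = 0) → x *ᵥ u = 0) → u ∈ T g := by
    intro g hg u hu
    refine (memT g u).2 (closed0 _ fun y hy hy0 => ?_)
    obtain ⟨x, hx, hxy⟩ : ∃ x ∈ R, x = (g : Matrix (Fin n) (Fin n) F) * y * ((g⁻¹ : GL (Fin n) F) : Matrix (Fin n) (Fin n) F) :=
      ⟨_, conjR g hg y hy, rfl⟩
    have h := hu x hx fun w hw => by
      rw [hxy, ← Matrix.mulVec_mulVec, ← Matrix.mulVec_mulVec, hy0 _ ((memT g w).1 hw), Matrix.mulVec_zero]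
    rw [hxy, ← Matrix.mulVec_mulVec, ← Matrix.mulVec_mulVec] at h
    apply Tinj g
    rw [Matrix.toLin'_apply, h, map_zero]
  have sep : ∀ g ∈ G, ∀ h ∈ G, T g ≠ T h → ∃ x ∈ R, (∀ u ∈ T h, x *ᵥ u = 0) ∧ (∀ u ∈ T g, x *ᵥ u = 0 → u = 0) := by
    intro g hg h hh hne
    by_contra hno
    push Not at hno
    apply hne
    apply Submodule.eq_of_le_of_finrank_eq
    · intro u hu
      refine closedT h hh u fun x hx hx0 => ?_
      rcases dichT g hg x hx with h1 | h1
      · exact h1 u hu
      · obtain ⟨w, hw, hw1, hw2⟩ := hno x hx hx0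
        exact absurd (h1 w hw hw1) hw2
    · rw [Tdim, Tdim]
  -- the orbit
  let Gs : Finset (GL (Fin n) F) := Finset.univ.filter fun g => g ∈ G
  let Orb : Finset (Submodule F (Fin n → F)) := Gs.image T
  have memOrb : ∀ {W}, W ∈ Orb ↔ ∃ g ∈ G, T g = W := by
    intro W
    simp [Orb, Gs]
  have T1 : T 1 = W0 := by
    show Submodule.map _ W0 = W0
    rw [Units.val_one, Matrix.toLin'_one, Submodule.map_id]
  have h0Orb : W0 ∈ Orb := memOrb.2 ⟨1, G.one_mem, T1⟩
  have hsup : Orb.sup id = ⊤ := by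
    refine (hirr (Orb.sup id) ?_).resolve_left ?_
    · rintro s ⟨g, hg, rfl⟩
      rw [Finset.sup_eq_iSup, Submodule.map_iSup]
      refine iSup_le fun W => ?_
      rw [Submodule.map_iSup]
      refine iSup_le fun hW => ?_
      obtain ⟨k, hk, rfl⟩ := memOrb.1 hW
      refine le_trans (le_of_eq (Tcomp g k)) ?_
      have : T (g * k) ∈ Orb := memOrb.2 ⟨g * k, G.mul_mem hg hk, rfl⟩
      exact le_iSup₂ (f := fun W (_ : W ∈ Orb) => id W) (T (g * k)) this
    · intro h
      exact hv ((Submodule.mem_bot F).1 (h ▸ Finset.le_sup (f := id) h0Orb hvW))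
  set e := Orb.equivFin
  set t := Orb.card
  let D : Fin t → Submodule F (Fin n → F) := fun i => (e.symm i : Submodule F (Fin n → F))
  have hDT : ∀ i, ∃ g ∈ G, T g = D i := fun i => memOrb.1 (e.symm i).2
  have hnot : ¬ 2 ≤ t := by
    intro ht
    refine hprim (Module.finrank F W0) t D ht ⟨ht, ?_, ?_, ?_, ?_⟩ ?_
    · by_contra h
      have : W0 = ⊥ := Submodule.finrank_eq_zero.1 (by omega)
      exact hv ((Submodule.mem_bot F).1 (this ▸ hvW))
    · intro i
      obtain ⟨g, hg, e1⟩ := hDT i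
      rw [← e1, Tdim]
    · rw [iSupIndep_def]
      intro i
      rw [disjoint_iff, eq_bot_iff]
      intro u hu
      obtain ⟨gi, hgi, egi⟩ := hDT i
      have hx : ∀ j, ∃ x ∈ R, (j ≠ i → ∀ w ∈ D j, x *ᵥ w = 0) ∧ ∀ w ∈ D i, x *ᵥ w = 0 → w = 0 := by
        intro j
        by_cases hji : j = i
        · exact ⟨1, R.one_mem, fun h => absurd hji h, fun w _ h => by simpa using h⟩
        · obtain ⟨gj, hgj, egj⟩ := hDT j
          obtain ⟨x, hx, h1, h2⟩ := sep gi hgi gj hgj (by
            rw [egi, egj]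
            intro h
            exact hji (e.symm.injective (Subtype.ext h)).symm)
          exact ⟨x, hx, fun _ => egj ▸ h1, egi ▸ h2⟩
      choose x hxR hxk hxi using hx
      have hexists : ∀ s : Finset (Fin t), ∃ y ∈ R, (∀ j ∈ s, j ≠ i → ∀ w ∈ D j, y *ᵥ w = 0) ∧
          ∀ w ∈ D i, y *ᵥ w = 0 → w = 0 := by
        intro s
        induction s using Finset.induction_on with
        | empty => exact ⟨1, R.one_mem, by simp, fun w _ h => by simpa using h⟩
        | @insert k s hk ih =>
          obtain ⟨y, hy, hy1, hy2⟩ := ih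
          refine ⟨x k * y, R.mul_mem (hxR k) hy, ?_, ?_⟩
          · intro j hj hji w hw
            rcases Finset.mem_insert.1 hj with rfl | hj
            · rw [commR _ (hxR j) _ hy, ← Matrix.mulVec_mulVec, hxk j hji w hw, Matrix.mulVec_zero]
            · rw [← Matrix.mulVec_mulVec, hy1 j hj hji w hw, Matrix.mulVec_zero]
          · intro w hw h0
            refine hy2 w hw (hxi k _ ?_ (by rw [Matrix.mulVec_mulVec]; exact h0))
            -- R leaves the members invariant
            rw [← egi]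
            refine closedT gi hgi _ fun z hz hz0 => ?_
            rw [Matrix.mulVec_mulVec, commR z hz y hy, ← Matrix.mulVec_mulVec, hz0 w (egi ▸ hw), Matrix.mulVec_zero]
      obtain ⟨y, hyR, hy1, hy2⟩ := hexists Finset.univ
      refine (Submodule.mem_bot F).2 (hy2 u hu.1 ?_)
      have : (⨆ (j : Fin t) (_ : j ≠ i), D j) ≤ LinearMap.ker (Matrix.toLin' y) :=
        iSup₂_le fun j hj w hw => by
          rw [LinearMap.mem_ker, Matrix.toLin'_apply]
          exact hy1 j (Finset.mem_univ _) hj w hw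
      simpa using this hu.2
    · apply le_antisymm le_top
      rw [← hsup]
      refine Finset.sup_le fun W hW => ?_
      refine le_trans ?_ (le_iSup D (e ⟨W, hW⟩))
      simp [D]
    · intro g hg
      have hmaps : ∀ W : Orb, (W : Submodule F (Fin n → F)).map (Matrix.toLin' (g : Matrix (Fin n) (Fin n) F)) ∈ Orb := by
        intro W
        obtain ⟨k, hk, ek⟩ := memOrb.1 W.2
        exact memOrb.2 ⟨g * k, G.mul_mem hg hk, by rw [← ek, Tcomp]⟩
      let f : Orb → Orb := fun W => ⟨_, hmaps W⟩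
      have finj : Function.Injective f := fun W W' h =>
        Subtype.ext (Submodule.map_injective_of_injective (Tinj g) (congrArg Subtype.val h))
      refine ⟨(e.symm.trans (Equiv.ofBijective f (Finite.injective_iff_bijective.1 finj))).trans e, fun i => ?_⟩
      simp [D, f]
  have hW0 : W0 = ⊤ := by
    rw [← hsup]
    refine le_antisymm (Finset.le_sup (f := id) h0Orb) (Finset.sup_le fun W hW => ?_)
    have : W = W0 := by
      have hc : Orb.card ≤ 1 := by omega
      exact Finset.card_le_one.1 hc W hW W0 h0Orb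
    exact this.le
  -- every element of R is zero or injective
  have hfin : (a : Matrix (Fin n) (Fin n) F) - 1 = 0 := by
    rcases dich _ (R.sub_mem (memR a ha) R.one_mem) with h | h
    · apply Matrix.ext_iff_mulVec.2
      intro u
      rw [h u (hW0 ▸ Submodule.mem_top), Matrix.zero_mulVec]
    · exact absurd (h v0 (hW0 ▸ Submodule.mem_top) (by rw [Matrix.sub_mulVec, hav, Matrix.one_mulVec, sub_self])) hv0
  exact Units.ext (sub_eq_zero.1 hfin)

end Linear

/-- Fixed-point spaces in primitive soluble linear groups. Let F be a finite field and G a soluble subgroup of GL_n(F) that acts irreducibly on F^n and primitively (G preserves no decomposition of F^n into two or more independent subspaces of equal dimension). Then every non-identity element g of G has fixed-point space {v : g v = v} of dimension at most 3n/4. -/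
theorem result {F : Type*} [Field F] [Fintype F] {n : ℕ} (G : Subgroup (Matrix.GeneralLinearGroup (Fin n) F)) (hsol : IsSolvable G) (hirr : Cfsg.Geo.ActsIrreducibly (Cfsg.Geo.matrixSet G)) (hprim : ∀ (m t : ℕ) (D : Fin t → Submodule F (Fin n → F)), 2 ≤ t → Cfsg.Geo.IsMDecomposition m D → ¬ G ≤ Cfsg.Geo.decompositionStabilizer D) (g : Matrix.GeneralLinearGroup (Fin n) F) (hg : g ∈ G) (hg1 : g ≠ 1) :
    4 * Module.finrank F (Module.End.eigenspace (Matrix.toLin' (g : Matrix (Fin n) (Fin n) F)) 1) ≤ 3 * n := by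
  classical
  let f : G → (Fin n → F) →ₗ[F] (Fin n → F) := fun x =>
    Matrix.toLin' ((x : Matrix.GeneralLinearGroup (Fin n) F) : Matrix (Fin n) (Fin n) F)
  let d : G → ℕ := fun x => Module.finrank F (Module.End.eigenspace (f x) 1)
  have fixed : ∀ (x : G) v, v ∈ Module.End.eigenspace (f x) 1 ↔
      ((x : Matrix.GeneralLinearGroup (Fin n) F) : Matrix (Fin n) (Fin n) F).mulVec v = v := by
    intro x v
    rw [Module.End.mem_eigenspace_iff, one_smul]
    rfl
  by_contra hcon
  push Not at hcon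
  have hsol' : Group.IsSolvable G := hsol
  have h1 := abstract_bound (G := G) n d ?_ ?_ ⟨g, hg⟩ hcon
  · exact hg1 (congrArg Subtype.val h1)
  · intro a b
    set U := Module.End.eigenspace (f a) 1 with hU
    have hinj : Function.Injective (f b) := by
      intro u w h
      have h' := congrArg (f b⁻¹) h
      have e : ∀ z, f b⁻¹ (f b z) = z := by
        intro z
        simp [f, Matrix.mulVec_mulVec, ← Units.val_mul]
      rwa [e, e] at h'
    have hle : U ⊓ U.map (f b) ≤ Module.End.eigenspace (f ⁅a, b⁆) 1 := by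
      rintro u ⟨hu, w, hw, rfl⟩
      rw [fixed]
      have hu' := (fixed a _).1 hu
      have hw' := (fixed a w).1 hw
      have hfb : f b w = ((b : Matrix.GeneralLinearGroup (Fin n) F) : Matrix (Fin n) (Fin n) F).mulVec w := rfl
      rw [hfb] at hu' ⊢
      have hwi : (((a : Matrix.GeneralLinearGroup (Fin n) F)⁻¹ : Matrix.GeneralLinearGroup (Fin n) F) : Matrix (Fin n) (Fin n) F).mulVec w = w := by
        conv_lhs => rw [← hw']
        rw [Matrix.mulVec_mulVec, ← Units.val_mul, inv_mul_cancel, Units.val_one, Matrix.one_mulVec]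
      have hab' : ((⁅a, b⁆ : G) : Matrix.GeneralLinearGroup (Fin n) F) * (b : Matrix.GeneralLinearGroup (Fin n) F)
          = (a : Matrix.GeneralLinearGroup (Fin n) F) * b * (a : Matrix.GeneralLinearGroup (Fin n) F)⁻¹ := by
        simp [commutatorElement_def]
      rw [Matrix.mulVec_mulVec, ← Units.val_mul, hab', Units.val_mul, Units.val_mul,
        ← Matrix.mulVec_mulVec, ← Matrix.mulVec_mulVec, hwi, hu']
    have h2 := Submodule.finrank_sup_add_finrank_inf_eq U (U.map (f b))
    have h3 : Module.finrank F ↥(U.map (f b)) = Module.finrank F U :=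
      (Submodule.equivMapOfInjective _ hinj U).finrank_eq.symm
    have h4 := Submodule.finrank_le (U ⊔ U.map (f b))
    have h5 := Submodule.finrank_mono hle
    rw [Module.finrank_fin_fun] at h4
    show 2 * Module.finrank F U ≤ Module.finrank F (Module.End.eigenspace (f ⁅a, b⁆) 1) + n
    omega
  · intro A hA hAc a ha hd
    obtain ⟨v, hv, hv0⟩ := Submodule.exists_mem_ne_zero_of_ne_bot
      (p := Module.End.eigenspace (f a) 1) (by
        intro h
        have : d a = 0 := by
          show Module.finrank F (Module.End.eigenspace (f a) 1) = 0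
          rw [h]; exact finrank_bot F _
        omega)
    refine Subtype.ext (fixed_free G (A.map G.subtype) hirr hprim ?_ ?_ a ⟨a, ha, rfl⟩ v hv0 ((fixed a v).1 hv))
    · rintro k hk _ ⟨c, hc, rfl⟩
      exact ⟨_, hA.conj_mem c hc ⟨k, hk⟩, by simp⟩
    · rintro _ ⟨c, hc, rfl⟩ _ ⟨c', hc', rfl⟩
      rw [← map_mul, hAc c hc c' hc', map_mul]

end Cfsg.Agent.S5876
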