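import Cfsg.Statements.S5877
import Cfsg.Agent.H98.ExtraEigen.Main

set_option autoImplicit false
open Cfsg Cfsg.Agent.H98.ExtraEigen
open scoped commutatorElement

namespace Cfsg.Agent.S5877

/-- Eigenspaces of elements normalising an absolutely irreducible extraspecial group. Let F be a finite field, r a prime, and R ≤ GL_n(F) an absolutely irreducible extraspecial r-group (an r-group whose centre equals its derived subgroup and has order r) of exponent r or 4. Let g ∈ GL_n(F) normalise the product of R with the scalar matrices, have prime order ϖ and not be scalar, and let W be the eigenspace of g for any c ∈ F (W may be the zero subspace). Then dim W ≤ 3n/4 if ϖ = 2, dim W ≤ 2n/3 if ϖ = 3, and dim W ≤ n/2 if ϖ > 3; moreover if ϖ = 3 and 3 does not divide n then dim W ≤ n/2. -/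
theorem result {F : Type*} [Field F] [Fintype F] {n r ϖ : ℕ} (R : Subgroup (Matrix.GeneralLinearGroup (Fin n) F)) (hr : r.Prime) (hR : IsPGroup r R) (hZ : Nat.card (Subgroup.center R) = r) (hext : commutator R = Subgroup.center R) (hexp : Monoid.exponent R = r ∨ Monoid.exponent R = 4) (hirr : Cfsg.Geo.ActsAbsolutelyIrreducibly (Cfsg.Geo.matrixSet R)) (g : Matrix.GeneralLinearGroup (Fin n) F) (hg : g ∈ Cfsg.Geo.subgroupNormalizer (R ⊔ Cfsg.Geo.scalars (Fin n) F)) (hϖ : ϖ.Prime) (hord : orderOf g = ϖ) (hns : g ∉ Cfsg.Geo.scalars (Fin n) F) (c : F) :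
    (ϖ = 2 → 4 * Module.finrank F (Module.End.eigenspace (Matrix.toLin' (g : Matrix (Fin n) (Fin n) F)) c) ≤ 3 * n) ∧
    (ϖ = 3 → 3 * Module.finrank F (Module.End.eigenspace (Matrix.toLin' (g : Matrix (Fin n) (Fin n) F)) c) ≤ 2 * n) ∧
    (3 < ϖ → 2 * Module.finrank F (Module.End.eigenspace (Matrix.toLin' (g : Matrix (Fin n) (Fin n) F)) c) ≤ n) ∧
    (ϖ = 3 → ¬ 3 ∣ n → 2 * Module.finrank F (Module.End.eigenspace (Matrix.toLin' (g : Matrix (Fin n) (Fin n) F)) c) ≤ n) := by
  classical
  let eA : Matrix (Fin n) (Fin n) F ≃ₐ[F] Module.End F (Fin n → F) := Matrix.toLinAlgEquiv'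
  let e : Matrix.GeneralLinearGroup (Fin n) F ≃* (Module.End F (Fin n → F))ˣ := Units.mapEquiv eA.toMulEquiv
  have he : ∀ h : Matrix.GeneralLinearGroup (Fin n) F,
      (e h : Module.End F (Fin n → F)) = eA (h : Matrix (Fin n) (Fin n) F) := fun h => rfl
  have hn : Nonempty (Fin n) := by
    by_contra hc
    rw [not_nonempty_iff] at hc
    exact hns (by rw [Subsingleton.elim g 1]; exact one_mem _)
  -- matrices commuting with `R`
  have hcent : ∀ M : Matrix (Fin n) (Fin n) F,
      (∀ x ∈ R, M * (x : Matrix (Fin n) (Fin n) F) = (x : Matrix (Fin n) (Fin n) F) * M) →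
      ∃ c : F, M = c • (1 : Matrix (Fin n) (Fin n) F) := by
    intro M hM
    refine hirr.2 M ?_
    rintro _ ⟨x, hx, rfl⟩
    exact hM x hx
  have hcommR : ∀ x ∈ R, ∀ y ∈ R, ∃ ζ : F, ζ ^ r = 1 ∧
      (x : Matrix (Fin n) (Fin n) F) * y = ζ • ((y : Matrix (Fin n) (Fin n) F) * x) := by
    intro x hx y hy
    have hz : ⁅(⟨x, hx⟩ : R), (⟨y, hy⟩ : R)⁆ ∈ Subgroup.center R := by
      rw [← hext, commutator_def]
      exact Subgroup.commutator_mem_commutator (Subgroup.mem_top _) (Subgroup.mem_top _)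
    generalize hzdef : ⁅(⟨x, hx⟩ : R), (⟨y, hy⟩ : R)⁆ = z at hz
    obtain ⟨ζ, hζ⟩ := hcent ((z : Matrix.GeneralLinearGroup (Fin n) F) : Matrix (Fin n) (Fin n) F) fun w hw => by
      have := congrArg (fun u : R => (((u : Matrix.GeneralLinearGroup (Fin n) F)) : Matrix (Fin n) (Fin n) F))
        (Subgroup.mem_center_iff.1 hz ⟨w, hw⟩)
      simpa using this.symm
    refine ⟨ζ, ?_, ?_⟩
    · have h1 : (⟨z, hz⟩ : Subgroup.center R) ^ r = 1 := by rw [← hZ]; exact pow_card_eq_one'
      have h2 := congrArg (fun u : Subgroup.center R =>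
        (((u : R) : Matrix.GeneralLinearGroup (Fin n) F) : Matrix (Fin n) (Fin n) F)) h1
      simp only [SubgroupClass.coe_pow, Units.val_pow_eq_pow_val, hζ, smul_pow, one_pow, OneMemClass.coe_one,
        Units.val_one] at h2
      exact smul_left_injective F one_ne_zero (h2.trans (one_smul F _).symm)
    · have h3 : (z : Matrix.GeneralLinearGroup (Fin n) F) * (y * x) = x * y := by
        rw [← hzdef, commutatorElement_def]
        simp [mul_assoc]
      have h4 := congrArg (fun u : Matrix.GeneralLinearGroup (Fin n) F => (u : Matrix (Fin n) (Fin n) F)) h3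
      simp only [Units.val_mul, hζ, smul_mul_assoc, one_mul] at h4
      exact h4.symm
  set Pm := R ⊔ Cfsg.Geo.scalars (Fin n) F with hPm
  have hmem : ∀ a ∈ Pm, ∃ x ∈ R, ∃ t : F, t ≠ 0 ∧
      (a : Matrix (Fin n) (Fin n) F) = t • (x : Matrix (Fin n) (Fin n) F) := by
    intro a ha
    obtain ⟨x, hx, s, hs, rfl⟩ := Subgroup.mem_sup_of_normal_right.1 ha
    obtain ⟨t, ht⟩ := (Cfsg.Geo.mem_scalars_iff s).1 hs
    exact ⟨x, hx, t, t.ne_zero, by rw [Units.val_mul, ht, Matrix.mul_smul, mul_one]⟩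
  have hH : Hyp (Pm.map e.toMonoidHom) (e g) r ϖ := by
    refine ⟨hr, hϖ, ?_, ?_, ?_, ?_, ?_, ?_⟩
    · rintro _ ⟨a, ha, rfl⟩ _ ⟨b, hb, rfl⟩
      obtain ⟨x, hx, s, -, hax⟩ := hmem a ha
      obtain ⟨y, hy, t, -, hby⟩ := hmem b hb
      obtain ⟨ζ, hζ, hxy⟩ := hcommR x hx y hy
      refine ⟨ζ, hζ, ?_⟩
      simp only [MulEquiv.coe_toMonoidHom, he, ← map_mul, ← map_smul]
      congr 1
      rw [hax, hby, smul_mul_smul_comm, hxy, smul_mul_smul_comm, smul_comm, mul_comm s t]
    · intro X hX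
      obtain ⟨M, rfl⟩ := eA.surjective X
      obtain ⟨c, hc⟩ := hcent M fun x hx => eA.injective (by
        rw [map_mul, map_mul, ← he]
        exact hX _ ⟨x, Subgroup.mem_sup_left hx, rfl⟩)
      exact ⟨c, by rw [hc, map_smul, map_one]⟩
    · intro a
      obtain ⟨b, rfl⟩ := e.surjective a
      rw [← map_inv, ← map_mul, ← map_mul]
      simp only [Subgroup.mem_map_equiv, MulEquiv.symm_apply_apply]
      exact Subgroup.mem_normalizer_iff.1 hg b
    · rintro hodd _ ⟨a, ha, rfl⟩
      obtain ⟨x, hx, t, ht, hax⟩ := hmem a ha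
      have hxr : x ^ r = 1 := by
        have h1 : Monoid.exponent R = r := by
          refine hexp.resolve_right fun h4 => ?_
          have hone : ∀ u : R, u = 1 := fun u => by
            obtain ⟨k, hk⟩ := hR u
            have h4u : u ^ 4 = 1 := h4 ▸ Monoid.pow_exponent_eq_one u
            have hu : u ^ Nat.gcd 4 (r ^ k) = 1 := pow_gcd_eq_one.2 ⟨h4u, hk⟩
            rwa [show Nat.gcd 4 (r ^ k) = 1 from
              Nat.Coprime.pow_right k ((Nat.coprime_two_left.2 hodd).pow_left 2), pow_one] at hu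
          have : Subsingleton R := ⟨fun u v => (hone u).trans (hone v).symm⟩
          rw [Monoid.exp_eq_one_of_subsingleton] at h4
          omega
        have h2 := Monoid.pow_exponent_eq_one (⟨x, hx⟩ : R)
        rw [h1] at h2
        exact congrArg Subtype.val h2
      refine ⟨t⁻¹, inv_ne_zero ht, ?_⟩
      simp only [MulEquiv.coe_toMonoidHom, he, ← map_smul, ← map_pow]
      rw [hax, smul_smul, inv_mul_cancel₀ ht, one_smul, ← Units.val_pow_eq_pow_val, hxr, Units.val_one, map_one]
    · rw [← map_pow, ← hord, pow_orderOf_eq_one, map_one]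
    · rintro ⟨s, hs⟩
      rw [he, ← map_one eA, ← map_smul] at hs
      have hg' := eA.injective hs
      have hs0 : s ≠ 0 := fun h0 => g.ne_zero (by rw [hg', h0, zero_smul])
      exact hns ((Cfsg.Geo.mem_scalars_iff g).2 ⟨Units.mk0 s hs0, hg'⟩)
  have hrn : r ∣ n := by
    obtain ⟨x, hx⟩ : ∃ x : R, x ∉ Subgroup.center R := by
      by_contra hc
      push Not at hc
      have h1 : commutator R = ⊥ := by
        rw [commutator_def, Subgroup.commutator_eq_bot_iff_le_centralizer]
        intro a _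
        exact Subgroup.mem_centralizer_iff.2 fun b _ => (Subgroup.mem_center_iff.1 (hc a) b)
      rw [← hext, h1, Subgroup.card_bot] at hZ
      exact hr.one_lt.ne hZ
    obtain ⟨y, hy⟩ : ∃ y : R, y * x ≠ x * y := by simpa [Subgroup.mem_center_iff] using hx
    obtain ⟨ζ, hζ, h⟩ := hcommR y y.2 x x.2
    have hne : ζ ≠ 1 := fun h1 => hy (Subtype.ext (Units.ext (by rw [h1, one_smul] at h; exact h)))
    have hd := congrArg Matrix.det h
    rw [Matrix.det_smul, Matrix.det_mul, Matrix.det_mul, Fintype.card_fin, mul_comm (Matrix.det _)] at hd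
    have hu : ∀ u : R, ((u : Matrix.GeneralLinearGroup (Fin n) F) : Matrix (Fin n) (Fin n) F).det ≠ 0 := fun u =>
      ((Matrix.isUnit_iff_isUnit_det _).1 (Units.isUnit _)).ne_zero
    have hζn : ζ ^ n = 1 := mul_right_cancel₀ (mul_ne_zero (hu x) (hu y)) (hd.symm.trans (one_mul _).symm)
    haveI := Fact.mk hr
    rw [← orderOf_eq_prime hζ hne]
    exact orderOf_dvd_of_pow_eq_one hζn
  have hfin : Module.finrank F (Fin n → F) = n := Module.finrank_fin_fun F
  have hW : Module.End.eigenspace (Matrix.toLin' (g : Matrix (Fin n) (Fin n) F)) c =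
      (e g : Module.End F (Fin n → F)).eigenspace c := rfl
  rw [hW]
  set d := Module.finrank F ↥((e g : Module.End F (Fin n → F)).eigenspace c) with hd
  have hodd : ϖ ≠ 2 → Odd ϖ := fun h => hϖ.odd_of_ne_two h
  have hweak : ϖ = 2 ∨ (ϖ = 3 ∧ r = 3) → ϖ * d ≤ n ∨ r * (2 * d - n) ≤ n := by
    intro _
    by_cases h1 : ∀ a ∈ Pm.map e.toMonoidHom, ∃ s : F, (e g : Module.End F (Fin n → F)) * a =
        s • ((a : Module.End F (Fin n → F)) * (e g : Module.End F (Fin n → F)))
    · exact Or.inl (hfin ▸ hH.of_all_scalar h1 c)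
    · push Not at h1
      obtain ⟨a, ha, h1⟩ := h1
      exact Or.inr (hfin ▸ hH.mul_le_of_nonscalar ha (fun ⟨s, hs⟩ => h1 s hs) c)
  refine ⟨fun h2 => ?_, fun h3 => ?_, fun h5 => ?_, fun h3 h3n => ?_⟩
  · have hr2 := hr.two_le
    rcases hweak (Or.inl h2) with h | h
    · rw [h2] at h; omega
    · have := (Nat.mul_le_mul_right (2 * d - n) hr2).trans h
      omega
  · by_cases hr3 : r = 3
    · rcases hweak (Or.inr ⟨h3, hr3⟩) with h | h
      · rw [h3] at h; omega
      · rw [hr3] at h; omega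
    · have := hfin ▸ hH.two_mul_le (hodd (by omega)) (fun h => hr3 h.2) c
      omega
  · exact hfin ▸ hH.two_mul_le (hodd (by omega)) (fun h => by omega) c
  · exact hfin ▸ hH.two_mul_le (hodd (by omega)) (fun h => h3n (h.2 ▸ hrn)) c

end Cfsg.Agent.S5877
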