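import Cfsg.Statements.S5885
-- import your own Cfsg.Agent.* helpers here

set_option autoImplicit false
open Cfsg

namespace Cfsg.Agent.S5885


open MulAction Equiv

section Action

variable {G Ω : Type*} [Group G] [Fintype Ω] [DecidableEq Ω] [MulAction G Ω]

theorem realize (hA : alternatingGroup Ω ≤ (MulAction.toPermHom G Ω).range)
    {a b c d : Ω} (hab : a ≠ b) (hcd : c ≠ d) :
    ∃ g : G, ∀ x : Ω, g • x = Equiv.swap a b (Equiv.swap c d x) := by
  obtain ⟨g, hg⟩ := hA (x := Equiv.swap a b * Equiv.swap c d)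
    (Equiv.Perm.mem_alternatingGroup.2 (by
      rw [Equiv.Perm.sign_mul, Equiv.Perm.sign_swap hab, Equiv.Perm.sign_swap hcd]
      decide))
  exact ⟨g, fun x => by
    have := Equiv.Perm.congr_fun hg x
    simpa using this⟩

theorem cyc3 (hA : alternatingGroup Ω ≤ (MulAction.toPermHom G Ω).range)
    {p q r : Ω} (hpq : p ≠ q) (hqr : q ≠ r) (hpr : p ≠ r) :
    ∃ g : G, g • p = q ∧ g • q = r ∧ g • r = p ∧ ∀ x, x ≠ p → x ≠ q → x ≠ r → g • x = x := by
  obtain ⟨g, hg⟩ := realize hA hpq hqr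
  refine ⟨g, ?_, ?_, ?_, fun x h1 h2 h3 => ?_⟩ <;> rw [hg]
  · rw [Equiv.swap_apply_of_ne_of_ne hpq hpr, Equiv.swap_apply_left]
  · rw [Equiv.swap_apply_left, Equiv.swap_apply_of_ne_of_ne hpr.symm hqr.symm]
  · rw [Equiv.swap_apply_right, Equiv.swap_apply_right]
  · rw [Equiv.swap_apply_of_ne_of_ne h2 h3, Equiv.swap_apply_of_ne_of_ne h1 h2]

theorem main_action [Finite G] [MulAction.IsPretransitive G Ω] (hodd : Odd (Fintype.card Ω))
    (hn3 : 3 ≤ Fintype.card Ω) (hA : alternatingGroup Ω ≤ (MulAction.toPermHom G Ω).range)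
    (x0 : Ω) (M : Subgroup G) (hMdef : ∀ g : G, g ∈ M ↔ g • x0 = x0) (hM : IsCoatom M)
    (H : Subgroup G) (hHM : H ≤ M) (hmax : ∀ X : Subgroup G, H ≤ X → X ≤ M → X = H ∨ X = M)
    (hHne : H ≠ M)
    (K : Subgroup G) (hK : IsCoatom K) (hHK : H ≤ K) :
    H ≠ K ∧ ∀ L : Subgroup G, H ≤ L → L ≤ K → L = H ∨ L = K := by
  classical
  rcases eq_or_ne K M with rfl | hKM
  · exact ⟨hHne, hmax⟩
  have hMK : ¬ M ≤ K := fun h => hKM (hM.le_iff.1 h |>.resolve_left hK.1)
  have hinf : K ⊓ M = H := (hmax _ (le_inf hHK hHM) inf_le_right).resolve_right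
    fun h => hMK (h ▸ inf_le_left)
  refine ⟨fun h => hKM ((hK.le_iff.1 (h ▸ hHM)).resolve_left hM.1).symm, fun L hHL hLK => ?_⟩
  by_contra hno
  push Not at hno
  obtain ⟨hLH, hLK'⟩ := hno
  -- the orbit of L
  let B : Set Ω := {x | ∃ l ∈ L, l • x0 = x}
  let Δ : Set Ω := {x | ∃ k ∈ K, k • x0 = x}
  have hBΔ : B ≠ Δ := by
    intro h
    refine hLK' (le_antisymm hLK fun k hk => ?_)
    obtain ⟨l, hl, e⟩ : k • x0 ∈ B := h ▸ ⟨k, hk, rfl⟩
    have h1 : l⁻¹ * k ∈ H := hinf ▸ ⟨K.mul_mem (K.inv_mem (hLK hl)) hk,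
      (hMdef _).2 (by rw [mul_smul, ← e, inv_smul_smul])⟩
    have := L.mul_mem hl (hHL h1)
    rwa [mul_inv_cancel_left] at this
  have hx0B : x0 ∈ B := ⟨1, L.one_mem, one_smul _ _⟩
  obtain ⟨l0, hl0, hy0⟩ : ∃ l ∈ L, l • x0 ≠ x0 := by
    by_contra h
    push Not at h
    exact hLH (le_antisymm (fun l hl => hinf ▸ ⟨hLK hl, (hMdef l).2 (h l hl)⟩) hHL)
  set y := l0 • x0 with hy
  have hyB : y ∈ B := ⟨l0, hl0, rfl⟩
  by_cases htr : Δ = Set.univ
  · -- K transitive
    obtain ⟨z, hz⟩ : ∃ z, z ∉ B := by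
      by_contra h
      push Not at h
      exact hBΔ (by rw [htr]; exact Set.eq_univ_of_forall h)
    -- blocks
    have blk : ∀ k ∈ K, ∀ u, u ∈ B → k • u ∈ B → ∀ v ∈ B, k • v ∈ B := by
      rintro k hk _ ⟨l, hl, rfl⟩ ⟨l', hl', e⟩ _ ⟨m, hm, rfl⟩
      have h1 : l'⁻¹ * k * l ∈ H := hinf ▸ ⟨K.mul_mem (K.mul_mem (K.inv_mem (hLK hl')) hk) (hLK hl),
        (hMdef _).2 (by rw [mul_smul, mul_smul, ← e, inv_smul_smul])⟩
      have h2 : k ∈ L := by
        have := L.mul_mem (L.mul_mem hl' (hHL h1)) (L.inv_mem hl)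
        rwa [show l' * (l'⁻¹ * k * l) * l⁻¹ = k by group] at this
      exact ⟨k * m, L.mul_mem h2 hm, mul_smul _ _ _⟩
    let R : Ω → Ω → Prop := fun u v => ∃ k ∈ K, k • u ∈ B ∧ k • v ∈ B
    have Rsymm : ∀ u v, R u v → R v u := fun u v ⟨k, hk, h1, h2⟩ => ⟨k, hk, h2, h1⟩
    have Rrefl : ∀ u, R u u := by
      intro u
      obtain ⟨k, hk, e⟩ : u ∈ Δ := htr ▸ Set.mem_univ u
      have : k⁻¹ • u ∈ B := by rw [← e, inv_smul_smul]; exact hx0B
      exact ⟨k⁻¹, K.inv_mem hk, this, this⟩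
    have Rtrans : ∀ u v w, R u v → R v w → R u w := by
      rintro u v w ⟨k, hk, h1, h2⟩ ⟨k', hk', h3, h4⟩
      have e : ∀ x : Ω, (k * k'⁻¹) • (k' • x) = k • x := fun x => by rw [mul_smul, inv_smul_smul]
      refine ⟨k, hk, h1, ?_⟩
      have := blk (k * k'⁻¹) (K.mul_mem hk (K.inv_mem hk')) (k' • v) h3 (by rw [e]; exact h2) _ h4
      rwa [e] at this
    have RB : ∀ u, R x0 u ↔ u ∈ B := by
      intro u
      refine ⟨?_, fun hu => ⟨1, K.one_mem, by rwa [one_smul], by rwa [one_smul]⟩⟩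
      rintro ⟨k, hk, h1, h2⟩
      have := blk k⁻¹ (K.inv_mem hk) (k • x0) h1 (by rw [inv_smul_smul]; exact hx0B) _ h2
      rwa [inv_smul_smul] at this
    let S : Subgroup G :=
      { carrier := {g | ∀ u v, R (g • u) (g • v) ↔ R u v}
        one_mem' := fun u v => by rw [one_smul, one_smul]
        mul_mem' := fun {a b} ha hb u v => by rw [mul_smul, mul_smul, ha, hb]
        inv_mem' := fun {a} ha u v => by
          have := ha (a⁻¹ • u) (a⁻¹ • v)
          rw [smul_inv_smul, smul_inv_smul] at this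
          exact this.symm }
    have hKS : K ≤ S := by
      intro k hk u v
      constructor
      · rintro ⟨k', hk', h1, h2⟩
        exact ⟨k' * k, K.mul_mem hk' hk, by rwa [mul_smul], by rwa [mul_smul]⟩
      · rintro ⟨k', hk', h1, h2⟩
        exact ⟨k' * k⁻¹, K.mul_mem hk' (K.inv_mem hk), by rwa [mul_smul, inv_smul_smul],
          by rwa [mul_smul, inv_smul_smul]⟩
    -- a point in a third block
    obtain ⟨k, hk, hkz⟩ : z ∈ Δ := htr ▸ Set.mem_univ z
    have hRz : ∀ u, R z u ↔ k⁻¹ • u ∈ B := by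
      intro u
      rw [← RB, ← hKS (K.inv_mem hk) z u, ← hkz, inv_smul_smul]
    obtain ⟨w, hwB, hwz⟩ : ∃ w, w ∉ B ∧ ¬ R z w := by
      by_contra h
      push Not at h
      have hcompl : Bᶜ = (fun x => k • x) '' B := by
        ext u
        constructor
        · intro hu
          exact ⟨k⁻¹ • u, (hRz u).1 (h u hu), smul_inv_smul _ _⟩
        · rintro ⟨b, hb, rfl⟩ (hu : k • b ∈ B)
          exact hz ((RB z).1 (Rtrans _ _ _ ((RB _).2 hu) (Rsymm _ _ ((hRz _).2 (by rwa [inv_smul_smul])))))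
      have h1 := Set.ncard_add_ncard_compl B
      rw [hcompl, Set.ncard_image_of_injective _ (MulAction.injective k), Nat.card_eq_fintype_card] at h1
      obtain ⟨j, hj⟩ := hodd
      omega
    have hyz' : ¬ R x0 z := fun h => hz ((RB z).1 h)
    have hyne : x0 ≠ y := fun h => hy0 h.symm
    have hyzne : y ≠ z := fun h => hz (h ▸ hyB)
    have hywne : y ≠ w := fun h => hwB (h ▸ hyB)
    have hzw : z ≠ w := fun h => hwz (h ▸ Rrefl z)
    have hx0z : x0 ≠ z := fun h => hz (h ▸ hx0B)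
    have hx0w : x0 ≠ w := fun h => hwB (h ▸ hx0B)
    obtain ⟨g, g1, -, -, g4⟩ := cyc3 hA hyzne hzw hywne
    have gx0 : g • x0 = x0 := g4 x0 hyne hx0z hx0w
    have hgS : g ∉ S := by
      intro hg
      apply hyz'
      have := (hg x0 y).2 ((RB y).2 hyB)
      rwa [gx0, g1] at this
    have hKeq : K = S := ((hK.le_iff.1 hKS).resolve_left fun h => hgS (h ▸ Subgroup.mem_top g)).symm
    -- stabilizer of B inside M
    let X : Subgroup G := M ⊓
      { carrier := {g | ∀ u, g • u ∈ B ↔ u ∈ B}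
        one_mem' := fun u => by rw [one_smul]
        mul_mem' := fun {a b} ha hb u => by rw [mul_smul, ha, hb]
        inv_mem' := fun {a} ha u => by
          have := ha (a⁻¹ • u)
          rw [smul_inv_smul] at this
          exact this.symm }
    have hHX : H ≤ X := by
      intro h hh
      refine ⟨hHM hh, fun u => ?_⟩
      have hS : h ∈ S := hKS (hHK hh)
      rw [← RB, ← RB, ← hS x0 u, (hMdef h).1 (hHM hh)]
    have hXM : X ≠ M := by
      intro h
      have : g ∈ X := h ▸ (hMdef g).2 gx0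
      exact hz (g1 ▸ (this.2 y).2 hyB)
    have hXH : X = H := (hmax X hHX inf_le_left).resolve_right hXM
    -- a permutation fixing B but not the partition
    obtain ⟨z', hz'1, hz'2⟩ : ∃ z', R z z' ∧ z' ≠ z := by
      refine ⟨k • y, (hRz _).2 (by rwa [inv_smul_smul]), fun h => hyne ?_⟩
      exact MulAction.injective k (hkz.trans h.symm)
    have hz'B : z' ∉ B := fun h => hz ((RB z).1 (Rtrans _ _ _ ((RB z').2 h) (Rsymm _ _ hz'1)))
    have hwz' : w ≠ z' := fun h => hwz (h ▸ hz'1)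
    obtain ⟨σ, s1, s2, s3, s4⟩ := cyc3 hA hzw hwz' hz'2.symm
    have hσX : σ ∈ X := by
      have hfix : ∀ u ∈ B, σ • u = u := fun u hu => s4 u (fun h => hz (h ▸ hu))
        (fun h => hwB (h ▸ hu)) (fun h => hz'B (h ▸ hu))
      refine ⟨(hMdef σ).2 (hfix x0 hx0B), fun u => ⟨fun h => ?_, fun h => by rw [hfix u h]; exact h⟩⟩
      have h1 := hfix _ h
      rwa [MulAction.injective σ h1] at h
    have hσS : σ ∈ S := hKS (hHK (hXH ▸ hσX))
    apply hwz
    have := (hσS z z').2 hz'1
    rw [s1, s3] at this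
    exact Rsymm _ _ this
  · -- K intransitive
    let S : Subgroup G :=
      { carrier := {g | ∀ u, g • u ∈ Δ ↔ u ∈ Δ}
        one_mem' := fun u => by rw [one_smul]
        mul_mem' := fun {a b} ha hb u => by rw [mul_smul, ha, hb]
        inv_mem' := fun {a} ha u => by
          have := ha (a⁻¹ • u)
          rw [smul_inv_smul] at this
          exact this.symm }
    have hKS : K ≤ S := by
      intro k hk u
      constructor
      · rintro ⟨k', hk', e⟩
        exact ⟨k⁻¹ * k', K.mul_mem (K.inv_mem hk) hk', by rw [mul_smul, e, inv_smul_smul]⟩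
      · rintro ⟨k', hk', rfl⟩
        exact ⟨k * k', K.mul_mem hk hk', mul_smul _ _ _⟩
    have hKeq : K = S := by
      refine ((hK.le_iff.1 hKS).resolve_left fun h => htr (Set.eq_univ_of_forall fun u => ?_)).symm
      obtain ⟨g, rfl⟩ := MulAction.exists_smul_eq G x0 u
      exact ((h ▸ Subgroup.mem_top g : g ∈ S) x0).2 ⟨1, K.one_mem, one_smul _ _⟩
    apply hBΔ
    refine Set.Subset.antisymm (fun u ⟨l, hl, e⟩ => ⟨l, hLK hl, e⟩) fun u hu => ?_
    by_cases hu0 : u = x0
    · exact hu0 ▸ hx0B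
    by_cases huy : u = y
    · exact huy ▸ hyB
    -- an element of H moving y to u
    suffices ∃ h : G, h ∈ S ∧ h • x0 = x0 ∧ h • y = u by
      obtain ⟨h, hS, h0, h1⟩ := this
      have hH : h ∈ H := hinf ▸ ⟨hKeq ▸ hS, (hMdef h).2 h0⟩
      exact ⟨h * l0, L.mul_mem (hHL hH) hl0, by rw [mul_smul, ← hy, h1]⟩
    have hyΔ : y ∈ Δ := ⟨l0, hLK hl0, rfl⟩
    have hx0Δ : x0 ∈ Δ := ⟨1, K.one_mem, one_smul _ _⟩
    by_cases h4 : ∃ w ∈ Δ, w ≠ x0 ∧ w ≠ y ∧ w ≠ u
    · obtain ⟨w, hw, w0, w1, w2⟩ := h4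
      obtain ⟨g, g1, g2, g3, g4⟩ := cyc3 hA (Ne.symm huy) w2.symm w1.symm
      refine ⟨g, fun v => ?_, g4 x0 (fun h => hy0 h.symm) (Ne.symm hu0) w0.symm, g1⟩
      rcases eq_or_ne v y with rfl | a1
      · simp [g1, hu, hyΔ]
      rcases eq_or_ne v u with rfl | a2
      · simp [g2, hw, hu]
      rcases eq_or_ne v w with rfl | a3
      · simp [g3, hyΔ, hw]
      · rw [g4 v a1 a2 a3]
    · push Not at h4
      obtain ⟨p, hp⟩ : ∃ p, p ∉ Δ := by
        by_contra h
        push Not at h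
        exact htr (Set.eq_univ_of_forall h)
      obtain ⟨p', hp', hpp⟩ : ∃ p', p' ∉ Δ ∧ p' ≠ p := by
        by_contra h
        push Not at h
        have hsub : (Finset.univ : Finset Ω) ⊆ {x0, y, u, p} := by
          intro v _
          simp only [Finset.mem_insert, Finset.mem_singleton]
          by_cases hv : v ∈ Δ
          · have := h4 v hv
            tauto
          · exact Or.inr (Or.inr (Or.inr (h v hv)))
        have hsup : ({x0, y, u, p} : Finset Ω) ⊆ Finset.univ := Finset.subset_univ _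
        have hcard : ({x0, y, u, p} : Finset Ω).card = 4 := by
          have n1 : x0 ≠ y := fun h => hy0 h.symm
          have n2 : x0 ≠ u := Ne.symm hu0
          have n3 : x0 ≠ p := fun h => hp (h ▸ hx0Δ)
          have n4 : y ≠ u := Ne.symm huy
          have n5 : y ≠ p := fun h => hp (h ▸ hyΔ)
          have n6 : u ≠ p := fun h => hp (h ▸ hu)
          simp [n1, n2, n3, n4, n5, n6]
        rw [Finset.Subset.antisymm hsup hsub, Finset.card_univ] at hcard
        rw [hcard] at hodd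
        exact absurd hodd (by decide)
      obtain ⟨g, hg⟩ := realize hA (Ne.symm huy) hpp
      have hfix : ∀ v ∈ Δ, Equiv.swap p' p v = v := fun v hv => Equiv.swap_apply_of_ne_of_ne
        (fun h => hp' (h ▸ hv)) (fun h => hp (h ▸ hv))
      refine ⟨g, fun v => ?_, ?_, ?_⟩
      · rw [hg]
        have e1 : ∀ v, Equiv.swap y u v ∈ Δ ↔ v ∈ Δ := by
          intro v
          rcases eq_or_ne v y with rfl | a1
          · simp [hu, hyΔ]
          rcases eq_or_ne v u with rfl | a2
          · simp [hu, hyΔ]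
          · rw [Equiv.swap_apply_of_ne_of_ne a1 a2]
        rw [e1]
        rcases eq_or_ne v p' with rfl | a1
        · simp [hp, hp']
        rcases eq_or_ne v p with rfl | a2
        · simp [hp, hp']
        · rw [Equiv.swap_apply_of_ne_of_ne a1 a2]
      · rw [hg, hfix x0 hx0Δ, Equiv.swap_apply_of_ne_of_ne (fun h => hy0 h.symm) (Ne.symm hu0)]
      · rw [hg, hfix y hyΔ, Equiv.swap_apply_left]

end Action

/-- Let n be an odd positive integer such that every primitive permutation group of degree n contains the alternating group (so the symmetric and alternating groups are the only primitive groups of degree n). Let G be a finite group, M a maximal subgroup of G of index n, and H a maximal subgroup of M. Then H is a second maximal subgroup of G: H is maximal in every maximal subgroup K of G containing H. -/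
theorem result {G : Type*} [Group G]
    [Finite G] (n : ℕ) (hodd : Odd n)
    (hA : ∀ P : Subgroup (Equiv.Perm (Fin n)), MulAction.IsPreprimitive P (Fin n) → alternatingGroup (Fin n) ≤ P)
    (M : Subgroup G) (hM : IsCoatom M) (hn : M.index = n) (H : Subgroup G) (hHM : H ≤ M)
    (hmax : IsCoatom (H.subgroupOf M)) (K : Subgroup G) (hK : IsCoatom K) (hHK : H ≤ K) :
    IsCoatom (H.subgroupOf K) := by
  classical
  have := Fintype.ofFinite (G ⧸ M)
  have hcard : Fintype.card (G ⧸ M) = n := by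
    rw [← hn, Subgroup.index_eq_card, Nat.card_eq_fintype_card]
  have hn3 : 3 ≤ Fintype.card (G ⧸ M) := by
    have h1 : n ≠ 1 := fun h => hM.1 (Subgroup.index_eq_one.1 (hn.trans h))
    obtain ⟨j, hj⟩ := hodd
    omega
  have : Nontrivial (G ⧸ M) := Fintype.one_lt_card_iff_nontrivial.1 (by omega)
  let x0 : G ⧸ M := ((1 : G) : G ⧸ M)
  have hst : MulAction.stabilizer G x0 = M := MulAction.stabilizer_quotient M
  have hprim : MulAction.IsPreprimitive G (G ⧸ M) :=
    (MulAction.isCoatom_stabilizer_iff_preprimitive G x0).1 (by rw [hst]; exact hM)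
  obtain ⟨e⟩ : Nonempty (G ⧸ M ≃ Fin n) := ⟨Fintype.equivFinOfCardEq hcard⟩
  have hA' : alternatingGroup (G ⧸ M) ≤ (MulAction.toPermHom G (G ⧸ M)).range := by
    let φ : G →* Equiv.Perm (Fin n) := e.permCongrHom.toMonoidHom.comp (MulAction.toPermHom G (G ⧸ M))
    have hP : MulAction.IsPreprimitive φ.range (Fin n) := by
      let f : (G ⧸ M) →ₑ[(φ.rangeRestrict : G → φ.range)] (Fin n) :=
        { toFun := e
          map_smul' := fun g x => by
            show e (g • x) = (φ g) (e x)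
            simp [φ, Equiv.permCongrHom, MulAction.toPermHom_apply] }
      exact MulAction.IsPreprimitive.of_surjective (f := f) e.surjective
    intro σ hσ
    obtain ⟨g, hg⟩ := hA φ.range hP (x := e.permCongrHom σ) (by
      rw [Equiv.Perm.mem_alternatingGroup] at hσ ⊢
      exact (Equiv.Perm.sign_permCongr e σ).trans hσ)
    exact ⟨g, e.permCongrHom.injective hg⟩
  have hmax' : ∀ X : Subgroup G, H ≤ X → X ≤ M → X = H ∨ X = M := by
    intro X h1 h2
    rcases eq_or_lt_of_le h1 with h | h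
    · exact Or.inl h.symm
    · refine Or.inr (le_antisymm h2 ?_)
      have h3 : H.subgroupOf M < X.subgroupOf M := by
        refine lt_of_le_of_ne (Subgroup.comap_mono h1) fun he => h.ne ?_
        have := Subgroup.subgroupOf_inj.1 he
        rwa [inf_eq_left.2 hHM, inf_eq_left.2 h2] at this
      exact Subgroup.subgroupOf_eq_top.1 (hmax.2 _ h3)
  have hHne : H ≠ M := fun h => hmax.1 (Subgroup.subgroupOf_eq_top.2 h.ge)
  obtain ⟨hne, hall⟩ := main_action (hcard.symm ▸ hodd) hn3 hA' x0 M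
    (fun g => by rw [← MulAction.mem_stabilizer_iff, hst]) hM H hHM hmax' hHne K hK hHK
  refine ⟨fun h => hne (le_antisymm hHK (Subgroup.subgroupOf_eq_top.1 h)), fun L hL => ?_⟩
  have h1 : (L.map K.subtype).subgroupOf K = L :=
    Subgroup.comap_map_eq_self_of_injective K.subtype_injective L
  have h2 : H ≤ L.map K.subtype := fun x hx => ⟨⟨x, hHK hx⟩, hL.le hx, rfl⟩
  rcases hall _ h2 (Subgroup.map_subtype_le L) with h | h
  · rw [← h, h1] at hL
    exact absurd hL (lt_irrefl _)
  · rw [← h1, h]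
    exact Subgroup.subgroupOf_self K

end Cfsg.Agent.S5885
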