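import Cfsg.Statements.S5887
import Cfsg.Agent.H98.FieldSubalg

set_option autoImplicit false
open Cfsg

namespace Cfsg.Agent.S5887


open Cfsg.Agent.H98

theorem exists_intermediate {F : Type*} [Field F] [Fintype F] {n r : ℕ} (hn : 0 < n) (hr1 : 1 < r) (hrp : ¬ r.Prime)
    (K : Subalgebra F (Matrix (Fin n) (Fin n) F)) (hK : Cfsg.Geo.IsFieldSubalgebra r K) :
    ∃ K' : Subalgebra F (Matrix (Fin n) (Fin n) F), K' ≤ K ∧
      Cfsg.Geo.IsFieldSubalgebra (Module.finrank F K') K' ∧
      Cfsg.Geo.subalgebraNormalizer K ≤ Cfsg.Geo.subalgebraNormalizer K' ∧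
      (∃ g ∈ K, g ∉ K') ∧ ∃ u ∈ K', u ∉ (⊥ : Subalgebra F (Matrix (Fin n) (Fin n) F)) := by
  classical
  have hne : Nonempty (Fin n) := ⟨⟨0, hn⟩⟩
  set q := Fintype.card F with hq
  have hq1 : 1 < q := Fintype.one_lt_card
  obtain ⟨p, hp⟩ := CharP.exists F
  obtain ⟨⟨e, he0⟩, hpp, hqe⟩ := FiniteField.card F p
  have : Fact p.Prime := ⟨hpp⟩
  have : CharP (Matrix (Fin n) (Fin n) F) p := charP_of_injective_algebraMap
    (algebraMap F (Matrix (Fin n) (Fin n) F)).injective p
  set s := r.minFac with hs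
  have hsp : s.Prime := Nat.minFac_prime (by omega)
  have hsd : s ∣ r := Nat.minFac_dvd r
  have hsr : s < r := lt_of_le_of_ne (Nat.le_of_dvd (by omega) hsd) fun h => hrp (h ▸ hsp)
  set Q := q ^ s with hQ
  have hQp : Q = p ^ (e * s) := by rw [hQ, pow_mul]; exact congrArg (· ^ s) hqe
  have hQc : ∀ c : F, c ^ Q = c := fun c => FiniteField.pow_card_pow s c
  let K' : Subalgebra F (Matrix (Fin n) (Fin n) F) :=
    { carrier := {x | x ∈ K ∧ x ^ Q = x}
      mul_mem' := fun {a b} ha hb => ⟨K.mul_mem ha.1 hb.1, by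
        rw [Commute.mul_pow (hK.comm a ha.1 b hb.1), ha.2, hb.2]⟩
      one_mem' := ⟨K.one_mem, one_pow _⟩
      add_mem' := fun {a b} ha hb => ⟨K.add_mem ha.1 hb.1, by
        rw [hQp, add_pow_char_pow_of_commute (p := p) (n := e * s) (h := hK.comm a ha.1 b hb.1), ← hQp, ha.2, hb.2]⟩
      zero_mem' := ⟨K.zero_mem, zero_pow (pow_ne_zero _ (by omega))⟩
      algebraMap_mem' := fun c => ⟨K.algebraMap_mem c, by rw [← map_pow, hQc]⟩ }
  have hfield : IsField K :=
    { exists_pair_ne := ⟨0, 1, fun h => zero_ne_one (congrArg Subtype.val h : (0 : Matrix (Fin n) (Fin n) F) = 1)⟩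
      mul_comm := fun a b => Subtype.ext (hK.comm _ a.2 _ b.2)
      mul_inv_cancel := fun {a} ha => by
        obtain ⟨y, hy, h⟩ := hK.inv a.1 a.2 (fun h => ha (Subtype.ext h))
        exact ⟨⟨y, hy⟩, Subtype.ext h⟩ }
  letI : Field K := hfield.toField
  have hcardK : Nat.card K = q ^ r := by
    rw [Module.natCard_eq_pow_finrank (K := F), hK.finrank_eq, Nat.card_eq_fintype_card]
  obtain ⟨g, hg⟩ := IsCyclic.exists_ofOrder_eq_natCard (α := Kˣ)
  have hord : orderOf g = q ^ r - 1 := by rw [hg, Nat.card_units, hcardK]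
  have hQr : Q < q ^ r := Nat.pow_lt_pow_right hq1 hsr
  have hqQ : q < Q := by
    calc q = q ^ 1 := (pow_one q).symm
      _ < Q := Nat.pow_lt_pow_right hq1 hsp.one_lt
  have hval : ∀ (x : Kˣ) (m : ℕ), ((x : K) : Matrix (Fin n) (Fin n) F) ^ m = (((x ^ m : Kˣ) : K) : Matrix (Fin n) (Fin n) F) := by
    intro x m
    rw [Units.val_pow_eq_pow_val]; rfl
  have hinjv : ∀ x y : Kˣ, ((x : K) : Matrix (Fin n) (Fin n) F) = ((y : K) : Matrix (Fin n) (Fin n) F) → x = y :=
    fun x y h => Units.ext (Subtype.ext h)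
  refine ⟨K', fun x hx => hx.1, ⟨fun x hx y hy => hK.comm x hx.1 y hy.1, fun x hx hx0 => ?_, rfl⟩, ?_,
    ⟨_, (g : K).2, ?_⟩, ?_⟩
  · obtain ⟨y, hy, hxy⟩ := hK.inv x hx.1 hx0
    refine ⟨y, ⟨hy, ?_⟩, hxy⟩
    have h1 : x * y ^ Q = 1 := by
      nth_rewrite 1 [← hx.2]
      rw [← Commute.mul_pow (hK.comm x hx.1 y hy), hxy, one_pow]
    calc y ^ Q = (y * x) * y ^ Q := by rw [hK.comm y hy x hx.1, hxy, one_mul]
      _ = y := by rw [mul_assoc, h1, mul_one]
  · intro a ha
    have hconj : ∀ (b : Matrix.GeneralLinearGroup (Fin n) F) (x : Matrix (Fin n) (Fin n) F) (m : ℕ),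
        ((b : Matrix (Fin n) (Fin n) F) * x * ((b⁻¹ : Matrix.GeneralLinearGroup (Fin n) F) : Matrix (Fin n) (Fin n) F)) ^ m
          = (b : Matrix (Fin n) (Fin n) F) * x ^ m * ((b⁻¹ : Matrix.GeneralLinearGroup (Fin n) F) : Matrix (Fin n) (Fin n) F) :=
      fun b x m => Units.conj_pow b x m
    intro x
    constructor
    · rintro ⟨h1, h2⟩
      exact ⟨(ha x).1 h1, by rw [hconj, h2]⟩
    · rintro ⟨h1, h2⟩
      refine ⟨(ha x).2 h1, ?_⟩
      rw [hconj] at h2
      exact a.mul_right_inj.1 (a⁻¹.mul_left_inj.1 h2)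
  · rintro ⟨-, h⟩
    rw [hval] at h
    have h2 : g ^ (Q - 1) = 1 := by
      have h3 := hinjv _ _ h
      rw [show Q = (Q - 1) + 1 by omega, pow_succ, mul_eq_right] at h3
      exact h3
    have := Nat.le_of_dvd (by omega) (orderOf_dvd_of_pow_eq_one h2)
    omega
  · have hdiv : Q - 1 ∣ q ^ r - 1 := by
      obtain ⟨c, hc⟩ := hsd
      rw [hc, pow_mul]
      exact Nat.sub_one_dvd_pow_sub_one Q c
    obtain ⟨D, hD⟩ := hdiv
    refine ⟨((g ^ D : Kˣ) : K), ⟨((g ^ D : Kˣ) : K).2, ?_⟩, ?_⟩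
    · rw [hval]
      congr 2
      rw [show Q = (Q - 1) + 1 by omega, pow_succ, mul_eq_right, ← pow_mul, mul_comm D, ← hD, ← hord]
      exact pow_orderOf_eq_one g
    · intro h
      rw [Algebra.mem_bot] at h
      obtain ⟨c, hc⟩ := h
      have hc0 : c ≠ 0 := by
        intro h0
        rw [h0, map_zero] at hc
        exact (g ^ D).ne_zero (Subtype.ext hc.symm)
      have h1 : (g ^ D) ^ (q - 1) = 1 := by
        apply hinjv
        rw [← hval, ← hc, ← map_pow, FiniteField.pow_card_sub_one_eq_one c hc0, map_one]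
        rfl
      rw [← pow_mul] at h1
      have h2 := orderOf_dvd_of_pow_eq_one h1
      rw [hord, hD] at h2
      have hD0 : 0 < D := by
        rcases Nat.eq_zero_or_pos D with h | h
        · rw [h, mul_zero] at hD; omega
        · exact h
      rw [mul_comm (Q - 1) D] at h2
      have := Nat.le_of_dvd (by omega) (Nat.dvd_of_mul_dvd_mul_left hD0 h2)
      omega

/-- Let F be a finite field, n a positive integer and r a composite number (r > 1, not prime) that divides n with r < n. Let K be a subalgebra of the algebra of n × n matrices over F which is a field of degree r over F (commutative, every non-zero element invertible, of dimension r over F). Then the normaliser N of K in GL_n(F) (a group of type ΓL_{n/r}(F_{q^r})) is not a maximal subgroup of GL_n(F), and N ∩ SL_n(F) is not a maximal subgroup of SL_n(F): both lie properly inside the normaliser of an intermediate subfield of prime degree over F. -/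
theorem result {F : Type*} [Field F]
    [Fintype F] (n r : ℕ) (hr1 : 1 < r) (hrp : ¬ r.Prime) (hrn : r ∣ n) (hlt : r < n)
    (K : Subalgebra F (Matrix (Fin n) (Fin n) F)) (hK : Cfsg.Geo.IsFieldSubalgebra r K) :
    ¬ IsCoatom (Cfsg.Geo.subalgebraNormalizer K) ∧
      ¬ Cfsg.Geo.IsMaximalIn (Cfsg.Geo.specialLinear (Fin n) F)
        (Cfsg.Geo.subalgebraNormalizer K ⊓ Cfsg.Geo.specialLinear (Fin n) F) := by
  classical
  obtain ⟨K', hle, hK', hN, ⟨g, hg, hg'⟩, u, hu, hu'⟩ :=
    exists_intermediate (r := r) (by omega) hr1 hrp K hK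
  have hr' : Module.finrank F K' < n := by
    have h1 : Module.finrank F K' ≤ Module.finrank F K :=
      Submodule.finrank_mono (s := Subalgebra.toSubmodule K') (t := Subalgebra.toSubmodule K) hle
    rw [hK.finrank_eq] at h1
    omega
  obtain ⟨t, htS, htc, htN⟩ := exists_not_normalizing K' K hle hK'.inv hK hlt hg hg'
  obtain ⟨t', htS', -, htN'⟩ := exists_not_normalizing ⊥ K' bot_le
    (fun x hx hx0 => by
      obtain ⟨c, rfl⟩ := Algebra.mem_bot.1 hx
      have hc : c ≠ 0 := fun h => hx0 (by rw [h, map_zero])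
      exact ⟨algebraMap F _ c⁻¹, Subalgebra.algebraMap_mem _ _, by rw [← map_mul, mul_inv_cancel₀ hc, map_one]⟩)
    hK' hr' hu hu'
  have htK' : t ∈ Cfsg.Geo.subalgebraNormalizer K' := by
    intro x
    have hfix : ∀ y ∈ K', (t : Matrix (Fin n) (Fin n) F) * y *
        ((t⁻¹ : Matrix.GeneralLinearGroup (Fin n) F) : Matrix (Fin n) (Fin n) F) = y := fun y hy => by
      rw [htc y hy, mul_assoc, Units.mul_inv, mul_one]
    refine ⟨fun hx => by rwa [hfix x hx], fun hy => ?_⟩
    have h2 := hfix _ hy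
    have : (t : Matrix (Fin n) (Fin n) F) * x * ((t⁻¹ : Matrix.GeneralLinearGroup (Fin n) F) : Matrix (Fin n) (Fin n) F) = x :=
      t.mul_right_inj.1 (t⁻¹.mul_left_inj.1 h2)
    rwa [this] at hy
  constructor
  · intro hco
    rcases hco.le_iff.1 hN with h | h
    · exact htN' (h ▸ Subgroup.mem_top t')
    · exact htN (h ▸ htK')
  · rintro ⟨-, hmax⟩
    rcases hmax _ (le_inf (inf_le_left.trans hN) inf_le_right) inf_le_right with h | h
    · have h1 : t ∈ Cfsg.Geo.subalgebraNormalizer K' ⊓ Cfsg.Geo.specialLinear (Fin n) F := ⟨htK', htS⟩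
      rw [h] at h1
      exact htN h1.1
    · exact htN' (h.symm ▸ htS' : t' ∈ Cfsg.Geo.subalgebraNormalizer K' ⊓ Cfsg.Geo.specialLinear (Fin n) F).1

end Cfsg.Agent.S5887
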