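import Cfsg.Statements.S5890
import Cfsg.Agent.Linear.Dickson.PGLBridge
import Cfsg.Agent.Linear.Dickson.MaxExtra
-- import your own Cfsg.Agent.* helpers here

set_option autoImplicit false
open Cfsg Cfsg.Agent.Linear

namespace Cfsg.Agent.S5890

/-- Let F be a finite field with q ≥ 4 elements, let L ≤ PGL₂(F) be the image of SL₂(F) (a copy of PSL₂(F), of index gcd(2, q − 1)), and let M be a maximal subgroup of PGL₂(F) that does not contain L. Suppose q ∉ {7, 9, 11} and that q is not a prime congruent to ±11 or ±19 modulo 40. Then M ∩ L is a maximal subgroup of L. (For the excluded q there are maximal subgroups of PGL₂(q) — dihedral groups of order 12 and 16 at q = 7, of order 20 and 16 at q = 9, of order 20 at q = 11, and S₄ at the excluded primes — whose intersection with L is not maximal in L.) -/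
theorem result {F : Type*} [Field F]
    [Fintype F] (h4 : 4 ≤ Fintype.card F) (h7 : Fintype.card F ≠ 7) (h9 : Fintype.card F ≠ 9) (h11 : Fintype.card F ≠ 11)
    (h40 : (Fintype.card F).Prime → Fintype.card F % 40 ∉ ({11, 19, 21, 29} : Finset ℕ))
    (M : Subgroup (Matrix.ProjGenLinGroup (Fin 2) F)) (hM : IsCoatom M)
    (hML : ¬ (Matrix.ProjGenLinGroup.mk.comp Matrix.SpecialLinearGroup.toGL).range ≤ M) :
    IsCoatom ((M ⊓ (Matrix.ProjGenLinGroup.mk.comp Matrix.SpecialLinearGroup.toGL).range).subgroupOf
      (Matrix.ProjGenLinGroup.mk.comp Matrix.SpecialLinearGroup.toGL).range) := by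
  classical
  obtain ⟨p, hchar⟩ := CharP.exists F
  have : Fact p.Prime := ⟨CharP.char_is_prime F p⟩
  rcases Nat.even_or_odd (Fintype.card F) with he | hodd
  · -- in even characteristic the image is everything
    have hL : (Matrix.ProjGenLinGroup.mk.comp Matrix.SpecialLinearGroup.toGL).range =
        (⊤ : Subgroup (Matrix.ProjGenLinGroup (Fin 2) F)) := by
      refine Subgroup.eq_top_of_card_eq _ ?_
      rw [Dickson.range_mk_toGL,
        ← Nat.card_congr (MonoidHom.ofInjective Matrix.ProjectiveSpecialLinearGroup.toPGL_injective).toEquiv]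
      have h := card_PSL_two_mul (F := F)
      rw [show Nat.gcd 2 (Fintype.card F - 1) = 1 from
        Nat.prime_two.coprime_iff_not_dvd.mpr (fun h => by obtain ⟨i, hi⟩ := he; omega), one_mul] at h
      rw [h, card_PGL_eq, card_SL_two]
    rw [hL, inf_top_eq]
    let θ : (⊤ : Subgroup (Matrix.ProjGenLinGroup (Fin 2) F)) ≃* Matrix.ProjGenLinGroup (Fin 2) F :=
      Subgroup.topEquiv
    exact (θ.comapSubgroup.isCoatom_iff M).mpr hM
  have hq2 := Nat.odd_iff.mp hodd
  have h5 : 5 ≤ Fintype.card F := by omega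
  have hd : Nat.gcd 2 (Fintype.card F - 1) = 2 := Nat.gcd_eq_left (by omega)
  obtain ⟨M0, hres, hco⟩ := Dickson.exists_embedding p hodd h5 M hM hML
  refine hco ?_
  rcases hres with ⟨-, g, rfl⟩ | ⟨z, hz, rfl, -, hex⟩ | ⟨hq, h8, -, ⟨e⟩⟩ | ⟨K, iK, iK', j, r, g, w, hr, ho, hq, rfl, -⟩
  · exact Dickson.isCoatom_map_conj (Dickson.isCoatom_borel h4 (by simp [h7, h9, h11])) g
  · rcases Dickson.card_cen_cases hz with hk | hk <;> rw [hd] at hk
    · refine Dickson.isCoatom_torus hz ?_ (by omega) h7 h9 (fun _ => h11)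
      by_contra h
      exact hex ⟨by omega, by omega⟩
    · exact Dickson.isCoatom_torus hz (by omega) (by omega) h7 h9 (fun _ => h11)
  · have h40' := h40 (hq ▸ Fact.out)
    simp only [Finset.mem_insert, Finset.mem_singleton, not_or] at h40'
    exact Dickson.isCoatom_altFour p hq (by omega) h8 (by omega) e
  · have hKodd := Dickson.pow_subfield_odd hr.ne_zero hq hodd
    have h2 : 2 ≤ Fintype.card K := Fintype.one_lt_card
    exact Dickson.isCoatom_map_conj (Dickson.isCoatom_pslSub_scaled j w
      (by obtain ⟨i, hi⟩ := hKodd; omega) hr ho hq) g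

end Cfsg.Agent.S5890
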