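import Cfsg.Statements.S5891
import Cfsg.Agent.Linear.Dickson.PGLBridge
-- import your own Cfsg.Agent.* helpers here

set_option autoImplicit false
open Cfsg Cfsg.Agent.Linear

namespace Cfsg.Agent.S5891

/-- Let F be a finite field of odd order q > 3 and characteristic p, and let M be a maximal subgroup of PGL₂(F) not containing the image L of SL₂(F) (a copy of PSL₂(F) of index 2). Then one of the following holds: |M| = q(q − 1) (M is the stabiliser of a point of the projective line); q ≠ 5 and M is dihedral of order 2(q − 1); M is dihedral of order 2(q + 1); q = p ≡ ±3 (mod 8) and M ≅ S₄; or q = q₀^r for an odd prime r and M ≅ PGL₂(F₀) with |F₀| = q₀. -/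
theorem result {F : Type*} [Field F] [Fintype F]
    (hodd : Odd (Fintype.card F)) (h3 : 3 < Fintype.card F) (M : Subgroup (Matrix.ProjGenLinGroup (Fin 2) F)) (hM : IsCoatom M)
    (hML : ¬ (Matrix.ProjGenLinGroup.mk.comp Matrix.SpecialLinearGroup.toGL).range ≤ M) :
    Nat.card M = Fintype.card F * (Fintype.card F - 1) ∨
    (Fintype.card F ≠ 5 ∧ Nonempty (M ≃* DihedralGroup (Fintype.card F - 1))) ∨
    Nonempty (M ≃* DihedralGroup (Fintype.card F + 1)) ∨
    ((Fintype.card F).Prime ∧ (Fintype.card F % 8 = 3 ∨ Fintype.card F % 8 = 5) ∧ Nonempty (M ≃* Equiv.Perm (Fin 4))) ∨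
    (∃ (F₀ : Type) (_ : Field F₀) (_ : Fintype F₀) (r : ℕ), r.Prime ∧ Odd r ∧ Fintype.card F = Fintype.card F₀ ^ r ∧
        Nonempty (M ≃* Matrix.ProjGenLinGroup (Fin 2) F₀)) := by
  classical
  obtain ⟨p, hchar⟩ := CharP.exists F
  have : Fact p.Prime := ⟨CharP.char_is_prime F p⟩
  have hq2 := Nat.odd_iff.mp hodd
  have h5 : 5 ≤ Fintype.card F := by omega
  have hd : Nat.gcd 2 (Fintype.card F - 1) = 2 := Nat.gcd_eq_left (by omega)
  obtain ⟨M0, hres, -⟩ := Dickson.exists_embedding p hodd h5 M hM hML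
  rcases hres with ⟨h, -⟩ | ⟨z, hz, -, ⟨d⟩, hex⟩ | ⟨hq, h8, he, -⟩ | ⟨K, iK, iK', j, r, g, w, hr, ho, hq, -, he⟩
  · exact Or.inl h
  · rcases Dickson.card_cen_cases hz with hk | hk <;> rw [hd] at hk
    · refine Or.inr (Or.inl ⟨fun h5' => hex ⟨h5', by omega⟩, ?_⟩)
      rw [show Fintype.card F - 1 = 2 * Nat.card (Dickson.cen z) by omega]
      exact ⟨d⟩
    · refine Or.inr (Or.inr (Or.inl ?_))
      rw [show Fintype.card F + 1 = 2 * Nat.card (Dickson.cen z) by omega]
      exact ⟨d⟩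
  · exact Or.inr (Or.inr (Or.inr (Or.inl ⟨hq ▸ Fact.out, hq ▸ h8, he⟩)))
  · exact Or.inr (Or.inr (Or.inr (Or.inr ⟨K, iK, iK', r, hr, ho, hq.symm, he⟩)))

end Cfsg.Agent.S5891
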