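import Cfsg.Statements.S5892
import Cfsg.Agent.Linear.Dickson.MaxSmall
-- import your own Cfsg.Agent.* helpers here

set_option autoImplicit false
open Cfsg Cfsg.Agent.Linear

namespace Cfsg.Agent.S5892

/-- Let F be a finite field of odd order q ≥ 5 and characteristic p, and let M be a maximal subgroup of PSL₂(F). Then one of the following holds: |M| = q(q − 1)/2 (the stabiliser of a point of the projective line); q ≥ 13 and M is dihedral of order q − 1; q ∉ {7, 9} and M is dihedral of order q + 1; q = q₀² and M ≅ PGL₂(F₀) with |F₀| = q₀; q = q₀^r for an odd prime r and M ≅ PSL₂(F₀) with |F₀| = q₀; q ≡ ±1 (mod 10) with q = p or q = p², p ≡ ±3 (mod 10), and M ≅ A₅; q = p ≡ ±3 (mod 8), q ≢ ±1 (mod 10), and M ≅ A₄; or q = p ≡ ±1 (mod 8) and M ≅ S₄. -/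
theorem result {F : Type*} [Field F] [Fintype F] (p : ℕ)
    [Fact p.Prime] [CharP F p] (hodd : Odd (Fintype.card F)) (h5 : 5 ≤ Fintype.card F)
    (M : Subgroup (Matrix.ProjectiveSpecialLinearGroup (Fin 2) F)) (hM : IsCoatom M) :
    2 * Nat.card M = Fintype.card F * (Fintype.card F - 1) ∨
    (13 ≤ Fintype.card F ∧ (∃ k : ℕ, 2 * k = Fintype.card F - 1 ∧ Nonempty (M ≃* DihedralGroup k))) ∨
    (Fintype.card F ≠ 7 ∧ Fintype.card F ≠ 9 ∧ (∃ k : ℕ, 2 * k = Fintype.card F + 1 ∧ Nonempty (M ≃* DihedralGroup k))) ∨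
    (∃ (F₀ : Type) (_ : Field F₀) (_ : Fintype F₀), Fintype.card F = Fintype.card F₀ ^ 2 ∧
        Nonempty (M ≃* Matrix.ProjGenLinGroup (Fin 2) F₀)) ∨
    (∃ (F₀ : Type) (_ : Field F₀) (_ : Fintype F₀) (r : ℕ), r.Prime ∧ Odd r ∧ Fintype.card F = Fintype.card F₀ ^ r ∧
        Nonempty (M ≃* Matrix.ProjectiveSpecialLinearGroup (Fin 2) F₀)) ∨
    ((Fintype.card F % 10 = 1 ∨ Fintype.card F % 10 = 9) ∧
        (Fintype.card F = p ∨ (Fintype.card F = p ^ 2 ∧ (p % 10 = 3 ∨ p % 10 = 7))) ∧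
        Nonempty (M ≃* alternatingGroup (Fin 5))) ∨
    (Fintype.card F = p ∧ (p % 8 = 3 ∨ p % 8 = 5) ∧ ¬ (p % 10 = 1 ∨ p % 10 = 9) ∧
        Nonempty (M ≃* alternatingGroup (Fin 4))) ∨
    (Fintype.card F = p ∧ (p % 8 = 1 ∨ p % 8 = 7) ∧ Nonempty (M ≃* Equiv.Perm (Fin 4))) := by
  classical
  have hq2 : Fintype.card F % 2 = 1 := Nat.odd_iff.mp hodd
  have h4 : 4 ≤ Fintype.card F := by omega
  have hd : Nat.gcd 2 (Fintype.card F - 1) = 2 := Nat.gcd_eq_left (by omega)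
  obtain ⟨n, hp, hn⟩ := FiniteField.card F p
  have subfield : Dickson.IsSubfield M →
      (∃ (F₀ : Type) (_ : Field F₀) (_ : Fintype F₀), Fintype.card F = Fintype.card F₀ ^ 2 ∧
        Nonempty (M ≃* Matrix.ProjGenLinGroup (Fin 2) F₀)) ∨
      (∃ (F₀ : Type) (_ : Field F₀) (_ : Fintype F₀) (r : ℕ), r.Prime ∧ Odd r ∧ Fintype.card F = Fintype.card F₀ ^ r ∧
        Nonempty (M ≃* Matrix.ProjectiveSpecialLinearGroup (Fin 2) F₀)) := by
    intro h
    obtain ⟨K, iK, iK', r, hr, hq, ⟨ho, -, he⟩ | ⟨hr2, -, he⟩⟩ := Dickson.coatom_subfield hM h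
    · refine Or.inr ⟨K, iK, iK', r, hr, ho.resolve_right fun he => ?_, hq.symm, he⟩
      rw [← hq] at hodd
      exact Nat.not_odd_iff_even.mpr (he.pow_of_ne_zero hr.ne_zero) hodd
    · exact Or.inl ⟨K, iK, iK', hr2 ▸ hq.symm, he⟩
  by_cases hs : Dickson.IsSubfield M
  · exact (subfield hs).elim (fun e => Or.inr (Or.inr (Or.inr (Or.inl e))))
      (fun e => Or.inr (Or.inr (Or.inr (Or.inr (Or.inl e)))))
  rcases Dickson.shape p M with h | h | ⟨⟨f⟩⟩ | ⟨⟨f⟩⟩ | ⟨⟨f⟩⟩ | h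
  · left
    simpa [hd] using Dickson.coatom_borel h4 hM h
  · obtain ⟨a, ha, hMa⟩ := Dickson.coatom_torus_eq h4 hM h
    obtain ⟨-, ⟨e⟩⟩ := Dickson.torus_normalizer_props ha
    have hsmall := fun h => Dickson.small_torus_not_coatom ha h (hMa ▸ hM)
    rcases Dickson.card_cen_cases ha with hk | hk <;> rw [hd] at hk
    · refine Or.inr (Or.inl ⟨?_, Nat.card (Dickson.cen a), by omega, ⟨(MulEquiv.subgroupCongr hMa).trans e⟩⟩)
      by_contra hlt
      exact hsmall (by omega)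
    · refine Or.inr (Or.inr (Or.inl ⟨fun h7 => hsmall (by omega), fun h9 => hsmall (by omega),
        Nat.card (Dickson.cen a), by omega, ⟨(MulEquiv.subgroupCongr hMa).trans e⟩⟩))
  · rcases Dickson.coatom_altFour p hodd h5 hM f with h | ⟨hq, h8, h10⟩
    · exact absurd h hs
    · exact Or.inr (Or.inr (Or.inr (Or.inr (Or.inr (Or.inr (Or.inl ⟨hq, h8, h10, ⟨f⟩⟩))))))
  · rcases Dickson.coatom_symFour p hodd hM f with h | ⟨hq, h8⟩
    · exact absurd h hs
    · exact Or.inr (Or.inr (Or.inr (Or.inr (Or.inr (Or.inr (Or.inr ⟨hq, h8, ⟨f⟩⟩))))))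
  · rcases Dickson.coatom_altFive p hM f with h | ⟨hd5, hq⟩
    · exact absurd h hs
    · refine Or.inr (Or.inr (Or.inr (Or.inr (Or.inr (Or.inl ⟨?_, ?_, ⟨f⟩⟩)))))
      · have h5' : Fintype.card F % 5 ≠ 0 := by
          rcases hq with ⟨hq, h⟩ | ⟨hq, h, -⟩ <;> rw [hq]
          · intro h0
            exact h ((Nat.prime_dvd_prime_iff_eq Nat.prime_five hp).mp (Nat.dvd_of_mod_eq_zero h0)).symm
          · rw [Nat.pow_mod]; rcases h with e | e <;> rw [e] <;> norm_num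
        rcases Nat.prime_five.dvd_mul.mp hd5 with h | h
        · omega
        · have h1 := Nat.one_le_pow 2 (Fintype.card F) (by omega)
          have hs : Fintype.card F ^ 2 % 5 = 1 := by omega
          rw [Nat.pow_mod] at hs
          have hlt : Fintype.card F % 5 < 5 := Nat.mod_lt _ (by norm_num)
          rcases (show Fintype.card F % 5 = 1 ∨ Fintype.card F % 5 = 2 ∨ Fintype.card F % 5 = 3 ∨ Fintype.card F % 5 = 4 by omega)
            with e | e | e | e <;> rw [e] at hs <;> omega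
      · rcases hq with ⟨hq, -⟩ | ⟨hq, h, hp2⟩
        · exact Or.inl hq
        · refine Or.inr ⟨hq, ?_⟩
          have := Nat.odd_iff.mp (hp.odd_of_ne_two hp2)
          omega
  · exact absurd h hs

end Cfsg.Agent.S5892
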