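import Cfsg.Statements.S5893
import Cfsg.Agent.Linear.Dickson.MaxSmall
-- import your own Cfsg.Agent.* helpers here

set_option autoImplicit false
open Cfsg Cfsg.Agent.Linear

namespace Cfsg.Agent.S5893

/-- Let F be a finite field of even order q ≥ 4 and let M be a maximal subgroup of PSL₂(F) (= SL₂(F) = PGL₂(F)). Then one of the following holds: |M| = q(q − 1) (the stabiliser of a point of the projective line, elementary abelian of order q extended by a cyclic group of order q − 1); M is dihedral of order 2(q − 1); M is dihedral of order 2(q + 1); or q = q₀^r for a prime r with q₀ ≠ 2 and M ≅ PSL₂(F₀) with |F₀| = q₀. -/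
theorem result {F : Type*} [Field F] [Fintype F]
    (heven : Even (Fintype.card F)) (h4 : 4 ≤ Fintype.card F) (M : Subgroup (Matrix.ProjectiveSpecialLinearGroup (Fin 2) F)) (hM : IsCoatom M) :
    Nat.card M = Fintype.card F * (Fintype.card F - 1) ∨
    Nonempty (M ≃* DihedralGroup (Fintype.card F - 1)) ∨
    Nonempty (M ≃* DihedralGroup (Fintype.card F + 1)) ∨
    (∃ (F₀ : Type) (_ : Field F₀) (_ : Fintype F₀) (r : ℕ), r.Prime ∧ Fintype.card F₀ ≠ 2 ∧
        Fintype.card F = Fintype.card F₀ ^ r ∧ Nonempty (M ≃* Matrix.ProjectiveSpecialLinearGroup (Fin 2) F₀)) := by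
  classical
  have : CharP F 2 := by
    obtain ⟨p, hp⟩ := CharP.exists F
    obtain ⟨n, hp', hn⟩ := FiniteField.card F p
    rw [hn, Nat.even_pow] at heven
    rwa [(hp'.even_iff).mp heven.1] at hp
  have : Fact (Nat.Prime 2) := ⟨Nat.prime_two⟩
  have hd : Nat.gcd 2 (Fintype.card F - 1) = 1 :=
    Nat.prime_two.coprime_iff_not_dvd.mpr (fun h => by obtain ⟨i, hi⟩ := heven; omega)
  have torus : Dickson.InTorus M → Nonempty (M ≃* DihedralGroup (Fintype.card F - 1)) ∨
      Nonempty (M ≃* DihedralGroup (Fintype.card F + 1)) := by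
    intro h
    obtain ⟨a, ha, hMa⟩ := Dickson.coatom_torus_eq h4 hM h
    obtain ⟨-, ⟨e⟩⟩ := Dickson.torus_normalizer_props ha
    rcases Dickson.card_cen_cases ha with hk | hk <;> rw [hd, Nat.div_one] at hk <;> rw [hk] at e
    · exact Or.inl ⟨(MulEquiv.subgroupCongr hMa).trans e⟩
    · exact Or.inr ⟨(MulEquiv.subgroupCongr hMa).trans e⟩
  have sub : Dickson.IsSubfield M → Dickson.InTorus M ∨
      (∃ (F₀ : Type) (_ : Field F₀) (_ : Fintype F₀) (r : ℕ), r.Prime ∧ Fintype.card F₀ ≠ 2 ∧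
        Fintype.card F = Fintype.card F₀ ^ r ∧ Nonempty (M ≃* Matrix.ProjectiveSpecialLinearGroup (Fin 2) F₀)) := by
    intro h
    obtain ⟨K, iK, iK', r, hr, hq, ⟨-, hc, he⟩ | ⟨-, ho, -⟩⟩ := Dickson.coatom_subfield hM h
    · by_cases h2 : Fintype.card K = 2
      · left
        rw [h2, show Nat.gcd 2 (2 - 1) = 1 from rfl, show 2 * (2 ^ 2 - 1) = 6 from rfl, one_mul] at hc
        exact Dickson.inTorus_of_card_six hc
      · exact Or.inr ⟨K, iK, iK', r, hr, h2, hq.symm, he⟩
    · exfalso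
      rw [← hq] at heven
      exact Nat.not_even_iff_odd.mpr ho.pow heven
  by_cases hs : Dickson.IsSubfield M
  · exact (sub hs).elim (fun h => (torus h).elim
    (fun e => Or.inr (Or.inl e)) (fun e => Or.inr (Or.inr (Or.inl e)))) (fun e => Or.inr (Or.inr (Or.inr e)))
  rcases Dickson.shape 2 M with h | h | ⟨⟨f⟩⟩ | ⟨⟨f⟩⟩ | ⟨⟨f⟩⟩ | h
  · left
    simpa [hd] using Dickson.coatom_borel h4 hM h
  · exact (torus h).elim (fun e => Or.inr (Or.inl e)) (fun e => Or.inr (Or.inr (Or.inl e)))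
  · left
    simpa [hd] using Dickson.coatom_borel h4 hM (Dickson.inBorel_of_altFour_even f)
  · exfalso
    have h16 := Cfsg.Agent.S0803.main.mp ⟨M, ⟨f⟩⟩
    obtain ⟨i, hi⟩ := heven
    rw [hi, show (i + i) ^ 2 = 4 * i ^ 2 by ring] at h16
    omega
  · rcases Dickson.coatom_altFive 2 hM f with h | ⟨-, ⟨hq, -⟩ | ⟨-, -, h⟩⟩
    · exact absurd h hs
    · omega
    · exact absurd rfl h
  · exact absurd h hs

end Cfsg.Agent.S5893
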