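import Cfsg.Statements.S5905
import Cfsg.Agent.H98.Partition

set_option autoImplicit false
open Cfsg

namespace Cfsg.Agent.S5905


open Equiv Cfsg.Agent.H98

/-- Let Ω be a finite set and f : Ω → Fin b a map onto b ≥ 2 labels whose fibres all have the same size a ≥ 2 (a partition of Ω into b blocks of size a, so |Ω| = ab). Then the stabilizer of this partition in the symmetric group on Ω — the permutations g such that x and y lie in the same block exactly when g x and g y do, a group isomorphic to the imprimitive wreath product S_a ≀ S_b — is a maximal subgroup of the symmetric group. -/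
theorem result {Ω : Type*} [Fintype Ω] [DecidableEq Ω] (a b : ℕ) (ha : 2 ≤ a) (hb : 2 ≤ b)
    (f : Ω → Fin b) (hf : ∀ i : Fin b, Nat.card {x : Ω // f x = i} = a) :
    IsCoatom (Subgroup.closure {g : Equiv.Perm Ω | ∀ x y : Ω, f x = f y ↔ f (g x) = f (g y)}) := by
  classical
  rw [closure_partition]
  have ha0 : a ≠ 0 := by omega
  obtain ⟨e, he⟩ := exists_coords a b ha0 f hf
  refine ⟨fun h => ?_, fun X hX => ?_⟩
  · -- a transposition between two blocks, with a third point
    let p := e.symm (⟨0, by omega⟩, ⟨0, by omega⟩)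
    let p' := e.symm (⟨0, by omega⟩, ⟨1, by omega⟩)
    let q := e.symm (⟨1, by omega⟩, ⟨0, by omega⟩)
    have hfp : f p = f p' := by rw [← he, ← he]; simp [p, p']
    have hfpq : f p ≠ f q := by rw [← he, ← he]; simp [p, q]
    have hpp' : p ≠ p' := fun h => by simpa [p, p'] using congrArg e h
    have hpq : p ≠ q := fun h => hfpq (congrArg f h)
    have hp'q : p' ≠ q := fun h => hfpq (hfp.trans (congrArg f h))
    have hm : swap p q ∈ partStab f := h ▸ Subgroup.mem_top _
    have := (hm p p').1 hfp
    rw [swap_apply_left, swap_apply_of_ne_of_ne hpp'.symm hp'q] at this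
    exact hfpq (hfp.trans this.symm)
  · obtain ⟨g, hgX, hgW⟩ := SetLike.exists_of_lt hX
    obtain ⟨x, y, hxy, hs⟩ := exists_split hgW
    obtain ⟨k, hk, hne⟩ : ∃ k ∈ X, f (k x) ≠ f (k y) :=
      hs.elim (fun h => ⟨g, hgX, h⟩) (fun h => ⟨g⁻¹, X.inv_mem hgX, h⟩)
    have hc : swap (k x) (k y) ∈ X := by
      have h1 : swap x y ∈ X := hX.le (swap_mem_partStab hxy)
      have h2 := X.mul_mem (X.mul_mem hk h1) (X.inv_mem hk)
      rwa [Equiv.mul_swap_eq_swap_mul, mul_inv_cancel_right] at h2
    have hall : ∀ u v, swap u v ∈ X := by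
      intro u v
      by_cases huv : f u = f v
      · exact hX.le (swap_mem_partStab huv)
      · obtain ⟨w, hw, hw1, hw2⟩ := move_cross a b ha0 f hf hne huv
        have h2 := X.mul_mem (X.mul_mem (hX.le hw) hc) (X.inv_mem (hX.le hw))
        rwa [Equiv.mul_swap_eq_swap_mul, mul_inv_cancel_right, hw1, hw2] at h2
    rw [eq_top_iff, ← Equiv.Perm.closure_isSwap, Subgroup.closure_le]
    rintro _ ⟨u, v, -, rfl⟩
    exact hall u v

end Cfsg.Agent.S5905
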