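import Cfsg.Statements.S5894
import Cfsg.Agent.S5905
import Cfsg.Agent.H98.PermIndex

set_option autoImplicit false
open Cfsg

namespace Cfsg.Agent.S5894


open Equiv Cfsg.Agent.H98 MulAction
open scoped Pointwise

/-- For every m ≥ 2 the symmetric group on 2m letters has a maximal subgroup M of index 2m together with a maximal subgroup H of M that is not second maximal: some maximal subgroup K of the symmetric group contains H without H being maximal in K. (One may take M the stabiliser of a letter, H ≅ S_m × S_{m−1} inside it, and K ≅ S_m ≀ S₂ the stabiliser of a partition into two m-sets, with H < S_m × S_m < K.) So the prime-index hypothesis in the second-maximality criterion cannot be relaxed to any even index ≥ 4. -/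
theorem result (m : ℕ) (hm : 2 ≤ m) :
    ∃ M H K : Subgroup (Equiv.Perm (Fin (2 * m))), IsCoatom M ∧ M.index = 2 * m ∧ H ≤ M ∧ IsCoatom (H.subgroupOf M) ∧
      IsCoatom K ∧ H ≤ K ∧ ¬ IsCoatom (H.subgroupOf K) := by
  classical
  let n := 2 * m
  let f : Fin n → Fin 2 := fun x => if (x : ℕ) < m then 0 else 1
  have hf : ∀ i : Fin 2, Nat.card {x : Fin n // f x = i} = m := by
    intro i
    refine Nat.card_eq_of_equiv_fin ⟨fun x => ⟨if (x.1 : ℕ) < m then (x.1 : ℕ) else (x.1 : ℕ) - m, ?_⟩,
      fun j => ⟨⟨if i = 0 then (j : ℕ) else (j : ℕ) + m, ?_⟩, ?_⟩, ?_, ?_⟩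
    · have := x.1.2
      show _ < m
      split_ifs <;> omega
    · have := j.2
      show _ < 2 * m
      split_ifs <;> omega
    · have := j.2
      show (if ((if i = 0 then (j : ℕ) else (j : ℕ) + m) < m) then (0 : Fin 2) else 1) = i
      fin_cases i <;> simp <;> omega
    · rintro ⟨x, hx⟩
      have := x.2
      apply Subtype.ext
      apply Fin.ext
      simp only [f] at hx
      subst hx
      by_cases h : (x : ℕ) < m
      · simp [h]
      · simp [h]; omega
    · intro j
      have := j.2
      apply Fin.ext
      fin_cases i <;> simp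
  let o : Fin n := ⟨0, by omega⟩
  let M := stabilizer (Perm (Fin n)) o
  let K : Subgroup (Perm (Fin n)) := Subgroup.closure {g : Perm (Fin n) | ∀ x y, f x = f y ↔ f (g x) = f (g y)}
  have hKW : K = partStab f := closure_partition f
  have hK : IsCoatom K := Cfsg.Agent.S5905.result m 2 hm le_rfl f hf
  have hfo : f o = 0 := if_pos (show (0 : ℕ) < m by omega)
  have hM : IsCoatom M := by
    have hpp : IsPreprimitive (Perm (Fin n)) (Fin n) := inferInstance
    have : Nontrivial (Fin n) := Fin.nontrivial_iff_two_le.2 (show 2 ≤ 2 * m by omega)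
    exact (isCoatom_stabilizer_iff_preprimitive (Perm (Fin n)) o).2 hpp
  refine ⟨M, K ⊓ M, K, hM, ?_, inf_le_right, ?_, hK, inf_le_left, ?_⟩
  · rw [index_stabilizer_of_transitive, Nat.card_eq_fintype_card, Fintype.card_fin]
  · -- maximal in M
    refine ⟨fun h => ?_, fun Y hY => ?_⟩
    · -- a transposition of two points in different blocks fixing o
      let p : Fin n := ⟨1, by omega⟩
      let q : Fin n := ⟨m, by omega⟩
      have hop : o ≠ p := Fin.ne_of_val_ne (show 0 ≠ 1 by omega)
      have hoq : o ≠ q := Fin.ne_of_val_ne (show 0 ≠ m by omega)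
      have hfp : f p = 0 := if_pos (show 1 < m by omega)
      have hfq : f q = 1 := if_neg (show ¬ m < m by omega)
      have hmem : (⟨swap p q, show swap p q o = o from swap_apply_of_ne_of_ne hop hoq⟩ : M) ∈ (K ⊓ M).subgroupOf M := by
        rw [h]; exact Subgroup.mem_top _
      have hk : swap p q ∈ partStab f := hKW ▸ (Subgroup.mem_subgroupOf.1 hmem).1
      have := (hk o p).1 (hfo.trans hfp.symm)
      rw [swap_apply_left, swap_apply_of_ne_of_ne hop hoq, hfo, hfq] at this
      exact absurd this (by decide)
    · set Y' := Y.map M.subtype with hY'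
      have hle : ∀ w, w ∈ partStab f → w o = o → w ∈ Y' := by
        intro w hw hwo
        have : (⟨w, hwo⟩ : M) ∈ (K ⊓ M).subgroupOf M := Subgroup.mem_subgroupOf.2 ⟨hKW.symm ▸ hw, hwo⟩
        exact ⟨_, hY.le this, rfl⟩
      obtain ⟨⟨g, hgo⟩, hgY, hgH⟩ := SetLike.exists_of_lt hY
      have hgW : g ∉ partStab f := fun h => hgH (Subgroup.mem_subgroupOf.2 ⟨hKW.symm ▸ h, hgo⟩)
      have hgo' : g o = o := hgo
      have hgY' : g ∈ Y' := ⟨⟨g, hgo⟩, hgY, rfl⟩
      have hinB : ∀ u v, f u = f v → u ≠ o → v ≠ o → swap u v ∈ Y' := fun u v huv hu hv =>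
        hle _ (swap_mem_partStab huv) (swap_apply_of_ne_of_ne hu.symm hv.symm)
      -- a transposition of two blocks in Y'
      obtain ⟨p, q, hp, hq, hc⟩ : ∃ p q, (f p = 0 ∧ p ≠ o) ∧ f q = 1 ∧ swap p q ∈ Y' := by
        have conj : ∀ u v, swap u v ∈ Y' → swap (g u) (g v) ∈ Y' := fun u v huv => by
          have h2 := Y'.mul_mem (Y'.mul_mem hgY' huv) (Y'.inv_mem hgY')
          rwa [Equiv.mul_swap_eq_swap_mul, mul_inv_cancel_right] at h2
        have fin2 : ∀ i : Fin 2, i ≠ 0 → i = 1 := by decide
        have hno : ∀ u, u ≠ o → g u ≠ o := fun u hu h => hu (g.injective (h.trans hgo'.symm))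
        have hone : ∀ u, f u = 1 → u ≠ o := fun u hu h => by rw [h, hfo] at hu; exact absurd hu (by decide)
        by_cases hA : ∃ u v, f u = 0 ∧ f v = 0 ∧ u ≠ o ∧ v ≠ o ∧ f (g u) = 0 ∧ f (g v) = 1
        · obtain ⟨u, v, hu, hv, hu0, hv0, h1, h2⟩ := hA
          exact ⟨g u, g v, ⟨h1, hno u hu0⟩, h2, conj u v (hinB u v (hu.trans hv.symm) hu0 hv0)⟩
        by_cases hB : ∃ u v, f u = 1 ∧ f v = 1 ∧ f (g u) = 0 ∧ f (g v) = 1
        · obtain ⟨u, v, hu, hv, h1, h2⟩ := hB
          exact ⟨g u, g v, ⟨h1, hno u (hone u hu)⟩, h2, conj u v (hinB u v (hu.trans hv.symm) (hone u hu) (hone v hv))⟩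
        exfalso
        push Not at hA hB
        let Z : Finset (Fin n) := Finset.univ.filter fun u => f u = 0
        let O : Finset (Fin n) := Finset.univ.filter fun u => f u = 1
        have hZ : Z.card = m := by rw [← hf 0, Nat.card_eq_fintype_card, Fintype.card_subtype]
        have hO : O.card = m := by rw [← hf 1, Nat.card_eq_fintype_card, Fintype.card_subtype]
        by_cases hv : ∃ v, f v = 1 ∧ f (g v) = 1
        · obtain ⟨v, hv1, hv2⟩ := hv
          -- g preserves the block of 1, hence everything
          have hO' : ∀ u, f u = 1 → f (g u) = 1 := fun u hu => fin2 _ fun h => hB u v hu hv1 h hv2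
          have himg : O.image g = O := Finset.eq_of_subset_of_card_le (by
            intro w hw
            obtain ⟨u, hu, rfl⟩ := Finset.mem_image.1 hw
            exact Finset.mem_filter.2 ⟨Finset.mem_univ _, hO' u (Finset.mem_filter.1 hu).2⟩)
            (by rw [Finset.card_image_of_injective _ g.injective])
          have hiff : ∀ u, f (g u) = 1 ↔ f u = 1 := by
            intro u
            refine ⟨fun h => ?_, hO' u⟩
            have : g u ∈ O.image g := by rw [himg]; exact Finset.mem_filter.2 ⟨Finset.mem_univ _, h⟩
            obtain ⟨w, hw, e⟩ := Finset.mem_image.1 this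
            rw [g.injective e] at hw
            exact (Finset.mem_filter.1 hw).2
          refine hgW fun x y => ?_
          have two : ∀ i j : Fin 2, (i = j ↔ (i = 1 ↔ j = 1)) := by decide
          rw [two (f x) (f y), two (f (g x)) (f (g y)), hiff, hiff]
        · push Not at hv
          -- g maps the block of 1 into the block of 0 minus o: impossible
          have hsub : O.image g ⊆ Z.erase o := by
            intro w hw
            obtain ⟨u, hu, rfl⟩ := Finset.mem_image.1 hw
            have hu1 := (Finset.mem_filter.1 hu).2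
            refine Finset.mem_erase.2 ⟨hno u (hone u hu1), Finset.mem_filter.2 ⟨Finset.mem_univ _, ?_⟩⟩
            by_contra h
            exact hv u hu1 (fin2 _ h)
          have := Finset.card_le_card hsub
          rw [Finset.card_image_of_injective _ g.injective, Finset.card_erase_of_mem
            (show o ∈ Z from Finset.mem_filter.2 ⟨Finset.mem_univ _, hfo⟩), hZ, hO] at this
          omega
      -- all transpositions fixing o
      have hall : ∀ u v, u ≠ o → v ≠ o → swap u v ∈ Y' := by
        have hq1 : q ≠ o := fun h => by rw [h, hfo] at hq; exact absurd hq (by decide)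
        have fin2 : ∀ i : Fin 2, i ≠ 0 → i = 1 := by decide
        have hto : ∀ u, u ≠ o → swap p u ∈ Y' := by
          intro u hu
          by_cases h0 : f u = 0
          · exact hinB p u (hp.1.trans h0.symm) hp.2 hu
          · have h1 : f q = f u := by rw [hq, fin2 _ h0]
            rcases eq_or_ne q u with rfl | hqu
            · exact hc
            have hpq : p ≠ q := fun h => by rw [h, hq] at hp; exact absurd hp.1 (by decide)
            have hpu : p ≠ u := fun h => h0 (h ▸ hp.1)
            exact swap_trans_mem hc (hinB q u h1 hq1 hu) hpq hpu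
        intro u v hu hv
        rcases eq_or_ne u v with rfl | huv
        · rw [swap_self]; exact Y'.one_mem
        rcases eq_or_ne u p with rfl | hup
        · exact hto v hv
        rcases eq_or_ne v p with rfl | hvp
        · rw [swap_comm]; exact hto u hu
        exact swap_trans_mem (swap_comm p u ▸ hto u hu) (hto v hv) hup huv
      rw [eq_top_iff]
      intro x _
      have hx : (x : Perm (Fin n)) ∈ Y' := by
        have h := x.2
        change (x : Perm (Fin n)) ∈ stabilizer (Perm (Fin n)) o at h
        rw [stabilizer_eq_closure] at h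
        refine (Subgroup.closure_le _).2 ?_ h
        rintro _ ⟨⟨u, v, huv, rfl⟩, hfix⟩
        refine hall u v (fun h => ?_) (fun h => ?_)
        · rw [h, swap_apply_left] at hfix; exact huv (h.trans hfix.symm)
        · rw [h, swap_apply_right] at hfix; exact huv (hfix.trans h.symm)
      obtain ⟨y, hy, hxy⟩ := hx
      exact (Subtype.ext hxy : y = x) ▸ hy
  · -- H is not maximal in K
    intro hco
    let L : Subgroup (Perm (Fin n)) := partStab f ⊓
      { carrier := {g | ∀ x, f (g x) = f x}
        one_mem' := fun x => rfl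
        mul_mem' := fun {a b} ha hb x => (ha (b x)).trans (hb x)
        inv_mem' := fun {a} ha x => by
          have h := ha (a⁻¹ x)
          simp only [Perm.coe_inv, Equiv.apply_symm_apply] at h ⊢
          exact h.symm }
    have hHL : K ⊓ M ≤ L := by
      intro g hg
      have hgW : g ∈ partStab f := hKW ▸ hg.1
      refine ⟨hgW, fun x => ?_⟩
      have hgo : g o = o := hg.2
      have key := hgW x o
      rw [hgo, hfo] at key
      have two : ∀ i j : Fin 2, (i = 0 ↔ j = 0) → j = i := by decide
      exact two _ _ key
    obtain ⟨e, he⟩ := exists_coords m 2 (by omega) f hf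
    rcases hco.le_iff.1 (Subgroup.comap_mono hHL : (K ⊓ M).subgroupOf K ≤ L.subgroupOf K) with h | h
    · -- L is not all of K
      let p : Fin n := ⟨m, by omega⟩
      have hfp : f p = 1 := if_neg (show ¬ m < m by omega)
      obtain ⟨w, hw, hw1, -⟩ := move_cross m 2 (by omega) f hf
        (p := o) (q := p) (u := p) (v := o) (by rw [hfo, hfp]; decide) (by rw [hfo, hfp]; decide)
      have hmem : (⟨w, hKW.symm ▸ hw⟩ : K) ∈ L.subgroupOf K := by
        rw [Subgroup.subgroupOf, h]; exact Subgroup.mem_top _
      have h1 := (Subgroup.mem_subgroupOf.1 hmem).2 o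
      change f (w o) = f o at h1
      rw [hw1, hfp, hfo] at h1
      exact absurd h1 (by decide)
    · let p : Fin n := ⟨1, by omega⟩
      have hfp : f p = 0 := if_pos (show 1 < m by omega)
      have hs := swap_mem_partStab (f := f) (hfo.trans hfp.symm)
      have hL : swap o p ∈ L := ⟨hs, fun x => by
        rcases eq_or_ne x o with rfl | h1
        · rw [swap_apply_left, hfp, hfo]
        rcases eq_or_ne x p with rfl | h2
        · rw [swap_apply_right, hfp, hfo]
        · rw [swap_apply_of_ne_of_ne h1 h2]⟩
      have hmem : (⟨swap o p, hKW.symm ▸ hs⟩ : K) ∈ (K ⊓ M).subgroupOf K :=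
        h ▸ Subgroup.mem_subgroupOf.2 hL
      have h1 : swap o p o = o := (Subgroup.mem_subgroupOf.1 hmem).2
      rw [swap_apply_left] at h1
      exact absurd (congrArg Fin.val h1) (show (1:ℕ) ≠ 0 from one_ne_zero)

end Cfsg.Agent.S5894
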