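import Cfsg.Statements.S5895
-- import your own Cfsg.Agent.* helpers here

set_option autoImplicit false
open Cfsg

namespace Cfsg.Agent.S5895


theorem move_indep {K V : Type*} [Field K] [Finite K] [AddCommGroup V] [Module K V] [Finite V] {k : ℕ}
    (v w : Fin k → V) (hv : LinearIndependent K v) (hw : LinearIndependent K w) :
    ∃ g : V ≃ₗ[K] V, ∀ i, g (v i) = w i := by
  classical
  have hh : ∀ (u : Fin k → V) (hu : LinearIndependent K u) (i : Fin k),
      Module.Basis.sumExtend hu (Sum.inl i) = u i := by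
    intro u hu i
    simp [Module.Basis.sumExtend]
    rfl
  have e : ∀ (u : Fin k → V) (hu : LinearIndependent K u),
      k + Nat.card (Module.Basis.sumExtendIndex hu) = Module.finrank K V := by
    intro u hu
    rw [Module.finrank_eq_nat_card_basis (Module.Basis.sumExtend hu), Nat.card_sum, Nat.card_fin]
  obtain ⟨σ⟩ : Nonempty (Module.Basis.sumExtendIndex hv ≃ Module.Basis.sumExtendIndex hw) :=
    Finite.card_eq.1 (by have := e v hv; have := e w hw; omega)
  refine ⟨(Module.Basis.sumExtend hv).equiv (Module.Basis.sumExtend hw) (Equiv.sumCongr (Equiv.refl _) σ),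
    fun i => ?_⟩
  rw [← hh v hv i, Module.Basis.equiv_apply]
  simp [hh w hw i]

theorem isCoatom_comap {A B : Type*} [Group A] [Group B] (f : A →* B) (hf : Function.Surjective f)
    (S : Subgroup B) (hS : IsCoatom S) : IsCoatom (S.comap f) := by
  refine ⟨fun h => hS.1 ?_, fun X hX => ?_⟩
  · rw [← Subgroup.map_comap_eq_self_of_surjective hf S, h, Subgroup.map_top_of_surjective _ hf]
  · have hker : f.ker ≤ X := (Subgroup.ker_le_comap f S).trans hX.le
    have hlt : S < X.map f := by
      refine lt_of_le_of_ne ?_ fun he => ?_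
      · rw [← Subgroup.map_comap_eq_self_of_surjective hf S]
        exact Subgroup.map_mono hX.le
      · rw [he, Subgroup.comap_map_eq_self hker] at hX
        exact lt_irrefl _ hX
    rw [← Subgroup.comap_map_eq_self hker, hS.2 _ hlt, Subgroup.comap_top]

/-- For every prime p and every d ≥ 2 there is a finite group G with a maximal subgroup M of index p^d and a maximal subgroup H of M that is not second maximal in G: some maximal subgroup K of G contains H without H being maximal in K. (One may take G the affine group V ⋊ GL(V) of V = 𝔽_p^d, M = GL(V), H the stabiliser in M of a line W of V, and K = V ⋊ H, with H < W ⋊ H < K.) So the prime-index hypothesis in the second-maximality criterion cannot be relaxed to prime-power index. -/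
theorem result (p d : ℕ) (hp : p.Prime)
    (hd : 2 ≤ d) :
    ∃ (G : Type) (_ : Group G) (_ : Finite G) (M H K : Subgroup G), IsCoatom M ∧ M.index = p ^ d ∧ H ≤ M ∧
      IsCoatom (H.subgroupOf M) ∧ IsCoatom K ∧ H ≤ K ∧ ¬ IsCoatom (H.subgroupOf K) := by
  classical
  have : Fact p.Prime := ⟨hp⟩
  let G := (Fin d → ZMod p) ≃ᵃ[ZMod p] (Fin d → ZMod p)
  have : Finite G := Finite.of_injective (fun e : G => (e : (Fin d → ZMod p) → (Fin d → ZMod p))) fun a b h => AffineEquiv.ext (congrFun h)
  have : Finite ((Fin d → ZMod p) ≃ₗ[ZMod p] (Fin d → ZMod p)) := Finite.of_injective (fun e : (Fin d → ZMod p) ≃ₗ[ZMod p] (Fin d → ZMod p) => (e : (Fin d → ZMod p) → (Fin d → ZMod p))) fun a b h => LinearEquiv.ext (congrFun h)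
  let lin : G →* ((Fin d → ZMod p) ≃ₗ[ZMod p] (Fin d → ZMod p)) := AffineEquiv.linearHom
  have hlin : ∀ l : (Fin d → ZMod p) ≃ₗ[ZMod p] (Fin d → ZMod p), lin l.toAffineEquiv = l := fun l => rfl
  let i0 : Fin d := ⟨0, by omega⟩
  let i1 : Fin d := ⟨1, by omega⟩
  let e0 : (Fin d → ZMod p) := Pi.single i0 1
  let e1 : (Fin d → ZMod p) := Pi.single i1 1
  let W : Submodule (ZMod p) (Fin d → ZMod p) := Submodule.span (ZMod p) {e0}
  have he0 : e0 ≠ 0 := fun h => one_ne_zero (α := ZMod p) (by
    have := congrFun h i0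
    simpa [e0] using this)
  have he1 : e1 ≠ 0 := fun h => one_ne_zero (α := ZMod p) (by
    have := congrFun h i1
    simpa [e1] using this)
  have he1W : e1 ∉ W := by
    rw [Submodule.mem_span_singleton]
    rintro ⟨c, hc⟩
    have h1 := congrFun hc i1
    have hne : i1 ≠ i0 := Fin.ne_of_val_ne (show (1:ℕ) ≠ 0 from one_ne_zero)
    simp [e0, e1, hne] at h1
  let S : Subgroup ((Fin d → ZMod p) ≃ₗ[ZMod p] (Fin d → ZMod p)) :=
    { carrier := {g | ∀ x, g x ∈ W ↔ x ∈ W}
      one_mem' := fun x => Iff.rfl
      mul_mem' := fun {a b} ha hb x => (ha (b x)).trans (hb x)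
      inv_mem' := fun {a} ha x => by
        have h := ha (a⁻¹ x)
        rw [show a (a⁻¹ x) = x from a.apply_symm_apply x] at h
        exact h.symm }
  have hS : ∀ g : (Fin d → ZMod p) ≃ₗ[ZMod p] (Fin d → ZMod p), g e0 ∈ W → g ∈ S := by
    intro g hg x
    obtain ⟨c, hc⟩ := Submodule.mem_span_singleton.1 hg
    have hc0 : c ≠ 0 := by
      rintro rfl
      rw [zero_smul] at hc
      exact he0 (g.map_eq_zero_iff.1 hc.symm)
    constructor
    · intro hx
      obtain ⟨b, hb⟩ := Submodule.mem_span_singleton.1 hx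
      refine Submodule.mem_span_singleton.2 ⟨b * c⁻¹, g.injective ?_⟩
      rw [map_smul, ← hc, smul_smul, mul_assoc, inv_mul_cancel₀ hc0, mul_one, hb]
    · intro hx
      obtain ⟨b, rfl⟩ := Submodule.mem_span_singleton.1 hx
      rw [map_smul]
      exact W.smul_mem _ hg
  have hmem0 : e0 ∈ W := Submodule.mem_span_singleton_self _
  have hind : ∀ u, u ∉ W → LinearIndependent (ZMod p) ![e0, u] := by
    intro u hu
    rw [LinearIndependent.pair_iff' he0]
    intro a ha
    exact hu (Submodule.mem_span_singleton.2 ⟨a, ha⟩)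
  have hSco : IsCoatom S := by
    refine ⟨fun h => ?_, fun X hX => ?_⟩
    · obtain ⟨g, hg⟩ := move_indep (K := ZMod p) ![e0] ![e1] (LinearIndependent.of_subsingleton (i := (0 : Fin 1)) he0) (LinearIndependent.of_subsingleton (i := (0 : Fin 1)) he1)
      have h0 : g e0 = e1 := hg 0
      have h1 := ((h ▸ Subgroup.mem_top g : g ∈ S) e0).2 hmem0
      rw [h0] at h1
      exact he1W h1
    · obtain ⟨g, hgX, hgS⟩ := SetLike.exists_of_lt hX
      have hu : g e0 ∉ W := fun h => hgS (hS g h)
      have key : ∀ w, w ∉ W → ∃ x ∈ X, x e0 = w := by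
        intro w hw
        obtain ⟨s, hs⟩ := move_indep ![e0, g e0] ![e0, w] (hind _ hu) (hind _ hw)
        have hs0 : s e0 = e0 := hs 0
        exact ⟨s * g, X.mul_mem (hX.le (hS s (by rw [hs0]; exact hmem0))) hgX, hs 1⟩
      rw [Subgroup.eq_top_iff']
      intro y
      by_cases hy : y e0 ∈ W
      · exact hX.le (hS y hy)
      · obtain ⟨x, hx, hxe⟩ := key _ hy
        have h1 : x⁻¹ * y ∈ S := hS _ (by
          show x.symm (y e0) ∈ W
          rw [← hxe, x.symm_apply_apply]; exact hmem0)
        have := X.mul_mem hx (hX.le h1)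
        rwa [mul_inv_cancel_left] at this
  let M : Subgroup G :=
    { carrier := {g | g 0 = 0}
      one_mem' := rfl
      mul_mem' := fun {a b} (ha : a 0 = 0) (hb : b 0 = 0) => show a (b 0) = 0 by rw [hb, ha]
      inv_mem' := fun {a} (ha : a 0 = 0) => show a.symm 0 = 0 from a.symm_apply_eq.2 ha.symm }
  let T : (Fin d → ZMod p) → G := fun v => AffineEquiv.constVAdd (ZMod p) (Fin d → ZMod p) v
  have hT : ∀ v x, T v x = v + x := fun v x => rfl
  have hlinT : ∀ v, lin (T v) = 1 := fun v => rfl
  have hsM : ∀ l : (Fin d → ZMod p) ≃ₗ[ZMod p] (Fin d → ZMod p), l.toAffineEquiv ∈ M := fun l => l.map_zero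
  have hindex : M.index = p ^ d := by
    have e : G ⧸ M ≃ (Fin d → ZMod p) :=
      { toFun := Quotient.lift (fun g : G => g 0) (by
          intro a b hab
          have h := (QuotientGroup.leftRel_apply.1 hab : a⁻¹ * b ∈ M)
          have h' : a.symm (b 0) = 0 := h
          exact (a.symm_apply_eq.1 h').symm)
        invFun := fun v => ((T v : G) : G ⧸ M)
        left_inv := by
          intro q
          induction q using QuotientGroup.induction_on with
          | _ g =>
            apply QuotientGroup.eq.2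
            show (T (g 0)).symm (g 0) = 0
            rw [AffineEquiv.symm_apply_eq, hT, add_zero]
        right_inv := fun v => by show v + 0 = v; rw [add_zero] }
    rw [Subgroup.index_eq_card, Nat.card_congr e, Nat.card_fun, Nat.card_zmod, Nat.card_fin]
  have hMco : IsCoatom M := by
    refine ⟨fun h => ?_, fun X hX => ?_⟩
    · have := (h ▸ Subgroup.mem_top (T e0) : T e0 ∈ M)
      have h0 : T e0 0 = 0 := this
      rw [hT, add_zero] at h0
      exact he0 h0
    · obtain ⟨g, hgX, hgM⟩ := SetLike.exists_of_lt hX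
      rw [Subgroup.eq_top_iff']
      intro y
      suffices ∃ x ∈ X, x 0 = y 0 by
        obtain ⟨x, hx, hxe⟩ := this
        have h1 : x⁻¹ * y ∈ M := show x.symm (y 0) = 0 from x.symm_apply_eq.2 hxe.symm
        have := X.mul_mem hx (hX.le h1)
        rwa [mul_inv_cancel_left] at this
      by_cases hy : y 0 = 0
      · exact ⟨1, X.one_mem, hy.symm⟩
      · have hg0 : g 0 ≠ 0 := hgM
        obtain ⟨l, hl⟩ := move_indep (K := ZMod p) ![g 0] ![y 0] (LinearIndependent.of_subsingleton (i := (0 : Fin 1)) hg0) (LinearIndependent.of_subsingleton (i := (0 : Fin 1)) hy)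
        exact ⟨l.toAffineEquiv * g, X.mul_mem (hX.le (hsM l)) hgX, hl 0⟩
  let K : Subgroup G := S.comap lin
  let H : Subgroup G := K ⊓ M
  have hlins : Function.Surjective lin := fun l => ⟨l.toAffineEquiv, hlin l⟩
  refine ⟨G, inferInstance, inferInstance, M, H, K, hMco, hindex, inf_le_right, ?_,
    isCoatom_comap lin hlins S hSco, inf_le_left, ?_⟩
  · have : H.subgroupOf M = S.comap (lin.comp M.subtype) := by
      ext x
      simp [H, K, Subgroup.mem_subgroupOf]
    rw [this]
    exact isCoatom_comap _ (fun l => ⟨⟨l.toAffineEquiv, hsM l⟩, hlin l⟩) S hSco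
  · intro hco
    let L : Subgroup G := K ⊓
      { carrier := {g | ∀ x, g x ∈ W ↔ x ∈ W}
        one_mem' := fun x => Iff.rfl
        mul_mem' := fun {a b} ha hb x => (ha (b x)).trans (hb x)
        inv_mem' := fun {a} ha x => by
          have h := ha (a⁻¹ x)
          rw [show a (a⁻¹ x) = x from a.apply_symm_apply x] at h
          exact h.symm }
    have hHL : H ≤ L := by
      intro g hg
      refine ⟨hg.1, fun x => ?_⟩
      have hg0 : g 0 = 0 := hg.2
      have h : g x = (lin g) x := by
        show g x = g.linear x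
        have := g.map_vadd 0 x
        simpa [hg0] using this
      rw [h]
      exact hg.1 x
    have hTK : ∀ v, T v ∈ K := fun v => by
      show lin (T v) ∈ S
      rw [hlinT]; exact S.one_mem
    have hTL : T e0 ∈ L := ⟨hTK e0, fun x => by rw [hT]; exact ⟨fun h => by simpa using W.sub_mem h hmem0, fun h => W.add_mem hmem0 h⟩⟩
    rcases hco.le_iff.1 (Subgroup.comap_mono hHL : H.subgroupOf K ≤ L.subgroupOf K) with h | h
    · have h1 : (⟨T e1, hTK e1⟩ : K) ∈ L.subgroupOf K := by
        rw [Subgroup.subgroupOf, h]; exact Subgroup.mem_top _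
      have h2 := (Subgroup.mem_subgroupOf.1 h1).2 0
      have h3 : T e1 0 ∈ W := h2.2 W.zero_mem
      rw [hT, add_zero] at h3
      exact he1W h3
    · have h1 : (⟨T e0, hTK e0⟩ : K) ∈ H.subgroupOf K := h ▸ Subgroup.mem_subgroupOf.2 hTL
      have h2 : T e0 0 = 0 := (Subgroup.mem_subgroupOf.1 h1).2
      rw [hT, add_zero] at h2
      exact he0 h2

end Cfsg.Agent.S5895
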