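import Cfsg.Statements.S5902
import Cfsg.Agent.H98.Lattice

set_option autoImplicit false
open Cfsg

namespace Cfsg.Agent.S5902

/-- Let G be a finite group, X a subgroup whose own subgroup lattice is complemented, and suppose X lies in exactly one maximal subgroup M of G. Then every subgroup H of G not contained in the normal core of M has a complement in the subgroup lattice of G (some C with H ⊔ C = G and H ⊓ C = 1); in particular the subgroup lattice of G modulo the normal core of M is complemented. -/
theorem result {G : Type*} [Group G] [Finite G] (X M : Subgroup G)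
    (hK : ComplementedLattice (Subgroup X))
    (hM : IsCoatom M) (hXM : X ≤ M) (huniq : ∀ M' : Subgroup G, IsCoatom M' → X ≤ M' → M' = M) :
    (∀ H : Subgroup G, ¬ H ≤ M.normalCore → ∃ C : Subgroup G, H ⊔ C = ⊤ ∧ H ⊓ C = ⊥) ∧
    ComplementedLattice (Subgroup (G ⧸ M.normalCore)) := by
  have main : ∀ H : Subgroup G, ¬ H ≤ M.normalCore → ∃ C : Subgroup G, H ⊔ C = ⊤ ∧ H ⊓ C = ⊥ := by
    intro H hH
    obtain ⟨g, hg⟩ : ∃ g : G, ¬ H.map (MulAut.conj g).toMonoidHom ≤ M := by
      by_contra h
      push Not at h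
      exact hH fun a ha b => h b ⟨a, ha, rfl⟩
    obtain ⟨C, h1, h2⟩ := Cfsg.Agent.H98.lattice_compl ⊥ X M
      (fun Y _ hY => Cfsg.Agent.H98.interval_of_complemented X hK Y hY) bot_le huniq
      (H.map (MulAut.conj g).toMonoidHom) hg (inf_bot_eq _)
    let e := MulAut.conj g
    refine ⟨C.map e.symm.toMonoidHom, ?_, ?_⟩
    · have := congrArg (Subgroup.map e.symm.toMonoidHom) h1
      rwa [Subgroup.map_sup, Subgroup.map_map, Subgroup.map_top_of_surjective _ e.symm.surjective,
        show e.symm.toMonoidHom.comp (MulAut.conj g).toMonoidHom = MonoidHom.id G from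
          MonoidHom.ext fun x => e.symm_apply_apply x, Subgroup.map_id] at this
    · have := congrArg (Subgroup.map e.symm.toMonoidHom) h2
      rwa [Subgroup.map_inf _ _ _ e.symm.injective, Subgroup.map_map, Subgroup.map_bot,
        show e.symm.toMonoidHom.comp (MulAut.conj g).toMonoidHom = MonoidHom.id G from
          MonoidHom.ext fun x => e.symm_apply_apply x, Subgroup.map_id] at this
  refine ⟨main, ⟨fun Hb => ?_⟩⟩
  rcases eq_or_ne Hb ⊥ with rfl | hb
  · exact ⟨⊤, isCompl_bot_top⟩
  set π := QuotientGroup.mk' M.normalCore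
  have hπ : Function.Surjective π := QuotientGroup.mk'_surjective _
  have hker : M.normalCore ≤ Hb.comap π := by
    intro x hx
    rw [Subgroup.mem_comap, QuotientGroup.mk'_apply, (QuotientGroup.eq_one_iff x).2 hx]
    exact Hb.one_mem
  obtain ⟨C, h1, h2⟩ := main (Hb.comap π) (by
    intro h
    apply hb
    rw [← Subgroup.map_comap_eq_self_of_surjective hπ Hb, eq_bot_iff]
    refine (Subgroup.map_mono h).trans ?_
    rw [(Subgroup.map_eq_bot_iff _).2 (by rw [QuotientGroup.ker_mk'])])
  refine ⟨C.map π, IsCompl.of_eq ?_ ?_⟩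
  · rw [eq_bot_iff]
    rintro x ⟨hx, c, hc, rfl⟩
    have : c ∈ Hb.comap π ⊓ C := ⟨hx, hc⟩
    rw [h2, Subgroup.mem_bot] at this
    simp [this]
  · rw [← Subgroup.map_comap_eq_self_of_surjective hπ Hb, ← Subgroup.map_sup, h1,
      Subgroup.map_top_of_surjective _ hπ]

end Cfsg.Agent.S5902
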