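import Cfsg.Statements.S5903
import Cfsg.Agent.H98.Lattice

set_option autoImplicit false
open Cfsg

namespace Cfsg.Agent.S5903

/-- Let G be a finite simple group, X a subgroup lying in exactly one maximal subgroup M of G, and N a subgroup of prime order with N ≤ X that is central in M. If the subgroup lattice of X/N is complemented, then the subgroup lattice of G is complemented. -/
theorem result {G : Type*} [Group G] [Finite G] [IsSimpleGroup G] (X M N : Subgroup G)
    (hM : IsCoatom M) (hXM : X ≤ M) (huniq : ∀ M' : Subgroup G, IsCoatom M' → X ≤ M' → M' = M)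
    (hNX : N ≤ X) (hN : (Nat.card N).Prime) (hcen : ∀ n ∈ N, ∀ m ∈ M, m * n = n * m)
    [(N.subgroupOf X).Normal] (hK : ComplementedLattice (Subgroup (X ⧸ N.subgroupOf X))) :
    ComplementedLattice (Subgroup G) := by
  classical
  refine ⟨fun H => ?_⟩
  rcases eq_or_ne H ⊥ with rfl | hH
  · exact ⟨⊤, isCompl_bot_top⟩
  rcases eq_or_ne H ⊤ with rfl | hH'
  · exact ⟨⊥, isCompl_top_bot⟩
  have hNne : N ≠ ⊥ := fun h => by simp [h] at hN; exact Nat.not_prime_one hN
  have simple : ∀ P : Subgroup G, (∀ g x, x ∈ P → g * x * g⁻¹ ∈ P) → P = ⊥ ∨ P = ⊤ :=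
    fun P hP => IsSimpleGroup.eq_bot_or_eq_top_of_normal P ⟨fun x hx g => hP g x hx⟩
  let cN : G → Subgroup G := fun g => N.map (MulAut.conj g).toMonoidHom
  let cM : G → Subgroup G := fun g => M.map (MulAut.conj g).toMonoidHom
  obtain ⟨g, hg1, hg2⟩ : ∃ g, ¬ cN g ≤ H ∧ ¬ H ≤ cM g := by
    by_contra hno
    push Not at hno
    set A := ⨆ g : {g : G // cN g ≤ H}, cN g with hA
    set B := ⨆ g : {g : G // ¬ cN g ≤ H}, cN g with hB
    have hAH : A ≤ H := iSup_le fun g => g.2
    have hHB : B ≤ Subgroup.centralizer (H : Set G) := by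
      refine iSup_le fun g => ?_
      rintro _ ⟨n, hn, rfl⟩
      rw [Subgroup.mem_centralizer_iff]
      intro h hh
      obtain ⟨m, hm, rfl⟩ := hno g g.2 hh
      simp only [MulEquiv.coe_toMonoidHom, ← map_mul, hcen n hn m hm]
    have hAB : A ⊔ B = ⊤ := by
      refine (simple (A ⊔ B) ?_).resolve_left ?_
      · have e : A ⊔ B = ⨆ g : G, cN g := by
          refine le_antisymm (sup_le (iSup_le fun g => le_iSup cN g.1) (iSup_le fun g => le_iSup cN g.1))
            (iSup_le fun g => ?_)
          by_cases h : cN g ≤ H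
          · exact le_sup_of_le_left (le_iSup (fun g : {g : G // cN g ≤ H} => cN g) ⟨g, h⟩)
          · exact le_sup_of_le_right (le_iSup (fun g : {g : G // ¬ cN g ≤ H} => cN g) ⟨g, h⟩)
        rw [e]
        intro k
        have hle : (⨆ g : G, cN g) ≤ (⨆ g : G, cN g).comap (MulAut.conj k).toMonoidHom := by
          refine iSup_le fun g => ?_
          rintro _ ⟨n, hn, rfl⟩
          exact Subgroup.mem_iSup_of_mem (k * g) ⟨n, hn, by simp [mul_assoc]⟩
        exact fun x hx => hle hx
      · intro h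
        apply hNne
        rw [eq_bot_iff]
        intro n hn
        have h1 : n ∈ cN 1 := ⟨n, hn, by simp⟩
        rw [← h]
        by_cases hc : cN 1 ≤ H
        · exact Subgroup.mem_sup_left (Subgroup.mem_iSup_of_mem (⟨1, hc⟩ : {g : G // cN g ≤ H}) h1)
        · exact Subgroup.mem_sup_right (Subgroup.mem_iSup_of_mem (⟨1, hc⟩ : {g : G // ¬ cN g ≤ H}) h1)
    have hAnorm : (⊤ : Subgroup G) ≤ Subgroup.normalizer (A : Set G) := by
      rw [← hAB]
      refine sup_le Subgroup.le_normalizer (le_trans ?_ (Subgroup.centralizer_le_normalizer (A : Set G)))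
      exact hHB.trans (Subgroup.centralizer_le hAH)
    rcases simple A (fun k x hx => (Subgroup.mem_normalizer_iff.1 (hAnorm (Subgroup.mem_top k)) x).1 hx) with hA0 | hA1
    · have hcen' : H ≤ Subgroup.center G := by
        intro h hh
        rw [Subgroup.mem_center_iff]
        intro k
        have hk : k ∈ B := by
          have : B = ⊤ := by rw [← hAB, hA0, bot_sup_eq]
          rw [this]; exact Subgroup.mem_top k
        exact ((Subgroup.mem_centralizer_iff.1 (hHB hk)) h hh).symm
      rcases IsSimpleGroup.eq_bot_or_eq_top_of_normal (Subgroup.center G) inferInstance with hz | hz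
      · exact hH (le_bot_iff.1 (hz ▸ hcen'))
      · have hnorm : ∀ P : Subgroup G, P = ⊥ ∨ P = ⊤ := fun P => simple P fun k x hx => by
          have : k ∈ Subgroup.center G := hz ▸ Subgroup.mem_top k
          rw [← Subgroup.mem_center_iff.1 this x, mul_inv_cancel_right]; exact hx
        exact (hnorm H).elim hH hH'
    · exact hH' (top_le_iff.1 (hA1 ▸ hAH))
  let e := MulAut.conj g⁻¹
  set H' := H.map e.toMonoidHom
  have hHM : ¬ H' ≤ M := by
    intro h
    refine hg2 fun x hx => ⟨e x, h ⟨x, hx, rfl⟩, ?_⟩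
    simp [e, mul_assoc]
  have hHN : H' ⊓ N = ⊥ := by
    have : Fact (Nat.card N).Prime := ⟨hN⟩
    rcases Subgroup.eq_bot_or_eq_top_of_prime_card ((H' ⊓ N).subgroupOf N) with h | h
    · rw [Subgroup.subgroupOf_eq_bot, disjoint_iff, inf_assoc, inf_idem] at h
      exact h
    · exfalso
      rw [Subgroup.subgroupOf_eq_top] at h
      apply hg1
      rintro _ ⟨n, hn, rfl⟩
      obtain ⟨y, hy, hyn⟩ := (h hn).1
      have e1 : MulAut.conj g n = y := by
        rw [← hyn]; simp [e, mul_assoc]
      exact show MulAut.conj g n ∈ H from e1 ▸ hy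
  have hint : ∀ Y : Subgroup G, N ≤ Y → Y ≤ X → ∃ C : Subgroup G, N ≤ C ∧ C ≤ X ∧ Y ⊔ C = X ∧ Y ⊓ C = N := by
    intro Y hNY hYX
    set π := QuotientGroup.mk' (N.subgroupOf X)
    have hπ : Function.Surjective π := QuotientGroup.mk'_surjective _
    obtain ⟨Q, hQ⟩ := hK.exists_isCompl ((Y.subgroupOf X).map π)
    have hNY' : N.subgroupOf X ≤ Y.subgroupOf X := Subgroup.comap_mono hNY
    have hY' : ((Y.subgroupOf X).map π).comap π = Y.subgroupOf X :=
      Subgroup.comap_map_eq_self (by rw [QuotientGroup.ker_mk']; exact hNY')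
    have hN' : (N.subgroupOf X) ≤ Q.comap π := by
      intro x hx
      rw [Subgroup.mem_comap, QuotientGroup.mk'_apply, (QuotientGroup.eq_one_iff x).2 hx]
      exact Q.one_mem
    have eY : (Y.subgroupOf X).map X.subtype = Y := by
      rw [Subgroup.subgroupOf_map_subtype, inf_eq_left.2 hYX]
    refine ⟨(Q.comap π).map X.subtype, ?_, Subgroup.map_subtype_le _, ?_, ?_⟩
    · intro x hx
      exact ⟨⟨x, hNX hx⟩, hN' (Subgroup.mem_subgroupOf.2 hx), rfl⟩
    · rw [← eY, ← Subgroup.map_sup, ← hY', Subgroup.comap_sup_eq _ _ _ hπ, hQ.sup_eq_top, Subgroup.comap_top,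
        ← MonoidHom.range_eq_map, Subgroup.range_subtype]
    · rw [← eY, ← Subgroup.map_inf _ _ _ X.subtype_injective, ← hY', ← Subgroup.comap_inf, hQ.inf_eq_bot,
        MonoidHom.comap_bot, QuotientGroup.ker_mk', Subgroup.subgroupOf_map_subtype, inf_eq_left.2 hNX]
  obtain ⟨C, h1, h2⟩ := Cfsg.Agent.H98.lattice_compl N X M hint hNX huniq H' hHM hHN
  refine ⟨C.map e.symm.toMonoidHom, IsCompl.of_eq ?_ ?_⟩
  · have := congrArg (Subgroup.map e.symm.toMonoidHom) h2
    rwa [Subgroup.map_inf _ _ _ e.symm.injective, Subgroup.map_map, Subgroup.map_bot,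
      show e.symm.toMonoidHom.comp e.toMonoidHom = MonoidHom.id G from
        MonoidHom.ext fun x => e.symm_apply_apply x, Subgroup.map_id] at this
  · have := congrArg (Subgroup.map e.symm.toMonoidHom) h1
    rwa [Subgroup.map_sup, Subgroup.map_map, Subgroup.map_top_of_surjective _ e.symm.surjective,
      show e.symm.toMonoidHom.comp e.toMonoidHom = MonoidHom.id G from
        MonoidHom.ext fun x => e.symm_apply_apply x, Subgroup.map_id] at this

end Cfsg.Agent.S5903
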