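import Cfsg.Statements.S5904
-- import your own Cfsg.Agent.* helpers here

set_option autoImplicit false
open scoped Pointwise
open Cfsg

namespace Cfsg.Agent.S5904

/-- Let Ω be a finite set with more than two elements and O ⊆ Ω a subset with exactly as many elements as its complement. Then the setwise stabilizer of O in the symmetric group on Ω is not a maximal subgroup (it is properly contained in the stabilizer of the partition {O, Ω ∖ O}, which is proper). -/
theorem result {Ω : Type*} [Fintype Ω] [DecidableEq Ω] (hΩ : 2 < Fintype.card Ω)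
    (O : Set Ω) (hO : Nat.card O = Nat.card ↥Oᶜ) :
    ¬ IsCoatom (MulAction.stabilizer (Equiv.Perm Ω) O) := by
  classical
  intro hco
  have hcard : Nat.card O + Nat.card ↥Oᶜ = Fintype.card Ω := by
    rw [Nat.card_coe_set_eq, Nat.card_coe_set_eq, Set.ncard_add_ncard_compl, Nat.card_eq_fintype_card]
  have hO1 : 1 < Nat.card O := by omega
  obtain ⟨e⟩ : Nonempty (O ≃ ↥Oᶜ) := Finite.card_eq.1 hO
  -- the involution exchanging O and its complement
  let σ : Equiv.Perm Ω := ((Equiv.Set.sumCompl O).symm.trans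
    ((Equiv.sumComm _ _).trans (Equiv.sumCongr e.symm e))).trans (Equiv.Set.sumCompl O)
  have hσ : ∀ x, σ x ∈ O ↔ x ∉ O := by
    intro x
    by_cases hx : x ∈ O
    · simp [σ, Equiv.Set.sumCompl_symm_apply_of_mem hx, hx]
      exact (e ⟨x, hx⟩).2
    · simp [σ, Equiv.Set.sumCompl_symm_apply_of_notMem hx, hx]
  let K : Subgroup (Equiv.Perm Ω) :=
    { carrier := {g | ∀ x y, (g x ∈ O ↔ g y ∈ O) ↔ (x ∈ O ↔ y ∈ O)}
      one_mem' := fun x y => Iff.rfl
      mul_mem' := fun {a b} ha hb x y => (ha (b x) (b y)).trans (hb x y)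
      inv_mem' := fun {a} ha x y => by
        have := ha (a⁻¹ x) (a⁻¹ y)
        simp only [Equiv.Perm.coe_inv, Equiv.apply_symm_apply] at this
        exact this.symm }
  have hle : MulAction.stabilizer (Equiv.Perm Ω) O ≤ K := by
    intro g hg x y
    have h : ∀ z, g z ∈ O ↔ z ∈ O := by
      intro z
      have := Set.smul_mem_smul_set_iff (a := g) (s := O) (x := z)
      rw [MulAction.mem_stabilizer_iff.1 hg] at this
      exact this
    rw [h, h]
  have hσK : σ ∈ K := fun x y => by rw [hσ, hσ]; exact not_iff_not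
  obtain ⟨⟨a, ha⟩, ⟨b, hb⟩, hab⟩ := (Finite.one_lt_card_iff_nontrivial.1 hO1).exists_pair_ne
  have hab' : a ≠ b := fun h => hab (Subtype.ext h)
  rcases hco.le_iff.1 hle with h | h
  · have hw : Equiv.swap a (σ a) ∈ K := h ▸ Subgroup.mem_top _
    have hsa : σ a ∉ O := fun hh => (hσ a).1 hh ha
    have hb' : Equiv.swap a (σ a) b = b := Equiv.swap_apply_of_ne_of_ne hab'.symm (fun hh => hsa (hh ▸ hb))
    have := (hw a b).2 (by simp [ha, hb])
    rw [Equiv.swap_apply_left, hb'] at this
    exact hsa (this.2 hb)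
  · have h1 : σ ∈ MulAction.stabilizer (Equiv.Perm Ω) O := h ▸ hσK
    have h2 := Set.smul_mem_smul_set_iff (a := σ) (s := O) (x := a)
    rw [MulAction.mem_stabilizer_iff.1 h1] at h2
    exact ((hσ a).1 (h2.2 ha)) ha

end Cfsg.Agent.S5904
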