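import Cfsg.Statements.S5908
import Cfsg.Agent.S0827

set_option autoImplicit false
open Cfsg

namespace Cfsg.Agent.S5908

/-- The subgroup lattice of PSU₃(2) (the solvable group of order 72, realised over the field with 4 elements) is not complemented: some subgroup H has no subgroup X with H ⊔ X = ⊤ and H ⊓ X = ⊥. -/
theorem result {F : Type*} [Field F] [Fintype F] (hF : Fintype.card F = 4) :
    ¬ ComplementedLattice (Subgroup (Cfsg.PSU 3 F 2)) := by
  obtain ⟨N, hN, hcard, -, ⟨e⟩⟩ := Cfsg.Agent.S0827.result hF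
  intro hcompl
  let χ : Cfsg.PSU 3 F 2 →* QuaternionGroup 2 := e.toMonoidHom.comp (QuotientGroup.mk' N)
  have hχ : Function.Surjective χ := e.surjective.comp (QuotientGroup.mk'_surjective N)
  haveI : Finite (Cfsg.PSU 3 F 2) := by
    haveI : Finite N := Nat.finite_of_card_ne_zero (by omega)
    haveI : Finite (Cfsg.PSU 3 F 2 ⧸ N) := Finite.of_equiv _ e.symm.toEquiv
    exact Finite.of_subgroup_quotient N
  obtain ⟨X, hX⟩ := hcompl.exists_isCompl ((Subgroup.center (QuaternionGroup 2)).comap χ)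
  have hq : ∀ y : QuaternionGroup 2, (y * y = 1 ∨ y * y * y = 1) → y ∈ Subgroup.center (QuaternionGroup 2) := by
    intro y hy
    rw [Subgroup.mem_center_iff]
    revert y
    decide +kernel
  have hXbot : X = ⊥ := by
    by_contra hne
    haveI : Nontrivial X := (Subgroup.nontrivial_iff_ne_bot X).2 hne
    obtain ⟨p, hp, hpd⟩ := Nat.exists_prime_and_dvd (Finite.one_lt_card (α := X)).ne'
    haveI : Fact p.Prime := ⟨hp⟩
    obtain ⟨x, hx⟩ := exists_prime_orderOf_dvd_card' p hpd
    have h72 : p ∣ 2 ^ 3 * 3 ^ 2 := by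
      have h1 := hpd.trans (Subgroup.card_subgroup_dvd_card X)
      rw [(Cfsg.Agent.S0282.result hF).1] at h1
      exact h1
    have hp23 : p = 2 ∨ p = 3 := by
      rcases hp.dvd_mul.1 h72 with h | h
      · exact Or.inl ((Nat.prime_dvd_prime_iff_eq hp Nat.prime_two).1 (hp.dvd_of_dvd_pow h))
      · exact Or.inr ((Nat.prime_dvd_prime_iff_eq hp Nat.prime_three).1 (hp.dvd_of_dvd_pow h))
    have hxp : (x : Cfsg.PSU 3 F 2) ^ p = 1 := by
      rw [← Subgroup.coe_pow, ← hx, pow_orderOf_eq_one, Subgroup.coe_one]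
    have hxH : (x : Cfsg.PSU 3 F 2) ∈ (Subgroup.center (QuaternionGroup 2)).comap χ := by
      refine Subgroup.mem_comap.2 (hq _ ?_)
      have h1 := congrArg χ hxp
      rw [map_pow, map_one] at h1
      rcases hp23 with rfl | rfl
      · exact Or.inl (by rw [← h1, pow_two])
      · exact Or.inr (by rw [← h1, pow_three, mul_assoc])
    have h1 : (x : Cfsg.PSU 3 F 2) = 1 := (Subgroup.disjoint_def.1 hX.disjoint) hxH x.2
    rw [show x = 1 from Subtype.ext h1, orderOf_one] at hx
    exact hp.one_lt.ne hx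
  have htop := hX.sup_eq_top
  rw [hXbot, sup_bot_eq] at htop
  obtain ⟨g, hg⟩ := hχ (QuaternionGroup.a 1)
  have hmem : g ∈ (Subgroup.center (QuaternionGroup 2)).comap χ := htop ▸ Subgroup.mem_top g
  rw [Subgroup.mem_comap, hg, Subgroup.mem_center_iff] at hmem
  exact absurd hmem (by decide +kernel)

end Cfsg.Agent.S5908
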