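import Cfsg.Statements.S5909
import Cfsg.Agent.H98.PartitionSmall

set_option autoImplicit false
open Cfsg

namespace Cfsg.Agent.S5909


open Equiv Cfsg.Agent.H98

theorem core {α : Type*} [Fintype α] [DecidableEq α] (h8 : Fintype.card α ≠ 8) (a b : ℕ) (ha : 2 ≤ a) (hb : 2 ≤ b)
    (f : α → Fin b) (hf : ∀ i : Fin b, Nat.card {x : α // f x = i} = a) (X : Subgroup (Perm α))
    (hX : partStab f ⊓ alternatingGroup α ≤ X) (g : Perm α) (hg : g ∈ X) (hgA : g ∈ alternatingGroup α)
    (hgW : g ∉ partStab f) : alternatingGroup α ≤ X := by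
  classical
  have hcard := card_coords a b f hf (by omega)
  rcases Nat.lt_or_ge a 3 with ha2 | ha3
  swap
  · obtain ⟨x, y, hxy, hs⟩ := exists_split hgW
    obtain ⟨k, hk, hne⟩ : ∃ k ∈ X, f (k x) ≠ f (k y) :=
      hs.elim (fun h => ⟨g, hg, h⟩) (fun h => ⟨g⁻¹, X.inv_mem hg, h⟩)
    have hxy' : x ≠ y := fun h => hne (by rw [h])
    obtain ⟨s, t, hst, hsx, htx, hfs, hft⟩ := two_others a b ha3 f hf x
    obtain ⟨z, hzx, hzy, hz⟩ : ∃ z, z ≠ x ∧ z ≠ y ∧ f z = f x := by
      rcases eq_or_ne s y with rfl | h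
      · exact ⟨t, htx, hst.symm, hft⟩
      · exact ⟨s, hsx, h, hfs⟩
    have htX : swap x y * swap y z ∈ X := by
      refine hX ⟨Subgroup.mul_mem _ (swap_mem_partStab hxy) (swap_mem_partStab (hxy.symm.trans hz.symm)), ?_⟩
      show swap x y * swap y z ∈ alternatingGroup α
      rw [Equiv.Perm.mem_alternatingGroup, Equiv.Perm.sign_mul, Equiv.Perm.sign_swap hxy',
        Equiv.Perm.sign_swap hzy.symm]
      decide
    have ht3 : (swap x y * swap y z).IsThreeCycle := by
      rw [swap_comm x y]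
      exact Equiv.Perm.isThreeCycle_swap_mul_swap_same hxy'.symm hzy.symm hzx.symm
    refine alt_le_of_cross a b ha hb (Or.inl ha3) f hf hX (c := k * (swap x y * swap y z) * k⁻¹) ?_
      (X.mul_mem (X.mul_mem hk htX) (X.inv_mem hk)) (p := k x) ?_
    · show (k * (swap x y * swap y z) * k⁻¹).cycleType = {3}
      rw [Equiv.Perm.cycleType_conj]; exact ht3
    · simpa [swap_apply_of_ne_of_ne hxy' hzx.symm] using hne
  obtain rfl : a = 2 := by omega
  have hcross : ∀ c : Perm α, c.IsThreeCycle → ∃ p, f p ≠ f (c p) := by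
    intro c hc
    by_contra h
    push Not at h
    obtain ⟨x, hx⟩ : c.support.Nonempty := by
      rw [← Finset.card_pos, hc.card_support]; norm_num
    have hs := hc.support_eq_iff_mem_support.2 hx
    have hsub : c.support ⊆ Finset.univ.filter fun y => f y = f x := by
      intro y hy
      refine Finset.mem_filter.2 ⟨Finset.mem_univ _, ?_⟩
      rw [hs] at hy
      simp only [Finset.mem_insert, Finset.mem_singleton] at hy
      rcases hy with rfl | rfl | rfl
      · rfl
      · exact (h x).symm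
      · exact (h (c x)).symm.trans (h x).symm
    have := Finset.card_le_card hsub
    rw [hc.card_support, ← Fintype.card_subtype, ← Nat.card_eq_fintype_card, hf] at this
    omega
  obtain hb2 | hb3 | hb5 : b = 2 ∨ b = 3 ∨ 5 ≤ b := by omega
  · subst hb2
    obtain ⟨e, he⟩ := exists_half_coords 2 f hf
    intro x hx
    rw [Equiv.Perm.mem_alternatingGroup] at hx
    have hgs : Equiv.Perm.sign g = 1 := Equiv.Perm.mem_alternatingGroup.1 hgA
    have hsg : ∀ z : Perm α, Equiv.Perm.sign (e.permCongrHom z) = Equiv.Perm.sign z :=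
      fun z => Equiv.Perm.sign_permCongr e z
    rcases perm_four (e.permCongrHom g) (e.permCongrHom x) ((hsg g).trans hgs) ((hsg x).trans hx) with h | h | h | h
    · exact absurd ((he g).2 h) hgW
    · exact hX ⟨(he x).2 h, Equiv.Perm.mem_alternatingGroup.2 hx⟩
    · rw [← map_mul] at h
      have h2 : g * x ∈ X := hX ⟨(he _).2 h, Equiv.Perm.mem_alternatingGroup.2 (by rw [map_mul, hgs, hx]; rfl)⟩
      have := X.mul_mem (X.inv_mem hg) h2
      rwa [inv_mul_cancel_left] at this
    · rw [← map_inv, ← map_mul] at h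
      have h2 : g⁻¹ * x ∈ X := hX ⟨(he _).2 h, Equiv.Perm.mem_alternatingGroup.2 (by rw [map_mul, map_inv, hgs, hx]; rfl)⟩
      have := X.mul_mem hg h2
      rwa [mul_inv_cancel_left] at this
  · subst hb3
    obtain ⟨e, he⟩ := exists_half_coords 3 f hf
    have hgs : Equiv.Perm.sign g = 1 := Equiv.Perm.mem_alternatingGroup.1 hgA
    rcases perm_six (e.permCongrHom g) ((Equiv.Perm.sign_permCongr e g).trans hgs) with h | ⟨w, hw, h3⟩
    · exact absurd ((he g).2 h) hgW
    obtain ⟨v, rfl⟩ := e.permCongrHom.surjective w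
    obtain ⟨hs, hv⟩ := pairsSix_spec _ hw
    have hc : (g * v).IsThreeCycle := by
      rw [← card_support_eq_three_iff, ← h3, ← map_mul]
      refine Finset.card_bij (fun i _ => e i) ?_ (fun _ _ _ _ h => e.injective h) ?_
      · intro i hi
        simpa [Equiv.Perm.mem_support, Equiv.permCongrHom, Equiv.permCongr_apply] using hi
      · intro j hj
        refine ⟨e.symm j, Equiv.Perm.mem_support.2 fun h => Equiv.Perm.mem_support.1 hj ?_, e.apply_symm_apply j⟩
        show e ((g * v) (e.symm j)) = j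
        rw [h, e.apply_symm_apply]
    have hvX : v ∈ X := hX ⟨(he v).2 hv, Equiv.Perm.mem_alternatingGroup.2
      ((Equiv.Perm.sign_permCongr e v).symm.trans hs)⟩
    obtain ⟨p, hp⟩ := hcross _ hc
    exact alt_le_of_cross 2 3 le_rfl (by omega) (Or.inr le_rfl) f hf hX hc (X.mul_mem hg hvX) hp
  -- at least five pairs
  obtain ⟨x, x', hxx, hs⟩ := exists_split hgW
  obtain ⟨k, hk, hne⟩ : ∃ k ∈ X, f (k x) ≠ f (k x') :=
    hs.elim (fun h => ⟨g, hg, h⟩) (fun h => ⟨g⁻¹, X.inv_mem hg, h⟩)
  have hxne : x ≠ x' := fun h => hne (by rw [h])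
  obtain ⟨p', hp'ne, hfp'⟩ := partner 2 b le_rfl f hf (k x)
  obtain ⟨e, he⟩ := exists_coords 2 b (by omega) f hf
  have pickOutside : ∀ S : Finset (Fin b), S.card < b → ∃ y, f y ∉ S := by
    intro S hS
    obtain ⟨i, -, hi⟩ := Finset.exists_mem_notMem_of_card_lt_card (s := S) (t := Finset.univ) (by simpa using hS)
    exact ⟨e.symm (i, 0), by rw [← he]; simpa using hi⟩
  obtain ⟨y, hy⟩ := pickOutside {f x, f (k⁻¹ p')} (lt_of_le_of_lt Finset.card_le_two (by omega))
  simp only [Finset.mem_insert, Finset.mem_singleton, not_or] at hy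
  obtain ⟨y', hyne, hfy'⟩ := partner 2 b le_rfl f hf y
  obtain ⟨u, hu⟩ := pickOutside ({f (k x), f (k x'), f (k y), f (k y')}) (lt_of_le_of_lt
    ((Finset.card_insert_le _ _).trans (Nat.add_le_add_right ((Finset.card_insert_le _ _).trans
      (Nat.add_le_add_right Finset.card_le_two 1)) 1)) (by omega))
  simp only [Finset.mem_insert, Finset.mem_singleton, not_or] at hu
  obtain ⟨u', hune, hfu'⟩ := partner 2 b le_rfl f hf u
  set A := swap (k x) (k x') with hA
  set B := swap (k y) (k y') with hB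
  set C := swap (k x) p' with hC
  set D := swap u u' with hD
  have hne' : k x ≠ k x' := k.injective.ne hxne
  have hAB : A * B ∈ X := by
    have h1 : swap x x' * swap y y' ∈ X := hX ⟨Subgroup.mul_mem _ (swap_mem_partStab hxx) (swap_mem_partStab hfy'.symm),
      Equiv.Perm.mem_alternatingGroup.2 (by rw [Equiv.Perm.sign_mul, Equiv.Perm.sign_swap hxne, Equiv.Perm.sign_swap hyne.symm]; decide)⟩
    have h2 := X.mul_mem (X.mul_mem hk h1) (X.inv_mem hk)
    rwa [show k * (swap x x' * swap y y') * k⁻¹ = A * B by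
      rw [show k * (swap x x' * swap y y') * k⁻¹ = (k * swap x x' * k⁻¹) * (k * swap y y' * k⁻¹) by group,
        Equiv.mul_swap_eq_swap_mul, Equiv.mul_swap_eq_swap_mul, mul_inv_cancel_right, mul_inv_cancel_right, hA, hB]] at h2
  have hCD : C * D ∈ X := hX ⟨Subgroup.mul_mem _ (swap_mem_partStab hfp'.symm) (swap_mem_partStab hfu'.symm),
    Equiv.Perm.mem_alternatingGroup.2 (by rw [Equiv.Perm.sign_mul, Equiv.Perm.sign_swap hp'ne.symm, Equiv.Perm.sign_swap hune.symm]; decide)⟩
  -- supports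
  have nu : ∀ z, f z ≠ f u → z ≠ u ∧ z ≠ u' := fun z hz => ⟨fun h => hz (by rw [h]), fun h => hz (by rw [h, hfu'])⟩
  have ux := nu (k x) (fun h => hu.1 h.symm)
  have ux' := nu (k x') (fun h => hu.2.1 h.symm)
  have uy := nu (k y) (fun h => hu.2.2.1 h.symm)
  have uy' := nu (k y') (fun h => hu.2.2.2 h.symm)
  have up' := nu p' (fun h => hu.1 (h.symm.trans hfp'))
  have ny : ∀ z, f z ≠ f y → k z ≠ k y ∧ k z ≠ k y' := fun z hz =>
    ⟨fun h => hz (by rw [k.injective h]), fun h => hz (by rw [k.injective h, hfy'])⟩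
  have yx := ny x (fun h => hy.1 h.symm)
  have yx' := ny x' (fun h => hy.1 (h.symm.trans hxx.symm))
  have yp := ny (k⁻¹ p') (fun h => hy.2 h.symm)
  rw [show k (k⁻¹ p') = p' from k.apply_symm_apply p'] at yp
  have hp'q : p' ≠ k x' := fun h => hne (by rw [← h, hfp'])
  have dis : ∀ (a b c d : α), a ≠ b → c ≠ d → a ≠ c → a ≠ d → b ≠ c → b ≠ d →
      Commute (swap a b) (swap c d) := by
    intro a b c d _ _ h1 h2 h3 h4
    apply Equiv.Perm.Disjoint.commute
    intro z
    rcases eq_or_ne z a with rfl | za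
    · exact Or.inr (swap_apply_of_ne_of_ne h1 h2)
    rcases eq_or_ne z b with rfl | zb
    · exact Or.inr (swap_apply_of_ne_of_ne h3 h4)
    · exact Or.inl (swap_apply_of_ne_of_ne za zb)
  have hne2 : k y ≠ k y' := k.injective.ne hyne.symm
  have cBC : Commute B C := (dis (k x) p' (k y) (k y') hp'ne.symm hne2 yx.1 yx.2 yp.1 yp.2).symm
  have cAD : Commute A D := dis (k x) (k x') u u' hne' hune.symm ux.1 ux.2 ux'.1 ux'.2
  have cBD : Commute B D := dis (k y) (k y') u u' hne2 hune.symm uy.1 uy.2 uy'.1 uy'.2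
  have cAB : Commute A B := dis (k x) (k x') (k y) (k y') hne' hne2 yx.1 yx.2 yx'.1 yx'.2
  have cCD : Commute C D := dis (k x) p' u u' hp'ne.symm hune.symm ux.1 ux.2 up'.1 up'.2
  have e1 : A * B * (C * D) = (A * C) * (B * D) := by
    rw [mul_assoc A B, ← mul_assoc B C D, cBC.eq, mul_assoc C B D, ← mul_assoc A C]
  have cAC : Commute (A * C) (B * D) :=
    ((cAB.mul_right cAD).mul_left ((cBC.symm).mul_right cCD))
  have e2 : (B * D) * (B * D) = 1 := by
    rw [show B * D * (B * D) = B * (D * B) * D by group, ← cBD.eq]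
    rw [show B * (B * D) * D = (B * B) * (D * D) by group, hB, hD, swap_mul_self, swap_mul_self, one_mul]
  have hc3 : (A * C).IsThreeCycle := Equiv.Perm.isThreeCycle_swap_mul_swap_same hne' hp'ne.symm hp'q.symm
  have hm : (A * C) * (A * C) ∈ X := by
    have h := X.mul_mem (X.mul_mem hAB hCD) (X.mul_mem hAB hCD)
    rwa [e1, cAC.symm.mul_mul_mul_comm, e2, mul_one] at h
  obtain ⟨p, hp⟩ := hcross _ hc3.isThreeCycle_sq
  exact alt_le_of_cross 2 b le_rfl hb (Or.inr (by omega)) f hf hX hc3.isThreeCycle_sq hm hp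

/-- Let Ω be a finite set whose size is not 8, and f : Ω → Fin b a labelling with b ≥ 2 whose fibres all have the same size a ≥ 2 (a partition into b blocks of size a). Then the even permutations preserving the partition — the intersection of the imprimitive wreath product S_a ≀ S_b with the alternating group — form a maximal subgroup of the alternating group on Ω. -/
theorem result {Ω : Type*} [Fintype Ω] [DecidableEq Ω] (h8 : Fintype.card Ω ≠ 8) (a b : ℕ) (ha : 2 ≤ a) (hb : 2 ≤ b)
    (f : Ω → Fin b) (hf : ∀ i : Fin b, Nat.card {x : Ω // f x = i} = a) :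
    IsCoatom ((Subgroup.closure {g : Equiv.Perm Ω | ∀ x y : Ω, f x = f y ↔ f (g x) = f (g y)} ⊓ alternatingGroup Ω).subgroupOf (alternatingGroup Ω)) := by
  classical
  rw [closure_partition]
  refine ⟨fun h => ?_, fun Y hY => ?_⟩
  · -- a three-cycle not preserving the partition
    obtain ⟨e, he⟩ := exists_coords a b (by omega) f hf
    let p := e.symm (⟨0, by omega⟩, ⟨0, by omega⟩)
    let p' := e.symm (⟨0, by omega⟩, ⟨1, by omega⟩)
    let q := e.symm (⟨1, by omega⟩, ⟨0, by omega⟩)
    let q' := e.symm (⟨1, by omega⟩, ⟨1, by omega⟩)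
    have hfp : f p = f p' := by rw [← he, ← he]; simp [p, p']
    have hfq : f q = f q' := by rw [← he, ← he]; simp [q, q']
    have hfpq : f p ≠ f q := by rw [← he, ← he]; simp [p, q]
    have hpp' : p ≠ p' := fun h => by simpa [p, p'] using congrArg e h
    have hqq' : q ≠ q' := fun h => by simpa [q, q'] using congrArg e h
    have hne : ∀ z w, f z = f p → f w = f q → z ≠ w := fun z w hz hw h => hfpq (by rw [← hz, ← hw, h])
    let σ : Equiv.Perm Ω := Equiv.swap p q * Equiv.swap q q'
    have hσ : σ ∈ alternatingGroup Ω := by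
      rw [Equiv.Perm.mem_alternatingGroup, Equiv.Perm.sign_mul, Equiv.Perm.sign_swap (hne p q rfl rfl),
        Equiv.Perm.sign_swap hqq']
      decide
    have hm : (⟨σ, hσ⟩ : alternatingGroup Ω) ∈ (partStab f ⊓ alternatingGroup Ω).subgroupOf (alternatingGroup Ω) :=
      h ▸ Subgroup.mem_top _
    have h1 := ((Subgroup.mem_subgroupOf.1 hm).1 p p').1 hfp
    have e1 : σ p = q := by
      simp [σ, Equiv.swap_apply_of_ne_of_ne (hne p q rfl rfl) (hne p q' rfl hfq.symm)]
    have e2 : σ p' = p' := by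
      simp [σ, Equiv.swap_apply_of_ne_of_ne (hne p' q hfp.symm rfl) (hne p' q' hfp.symm hfq.symm),
        Equiv.swap_apply_of_ne_of_ne hpp'.symm (hne p' q hfp.symm rfl)]
    rw [e1, e2] at h1
    exact hfpq (hfp.trans h1.symm)
  · obtain ⟨⟨g, hgA⟩, hgY, hgH⟩ := SetLike.exists_of_lt hY
    have hgW : g ∉ partStab f := fun h => hgH (Subgroup.mem_subgroupOf.2 ⟨h, hgA⟩)
    have hle : partStab f ⊓ alternatingGroup Ω ≤ Y.map (alternatingGroup Ω).subtype := fun w hw =>
      ⟨⟨w, hw.2⟩, hY.le (Subgroup.mem_subgroupOf.2 hw), rfl⟩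
    have := core h8 a b ha hb f hf (Y.map (alternatingGroup Ω).subtype) hle g ⟨⟨g, hgA⟩, hgY, rfl⟩ hgA hgW
    rw [eq_top_iff]
    intro x _
    obtain ⟨y, hy, hxy⟩ := this x.2
    exact (Subtype.ext hxy : y = x) ▸ hy

end Cfsg.Agent.S5909
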