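import Cfsg.Statements.S5910
import Cfsg.Agent.H98.PartitionSmall

set_option autoImplicit false
open Cfsg

namespace Cfsg.Agent.S5910


open Equiv Cfsg.Agent.H98

theorem xor_aff : ∀ a b : Fin 8, (a ^^^ b) ^^^ b = a := by decide

/-- The affine permutations of the eight vectors of a 3-space over two elements. -/
def affEight : Subgroup (Perm (Fin 8)) where
  carrier := {g | ∀ x y z : Fin 8, g (x ^^^ y ^^^ z) = g x ^^^ g y ^^^ g z}
  one_mem' := fun x y z => rfl
  mul_mem' := fun {a b} ha hb x y z => by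
    show a (b (x ^^^ y ^^^ z)) = _
    rw [hb, ha]
    rfl
  inv_mem' := fun {a} ha x y z => by
    apply a.injective
    rw [ha]
    simp

theorem high_affine : ∀ (π : Perm (Fin 4)) (a b c : Fin 4), π (a ^^^ b ^^^ c) = π a ^^^ π b ^^^ π c := by
  decide +kernel

theorem low_affine : ∀ (ε : Fin 4 → Fin 2), ε 0 + ε 1 + ε 2 + ε 3 = 0 →
    ∀ (a b c : Fin 4), ε (a ^^^ b ^^^ c) = ε a + ε b + ε c := by
  decide +kernel

theorem eight_split : ∀ (x y z : Fin 8),
    ((x ^^^ y ^^^ z : Fin 8) : ℕ) / 2 = (((⟨(x:ℕ) / 2, by omega⟩ : Fin 4) ^^^ ⟨(y:ℕ) / 2, by omega⟩ ^^^ ⟨(z:ℕ) / 2, by omega⟩ : Fin 4) : ℕ) ∧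
    ((x ^^^ y ^^^ z : Fin 8) : ℕ) % 2 = ((x:ℕ) % 2 + (y:ℕ) % 2 + (z:ℕ) % 2) % 2 := by
  decide +kernel

/-- A permutation of the pairs together with flips inside them. -/
def mkPerm (π : Perm (Fin 4)) (ε : Fin 4 → Fin 2) : Perm (Fin 8) :=
  (finProdFinEquiv : Fin 4 × Fin 2 ≃ Fin 8).permCongr
    (Equiv.prodShear π (fun i => if ε i = 1 then swap 0 1 else 1))

theorem mkPerm_sign : ∀ (π : Perm (Fin 4)) (ε : Fin 4 → Fin 2),
    Equiv.Perm.sign (mkPerm π ε) = 1 → ε 0 + ε 1 + ε 2 + ε 3 = 0 := by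
  decide +kernel

theorem pres_affine (g : Perm (Fin 8)) (h : g ∈ partStab (fun i : Fin 8 => (i : ℕ) / 2))
    (hs : Equiv.Perm.sign g = 1) : g ∈ affEight := by
  let hi : Fin 8 → Fin 4 := fun x => ⟨(x : ℕ) / 2, by omega⟩
  let lo : Fin 8 → Fin 2 := fun x => ⟨(x : ℕ) % 2, by omega⟩
  let rep : Fin 4 → Fin 8 := fun i => ⟨2 * (i : ℕ), by omega⟩
  have hh : ∀ x y, hi x = hi y ↔ hi (g x) = hi (g y) := fun x y => by
    simp only [hi, Fin.ext_iff]
    exact h x y
  have hrep : ∀ i, hi (rep i) = i := fun i => Fin.ext (by simp [hi, rep])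
  have hlorep : ∀ i, lo (rep i) = 0 := fun i => Fin.ext (by simp [lo, rep])
  have hpair : ∀ x y : Fin 8, hi x = hi y → lo x = lo y → x = y := by
    intro x y h1 h2
    simp only [hi, lo, Fin.ext_iff] at h1 h2
    exact Fin.ext (by omega)
  have hπinj : Function.Injective fun i => hi (g (rep i)) := fun i j hij => by
    have := (hh _ _).2 hij
    rwa [hrep, hrep] at this
  let π : Perm (Fin 4) := Equiv.ofBijective _ (Finite.injective_iff_bijective.1 hπinj)
  let ε : Fin 4 → Fin 2 := fun i => lo (g (rep i))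
  have hhi : ∀ x, hi (g x) = π (hi x) := fun x =>
    (hh x (rep (hi x))).1 (hrep _).symm
  have hlo : ∀ x, lo (g x) = ε (hi x) + lo x := by
    intro x
    have two : ∀ p q : Fin 2, p ≠ q → p = q + 1 := by decide
    have two' : ∀ p : Fin 2, p ≠ 0 → p = 1 := by decide
    by_cases h0 : lo x = 0
    · have : x = rep (hi x) := hpair _ _ (hrep _).symm (h0.trans (hlorep _).symm)
      rw [h0, add_zero]
      exact congrArg (fun z => lo (g z)) this
    · rw [two' _ h0]
      refine two _ _ fun e => h0 ?_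
      have := g.injective (hpair (g x) (g (rep (hi x))) ((hh _ _).1 (hrep _).symm) e)
      rw [this, hlorep]
  have hg : g = mkPerm π ε := by
    ext1 x
    have e : (finProdFinEquiv : Fin 4 × Fin 2 ≃ Fin 8).symm x = (hi x, lo x) := rfl
    rw [mkPerm, Equiv.permCongr_apply, e]
    show g x = finProdFinEquiv (π (hi x), (if ε (hi x) = 1 then swap 0 1 else 1 : Perm (Fin 2)) (lo x))
    rw [eq_comm, ← Equiv.eq_symm_apply]
    show _ = (hi (g x), lo (g x))
    rw [hhi, hlo]
    have two : ∀ e p : Fin 2, (if e = 1 then swap 0 1 else 1 : Perm (Fin 2)) p = e + p := by decide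
    rw [two]
  have hsum := mkPerm_sign π ε (hg ▸ hs)
  intro x y z
  obtain ⟨e1, e2⟩ := eight_split x y z
  obtain ⟨f1, f2⟩ := eight_split (g x) (g y) (g z)
  have E1 : hi (x ^^^ y ^^^ z) = hi x ^^^ hi y ^^^ hi z := Fin.ext e1
  have F1 : hi (g x ^^^ g y ^^^ g z) = hi (g x) ^^^ hi (g y) ^^^ hi (g z) := Fin.ext f1
  have mod2 : ∀ a b c : Fin 8, ∀ r : Fin 8, (r : ℕ) % 2 = ((a:ℕ) % 2 + (b:ℕ) % 2 + (c:ℕ) % 2) % 2 →
      lo r = lo a + lo b + lo c := by
    intro a b c r hr
    apply Fin.ext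
    simp only [lo, Fin.val_add]
    omega
  have E2 := mod2 x y z _ e2
  have F2 := mod2 (g x) (g y) (g z) _ f2
  refine hpair _ _ ?_ ?_
  · rw [hhi, E1, F1, hhi, hhi, hhi, high_affine]
  · rw [hlo, E1, E2, F2, hlo, hlo, hlo, low_affine ε hsum]
    abel

/-- Let Ω be a set with 8 elements and f : Ω → Fin 4 a labelling whose four fibres all have size 2 (a partition of the 8 points into 4 pairs). Then the group of even permutations preserving this partition, (S₂ ≀ S₄) ∩ A₈, is not a maximal subgroup of the alternating group A₈ (it lies in a subgroup isomorphic to the affine group AGL₃(2)). -/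
theorem result {Ω : Type*} [Fintype Ω] [DecidableEq Ω] (h8 : Fintype.card Ω = 8)
    (f : Ω → Fin 4) (hf : ∀ i : Fin 4, Nat.card {x : Ω // f x = i} = 2) :
    ¬ IsCoatom ((Subgroup.closure {g : Equiv.Perm Ω | ∀ x y : Ω, f x = f y ↔ f (g x) = f (g y)} ⊓ alternatingGroup Ω).subgroupOf (alternatingGroup Ω)) := by
  classical
  intro hco
  rw [closure_partition] at hco
  obtain ⟨e, he⟩ := exists_half_coords 4 f hf
  let ψ : alternatingGroup Ω →* Equiv.Perm (Fin 8) := e.permCongrHom.toMonoidHom.comp (alternatingGroup Ω).subtype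
  let L : Subgroup (alternatingGroup Ω) := affEight.comap ψ
  have hle : (partStab f ⊓ alternatingGroup Ω).subgroupOf (alternatingGroup Ω) ≤ L := by
    intro g hg
    have h := (he g.1).1 (Subgroup.mem_subgroupOf.1 hg).1
    exact pres_affine (e.permCongrHom g.1) h
      ((Equiv.Perm.sign_permCongr e g.1).trans (Equiv.Perm.mem_alternatingGroup.1 g.2))
  have lift : ∀ τ : Equiv.Perm (Fin 8), Equiv.Perm.sign τ = 1 → ∃ g : alternatingGroup Ω, ψ g = τ := by
    intro τ hτ
    obtain ⟨v, rfl⟩ := e.permCongrHom.surjective τ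
    exact ⟨⟨v, Equiv.Perm.mem_alternatingGroup.2 ((Equiv.Perm.sign_permCongr e v).symm.trans hτ)⟩, rfl⟩
  rcases hco.le_iff.1 hle with h | h
  · obtain ⟨g, hg⟩ := lift (Equiv.swap 0 1 * Equiv.swap 1 2) (by decide)
    have hm : g ∈ L := h ▸ Subgroup.mem_top g
    have h1 : ψ g ∈ affEight := hm
    rw [hg] at h1
    exact absurd (h1 0 1 4) (by decide)
  · obtain ⟨g, hg⟩ := lift (Equiv.swap 1 2 * Equiv.swap 5 6) (by decide)
    have hm : g ∈ L := by
      show ψ g ∈ affEight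
      rw [hg]
      show ∀ x y z : Fin 8, _
      decide +kernel
    rw [h] at hm
    have h1 := ((he g.1).1 (Subgroup.mem_subgroupOf.1 hm).1) (0 : Fin 8) (1 : Fin 8)
    change ((0 : Fin 8) : ℕ) / 2 = ((1 : Fin 8) : ℕ) / 2 ↔ ((ψ g) 0 : ℕ) / 2 = ((ψ g) 1 : ℕ) / 2 at h1
    rw [hg] at h1
    exact absurd h1 (by decide)

end Cfsg.Agent.S5910
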