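import Cfsg.Statements.S5911
import Cfsg.Agent.H98.PermIndex

set_option autoImplicit false
open Cfsg

namespace Cfsg.Agent.S5911

/-- Let Ω be a finite set whose size n is not 6. Then every subgroup of the symmetric group on Ω of index n is the stabilizer of a point. -/
theorem result {Ω : Type*} [Fintype Ω] [DecidableEq Ω] (h6 : Fintype.card Ω ≠ 6)
    (H : Subgroup (Equiv.Perm Ω)) (hH : H.index = Fintype.card Ω) :
    ∃ x : Ω, H = MulAction.stabilizer (Equiv.Perm Ω) x := by
  classical
  have hne0 : H.index ≠ 0 := Subgroup.index_ne_zero_of_finite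
  rcases Nat.lt_or_ge (Fintype.card Ω) 2 with h2 | h2
  · obtain ⟨x⟩ : Nonempty Ω := Fintype.card_pos_iff.1 (by omega)
    have hs : Subsingleton Ω := Fintype.card_le_one_iff_subsingleton.1 (by omega)
    refine ⟨x, ?_⟩
    ext g
    have h1 : g = 1 := Subsingleton.elim _ _
    simp [h1]
  by_cases ht : MulAction.IsPretransitive H Ω
  · exfalso
    have h5 := Cfsg.Agent.H98.five_le_of_transitive H hH ht h2
    have := Fintype.ofFinite (Equiv.Perm Ω ⧸ H)
    obtain ⟨e, q, hq⟩ := Cfsg.Agent.H98.exists_coset_iso H hH h5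
    have hc : Fintype.card (Equiv.Perm Ω ⧸ H) = Fintype.card Ω := by
      rw [← Nat.card_eq_fintype_card, ← Subgroup.index_eq_card, hH]
    refine Cfsg.Agent.H98.not_isPretransitive_of_swap e (fun σ hσ => ?_) H q hq ?_ ht
    · exact (Cfsg.Agent.H98.image_swap_cases e.symm hc σ hσ).resolve_right fun h => h6 (hc ▸ h.1)
    · intro htop
      rw [htop, Subgroup.index_top] at hH
      omega
  · exact Cfsg.Agent.H98.eq_stabilizer_of_not_isPretransitive H hH ht

end Cfsg.Agent.S5911
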