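import Cfsg.Statements.S5912
import Cfsg.Agent.H98.PermIndex

set_option autoImplicit false
open Cfsg

namespace Cfsg.Agent.S5912


open Equiv MulAction Cfsg.Agent.H98

theorem card_sylow_five : Nat.card (Sylow 5 (Perm (Fin 5))) = 6 := by
  have : Fact (Nat.Prime 5) := ⟨by norm_num⟩
  obtain ⟨P⟩ := (inferInstance : Nonempty (Sylow 5 (Perm (Fin 5))))
  have h120 : Nat.card (Perm (Fin 5)) = 120 := by
    rw [Nat.card_perm, Nat.card_eq_fintype_card, Fintype.card_fin]; rfl
  have hmul := (P : Subgroup (Perm (Fin 5))).card_mul_index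
  rw [h120] at hmul
  obtain ⟨k, hk⟩ := IsPGroup.iff_card.1 P.isPGroup'
  have hnd : ¬ 5 ∣ (P : Subgroup (Perm (Fin 5))).index := P.not_dvd_index
  have hk1 : k = 1 := by
    rcases k with _ | _ | k
    · exfalso; apply hnd; rw [hk, pow_zero, one_mul] at hmul; rw [hmul]; norm_num
    · rfl
    · exfalso
      have : 25 ∣ 120 := ⟨5 ^ k * (P : Subgroup (Perm (Fin 5))).index, by rw [← hmul, hk]; ring⟩
      omega
  subst hk1
  have hidx : (P : Subgroup (Perm (Fin 5))).index = 24 := by rw [hk] at hmul; omega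
  have hd : Nat.card (Sylow 5 (Perm (Fin 5))) ∣ 24 := hidx ▸ P.card_dvd_index
  have hm : Nat.card (Sylow 5 (Perm (Fin 5))) % 5 = 1 := card_sylow_modEq_one 5 (Perm (Fin 5))
  have hne : Nat.card (Sylow 5 (Perm (Fin 5))) ≠ 1 := by
    intro h1
    have hsub : Subsingleton (Sylow 5 (Perm (Fin 5))) := (Nat.card_eq_one_iff_unique.1 h1).1
    have hmem : ∀ c : Perm (Fin 5), orderOf c = 5 → c ∈ (P : Subgroup (Perm (Fin 5))) := by
      intro c hc
      have hp : IsPGroup 5 (Subgroup.zpowers c) :=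
        IsPGroup.of_card (n := 1) (by rw [Nat.card_zpowers, hc, pow_one])
      obtain ⟨Q, hQ⟩ := hp.exists_le_sylow
      rw [Subsingleton.elim P Q]
      exact hQ (Subgroup.mem_zpowers c)
    let c : Perm (Fin 5) := finRotate 5
    let d : Perm (Fin 5) := Equiv.swap 0 1 * c * Equiv.swap 0 1
    have hc : orderOf c = 5 := orderOf_eq_prime (by decide +kernel) (by decide +kernel)
    have hd : orderOf d = 5 := orderOf_eq_prime (by decide +kernel) (by decide +kernel)
    have hz : Subgroup.zpowers c = (P : Subgroup (Perm (Fin 5))) :=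
      Subgroup.eq_of_le_of_card_ge (Subgroup.zpowers_le.2 (hmem c hc))
        (by rw [hk, Nat.card_zpowers, hc, pow_one])
    have hdm := hmem d hd
    rw [← hz] at hdm
    classical
    rw [mem_zpowers_iff_mem_range_orderOf, hc] at hdm
    revert hdm
    decide +kernel
  have h24 := Nat.le_of_dvd (by norm_num) hd
  interval_cases h : Nat.card (Sylow 5 (Perm (Fin 5))) <;> omega

theorem exists_transitive {Ω : Type*} [Fintype Ω] [DecidableEq Ω] (h6 : Fintype.card Ω = 6) :
    ∃ H : Subgroup (Perm Ω), H.index = 6 ∧ MulAction.IsPretransitive H Ω := by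
  have : Fact (Nat.Prime 5) := ⟨by norm_num⟩
  let f := MulAction.toPermHom (Perm (Fin 5)) (Sylow 5 (Perm (Fin 5)))
  obtain ⟨P⟩ := (inferInstance : Nonempty (Sylow 5 (Perm (Fin 5))))
  have inj : Function.Injective f := by
    rw [← MonoidHom.ker_eq_bot_iff]
    by_contra hne
    have hA : alternatingGroup (Fin 5) ≤ f.ker :=
      Equiv.Perm.alternatingGroup_le_of_normal (by simp)
        ((Subgroup.nontrivial_iff_ne_bot _).2 hne)
    have hAS : alternatingGroup (Fin 5) ≤ stabilizer (Perm (Fin 5)) P := fun g hg => by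
      have h2 : f g P = P := by rw [MonoidHom.mem_ker.1 (hA hg)]; rfl
      exact mem_stabilizer_iff.2 h2
    have h3 := Subgroup.index_dvd_of_le hAS
    rw [index_stabilizer_of_transitive, card_sylow_five, alternatingGroup.index_eq_two] at h3
    omega
  obtain ⟨e⟩ : Nonempty (Sylow 5 (Perm (Fin 5)) ≃ Ω) :=
    Finite.card_eq.1 (by rw [card_sylow_five, Nat.card_eq_fintype_card, h6])
  let g : Perm (Fin 5) →* Perm Ω := e.permCongrHom.toMonoidHom.comp f
  refine ⟨g.range, ?_, ⟨fun x y => ?_⟩⟩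
  · have hc : Nat.card g.range = 120 := by
      rw [← Nat.card_congr (MonoidHom.ofInjective (show Function.Injective g from
        e.permCongrHom.injective.comp inj)).toEquiv, Nat.card_perm, Nat.card_eq_fintype_card, Fintype.card_fin]
      rfl
    have hmul := g.range.card_mul_index
    rw [hc, Nat.card_perm, Nat.card_eq_fintype_card, h6] at hmul
    simp only [Nat.factorial] at hmul
    omega
  · obtain ⟨a, ha⟩ := MulAction.exists_smul_eq (Perm (Fin 5)) (e.symm x) (e.symm y)
    refine ⟨⟨g a, a, rfl⟩, ?_⟩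
    show e (a • e.symm x) = y
    rw [ha, e.apply_symm_apply]

theorem swap_to_triple {α β : Type*} [Fintype α] [DecidableEq α] [Fintype β] [DecidableEq β]
    (hb : Fintype.card α = Fintype.card β) (e : Perm α ≃* Perm β) (H : Subgroup (Perm α)) (q : β)
    (hq : ∀ g, g ∈ H ↔ e g q = q) (hne : H ≠ ⊤) (ht : IsPretransitive H α) (σ : Perm β)
    (hσ : σ.IsSwap) : (e.symm σ).cycleType = Multiset.replicate 3 2 := by
  rcases image_swap_cases e.symm hb.symm σ hσ with h | h
  · refine absurd ht (not_isPretransitive_of_swap e (fun τ hτ => ?_) H q hq hne)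
    have hc : IsConj σ τ := Equiv.Perm.isConj_iff_cycleType_eq.2
      (by rw [Equiv.Perm.isSwap_iff_cycleType.1 hσ, Equiv.Perm.isSwap_iff_cycleType.1 hτ])
    have hc2 := Equiv.Perm.isConj_iff_cycleType_eq.1 (e.symm.toMonoidHom.map_isConj hc)
    exact Equiv.Perm.isSwap_iff_cycleType.2 (hc2.symm.trans (Equiv.Perm.isSwap_iff_cycleType.1 h))
  · exact h.2

theorem transitive_conj {Ω : Type*} [Fintype Ω] [DecidableEq Ω] (h6 : Fintype.card Ω = 6)
    (H H' : Subgroup (Perm Ω)) (hH : H.index = 6) (hH' : H'.index = 6)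
    (ht : IsPretransitive H Ω) (ht' : IsPretransitive H' Ω) :
    ∃ g : Perm Ω, H'.map (MulAut.conj g).toMonoidHom = H := by
  classical
  have := Fintype.ofFinite (Perm Ω ⧸ H)
  have := Fintype.ofFinite (Perm Ω ⧸ H')
  obtain ⟨e1, q1, hq1⟩ := exists_coset_iso H (hH.trans h6.symm) (by omega)
  obtain ⟨e2, q2, hq2⟩ := exists_coset_iso H' (hH'.trans h6.symm) (by omega)
  have hc1 : Fintype.card (Perm Ω ⧸ H) = 6 := by
    rw [← Nat.card_eq_fintype_card, ← Subgroup.index_eq_card, hH]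
  have hc2 : Fintype.card (Perm Ω ⧸ H') = 6 := by
    rw [← Nat.card_eq_fintype_card, ← Subgroup.index_eq_card, hH']
  have hne : ∀ K : Subgroup (Perm Ω), K.index = 6 → K ≠ ⊤ := fun K hK h => by
    rw [h, Subgroup.index_top] at hK; omega
  have t1 := swap_to_triple (by rw [hc1, h6]) e1 H q1 hq1 (hne H hH) ht
  have t2 := swap_to_triple (by rw [hc2, h6]) e2 H' q2 hq2 (hne H' hH') ht'
  let ψ := e2.symm.trans e1
  have hψ : ∀ σ : Perm (Perm Ω ⧸ H'), σ.IsSwap → (ψ σ).IsSwap := by
    intro σ hσ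
    obtain ⟨a, b, hab⟩ := Fintype.exists_pair_of_one_lt_card (α := Perm Ω ⧸ H) (by omega)
    have hτ : (Equiv.swap a b).IsSwap := ⟨a, b, hab, rfl⟩
    have hc : IsConj (e1.symm (Equiv.swap a b)) (e2.symm σ) :=
      Equiv.Perm.isConj_iff_cycleType_eq.2 (by rw [t1 _ hτ, t2 _ hσ])
    have hc2 := Equiv.Perm.isConj_iff_cycleType_eq.1 (e1.toMonoidHom.map_isConj hc)
    simp only [MulEquiv.coe_toMonoidHom, MulEquiv.apply_symm_apply] at hc2
    exact Equiv.Perm.isSwap_iff_cycleType.2
      (hc2.symm.trans (Equiv.Perm.isSwap_iff_cycleType.1 hτ))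
  let K := H'.map e1.toMonoidHom
  have hK : ∀ g, g ∈ K ↔ ψ.symm g q2 = q2 := by
    intro g
    constructor
    · rintro ⟨x, hx, rfl⟩
      simpa [ψ] using (hq2 x).1 hx
    · intro h
      exact ⟨e1.symm g, (hq2 _).2 (by simpa [ψ] using h), e1.apply_symm_apply g⟩
  have hKi : K.index = Fintype.card (Perm Ω ⧸ H) := by
    rw [show K.index = H'.index from Subgroup.index_map_equiv _ e1, hH', hc1]
  have hKne : K ≠ ⊤ := fun h => by rw [h, Subgroup.index_top] at hKi; omega
  have hint := not_isPretransitive_of_swap ψ.symm (by intro σ hσ; exact hψ σ hσ) K q2 hK hKne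
  obtain ⟨x, hx⟩ := eq_stabilizer_of_not_isPretransitive K hKi hint
  obtain ⟨g, hg⟩ : ∃ g : Perm (Perm Ω ⧸ H), g x = q1 := ⟨Equiv.swap x q1, Equiv.swap_apply_left _ _⟩
  refine ⟨e1.symm g, ?_⟩
  ext z
  rw [Subgroup.mem_map_equiv, hq1]
  have hiff : (e1.symm g)⁻¹ * z * (e1.symm g) ∈ H' ↔ g⁻¹ * e1 z * g ∈ K := by
    constructor
    · intro h
      exact ⟨_, h, by simp⟩
    · rintro ⟨w, hw, hwe⟩
      have : w = (e1.symm g)⁻¹ * z * (e1.symm g) := e1.injective (by
        simpa using hwe)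
      exact this ▸ hw
  simp only [MulAut.conj_symm_apply]
  rw [hiff, hx, mem_stabilizer_iff]
  show g⁻¹ (e1 z (g x)) = x ↔ _
  rw [hg, ← hg, Equiv.Perm.inv_eq_iff_eq]

/-- The symmetric group on a 6-element set Ω has exactly two conjugacy classes of subgroups of index 6: there are two non-conjugate subgroups of index 6 (a point stabilizer and a transitive subgroup isomorphic to S₅), and every subgroup of index 6 is conjugate to one of them. -/
theorem result {Ω : Type*} [Fintype Ω] [DecidableEq Ω] (h6 : Fintype.card Ω = 6) :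
    ∃ H₁ H₂ : Subgroup (Equiv.Perm Ω), H₁.index = 6 ∧ H₂.index = 6 ∧
      (¬ ∃ g : Equiv.Perm Ω, Subgroup.map (MulAut.conj g).toMonoidHom H₁ = H₂) ∧
      ∀ H : Subgroup (Equiv.Perm Ω), H.index = 6 →
        ∃ g : Equiv.Perm Ω, Subgroup.map (MulAut.conj g).toMonoidHom H₁ = H ∨ Subgroup.map (MulAut.conj g).toMonoidHom H₂ = H := by
  classical
  obtain ⟨x0⟩ : Nonempty Ω := Fintype.card_pos_iff.1 (by omega)
  obtain ⟨H₂, hi, ht⟩ := exists_transitive h6
  refine ⟨stabilizer (Perm Ω) x0, H₂,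
    by rw [index_stabilizer_of_transitive, Nat.card_eq_fintype_card, h6], hi, ?_, fun H hH => ?_⟩
  · rintro ⟨g, hg⟩
    obtain ⟨z, hz⟩ := Fintype.exists_ne_of_one_lt_card (by omega) (g x0)
    obtain ⟨⟨k, hk⟩, hk2⟩ := MulAction.exists_smul_eq H₂ (g x0) z
    rw [← hg] at hk
    obtain ⟨s, hs, rfl⟩ := hk
    apply hz
    rw [← hk2]
    have hs' : s x0 = x0 := hs
    show (g * s * g⁻¹) (g x0) = g x0
    simp [hs']
  · by_cases htH : IsPretransitive H Ω
    · obtain ⟨g, hg⟩ := transitive_conj h6 H H₂ hH hi htH ht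
      exact ⟨g, Or.inr hg⟩
    · obtain ⟨x, hx⟩ := Cfsg.Agent.H98.eq_stabilizer_of_not_isPretransitive H (hH.trans h6.symm) htH
      obtain ⟨g, hg⟩ := MulAction.exists_smul_eq (Perm Ω) x0 x
      refine ⟨g, Or.inl ?_⟩
      rw [hx, ← hg, MulAction.stabilizer_smul_eq_stabilizer_map_conj]

end Cfsg.Agent.S5912
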