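import Cfsg.Statements.S5938
import Cfsg.Agent.Linear.Dickson.SmallMax
import Cfsg.Agent.S0802
import Cfsg.Agent.S0803
-- import your own Cfsg.Agent.* helpers here

set_option autoImplicit false
open Cfsg Cfsg.Agent.Linear

namespace Cfsg.Agent.S5938

/-- Let p be a prime with p ≡ ±1 (mod 8) and F a field with p elements. Then PSL_2(F) has a maximal subgroup isomorphic to the symmetric group S_4. -/
theorem result {F : Type*} [Field F] [Fintype F] (p : ℕ) [Fact p.Prime] (hF : Fintype.card F = p) (hp : p % 8 = 1 ∨ p % 8 = 7) : ∃ H : Subgroup (Matrix.ProjectiveSpecialLinearGroup (Fin 2) F), IsCoatom H ∧ Nonempty (H ≃* Equiv.Perm (Fin 4)) := by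
  have hp' := (Fact.out : p.Prime)
  have hsq : p ^ 2 % 16 = 1 := by
    rw [Nat.pow_mod]
    rcases (show p % 16 = 1 ∨ p % 16 = 7 ∨ p % 16 = 9 ∨ p % 16 = 15 by omega) with e | e | e | e <;> rw [e]
  obtain ⟨H, ⟨e⟩⟩ := (Cfsg.Agent.S0803.result hF).mpr hsq
  have hodd : Odd (Fintype.card F) := by rw [hF, Nat.odd_iff]; omega
  have hH : Nat.card H = 24 := (Nat.card_congr e.toEquiv).trans Dickson.card_sym_four
  have hp7 : 7 ≤ p := by have := hp'.two_le; omega
  refine ⟨H, ⟨fun htop => ?_, fun M hM => ?_⟩, ⟨e⟩⟩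
  · have hG := Cfsg.Agent.Linear.card_PSL_two_mul (F := F)
    rw [← Subgroup.card_top (G := Matrix.ProjectiveSpecialLinearGroup (Fin 2) F), ← htop, hH, hF] at hG
    have h1 : 7 * 48 ≤ p * (p ^ 2 - 1) :=
      Nat.mul_le_mul hp7 (Nat.le_sub_one_of_lt (lt_of_lt_of_le (by norm_num) (Nat.pow_le_pow_left hp7 2)))
    have h2 : Nat.gcd 2 (p - 1) * 24 ≤ 48 :=
      Nat.mul_le_mul_right 24 (Nat.le_of_dvd two_pos (Nat.gcd_dvd_left 2 _))
    omega
  · obtain ⟨f, hf⟩ := Dickson.exists_perm_four_embedding e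
    obtain ⟨hB, hT⟩ := Dickson.not_small_of_altFour hodd hM.le f hf
    have hdvd := Subgroup.card_dvd_of_le hM.le
    have hlt : 24 < Nat.card M := hH ▸ lt_of_le_of_ne (Subgroup.card_le_of_le hM.le)
      fun e' => hM.ne (Subgroup.eq_of_le_of_card_ge hM.le e'.ge)
    obtain ⟨p', hchar⟩ := CharP.exists F
    have : Fact p'.Prime := ⟨CharP.char_is_prime F p'⟩
    rcases Dickson.shape p' M with hs | hs | ⟨⟨g⟩⟩ | ⟨⟨g⟩⟩ | ⟨⟨g⟩⟩ | hs
    · exact absurd hs hB
    · exact absurd hs hT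
    · rw [(Nat.card_congr g.toEquiv).trans Dickson.card_alt_four] at hlt; omega
    · rw [(Nat.card_congr g.toEquiv).trans Dickson.card_sym_four] at hlt; omega
    · rw [hH, (Nat.card_congr g.toEquiv).trans Dickson.card_alt_five] at hdvd; norm_num at hdvd
    · exact hs.eq_top_of_prime_card (hF ▸ hp')

end Cfsg.Agent.S5938
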