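import Cfsg.Statements.S5939
import Cfsg.Agent.Linear.Dickson.SmallMax
-- import your own Cfsg.Agent.* helpers here

set_option autoImplicit false
open Cfsg Cfsg.Agent.Linear

namespace Cfsg.Agent.S5939

/-- Let p be a prime and F a finite field of characteristic p such that either F has p elements and p ≡ ±1 (mod 10), or F has p² elements and p ≡ ±3 (mod 10). Then PSL_2(F) has a maximal subgroup isomorphic to the alternating group A_5. -/
theorem result {F : Type*} [Field F] [Fintype F] (p : ℕ) [Fact p.Prime] [CharP F p] (h : (Fintype.card F = p ∧ (p % 10 = 1 ∨ p % 10 = 9)) ∨ (Fintype.card F = p ^ 2 ∧ (p % 10 = 3 ∨ p % 10 = 7))) : ∃ H : Subgroup (Matrix.ProjectiveSpecialLinearGroup (Fin 2) F), IsCoatom H ∧ Nonempty (H ≃* alternatingGroup (Fin 5)) := by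
  have hp := (Fact.out : p.Prime)
  have h5 : 5 ∣ Fintype.card F * (Fintype.card F ^ 2 - 1) := by
    have key : ∀ n : ℕ, 1 ≤ n → n % 5 = 1 ∨ n % 5 = 4 → 5 ∣ n * (n ^ 2 - 1) := fun n hn h => by
      refine dvd_mul_of_dvd_right ?_ _
      have h2 : n ^ 2 % 5 = 1 := by rw [Nat.pow_mod]; rcases h with e | e <;> rw [e]
      omega
    rcases h with ⟨hq, h10⟩ | ⟨hq, h10⟩ <;> rw [hq]
    · exact key p hp.one_le (by omega)
    · refine key (p ^ 2) (Nat.one_le_pow _ _ hp.pos) ?_
      rw [Nat.pow_mod]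
      rcases (show p % 5 = 3 ∨ p % 5 = 2 by omega) with e | e <;> rw [e] <;> norm_num
  obtain ⟨H, ⟨e⟩⟩ := Dickson.exists_altFive h5
  refine ⟨H, Dickson.isCoatom_altFive p ?_ e, ⟨e⟩⟩
  rcases h with ⟨hq, h10⟩ | ⟨hq, h10⟩
  · exact Or.inl ⟨hq, by have := hp.two_le; omega⟩
  · refine Or.inr ⟨hq, by omega, fun hd => ?_⟩
    rcases Nat.prime_five.dvd_mul.mp hd with hd | hd
    · have := (Nat.prime_dvd_prime_iff_eq Nat.prime_five hp).mp hd; omega
    · have h2 : p ^ 2 % 5 = 4 := by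
        rw [Nat.pow_mod]
        rcases (show p % 5 = 3 ∨ p % 5 = 2 by omega) with e | e <;> rw [e]
      omega

end Cfsg.Agent.S5939
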