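import Cfsg.Statements.S5940
import Cfsg.Agent.Linear.Dickson.SmallMax
import Cfsg.Agent.S0802
import Cfsg.Agent.S0803
-- import your own Cfsg.Agent.* helpers here

set_option autoImplicit false
open Cfsg Cfsg.Agent.Linear

namespace Cfsg.Agent.S5940

/-- Let p ≥ 5 be a prime with p ≡ ±3 (mod 8) and p ≢ ±1 (mod 10), and F a field with p elements. Then PSL_2(F) has a maximal subgroup isomorphic to the alternating group A_4. -/
theorem result {F : Type*} [Field F] [Fintype F] (p : ℕ) [Fact p.Prime] (hF : Fintype.card F = p) (h5 : 5 ≤ p) (h8 : p % 8 = 3 ∨ p % 8 = 5) (h10 : p % 10 ≠ 1 ∧ p % 10 ≠ 9) : ∃ H : Subgroup (Matrix.ProjectiveSpecialLinearGroup (Fin 2) F), IsCoatom H ∧ Nonempty (H ≃* alternatingGroup (Fin 4)) := by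
  have hp' := (Fact.out : p.Prime)
  have hodd : Odd (Fintype.card F) := by rw [hF, Nat.odd_iff]; omega
  obtain ⟨p', hchar⟩ := CharP.exists F
  have : Fact p'.Prime := ⟨CharP.char_is_prime F p'⟩
  obtain ⟨n, hn', hFn⟩ := FiniteField.card F p'
  obtain ⟨H, ⟨e⟩⟩ := (Cfsg.Agent.S0802.result p' n hFn).mpr (fun hc => by
    rw [hFn, hc.1] at hodd
    exact absurd hodd (Nat.not_odd_iff_even.mpr (Nat.even_pow.mpr ⟨even_two, n.ne_zero⟩)))
  have hH : Nat.card H = 12 := (Nat.card_congr e.toEquiv).trans Dickson.card_alt_four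
  have hG := Cfsg.Agent.Linear.card_PSL_two_mul (F := F)
  rw [hF, Nat.gcd_eq_left (by omega : 2 ∣ p - 1)] at hG
  have h16 : p ^ 2 % 16 = 9 := by
    rw [Nat.pow_mod]
    rcases (show p % 16 = 3 ∨ p % 16 = 5 ∨ p % 16 = 11 ∨ p % 16 = 13 by omega) with e | e | e | e <;> rw [e]
  have hno24 : ∀ M : Subgroup (Matrix.ProjectiveSpecialLinearGroup (Fin 2) F), Nat.card M ≠ 24 := by
    intro M hM
    obtain ⟨j, hj⟩ := M.card_subgroup_dvd_card
    rw [hM] at hj
    rw [hj] at hG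
    obtain ⟨i, hi⟩ : ∃ i, p ^ 2 - 1 = 16 * i + 8 := ⟨(p ^ 2 - 1) / 16, by omega⟩
    obtain ⟨k, hk⟩ : ∃ k, p = 2 * k + 1 := ⟨p / 2, by omega⟩
    rw [hi, hk, show (2 * k + 1) * (16 * i + 8) = 16 * (2 * k * i + k + i) + 8 by ring] at hG
    omega
  refine ⟨H, ⟨fun htop => ?_, fun M hM => ?_⟩, ⟨e⟩⟩
  · rw [← Subgroup.card_top (G := Matrix.ProjectiveSpecialLinearGroup (Fin 2) F), ← htop, hH] at hG
    have h1 : 5 * 24 ≤ p * (p ^ 2 - 1) :=
      Nat.mul_le_mul h5 (Nat.le_sub_one_of_lt (lt_of_lt_of_le (by norm_num) (Nat.pow_le_pow_left h5 2)))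
    omega
  · obtain ⟨hB, hT⟩ := Dickson.not_small_of_altFour hodd hM.le e.symm.toMonoidHom e.symm.injective
    have hlt : 12 < Nat.card M := hH ▸ lt_of_le_of_ne (Subgroup.card_le_of_le hM.le)
      fun e' => hM.ne (Subgroup.eq_of_le_of_card_ge hM.le e'.ge)
    rcases Dickson.shape p' M with hs | hs | ⟨⟨g⟩⟩ | ⟨⟨g⟩⟩ | ⟨⟨g⟩⟩ | hs
    · exact absurd hs hB
    · exact absurd hs hT
    · rw [(Nat.card_congr g.toEquiv).trans Dickson.card_alt_four] at hlt; omega
    · exact absurd ((Nat.card_congr g.toEquiv).trans Dickson.card_sym_four) (hno24 M)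
    · have hM60 := (Nat.card_congr g.toEquiv).trans Dickson.card_alt_five
      have hd := Dickson.dvd_of_altFive g
      rw [hF] at hd
      have hp5 : p = 5 := by
        rcases Nat.prime_five.dvd_mul.mp hd with hd | hd
        · exact ((Nat.prime_dvd_prime_iff_eq Nat.prime_five hp').mp hd).symm
        · exfalso
          have h2 : p ^ 2 % 5 = 0 ∨ p ^ 2 % 5 = 4 := by
            rw [Nat.pow_mod]
            rcases (show p % 5 = 0 ∨ p % 5 = 2 ∨ p % 5 = 3 by omega) with e | e | e <;> rw [e] <;> norm_num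
          have := Nat.one_le_pow 2 p hp'.pos
          omega
      refine Subgroup.eq_top_of_card_eq _ ?_
      rw [hp5] at hG
      norm_num at hG
      omega
    · exact hs.eq_top_of_prime_card (hF ▸ hp')

end Cfsg.Agent.S5940
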