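import Cfsg.Statements.S5945
import Cfsg.Agent.S5912
import Cfsg.Agent.S5944

set_option autoImplicit false
open Cfsg

namespace Cfsg.Agent.S5945

/-- The symmetric group S_6 has exactly 12 subgroups of index 6; each of them is isomorphic to S_5, and at least one of them is not the stabilizer of any point. -/
theorem result : Nat.card {H : Subgroup (Equiv.Perm (Fin 6)) // H.index = 6} = 12 ∧ (∀ H : Subgroup (Equiv.Perm (Fin 6)), H.index = 6 → Nonempty (H ≃* Equiv.Perm (Fin 5))) ∧ ∃ H : Subgroup (Equiv.Perm (Fin 6)), H.index = 6 ∧ ∀ a : Fin 6, H ≠ MulAction.stabilizer (Equiv.Perm (Fin 6)) a := by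
  classical
  obtain ⟨H₁, H₂, hi₁, hi₂, hnc, hall⟩ := Cfsg.Agent.S5912.result (Ω := Fin 6) (Fintype.card_fin 6)
  let c : Equiv.Perm (Fin 6) → Subgroup (Equiv.Perm (Fin 6)) → Subgroup (Equiv.Perm (Fin 6)) :=
    fun g H => H.map (MulAut.conj g).toMonoidHom
  have hindex : ∀ g H, (c g H).index = H.index := fun g H => by
    exact Subgroup.index_map_equiv H (MulAut.conj g)
  have hcomp : ∀ g h H, c g (c h H) = c (g * h) H := fun g h H => by
    simp only [c, Subgroup.map_map, map_mul]
    rfl
  have hone : ∀ H, c 1 H = H := fun H => by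
    ext x; simp [c]
  -- a subgroup of index six is self-normalizing
  have hnorm : ∀ H : Subgroup (Equiv.Perm (Fin 6)), H.index = 6 → ∀ g, c g H = H → g ∈ H := by
    intro H hH g hg
    set N := Subgroup.normalizer (H : Set (Equiv.Perm (Fin 6))) with hN
    have hgN : g ∈ N := by
      rw [hN, Subgroup.mem_normalizer_iff]
      intro x
      constructor
      · intro hx; rw [← hg]; exact ⟨x, hx, rfl⟩
      · intro hx
        rw [← hg] at hx
        obtain ⟨y, hy, he⟩ := hx
        simp only [MulEquiv.toMonoidHom_eq_coe, MonoidHom.coe_coe, MulAut.conj_apply] at he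
        rwa [← mul_left_cancel (mul_right_cancel he)]
    have hHN : H ≤ N := Subgroup.le_normalizer
    have hA : H ≠ alternatingGroup (Fin 6) := fun h => by
      rw [h, alternatingGroup.index_eq_two] at hH; omega
    have hnotNormal : ¬ H.Normal := by
      intro hn
      have hne : Nontrivial H := by
        rw [Subgroup.nontrivial_iff_ne_bot]
        intro h
        rw [h, Subgroup.index_bot, Nat.card_perm, Nat.card_fin] at hH
        simp [Nat.factorial] at hH
      have := Subgroup.index_dvd_of_le (Equiv.Perm.alternatingGroup_le_of_normal (by simp) hne)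
      rw [hH, alternatingGroup.index_eq_two] at this
      exact absurd (Nat.le_of_dvd (by norm_num) this) (by norm_num)
    by_cases hNA : N = alternatingGroup (Fin 6)
    · exfalso
      have hle : H ≤ alternatingGroup (Fin 6) := hNA ▸ hHN
      haveI hnA : (H.subgroupOf (alternatingGroup (Fin 6))).Normal := by
        rw [← hNA]
        exact Subgroup.normal_in_normalizer
      have h3 := Subgroup.relIndex_mul_index hle
      rw [hH, alternatingGroup.index_eq_two] at h3
      have h4 : (H.subgroupOf (alternatingGroup (Fin 6))).index = 3 := by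
        have : H.relIndex (alternatingGroup (Fin 6)) = 3 := by omega
        exact this
      rcases alternatingGroup.normal_subgroup_eq_bot_or_eq_top (by simp) (N := H.subgroupOf (alternatingGroup (Fin 6))) with h | h
      · rw [h, Subgroup.index_bot, nat_card_alternatingGroup] at h4
        simp [Nat.factorial] at h4
      · rw [h, Subgroup.index_top] at h4; omega
    · have hNtop : N ≠ ⊤ := fun h => hnotNormal (Subgroup.normalizer_eq_top_iff.1 h)
      have h6 := Cfsg.Agent.S5944.result 6 (by norm_num) N hNtop hNA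
      have hd := Subgroup.index_dvd_of_le hHN
      rw [hH] at hd
      have hN6 : N.index = 6 := le_antisymm (Nat.le_of_dvd (by norm_num) hd) h6
      have h3 := Subgroup.relIndex_mul_index hHN
      rw [hH, hN6] at h3
      exact Subgroup.relIndex_eq_one.1 (by omega) hgN
  have hcls : ∀ H : Subgroup (Equiv.Perm (Fin 6)), H.index = 6 → Nat.card (Set.range fun g => c g H) = 6 := by
    intro H hH
    refine Eq.trans ?_ hH
    rw [Subgroup.index]
    have hwell : ∀ a b : Equiv.Perm (Fin 6), a⁻¹ * b ∈ H → c a H = c b H := by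
      intro a b hab
      have h1 : c (a⁻¹ * b) H = H := by
        ext x
        constructor
        · rintro ⟨y, hy, rfl⟩
          exact H.mul_mem (H.mul_mem hab hy) (H.inv_mem hab)
        · intro hx
          refine ⟨(a⁻¹ * b)⁻¹ * x * (a⁻¹ * b), H.mul_mem (H.mul_mem (H.inv_mem hab) hx) hab, ?_⟩
          simp only [MulEquiv.toMonoidHom_eq_coe, MonoidHom.coe_coe, MulAut.conj_apply]
          group
      conv_lhs => rw [← h1]
      rw [hcomp, mul_inv_cancel_left]
    refine (Nat.card_eq_of_bijective
      (fun x : Equiv.Perm (Fin 6) ⧸ H => Quotient.liftOn' x (fun g => (⟨c g H, g, rfl⟩ : Set.range fun g => c g H))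
        (fun a b h => Subtype.ext (hwell a b (QuotientGroup.leftRel_apply.1 h)))) ⟨?_, ?_⟩).symm
    · intro x y hxy
      induction x using QuotientGroup.induction_on with | _ a => ?_
      induction y using QuotientGroup.induction_on with | _ b => ?_
      have h : c a H = c b H := congrArg Subtype.val hxy
      rw [QuotientGroup.eq]
      apply hnorm H hH
      rw [← hcomp, ← h, hcomp, inv_mul_cancel, hone]
    · rintro ⟨_, g, rfl⟩
      exact ⟨QuotientGroup.mk g, rfl⟩
  refine ⟨?_, ?_, ?_⟩
  · have hset : {H : Subgroup (Equiv.Perm (Fin 6)) | H.index = 6} =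
        (Set.range fun g => c g H₁) ∪ (Set.range fun g => c g H₂) := by
      ext H
      constructor
      · intro hH
        obtain ⟨g, h | h⟩ := hall H hH
        · exact Or.inl ⟨g, h⟩
        · exact Or.inr ⟨g, h⟩
      · rintro (⟨g, rfl⟩ | ⟨g, rfl⟩)
        · exact (hindex g H₁).trans hi₁
        · exact (hindex g H₂).trans hi₂
    show Nat.card ↥{H : Subgroup (Equiv.Perm (Fin 6)) | H.index = 6} = 12
    rw [hset, Nat.card_coe_set_eq, Set.ncard_union_eq ?_ (Set.toFinite _) (Set.toFinite _), ← Nat.card_coe_set_eq,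
      ← Nat.card_coe_set_eq, hcls H₁ hi₁, hcls H₂ hi₂]
    rw [Set.disjoint_left]
    rintro _ ⟨g, rfl⟩ ⟨h, hh⟩
    apply hnc
    refine ⟨h⁻¹ * g, ?_⟩
    show c (h⁻¹ * g) H₁ = H₂
    dsimp only at hh
    rw [← hcomp, ← hh, hcomp, inv_mul_cancel, hone]
  · intro H hH
    obtain ⟨ψ, q, hq⟩ := Cfsg.Agent.H98.exists_coset_iso H (by rw [Fintype.card_fin]; exact hH) (by simp)
    have hcard : Fintype.card {x : Equiv.Perm (Fin 6) ⧸ H // x ≠ q} = 5 := by
      rw [Fintype.card_subtype_compl, Fintype.card_subtype_eq, ← Nat.card_eq_fintype_card, ← Subgroup.index_eq_card, hH]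
    let φ : Equiv.Perm {x : Equiv.Perm (Fin 6) ⧸ H // x ≠ q} →* Equiv.Perm (Fin 6) :=
      ψ.symm.toMonoidHom.comp Equiv.Perm.ofSubtype
    have hφ : Function.Injective φ := ψ.symm.injective.comp Equiv.Perm.ofSubtype_injective
    have hrange : φ.range = H := by
      ext g
      rw [hq]
      constructor
      · rintro ⟨π, rfl⟩
        simp only [φ, MonoidHom.comp_apply, MulEquiv.coe_toMonoidHom, MulEquiv.apply_symm_apply]
        exact Equiv.Perm.ofSubtype_apply_of_not_mem π (by simp)
      · intro hg
        refine ⟨(ψ g).subtypePerm (fun x => ?_), ?_⟩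
        · exact not_congr ⟨fun h => (ψ g).injective (h.trans hg.symm), fun h => by rw [h]; exact hg⟩
        · simp only [φ, MonoidHom.comp_apply, MulEquiv.coe_toMonoidHom]
          rw [MulEquiv.symm_apply_eq]
          exact Equiv.Perm.ofSubtype_subtypePerm (p := fun x => x ≠ q) _ (fun x hx => fun h => hx (by rw [h]; exact hg))
    exact ⟨((MulEquiv.subgroupCongr hrange.symm).trans (MonoidHom.ofInjective hφ).symm).trans
      (Equiv.permCongrHom (Fintype.equivFinOfCardEq hcard))⟩
  · by_contra hno
    push Not at hno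
    obtain ⟨a, ha⟩ := hno H₁ hi₁
    obtain ⟨b, hb⟩ := hno H₂ hi₂
    obtain ⟨g, hg⟩ := MulAction.exists_smul_eq (Equiv.Perm (Fin 6)) a b
    exact hnc ⟨g, by rw [ha, hb, ← hg, MulAction.stabilizer_smul_eq_stabilizer_map_conj]⟩

end Cfsg.Agent.S5945
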