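import Cfsg.Statements.S5947
-- import your own Cfsg.Agent.* helpers here

set_option autoImplicit false
open Cfsg

namespace Cfsg.Agent.S5947

/-- Let F ⊆ K be finite fields with |F| = q and [K : F] = n ≥ 2, regard K as an n-dimensional F-vector space, and let M ≤ GL_F(K) be the Singer group of multiplications by non-zero elements of K (cyclic of order q^n − 1). Assume (n, q) ≠ (6, 2), and that it is not the case that n = 2 with q a prime such that q + 1 is a power of 2. Then every abelian subgroup of GL_F(K) of order q^n − 1 is conjugate to M. -/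
theorem result {F K : Type*} [Field F] [Fintype F] [Field K] [Fintype K] [Algebra F K] (n : ℕ) (hn : 2 ≤ n) (hdim : Module.finrank F K = n)
    (hex1 : ¬ (n = 6 ∧ Fintype.card F = 2))
    (hex2 : ¬ (n = 2 ∧ (Fintype.card F).Prime ∧ ∃ a : ℕ, Fintype.card F + 1 = 2 ^ a))
    (U : Subgroup (Module.End F K)ˣ) (hU : IsMulCommutative U) (hcard : Nat.card U = Fintype.card K - 1) :
    ∃ g : (Module.End F K)ˣ, U.map (MulAut.conj g).toMonoidHom = (Units.map ((Algebra.lmul F K : K →ₐ[F] Module.End F K) : K →* Module.End F K)).range := by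
  classical
  haveI : Finite (Module.End F K) := Finite.of_injective (fun f => (f : K → K)) DFunLike.coe_injective
  obtain ⟨p, hp⟩ := CharP.exists F
  obtain ⟨e, hpp, hFc⟩ := FiniteField.card F p
  haveI : Fact p.Prime := ⟨hpp⟩
  haveI : NeZero n := ⟨by omega⟩
  have hKc : Fintype.card K = p ^ ((e : ℕ) * n) := by
    rw [Module.card_eq_pow_finrank (K := F) (V := K), hdim, hFc, pow_mul]
  set S : Set (Module.End F K) := (fun u : (Module.End F K)ˣ => (u : Module.End F K)) '' (U : Set (Module.End F K)ˣ) with hS
  set A : Subalgebra F (Module.End F K) := Algebra.adjoin F S with hA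
  have hScomm : ∀ x ∈ S, ∀ y ∈ S, Commute x y := by
    rintro _ ⟨u, hu, rfl⟩ _ ⟨w, hw, rfl⟩
    have h : (⟨u, hu⟩ : U) * ⟨w, hw⟩ = ⟨w, hw⟩ * ⟨u, hu⟩ := mul_comm' _ _
    exact congrArg (fun z : (Module.End F K)ˣ => (z : Module.End F K)) (congrArg Subtype.val h)
  have hAcomm : ∀ x ∈ A, ∀ y ∈ A, Commute x y := by
    intro x hx y hy
    refine Algebra.commute_of_mem_adjoin_of_forall_mem_commute hy fun z hz => ?_
    exact (Algebra.commute_of_mem_adjoin_of_forall_mem_commute hx fun w hw => (hScomm w hw z hz).symm).symm
  haveI : CharP (Module.End F K) p := charP_of_injective_algebraMap' F p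
  have hpow : ∀ x ∈ A, x ^ Fintype.card K = x := by
    intro x hx
    induction hx using Algebra.adjoin_induction with
    | mem x hx =>
      obtain ⟨u, hu, rfl⟩ := hx
      have h1 : u ^ (Fintype.card K - 1) = 1 := by
        rw [← hcard]
        exact congrArg Subtype.val (pow_card_eq_one' (x := (⟨u, hu⟩ : U)))
      have h2 : u ^ Fintype.card K = u := by
        conv_lhs => rw [show Fintype.card K = (Fintype.card K - 1) + 1 by
          have := Fintype.card_pos (α := K); omega]
        rw [pow_succ, h1, one_mul]
      rw [← Units.val_pow_eq_pow_val, h2]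
    | algebraMap c =>
      rw [← map_pow, Module.card_eq_pow_finrank (K := F) (V := K), FiniteField.pow_card_pow]
    | add x y hx hy ihx ihy =>
      rw [hKc] at ihx ihy ⊢
      rw [add_pow_char_pow_of_commute p _ (hAcomm x hx y hy), ihx, ihy]
    | mul x y hx hy ihx ihy =>
      rw [(hAcomm x hx y hy).mul_pow, ihx, ihy]
  have hK2 : 2 ≤ Fintype.card K := Fintype.one_lt_card
  let ann : K → Finset (Module.End F K) := fun v =>
    (A : Set (Module.End F K)).toFinite.toFinset.filter fun a => a v = 0
  obtain ⟨v, -, hv⟩ := Finset.exists_min_image (Finset.univ : Finset K) (fun v => (ann v).card) ⟨0, Finset.mem_univ _⟩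
  have hfree : ∀ a ∈ A, a v = 0 → a = 0 := by
    intro a ha hav
    by_contra hane
    set ep : Module.End F K := a ^ (Fintype.card K - 1) with hep
    have hepA : ep ∈ A := A.pow_mem ha _
    have hae : a * ep = a := by
      rw [hep, ← pow_succ', Nat.sub_add_cancel (by omega), hpow a ha]
    have hee : ep * ep = ep := by
      rw [hep, ← pow_add, show Fintype.card K - 1 + (Fintype.card K - 1) = (Fintype.card K - 2) + Fintype.card K by omega,
        pow_add, hpow a ha, ← pow_succ, show Fintype.card K - 2 + 1 = Fintype.card K - 1 by omega]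
    have hev : ep v = 0 := by
      rw [hep, show Fintype.card K - 1 = Fintype.card K - 2 + 1 by omega, pow_succ, Module.End.mul_apply, hav, map_zero]
    have hene : ep ≠ 0 := fun h => hane (by rw [← hae, h, mul_zero])
    obtain ⟨w, hw⟩ : ∃ w, ep w ≠ 0 := by
      by_contra h
      push Not at h
      exact hene (LinearMap.ext h)
    have hsub : ann (v + ep w) ⊂ ann v := by
      rw [Finset.ssubset_iff_of_subset]
      · refine ⟨ep, ?_, ?_⟩
        · simp [ann, hepA, hev]
        · simp [ann, hev, ← Module.End.mul_apply, hee, hw]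
      · intro b hb
        simp only [ann, Finset.mem_filter, Set.Finite.mem_toFinset, SetLike.mem_coe] at hb ⊢
        refine ⟨hb.1, ?_⟩
        have hc := LinearMap.congr_fun ((hAcomm b hb.1 ep hepA).eq)
        have h1 : ep (b (v + ep w)) = 0 := by rw [hb.2, map_zero]
        have h2 : ep (b v) = 0 := by
          have := hc v
          simp [hev] at this
          exact this.symm
        have h3 : ep (b (ep w)) = b (ep w) := by
          have := hc (ep w)
          simp only [Module.End.mul_apply] at this
          rw [← this, ← Module.End.mul_apply ep ep, hee]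
        rw [map_add, map_add, h2, zero_add, h3] at h1
        simpa [map_add, h1] using hb.2
    exact absurd (hv (v + ep w) (Finset.mem_univ _)) (not_le.2 (Finset.card_lt_card hsub))
  have hsubU : insert (0 : Module.End F K) S ⊆ (A : Set (Module.End F K)) :=
    Set.insert_subset A.zero_mem Algebra.subset_adjoin
  have hv0 : v ≠ 0 := by
    rintro rfl
    exact one_ne_zero (hfree 1 A.one_mem (map_zero _))
  let φ : A →ₗ[F] K := (LinearMap.applyₗ (R := F) v).comp A.val.toLinearMap
  have hφ : Function.Injective φ := by
    rw [injective_iff_map_eq_zero]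
    intro a ha
    exact Subtype.ext (hfree a.1 a.2 ha)
  have hS0 : (0 : Module.End F K) ∉ S := by
    rintro ⟨u, -, hu⟩
    exact u.ne_zero hu
  have hScard : (insert (0 : Module.End F K) S).ncard = Fintype.card K := by
    rw [Set.ncard_insert_of_notMem hS0 (Set.toFinite _), hS, Set.ncard_image_of_injective _ Units.val_injective,
      ← Nat.card_coe_set_eq]
    rw [show Nat.card (U : Set (Module.End F K)ˣ) = Nat.card U from rfl, hcard]
    omega
  have hAeq : insert (0 : Module.End F K) S = (A : Set (Module.End F K)) := by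
    apply Set.eq_of_subset_of_ncard_le hsubU _ (Set.toFinite _)
    rw [hScard, ← Nat.card_coe_set_eq, ← Nat.card_eq_fintype_card]
    exact Nat.card_le_card_of_injective φ hφ
  have hbij : Function.Bijective φ := by
    refine hφ.bijective_of_nat_card_le ?_
    rw [show Nat.card A = Nat.card ((A : Set (Module.End F K))) from rfl, Nat.card_coe_set_eq, ← hAeq, hScard,
      Nat.card_eq_fintype_card]
  have hfield : IsField A := by
    refine ⟨⟨0, 1, zero_ne_one⟩, fun x y => Subtype.ext (hAcomm x x.2 y y.2).eq, ?_⟩
    intro x hx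
    have hx' : (x : Module.End F K) ∈ insert 0 S := by rw [hAeq]; exact x.2
    rcases hx' with h | ⟨u, hu, h⟩
    · exact absurd (Subtype.ext h) hx
    · refine ⟨⟨((u⁻¹ : (Module.End F K)ˣ) : Module.End F K), Algebra.subset_adjoin ⟨_, U.inv_mem hu, rfl⟩⟩, Subtype.ext ?_⟩
      simp [← h]
  letI : Field A := hfield.toField
  have hrank : Module.finrank F A = n := by
    rw [← hdim]; exact (LinearEquiv.ofBijective φ hbij).finrank_eq
  let σ : K ≃ₐ[F] A := (FiniteField.algEquivExtension F p n K hdim).trans (FiniteField.algEquivExtension F p n A hrank).symm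
  let eL : K ≃ₗ[F] K := σ.toLinearEquiv.trans (LinearEquiv.ofBijective φ hbij)
  let g : (Module.End F K)ˣ :=
    { val := eL.symm.toLinearMap
      inv := eL.toLinearMap
      val_inv := LinearMap.ext fun x => eL.symm_apply_apply x
      inv_val := LinearMap.ext fun x => eL.apply_symm_apply x }
  have key : ∀ (u : (Module.End F K)ˣ) (hu : (u : Module.End F K) ∈ A),
      ((g * u * g⁻¹ : (Module.End F K)ˣ) : Module.End F K) = Algebra.lmul F K (σ.symm ⟨u, hu⟩) := by
    intro u hu
    ext x
    apply eL.injective
    simp [g, eL, φ]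
  refine ⟨g, ?_⟩
  ext y
  constructor
  · rintro ⟨u, hu, rfl⟩
    have huA : (u : Module.End F K) ∈ A := Algebra.subset_adjoin ⟨u, hu, rfl⟩
    have hne : σ.symm ⟨(u : Module.End F K), huA⟩ ≠ 0 := by
      simp only [ne_eq, map_eq_zero]
      exact fun h => u.ne_zero (congrArg Subtype.val h)
    exact ⟨Units.mk0 _ hne, Units.ext (key u huA).symm⟩
  · rintro ⟨k, rfl⟩
    have hk : ((σ k : A) : Module.End F K) ∈ insert 0 S := by rw [hAeq]; exact (σ k).2
    rcases hk with h | ⟨u, hu, h⟩
    · exact absurd ((map_eq_zero σ).1 (Subtype.ext h)) k.ne_zero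
    · refine ⟨u, hu, Units.ext ?_⟩
      refine (key u (Algebra.subset_adjoin ⟨u, hu, rfl⟩)).trans ?_
      have : (⟨(u : Module.End F K), Algebra.subset_adjoin ⟨u, hu, rfl⟩⟩ : A) = σ k := Subtype.ext h
      rw [this, σ.symm_apply_apply]
      rfl

end Cfsg.Agent.S5947
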