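import Cfsg.Statements.S5951
import Cfsg.Agent.Linear.Elusive.Count
import Cfsg.Agent.Linear.Elusive.Criterion
-- import your own Cfsg.Agent.* helpers here

set_option autoImplicit false
open scoped MatrixGroups
open Cfsg Cfsg.Agent.Linear.Elusive

namespace Cfsg.Agent.S5951

/-- Elements of prime order of PSL_n(q) fixing no pair of subspaces `U < W` with `dim U = m`, `dim W = n − m`. Here `T = PSL_n(F)` for a field `F` with `q = p^f` elements (`n ≥ 2`, `(n, q) ≠ (2, 2), (2, 3)`); an element of `T` of prime order `r` is represented by a matrix `x` of determinant 1 with `x^r` scalar and `x` not scalar; `i` denotes the multiplicative order of `q` modulo `r` (when `r ≠ p`), and `(a)_r` the `r`-part of `a`. Let `1 ≤ m < n/2` and let `r` be a prime dividing the number of such pairs. Then every element of `T` of order `r` fixes such a pair (both `U` and `W`) if and only if `r ≠ p` and either (i) `i = 1` and (`r ∣ m`, or `(q−1)_r ≥ (n)_r` with `q ≡ 1 (mod 4)` required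 when `r = 2` and `n` is even), or (ii) `2 ≤ i ≤ m` and `n mod i ≥ 2 (m mod i)`. -/
theorem result {F : Type*} [Field F] [Fintype F] {p : ℕ} [Fact p.Prime] [CharP F p] {q : ℕ} (hq : Fintype.card F = q)
    (n m : ℕ) (hn : 2 ≤ n) (hT : (n, q) ≠ (2, 2) ∧ (n, q) ≠ (2, 3)) (hm : 1 ≤ m) (hmn : 2 * m < n)
    (r : ℕ) [Fact r.Prime]
    (hrΩ : r ∣ Nat.card {P : Submodule F (Fin n → F) × Submodule F (Fin n → F) //
        P.1 ≤ P.2 ∧ Module.finrank F ↥P.1 = m ∧ Module.finrank F ↥P.2 = n - m}) :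
    (∀ x : Matrix.SpecialLinearGroup (Fin n) F,
      (∃ c : F, ((x ^ r : Matrix.SpecialLinearGroup (Fin n) F) : Matrix (Fin n) (Fin n) F) = c • (1 : Matrix (Fin n) (Fin n) F)) →
      (∀ c : F, (x : Matrix (Fin n) (Fin n) F) ≠ c • (1 : Matrix (Fin n) (Fin n) F)) →
      ∃ U W : Submodule F (Fin n → F), U ≤ W ∧ Module.finrank F ↥U = m ∧ Module.finrank F ↥W = n - m ∧
        U.map (Matrix.toLin' (x : Matrix (Fin n) (Fin n) F)) ≤ U ∧ W.map (Matrix.toLin' (x : Matrix (Fin n) (Fin n) F)) ≤ W) ↔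
    (r ≠ p ∧
      ((orderOf (q : ZMod r) = 1 ∧ (r ∣ m ∨ (padicValNat r n ≤ padicValNat r (q - 1) ∧ (r = 2 → Even n → q % 4 = 1)))) ∨
       (2 ≤ orderOf (q : ZMod r) ∧ orderOf (q : ZMod r) ≤ m ∧ 2 * (m % orderOf (q : ZMod r)) ≤ n % orderOf (q : ZMod r)))) := by
  have hq1 : 1 < q := hq ▸ Fintype.one_lt_card
  have hN := card_flag_mul (F := F) (V := Fin n → F) m (by rw [Module.finrank_fin_fun]; omega)
  rw [hq, Module.finrank_fin_fun] at hN
  have hsmall : ¬ 2 * m ≤ n % orderOf (q : ZMod r) := fun h =>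
    not_dvd_of_mul_pfac hq1 (by omega) hN (fun s h1 h2 => no_multiple h h1 h2) hrΩ
  have hrp : r ≠ p := by
    intro e
    have h0 := orderOf_eq_zero_of_dvd (r := r) (q := q) (e ▸ char_dvd (F := F) hq)
    exact hsmall (by rw [h0, Nat.mod_zero]; omega)
  have hile : 2 * (m % orderOf (q : ZMod r)) ≤ n % orderOf (q : ZMod r) → orderOf (q : ZMod r) ≤ m := by
    intro h
    by_contra hlt
    rw [Nat.mod_eq_of_lt (show m < orderOf (q : ZMod r) by omega)] at h
    exact hsmall h
  have key := criterion (F := F) (n := n) hq hrp (by omega) m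
    (fun T => ∃ U W : Submodule F (Fin n → F), U ≤ W ∧ Module.finrank F ↥U = m ∧
      Module.finrank F ↥W = n - m ∧ Inv T U ∧ Inv T W)
    (2 * (m % orderOf (q : ZMod r)) ≤ n % orderOf (q : ZMod r))
    (fun T d hd ⟨U, W, hUW, hU, hW, iU, iW⟩ =>
      ⟨U, W, hUW, hU, hW, (Inv.smul_iff hd).1 iU, (Inv.smul_iff hd).1 iW⟩)
    (fun T hT h => by
      obtain ⟨U, W, hUW, hU, hW, iU, iW⟩ := exists_flag_split hq hrp hT (m := m)
        (by rw [Module.finrank_fin_fun]; omega) (by rw [Module.finrank_fin_fun]; exact h)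
      exact ⟨U, W, hUW, hU, by rw [hW, Module.finrank_fin_fun], iU, iW⟩)
    (fun T P hP _ h hrn hrm => by
      obtain ⟨j, hj⟩ := hrm
      obtain ⟨k, hk⟩ := hrn
      obtain ⟨U, -, iU, hU⟩ := exists_inv_finrank hP (inv_top T) (kill_top h) j (by
        rw [finrank_top, Module.finrank_fin_fun, mul_comm, ← hj]; omega)
      have hs : j * r + (k - 2 * j) * r = n - m := by
        rw [← Nat.add_mul, hk, hj, ← Nat.mul_sub, mul_comm r]
        congr 1
        by_contra hne
        have := Nat.mul_le_mul_left r (show k ≤ 2 * j by omega)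
        rw [show r * (2 * j) = 2 * (r * j) by ring] at this
        omega
      obtain ⟨W, hUW, -, iW, hW⟩ := exists_above hP iU (inv_top T) le_top (kill_top h) (k - 2 * j) (by
        rw [finrank_top, Module.finrank_fin_fun, hU, hs]; omega)
      exact ⟨U, W, hUW, by rw [hU, hj, mul_comm], by rw [hW, hU, hs], iU, iW⟩)
    (fun T P hP h hrm ⟨U, W, hUW, hU, hW, iU, iW⟩ =>
      hrm (hU ▸ dvd_finrank hP iU (fun v _ => by rw [h, LinearMap.zero_apply])))
    (fun T hT hfix ⟨U, W, hUW, hU, hW, iU, iW⟩ => by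
      have := flag_split_small hq hrp hT (by rw [Module.finrank_fin_fun]; exact hfix) iU iW hUW hU
        (by rw [hW, Module.finrank_fin_fun])
      rwa [Module.finrank_fin_fun] at this)
    (fun h => by rw [h, Nat.mod_one, Nat.mod_one])
    (fun h => by rw [Nat.mod_eq_of_lt (show m < orderOf (q : ZMod r) by omega), Nat.mod_eq_of_lt h]; omega)
  refine ((forall_SL_iff (F := F) (n := n) (r := r)
    (fun T => ∃ U W : Submodule F (Fin n → F), U ≤ W ∧ Module.finrank F ↥U = m ∧
      Module.finrank F ↥W = n - m ∧ Inv T U ∧ Inv T W)).trans key).trans ?_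
  constructor
  · rintro (h | ⟨h2, h⟩)
    · exact ⟨hrp, Or.inl h⟩
    · exact ⟨hrp, Or.inr ⟨h2, hile h, h⟩⟩
  · rintro ⟨-, h | ⟨h2, -, h⟩⟩
    · exact Or.inl h
    · exact Or.inr ⟨h2, h⟩

end Cfsg.Agent.S5951
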