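import Cfsg.Statements.S5952
-- import your own Cfsg.Agent.* helpers here

set_option autoImplicit false
open Cfsg

namespace Cfsg.Agent.S5952

/-- Which dimensions of invariant subspaces a semisimple linear map has. Let `V` be a finite-dimensional vector space over a field `F` and `f` an invertible semisimple linear map of `V`. Suppose `V` is the internal direct sum of the fixed space `C_V(f)` (the eigenspace for 1) and subspaces `U_1, …, U_s`, each `f`-invariant of dimension `a ≥ 1` on which `f` acts irreducibly (no `f`-invariant subspaces other than 0 and `U_j`). Let `0 < m < dim V` and `ℓ = m mod a`. Then `f` leaves some `m`-dimensional subspace invariant if and only if `dim C_V(f) ≥ m`, or `a ≤ m` and `dim C_V(f) ≥ ℓ`. -/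
theorem result {F V : Type*} [Field F] [AddCommGroup V] [Module F V]
    [FiniteDimensional F V] (f : V →ₗ[F] V) (hf : Function.Bijective f) (hss : Module.End.IsSemisimple f)
    {s a : ℕ} (ha : 1 ≤ a) (U : Fin s → Submodule F V)
    (hUinv : ∀ j, (U j).map f ≤ U j) (hUdim : ∀ j, Module.finrank F ↥(U j) = a)
    (hUirr : ∀ j, ∀ W : Submodule F V, W ≤ U j → W.map f ≤ W → W = ⊥ ∨ W = U j)
    (hdec : DirectSum.IsInternal (fun o : Option (Fin s) => o.elim (Module.End.eigenspace f 1) U))
    (m : ℕ) (hm : 0 < m) (hmV : m < Module.finrank F V) :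
    (∃ W : Submodule F V, Module.finrank F ↥W = m ∧ W.map f ≤ W) ↔
    (m ≤ Module.finrank F ↥(Module.End.eigenspace f 1) ∨
      (a ≤ m ∧ m % a ≤ Module.finrank F ↥(Module.End.eigenspace f 1))) := by
  classical
  set C := Module.End.eigenspace f 1 with hC
  set A : Option (Fin s) → Submodule F V := fun o => o.elim C U with hA
  have hind : iSupIndep A := hdec.submodule_iSupIndep
  have htop : iSup A = ⊤ := hdec.submodule_iSup_eq_top
  let SJ : Finset (Fin s) → Submodule F V := fun J => J.sup U
  let S : Submodule F V := SJ Finset.univ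
  have hSJ : ∀ J j, j ∉ J → Disjoint (U j) (SJ J) := by
    intro J j hj
    refine (hind (some j)).mono_right (Finset.sup_le fun i hi => ?_)
    refine le_trans ?_ (le_iSup₂ (f := fun o (_ : o ≠ some j) => A o) (some i) ?_)
    · exact le_rfl
    · intro h; exact hj (Option.some_injective _ h ▸ hi)
  have hCS : ∀ J, Disjoint C (SJ J) := by
    intro J
    refine (hind none).mono_right (Finset.sup_le fun i hi => ?_)
    exact le_trans le_rfl (le_iSup₂ (f := fun o (_ : o ≠ none) => A o) (some i) (by simp))
  have hCStop : C ⊔ S = ⊤ := by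
    rw [eq_top_iff, ← htop]
    refine iSup_le fun o => ?_
    cases o with
    | none => exact le_sup_left
    | some i => exact le_trans (Finset.le_sup (f := U) (Finset.mem_univ i)) le_sup_right
  have hdimJ : ∀ J : Finset (Fin s), Module.finrank F (SJ J) = J.card * a := by
    intro J
    induction J using Finset.induction_on with
    | empty => simp [SJ]
    | insert j J hj ih =>
      have hs : SJ (insert j J) = U j ⊔ SJ J := Finset.sup_insert
      have h := Submodule.finrank_sup_add_finrank_inf_eq (U j) (SJ J)
      rw [disjoint_iff.1 (hSJ J j hj), finrank_bot, add_zero, hUdim, ih, ← hs] at h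
      rw [h, Finset.card_insert_of_notMem hj]; ring
  have hfC : ∀ v ∈ C, f v = v := by
    intro v hv
    rw [hC, Module.End.mem_eigenspace_iff, one_smul] at hv
    exact hv
  have hinvJ : ∀ J, (SJ J).map f ≤ SJ J := by
    intro J
    induction J using Finset.induction_on with
    | empty => simp [SJ]
    | insert j J hj ih =>
      have hs : SJ (insert j J) = U j ⊔ SJ J := Finset.sup_insert
      rw [hs, Submodule.map_sup]
      exact sup_le_sup (hUinv j) ih
  have hn : Module.finrank F V = Module.finrank F C + s * a := by
    have h := Submodule.finrank_sup_add_finrank_inf_eq C S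
    rw [disjoint_iff.1 (hCS _), hCStop, finrank_top, finrank_bot, add_zero, hdimJ, Finset.card_fin] at h
    exact h
  constructor
  · rintro ⟨W, hWm, hWinv⟩
    have hmul : ∀ J, a ∣ Module.finrank F ↥(W ⊓ SJ J) := by
      intro J
      induction J using Finset.induction_on with
      | empty =>
        have h0 : W ⊓ SJ ∅ = ⊥ := by simp [SJ]
        rw [h0, finrank_bot]
        exact dvd_zero a
      | insert j J hj ih =>
        have hs : SJ (insert j J) = U j ⊔ SJ J := Finset.sup_insert
        set M := W ⊓ SJ (insert j J) with hM
        set X := (M ⊔ SJ J) ⊓ U j with hX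
        have hMinv : M.map f ≤ M :=
          le_inf ((Submodule.map_mono inf_le_left).trans hWinv) ((Submodule.map_mono inf_le_right).trans (hinvJ _))
        have hXinv : X.map f ≤ X := by
          refine le_inf ((Submodule.map_mono inf_le_left).trans ?_) ((Submodule.map_mono inf_le_right).trans (hUinv j))
          rw [Submodule.map_sup]
          exact sup_le_sup hMinv (hinvJ J)
        have hle : M ⊔ SJ J ≤ U j ⊔ SJ J := sup_le (hs ▸ inf_le_right) le_sup_right
        have hsplit : M ⊔ SJ J = X ⊔ SJ J := by
          apply le_antisymm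
          · intro v hv
            obtain ⟨u, hu, w, hw, rfl⟩ := Submodule.mem_sup.1 (hle hv)
            exact Submodule.add_mem_sup ⟨by simpa using Submodule.sub_mem _ hv (Submodule.mem_sup_right hw), hu⟩ hw
          · exact sup_le inf_le_left le_sup_right
        have h1 := Submodule.finrank_sup_add_finrank_inf_eq M (SJ J)
        have hinf : M ⊓ SJ J = W ⊓ SJ J := by
          rw [hM, inf_assoc, inf_eq_right.2 (hs ▸ le_sup_right : SJ J ≤ SJ (insert j J))]
        have h2 := Submodule.finrank_sup_add_finrank_inf_eq X (SJ J)
        have hdis : Disjoint X (SJ J) := (hSJ J j hj).mono_left inf_le_right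
        rw [disjoint_iff.1 hdis, finrank_bot, add_zero, ← hsplit] at h2
        rw [hinf, h2] at h1
        have hXa : a ∣ Module.finrank F X := by
          rcases hUirr j X inf_le_right hXinv with h | h
          · rw [h, finrank_bot]; exact dvd_zero a
          · rw [h, hUdim]
        have h3 : Module.finrank F ↥M = Module.finrank F X + Module.finrank F ↥(W ⊓ SJ J) := by omega
        rw [h3]
        exact dvd_add hXa ih
    have hg : ∀ v, f v - v ∈ S := by
      intro v
      have hv : v ∈ C ⊔ S := by rw [hCStop]; exact Submodule.mem_top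
      obtain ⟨c, hc, u, hu, rfl⟩ := Submodule.mem_sup.1 hv
      rw [map_add, hfC c hc, add_sub_add_left_eq_sub]
      exact S.sub_mem (hinvJ _ (Submodule.mem_map_of_mem hu)) hu
    have h1 := LinearMap.finrank_range_add_finrank_ker ((f - LinearMap.id).domRestrict W)
    have hker : Module.finrank F ↥(LinearMap.ker ((f - LinearMap.id).domRestrict W)) ≤ Module.finrank F ↥(W ⊓ C) := by
      refine LinearMap.finrank_le_finrank_of_injective
        (f := ({ toFun := fun x => ⟨(x.1 : V), x.1.2, by
                   have h := x.2
                   simp only [LinearMap.mem_ker, LinearMap.domRestrict_apply, LinearMap.sub_apply, LinearMap.id_apply] at h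
                   rw [hC]
                   exact Module.End.mem_eigenspace_iff.2 (by rw [one_smul]; exact sub_eq_zero.1 h)⟩
                 map_add' := fun _ _ => rfl
                 map_smul' := fun _ _ => rfl } : _ →ₗ[F] ↥(W ⊓ C)))
        (fun x y h => Subtype.ext (Subtype.ext (congrArg (fun z : ↥(W ⊓ C) => (z : V)) h)))
    have hrange : Module.finrank F ↥(LinearMap.range ((f - LinearMap.id).domRestrict W)) ≤ Module.finrank F ↥(W ⊓ S) := by
      apply Submodule.finrank_mono
      rintro _ ⟨⟨v, hv⟩, rfl⟩
      exact ⟨W.sub_mem (hWinv (Submodule.mem_map_of_mem hv)) hv, hg v⟩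
    have h2 := Submodule.finrank_sup_add_finrank_inf_eq (W ⊓ C) (W ⊓ S)
    have hd : Disjoint (W ⊓ C) (W ⊓ S) := (hCS _).mono inf_le_right inf_le_right
    rw [disjoint_iff.1 hd, finrank_bot, add_zero] at h2
    have h3 : Module.finrank F ↥((W ⊓ C) ⊔ (W ⊓ S)) ≤ m :=
      hWm ▸ Submodule.finrank_mono (sup_le inf_le_left inf_le_left)
    obtain ⟨k, hk⟩ := hmul Finset.univ
    have hek : m = Module.finrank F ↥(W ⊓ C) + a * k := by
      show m = _
      have : Module.finrank F ↥(W ⊓ S) = a * k := hk
      omega
    have he : Module.finrank F ↥(W ⊓ C) ≤ Module.finrank F C := Submodule.finrank_mono inf_le_right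
    rcases Nat.eq_zero_or_pos k with rfl | hk0
    · left
      rw [hek, Nat.mul_zero, add_zero]; exact he
    · right
      refine ⟨?_, ?_⟩
      · have := Nat.le_mul_of_pos_right a hk0; omega
      · rw [hek, Nat.add_mul_mod_self_left]
        exact (Nat.mod_le _ _).trans he
  · intro h
    have hsub : ∀ e : ℕ, e ≤ Module.finrank F C → ∀ k : ℕ, k ≤ s →
        ∃ W : Submodule F V, Module.finrank F ↥W = e + k * a ∧ W.map f ≤ W := by
      intro e he k hk
      obtain ⟨E, hEC, hEe⟩ : ∃ E : Submodule F V, E ≤ C ∧ Module.finrank F E = e := by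
        let b := Module.finBasis F C
        let v : Fin e → V := fun i => (b (Fin.castLE he i) : V)
        have hv : LinearIndependent F v :=
          (b.linearIndependent.map' C.subtype (Submodule.ker_subtype C)).comp _ (Fin.castLE_injective he)
        exact ⟨Submodule.span F (Set.range v), Submodule.span_le.2 (by rintro _ ⟨i, rfl⟩; exact (b _).2),
          by rw [finrank_span_eq_card hv, Fintype.card_fin]⟩
      obtain ⟨J, -, hJ⟩ := Finset.exists_subset_card_eq (s := (Finset.univ : Finset (Fin s))) (n := k) (by simpa using hk)
      refine ⟨E ⊔ SJ J, ?_, ?_⟩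
      · have h := Submodule.finrank_sup_add_finrank_inf_eq E (SJ J)
        rw [disjoint_iff.1 ((hCS J).mono_left hEC), finrank_bot, add_zero, hEe, hdimJ, hJ] at h
        exact h
      · rw [Submodule.map_sup]
        refine sup_le_sup ?_ (hinvJ J)
        rintro _ ⟨v, hv, rfl⟩
        rw [hfC v (hEC hv)]; exact hv
    rcases h with h | ⟨ham, h⟩
    · obtain ⟨W, h1, h2⟩ := hsub m h 0 (Nat.zero_le _)
      exact ⟨W, by simpa using h1, h2⟩
    · have hm' := Nat.div_add_mod m a
      rcases le_total (m / a) s with hle | hle
      · obtain ⟨W, h1, h2⟩ := hsub (m % a) h (m / a) hle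
        exact ⟨W, by rw [h1, mul_comm]; omega, h2⟩
      · have h5 : s * a ≤ m := le_trans (Nat.mul_le_mul_right a hle) (Nat.div_mul_le_self m a)
        obtain ⟨W, h1, h2⟩ := hsub (m - s * a) (by omega) s le_rfl
        exact ⟨W, by rw [h1]; omega, h2⟩

end Cfsg.Agent.S5952
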