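import Cfsg.Statements.S5957
import Cfsg.Agent.H99.SquareScalar

set_option autoImplicit false
open scoped MatrixGroups
open Cfsg

namespace Cfsg.Agent.S5957

open Cfsg.Agent.H99

/-- Involutions of PSL_n(q) and imprimitive subgroups. Here `T = PSL_n(F)` for a field `F` with `q = p^f` elements (`n ≥ 2`, `(n, q) ≠ (2, 2), (2, 3)`), `n = a·t` with `t ≥ 2`, and Ω is the set of direct-sum decompositions of `F^n` into `t` subspaces of dimension `a` (unordered; their number is the number of ordered ones divided by `t!`), whose stabilizers are the imprimitive subgroups of type GL_a(q) ≀ S_t (maximal except in some small cases; maximality is not assumed); an element of `T` of prime order `r` (a matrix `x` of determinant 1 with `x^r` scalar, `x` not scalar) fixes a point of Ω when it permutes the summands of some such decomposition. If the number of such decompositions is even, then every involution of `T` stabilizes one of them (the action is 2-elusive). -/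
theorem result {F : Type*} [Field F] [Fintype F] {p : ℕ} [Fact p.Prime] [CharP F p] {q : ℕ} (hq : Fintype.card F = q)
    (n a t : ℕ) (hn : 2 ≤ n) (hT : (n, q) ≠ (2, 2) ∧ (n, q) ≠ (2, 3)) (hat : n = a * t) (ha : 1 ≤ a) (ht : 2 ≤ t)
    (hΩ : 2 ∣ Nat.card {D : Fin t → Submodule F (Fin n → F) // Cfsg.Geo.IsMDecomposition a D} / Nat.factorial t)
    (x : Matrix.SpecialLinearGroup (Fin n) F)
    (hx1 : ∃ z : F, ((x ^ 2 : Matrix.SpecialLinearGroup (Fin n) F) : Matrix (Fin n) (Fin n) F) = z • (1 : Matrix (Fin n) (Fin n) F))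
    (hx2 : ∀ z : F, (x : Matrix (Fin n) (Fin n) F) ≠ z • (1 : Matrix (Fin n) (Fin n) F)) :
    ∃ D : Fin t → Submodule F (Fin n → F), Cfsg.Geo.IsMDecomposition a D ∧
        ∃ σ : Equiv.Perm (Fin t), ∀ j, (D j).map (Matrix.toLin' (x : Matrix (Fin n) (Fin n) F)) = D (σ j) := by
  classical
  obtain ⟨z, hz⟩ := hx1
  set X : Module.End F (Fin n → F) := Matrix.toLin' (x : Matrix (Fin n) (Fin n) F) with hX
  have hXX : ∀ v, X (X v) = z • v := fun v => by
    simp only [X, Matrix.toLin'_apply]
    rw [Matrix.mulVec_mulVec, ← pow_two, ← Matrix.SpecialLinearGroup.coe_pow, hz, Matrix.smul_mulVec, Matrix.one_mulVec]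
  obtain ⟨k, l, b, hb1, hb2, hb3⟩ := exists_pair_basis X z hXX
  have hcard : 2 * k + l = a * t := by
    have := Module.finrank_eq_card_basis b
    simp at this
    rw [← hat]; omega
  obtain ⟨f, hf, σ, hσ⟩ := hasFlipPartition a ha t k l hcard
  let D : Fin t → Submodule F (Fin n → F) := fun j => Submodule.span F (b '' {i | f i = j})
  have hfr : ∀ j, Module.finrank F (D j) = a := by
    intro j
    have h1 : D j = Submodule.span F (Set.range fun i : {i // f i = j} => b i) := by
      simp only [D, Set.image_eq_range]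
      rfl
    rw [h1]
    refine (finrank_span_eq_card (b.linearIndependent.comp (fun i : {i // f i = j} => i.val) Subtype.val_injective)).trans ?_
    rw [← Nat.card_eq_fintype_card, hf j]
  have hXb : ∀ i, ∃ c : F, X (b i) = c • b (pairFlip i) := by
    rintro (⟨i, _ | _⟩ | i)
    · exact ⟨1, by rw [one_smul]; exact hb1 i⟩
    · exact ⟨z, hb2 i⟩
    · exact hb3 i
  have hXinj : Function.Injective X := by
    have hdet : IsUnit (x : Matrix (Fin n) (Fin n) F).det := by rw [x.2]; exact isUnit_one
    exact Matrix.mulVec_injective_iff_isUnit.2 ((Matrix.isUnit_iff_isUnit_det _).2 hdet)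
  refine ⟨D, ⟨ht, by omega, hfr, ?_, ?_⟩, σ, fun j => ?_⟩
  · intro j
    refine (b.linearIndependent.disjoint_span_image (t := {i | f i ≠ j}) ?_).mono le_rfl ?_
    · rw [Set.disjoint_left]; exact fun i h h' => h' h
    · refine iSup₂_le fun j' hj' => Submodule.span_mono ?_
      rintro _ ⟨i, hi, rfl⟩
      exact ⟨i, fun h => hj' (hi.symm.trans h), rfl⟩
  · rw [eq_top_iff, ← b.span_eq, Submodule.span_le]
    rintro _ ⟨i, rfl⟩
    exact Submodule.mem_iSup_of_mem (f i) (Submodule.subset_span ⟨i, rfl, rfl⟩)
  · refine Submodule.eq_of_le_of_finrank_le ?_ ?_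
    · rw [Submodule.map_span_le]
      rintro _ ⟨i, hi, rfl⟩
      obtain ⟨c, hc⟩ := hXb i
      show X (b i) ∈ _
      rw [hc]
      refine Submodule.smul_mem _ _ (Submodule.subset_span ⟨_, ?_, rfl⟩)
      show f (pairFlip i) = σ j
      rw [hσ, hi]
    · rw [hfr, ← (Submodule.equivMapOfInjective X hXinj (D j)).finrank_eq, hfr]

end Cfsg.Agent.S5957
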