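import Cfsg.Statements.S5958
import Cfsg.Agent.H73.Imprim.Count
import Cfsg.Agent.H73.Imprim.Necessity

set_option autoImplicit false
open scoped MatrixGroups
open Cfsg Cfsg.Agent.Linear.Elusive Cfsg.Agent.H73.Imprim

namespace Cfsg.Agent.S5958

/-- Elements of odd prime order of PSL_n(q) and imprimitive subgroups. Here `T = PSL_n(F)` for a field `F` with `q = p^f` elements (`n ≥ 2`, `(n, q) ≠ (2, 2), (2, 3)`), `n = a·t` with `t ≥ 2`, and Ω is the set of direct-sum decompositions of `F^n` into `t` subspaces of dimension `a` (unordered; their number is the number of ordered ones divided by `t!`), whose stabilizers are the imprimitive subgroups of type GL_a(q) ≀ S_t (maximal except in some small cases; maximality is not assumed); an element of `T` of prime order `r` (a matrix `x` of determinant 1 with `x^r` scalar, `x` not scalar) fixes a point of Ω when it permutes the summands of some such decomposition. Let `r ≠ p` be an odd prime dividing the number of such decompositions, let `c` be the multiplicative order of `q` modulo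 `r`, and write `k = n mod c`, `ℓ = a mod c`. Then every element of `T` of order `r` stabilizes such a decomposition if and only if either `a = 1`, `c = r − 1 > 1` and `n ≤ k·r`, or `c ≤ a` and `k = t·ℓ`. -/
theorem result {F : Type*} [Field F] [Fintype F] {p : ℕ} [Fact p.Prime] [CharP F p] {q : ℕ} (hq : Fintype.card F = q)
    (n a t : ℕ) (hn : 2 ≤ n) (hT : (n, q) ≠ (2, 2) ∧ (n, q) ≠ (2, 3)) (hat : n = a * t) (ha : 1 ≤ a) (ht : 2 ≤ t)
    (r : ℕ) [Fact r.Prime] (hr2 : r ≠ 2) (hrp : r ≠ p) (hΩ : r ∣ Nat.card {D : Fin t → Submodule F (Fin n → F) // Cfsg.Geo.IsMDecomposition a D} / Nat.factorial t)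
    (c : ℕ) (hc : c = orderOf (q : ZMod r)) :
    (∀ x : Matrix.SpecialLinearGroup (Fin n) F,
      (∃ z : F, ((x ^ r : Matrix.SpecialLinearGroup (Fin n) F) : Matrix (Fin n) (Fin n) F) = z • (1 : Matrix (Fin n) (Fin n) F)) →
      (∀ z : F, (x : Matrix (Fin n) (Fin n) F) ≠ z • (1 : Matrix (Fin n) (Fin n) F)) →
      ∃ D : Fin t → Submodule F (Fin n → F), Cfsg.Geo.IsMDecomposition a D ∧
        ∃ σ : Equiv.Perm (Fin t), ∀ j, (D j).map (Matrix.toLin' (x : Matrix (Fin n) (Fin n) F)) = D (σ j)) ↔
    ((a = 1 ∧ 1 < c ∧ c = r - 1 ∧ n ≤ (n % c) * r) ∨ (c ≤ a ∧ n % c = t * (a % c))) := by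
  classical
  subst hc
  have hr := (Fact.out : r.Prime)
  refine (forall_SL_iff (F := F) (n := n) (r := r) (fun T => Stab a t T)).trans ?_
  constructor
  · intro hall
    rcases Nat.lt_or_ge (orderOf (q : ZMod r)) 2 with h1 | h1
    · have := orderOf_pos_of_ne (F := F) (r := r) hq hrp
      have hone : orderOf (q : ZMod r) = 1 := by omega
      exact Or.inr ⟨by omega, by simp [hone, Nat.mod_one]⟩
    · have hrq : ¬ r ∣ q - 1 := fun h => by
        have := (orderOf_eq_one_iff (F := F) hq).2 h
        omega
      refine necessity hq hrp hat ha h1 (orderOf_le hq hrp hat ha ht hΩ) fun T hTr hT1 =>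
        hall T ?_ ⟨1, by rw [hTr, one_smul]⟩ fun z hz => hT1 ?_
      · have h2 : LinearMap.det T ^ r = 1 := by rw [← map_pow, hTr, map_one]
        exact pow_r_of_not_dvd hq hrq
          (fun h => by rw [h, zero_pow hr.ne_zero] at h2; exact zero_ne_one h2) h2
      · have : Nonempty (Fin n) := ⟨⟨0, by omega⟩⟩
        rw [hz, _root_.smul_pow, one_pow] at hTr
        have hz1 : z ^ r = 1 := smul_left_injective F
          (one_ne_zero (α := Module.End F (Fin n → F)))
          (show z ^ r • (1 : Module.End F (Fin n → F)) = (1 : F) • 1 by rw [hTr, one_smul])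
        have hz0 : z ≠ 0 := fun h => by
          rw [h, zero_pow hr.ne_zero] at hz1
          exact zero_ne_one hz1
        rw [hz, pow_r_of_not_dvd hq hrq hz0 hz1, one_smul]
  · intro hcond T hdet ⟨z, hz⟩ _
    have hz0 : z ≠ 0 := fun h => by
      have h2 := congrArg LinearMap.det hz
      rw [map_pow, hdet, one_pow, h, zero_smul, LinearMap.det_zero,
        zero_pow (by rw [Module.finrank_fin_fun]; omega)] at h2
      exact one_ne_zero h2
    by_cases hone : orderOf (q : ZMod r) = 1
    · exact stab_of_one hq hrp hat ha ht hone hz0 hz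
    obtain ⟨b, hb⟩ := exists_root_of_not_dvd (F := F) (r := r) hq
      (fun h => hone ((orderOf_eq_one_iff (F := F) hq).2 h)) z
    have hb0 : b ≠ 0 := fun h => hz0 (by rw [← hb, h, zero_pow hr.ne_zero])
    have hS : (b⁻¹ • T) ^ r = 1 := by
      rw [_root_.smul_pow, hz, smul_smul, inv_pow, hb, inv_mul_cancel₀ hz0, one_smul]
    refine (stab_smul (inv_ne_zero hb0)).1 ?_
    rcases hcond with ⟨ha1, -, hcr, hnk⟩ | ⟨-, hk⟩
    · subst ha1
      obtain rfl : n = t := hat.trans (one_mul t)
      exact stab_of_regular hq hrp hn hS hcr hnk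
    · exact stab_of_mod hq hrp hat ha ht hS hk

end Cfsg.Agent.S5958
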