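import Cfsg.Statements.S5959
import Cfsg.Agent.H99.Jordan

set_option autoImplicit false
open scoped MatrixGroups
open Cfsg

namespace Cfsg.Agent.S5959

open Cfsg.Agent.H99

/-- Elements of order `p` of PSL_n(q) and imprimitive subgroups: a necessary condition. Here `T = PSL_n(F)` for a field `F` with `q = p^f` elements (`n ≥ 2`, `(n, q) ≠ (2, 2), (2, 3)`), `n = a·t` with `t ≥ 2`, and Ω is the set of direct-sum decompositions of `F^n` into `t` subspaces of dimension `a` (unordered; their number is the number of ordered ones divided by `t!`), whose stabilizers are the imprimitive subgroups of type GL_a(q) ≀ S_t (maximal except in some small cases; maximality is not assumed); an element of `T` of prime order `r` (a matrix `x` of determinant 1 with `x^r` scalar, `x` not scalar) fixes a point of Ω when it permutes the summands of some such decomposition. Suppose `p > 2` divides the number of such decompositions. If every element of `T` of order `p` stabilizes such a decomposition, then every partition of `n` into parts of size at most `p` in which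 the part `p` occurs fewer than `a` times contains (as a sub-multiset) a partition of `a`. -/
theorem result {F : Type*} [Field F] [Fintype F] {p : ℕ} [Fact p.Prime] [CharP F p] {q : ℕ} (hq : Fintype.card F = q)
    (n a t : ℕ) (hn : 2 ≤ n) (hT : (n, q) ≠ (2, 2) ∧ (n, q) ≠ (2, 3)) (hat : n = a * t) (ha : 1 ≤ a) (ht : 2 ≤ t)
    (hp : 2 < p) (hΩ : p ∣ Nat.card {D : Fin t → Submodule F (Fin n → F) // Cfsg.Geo.IsMDecomposition a D} / Nat.factorial t)
    (h : ∀ x : Matrix.SpecialLinearGroup (Fin n) F,
      (∃ z : F, ((x ^ p : Matrix.SpecialLinearGroup (Fin n) F) : Matrix (Fin n) (Fin n) F) = z • (1 : Matrix (Fin n) (Fin n) F)) →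
      (∀ z : F, (x : Matrix (Fin n) (Fin n) F) ≠ z • (1 : Matrix (Fin n) (Fin n) F)) →
      ∃ D : Fin t → Submodule F (Fin n → F), Cfsg.Geo.IsMDecomposition a D ∧
        ∃ σ : Equiv.Perm (Fin t), ∀ j, (D j).map (Matrix.toLin' (x : Matrix (Fin n) (Fin n) F)) = D (σ j)) :
    (∀ μ : Multiset ℕ, (∀ b ∈ μ, 0 < b ∧ b ≤ p) → μ.sum = n → μ.count p < a → ∃ ν : Multiset ℕ, ν ≤ μ ∧ ν.sum = a) := by
  classical
  intro μ hμ hsum hcount
  set L : List ℕ := μ.toList with hL
  set m : Fin L.length → ℕ := fun i => L[(i : ℕ)] with hm
  have hmμ : Finset.univ.val.map m = μ := by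
    rw [Fin.univ_val_map]
    conv_rhs => rw [← μ.coe_toList, ← hL]
    congr 1
    exact List.ofFn_getElem
  have hmp : ∀ i, 0 < m i ∧ m i ≤ p := by
    intro i
    apply hμ
    rw [← hmμ]
    exact Multiset.mem_map_of_mem _ (Finset.mem_univ i)
  have hcardι : Fintype.card ((i : Fin L.length) × Fin (m i)) = n := by
    rw [Fintype.card_sigma, ← hsum, ← hmμ]
    simp [Finset.sum_eq_multiset_sum]
  let e : ((i : Fin L.length) × Fin (m i)) ≃ Fin n := Fintype.equivFinOfCardEq hcardι
  let b : Module.Basis ((i : Fin L.length) × Fin (m i)) F (Fin n → F) := (Pi.basisFun F (Fin n)).reindex e.symm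
  set N : Module.End F (Fin n → F) := shiftEnd b with hN
  have hNp : N ^ p = 0 := shiftEnd_pow_eq_zero b (fun i => (hmp i).2)
  set X : Matrix (Fin n) (Fin n) F := 1 + LinearMap.toMatrix' N with hX
  have hXlin : Matrix.toLin' X = 1 + N := by
    rw [hX, map_add, Matrix.toLin'_toMatrix', Matrix.toLin'_one]
    rfl
  haveI : CharP (Matrix (Fin n) (Fin n) F) p := by
    haveI : Nonempty (Fin n) := ⟨⟨0, by omega⟩⟩
    exact charP_of_injective_algebraMap' F p
  have hNmat : (LinearMap.toMatrix' N) ^ p = 0 := by
    have h1 : (LinearMap.toMatrix' N) ^ p = LinearMap.toMatrix' (N ^ p) := (map_pow LinearMap.toMatrixAlgEquiv' N p).symm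
    rw [h1, hNp, map_zero]
  have hXp : X ^ p = 1 := by
    rw [hX, add_pow_char_of_commute p (Commute.one_left _), one_pow, hNmat, add_zero]
  have hdet : X.det = 1 := by
    have h1 : X.det ^ p = 1 := by rw [← Matrix.det_pow, hXp, Matrix.det_one]
    apply frobenius_inj F p
    rw [frobenius_def, frobenius_def, h1, one_pow]
  let x : Matrix.SpecialLinearGroup (Fin n) F := ⟨X, hdet⟩
  by_cases hbig : ∀ i, m i = 1
  · -- all parts equal one
    have hμ1 : μ = Multiset.replicate n 1 := by
      have h1 : μ = Multiset.replicate (Multiset.card μ) 1 := Multiset.eq_replicate_card.2 (fun c hc => by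
        rw [← hmμ, Multiset.mem_map] at hc
        obtain ⟨i, -, rfl⟩ := hc
        exact hbig i)
      have h2 : Multiset.card μ = n := by
        conv_rhs => rw [← hsum, h1, Multiset.sum_replicate]
        simp
      rwa [h2] at h1
    refine ⟨Multiset.replicate a 1, ?_, by simp⟩
    rw [hμ1, Multiset.le_iff_count]
    intro c
    rw [Multiset.count_replicate, Multiset.count_replicate]
    split
    · rw [hat]; exact Nat.le_mul_of_pos_right a (by omega)
    · exact le_rfl
  push Not at hbig
  obtain ⟨i0, hi0⟩ := hbig
  have hx1 : ∃ z : F, ((x ^ p : Matrix.SpecialLinearGroup (Fin n) F) : Matrix (Fin n) (Fin n) F) = z • (1 : Matrix (Fin n) (Fin n) F) :=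
    ⟨1, by rw [Matrix.SpecialLinearGroup.coe_pow, one_smul]; exact hXp⟩
  have hx2 : ∀ z : F, (x : Matrix (Fin n) (Fin n) F) ≠ z • (1 : Matrix (Fin n) (Fin n) F) := by
    intro z hz
    have hlt : (1 : ℕ) < m i0 := by have := (hmp i0).1; omega
    have h1 : N (b ⟨i0, ⟨0, by omega⟩⟩) = b ⟨i0, ⟨1, hlt⟩⟩ := by
      have := shiftEnd_pow_apply b ⟨i0, ⟨0, by omega⟩⟩ 1
      rw [pow_one, dif_pos (show 0 + 1 < m i0 by omega)] at this
      exact this
    have h2 : Matrix.toLin' X = z • (1 : Module.End F (Fin n → F)) := by
      rw [show X = z • (1 : Matrix (Fin n) (Fin n) F) from hz, map_smul, Matrix.toLin'_one]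
      rfl
    rw [hXlin] at h2
    have h3 := LinearMap.congr_fun h2 (b ⟨i0, ⟨0, by omega⟩⟩)
    simp only [LinearMap.add_apply, Module.End.one_apply, LinearMap.smul_apply, h1] at h3
    have h4 := congrArg (fun v => b.repr v ⟨i0, ⟨1, hlt⟩⟩) h3
    simp [Module.Basis.repr_self, Finsupp.single_apply] at h4
  obtain ⟨D, hD, σ, hσ⟩ := h x hx1 hx2
  set T : Module.End F (Fin n → F) := 1 + N with hT'
  have hσ' : ∀ j, (D j).map T = D (σ j) := fun j => by
    rw [← hXlin]; exact hσ j
  have hTk : ∀ (k : ℕ) j, (D j).map (T ^ k) = D ((σ ^ k) j) := by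
    intro k
    induction k with
    | zero => intro j; ext v; simp
    | succ k ih =>
      intro j
      rw [pow_succ', Module.End.mul_eq_comp, Submodule.map_comp, ih, hσ', pow_succ', Equiv.Perm.mul_apply]
  haveI : CharP (Module.End F (Fin n → F)) p := by
    haveI : Nonempty (Fin n) := ⟨⟨0, by omega⟩⟩
    exact charP_of_injective_algebraMap' F p
  have hTp : T ^ p = 1 := by
    rw [hT', add_pow_char_of_commute p (Commute.one_left _), one_pow, hNp, add_zero]
  have hDne : ∀ j, D j ≠ ⊥ := by
    intro j hj
    have := hD.finrank_eq j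
    rw [hj, finrank_bot] at this
    omega
  have hDinj : Function.Injective D := by
    intro j k hjk
    by_contra hne
    have := hD.indep.pairwiseDisjoint hne
    rw [Function.onFun, hjk, disjoint_self] at this
    exact hDne k this
  have hσp : σ ^ p = 1 := by
    apply Equiv.ext
    intro j
    apply hDinj
    rw [← hTk, hTp]
    ext v; simp
  -- no part moves
  have hfix : ∀ j, σ j = j := by
    intro j
    by_contra hne
    have hdist : ∀ k l, k < p → l < p → (σ ^ k) j = (σ ^ l) j → k = l := by
      intro k l hk hl hkl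
      have hper : Function.minimalPeriod (σ : Fin t → Fin t) j = p := by
        have h1 : Function.IsPeriodicPt (σ : Fin t → Fin t) p j := by
          show (σ : Fin t → Fin t)^[p] j = j
          rw [← Equiv.Perm.coe_pow, hσp, Equiv.Perm.one_apply]
        rcases (Nat.dvd_prime (Fact.out : p.Prime)).1 h1.minimalPeriod_dvd with h2 | h2
        · exact absurd (Function.minimalPeriod_eq_one_iff_isFixedPt.1 h2) hne
        · exact h2
      apply Function.iterate_injOn_Iio_minimalPeriod (f := (σ : Fin t → Fin t)) (x := j)
      · simpa [hper] using hk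
      · simpa [hper] using hl
      · simpa [← Equiv.Perm.coe_pow] using hkl
    have hgeom : N ^ (p - 1) = ∑ k ∈ Finset.range p, T ^ k := by
      have hT1 : T - 1 = N := by rw [hT']; abel
      have hz : ∀ k ∈ Finset.range p, ((p - 1).choose k : Module.End F (Fin n → F)) = (-1) ^ k := by
        intro k hk
        rw [Finset.mem_range] at hk
        induction k with
        | zero => simp
        | succ k ih =>
          have h2 : (p.choose (k + 1) : Module.End F (Fin n → F)) = 0 := by
            rw [CharP.cast_eq_zero_iff (Module.End F (Fin n → F)) p]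
            exact (Fact.out : p.Prime).dvd_choose_self (by omega) hk
          rw [show p = p - 1 + 1 by omega, Nat.choose_succ_succ, Nat.cast_add, ih (by omega)] at h2
          rw [eq_neg_of_add_eq_zero_right h2, pow_succ']
          exact (neg_one_mul ((-1 : Module.End F (Fin n → F)) ^ k)).symm
      rw [← hT1, sub_eq_add_neg, (Commute.one_right T).neg_right.add_pow, show p - 1 + 1 = p by omega]
      apply Finset.sum_congr rfl
      intro k hk
      rw [hz k hk, mul_assoc, ← pow_add]
      have hkp := Finset.mem_range.1 hk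
      rw [Nat.sub_add_cancel (by omega : k ≤ p - 1), Even.neg_one_pow, mul_one]
      obtain ⟨c, hc⟩ := (Fact.out : p.Prime).odd_of_ne_two (by omega : p ≠ 2)
      exact ⟨c, by omega⟩
    have hinj : Disjoint (D j) (LinearMap.ker (N ^ (p - 1))) := by
      rw [Submodule.disjoint_def]
      intro v hv hvk
      rw [LinearMap.mem_ker, hgeom, LinearMap.sum_apply] at hvk
      have hmem : ∀ k ∈ Finset.range p, (T ^ k) v ∈ D ((σ ^ k) j) := fun k _ => by
        rw [← hTk]; exact Submodule.mem_map_of_mem hv
      rw [Finset.range_eq_Ico, Finset.sum_eq_sum_Ico_succ_bot (by omega : 0 < p)] at hvk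
      have h1 : v ∈ ⨆ l, ⨆ (_ : l ≠ j), D l := by
        have h2 : v = -∑ k ∈ Finset.Ico 1 p, (T ^ k) v := by
          simpa using eq_neg_of_add_eq_zero_left hvk
        rw [h2]
        refine Submodule.neg_mem _ (Submodule.sum_mem _ fun k hk => ?_)
        rw [Finset.mem_Ico] at hk
        refine Submodule.mem_iSup_of_mem ((σ ^ k) j) (Submodule.mem_iSup_of_mem ?_ ?_)
        · intro h3
          have := hdist k 0 hk.2 (by omega) (by simpa using h3)
          omega
        · exact hmem k (Finset.mem_range.2 hk.2)
      exact Submodule.disjoint_def.1 (hD.indep j) v hv h1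
    have hrank : a ≤ imDim N ⊤ (p - 1) := by
      have h1 := LinearMap.finrank_range_add_finrank_ker ((N ^ (p - 1)).domRestrict (D j))
      have h2 : LinearMap.ker ((N ^ (p - 1)).domRestrict (D j)) = ⊥ := by
        rw [LinearMap.ker_eq_bot']
        intro v hv
        exact Subtype.ext (Submodule.disjoint_def.1 hinj v v.2 hv)
      rw [h2, finrank_bot, add_zero, hD.finrank_eq, LinearMap.range_domRestrict] at h1
      rw [← h1]
      exact Submodule.finrank_mono (Submodule.map_mono le_top)
    have hcnt : imDim N ⊤ (p - 1) = μ.count p := by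
      rw [hN, imDim_shiftEnd, ← hmμ, Multiset.count_map, ← Finset.filter_val, Finset.card_val, Finset.card_filter]
      apply Finset.sum_congr rfl
      intro i _
      have := hmp i
      split <;> omega
    omega
  -- all parts are invariant
  let j0 : Fin t := ⟨0, by omega⟩
  let W : Submodule F (Fin n → F) := ⨆ j, ⨆ (_ : j ≠ j0), D j
  have hinv : ∀ j, (D j).map N ≤ D j := by
    intro j
    rintro _ ⟨v, hv, rfl⟩
    have h1 : T v ∈ D j := by
      have := Submodule.mem_map_of_mem (f := T) hv
      rwa [hσ', hfix] at this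
    have h2 : N v = T v - v := by simp [hT']
    rw [h2]
    exact Submodule.sub_mem _ h1 hv
  have hcompl : IsCompl (D j0) W := by
    refine ⟨hD.indep j0, codisjoint_iff.2 (eq_top_iff.2 ?_)⟩
    rw [← hD.iSup_eq_top]
    apply iSup_le
    intro j
    by_cases hj : j = j0
    · rw [hj]; exact le_sup_left
    · exact le_trans (le_iSup₂ (f := fun j (_ : j ≠ j0) => D j) j hj) le_sup_right
  refine ⟨blockParts N (D j0) p, ?_, ?_⟩
  · have h1 := blockParts_le N (D j0) W (hinv j0) ?_ hcompl p
    · rwa [hN, blockParts_shiftEnd b hmp, hmμ] at h1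
    · rw [Submodule.map_iSup]
      refine iSup_mono fun j => ?_
      rw [Submodule.map_iSup]
      exact iSup_mono fun _ => hinv j
  · rw [sum_blockParts N (D j0) (hinv j0) p hNp, hD.finrank_eq]

end Cfsg.Agent.S5959
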