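import Cfsg.Statements.S5960
import Cfsg.Agent.H99.SympInvol
import Cfsg.Agent.Symplectic.Std
-- import your own Cfsg.Agent.* helpers here

set_option autoImplicit false
open scoped MatrixGroups
open Cfsg

namespace Cfsg.Agent.S5960

open Cfsg.Agent.H99 Cfsg.Agent.Symplectic
open scoped Matrix

/-- Involutions of PSp_n(q) and imprimitive subgroups. Here `T = PSp_n(q)`, `n = 2d ≥ 4`, `(n, q) ≠ (4, 2)`, realised through the symplectic matrices over the field `F` with `q` elements and the standard alternating form; `n = a·t` with `a` even and `t ≥ 2`, and Ω is the (nonempty) set of orthogonal decompositions of `F^n` into `t` nondegenerate subspaces of dimension `a` (unordered; counted as ordered ones divided by `t!`), whose stabilizers are the imprimitive subgroups of type Sp_a(q) ≀ S_t (maximality is not assumed); an element of `T` of prime order `r` (a symplectic matrix `x` with `x^r` scalar, `x` not scalar) fixes a point of Ω when it permutes the summands of some such decomposition.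 If the number of such decompositions is even, then every involution of `T` stabilizes one of them (the action is 2-elusive). -/
theorem result {F : Type*} [Field F] [Fintype F] {p : ℕ} [Fact p.Prime] [CharP F p] {q : ℕ} (hq : Fintype.card F = q)
    (d : ℕ) (hd : 2 ≤ d) (hT : (d, q) ≠ (2, 2))
    (a t : ℕ) (hat : 2 * d = a * t) (ha : 2 ≤ a) (hae : Even a) (ht : 2 ≤ t) (hΩ : 2 ∣ Nat.card {D : Fin t → Submodule F (Fin d ⊕ Fin d → F) // (Cfsg.Geo.IsMDecomposition a D ∧ (∀ j, ∀ u ∈ D j, u ≠ 0 → ∃ v ∈ D j, Cfsg.sympForm d F u v ≠ 0) ∧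
          (∀ j j', j ≠ j' → ∀ u ∈ D j, ∀ v ∈ D j', Cfsg.sympForm d F u v = 0))} / Nat.factorial t)
    (x : ↥(Matrix.symplecticGroup (Fin d) F))
    (hx1 : ∃ z : F, ((x ^ 2 : ↥(Matrix.symplecticGroup (Fin d) F)) : Matrix (Fin d ⊕ Fin d) (Fin d ⊕ Fin d) F) = z • (1 : Matrix (Fin d ⊕ Fin d) (Fin d ⊕ Fin d) F))
    (hx2 : ∀ z : F, (x : Matrix (Fin d ⊕ Fin d) (Fin d ⊕ Fin d) F) ≠ z • (1 : Matrix (Fin d ⊕ Fin d) (Fin d ⊕ Fin d) F)) :
    ∃ D : Fin t → Submodule F (Fin d ⊕ Fin d → F), (Cfsg.Geo.IsMDecomposition a D ∧ (∀ j, ∀ u ∈ D j, u ≠ 0 → ∃ v ∈ D j, Cfsg.sympForm d F u v ≠ 0) ∧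
          (∀ j j', j ≠ j' → ∀ u ∈ D j, ∀ v ∈ D j', Cfsg.sympForm d F u v = 0)) ∧
        ∃ σ : Equiv.Perm (Fin t), ∀ j, (D j).map (Matrix.toLin' (x : Matrix (Fin d ⊕ Fin d) (Fin d ⊕ Fin d) F)) = D (σ j) := by
  classical
  obtain ⟨z, hz⟩ := hx1
  have hxm : ((x ^ 2 : ↥(Matrix.symplecticGroup (Fin d) F)) : Matrix (Fin d ⊕ Fin d) (Fin d ⊕ Fin d) F) =
      (x : Matrix (Fin d ⊕ Fin d) (Fin d ⊕ Fin d) F) * (x : Matrix (Fin d ⊕ Fin d) (Fin d ⊕ Fin d) F) := by
    rw [sq, Submonoid.coe_mul]
  rw [hxm] at hz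
  set X : Module.End F (Fin d ⊕ Fin d → F) := Matrix.toLin' (x : Matrix (Fin d ⊕ Fin d) (Fin d ⊕ Fin d) F) with hXdef
  have hB : ∀ u, (∀ s, spB d F u s = 0) → u = 0 := fun u h => (spB_nondeg d F).1 u h
  have hiso : ∀ u s, spB d F (X u) (X s) = spB d F u s := fun u s => by
    rw [hXdef, Matrix.toLin'_apply, Matrix.toLin'_apply]
    exact toLin'_mem_isom x.2 u s
  have hXX : ∀ u, X (X u) = z • u := fun u => by
    rw [hXdef, Matrix.toLin'_apply, Matrix.toLin'_apply, Matrix.mulVec_mulVec, hz, Matrix.smul_mulVec, Matrix.one_mulVec]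
  have hz0 : z ≠ 0 := by
    intro h0
    let e0 : Fin d ⊕ Fin d → F := Pi.single (Sum.inl ⟨0, by omega⟩) 1
    have h1 : e0 = 0 := hB _ fun s => by
      rw [← hiso, ← hiso, hXX, h0, zero_smul, map_zero, LinearMap.zero_apply]
    simpa [e0] using congrFun h1 (Sum.inl ⟨0, by omega⟩)
  obtain ⟨k, l, v, w, hsys, htop⟩ := exists_planeSys (spB_alt d F) hB hiso z hz0 hXX
  have hN : 2 * k + l = d := by
    have h1 := finrank_span_eq_card hsys.linearIndependent
    rw [htop, finrank_top, Module.finrank_pi] at h1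
    simp [PairIdx] at h1
    omega
  obtain ⟨a', rfl⟩ := hae.exists_two_nsmul
  simp only [smul_eq_mul] at hat ha ⊢
  obtain ⟨f, hf, σ, hσ⟩ := hasFlipPartition a' (by omega) t k l (by rw [hN]; linarith)
  let D : Fin t → Submodule F (Fin d ⊕ Fin d → F) := fun j => Submodule.span F (Sum.elim v w '' {s | Sum.elim f f s = j})
  have hmemv : ∀ i, v i ∈ D (f i) := fun i => Submodule.subset_span ⟨Sum.inl i, rfl, rfl⟩
  have hmemw : ∀ i, w i ∈ D (f i) := fun i => Submodule.subset_span ⟨Sum.inr i, rfl, rfl⟩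
  have horth : ∀ j j', j ≠ j' → ∀ u ∈ D j, ∀ s ∈ D j', spB d F u s = 0 := by
    intro j j' hjj' u hu s hs
    induction hu using Submodule.span_induction with
    | mem a ha =>
      induction hs using Submodule.span_induction with
      | mem b hb =>
        obtain ⟨i, hi, rfl⟩ := ha
        obtain ⟨i', hi', rfl⟩ := hb
        rcases i with i | i <;> rcases i' with i' | i' <;> simp only [Set.mem_setOf_eq, Sum.elim_inl, Sum.elim_inr] at hi hi' ⊢
        · exact hsys.vv _ _
        · rw [hsys.vw, if_neg]; rintro rfl; exact hjj' (hi.symm.trans hi')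
        · rw [hsys.wv, if_neg]; rintro rfl; exact hjj' (hi.symm.trans hi')
        · exact hsys.ww _ _
      | zero => exact map_zero _
      | add _ _ _ _ h1 h2 => rw [map_add, h1, h2, add_zero]
      | smul c _ _ h1 => rw [map_smul, h1, smul_zero]
    | zero => simp
    | add _ _ _ _ h1 h2 => rw [map_add, LinearMap.add_apply, h1, h2, add_zero]
    | smul c _ _ h1 => rw [map_smul, LinearMap.smul_apply, h1, smul_zero]
  have hDtop : iSup D = ⊤ := by
    rw [eq_top_iff, ← htop, Submodule.span_le]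
    rintro _ ⟨i | i, rfl⟩
    · exact le_iSup D (f i) (hmemv i)
    · exact le_iSup D (f i) (hmemw i)
  have hnd : ∀ j, ∀ u ∈ D j, u ≠ 0 → ∃ s ∈ D j, spB d F u s ≠ 0 := by
    intro j u hu hu0
    by_contra hno
    push Not at hno
    refine hu0 (hB u fun s => ?_)
    have hs : s ∈ iSup D := hDtop ▸ Submodule.mem_top
    induction hs using Submodule.iSup_induction' with
    | mem j' b hb =>
      by_cases hj : j = j'
      · subst hj; exact hno b hb
      · exact horth j j' hj u hu b hb
    | zero => exact map_zero _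
    | add _ _ _ _ h1 h2 => rw [map_add, h1, h2, add_zero]
  refine ⟨D, ⟨⟨ht, by omega, fun j => ?_, ?_, hDtop⟩, fun j u hu hu0 => ?_, fun j j' hj u hu s hs => ?_⟩, σ, fun j => ?_⟩
  · show Module.finrank F ↥(Submodule.span F _) = _
    rw [Set.image_eq_range]
    refine (finrank_span_eq_card (hsys.linearIndependent.comp (fun s : {s // Sum.elim f f s = j} => s.1) Subtype.val_injective)).trans ?_
    rw [← Nat.card_eq_fintype_card, Nat.card_congr (show {s // Sum.elim f f s = j} ≃ {i // f i = j} ⊕ {i // f i = j} from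
      { toFun := fun s => match s with
          | ⟨Sum.inl i, h⟩ => Sum.inl ⟨i, h⟩
          | ⟨Sum.inr i, h⟩ => Sum.inr ⟨i, h⟩
        invFun := fun s => match s with
          | Sum.inl i => ⟨Sum.inl i.1, i.2⟩
          | Sum.inr i => ⟨Sum.inr i.1, i.2⟩
        left_inv := fun s => by rcases s with ⟨s | s, h⟩ <;> rfl
        right_inv := fun s => by rcases s with s | s <;> rfl }), Nat.card_sum, hf, two_mul]
  · rw [iSupIndep_def]
    intro j
    have hle : (⨆ (j') (_ : j' ≠ j), D j') ≤ Submodule.span F (Sum.elim v w '' {s | Sum.elim f f s ≠ j}) :=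
      iSup₂_le fun j' hj' => Submodule.span_mono (Set.image_mono fun s hs => by
        simp only [Set.mem_setOf_eq] at hs ⊢
        rw [hs]; exact hj')
    exact (hsys.linearIndependent.disjoint_span_image (s := {s | Sum.elim f f s = j}) (t := {s | Sum.elim f f s ≠ j}) (Set.disjoint_left.2 fun s h1 h2 => h2 h1)).mono_right hle
  · obtain ⟨s, hs, hne⟩ := hnd j u hu hu0
    exact ⟨s, hs, by simpa using hne⟩
  · simpa using horth j j' hj u hu s hs
  · have hle : ∀ j, (D j).map X ≤ D (σ j) := by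
      intro j
      rw [Submodule.map_span, Submodule.span_le]
      rintro _ ⟨_, ⟨i | i, hi, rfl⟩, rfl⟩ <;> simp only [Set.mem_setOf_eq, Sum.elim_inl, Sum.elim_inr] at hi ⊢ <;>
        rw [← hi, ← hσ]
      · exact Submodule.span_le.2 (Set.insert_subset (hmemv _) (Set.singleton_subset_iff.2 (hmemw _))) (hsys.mapv i)
      · exact Submodule.span_le.2 (Set.insert_subset (hmemv _) (Set.singleton_subset_iff.2 (hmemw _))) (hsys.mapw i)
    refine le_antisymm (hle j) fun u hu => ?_
    have hj : σ (σ j) = j := by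
      have hne : Nonempty {i // f i = j} := by
        rw [← not_isEmpty_iff]
        intro he
        have := hf j
        rw [@Nat.card_of_isEmpty _ he] at this
        omega
      obtain ⟨⟨i, hi⟩⟩ := hne
      rw [← hi, ← hσ, ← hσ]
      rcases i with ⟨i, b⟩ | i <;> simp [pairFlip]
    have h1 := hle (σ j) (Submodule.mem_map_of_mem hu)
    rw [hj] at h1
    refine ⟨z⁻¹ • X u, (D j).smul_mem _ h1, ?_⟩
    rw [map_smul, hXX, inv_smul_smul₀ hz0]


end Cfsg.Agent.S5960
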