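import Cfsg.Statements.S5961
import Cfsg.Agent.H73.Imprim.SympMain

set_option autoImplicit false
open scoped MatrixGroups
open Cfsg Cfsg.Agent.Symplectic Cfsg.Agent.Linear.Elusive Cfsg.Agent.H73.Imprim

namespace Cfsg.Agent.S5961

/-- Elements of odd prime order of PSp_n(q) and imprimitive subgroups. Here `T = PSp_n(q)`, `n = 2d ≥ 4`, `(n, q) ≠ (4, 2)`, realised through the symplectic matrices over the field `F` with `q` elements and the standard alternating form; `n = a·t` with `a` even and `t ≥ 2`, and Ω is the (nonempty) set of orthogonal decompositions of `F^n` into `t` nondegenerate subspaces of dimension `a` (unordered; counted as ordered ones divided by `t!`), whose stabilizers are the imprimitive subgroups of type Sp_a(q) ≀ S_t (maximality is not assumed); an element of `T` of prime order `r` (a symplectic matrix `x` with `x^r` scalar, `x` not scalar) fixes a point of Ω when it permutes the summands of some such decomposition. Let `r ≠ p` be an odd prime dividing the number of such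 decompositions, let `i` be the multiplicative order of `q` modulo `r`, `c = i` if `i` is even and `c = 2i` if `i` is odd, and write `k = n mod c`, `ℓ = a mod c`. Then every element of `T` of order `r` stabilizes such a decomposition if and only if `c ≤ a` and `k = t·ℓ`. -/
theorem result {F : Type*} [Field F] [Fintype F] {p : ℕ} [Fact p.Prime] [CharP F p] {q : ℕ} (hq : Fintype.card F = q)
    (d : ℕ) (hd : 2 ≤ d) (hT : (d, q) ≠ (2, 2))
    (a t : ℕ) (hat : 2 * d = a * t) (ha : 2 ≤ a) (hae : Even a) (ht : 2 ≤ t)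
    (r : ℕ) [Fact r.Prime] (hr2 : r ≠ 2) (hrp : r ≠ p) (hΩ : r ∣ Nat.card {D : Fin t → Submodule F (Fin d ⊕ Fin d → F) // (Cfsg.Geo.IsMDecomposition a D ∧ (∀ j, ∀ u ∈ D j, u ≠ 0 → ∃ v ∈ D j, Cfsg.sympForm d F u v ≠ 0) ∧
          (∀ j j', j ≠ j' → ∀ u ∈ D j, ∀ v ∈ D j', Cfsg.sympForm d F u v = 0))} / Nat.factorial t)
    (i c : ℕ) (hi : i = orderOf (q : ZMod r)) (hc : c = if Even i then i else 2 * i) :
    (∀ x : ↥(Matrix.symplecticGroup (Fin d) F),
      (∃ z : F, ((x ^ r : ↥(Matrix.symplecticGroup (Fin d) F)) : Matrix (Fin d ⊕ Fin d) (Fin d ⊕ Fin d) F) = z • (1 : Matrix (Fin d ⊕ Fin d) (Fin d ⊕ Fin d) F)) →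
      (∀ z : F, (x : Matrix (Fin d ⊕ Fin d) (Fin d ⊕ Fin d) F) ≠ z • (1 : Matrix (Fin d ⊕ Fin d) (Fin d ⊕ Fin d) F)) →
      ∃ D : Fin t → Submodule F (Fin d ⊕ Fin d → F), (Cfsg.Geo.IsMDecomposition a D ∧ (∀ j, ∀ u ∈ D j, u ≠ 0 → ∃ v ∈ D j, Cfsg.sympForm d F u v ≠ 0) ∧
          (∀ j j', j ≠ j' → ∀ u ∈ D j, ∀ v ∈ D j', Cfsg.sympForm d F u v = 0)) ∧
        ∃ σ : Equiv.Perm (Fin t), ∀ j, (D j).map (Matrix.toLin' (x : Matrix (Fin d ⊕ Fin d) (Fin d ⊕ Fin d) F)) = D (σ j)) ↔
    (c ≤ a ∧ (2 * d) % c = t * (a % c)) := by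
  classical
  subst hi
  have hr := (Fact.out : r.Prime)
  have ha1 : 1 ≤ a := by omega
  constructor
  · intro hall
    refine symp_necessity (d := d) hq hrp hc hat ha hr2 (c_le hq hrp hc hat ha1 hae ht hΩ) ?_
    intro T hiso hTr hT1
    set A : Matrix (Fin d ⊕ Fin d) (Fin d ⊕ Fin d) F := LinearMap.toMatrix' T with hAdef
    have hAT : Matrix.toLin' A = T := Matrix.toLin'_toMatrix' T
    have hmem : A ∈ Matrix.symplecticGroup (Fin d) F := by
      rw [mem_symplectic_iff_form]
      intro u v
      rw [hAdef, LinearMap.toMatrix'_mulVec, LinearMap.toMatrix'_mulVec, ← spB_apply, ← spB_apply]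
      exact hiso u v
    have hpow : A ^ r = 1 := by
      apply Matrix.toLinAlgEquiv'.injective
      rw [map_pow, map_one]
      show (Matrix.toLin' A) ^ r = 1
      rw [hAT, hTr]
    obtain ⟨D, hD, σ, hσ⟩ := hall ⟨A, hmem⟩ ⟨1, by
      rw [one_smul, SubmonoidClass.coe_pow]
      exact hpow⟩ (fun z hz => hT1 (by
        change A = _ at hz
        have hTz : T = z • 1 := by
          rw [← hAT, hz, map_smul, Matrix.toLin'_one]
          rfl
        have : Nonempty (Fin d ⊕ Fin d) := ⟨Sum.inl ⟨0, by omega⟩⟩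
        have hzr : z ^ r = 1 := by
          have h1 := hTr
          rw [hTz, _root_.smul_pow, one_pow] at h1
          exact smul_left_injective F (one_ne_zero (α := Module.End F (Fin d ⊕ Fin d → F)))
            (show z ^ r • (1 : Module.End F (Fin d ⊕ Fin d → F)) = (1 : F) • 1 by rw [h1, one_smul])
        have hzz : z * z = 1 := by
          obtain ⟨v, hv⟩ := exists_apply_ne_zero (spB_nondeg d F)
            (x := Pi.single (Sum.inl ⟨0, by omega⟩) 1) (by simp)
          have h1 := hiso (Pi.single (Sum.inl ⟨0, by omega⟩) 1) v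
          rw [hTz] at h1
          simp only [LinearMap.smul_apply, Module.End.one_apply, map_smul, smul_eq_mul] at h1
          rw [← mul_assoc] at h1
          exact mul_right_cancel₀ hv (by rw [one_mul]; exact h1)
        obtain ⟨k, hk⟩ := hr.odd_of_ne_two hr2
        have hz1 : z = 1 := by
          rw [hk, pow_succ, pow_mul, sq, hzz, one_pow, one_mul] at hzr
          exact hzr
        rw [hTz, hz1, one_smul]))
    refine ⟨D, hD, σ, fun j => ?_⟩
    rw [← hσ j]
    show (D j).map T = (D j).map (Matrix.toLin' A)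
    rw [hAT]
  · rintro ⟨-, hk⟩ x ⟨z, hz⟩ -
    set T := Matrix.toLin' (x : Matrix (Fin d ⊕ Fin d) (Fin d ⊕ Fin d) F) with hTdef
    have hiso : ∀ u v, spB d F (T u) (T v) = spB d F u v := fun u v => toLin'_mem_isom x.2 u v
    have hTz : T ^ r = z • 1 := by
      show (Matrix.toLinAlgEquiv' (x : Matrix (Fin d ⊕ Fin d) (Fin d ⊕ Fin d) F)) ^ r = _
      rw [← map_pow, ← SubmonoidClass.coe_pow, hz, map_smul, map_one]
    have hzz : z * z = 1 := by
      obtain ⟨v, hv⟩ := exists_apply_ne_zero (spB_nondeg d F)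
        (x := Pi.single (Sum.inl ⟨0, by omega⟩) 1) (by simp)
      have hk : ∀ (k : ℕ) u w, spB d F ((T ^ k) u) ((T ^ k) w) = spB d F u w := by
        intro k
        induction k with
        | zero => intro u w; rfl
        | succ k ih => intro u w; rw [pow_succ', Module.End.mul_apply, Module.End.mul_apply, hiso, ih]
      have h1 := hk r (Pi.single (Sum.inl ⟨0, by omega⟩) 1) v
      rw [hTz] at h1
      simp only [LinearMap.smul_apply, Module.End.one_apply, map_smul, smul_eq_mul] at h1
      rw [← mul_assoc] at h1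
      exact mul_right_cancel₀ hv (by rw [one_mul]; exact h1)
    have hz0 : z ≠ 0 := fun h => by rw [h, zero_mul] at hzz; exact zero_ne_one hzz
    have hSiso : ∀ u v, spB d F ((z • T) u) ((z • T) v) = spB d F u v := fun u v => by
      simp only [LinearMap.smul_apply, map_smul, smul_eq_mul]
      rw [← mul_assoc, hzz, one_mul, hiso]
    have hS : (z • T) ^ r = 1 := by
      obtain ⟨k, hk'⟩ := hr.odd_of_ne_two hr2
      rw [_root_.smul_pow, hTz, smul_smul]
      rw [show z ^ r * z = (z * z) ^ (k + 1) by rw [hk']; ring, hzz, one_pow, one_smul]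
    obtain ⟨D, hD, hmap⟩ := symp_stab hq hr2 hrp hc hat ha1 hae ht hk hSiso hS
    refine ⟨D, hD, 1, fun j => ?_⟩
    rw [← Submodule.map_smul T _ z hz0, hmap j]
    rfl

end Cfsg.Agent.S5961
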