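import Cfsg.Statements.S5962
import Cfsg.Agent.Symplectic.Std

set_option autoImplicit false
open scoped MatrixGroups
open Cfsg

namespace Cfsg.Agent.S5962

open Cfsg.Agent.Symplectic

section General

variable {F V : Type*} [Field F] [AddCommGroup V] [Module F V] [FiniteDimensional F V]

/-- Two complementary isotropic pieces inside `S`, both fixed (`b = false`) or swapped (`b = true`) by `X`. -/
def IsGoodPair (B : LinearMap.BilinForm F V) (X : Module.End F V) (b : Bool) (S U W : Submodule F V) : Prop :=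
  U ⊔ W = S ∧ Disjoint U W ∧ (∀ u ∈ U, ∀ v ∈ U, B u v = 0) ∧ (∀ u ∈ W, ∀ v ∈ W, B u v = 0) ∧
    U.map X ≤ cond b W U ∧ W.map X ≤ cond b U W

theorem exists_good_pair (B : LinearMap.BilinForm F V) (hB : B.IsAlt) (X : Module.End F V) (z : F) (hz : z ≠ 0)
    (hXX : ∀ v, X (X v) = z • v) (hXB : ∀ u v, B (X u) (X v) = B u v) (b : Bool)
    (hstep : ∀ S : Submodule F V, S.map X ≤ S → (∀ u ∈ S, u ≠ 0 → ∃ v ∈ S, B u v ≠ 0) → S ≠ ⊥ →
      ∃ u ∈ S, ∃ w ∈ S, B u w ≠ 0 ∧ (Submodule.span F {u}).map X ≤ Submodule.span F {cond b w u} ∧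
        (Submodule.span F {w}).map X ≤ Submodule.span F {cond b u w})
    (k : ℕ) (S : Submodule F V) (hk : Module.finrank F S = k) (hinv : S.map X ≤ S)
    (hnd : ∀ u ∈ S, u ≠ 0 → ∃ v ∈ S, B u v ≠ 0) :
    ∃ U W, IsGoodPair B X b S U W := by
  induction k using Nat.strong_induction_on generalizing S with
  | _ k ih =>
  by_cases hS : S = ⊥
  · subst hS
    exact ⟨⊥, ⊥, by simp, by simp, by simp, by simp, by simp, by simp⟩
  obtain ⟨u, hu, w, hw, huw, hXu, hXw⟩ := hstep S hinv hnd hS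
  have hwu : B w u = - B u w := alt_swap hB w u
  let S' : Submodule F V := S ⊓ LinearMap.ker (B u) ⊓ LinearMap.ker (B w)
  have hmem : ∀ s, s ∈ S' ↔ s ∈ S ∧ B u s = 0 ∧ B w s = 0 := fun s => by
    simp [S', and_assoc]
  have hproj : ∀ s ∈ S, s - (B u s / B u w) • w + (B w s / B u w) • u ∈ S' := by
    intro s hs
    rw [hmem]
    refine ⟨S.add_mem (S.sub_mem hs (S.smul_mem _ hw)) (S.smul_mem _ hu), ?_, ?_⟩
    · simp [hB.self_eq_zero u, div_mul_cancel₀ _ huw]
    · simp [hB.self_eq_zero w, hwu, mul_neg, div_mul_cancel₀ _ huw]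
  have hlt : Module.finrank F S' < k := by
    rw [← hk]
    refine Submodule.finrank_lt_finrank_of_lt (lt_of_le_of_ne (fun s hs => ((hmem s).1 hs).1) ?_)
    intro h
    have : w ∈ S' := by rw [h]; exact hw
    exact huw ((hmem w).1 this).2.1
  -- images of `u` and `w` are combinations of `u` and `w`
  have hspan : ∀ c, c = u ∨ c = w → ∀ s, B u s = 0 → B w s = 0 → B c (X s) = 0 := by
    intro c hc s h1 h2
    have hcc : z * B c (X s) = B (X c) s := by
      rw [← hXB (X c) s, hXX, map_smul, LinearMap.smul_apply, smul_eq_mul]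
    have hXc : ∃ d e : F, X c = d • u + e • w := by
      have h' : ∀ (y : V), y ∈ Submodule.span F {u} ∨ y ∈ Submodule.span F {w} → ∃ d e : F, y = d • u + e • w := by
        intro y hy
        rcases hy with hy | hy <;> obtain ⟨d, rfl⟩ := Submodule.mem_span_singleton.1 hy
        · exact ⟨d, 0, by simp⟩
        · exact ⟨0, d, by simp⟩
      apply h'
      rcases hc with rfl | rfl
      · have := hXu (Submodule.mem_map_of_mem (Submodule.mem_span_singleton_self _))
        cases b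
        · exact Or.inl this
        · exact Or.inr this
      · have := hXw (Submodule.mem_map_of_mem (Submodule.mem_span_singleton_self _))
        cases b
        · exact Or.inr this
        · exact Or.inl this
    obtain ⟨d, e, hde⟩ := hXc
    rw [hde] at hcc
    simp [h1, h2] at hcc
    exact hcc.resolve_left hz
  have hinv' : S'.map X ≤ S' := by
    rintro _ ⟨s, hs, rfl⟩
    obtain ⟨h0, h1, h2⟩ := (hmem s).1 hs
    exact (hmem _).2 ⟨hinv (Submodule.mem_map_of_mem h0), hspan u (Or.inl rfl) s h1 h2, hspan w (Or.inr rfl) s h1 h2⟩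
  have hnd' : ∀ s ∈ S', s ≠ 0 → ∃ v ∈ S', B s v ≠ 0 := by
    intro s hs hs0
    obtain ⟨h0, h1, h2⟩ := (hmem s).1 hs
    obtain ⟨v, hv, hsv⟩ := hnd s h0 hs0
    refine ⟨_, hproj v hv, ?_⟩
    have h1' : B s u = 0 := by rw [alt_swap hB s u, h1, neg_zero]
    have h2' : B s w = 0 := by rw [alt_swap hB s w, h2, neg_zero]
    simpa [h1', h2'] using hsv
  obtain ⟨U, W, hsup, hdis, hU, hW, hXU, hXW⟩ := ih _ hlt S' rfl hinv' hnd'
  have hUS : U ≤ S' := hsup ▸ le_sup_left
  have hWS : W ≤ S' := hsup ▸ le_sup_right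
  refine ⟨Submodule.span F {u} ⊔ U, Submodule.span F {w} ⊔ W, ?_, ?_, ?_, ?_, ?_, ?_⟩
  · rw [sup_sup_sup_comm, hsup]
    apply le_antisymm
    · refine sup_le (sup_le ?_ ?_) (fun s hs => ((hmem s).1 hs).1) <;> rw [Submodule.span_singleton_le_iff_mem] <;> assumption
    · intro s hs
      have h := hproj s hs
      have he : s = ((-(B w s / B u w)) • u + (B u s / B u w) • w) + (s - (B u s / B u w) • w + (B w s / B u w) • u) := by
        rw [neg_smul]; abel
      rw [he]
      exact Submodule.add_mem_sup (Submodule.add_mem_sup (Submodule.smul_mem _ _ (Submodule.mem_span_singleton_self _))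
        (Submodule.smul_mem _ _ (Submodule.mem_span_singleton_self _))) h
  · rw [Submodule.disjoint_def]
    intro y hy1 hy2
    obtain ⟨a, ha, a', ha', rfl⟩ := Submodule.mem_sup.1 hy1
    obtain ⟨c, hc, c', hc', he⟩ := Submodule.mem_sup.1 hy2
    obtain ⟨d, rfl⟩ := Submodule.mem_span_singleton.1 ha
    obtain ⟨e, rfl⟩ := Submodule.mem_span_singleton.1 hc
    obtain ⟨-, a1, a2⟩ := (hmem a').1 (hUS ha')
    obtain ⟨-, c1, c2⟩ := (hmem c').1 (hWS hc')
    have k1 := congrArg (B u) he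
    have k2 := congrArg (B w) he
    simp [a1, a2, c1, c2, hB.self_eq_zero u, hB.self_eq_zero w, hwu] at k1 k2
    have he0 : e = 0 := k1.resolve_right huw
    have hd0 : d = 0 := k2.resolve_right huw
    rw [he0, hd0, zero_smul, zero_smul, zero_add, zero_add] at he
    rw [hd0, zero_smul, zero_add]
    subst he
    exact Submodule.disjoint_def.1 hdis _ ha' hc'
  · intro y hy y' hy'
    obtain ⟨a, ha, a', ha', rfl⟩ := Submodule.mem_sup.1 hy
    obtain ⟨c, hc, c', hc', rfl⟩ := Submodule.mem_sup.1 hy'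
    obtain ⟨d, rfl⟩ := Submodule.mem_span_singleton.1 ha
    obtain ⟨e, rfl⟩ := Submodule.mem_span_singleton.1 hc
    obtain ⟨-, a1, -⟩ := (hmem a').1 (hUS ha')
    obtain ⟨-, c1, -⟩ := (hmem c').1 (hUS hc')
    have a1' : B a' u = 0 := by rw [alt_swap hB a' u, a1, neg_zero]
    simp [hB.self_eq_zero u, a1', c1, hU a' ha' c' hc']
  · intro y hy y' hy'
    obtain ⟨a, ha, a', ha', rfl⟩ := Submodule.mem_sup.1 hy
    obtain ⟨c, hc, c', hc', rfl⟩ := Submodule.mem_sup.1 hy'
    obtain ⟨d, rfl⟩ := Submodule.mem_span_singleton.1 ha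
    obtain ⟨e, rfl⟩ := Submodule.mem_span_singleton.1 hc
    obtain ⟨-, -, a2⟩ := (hmem a').1 (hWS ha')
    obtain ⟨-, -, c2⟩ := (hmem c').1 (hWS hc')
    have a2' : B a' w = 0 := by rw [alt_swap hB a' w, a2, neg_zero]
    simp [hB.self_eq_zero w, a2', c2, hW a' ha' c' hc']
  · rw [Submodule.map_sup]
    cases b
    · exact sup_le_sup hXu hXU
    · exact sup_le_sup hXu hXU
  · rw [Submodule.map_sup]
    cases b
    · exact sup_le_sup hXw hXW
    · exact sup_le_sup hXw hXW

/-- The step for the construction: a hyperbolic pair of eigenvectors, or a pair `v, X v`. -/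
theorem exists_step (B : LinearMap.BilinForm F V) (hB : B.IsAlt) (X : Module.End F V) (z : F) (hz : z ≠ 0)
    (h2 : (2 : F) ≠ 0)
    (hXX : ∀ v, X (X v) = z • v) (hXB : ∀ u v, B (X u) (X v) = B u v) (hzz : z * z = 1) :
    ∃ b : Bool, ∀ S : Submodule F V, S.map X ≤ S → (∀ u ∈ S, u ≠ 0 → ∃ v ∈ S, B u v ≠ 0) → S ≠ ⊥ →
      ∃ u ∈ S, ∃ w ∈ S, B u w ≠ 0 ∧ (Submodule.span F {u}).map X ≤ Submodule.span F {cond b w u} ∧
        (Submodule.span F {w}).map X ≤ Submodule.span F {cond b u w} := by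
  by_cases hc : ∃ c : F, c * c = z
  · obtain ⟨c, hc⟩ := hc
    have hc0 : c ≠ 0 := by rintro rfl; exact hz (by simpa using hc.symm)
    refine ⟨false, fun S hinv hnd hS => ?_⟩
    have heig : ∀ s ∈ S, ∃ s₁ ∈ S, ∃ s₂ ∈ S, X s₁ = c • s₁ ∧ X s₂ = (-c) • s₂ ∧ s₁ + s₂ = (2 : F) • s := by
      intro s hs
      have hXs : X s ∈ S := hinv (Submodule.mem_map_of_mem hs)
      refine ⟨s + c⁻¹ • X s, S.add_mem hs (S.smul_mem _ hXs), s - c⁻¹ • X s, S.sub_mem hs (S.smul_mem _ hXs), ?_, ?_, ?_⟩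
      · rw [map_add, map_smul, hXX, ← hc, smul_smul, inv_mul_cancel_left₀ hc0, smul_add, smul_smul, mul_inv_cancel₀ hc0,
          one_smul, add_comm]
      · rw [map_sub, map_smul, hXX, ← hc, smul_smul, inv_mul_cancel_left₀ hc0, smul_sub, smul_smul, neg_smul,
          neg_mul, mul_inv_cancel₀ hc0, neg_smul, one_smul]
        abel
      · rw [two_smul]; abel
    have hspan : ∀ (y : V) (d : F), X y = d • y → (Submodule.span F {y}).map X ≤ Submodule.span F {y} := by
      intro y d hy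
      rw [Submodule.map_span_le]
      rintro _ rfl
      rw [hy]
      exact Submodule.smul_mem _ _ (Submodule.mem_span_singleton_self _)
    obtain ⟨s, hs, hs0⟩ := Submodule.exists_mem_ne_zero_of_ne_bot hS
    obtain ⟨u, hu, hu0, d, hud⟩ : ∃ u ∈ S, u ≠ 0 ∧ ∃ d : F, X u = d • u := by
      obtain ⟨s₁, h1, s₂, h1', e1, e2, e3⟩ := heig s hs
      by_cases h : s₁ = 0
      · refine ⟨s₂, h1', fun h' => ?_, _, e2⟩
        rw [h, h', add_zero] at e3
        exact hs0 ((smul_eq_zero.1 e3.symm).resolve_left h2)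
      · exact ⟨s₁, h1, h, _, e1⟩
    obtain ⟨t, ht, hut⟩ := hnd u hu hu0
    obtain ⟨t₁, h1, t₂, h1', e1, e2, e3⟩ := heig t ht
    obtain ⟨w, hw, huw, e, hwe⟩ : ∃ w ∈ S, B u w ≠ 0 ∧ ∃ e : F, X w = e • w := by
      by_cases h : B u t₁ = 0
      · refine ⟨t₂, h1', fun h' => ?_, _, e2⟩
        have := congrArg (B u) e3
        rw [map_add, h, h', add_zero, map_smul] at this
        exact hut ((mul_eq_zero.1 this.symm).resolve_left h2)
      · exact ⟨t₁, h1, h, _, e1⟩
    exact ⟨u, hu, w, hw, huw, hspan u d hud, hspan w e hwe⟩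
  · refine ⟨true, fun S hinv hnd hS => ?_⟩
    have hz1 : z = -1 := by
      rcases mul_self_eq_one_iff.1 hzz with h | h
      · exact absurd ⟨1, by rw [h, one_mul]⟩ hc
      · exact h
    obtain ⟨v, hv, hvv⟩ : ∃ v ∈ S, B v (X v) ≠ 0 := by
      by_contra hno
      push Not at hno
      obtain ⟨s, hs, hs0⟩ := Submodule.exists_mem_ne_zero_of_ne_bot hS
      obtain ⟨t, ht, hst⟩ := hnd s hs hs0
      have hXt : z⁻¹ • X t ∈ S := S.smul_mem _ (hinv (Submodule.mem_map_of_mem ht))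
      have key : ∀ a ∈ S, ∀ c ∈ S, B a (X c) = 0 := by
        intro a ha c hc'
        have h0 := hno (a + c) (S.add_mem ha hc')
        simp [hno a ha, hno c hc'] at h0
        have h1 : B c (X a) = B a (X c) := by
          rw [alt_swap hB c (X a), ← hXB (X a) c, hXX, map_smul, LinearMap.smul_apply, smul_eq_mul, hz1, neg_one_mul, neg_neg]
        rw [h1, ← two_mul] at h0
        exact (mul_eq_zero.1 h0).resolve_left h2
      apply hst
      have := key s hs _ hXt
      rwa [map_smul X, hXX, smul_smul, inv_mul_cancel₀ hz, one_smul] at this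
    refine ⟨v, hv, X v, hinv (Submodule.mem_map_of_mem hv), hvv, ?_, ?_⟩ <;>
      rw [Submodule.map_span_le] <;> rintro _ rfl
    · exact Submodule.mem_span_singleton_self _
    · rw [hXX]; exact Submodule.smul_mem _ _ (Submodule.mem_span_singleton_self _)

end General

/-- Involutions of PSp_n(q), q odd, and the subgroups GL_{n/2}(q).2. Here `T = PSp_n(q)`, `n = 2d ≥ 4`, `q` odd, realised through the symplectic matrices over the field `F` with `q` elements; Ω is the set of unordered pairs `{U, W}` of complementary totally isotropic `d`-spaces (`F^n = U ⊕ W`), whose stabilizers are the subgroups of type GL_d(q).2 (maximal except in some small cases; maximality is not assumed); an element of `T` of prime order `r` (a symplectic matrix `x` with `x^r` scalar, `x` not scalar) fixes such a pair when it fixes or interchanges `U` and `W`. If the number of such pairs is even, every involution of `T` fixes one of them (the action is 2-elusive). -/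
theorem result {F : Type*} [Field F] [Fintype F] {p : ℕ} [Fact p.Prime] [CharP F p] {q : ℕ} (hq : Fintype.card F = q)
    (d : ℕ) (hd : 2 ≤ d) (hT : (d, q) ≠ (2, 2)) (hodd : Odd q)
    (hΩ : 2 ∣ Nat.card {P : Submodule F (Fin d ⊕ Fin d → F) × Submodule F (Fin d ⊕ Fin d → F) // IsCompl P.1 P.2 ∧ (∀ u ∈ P.1, ∀ v ∈ P.1, Cfsg.sympForm d F u v = 0) ∧ (∀ u ∈ P.2, ∀ v ∈ P.2, Cfsg.sympForm d F u v = 0)} / 2)
    (x : ↥(Matrix.symplecticGroup (Fin d) F))
    (hx1 : ∃ z : F, ((x ^ 2 : ↥(Matrix.symplecticGroup (Fin d) F)) : Matrix (Fin d ⊕ Fin d) (Fin d ⊕ Fin d) F) = z • (1 : Matrix (Fin d ⊕ Fin d) (Fin d ⊕ Fin d) F))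
    (hx2 : ∀ z : F, (x : Matrix (Fin d ⊕ Fin d) (Fin d ⊕ Fin d) F) ≠ z • (1 : Matrix (Fin d ⊕ Fin d) (Fin d ⊕ Fin d) F)) :
    ∃ U W : Submodule F (Fin d ⊕ Fin d → F), IsCompl U W ∧ (∀ u ∈ U, ∀ v ∈ U, Cfsg.sympForm d F u v = 0) ∧ (∀ u ∈ W, ∀ v ∈ W, Cfsg.sympForm d F u v = 0) ∧
        ((U.map (Matrix.toLin' (x : Matrix (Fin d ⊕ Fin d) (Fin d ⊕ Fin d) F)) = U ∧ W.map (Matrix.toLin' (x : Matrix (Fin d ⊕ Fin d) (Fin d ⊕ Fin d) F)) = W) ∨
         (U.map (Matrix.toLin' (x : Matrix (Fin d ⊕ Fin d) (Fin d ⊕ Fin d) F)) = W ∧ W.map (Matrix.toLin' (x : Matrix (Fin d ⊕ Fin d) (Fin d ⊕ Fin d) F)) = U)) := by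
  obtain ⟨z, hz⟩ := hx1
  set X : Module.End F (Fin d ⊕ Fin d → F) :=
    Matrix.toLin' (x : Matrix (Fin d ⊕ Fin d) (Fin d ⊕ Fin d) F) with hX
  set B := spB d F with hBdef
  have hXB : ∀ u v, B (X u) (X v) = B u v := fun u v => by
    simp only [X, Matrix.toLin'_apply]
    exact toLin'_mem_isom x.2 u v
  have hXX : ∀ v, X (X v) = z • v := fun v => by
    simp only [X, Matrix.toLin'_apply]
    rw [Matrix.mulVec_mulVec, ← pow_two]
    have : ((x ^ 2 : ↥(Matrix.symplecticGroup (Fin d) F)) : Matrix (Fin d ⊕ Fin d) (Fin d ⊕ Fin d) F) =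
        (x : Matrix (Fin d ⊕ Fin d) (Fin d ⊕ Fin d) F) ^ 2 := rfl
    rw [← this, hz, Matrix.smul_mulVec, Matrix.one_mulVec]
  have hnd : ∀ u ∈ (⊤ : Submodule F (Fin d ⊕ Fin d → F)), u ≠ 0 → ∃ v ∈ (⊤ : Submodule F (Fin d ⊕ Fin d → F)), B u v ≠ 0 := by
    intro u _ hu
    obtain ⟨v, hv⟩ := exists_apply_ne_zero (spB_nondeg d F) hu
    exact ⟨v, Submodule.mem_top, hv⟩
  have hzz : z * z = 1 := by
    let i0 : Fin d ⊕ Fin d := Sum.inl ⟨0, by omega⟩
    have hne : (Pi.single i0 1 : Fin d ⊕ Fin d → F) ≠ 0 := fun h => by simpa using congrFun h i0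
    obtain ⟨v, -, hv⟩ := hnd _ Submodule.mem_top hne
    have h := hXB (X (Pi.single i0 1)) (X v)
    rw [hXX, hXX, hXB, LinearMap.map_smul, LinearMap.map_smul, LinearMap.smul_apply, smul_eq_mul, smul_eq_mul, ← mul_assoc] at h
    exact mul_left_eq_self₀.1 h |>.resolve_right hv
  have hz0 : z ≠ 0 := fun h => by simp [h] at hzz
  have h2 : (2 : F) ≠ 0 := by
    refine Ring.two_ne_zero fun h => ?_
    haveI : CharP F 2 := ringChar.of_eq h
    have := FiniteField.even_card_of_char_two h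
    rw [hq] at this
    exact absurd (Nat.odd_iff.1 hodd) (by omega)
  obtain ⟨b, hstep⟩ := exists_step B (spB_alt d F) X z hz0 h2 hXX hXB hzz
  obtain ⟨U, W, hsup, hdis, hU, hW, hXU, hXW⟩ :=
    exists_good_pair B (spB_alt d F) X z hz0 hXX hXB b hstep _ ⊤ rfl le_top hnd
  have hback : ∀ M : Submodule F (Fin d ⊕ Fin d → F), M ≤ (M.map X).map X := by
    intro M v hv
    refine ⟨X (z⁻¹ • v), ⟨_, M.smul_mem _ hv, rfl⟩, ?_⟩
    rw [hXX, smul_smul, mul_inv_cancel₀ hz0, one_smul]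
  refine ⟨U, W, ⟨hdis, codisjoint_iff.2 hsup⟩, fun u hu v hv => by simpa [B] using hU u hu v hv,
    fun u hu v hv => by simpa [B] using hW u hu v hv, ?_⟩
  cases b
  · exact Or.inl ⟨le_antisymm hXU ((hback U).trans (Submodule.map_mono hXU)),
      le_antisymm hXW ((hback W).trans (Submodule.map_mono hXW))⟩
  · exact Or.inr ⟨le_antisymm hXU ((hback W).trans (Submodule.map_mono hXW)),
      le_antisymm hXW ((hback U).trans (Submodule.map_mono hXU))⟩

end Cfsg.Agent.S5962
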