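import Cfsg.Statements.S5963
import Cfsg.Agent.H90.SympPairs
import Cfsg.Agent.H90.SympDerangement

set_option autoImplicit false
open scoped MatrixGroups
open Cfsg

namespace Cfsg.Agent.S5963

/-- Derangements of odd prime order of PSp_n(q), q odd, on pairs of complementary totally isotropic subspaces. Here `T = PSp_n(q)`, `n = 2d ≥ 4`, `q` odd, realised through the symplectic matrices over the field `F` with `q` elements; Ω is the set of unordered pairs `{U, W}` of complementary totally isotropic `d`-spaces (`F^n = U ⊕ W`), whose stabilizers are the subgroups of type GL_d(q).2 (maximal except in some small cases; maximality is not assumed); an element of `T` of prime order `r` (a symplectic matrix `x` with `x^r` scalar, `x` not scalar) fixes such a pair when it fixes or interchanges `U` and `W`. For every odd prime `r ≠ p` dividing the number of such pairs, some element of `T` of order `r` fixes no such pair (the action is never `r`-elusive for odd `r ≠ p`).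 -/
theorem result {F : Type*} [Field F] [Fintype F] {p : ℕ} [Fact p.Prime] [CharP F p] {q : ℕ} (hq : Fintype.card F = q)
    (d : ℕ) (hd : 2 ≤ d) (hT : (d, q) ≠ (2, 2)) (hodd : Odd q)
    (r : ℕ) [Fact r.Prime] (hr2 : r ≠ 2) (hrp : r ≠ p) (hΩ : r ∣ Nat.card {P : Submodule F (Fin d ⊕ Fin d → F) × Submodule F (Fin d ⊕ Fin d → F) // IsCompl P.1 P.2 ∧ (∀ u ∈ P.1, ∀ v ∈ P.1, Cfsg.sympForm d F u v = 0) ∧ (∀ u ∈ P.2, ∀ v ∈ P.2, Cfsg.sympForm d F u v = 0)} / 2) :
    ∃ x : ↥(Matrix.symplecticGroup (Fin d) F),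
      (∃ z : F, ((x ^ r : ↥(Matrix.symplecticGroup (Fin d) F)) : Matrix (Fin d ⊕ Fin d) (Fin d ⊕ Fin d) F) = z • (1 : Matrix (Fin d ⊕ Fin d) (Fin d ⊕ Fin d) F)) ∧
      (∀ z : F, (x : Matrix (Fin d ⊕ Fin d) (Fin d ⊕ Fin d) F) ≠ z • (1 : Matrix (Fin d ⊕ Fin d) (Fin d ⊕ Fin d) F)) ∧
      ¬ (∃ U W : Submodule F (Fin d ⊕ Fin d → F), IsCompl U W ∧ (∀ u ∈ U, ∀ v ∈ U, Cfsg.sympForm d F u v = 0) ∧ (∀ u ∈ W, ∀ v ∈ W, Cfsg.sympForm d F u v = 0) ∧
        ((U.map (Matrix.toLin' (x : Matrix (Fin d ⊕ Fin d) (Fin d ⊕ Fin d) F)) = U ∧ W.map (Matrix.toLin' (x : Matrix (Fin d ⊕ Fin d) (Fin d ⊕ Fin d) F)) = W) ∨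
         (U.map (Matrix.toLin' (x : Matrix (Fin d ⊕ Fin d) (Fin d ⊕ Fin d) F)) = W ∧ W.map (Matrix.toLin' (x : Matrix (Fin d ⊕ Fin d) (Fin d ⊕ Fin d) F)) = U))) := by
  classical
  subst hq
  have hr : r.Prime := Fact.out
  have hrq : ¬ r ∣ Fintype.card F := by
    obtain ⟨n, hp, hn⟩ := FiniteField.card F p
    rw [hn]
    intro h
    exact hrp ((Nat.prime_dvd_prime_iff_eq hr hp).mp (hr.dvd_of_dvd_pow h))
  have hcount : r ∣ Nat.card (Cfsg.Agent.H90.SympPairs.Pairs d F) := by
    have h2 : 2 * (Nat.card (Cfsg.Agent.H90.SympPairs.Pairs d F) / 2) ≤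
        Nat.card (Cfsg.Agent.H90.SympPairs.Pairs d F) := Nat.mul_div_le _ _
    rcases Nat.even_or_odd (Nat.card (Cfsg.Agent.H90.SympPairs.Pairs d F)) with he | ho
    · exact hΩ.trans (Nat.div_dvd_of_dvd he.two_dvd)
    · exfalso
      haveI : Finite (Submodule F (Fin d ⊕ Fin d → F)) := Finite.of_injective _ SetLike.coe_injective
      haveI : Fintype (Cfsg.Agent.H90.SympPairs.Pairs d F) := Fintype.ofFinite _
      have hswap : ∀ P : Cfsg.Agent.H90.SympPairs.Pairs d F,
          IsCompl P.1.swap.1 P.1.swap.2 := fun P => P.2.1.symm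
      let σ : Cfsg.Agent.H90.SympPairs.Pairs d F → Cfsg.Agent.H90.SympPairs.Pairs d F :=
        fun P => ⟨P.1.swap, hswap P, P.2.2.2, P.2.2.1⟩
      have hne : ∀ P, σ P ≠ P := fun P h => by
        have h1 : P.1.2 = P.1.1 := congrArg (fun Q => Q.1.1) h
        have h2 := P.2.1.inf_eq_bot
        have h3 := P.2.1.sup_eq_top
        rw [h1, inf_idem] at h2
        rw [h1, h2, sup_idem] at h3
        have h4 := congrArg (fun S : Submodule F (Fin d ⊕ Fin d → F) => Module.finrank F S) h3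
        simp only [finrank_bot, finrank_top, Module.finrank_pi, Fintype.card_sum, Fintype.card_fin] at h4
        omega
      have h2 : (2 : ℕ) ∣ Fintype.card (Cfsg.Agent.H90.SympPairs.Pairs d F) := by
        haveI : Fact (Nat.Prime 2) := ⟨Nat.prime_two⟩
        let e : Equiv.Perm (Cfsg.Agent.H90.SympPairs.Pairs d F) :=
          ⟨σ, σ, fun P => Subtype.ext (Prod.swap_swap _), fun P => Subtype.ext (Prod.swap_swap _)⟩
        by_contra hodd2
        obtain ⟨P, hP⟩ := Equiv.Perm.exists_fixed_point_of_prime (n := 1) hodd2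
          (σ := e) (Equiv.ext fun P => Subtype.ext (Prod.swap_swap _))
        exact hne P hP
      rw [← Nat.card_eq_fintype_card] at h2
      exact Nat.not_even_iff_odd.mpr ho ((even_iff_two_dvd).mpr h2)
  obtain ⟨i, hi1, hid, hir⟩ :=
    Cfsg.Agent.H90.SympPairs.exists_dvd_add_one r hr hrq hcount
  obtain ⟨x, hxr, hxs, hxd⟩ :=
    Cfsg.Agent.H90.SympDerangement.exists_derangement (p := p) d hr2 hrp hi1 hid hir
  refine ⟨x, ⟨1, by rw [hxr, one_smul]; rfl⟩, hxs, ?_⟩
  rintro ⟨U, W, hc, hU, hW, ⟨hUU, hWW⟩ | ⟨hUW, hWU⟩⟩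
  · exact hxd U W hc hU hW hUU.le hWW.le
  · -- an element of odd order cannot interchange
    set T := Matrix.toLin' (x : Matrix (Fin d ⊕ Fin d) (Fin d ⊕ Fin d) F) with hT
    have hTr : T ^ r = 1 := by
      show (Matrix.toLinAlgEquiv' (x : Matrix (Fin d ⊕ Fin d) (Fin d ⊕ Fin d) F)) ^ r = 1
      rw [← map_pow, ← SubmonoidClass.coe_pow, hxr, Submonoid.coe_one, map_one]
    have heven : ∀ k, U.map (T ^ (2 * k)) = U ∧ W.map (T ^ (2 * k)) = W := by
      intro k
      induction k with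
      | zero => exact ⟨Submodule.map_id U, Submodule.map_id W⟩
      | succ k ih =>
        rw [show 2 * (k + 1) = (2 * k + 1) + 1 by ring, pow_succ', pow_succ']
        constructor
        · rw [Module.End.mul_eq_comp, Module.End.mul_eq_comp, Submodule.map_comp, Submodule.map_comp,
            ih.1, hUW, hWU]
        · rw [Module.End.mul_eq_comp, Module.End.mul_eq_comp, Submodule.map_comp, Submodule.map_comp,
            ih.2, hWU, hUW]
    obtain ⟨k, hk⟩ := hr.odd_of_ne_two hr2
    have h1 : T ^ (2 * (k + 1)) = T := by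
      rw [show 2 * (k + 1) = r + 1 by omega, pow_succ, hTr, one_mul]
    have := heven (k + 1)
    rw [h1] at this
    exact hxd U W hc hU hW this.1.le this.2.le

end Cfsg.Agent.S5963
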