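import Cfsg.Statements.S5964
import Cfsg.Agent.H99.Subfield
import Cfsg.Agent.H99.FieldExt
import Cfsg.Agent.H99.Diag
import Cfsg.Agent.Linear.Order
-- import your own Cfsg.Agent.* helpers here

set_option autoImplicit false
open scoped MatrixGroups
open Cfsg

namespace Cfsg.Agent.S5964

open Cfsg.Agent.H99 Cfsg.Geo
open scoped Matrix

variable {F : Type*} [Field F]

theorem odd_factor (b d : ℕ) (hb : Odd b) (hd : Even d) :
    ∀ u : ℕ, ∃ o, Odd o ∧ (b + d) ^ (2 * u + 1) = b ^ (2 * u + 1) + d * o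
  | 0 => ⟨1, odd_one, by simp⟩
  | u + 1 => by
    obtain ⟨o, ho, he⟩ := odd_factor b d hb hd u
    refine ⟨(b + d) ^ 2 * o + (2 * b + d) * b ^ (2 * u + 1), ?_, ?_⟩
    · exact ((hb.add_even hd).pow.mul ho).add_even (((even_two_mul b).add hd).mul_right _)
    · rw [show 2 * (u + 1) + 1 = (2 * u + 1) + 2 by ring, pow_add, he]
      ring

theorem odd_factor_sub {a b k : ℕ} (ha : Odd a) (hb : Odd b) (hk : Odd k) (hab : b ≤ a) :
    ∃ o, Odd o ∧ a ^ k - b ^ k = (a - b) * o := by
  obtain ⟨d, rfl⟩ := Nat.exists_eq_add_of_le hab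
  obtain ⟨u, rfl⟩ := hk
  have hd : Even d := by
    rw [Nat.odd_iff] at ha hb
    rw [Nat.even_iff]; omega
  obtain ⟨o, ho, he⟩ := odd_factor b d hb hd u
  exact ⟨o, ho, by rw [he, Nat.add_sub_cancel_left, Nat.add_sub_cancel_left]⟩

/-- For odd `q₀` and odd `k` the subfield subgroup has odd index. -/
theorem index_odd [Fintype F] {n q₀ k : ℕ} (hn : 1 ≤ n) (F₀ : Subfield F) (hF₀ : Nat.card F₀ = q₀) (hq : Fintype.card F = q₀ ^ k)
    (h0 : Odd q₀) (hk : Odd k) : Odd (slSubfield n F₀).index := by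
  classical
  haveI : NeZero n := ⟨by omega⟩
  haveI : Fintype F₀ := Fintype.ofFinite _
  rw [Nat.card_eq_fintype_card] at hF₀
  let f : Matrix.SpecialLinearGroup (Fin n) F₀ →* Matrix.SpecialLinearGroup (Fin n) F := Matrix.SpecialLinearGroup.map F₀.subtype
  have hf : Function.Injective f := fun a b h => Subtype.ext (Matrix.map_injective F₀.subtype.injective (congrArg Subtype.val h))
  have hle : f.range ≤ slSubfield n F₀ := by
    rintro _ ⟨a, rfl⟩
    exact (mem_subfield_iff F₀ _).2 ⟨1, (a : Matrix (Fin n) (Fin n) F₀), one_ne_zero, by rw [a.det_coe]; exact one_ne_zero,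
      by rw [one_smul]; rfl⟩
  have hcardR : Nat.card f.range = Nat.card (Matrix.SpecialLinearGroup (Fin n) F₀) :=
    (Nat.card_congr (MonoidHom.ofInjective hf).toEquiv).symm
  have hqodd : 1 < q₀ := hF₀ ▸ Fintype.one_lt_card
  have h1 := Cfsg.Agent.Linear.card_SL_mul (F := F) n hn
  have h2 := Cfsg.Agent.Linear.card_SL_mul (F := F₀) n hn
  rw [hq] at h1
  rw [hF₀] at h2
  have hfac : ∀ i : Fin n, ∃ o, Odd o ∧ (q₀ ^ k) ^ n - (q₀ ^ k) ^ (i : ℕ) = (q₀ ^ n - q₀ ^ (i : ℕ)) * o := fun i => by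
    rw [← pow_mul, ← pow_mul, mul_comm k, mul_comm k, pow_mul, pow_mul]
    exact odd_factor_sub h0.pow h0.pow hk (Nat.pow_le_pow_right (by omega) i.2.le)
  choose o ho hfo using hfac
  rw [Finset.prod_congr rfl (fun i _ => hfo i), Finset.prod_mul_distrib, ← h2, ← f.range.card_mul_index, hcardR] at h1
  obtain ⟨o₁, ho₁, hfo₁⟩ := odd_factor_sub h0 odd_one hk (by omega)
  rw [one_pow] at hfo₁
  rw [hfo₁] at h1
  have hpos : 0 < (q₀ - 1) * Nat.card (Matrix.SpecialLinearGroup (Fin n) F₀) := Nat.mul_pos (by omega) Nat.card_pos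
  have h3 : o₁ * f.range.index = ∏ i, o i := Nat.eq_of_mul_eq_mul_left hpos (by rw [← h1]; ring)
  have h4 : Odd (f.range.index) := Nat.Odd.of_mul_right (h3 ▸ Finset.prod_induction o Odd (fun _ _ => Odd.mul) odd_one fun i _ => ho i)
  obtain ⟨c, hc⟩ := Subgroup.index_dvd_of_le hle
  exact Nat.Odd.of_mul_left (hc ▸ h4)

/-- The square root of `z` with blocks `[[0, z], [1, 0]]`. -/
def blockRoot (z : F) {n m : ℕ} (e : Fin 2 × Fin m ≃ Fin n) : Matrix (Fin n) (Fin n) F :=
  Matrix.reindex e e (Matrix.blockDiagonal fun _ : Fin m => !![0, z; 1, 0])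

theorem det_blockRoot (z : F) {n m : ℕ} (e : Fin 2 × Fin m ≃ Fin n) : (blockRoot z e).det = (-z) ^ m := by
  rw [blockRoot, Matrix.det_reindex_self, Matrix.det_blockDiagonal]
  simp [Matrix.det_fin_two]

theorem blockRoot_sq (z : F) {n m : ℕ} (e : Fin 2 × Fin m ≃ Fin n) :
    blockRoot z e * blockRoot z e = z • (1 : Matrix (Fin n) (Fin n) F) := by
  rw [blockRoot, Matrix.reindex_apply, Matrix.submatrix_mul_equiv, ← Matrix.blockDiagonal_mul]
  have h : (fun _ : Fin m => !![(0 : F), z; 1, 0] * !![0, z; 1, 0]) = z • (1 : Fin m → Matrix (Fin 2) (Fin 2) F) := by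
    funext i; ext r c; fin_cases r <;> fin_cases c <;> simp [Matrix.mul_apply, Fin.sum_univ_two]
  rw [h, Matrix.blockDiagonal_smul, Matrix.blockDiagonal_one, Matrix.submatrix_smul, Pi.smul_apply, Pi.smul_apply, Matrix.submatrix_one_equiv]


/-- Involutions of PSL_n(q) and subfield subgroups. Here `T = PSL_n(F)` for a field `F` with `q = p^f` elements (`n ≥ 2`, `(n, q) ≠ (2, 2), (2, 3)`), `F₀` is the subfield with `q₀` elements where `q = q₀^k` for a prime `k`, and `H` is the subgroup of matrices of determinant 1 lying in the subfield group of `F₀` (invertible matrices over `F₀` times scalars) — a maximal subgroup of type GL_n(q₀) (the case `n = 2`, `q₀ = 2` is excluded); Ω is the set of `T`-conjugates of `H` (cosets of `H`), so an element of `T` of prime order `r` (a matrix `x` of determinant 1 with `x^r` scalar, `x` not scalar) fixes a point of Ω when some conjugate of `x` by a matrix of determinant 1 lies in `H`. Suppose the index of `H` is even. Then every involution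 of `T` is conjugate in `T` into `H` if and only if either `q` is even, or `k = 2` and `(n)_2 ≤ (q − 1)_2`. (For `q` odd and `k` odd the index of `H` is odd, so that case does not arise.) -/
theorem result {F : Type*} [Field F] [Fintype F] {p : ℕ} [Fact p.Prime] [CharP F p] {q : ℕ} (hq : Fintype.card F = q)
    (n : ℕ) (hn : 2 ≤ n) (hT : (n, q) ≠ (2, 2) ∧ (n, q) ≠ (2, 3))
    (F₀ : Subfield F) (k q₀ : ℕ) (hk : k.Prime) (hF₀ : Nat.card ↥F₀ = q₀) (hqk : q = q₀ ^ k) (hC5 : ¬ (n = 2 ∧ q₀ = 2)) (hΩ : 2 ∣ ((Cfsg.Geo.subfieldSubgroup F₀ 1).comap (Matrix.SpecialLinearGroup.toGL : Matrix.SpecialLinearGroup (Fin n) F →* GL (Fin n) F)).index) :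
    (∀ x : Matrix.SpecialLinearGroup (Fin n) F,
      (∃ z : F, ((x ^ 2 : Matrix.SpecialLinearGroup (Fin n) F) : Matrix (Fin n) (Fin n) F) = z • (1 : Matrix (Fin n) (Fin n) F)) →
      (∀ z : F, (x : Matrix (Fin n) (Fin n) F) ≠ z • (1 : Matrix (Fin n) (Fin n) F)) →
      ∃ P : Matrix.SpecialLinearGroup (Fin n) F, P⁻¹ * x * P ∈ ((Cfsg.Geo.subfieldSubgroup F₀ 1).comap (Matrix.SpecialLinearGroup.toGL : Matrix.SpecialLinearGroup (Fin n) F →* GL (Fin n) F))) ↔
    (Odd q → (k = 2 ∧ padicValNat 2 n ≤ padicValNat 2 (q - 1))) := by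
  classical
  haveI : NeZero n := ⟨by omega⟩
  have hq1 : 1 < q := hq ▸ Fintype.one_lt_card
  have hsq0 : Odd q → k = 2 → (Odd q₀ ∧ ∀ a : F₀, (a : F) ≠ 0 → IsSquare (a : F)) := by
    intro hodd hk2
    subst hk2
    haveI : Fintype F₀ := Fintype.ofFinite _
    have hodd0 : Odd q₀ := (Nat.odd_pow_iff (by norm_num)).1 (hqk ▸ hodd)
    refine ⟨hodd0, fun a ha => ?_⟩
    have hF2 : ringChar F ≠ 2 := fun h2 => by
      have := FiniteField.even_card_iff_char_two.1 h2
      rw [hq, Nat.odd_iff.1 hodd] at this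
      omega
    have h1 := congrArg Subtype.val (FiniteField.pow_card_sub_one_eq_one a (fun h => ha (by simp [h])))
    rw [← Nat.card_eq_fintype_card, hF₀] at h1
    rw [FiniteField.isSquare_iff hF2 ha, hq, hqk]
    obtain ⟨u, rfl⟩ := hodd0
    have h1' : (a : F) ^ (2 * u + 1 - 1) = 1 := by simpa using h1
    rw [show (2 * u + 1) ^ 2 / 2 = (2 * u + 1 - 1) * (u + 1) by
      rw [show (2 * u + 1) ^ 2 = 1 + 2 * ((2 * u) * (u + 1)) by ring, Nat.add_mul_div_left _ _ (by norm_num)]
      simp, pow_mul, h1', one_pow]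
  constructor
  · intro h hodd
    have hk2 : k = 2 := by
      by_contra hne
      have h0 : Odd q₀ := (Nat.odd_pow_iff hk.ne_zero).1 (hqk ▸ hodd)
      have := index_odd (n := n) (by omega) F₀ hF₀ (hq.trans hqk) h0 (hk.odd_of_ne_two hne)
      exact (Nat.not_even_iff_odd.2 this) (even_iff_two_dvd.2 hΩ)
    refine ⟨hk2, ?_⟩
    by_contra hv
    push Not at hv
    obtain ⟨hodd0, hsq⟩ := hsq0 hodd hk2
    set v := padicValNat 2 (q - 1) with hvdef
    haveI : Fact (Nat.Prime 2) := ⟨Nat.prime_two⟩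
    have hF2 : ringChar F ≠ 2 := fun h2 => by
      have := FiniteField.even_card_iff_char_two.1 h2
      rw [hq, Nat.odd_iff.1 hodd] at this
      omega
    obtain ⟨m, hm⟩ : 2 ^ (v + 1) ∣ n := by rw [padicValNat_dvd_iff_le (by omega)]; omega
    obtain ⟨s, hs⟩ : 2 ^ v ∣ q - 1 := pow_padicValNat_dvd
    have hsodd : Odd s := by
      rw [Nat.odd_iff, ← Nat.two_dvd_ne_zero]
      intro h2
      have h3 : 2 ^ (v + 1) ∣ q - 1 := by rw [hs, pow_succ]; exact Nat.mul_dvd_mul_left _ h2
      rw [padicValNat_dvd_iff_le (by omega)] at h3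
      omega
    obtain ⟨c0, hc0⟩ := FiniteField.exists_nonsquare hF2
    have hc00 : c0 ≠ 0 := fun h0 => hc0 (h0 ▸ IsSquare.zero)
    set w : F := c0 ^ s with hw
    have hw0 : w ≠ 0 := pow_ne_zero _ hc00
    have hwn : ¬ IsSquare w := by
      rw [FiniteField.isSquare_iff hF2 hw0, hw, ← pow_mul, mul_comm, pow_mul,
        (FiniteField.pow_dichotomy hF2 hc00).resolve_left (fun h1 => hc0 ((FiniteField.isSquare_iff hF2 hc00).2 h1)),
        hsodd.neg_one_pow]
      exact Ring.neg_one_ne_one_of_char_ne_two hF2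
    have hwm : w ^ (2 ^ v * m) = 1 := by
      rw [hw, ← pow_mul, ← mul_assoc, mul_comm s, ← hs, pow_mul, ← hq, FiniteField.pow_card_sub_one_eq_one c0 hc00, one_pow]
    have hm1 : (-1 : F) ≠ 0 := neg_ne_zero.2 one_ne_zero
    have hneg : IsSquare (-1 : F) := by simpa using hsq (-1) (by simp)
    have hzn : ¬ IsSquare (-w) := fun h1 => hwn (by have := hneg.mul h1; simpa using this)
    have hn2 : n = 2 * (2 ^ v * m) := by rw [hm, pow_succ]; ring
    let e : Fin 2 × Fin (2 ^ v * m) ≃ Fin n := finProdFinEquiv.trans (finCongr hn2.symm)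
    let x : Matrix.SpecialLinearGroup (Fin n) F := ⟨blockRoot (-w) e, by rw [det_blockRoot, neg_neg, hwm]⟩
    have hxx : ((x ^ 2 : Matrix.SpecialLinearGroup (Fin n) F) : Matrix (Fin n) (Fin n) F) = (-w) • 1 := by
      rw [Matrix.SpecialLinearGroup.coe_pow, sq]; exact blockRoot_sq _ e
    obtain ⟨Q, hQ⟩ := h x ⟨-w, hxx⟩ (fun z hz => by
      rw [Matrix.SpecialLinearGroup.coe_pow, hz, sq, Matrix.smul_mul, one_mul, smul_smul] at hxx
      apply hzn
      have h1 := congrFun (congrFun hxx 0) 0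
      exact ⟨z, by simpa using h1.symm⟩)
    obtain ⟨c, A₀, hc, hxQ⟩ := exists_of_conj_mem F₀ x Q hQ
    have hQu : IsUnit (Q : Matrix (Fin n) (Fin n) F) := (Matrix.isUnit_iff_isUnit_det _).2 (by rw [Q.det_coe]; exact isUnit_one)
    have hsc : SemiconjBy (Q : Matrix (Fin n) (Fin n) F) (c • A₀.map F₀.subtype) (x : Matrix (Fin n) (Fin n) F) := hxQ.symm
    have h2 := (hsc.pow_right 2).eq
    rw [← Matrix.SpecialLinearGroup.coe_pow, hxx, Matrix.smul_mul, one_mul, smul_pow] at h2
    have h3 : c ^ 2 • (A₀.map F₀.subtype) ^ 2 = (-w) • (1 : Matrix (Fin n) (Fin n) F) :=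
      hQu.mul_right_injective (h2.trans (by simp only [Matrix.mul_smul, mul_one]))
    have h4 := congrFun (congrFun h3 0) 0
    rw [show (A₀.map F₀.subtype) ^ 2 = (A₀ ^ 2).map F₀.subtype from (Matrix.map_pow A₀ F₀.subtype 2).symm] at h4
    simp only [Matrix.smul_apply, Matrix.map_apply, Matrix.one_apply_eq, smul_eq_mul, mul_one, Subfield.coe_subtype] at h4
    apply hzn
    rw [← h4]
    by_cases ha : (((A₀ ^ 2) 0 0 : F₀) : F) = 0
    · rw [ha, mul_zero]; exact IsSquare.zero
    · exact (IsSquare.sq c).mul (hsq _ ha)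
  · intro h x hx _
    obtain ⟨z, hz⟩ := hx
    rw [Matrix.SpecialLinearGroup.coe_pow] at hz
    have hz0 : z ≠ 0 := by
      intro h0
      have h1 := congrArg Matrix.det hz
      rw [Matrix.det_pow, x.det_coe, h0] at h1
      simp [NeZero.ne n] at h1
    by_cases hodd : Odd q
    · obtain ⟨hk2, hv⟩ := h hodd
      obtain ⟨hodd0, hsq⟩ := hsq0 hodd hk2
      have hF2 : ringChar F ≠ 2 := fun h2 => by
        have := FiniteField.even_card_iff_char_two.1 h2
        rw [hq, Nat.odd_iff.1 hodd] at this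
        omega
      have hzsq : IsSquare z := by
        by_contra hzn
        rcases Nat.even_or_odd' n with ⟨m, hm | hm⟩
        · haveI : Nonempty (Fin n) := ⟨0⟩
          let e : Fin 2 × Fin m ≃ Fin n := finProdFinEquiv.trans (finCongr hm.symm)
          have hnr : ∀ b : F, b ^ 2 ≠ z := fun b hb => hzn ⟨b, by rw [← hb, sq]⟩
          obtain ⟨P, hP⟩ := exists_specialLinear_conj_of_irreducible (X_pow_sub_C_irreducible_of_prime Nat.prime_two hnr)
            (x := (x : Matrix (Fin n) (Fin n) F)) (y := blockRoot z e) (by simp [hz, Algebra.smul_def])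
            (by simp [sq, blockRoot_sq, Algebra.smul_def])
          have h1 := congrArg Matrix.det hP
          rw [Matrix.det_mul, Matrix.det_mul, x.det_coe, P.det_coe, one_mul, one_mul, det_blockRoot] at h1
          have hneg : IsSquare (-1 : F) := by simpa using hsq (-1) (by simp)
          have hwn : ¬ IsSquare (-z) := fun h2 => hzn (by have := hneg.mul h2; simpa using this)
          have hw0 : -z ≠ 0 := neg_ne_zero.2 hz0
          haveI : Fact (Nat.Prime 2) := ⟨Nat.prime_two⟩
          set a := padicValNat 2 m with ha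
          obtain ⟨u, hu⟩ : 2 ^ a ∣ m := pow_padicValNat_dvd
          have huodd : Odd u := by
            rw [Nat.odd_iff, ← Nat.two_dvd_ne_zero]
            intro h2
            have h3 : 2 ^ (a + 1) ∣ m := by rw [hu, pow_succ]; exact Nat.mul_dvd_mul_left _ h2
            rw [padicValNat_dvd_iff_le (by omega)] at h3
            omega
          obtain ⟨t, ht⟩ : 2 ^ a ∣ q / 2 := by
            have h3 : 2 ^ (a + 1) ∣ q - 1 := by
              rw [padicValNat_dvd_iff_le (by omega)]
              refine le_trans ?_ hv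
              rw [hm, padicValNat.mul (by norm_num) (by omega), padicValNat_self, add_comm]
            obtain ⟨t, ht⟩ := h3
            refine ⟨t, ?_⟩
            have := Nat.odd_iff.1 hodd
            rw [pow_succ, mul_comm (2 ^ a) 2, mul_assoc] at ht
            omega
          have h4 : (-z) ^ (q / 2 * u) = 1 := by
            rw [ht, show 2 ^ a * t * u = m * t by rw [hu]; ring, pow_mul, ← h1, one_pow]
          rw [pow_mul, ← hq, (FiniteField.pow_dichotomy hF2 hw0).resolve_left (fun h5 => hwn ((FiniteField.isSquare_iff hF2 hw0).2 h5)),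
            huodd.neg_one_pow] at h4
          exact Ring.neg_one_ne_one_of_char_ne_two hF2 h4
        · have h1 := congrArg Matrix.det hz
          rw [Matrix.det_pow, x.det_coe, Matrix.det_smul, Matrix.det_one, Fintype.card_fin, mul_one, one_pow, hm,
            pow_succ, pow_mul'] at h1
          apply hzn
          refine ⟨(z ^ m)⁻¹, ?_⟩
          have hzm : z ^ m ≠ 0 := pow_ne_zero _ hz0
          field_simp
          linear_combination -h1
      obtain ⟨μ, rfl⟩ := hzsq
      have hμ0 : μ ≠ 0 := fun h0 => hz0 (by rw [h0, mul_zero])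
      have hμμ : μ ≠ -μ := fun h1 => hμ0 ((Ring.eq_self_iff_eq_zero_of_char_ne_two hF2).1 h1.symm)
      obtain ⟨e, he, heσ⟩ := exists_specialLinear_conj_diagonal (Matrix.SpecialLinearGroup.toGL x) {μ, -μ} (by
        rw [Finset.prod_insert (by simpa using hμμ), Finset.prod_singleton, map_mul]
        simp only [map_sub, map_neg, sub_neg_eq_add, map_add, Polynomial.aeval_X, Polynomial.aeval_C, Algebra.algebraMap_eq_smul_one]
        show ((x : Matrix (Fin n) (Fin n) F) - μ • 1) * ((x : Matrix (Fin n) (Fin n) F) + μ • 1) = 0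
        rw [sub_mul, mul_add, mul_add, ← sq, hz]
        simp [smul_smul, add_comm])
      obtain ⟨Q, hQ, hQx⟩ := heσ 1
      have hQd : (Q : Matrix (Fin n) (Fin n) F).det = 1 := by
        rw [Cfsg.Geo.specialLinear, MonoidHom.mem_ker, ← Units.val_inj] at hQ
        simpa using hQ
      let d : Fin n → F₀ := fun i => if e i = μ then 1 else -1
      refine conj_into F₀ x (Q : Matrix (Fin n) (Fin n) F) hQd μ (Matrix.diagonal d) ?_
      have h1 : μ • (Matrix.diagonal d).map F₀.subtype = Matrix.diagonal e := by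
        rw [Matrix.diagonal_map (map_zero _), ← Matrix.diagonal_smul]
        congr 1; funext i
        rcases Finset.mem_insert.1 (he i) with h2 | h2
        · simp [d, h2]
        · rw [Finset.mem_singleton] at h2
          simp [d, h2, Ne.symm hμμ]
      rw [h1, show Matrix.diagonal e = Matrix.diagonal (e ∘ (1 : Equiv.Perm (Fin n))) from rfl, ← hQx, Units.val_mul, Units.val_mul]
      show _ = (Q : Matrix (Fin n) (Fin n) F) * (_ * (x : Matrix (Fin n) (Fin n) F) * _)
      rw [← mul_assoc, ← mul_assoc, Units.mul_inv, one_mul]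
    · have h2 : ringChar F = 2 := FiniteField.even_card_iff_char_two.2 (by rw [hq]; exact Nat.not_odd_iff.1 hodd)
      haveI : CharP F 2 := ringChar.of_eq h2
      obtain ⟨μ, rfl⟩ := FiniteField.isSquare_of_char_two h2 z
      have hμ0 : μ ≠ 0 := fun h0 => hz0 (by rw [h0, mul_zero])
      refine exists_conj_unipotent F₀ x μ (μ⁻¹ • (x : Matrix (Fin n) (Fin n) F) - 1) (h := 2) ?_ ?_ fun L m hsum hm => ?_
      · haveI : CharP (Matrix (Fin n) (Fin n) F) 2 := Matrix.charP 2
        rw [sub_pow_char_of_commute 2 (Commute.one_right _), one_pow, smul_pow, hz, smul_smul, ← sq μ, ← mul_pow,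
          inv_mul_cancel₀ hμ0, one_pow, one_smul, sub_self]
      · rw [add_sub_cancel, smul_smul, mul_inv_cancel₀ hμ0, one_smul]
      · have hL : 0 < L := Nat.pos_of_ne_zero fun h0 => by subst h0; simp at hsum; omega
        refine ⟨⟨0, hL⟩, fun t _ => ?_⟩
        obtain ⟨a, ha⟩ := FiniteField.isSquare_of_char_two h2 t
        rcases (show m ⟨0, hL⟩ = 1 ∨ m ⟨0, hL⟩ = 2 by have := hm ⟨0, hL⟩; omega) with h1 | h1 <;> rw [h1]
        · exact ⟨t, 1, by simp⟩
        · exact ⟨a, 1, by simp [ha, sq]⟩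


end Cfsg.Agent.S5964
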