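import Cfsg.Statements.S5965
import Cfsg.Agent.H48.SubfieldPrimeCases


set_option autoImplicit false
open scoped MatrixGroups
open Cfsg

namespace Cfsg.Agent.S5965

set_option maxHeartbeats 1000000

open Cfsg.Agent.H48.SubfieldPrime

/-- Elements of odd prime order r ≠ p of PSL_n(q) and subfield subgroups. Here `T = PSL_n(F)` for a field `F` with `q = p^f` elements (`n ≥ 2`, `(n, q) ≠ (2, 2), (2, 3)`), `F₀` is the subfield with `q₀` elements where `q = q₀^k` for a prime `k`, and `H` is the subgroup of matrices of determinant 1 lying in the subfield group of `F₀` (invertible matrices over `F₀` times scalars) — a maximal subgroup of type GL_n(q₀) (the case `n = 2`, `q₀ = 2` is excluded); Ω is the set of `T`-conjugates of `H` (cosets of `H`), so an element of `T` of prime order `r` (a matrix `x` of determinant 1 with `x^r` scalar, `x` not scalar) fixes a point of Ω when some conjugate of `x` by a matrix of determinant 1 lies in `H`. Let `r ≠ p` be an odd prime dividing the index of `H`, with `(n, r) ≠ (6,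 3)` and, when `r = k` divides `q₀ − 1`, with `(n)_r ≤ (q − 1)_r`. Then every element of `T` of order `r` is conjugate in `T` into `H` if and only if `r = k`, or `k = 2`, `r = n ∈ {3, 5}` and `(q₀ + 1)_r = r`. The two excluded cases, `(n, r) = (6, 3)` and `r = k ∣ q₀ − 1` with `(n)_r > (q − 1)_r`, are ones where this criterion can fail, so they are left out. -/
theorem result {F : Type*} [Field F] [Fintype F] {p : ℕ} [Fact p.Prime] [CharP F p] {q : ℕ} (hq : Fintype.card F = q)
    (n : ℕ) (hn : 2 ≤ n) (hT : (n, q) ≠ (2, 2) ∧ (n, q) ≠ (2, 3))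
    (F₀ : Subfield F) (k q₀ : ℕ) (hk : k.Prime) (hF₀ : Nat.card ↥F₀ = q₀) (hqk : q = q₀ ^ k) (hC5 : ¬ (n = 2 ∧ q₀ = 2)) (r : ℕ) [Fact r.Prime] (hr2 : r ≠ 2) (hrp : r ≠ p) (hgap : ¬ (n = 6 ∧ r = 3)) (hgapk : r = k → r ∣ q₀ - 1 → padicValNat r n ≤ padicValNat r (q - 1)) (hΩ : r ∣ ((Cfsg.Geo.subfieldSubgroup F₀ 1).comap (Matrix.SpecialLinearGroup.toGL : Matrix.SpecialLinearGroup (Fin n) F →* GL (Fin n) F)).index) :
    (∀ x : Matrix.SpecialLinearGroup (Fin n) F,
      (∃ z : F, ((x ^ r : Matrix.SpecialLinearGroup (Fin n) F) : Matrix (Fin n) (Fin n) F) = z • (1 : Matrix (Fin n) (Fin n) F)) →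
      (∀ z : F, (x : Matrix (Fin n) (Fin n) F) ≠ z • (1 : Matrix (Fin n) (Fin n) F)) →
      ∃ P : Matrix.SpecialLinearGroup (Fin n) F, P⁻¹ * x * P ∈ ((Cfsg.Geo.subfieldSubgroup F₀ 1).comap (Matrix.SpecialLinearGroup.toGL : Matrix.SpecialLinearGroup (Fin n) F →* GL (Fin n) F))) ↔
    (r = k ∨ (k = 2 ∧ r = n ∧ (n = 3 ∨ n = 5) ∧ padicValNat r (q₀ + 1) = 1)) := by
  classical
  haveI : NeZero n := ⟨by omega⟩
  have hr : r.Prime := Fact.out
  obtain ⟨s, hs⟩ := exists_pow_eq (p := p) F₀ hF₀
  have hrq : ¬ r ∣ q₀ := fun h =>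
    hrp ((Nat.prime_dvd_prime_iff_eq hr Fact.out).1 (hr.dvd_of_dvd_pow (hs ▸ h)))
  subst hq
  have hq1 : 1 < Fintype.card F := Fintype.one_lt_card
  have hq0 : 1 < q₀ := by
    by_contra h
    have : q₀ ^ k ≤ 1 := pow_le_one' (by omega) k
    omega
  have hpred : ∀ {m : ℕ}, 1 ≤ m → (r ∣ m - 1 ↔ (m : ZMod r) = 1) := fun {m} hm => by
    rw [← ZMod.natCast_eq_zero_iff, Nat.cast_sub hm, Nat.cast_one, sub_eq_zero]
  have hfac : k = 2 → Fintype.card F - 1 = (q₀ - 1) * (q₀ + 1) := fun hk2 => by
    rw [hqk, hk2, mul_comm, ← Nat.sq_sub_sq, one_pow]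
  constructor
  · intro hall
    by_cases hrk : r = k
    · exact Or.inl hrk
    obtain ⟨j, hj2, hjn, hjk, hj1⟩ := exists_of_dvd_index F₀ (by omega) hF₀ hqk hk hrq hrk hΩ
    have hjq : (Fintype.card F : ZMod r) ^ j = 1 := by
      rw [hqk, Nat.cast_pow, ← pow_mul, mul_comm, pow_mul]; exact hjk
    by_cases hqr : (Fintype.card F : ZMod r) = 1
    swap
    · exact (not_all_of_ne_one (p := p) F₀ hF₀ hqk hk hrp (by omega) hjn hjq hj1 hqr hall).elim
    set a : ZMod r := (q₀ : ZMod r) with ha
    have hak : a ^ k = 1 := by rw [ha, ← Nat.cast_pow, ← hqk]; exact hqr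
    have ha1 : a ≠ 1 := fun h => hj1 (by rw [h, one_pow])
    haveI : Fact k.Prime := ⟨hk⟩
    have hao : orderOf a = k := orderOf_eq_prime hak ha1
    have hdvd : r ∣ Fintype.card F - 1 := (hpred (by omega)).2 hqr
    have hfix : ∀ w : F, IsPrimitiveRoot w r → w ^ q₀ ≠ w := fun w hw hwe => ha1 (by
      have h1 := (IsOfFinOrder.pow_eq_pow_iff_modEq (hw.isOfFinOrder hr.pos.ne')).1 (hwe.trans (pow_one w).symm)
      rw [← hw.eq_orderOf] at h1
      exact_mod_cast (ZMod.natCast_eq_natCast_iff _ _ _).2 h1)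
    obtain ⟨g, hg⟩ := IsCyclic.exists_ofOrder_eq_natCard (α := Fˣ)
    rw [Nat.card_units, Nat.card_eq_fintype_card] at hg
    have hroot : ∀ {d : ℕ}, d ∣ Fintype.card F - 1 → ∃ η : F, IsPrimitiveRoot η d := fun {d} hd =>
      ⟨((g ^ ((Fintype.card F - 1) / d) : Fˣ) : F), IsPrimitiveRoot.coe_units_iff.2 (IsPrimitiveRoot.iff_orderOf.2 (by
        rw [orderOf_pow, hg, Nat.gcd_eq_right (Nat.div_dvd_of_dvd hd), Nat.div_div_self hd (by omega)]))⟩
    by_cases hlt : padicValNat r n < padicValNat r (Fintype.card F - 1)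
    · exfalso
      set u := padicValNat r n with hu
      obtain ⟨η, hη⟩ := hroot (d := r ^ (u + 1)) ((padicValNat_dvd_iff_le (by omega)).2 (by omega))
      have hη0 : η ≠ 0 := hη.ne_zero (pow_ne_zero _ hr.ne_zero)
      set w : F := (η ^ n)⁻¹ with hw
      have hwr : IsPrimitiveRoot w r := by
        refine IsPrimitiveRoot.iff_orderOf.2 (orderOf_eq_prime ?_ ?_)
        · obtain ⟨c, hc⟩ : r ^ u ∣ n := pow_padicValNat_dvd
          rw [hw, inv_pow, ← pow_mul, show n * r = r ^ (u + 1) * c by rw [hc, pow_succ]; ring, pow_mul, hη.pow_eq_one,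
            one_pow, inv_one]
        · intro h1
          have h2 := hη.dvd_of_pow_eq_one n (inv_eq_one.1 h1)
          rw [padicValNat_dvd_iff_le (by omega), ← hu] at h2
          omega
      have hw1 : w ≠ 1 := hwr.ne_one hr.one_lt
      set M : Multiset F := (η * w) ::ₘ Multiset.replicate (n - 1) η with hM
      have hne : η * w ≠ η := fun h => hw1 (mul_left_cancel₀ hη0 (h.trans (mul_one η).symm))
      obtain ⟨γ, hγ, hMγ⟩ := diag_invariant (p := p) F₀ hF₀ (r := r) M
        (by rw [hM, Multiset.card_cons, Multiset.card_replicate]; omega)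
        (by rw [hM, Multiset.prod_cons, Multiset.prod_replicate, mul_right_comm, ← pow_succ',
              show n - 1 + 1 = n by omega, hw, mul_inv_cancel₀ (pow_ne_zero _ hη0)])
        (η ^ r) (fun v hv => by
          rcases Multiset.mem_cons.1 hv with rfl | hv
          · rw [mul_pow, hwr.pow_eq_one, mul_one]
          · rw [Multiset.eq_of_mem_replicate hv])
        ⟨η * w, Multiset.mem_cons_self _ _, η, Multiset.mem_cons_of_mem (Multiset.mem_replicate.2 ⟨by omega, rfl⟩), hne⟩
        hall
      have hmem : ∀ v ∈ M, v = η * w ∨ v = η := fun v hv =>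
        (Multiset.mem_cons.1 hv).imp id Multiset.eq_of_mem_replicate
      rcases Nat.lt_or_ge n 3 with hn3 | hn3
      · have hn2 : n = 2 := by omega
        have hk2 : k ≠ 2 := fun h => hj1 (by rw [show j = k by omega, hak])
        have himg : ∀ v ∈ M, v ^ q₀ = γ * (η * w) ∨ v ^ q₀ = γ * η := fun v hv => by
          have h1 : v ^ q₀ ∈ M.map (γ * ·) := hMγ ▸ Multiset.mem_map_of_mem (fun t : F => t ^ q₀) hv
          obtain ⟨t, ht, htv⟩ := Multiset.mem_map.1 h1
          rcases hmem t ht with rfl | rfl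
          · exact Or.inl htv.symm
          · exact Or.inr htv.symm
        obtain ⟨τ, hτ⟩ := pow_prime_pow (L := F) p hs
        have hinj : (η * w) ^ q₀ ≠ η ^ q₀ := fun h => hne (τ.injective (by simpa [hτ] using h))
        have hX0 : γ * η ≠ 0 := mul_ne_zero hγ hη0
        rcases himg η (Multiset.mem_cons_of_mem (Multiset.mem_replicate.2 ⟨by omega, rfl⟩)) with h1 | h1
        · rcases himg (η * w) (Multiset.mem_cons_self _ _) with h2 | h2
          · exact hinj (h2.trans h1.symm)
          · rw [mul_pow, h1, mul_assoc, mul_assoc] at h2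
            have h3 : w ^ (q₀ + 1) = 1 := mul_left_cancel₀ hX0 (by
              rw [mul_one]; rw [← mul_assoc, mul_comm] at h2; linear_combination h2)
            have h4 := hwr.dvd_of_pow_eq_one _ h3
            rw [← ZMod.natCast_eq_zero_iff, Nat.cast_add, Nat.cast_one, ← ha, ← eq_neg_iff_add_eq_zero] at h4
            have h5 : orderOf a ∣ 2 := orderOf_dvd_of_pow_eq_one (by rw [h4, neg_one_sq])
            rw [hao] at h5
            exact hk2 ((Nat.prime_dvd_prime_iff_eq hk Nat.prime_two).1 h5)
        · rcases himg (η * w) (Multiset.mem_cons_self _ _) with h2 | h2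
          · rw [mul_pow, h1, ← mul_assoc] at h2
            exact hfix w hwr (mul_left_cancel₀ hX0 h2)
          · exact hinj (h2.trans h1.symm)
      · have hc1 : M.count η = n - 1 := by
          rw [hM, Multiset.count_cons_of_ne hne.symm, Multiset.count_replicate_self]
        have hc2 : M.count (η * w) = 1 := by
          rw [hM, Multiset.count_cons_self, Multiset.count_eq_zero.2 fun h => hne (Multiset.eq_of_mem_replicate h)]
        have e1 := image_of_count (p := p) F₀ hF₀ hγ hMγ
          (Multiset.mem_cons_of_mem (Multiset.mem_replicate.2 ⟨by omega, rfl⟩) : η ∈ M)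
          (fun v hv hc => (hmem v hv).resolve_left fun h => by rw [h, hc1, hc2] at hc; omega)
        have e2 := image_of_count (p := p) F₀ hF₀ hγ hMγ (Multiset.mem_cons_self _ _ : η * w ∈ M)
          (fun v hv hc => (hmem v hv).resolve_right fun h => by rw [h, hc1, hc2] at hc; omega)
        rw [mul_pow, e1, ← mul_assoc] at e2
        exact hfix w hwr (mul_left_cancel₀ (mul_ne_zero hγ hη0) e2)
    have hv1 : 1 ≤ padicValNat r (Fintype.card F - 1) := one_le_padicValNat_of_dvd (by omega) hdvd
    have hrn : r ∣ n := dvd_of_one_le_padicValNat (by omega)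
    rcases Nat.lt_or_ge n 7 with hn7 | hn7
    · have hrn' := Nat.le_of_dvd (by omega) hrn
      have hr35 : r = 3 ∨ r = 5 := by
        have := hr.two_le
        have : r ≤ 6 := by omega
        interval_cases r
        all_goals first | omega | (exfalso; norm_num at hr)
      have hk2 : k = 2 := by
        have h1 : orderOf a ∣ r - 1 := orderOf_dvd_of_pow_eq_one (ZMod.pow_card_sub_one_eq_one fun h => by
          rw [h, zero_pow hk.ne_zero] at hak; exact zero_ne_one hak)
        rw [hao] at h1
        rcases hr35 with rfl | rfl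
        · exact (Nat.prime_dvd_prime_iff_eq hk Nat.prime_two).1 h1
        · exact (Nat.prime_dvd_prime_iff_eq hk Nat.prime_two).1 (hk.dvd_of_dvd_pow (show k ∣ 2 ^ 2 from h1))
      have hnr : r = n := by
        obtain ⟨c, rfl⟩ := hrn
        rcases hr35 with rfl | rfl
        · have : c ≠ 2 := fun h => hgap ⟨by omega, rfl⟩
          omega
        · omega
      refine Or.inr ⟨hk2, hnr, hnr ▸ hr35, ?_⟩
      have h1 : padicValNat r n = 1 := by rw [← hnr]; exact padicValNat.self hr.one_lt
      have h2 : padicValNat r (Fintype.card F - 1) = padicValNat r (q₀ - 1) + padicValNat r (q₀ + 1) := by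
        rw [hfac hk2, padicValNat.mul (by omega) (by omega)]
      have h3 : r ∣ q₀ + 1 := by
        refine (hr.dvd_mul.1 (hfac hk2 ▸ hdvd)).resolve_left fun h => ha1 ((hpred (by omega)).1 h)
      have h4 : 1 ≤ padicValNat r (q₀ + 1) := one_le_padicValNat_of_dvd (by omega) h3
      omega
    · exfalso
      obtain ⟨w, hwr⟩ := hroot hdvd
      have hw1 : w ≠ 1 := hwr.ne_one hr.one_lt
      have hw0 : w ≠ 0 := hwr.ne_zero hr.ne_zero
      set w2 : F := (w * w)⁻¹ with hw2
      have hw21 : w2 ≠ 1 := fun h => by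
        have h1 : w ^ 2 = 1 := by rw [sq]; exact inv_eq_one.1 h
        have h2 := Nat.le_of_dvd two_pos (hwr.dvd_of_pow_eq_one 2 h1)
        exact hr2 (le_antisymm h2 hr.two_le)
      set M : Multiset F := w2 ::ₘ w ::ₘ w ::ₘ Multiset.replicate (n - 3) 1 with hM
      obtain ⟨γ, hγ, hMγ⟩ := diag_invariant (p := p) F₀ hF₀ (r := r) M
        (by rw [hM]; simp only [Multiset.card_cons, Multiset.card_replicate]; omega)
        (by rw [hM]; simp only [Multiset.prod_cons, Multiset.prod_replicate, one_pow, mul_one]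
            rw [hw2, inv_mul_cancel₀ (mul_ne_zero hw0 hw0)])
        1 (fun v hv => by
          simp only [hM, Multiset.mem_cons, Multiset.mem_replicate] at hv
          rcases hv with rfl | rfl | rfl | ⟨-, rfl⟩
          · rw [hw2, inv_pow, mul_pow, hwr.pow_eq_one, mul_one, inv_one]
          · exact hwr.pow_eq_one
          · exact hwr.pow_eq_one
          · exact one_pow r)
        ⟨w, by simp [hM], 1, by simp [hM, Multiset.mem_replicate]; omega, hw1⟩
        hall
      have hmem : ∀ v ∈ M, v = w2 ∨ v = w ∨ v = 1 := fun v hv => by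
        simp only [hM, Multiset.mem_cons, Multiset.mem_replicate] at hv
        tauto
      have hrep : ∀ v : F, v ≠ 1 → (Multiset.replicate (n - 3) (1 : F)).count v = 0 := fun v hv =>
        Multiset.count_eq_zero.2 fun h => hv (Multiset.eq_of_mem_replicate h)
      have hc1 : M.count 1 = n - 3 := by
        rw [hM, Multiset.count_cons_of_ne hw21.symm, Multiset.count_cons_of_ne hw1.symm,
          Multiset.count_cons_of_ne hw1.symm, Multiset.count_replicate_self]
      have hcw : 2 ≤ M.count w ∧ M.count w ≤ 3 := by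
        rw [hM]
        simp only [Multiset.count_cons, hrep w hw1, if_pos]
        split_ifs <;> omega
      have hcw2 : w2 ≠ w → M.count w2 = 1 := fun h => by
        rw [hM, Multiset.count_cons_self, Multiset.count_cons_of_ne h, Multiset.count_cons_of_ne h, hrep w2 hw21]
      have hle : ∀ v ∈ M, v ≠ 1 → M.count v ≤ 3 := fun v hv hv1 => by
        rw [hM]
        simp only [Multiset.count_cons, hrep v hv1]
        split_ifs <;> omega
      have e1 := image_of_count (p := p) F₀ hF₀ hγ hMγ (a := 1)
        (by simp [hM, Multiset.mem_replicate]; omega) (fun v hv hc => by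
          by_contra hv1
          have := hle v hv hv1
          omega)
      rw [one_pow, mul_one] at e1
      have e2 := image_of_count (p := p) F₀ hF₀ hγ hMγ (a := w) (by simp [hM]) (fun v hv hc => by
        rcases hmem v hv with rfl | rfl | rfl
        · by_contra h
          rw [hcw2 h] at hc
          omega
        · rfl
        · omega)
      rw [← e1, one_mul] at e2
      exact hfix w hwr e2
  · intro hcase x hx _
    obtain ⟨z, hz⟩ := hx
    rw [Matrix.SpecialLinearGroup.coe_pow] at hz
    rcases hcase with hrk | ⟨hk2, hrn, h35, hv⟩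
    · refine frob_conj (p := p) F₀ hF₀ hrp hr2 ?_ (fun h => ?_) x hz
      · rw [hqk, Nat.cast_pow, ← hrk, ZMod.pow_card]
      · refine hgapk hrk ((hpred (by omega)).2 ?_) 
        have := (hpred (by omega)).1 h
        rwa [hqk, Nat.cast_pow, ← hrk, ZMod.pow_card] at this
    · have h1q : r ∣ q₀ + 1 := dvd_of_one_le_padicValNat (by omega)
      have h2q : ¬ r ∣ q₀ - 1 := fun h => by
        have h3 := Nat.dvd_sub h1q h
        rw [show q₀ + 1 - (q₀ - 1) = 2 by omega] at h3
        exact hr2 ((Nat.prime_dvd_prime_iff_eq hr Nat.prime_two).1 h3)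
      refine half_conj (p := p) F₀ hF₀ hrp hrn.symm (hrn ▸ h35) h1q (hfac hk2 ▸ h1q.mul_left _) (fun h => ?_) x hz
      rw [padicValNat_dvd_iff_le (by omega), hfac hk2, padicValNat.mul (by omega) (by omega),
        padicValNat.eq_zero_of_not_dvd h2q] at h
      omega

end Cfsg.Agent.S5965
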