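import Cfsg.Statements.S5966
import Cfsg.Agent.H99.Subfield
-- import your own Cfsg.Agent.* helpers here

set_option autoImplicit false
open scoped MatrixGroups
open Cfsg

namespace Cfsg.Agent.S5966

open Cfsg.Agent.H99 Cfsg.Geo
open scoped Matrix

variable {F : Type*} [Field F]

/-- The standard element with `L` blocks of size two. -/
def blockN (F : Type*) [Field F] (L : ℕ) : Matrix (Fin L ⊕ Fin L) (Fin L ⊕ Fin L) F := Matrix.fromBlocks 0 0 1 0

theorem det_commutant {L : ℕ} (C : Matrix (Fin L ⊕ Fin L) (Fin L ⊕ Fin L) F) (h : C * blockN F L = blockN F L * C) :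
    ∃ s : F, C.det = s ^ 2 := by
  rw [blockN, ← Matrix.fromBlocks_toBlocks C, Matrix.fromBlocks_multiply, Matrix.fromBlocks_multiply,
    Matrix.fromBlocks_inj] at h
  simp only [mul_zero, zero_mul, mul_one, one_mul, add_zero, zero_add] at h
  obtain ⟨h1, -, h2, -⟩ := h
  refine ⟨C.toBlocks₁₁.det, ?_⟩
  conv_lhs => rw [← Matrix.fromBlocks_toBlocks C, h1, Matrix.det_fromBlocks_zero₁₂, h2]
  rw [sq]


/-- Elements of order 3 of PSL_n(q) in characteristic 3 and subfield subgroups. Here `T = PSL_n(F)` for a field `F` with `q` elements, `q` a power of 3 (`n ≥ 2`, `(n, q) ≠ (2, 2), (2, 3)`), `F₀` is the subfield with `q₀` elements where `q = q₀^k` for a prime `k`, and `H` is the subgroup of matrices of determinant 1 lying in the subfield group of `F₀` (invertible matrices over `F₀` times scalars) — a maximal subgroup of type GL_n(q₀) (the case `n = 2`, `q₀ = 2` is excluded); Ω is the set of `T`-conjugates of `H` (cosets of `H`), so an element of `T` of prime order `r` (a matrix `x` of determinant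 1 with `x^r` scalar, `x` not scalar) fixes a point of Ω when some conjugate of `x` by a matrix of determinant 1 lies in `H`. Suppose 3 divides the index of `H`. Then every element of `T` of order 3 is conjugate in `T` into `H` if and only if `n` is odd, or `n` is even and `k > 2`. -/
theorem result {F : Type*} [Field F] [Fintype F] [CharP F 3] {q : ℕ} (hq : Fintype.card F = q)
    (n : ℕ) (hn : 2 ≤ n) (hT : (n, q) ≠ (2, 3))
    (F₀ : Subfield F) (k q₀ : ℕ) (hk : k.Prime) (hF₀ : Nat.card ↥F₀ = q₀) (hqk : q = q₀ ^ k) (hC5 : ¬ (n = 2 ∧ q₀ = 2)) (hΩ : 3 ∣ ((Cfsg.Geo.subfieldSubgroup F₀ 1).comap (Matrix.SpecialLinearGroup.toGL : Matrix.SpecialLinearGroup (Fin n) F →* GL (Fin n) F)).index) :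
    (∀ x : Matrix.SpecialLinearGroup (Fin n) F,
      (∃ z : F, ((x ^ 3 : Matrix.SpecialLinearGroup (Fin n) F) : Matrix (Fin n) (Fin n) F) = z • (1 : Matrix (Fin n) (Fin n) F)) →
      (∀ z : F, (x : Matrix (Fin n) (Fin n) F) ≠ z • (1 : Matrix (Fin n) (Fin n) F)) →
      ∃ P : Matrix.SpecialLinearGroup (Fin n) F, P⁻¹ * x * P ∈ ((Cfsg.Geo.subfieldSubgroup F₀ 1).comap (Matrix.SpecialLinearGroup.toGL : Matrix.SpecialLinearGroup (Fin n) F →* GL (Fin n) F))) ↔
    (Odd n ∨ (Even n ∧ 2 < k)) := by
  classical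
  haveI : NeZero n := ⟨by omega⟩
  haveI : Fact (Nat.Prime 3) := ⟨Nat.prime_three⟩
  have hq1 : 1 < q := hq ▸ Fintype.one_lt_card
  have hcube : Function.Surjective (fun a : F => a ^ 3) := fun a => by
    obtain ⟨b, hb⟩ := surjective_frobenius F 3 a
    exact ⟨b, hb⟩
  have hqodd : q % 2 = 1 := by
    rw [← hq]
    exact FiniteField.odd_card_of_char_ne_two (by rw [ringChar.eq F 3]; decide)
  have hF2 : ringChar F ≠ 2 := by rw [ringChar.eq F 3]; decide
  have hsqF₀ : ∀ a : F₀, (a : F) ≠ 0 → (a : F) ^ (q₀ - 1) = 1 := by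
    intro a ha
    haveI : Fintype F₀ := Fintype.ofFinite _
    have h1 := FiniteField.pow_card_sub_one_eq_one a (fun h => ha (by simp [h]))
    rw [← Nat.card_eq_fintype_card, hF₀] at h1
    simpa using congrArg Subtype.val h1
  have hq0 : 2 ≤ q₀ ∧ q₀ % 2 = 1 := by
    refine ⟨?_, ?_⟩
    · by_contra hlt
      have : q₀ ^ k ≤ 1 := by
        interval_cases q₀ <;> simp [hk.ne_zero]
      omega
    · rw [hqk, Nat.pow_mod] at hqodd
      rcases Nat.mod_two_eq_zero_or_one q₀ with h2 | h2
      · rw [h2, Nat.zero_pow hk.pos] at hqodd; simp at hqodd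
      · exact h2
  have hnilx : ∀ (x : Matrix.SpecialLinearGroup (Fin n) F) (z : F),
      ((x ^ 3 : Matrix.SpecialLinearGroup (Fin n) F) : Matrix (Fin n) (Fin n) F) = z • (1 : Matrix (Fin n) (Fin n) F) →
      ∃ (μ : F) (N : Matrix (Fin n) (Fin n) F), N ^ 3 = 0 ∧ (x : Matrix (Fin n) (Fin n) F) = μ • (1 + N) := by
    intro x z hz
    obtain ⟨μ, rfl⟩ := hcube z
    rw [Matrix.SpecialLinearGroup.coe_pow] at hz
    have hμ : μ ≠ 0 := by
      intro h0
      have h1 := congrArg Matrix.det hz
      rw [Matrix.det_pow, x.det_coe, h0] at h1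
      simp [NeZero.ne n] at h1
    refine ⟨μ, μ⁻¹ • (x : Matrix (Fin n) (Fin n) F) - 1, ?_, ?_⟩
    · haveI : CharP (Matrix (Fin n) (Fin n) F) 3 := Matrix.charP 3
      rw [sub_pow_char_of_commute 3 (Commute.one_right _), one_pow, smul_pow, hz, smul_smul,
        ← mul_pow, inv_mul_cancel₀ hμ, one_pow, one_smul, sub_self]
    · rw [add_sub_cancel, smul_smul, mul_inv_cancel₀ hμ, one_smul]
  constructor
  · intro h
    by_contra hcon
    push Not at hcon
    obtain ⟨hne, hk2⟩ := hcon
    have hev : Even n := by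
      rw [← Nat.not_odd_iff_even]; exact hne
    have hk' : k = 2 := by have := hk2 hev; have := hk.two_le; omega
    subst hk'
    obtain ⟨L, hL⟩ := hev
    have hF₀sq : ∀ a : F₀, (a : F) ≠ 0 → IsSquare (a : F) := by
      intro a ha
      rw [FiniteField.isSquare_iff hF2 ha, hq, hqk]
      obtain ⟨u, hu⟩ : ∃ u, q₀ = 2 * u + 1 := ⟨q₀ / 2, by omega⟩
      rw [show q₀ ^ 2 / 2 = (q₀ - 1) * (u + 1) by
        subst hu
        rw [show (2 * u + 1) ^ 2 = 1 + 2 * ((2 * u) * (u + 1)) by ring, Nat.add_mul_div_left _ _ (by norm_num)]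
        simp, pow_mul, hsqF₀ a ha, one_pow]
    obtain ⟨c0, hc0⟩ := FiniteField.exists_nonsquare hF2
    have hc00 : c0 ≠ 0 := fun h0 => hc0 (h0 ▸ IsSquare.zero)
    let e : Fin L ⊕ Fin L ≃ Fin n := finSumFinEquiv.trans (finCongr hL.symm)
    let N0 : Matrix (Fin n) (Fin n) F := Matrix.reindex e e (blockN F L)
    have hblock : blockN F L * blockN F L = 0 := by simp [blockN, Matrix.fromBlocks_multiply]
    have hN0 : N0 ^ 2 = 0 := by
      rw [sq]
      show (blockN F L).submatrix _ _ * (blockN F L).submatrix _ _ = 0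
      rw [Matrix.submatrix_mul_equiv, hblock]; rfl
    let d : Fin n → F := Function.update 1 0 c0
    have hd : ∀ r, d r ≠ 0 := fun r => by by_cases hr : r = 0 <;> simp [d, hr, hc00]
    let D : Matrix (Fin n) (Fin n) F := Matrix.diagonal d
    let D' : Matrix (Fin n) (Fin n) F := Matrix.diagonal (fun r => (d r)⁻¹)
    have hDD : D' * D = 1 := by
      rw [Matrix.diagonal_mul_diagonal, ← Matrix.diagonal_one]; congr 1; funext r; exact inv_mul_cancel₀ (hd r)
    have hDD' : D * D' = 1 := mul_eq_one_comm.1 hDD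
    haveI : CharP (Matrix (Fin n) (Fin n) F) 3 := Matrix.charP 3
    let X : Matrix (Fin n) (Fin n) F := D * (1 + N0) * D'
    have hN03 : (1 + N0) ^ 3 = 1 := by
      rw [add_pow_char_of_commute 3 (Commute.one_left _), one_pow, pow_succ, hN0, zero_mul, add_zero]
    have hX3 : X ^ 3 = 1 := by
      simp only [X, pow_three, mul_assoc]
      rw [← mul_assoc D' D, hDD, one_mul, ← mul_assoc D' D, hDD, one_mul, ← mul_assoc (1 + N0) (1 + N0),
        ← mul_assoc ((1 + N0) * (1 + N0)) (1 + N0), ← sq, ← pow_succ, hN03, one_mul, hDD']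
    have hdet : X.det = 1 := by
      apply frobenius_inj F 3
      rw [frobenius_def, frobenius_def, ← Matrix.det_pow, hX3, Matrix.det_one, one_pow]
    let x : Matrix.SpecialLinearGroup (Fin n) F := ⟨X, hdet⟩
    have hN0ne : ∀ w : F, N0 ≠ w • (1 : Matrix (Fin n) (Fin n) F) := by
      intro w hw
      have hL0 : 0 < L := by omega
      have h1 := congrFun (congrFun hw (e (Sum.inr ⟨0, hL0⟩))) (e (Sum.inl ⟨0, hL0⟩))
      simp [N0, blockN] at h1
    obtain ⟨Q, hQ⟩ := h x ⟨1, by rw [Matrix.SpecialLinearGroup.coe_pow, one_smul]; exact hX3⟩ (fun z hz => by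
      apply hN0ne (z - 1)
      have h1 : D' * X * D = D' * (z • 1) * D := by rw [show X = z • (1 : Matrix (Fin n) (Fin n) F) from hz]
      rw [Matrix.mul_smul, mul_one, Matrix.smul_mul, hDD,
        show D' * X * D = 1 + N0 by simp only [X, ← mul_assoc, hDD, one_mul]; rw [mul_assoc, hDD, mul_one]] at h1
      rw [sub_smul, one_smul, ← h1, add_sub_cancel_left])
    obtain ⟨c, A₀, hc, hxQ⟩ := exists_of_conj_mem F₀ x Q hQ
    have hQu : IsUnit (Q : Matrix (Fin n) (Fin n) F) := (Matrix.isUnit_iff_isUnit_det _).2 (by rw [Q.det_coe]; exact isUnit_one)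
    set A : Matrix (Fin n) (Fin n) F := A₀.map F₀.subtype with hA
    have hsc : SemiconjBy (Q : Matrix (Fin n) (Fin n) F) (c • A) X := hxQ.symm
    have hA3 : c ^ 3 • A ^ 3 = 1 := by
      have h1 := (hsc.pow_right 3).eq
      rw [hX3, smul_pow, one_mul] at h1
      exact hQu.mul_right_injective (h1.trans (mul_one _).symm)
    have hc3 : c ^ 3 * ((A₀ ^ 3) 0 0 : F) = 1 := by
      have h1 := congrFun (congrFun hA3 0) 0
      rw [hA, show (A₀.map F₀.subtype) ^ 3 = (A₀ ^ 3).map F₀.subtype from (Matrix.map_pow A₀ F₀.subtype 3).symm] at h1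
      simpa using h1
    obtain ⟨b, hb⟩ := surjective_frobenius F₀ 3 ((A₀ ^ 3) 0 0)⁻¹
    have hcb : c = (b : F) := by
      apply frobenius_inj F 3
      rw [frobenius_def, frobenius_def]
      have h2 : ((b : F)) ^ 3 = (((A₀ ^ 3) 0 0 : F₀) : F)⁻¹ := by
        have := congrArg Subtype.val hb
        simpa [frobenius_def] using this
      rw [h2]
      exact eq_inv_of_mul_eq_one_left hc3
    let N₁ : Matrix (Fin n) (Fin n) F₀ := b • A₀ - 1
    have hN₁ : N₁.map F₀.subtype = c • A - 1 := by
      ext r s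
      by_cases hrs : r = s <;> simp [N₁, hA, hcb, hrs]
    have hsc' : SemiconjBy (Q : Matrix (Fin n) (Fin n) F) (c • A - 1) (X - 1) := hsc.sub_right (SemiconjBy.one_right _)
    have hX1 : X - 1 = D * N0 * D' := by
      simp only [X, mul_add, add_mul, mul_one, hDD', add_sub_cancel_left]
    have hN₁2 : N₁ ^ 2 = 0 := by
      apply Matrix.map_injective F₀.subtype.injective
      simp only
      rw [Matrix.map_pow, hN₁, Matrix.map_zero _ (map_zero _)]
      have h1 := (hsc'.pow_right 2).eq
      rw [hX1, show (D * N0 * D') ^ 2 = 0 by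
        rw [sq, show D * N0 * D' * (D * N0 * D') = D * (N0 * (D' * D) * N0) * D' by simp only [mul_assoc],
          hDD, mul_one, ← sq, hN0, mul_zero, zero_mul], zero_mul] at h1
      exact hQu.mul_right_injective (h1.trans (mul_zero _).symm)
    obtain ⟨L', m, e', R₀, hm, hR₀, hR⟩ := exists_matrix_shift N₁ hN₁2
    set R : Matrix (Fin n) (Fin n) F := R₀.map F₀.subtype with hRdef
    have hRdet : R.det = (R₀.det : F) := (RingHom.map_det F₀.subtype R₀).symm
    have hRu : IsUnit R := (Matrix.isUnit_iff_isUnit_det _).2 (isUnit_iff_ne_zero.2 (by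
      rw [hRdet]; simpa using hR₀))
    set S : Matrix (Fin n) (Fin n) F := Matrix.reindex e' e' (shiftMatrix F m) with hS
    have hSR : (c • A - 1) * R = R * S := by
      rw [← hN₁, hRdef, ← Matrix.map_mul, hR, Matrix.map_mul]
      congr 1
      ext r s
      simp only [hS, Matrix.map_apply, Matrix.reindex_apply, Matrix.submatrix_apply, shiftMatrix, Matrix.of_apply]
      split_ifs <;> simp
    -- transfer of a homotopy from the standard element
    set T : Matrix (Fin n) (Fin n) F := D' * (Q : Matrix (Fin n) (Fin n) F) * R with hT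
    have hTu : IsUnit T := ((IsUnit.of_mul_eq_one D hDD).mul hQu).mul hRu
    have hTS : T * S = N0 * T := by
      calc T * S = D' * ((Q : Matrix (Fin n) (Fin n) F) * ((c • A - 1) * R)) := by rw [hSR, hT]; simp only [mul_assoc]
        _ = D' * ((X - 1) * (Q : Matrix (Fin n) (Fin n) F)) * R := by rw [← hsc'.eq]; simp only [mul_assoc]
        _ = N0 * T := by rw [hX1, hT]; simp only [← mul_assoc, hDD, one_mul]
    obtain ⟨U, hU⟩ := hTu
    let M0 : Matrix (Fin n) (Fin n) F := Matrix.reindex e e (Matrix.fromBlocks 0 1 0 0)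
    have hM0 : N0 * M0 + M0 * N0 = 1 := by
      simp only [N0, M0, blockN, Matrix.reindex_apply, Matrix.submatrix_mul_equiv, Matrix.fromBlocks_multiply]
      ext r s
      obtain ⟨r', rfl⟩ := e.surjective r
      obtain ⟨s', rfl⟩ := e.surjective s
      rcases r' with r' | r' <;> rcases s' with s' | s' <;> simp [Matrix.one_apply, e.injective.eq_iff]
    let M1 : Matrix (Fin n) (Fin n) F := ((U⁻¹ : (Matrix (Fin n) (Fin n) F)ˣ) : Matrix (Fin n) (Fin n) F) * M0 * T
    have hM1 : S * M1 + M1 * S = 1 := by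
      apply (hU ▸ U.isUnit : IsUnit T).mul_right_injective
      show T * (S * M1 + M1 * S) = T * 1
      have hTi : T * ((U⁻¹ : (Matrix (Fin n) (Fin n) F)ˣ) : Matrix (Fin n) (Fin n) F) = 1 := by rw [← hU, Units.mul_inv]
      calc T * (S * M1 + M1 * S)
          = T * S * M1 + T * ((U⁻¹ : (Matrix (Fin n) (Fin n) F)ˣ) : Matrix (Fin n) (Fin n) F) * M0 * (T * S) := by
            simp only [M1, mul_add, mul_assoc]
        _ = N0 * (T * ((U⁻¹ : (Matrix (Fin n) (Fin n) F)ˣ) : Matrix (Fin n) (Fin n) F)) * M0 * T + M0 * (N0 * T) := by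
            rw [hTi, one_mul, hTS]; simp only [M1, mul_assoc]; rw [← mul_assoc T, hTi, one_mul]
        _ = (N0 * M0 + M0 * N0) * T := by rw [hTi, mul_one, add_mul, mul_assoc M0]
        _ = T * 1 := by rw [hM0, one_mul, mul_one]
    have hm2 : ∀ i, m i = 2 := by
      intro i
      by_contra hi
      have hi1 : m i = 1 := by have := hm i; omega
      let r : Fin n := e' ⟨i, ⟨0, by omega⟩⟩
      have h1 := congrFun (congrFun hM1 r) r
      simp only [Matrix.add_apply, Matrix.mul_apply, hS, Matrix.reindex_apply, Matrix.submatrix_apply, shiftMatrix,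
        Matrix.of_apply, r, Equiv.symm_apply_apply, Matrix.one_apply_eq] at h1
      rw [Finset.sum_eq_zero, Finset.sum_eq_zero, add_zero] at h1
      · exact zero_ne_one h1
      all_goals
        intro j _
        rw [if_neg]
        · simp
        · rintro ⟨hij, hk'⟩
          have hm1 : m (e'.symm j).1 = 1 := by first | rw [hij]; exact hi1 | rw [← hij]; exact hi1
          have := (e'.symm j).2.isLt
          simp at hk'
          try omega
    have hLL : L' = L := by
      have h1 := Fintype.card_congr e'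
      rw [Fintype.card_sigma, Finset.sum_congr rfl (fun i _ => (Fintype.card_fin (m i)).trans (hm2 i)), Finset.sum_const,
        Finset.card_univ, Fintype.card_fin, Fintype.card_fin, smul_eq_mul] at h1
      omega
    subst hLL
    obtain ⟨g, hg⟩ : ∃ g : ((i : Fin L') × Fin (m i)) ≃ Fin L' ⊕ Fin L', ∀ r s, shiftMatrix F m r s = blockN F L' (g r) (g s) := by
      obtain rfl : m = fun _ => 2 := funext hm2
      refine ⟨(Equiv.sigmaEquivProd _ _).trans ((Equiv.prodComm _ _).trans ((finTwoEquiv.prodCongr (Equiv.refl _)).trans (Equiv.boolProdEquivSum _))), ?_⟩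
      rintro ⟨i, a⟩ ⟨j, b⟩
      fin_cases a <;> fin_cases b <;> simp [shiftMatrix, blockN, Equiv.boolProdEquivSum, finTwoEquiv, Matrix.one_apply]
    let C : Matrix (Fin L' ⊕ Fin L') (Fin L' ⊕ Fin L') F := T.submatrix e (g.symm.trans e')
    let π : Equiv.Perm (Fin n) := e.symm.trans (g.symm.trans e')
    have hC : C * blockN F L' = blockN F L' * C := by
      have hb : blockN F L' = S.submatrix (g.symm.trans e') (g.symm.trans e') := by
        ext r s; simp [hS, hg]
      have hb' : blockN F L' = N0.submatrix e e := by ext r s; simp [N0]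
      nth_rewrite 1 [hb]
      rw [hb']
      simp only [C, Matrix.submatrix_mul_equiv, hTS]
    obtain ⟨s, hs⟩ := det_commutant C hC
    have hCdet : C.det = (Equiv.Perm.sign π : F) * T.det := by
      have h1 : C = (T.submatrix id π).submatrix e e := by
        ext r s; simp [C, π]
      rw [h1, Matrix.det_submatrix_equiv_self, Matrix.det_permute']
    rw [hCdet, hT, Matrix.det_mul, Matrix.det_mul, Q.det_coe, hRdet] at hs
    have hD' : D'.det = c0⁻¹ := by
      rw [Matrix.det_diagonal, Finset.prod_eq_single 0] <;> simp +contextual [d]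
    rw [hD', mul_one] at hs
    apply hc0
    have hsgn : IsSquare (Equiv.Perm.sign π : F) := by
      rcases Int.units_eq_one_or (Equiv.Perm.sign π) with h1 | h1 <;> rw [h1]
      · simp
      · simpa using hF₀sq (-1) (by simp)
    have hr : IsSquare ((R₀.det : F₀) : F) := hF₀sq _ (by simpa using hR₀)
    obtain ⟨u, hu⟩ := hsgn.mul hr
    have hu0 : (u : F) ≠ 0 := by
      rintro rfl
      rw [mul_zero, mul_eq_zero] at hu
      rcases hu with h1 | h1
      · rcases Int.units_eq_one_or (Equiv.Perm.sign π) with h2 | h2 <;> simp [h2] at h1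
      · exact hR₀ (by simpa using h1)
    refine ⟨u / s, ?_⟩
    have hs0 : s ≠ 0 := by
      rintro rfl
      rw [sq, zero_mul, show ((Equiv.Perm.sign π : F) * (c0⁻¹ * ((R₀.det : F₀) : F))) = c0⁻¹ * (u * u) by rw [← hu]; ring] at hs
      simp [hc00, hu0] at hs
    field_simp
    rw [show ((Equiv.Perm.sign π : F) * (c0⁻¹ * ((R₀.det : F₀) : F))) = c0⁻¹ * (u * u) by rw [← hu]; ring] at hs
    field_simp at hs
    linear_combination -hs
  · intro hcase x hx _
    obtain ⟨z, hz⟩ := hx
    obtain ⟨μ, N, hN, hxN⟩ := hnilx x z hz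
    refine exists_conj_unipotent F₀ x μ N hN hxN fun L m hsum hm => ?_
    by_cases h13 : ∃ i, m i = 1 ∨ m i = 3
    · obtain ⟨i, hi⟩ := h13
      refine ⟨i, fun t _ => ?_⟩
      rcases hi with hi | hi <;> rw [hi]
      · exact ⟨t, 1, by simp⟩
      · obtain ⟨a, ha⟩ := hcube t
        exact ⟨a, 1, by simpa using ha⟩
    push Not at h13
    have h2 : ∀ i, m i = 2 := fun i => by have := hm i; have := h13 i; omega
    have hL : L * 2 = n := by
      rw [← hsum, Finset.sum_congr rfl (fun i _ => h2 i)]; simp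
    have hkodd : Odd k := by
      rcases hcase with hodd | ⟨-, hk2⟩
      · exact absurd hodd (Nat.not_odd_iff_even.2 ⟨L, by omega⟩)
      · exact hk.odd_of_ne_two (by omega)
    obtain ⟨i⟩ : Nonempty (Fin L) := ⟨⟨0, by omega⟩⟩
    refine ⟨i, fun t ht => ?_⟩
    rw [h2 i]
    by_cases hsq : IsSquare t
    · obtain ⟨a, rfl⟩ := hsq
      exact ⟨a, 1, by simp [sq]⟩
    · haveI : Fintype F₀ := Fintype.ofFinite _
      have hF₀2 : ringChar F₀ ≠ 2 := by rw [ringChar.eq F₀ 3]; decide
      obtain ⟨g, hg⟩ := FiniteField.exists_nonsquare hF₀2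
      have hg0 : g ≠ 0 := fun h0 => hg (h0 ▸ IsSquare.zero)
      have hgF : ¬ IsSquare (g : F) := by
        rw [FiniteField.isSquare_iff hF2 (by simpa using hg0), hq, hqk]
        rw [FiniteField.isSquare_iff hF₀2 hg0, ← Nat.card_eq_fintype_card, hF₀] at hg
        have hneg : (g : F) ^ (q₀ / 2) = -1 := by
          have h1 := FiniteField.pow_dichotomy hF₀2 hg0
          rw [← Nat.card_eq_fintype_card, hF₀] at h1
          simpa using congrArg Subtype.val (h1.resolve_left hg)
        obtain ⟨w, hw⟩ : ∃ w, q₀ ^ k / 2 = q₀ / 2 * w ∧ Odd w := by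
          refine ⟨∑ i ∈ Finset.range k, q₀ ^ i, ?_, ?_⟩
          · obtain ⟨u, hu⟩ : ∃ u, q₀ = 2 * u + 1 := ⟨q₀ / 2, by omega⟩
            have h3 := geom_sum_mul_add (2 * u) k
            rw [← hu] at h3
            rw [← h3, show (∑ i ∈ Finset.range k, q₀ ^ i) * (2 * u) + 1 = 1 + 2 * ((∑ i ∈ Finset.range k, q₀ ^ i) * u) by ring,
              Nat.add_mul_div_left _ _ (by norm_num), show q₀ / 2 = u by omega]
            simp [mul_comm]
          · rw [Nat.odd_iff, Finset.sum_nat_mod, Finset.sum_congr rfl (fun i _ => by rw [Nat.pow_mod, hq0.2, one_pow]),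
              Finset.sum_const, Finset.card_range, smul_eq_mul, Nat.mod_eq_of_lt (by norm_num : 1 < 2), mul_one,
              ← Nat.odd_iff]
            exact hkodd
        rw [hw.1, pow_mul, hneg, hw.2.neg_one_pow]
        intro h1
        exact Ring.neg_one_ne_one_of_char_ne_two hF2 h1
      have hsq2 : IsSquare (t * (g : F)⁻¹) := by
        have hgF0 : (g : F) ≠ 0 := by simpa using hg0
        rw [FiniteField.isSquare_iff hF2 (mul_ne_zero ht (inv_ne_zero hgF0)), mul_pow, inv_pow]
        rw [FiniteField.isSquare_iff hF2 ht] at hsq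
        rw [FiniteField.isSquare_iff hF2 hgF0] at hgF
        rw [(FiniteField.pow_dichotomy hF2 ht).resolve_left hsq, (FiniteField.pow_dichotomy hF2 hgF0).resolve_left hgF,
          inv_neg, inv_one, neg_mul_neg, one_mul]
      obtain ⟨a, ha⟩ := hsq2
      refine ⟨a, g, ?_⟩
      rw [sq, ← ha, inv_mul_cancel_right₀ (by simpa using hg0)]


end Cfsg.Agent.S5966
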