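import Cfsg.Statements.S5967
import Cfsg.Agent.H99.Similitude
import Cfsg.Agent.H99.FieldExt
import Cfsg.Agent.H99.Diag
import Cfsg.Agent.H99.SquareScalar
-- import your own Cfsg.Agent.* helpers here

set_option autoImplicit false
open scoped MatrixGroups
open Cfsg

namespace Cfsg.Agent.S5967

open Cfsg.Agent.H99 Cfsg.Geo
open scoped Matrix

variable {F : Type*} [Field F] {n m : ℕ}

theorem pairBlock_mul (e : Fin 2 × Fin m ≃ Fin n) (M M' : Fin m → Matrix (Fin 2) (Fin 2) F) :
    pairBlock e M * pairBlock e M' = pairBlock e fun i => M i * M' i := by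
  simp only [pairBlock, Matrix.reindex_apply, Matrix.submatrix_mul_equiv, ← Matrix.blockDiagonal_mul]

theorem det_pairBlock (e : Fin 2 × Fin m ≃ Fin n) (M : Fin m → Matrix (Fin 2) (Fin 2) F) :
    (pairBlock e M).det = ∏ i, (M i).det := by
  rw [pairBlock, Matrix.det_reindex_self, Matrix.det_blockDiagonal]

theorem mul_pairBlock (e : Fin 2 × Fin m ≃ Fin n) (M : Fin m → Matrix (Fin 2) (Fin 2) F) (x Q : Matrix (Fin n) (Fin n) F)
    (h : ∀ a i, x *ᵥ Q.col (e (a, i)) = M i 0 a • Q.col (e (0, i)) + M i 1 a • Q.col (e (1, i))) :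
    x * Q = Q * pairBlock e M := by
  ext r c
  obtain ⟨⟨a, i⟩, rfl⟩ := e.surjective c
  have h1 := congrFun (h a i) r
  show (x *ᵥ Q.col (e (a, i))) r = _
  rw [h1, Matrix.mul_apply, ← e.sum_comp]
  simp [pairBlock, Fintype.sum_prod_type, Matrix.blockDiagonal_apply, Fin.sum_univ_two, Matrix.col, mul_comm]

theorem mem_of_form {f : (Fin n → F) → (Fin n → F) → F} (x P : Matrix.SpecialLinearGroup (Fin n) F) (y : Matrix (Fin n) (Fin n) F)
    (h : (x : Matrix (Fin n) (Fin n) F) * (P : Matrix (Fin n) (Fin n) F) = (P : Matrix (Fin n) (Fin n) F) * y)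
    (lam : F) (hlam : lam ≠ 0) (hy : ∀ u v, f (y *ᵥ u) (y *ᵥ v) = lam * f u v) :
    P⁻¹ * x * P ∈ ((similarityGroup f).comap (Matrix.SpecialLinearGroup.toGL : Matrix.SpecialLinearGroup (Fin n) F →* GL (Fin n) F)) := by
  have he : ((P⁻¹ * x * P : Matrix.SpecialLinearGroup (Fin n) F) : Matrix (Fin n) (Fin n) F) = y := by
    rw [Matrix.SpecialLinearGroup.coe_mul, Matrix.SpecialLinearGroup.coe_mul, mul_assoc, h, ← mul_assoc,
      ← Matrix.SpecialLinearGroup.coe_mul, inv_mul_cancel, Matrix.SpecialLinearGroup.coe_one, one_mul]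
  refine ⟨Units.mk0 lam hlam, fun u v => ?_⟩
  show f (((P⁻¹ * x * P : Matrix.SpecialLinearGroup (Fin n) F) : Matrix (Fin n) (Fin n) F) *ᵥ u)
    (((P⁻¹ * x * P : Matrix.SpecialLinearGroup (Fin n) F) : Matrix (Fin n) (Fin n) F) *ᵥ v) = _
  rw [he]
  exact hy u v

/-- From a similarity to a block diagonal element to a conjugate in the similitude group. -/
theorem finish {f : (Fin n → F) → (Fin n → F) → F} (x : Matrix.SpecialLinearGroup (Fin n) F) (e : Fin 2 × Fin m ≃ Fin n)
    (Pm : Matrix (Fin n) (Fin n) F) (hPm : IsUnit Pm.det)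
    (hsim : ∀ (M : Fin m → Matrix (Fin 2) (Fin 2) F) (lam : F), (∀ i, (M i).det = lam) →
        ∀ u v, f ((Pm * pairBlock e M * Pm⁻¹) *ᵥ u) ((Pm * pairBlock e M * Pm⁻¹) *ᵥ v) = lam * f u v)
    (M : Fin m → Matrix (Fin 2) (Fin 2) F) (lam : F) (hlam : lam ≠ 0) (hM : ∀ i, (M i).det = lam)
    (Q : Matrix (Fin n) (Fin n) F) (hQ : Q.det ≠ 0) (hxQ : (x : Matrix (Fin n) (Fin n) F) * Q = Q * pairBlock e M)
    (hD : ∀ t : F, t ≠ 0 → ∃ D : Fin m → Matrix (Fin 2) (Fin 2) F, (∀ i, D i * M i = M i * D i) ∧ ∏ i, (D i).det = t) :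
    ∃ P : Matrix.SpecialLinearGroup (Fin n) F,
      P⁻¹ * x * P ∈ ((similarityGroup f).comap (Matrix.SpecialLinearGroup.toGL : Matrix.SpecialLinearGroup (Fin n) F →* GL (Fin n) F)) := by
  obtain ⟨D, hDM, hDdet⟩ := hD (Pm.det / Q.det) (div_ne_zero hPm.ne_zero hQ)
  refine ⟨⟨Q * pairBlock e D * Pm⁻¹, ?_⟩, mem_of_form x _ (Pm * pairBlock e M * Pm⁻¹) ?_ lam hlam (hsim M lam hM)⟩
  · rw [Matrix.det_mul, Matrix.det_mul, det_pairBlock, hDdet, Matrix.det_nonsing_inv, Ring.inverse_eq_inv]
    have := hPm.ne_zero
    field_simp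
  · show (x : Matrix (Fin n) (Fin n) F) * (Q * pairBlock e D * Pm⁻¹) = Q * pairBlock e D * Pm⁻¹ * (Pm * pairBlock e M * Pm⁻¹)
    rw [← mul_assoc, ← mul_assoc, hxQ, mul_assoc Q (pairBlock e M), pairBlock_mul, show (fun i => M i * D i) = fun i => D i * M i from
      funext fun i => (hDM i).symm, ← pairBlock_mul]
    simp only [mul_assoc, Matrix.nonsing_inv_mul_cancel_left _ _ hPm]


/-- Involutions of PSL_n(q) and the symplectic-type subgroups. Here `T = PSL_n(F)` for a field `F` with `q` elements, `n ≥ 4` even, `f` is a nondegenerate alternating form on `F^n`, and `H` is the subgroup of matrices of determinant 1 preserving `f` up to a scalar — a maximal subgroup of type Sp_n(q); Ω is the set of `T`-conjugates of `H` (cosets of `H`), so an element of `T` of prime order `r` (a matrix `x` of determinant 1 with `x^r` scalar, `x` not scalar) fixes a point of Ω when some conjugate of `x` by a matrix of determinant 1 preserves `f` up to a scalar. Suppose the index of `H` is even. Then every involution of `T` is conjugate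 in `T` into `H` if and only if `(q − 1)_2 ≤ (n)_2`. -/
theorem result {F : Type*} [Field F] [Fintype F] {p : ℕ} [Fact p.Prime] [CharP F p] {q : ℕ} (hq : Fintype.card F = q)
    (n : ℕ) (hn : 4 ≤ n) (he : Even n) (f : (Fin n → F) → (Fin n → F) → F) (hf : Cfsg.Geo.IsSymplecticForm f)
    (hΩ : 2 ∣ ((Cfsg.Geo.similarityGroup f).comap (Matrix.SpecialLinearGroup.toGL : Matrix.SpecialLinearGroup (Fin n) F →* GL (Fin n) F)).index) :
    (∀ x : Matrix.SpecialLinearGroup (Fin n) F,
      (∃ z : F, ((x ^ 2 : Matrix.SpecialLinearGroup (Fin n) F) : Matrix (Fin n) (Fin n) F) = z • (1 : Matrix (Fin n) (Fin n) F)) →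
      (∀ z : F, (x : Matrix (Fin n) (Fin n) F) ≠ z • (1 : Matrix (Fin n) (Fin n) F)) →
      ∃ P : Matrix.SpecialLinearGroup (Fin n) F, P⁻¹ * x * P ∈ ((Cfsg.Geo.similarityGroup f).comap (Matrix.SpecialLinearGroup.toGL : Matrix.SpecialLinearGroup (Fin n) F →* GL (Fin n) F))) ↔
    padicValNat 2 (q - 1) ≤ padicValNat 2 n := by
  classical
  haveI : NeZero n := ⟨by omega⟩
  haveI : Nonempty (Fin n) := ⟨0⟩
  haveI : Fact (Nat.Prime 2) := ⟨Nat.prime_two⟩
  have hq1 : 1 < q := hq ▸ Fintype.one_lt_card
  have hf0 : ∀ v : Fin n → F, (∀ u, f v u = 0) → v = 0 := fun v h => by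
    by_contra hv
    obtain ⟨-, u, hu⟩ := hf.nondegenerate v hv
    exact hu (h u)
  constructor
  · intro h
    by_contra hv
    push Not at hv
    have hodd : Odd q := by
      by_contra hev
      rw [Nat.not_odd_iff_even] at hev
      have : ¬ 2 ∣ q - 1 := by rw [Nat.even_iff] at hev; omega
      rw [padicValNat.eq_zero_of_not_dvd this] at hv
      omega
    have hF2 : ringChar F ≠ 2 := fun h2 => by
      have := FiniteField.even_card_iff_char_two.1 h2
      rw [hq, Nat.odd_iff.1 hodd] at this
      omega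
    set v := padicValNat 2 n with hvdef
    have hdvd : 2 ^ (v + 1) ∣ q - 1 := (pow_dvd_pow 2 hv).trans pow_padicValNat_dvd
    obtain ⟨gen, hgen⟩ := IsCyclic.exists_generator (α := Fˣ)
    have hgo : orderOf gen = q - 1 := by
      rw [orderOf_eq_card_of_forall_mem_zpowers hgen, Nat.card_eq_fintype_card, Fintype.card_units, hq]
    obtain ⟨ν, hν⟩ : ∃ ν : Fˣ, orderOf ν = 2 ^ (v + 1) :=
      ⟨gen ^ ((q - 1) / 2 ^ (v + 1)), orderOf_pow_orderOf_div (by omega : orderOf gen ≠ 0) (hgo ▸ hdvd) |> fun h => by rwa [hgo] at h⟩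
    set μ : F := (ν : F) with hμ
    have hμ0 : μ ≠ 0 := ν.ne_zero
    have hμv : μ ^ (2 ^ v) = -1 := by
      have h1 : (μ ^ (2 ^ v)) ^ 2 = 1 := by
        rw [← pow_mul, ← pow_succ, hμ, ← hν, ← Units.val_pow_eq_pow_val, pow_orderOf_eq_one, Units.val_one]
      refine (sq_eq_one_iff.1 h1).resolve_left fun h2 => ?_
      have h3 := orderOf_dvd_of_pow_eq_one (x := ν) (Units.ext (by simpa using h2))
      rw [hν] at h3
      have := (Nat.pow_dvd_pow_iff_le_right (by norm_num : 1 < 2)).1 h3
      omega
    obtain ⟨u, hu⟩ : 2 ^ v ∣ n := pow_padicValNat_dvd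
    have huodd : Odd u := by
      rw [Nat.odd_iff, ← Nat.two_dvd_ne_zero]
      intro h2
      have h3 : 2 ^ (v + 1) ∣ n := by rw [pow_succ, hu]; exact Nat.mul_dvd_mul_left _ h2
      rw [padicValNat_dvd_iff_le (by omega)] at h3
      omega
    have hμn : μ ^ n = -1 := by rw [hu, pow_mul, hμv, huodd.neg_one_pow]
    have hμμ : -μ ≠ μ := fun h1 => hμ0 ((Ring.eq_self_iff_eq_zero_of_char_ne_two hF2).1 h1)
    let j : Fin n := 0
    let e : Fin n → F := Function.update (fun _ => μ) j (-μ)
    let x : Matrix.SpecialLinearGroup (Fin n) F := ⟨Matrix.diagonal e, by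
      rw [Matrix.det_diagonal, Finset.prod_update_of_mem (Finset.mem_univ _), Finset.prod_const, Finset.card_sdiff,
        Finset.card_univ, Fintype.card_fin]
      simp
      rw [show -(μ * μ ^ (n - 1)) = -(μ ^ (n - 1 + 1)) by rw [pow_succ'], Nat.sub_add_cancel (by omega), hμn, neg_neg]⟩
    obtain ⟨P, hP⟩ := h x ⟨μ ^ 2, by
        rw [Matrix.SpecialLinearGroup.coe_pow]
        show (Matrix.diagonal e) ^ 2 = _
        rw [Matrix.diagonal_pow, Matrix.smul_one_eq_diagonal]
        congr 1; funext i
        by_cases hi : i = j <;> simp [e, hi]⟩ (fun z hz => by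
        have h1 := congrFun (congrFun hz j) j
        have h2 := congrFun (congrFun hz ⟨1, by omega⟩) ⟨1, by omega⟩
        simp [x, e, j, Fin.ext_iff] at h1 h2
        exact hμμ (h1.trans h2.symm))
    obtain ⟨c, hc⟩ := hP
    -- transport the form
    let g : (Fin n → F) → (Fin n → F) → F := fun a b => f (((P⁻¹ : Matrix.SpecialLinearGroup (Fin n) F) : Matrix (Fin n) (Fin n) F) *ᵥ a) (((P⁻¹ : Matrix.SpecialLinearGroup (Fin n) F) : Matrix (Fin n) (Fin n) F) *ᵥ b)
    have hg : ∀ a b, g ((x : Matrix (Fin n) (Fin n) F) *ᵥ a) ((x : Matrix (Fin n) (Fin n) F) *ᵥ b) = (c : F) * g a b := by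
      intro a b
      have h1 := hc (((P⁻¹ : Matrix.SpecialLinearGroup (Fin n) F) : Matrix (Fin n) (Fin n) F) *ᵥ a) (((P⁻¹ : Matrix.SpecialLinearGroup (Fin n) F) : Matrix (Fin n) (Fin n) F) *ᵥ b)
      have h2 : ∀ w, ((Matrix.SpecialLinearGroup.toGL (P⁻¹ * x * P) : GL (Fin n) F) : Matrix (Fin n) (Fin n) F) *ᵥ (((P⁻¹ : Matrix.SpecialLinearGroup (Fin n) F) : Matrix (Fin n) (Fin n) F) *ᵥ w) =
          ((P⁻¹ : Matrix.SpecialLinearGroup (Fin n) F) : Matrix (Fin n) (Fin n) F) *ᵥ ((x : Matrix (Fin n) (Fin n) F) *ᵥ w) := by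
        intro w
        show ((P⁻¹ * x * P : Matrix.SpecialLinearGroup (Fin n) F) : Matrix (Fin n) (Fin n) F) *ᵥ _ = _
        rw [Matrix.mulVec_mulVec, Matrix.mulVec_mulVec, ← Matrix.SpecialLinearGroup.coe_mul, mul_inv_cancel_right,
          Matrix.SpecialLinearGroup.coe_mul]
      rw [h2, h2] at h1
      exact h1
    have hgl : ∀ (s : F) a b, g (s • a) b = s * g a b := fun s a b => by
      simp only [g, Matrix.mulVec_smul, hf.bilinear.smul_left]
    have hgr : ∀ (s : F) a b, g a (s • b) = s * g a b := fun s a b => by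
      simp only [g, Matrix.mulVec_smul, hf.bilinear.smul_right]
    have hga : ∀ a b b', g a (b + b') = g a b + g a b' := fun a b b' => by
      simp only [g, Matrix.mulVec_add, hf.bilinear.add_right]
    have hgv : ∀ a, g a a = 0 := fun a => hf.alternating _
    have hgnd : ∀ a, (∀ b, g a b = 0) → a = 0 := by
      intro a ha
      have h1 : ((P⁻¹ : Matrix.SpecialLinearGroup (Fin n) F) : Matrix (Fin n) (Fin n) F) *ᵥ a = 0 := hf0 _ fun u => by
        have := ha ((P : Matrix (Fin n) (Fin n) F) *ᵥ u)
        simp only [g, Matrix.mulVec_mulVec, ← Matrix.SpecialLinearGroup.coe_mul, inv_mul_cancel,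
          Matrix.SpecialLinearGroup.coe_one, Matrix.one_mulVec] at this
        exact this
      have h2 := congrArg (fun w => (P : Matrix (Fin n) (Fin n) F) *ᵥ w) h1
      simp only [Matrix.mulVec_mulVec, ← Matrix.SpecialLinearGroup.coe_mul, mul_inv_cancel,
        Matrix.SpecialLinearGroup.coe_one, Matrix.one_mulVec, Matrix.mulVec_zero] at h2
      exact h2
    have hxw : ∀ w : Fin n → F, w j = 0 → (x : Matrix (Fin n) (Fin n) F) *ᵥ w = μ • w := by
      intro w hw
      funext i
      by_cases hi : i = j
      · subst hi; simp [x, Matrix.mulVec_diagonal, hw]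
      · simp [x, e, Matrix.mulVec_diagonal, hi]
    have hxj : (x : Matrix (Fin n) (Fin n) F) *ᵥ Pi.single j 1 = (-μ) • (Pi.single j 1 : Fin n → F) := by
      funext i
      by_cases hi : i = j
      · subst hi; simp [x, e, Matrix.mulVec_diagonal]
      · simp [x, Matrix.mulVec_diagonal, hi]
    set ej : Fin n → F := Pi.single j 1 with hej
    have hdec : ∀ b : Fin n → F, ∃ w, w j = 0 ∧ b = w + b j • ej := fun b => ⟨b - b j • ej, by simp [ej], by simp⟩
    -- a vector outside the radical of the hyperplane
    obtain ⟨a, b, ha, hb, hab⟩ : ∃ a b : Fin n → F, a j = 0 ∧ b j = 0 ∧ g a b ≠ 0 := by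
      by_contra hno
      push Not at hno
      let j1 : Fin n := ⟨1, by omega⟩
      let j2 : Fin n := ⟨2, by omega⟩
      let a : Fin n → F := g (Pi.single j2 1) ej • Pi.single j1 1 + (-(g (Pi.single j1 1) ej)) • Pi.single j2 1
      have haj : a j = 0 := by simp [a, j, j1, j2, Fin.ext_iff]
      by_cases h1 : g (Pi.single j1 1) ej = 0
      · have := hgnd (Pi.single j1 1) fun b => by
          obtain ⟨w, hw, hb⟩ := hdec b
          rw [hb, hga, hgr, hno _ _ (by simp [j, j1, Fin.ext_iff]) hw, h1, mul_zero, add_zero]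
        simpa using congrFun this j1
      · have := hgnd a fun b => by
          obtain ⟨w, hw, hb⟩ := hdec b
          rw [hb, hga, hgr, hno _ _ haj hw, zero_add]
          have h2 : g a ej = 0 := by
            simp only [a, g, Matrix.mulVec_add, Matrix.mulVec_smul, hf.bilinear.add_left, hf.bilinear.smul_left]
            ring
          rw [h2, mul_zero]
        have h3 := congrFun this j2
        simp [a, j1, j2, Fin.ext_iff] at h3
        exact h1 h3
    have hcμ : (c : F) = μ ^ 2 := by
      have h1 := hg a b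
      rw [hxw a ha, hxw b hb, hgl, hgr, ← mul_assoc, ← sq] at h1
      exact (mul_right_cancel₀ hab h1).symm
    have hperp : ∀ w : Fin n → F, w j = 0 → g w ej = 0 := by
      intro w hw
      have h1 := hg w ej
      rw [hxw w hw, hxj, hgl, hgr, hcμ] at h1
      have h2 : (2 * μ ^ 2) * g w ej = 0 := by linear_combination -h1
      exact (mul_eq_zero.1 h2).resolve_left (mul_ne_zero (Ring.two_ne_zero hF2) (pow_ne_zero _ hμ0))
    have := hgnd ej fun b => by
      obtain ⟨w, hw, hb⟩ := hdec b
      rw [hb, hga, hgr, hgv, mul_zero, add_zero]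
      have hskew : g ej w = - g w ej := hf.skew _ _
      rw [hskew, hperp w hw, neg_zero]
    simpa [ej] using congrFun this j
  · intro hv x hx _
    obtain ⟨z, hz⟩ := hx
    rw [Matrix.SpecialLinearGroup.coe_pow, sq] at hz
    have hz0 : z ≠ 0 := by
      intro h0
      have h1 := congrArg Matrix.det hz
      rw [Matrix.det_mul, x.det_coe, h0] at h1
      simp [NeZero.ne n] at h1
    obtain ⟨m, e, Pm, hPm, hsim⟩ := exists_similitude_pairs f hf
    have hmn : 2 * m = n := by simpa using Fintype.card_congr e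
    haveI : Nonempty (Fin m) := ⟨⟨0, by omega⟩⟩
    let i₀ : Fin m := ⟨0, by omega⟩
    by_cases hsq : IsSquare z
    · obtain ⟨μ, rfl⟩ := hsq
      have hμ0 : μ ≠ 0 := fun h0 => hz0 (by rw [h0, mul_zero])
      by_cases h2 : ringChar F = 2
      · haveI : CharP F 2 := ringChar.of_eq h2
        let N : Matrix (Fin n) (Fin n) F := μ⁻¹ • (x : Matrix (Fin n) (Fin n) F) - 1
        have hxN : (x : Matrix (Fin n) (Fin n) F) = μ • (1 + N) := by
          rw [add_sub_cancel, smul_smul, mul_inv_cancel₀ hμ0, one_smul]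
        have hN : N * N = 0 := by
          haveI : CharP (Matrix (Fin n) (Fin n) F) 2 := Matrix.charP 2
          rw [← sq, sub_pow_char_of_commute 2 (Commute.one_right _), one_pow, smul_pow, sq (x : Matrix (Fin n) (Fin n) F), hz,
            smul_smul, ← sq μ, ← mul_pow, inv_mul_cancel₀ hμ0, one_pow, one_smul, sub_self]
        obtain ⟨k, l, b, hb1, hb2, hb3⟩ := exists_pair_basis (Matrix.toLin' N) (0 : F) (fun v => by
          rw [Matrix.toLin'_apply, Matrix.toLin'_apply, Matrix.mulVec_mulVec, hN, Matrix.zero_mulVec, zero_smul])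
        have hkl : 2 * k + l = n := by
          have := Module.finrank_eq_card_basis b
          simp [PairIdx] at this
          omega
        have hker : ∀ j, N *ᵥ b (Sum.inr j) = 0 := by
          intro j
          obtain ⟨c, hc⟩ := hb3 j
          rw [Matrix.toLin'_apply] at hc
          have h1 : N *ᵥ (N *ᵥ b (Sum.inr j)) = 0 := by rw [Matrix.mulVec_mulVec, hN, Matrix.zero_mulVec]
          rw [hc, Matrix.mulVec_smul, hc, smul_smul] at h1
          rw [hc, mul_self_eq_zero.1 ((smul_eq_zero.1 h1).resolve_right (b.ne_zero _)), zero_smul]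
        obtain ⟨d, hd⟩ : ∃ d, k + d = m := ⟨m - k, by omega⟩
        let ε : Fin 2 × Fin m ≃ PairIdx k l :=
          (((Equiv.refl (Fin 2)).prodCongr (finSumFinEquiv.trans (finCongr hd)).symm).trans (Equiv.prodSumDistrib _ _ _)).trans
            (Equiv.sumCongr ((Equiv.prodComm _ _).trans ((Equiv.refl _).prodCongr finTwoEquiv))
              (finProdFinEquiv.trans (finCongr (show 2 * d = l by omega))))
        let Q : Matrix (Fin n) (Fin n) F := Matrix.of fun r c => b (ε (e.symm c)) r
        have hQ : Q.det ≠ 0 := by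
          have h1 : Q = (Pi.basisFun F (Fin n)).toMatrix ((b.reindex ε.symm).reindex e) := by
            ext r c; simp [Q, Module.Basis.toMatrix_apply]
          rw [h1]
          exact ((Pi.basisFun F (Fin n)).is_basis_iff_det.1 ⟨Module.Basis.linearIndependent _, Module.Basis.span_eq _⟩).ne_zero
        have hcol : ∀ a i, Q.col (e (a, i)) = b (ε (a, i)) := fun a i => by funext r; simp [Q, Matrix.col]
        let M : Fin m → Matrix (Fin 2) (Fin 2) F := fun i => if (i : ℕ) < k then μ • !![1, 0; 1, 1] else μ • 1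
        refine finish x e Pm hPm hsim M (μ * μ) (mul_ne_zero hμ0 hμ0) (fun i => by
          simp only [M]; split <;> simp [Matrix.det_fin_two, sq]) Q hQ (mul_pairBlock e M _ Q fun a i => ?_) (fun t ht => ?_)
        · obtain ⟨i', rfl⟩ := (finSumFinEquiv.trans (finCongr hd)).surjective i
          rw [hcol, hcol, hcol, hxN, Matrix.smul_mulVec, Matrix.add_mulVec, Matrix.one_mulVec]
          rcases i' with i' | i'
          · have hlt : ((finSumFinEquiv.trans (finCongr hd)) (Sum.inl i') : ℕ) < k := by simp
            have he0 : ε (0, (finSumFinEquiv.trans (finCongr hd)) (Sum.inl i')) = Sum.inl (i', false) := by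
              simp [ε]; rfl
            have he1 : ε (1, (finSumFinEquiv.trans (finCongr hd)) (Sum.inl i')) = Sum.inl (i', true) := by
              simp [ε]; rfl
            fin_cases a
            · simp only [Fin.zero_eta, M, if_pos hlt, he0, he1]
              rw [show N *ᵥ b (Sum.inl (i', false)) = b (Sum.inl (i', true)) from hb1 i']
              simp [smul_add]
            · simp only [Fin.mk_one, M, if_pos hlt, he0, he1]
              rw [show N *ᵥ b (Sum.inl (i', true)) = (0 : F) • b (Sum.inl (i', false)) from hb2 i']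
              simp
          · have hlt : ¬ ((finSumFinEquiv.trans (finCongr hd)) (Sum.inr i') : ℕ) < k := by simp
            have he : ∀ a, ∃ j, ε (a, (finSumFinEquiv.trans (finCongr hd)) (Sum.inr i')) = Sum.inr j := fun a => by
              simp [ε]
            obtain ⟨ja, hja⟩ := he a
            rw [hja, hker, add_zero]
            simp only [M, if_neg hlt]
            fin_cases a <;> simp at hja ⊢ <;> rw [← hja]
        · obtain ⟨a, ha⟩ := FiniteField.isSquare_of_char_two h2 t
          refine ⟨Function.update 1 i₀ (a • 1), fun i => ?_, ?_⟩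
          · by_cases hi : i = i₀ <;> simp [hi]
          · rw [Finset.prod_eq_single i₀ (fun i _ hi => by simp [hi]) (by simp)]
            simp [ha, Matrix.det_fin_two, sq]
      · have hμμ : μ ≠ -μ := fun h1 => hμ0 ((Ring.eq_self_iff_eq_zero_of_char_ne_two h2).1 h1.symm)
        obtain ⟨ev, hev, hevσ⟩ := exists_specialLinear_conj_diagonal (Matrix.SpecialLinearGroup.toGL x) {μ, -μ} (by
          rw [Finset.prod_insert (by simpa using hμμ), Finset.prod_singleton, map_mul]
          simp only [map_sub, map_neg, sub_neg_eq_add, map_add, Polynomial.aeval_X, Polynomial.aeval_C, Algebra.algebraMap_eq_smul_one]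
          show ((x : Matrix (Fin n) (Fin n) F) - μ • 1) * ((x : Matrix (Fin n) (Fin n) F) + μ • 1) = 0
          rw [sub_mul, mul_add, mul_add, hz]
          simp [smul_smul, add_comm])
        obtain ⟨Qg, hQg, hQx⟩ := hevσ 1
        have hQd : (Qg : Matrix (Fin n) (Fin n) F).det = 1 := by
          rw [Cfsg.Geo.specialLinear, MonoidHom.mem_ker, ← Units.val_inj] at hQg
          simpa using hQg
        have hQx' : (x : Matrix (Fin n) (Fin n) F) * (Qg : Matrix (Fin n) (Fin n) F) = (Qg : Matrix (Fin n) (Fin n) F) * Matrix.diagonal ev := by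
          rw [show Matrix.diagonal ev = Matrix.diagonal (ev ∘ (1 : Equiv.Perm (Fin n))) from rfl, ← hQx, Units.val_mul, Units.val_mul]
          show _ = (Qg : Matrix (Fin n) (Fin n) F) * (_ * (x : Matrix (Fin n) (Fin n) F) * _)
          rw [← mul_assoc, ← mul_assoc, Units.mul_inv, one_mul]
        have hev' : ∀ i, ev i = μ ∨ ev i = -μ := fun i => by simpa using hev i
        set N₀ := Fintype.card {i // ev i = -μ} with hN₀
        have hdet : μ ^ n * (-1) ^ N₀ = 1 := by
          have h1 := congrArg Matrix.det hQx'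
          rw [Matrix.det_mul, Matrix.det_mul, x.det_coe, hQd, one_mul, one_mul, Matrix.det_diagonal] at h1
          rw [Finset.prod_congr rfl (fun i _ => show ev i = μ * (if ev i = -μ then -1 else 1) by
            rcases hev' i with h3 | h3 <;> simp [h3, hμμ]), Finset.prod_mul_distrib, Finset.prod_const, Finset.card_univ,
            Fintype.card_fin, Finset.prod_ite, Finset.prod_const, Finset.prod_const_one, mul_one, ← Fintype.card_subtype] at h1
          exact h1.symm
        obtain ⟨b', hb'⟩ : 2 ∣ N₀ := by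
          by_contra hb
          rw [← even_iff_two_dvd, Nat.not_even_iff_odd] at hb
          rw [hb.neg_one_pow, mul_neg_one, neg_eq_iff_eq_neg] at hdet
          set v := padicValNat 2 n with hvdef
          obtain ⟨u, hu⟩ : 2 ^ v ∣ n := pow_padicValNat_dvd
          let ν : Fˣ := Units.mk0 μ hμ0 ^ u
          have hν : (ν : F) ^ (2 ^ v) = -1 := by
            simp [ν, ← pow_mul, mul_comm u, ← hu, hdet]
          have hord : orderOf ν = 2 ^ (v + 1) := by
            refine orderOf_eq_prime_pow (fun h1 => ?_) ?_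
            · have h3 := congrArg (fun u : Fˣ => (u : F)) h1
              simp only [Units.val_pow_eq_pow_val, Units.val_one, hν] at h3
              exact Ring.neg_one_ne_one_of_char_ne_two h2 h3
            · apply Units.ext
              rw [Units.val_pow_eq_pow_val, pow_succ, pow_mul, hν, neg_one_sq, Units.val_one]
          have hd : 2 ^ (v + 1) ∣ q - 1 := by
            rw [← hord, ← hq, ← Fintype.card_units]
            exact orderOf_dvd_card
          rw [padicValNat_dvd_iff_le (by omega)] at hd
          omega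
        have hbn : N₀ ≤ n := le_of_le_of_eq (Fintype.card_subtype_le _) (Fintype.card_fin n)
        let fm : Fin m → F := fun i => if (i : ℕ) < b' then -μ else μ
        have hA : Fintype.card {a : Fin 2 × Fin m // fm a.2 = -μ} = 2 * b' := by
          rw [Fintype.card_congr (show {a : Fin 2 × Fin m // fm a.2 = -μ} ≃ Fin 2 × {i : Fin m // (i : ℕ) < b'} from
            { toFun := fun a => (a.1.1, ⟨a.1.2, by
                by_contra hlt
                have := a.2
                simp only [fm, if_neg hlt] at this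
                exact hμμ this⟩)
              invFun := fun a => ⟨(a.1, a.2.1), by simp [fm, a.2.2]⟩
              left_inv := fun a => rfl
              right_inv := fun a => rfl }), Fintype.card_prod, Fintype.card_fin, Fintype.card_fin_lt_of_le (by omega)]
        have hcard : ∀ c : F, Fintype.card {a : Fin 2 × Fin m // fm a.2 = c} = Fintype.card {i // ev i = c} := by
          intro c
          by_cases hc : c = -μ
          · subst hc; rw [hA, ← hN₀, hb']
          by_cases hc' : c = μ
          · rw [hc']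
            have h1 := Fintype.card_subtype_compl (fun a : Fin 2 × Fin m => fm a.2 = -μ)
            have h3 := Fintype.card_subtype_compl (fun i => ev i = -μ)
            rw [Fintype.card_prod, Fintype.card_fin, Fintype.card_fin, hA] at h1
            rw [Fintype.card_fin, ← hN₀, hb'] at h3
            rw [Fintype.card_congr (Equiv.subtypeEquivRight (q := fun i => ¬ ev i = -μ) fun i => by
              rcases hev' i with h | h <;> simp [h, hμμ, Ne.symm hμμ]), h3]
            rw [Fintype.card_congr (Equiv.subtypeEquivRight (q := fun a : Fin 2 × Fin m => ¬ fm a.2 = -μ) fun a => by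
              simp only [fm]; split <;> simp [hμμ, Ne.symm hμμ]), h1, hmn]
          · rw [Fintype.card_eq_zero_iff.2, Fintype.card_eq_zero_iff.2]
            · exact ⟨fun i => by
                rcases hev' i.1 with h | h
                · exact hc' (i.2.symm.trans h)
                · exact hc (i.2.symm.trans h)⟩
            · exact ⟨fun a => by
                have := a.2
                simp only [fm] at this
                split at this
                · exact hc this.symm
                · exact hc' this.symm⟩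
        let ε : (Fin 2 × Fin m) ≃ Fin n := Equiv.ofFiberEquiv (fun c => Fintype.equivOfCardEq (hcard c))
        have hε : ∀ a, ev (ε a) = fm a.2 := Equiv.ofFiberEquiv_map _
        let Q : Matrix (Fin n) (Fin n) F := (Qg : Matrix (Fin n) (Fin n) F).submatrix id (e.symm.trans ε)
        have hQ : Q.det ≠ 0 := by
          rw [show Q = (Qg : Matrix (Fin n) (Fin n) F).submatrix id (e.symm.trans ε) from rfl, Matrix.det_permute', hQd, mul_one]
          rcases Int.units_eq_one_or (Equiv.Perm.sign (e.symm.trans ε)) with h3 | h3 <;> simp [h3]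
        let M : Fin m → Matrix (Fin 2) (Fin 2) F := fun i => fm i • 1
        have hM : ∀ i, (M i).det = μ * μ := fun i => by
          simp only [M, fm]; split <;> simp [Matrix.det_fin_two, sq]
        refine finish x e Pm hPm hsim M (μ * μ) (mul_ne_zero hμ0 hμ0) hM Q hQ (mul_pairBlock e M _ Q fun a i => ?_) (fun t ht => ?_)
        · have hcol : ∀ a, Q.col (e (a, i)) = (Qg : Matrix (Fin n) (Fin n) F).col (ε (a, i)) := fun a => by
            funext r; simp [Q, Matrix.col]
          rw [hcol, hcol, hcol]
          have h3 : (x : Matrix (Fin n) (Fin n) F) *ᵥ (Qg : Matrix (Fin n) (Fin n) F).col (ε (a, i)) = fm i • (Qg : Matrix (Fin n) (Fin n) F).col (ε (a, i)) := by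
            funext r
            have h4 := congrFun (congrFun hQx' r) (ε (a, i))
            rw [Matrix.mul_diagonal, hε] at h4
            rw [Pi.smul_apply, smul_eq_mul, mul_comm]
            exact h4
          rw [h3]
          fin_cases a <;> simp [M]
        · refine ⟨Function.update 1 i₀ !![t, 0; 0, 1], fun i => ?_, ?_⟩
          · simp [M]
          · rw [Finset.prod_eq_single i₀ (fun i _ hi => by simp [hi]) (by simp)]
            simp [Matrix.det_fin_two]
    · have hnr : ∀ b : F, b ^ 2 ≠ z := fun b hb => hsq ⟨b, by rw [← hb, sq]⟩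
      set y : Matrix (Fin n) (Fin n) F := Pm * pairBlock e (fun _ => !![0, z; 1, 0]) * Pm⁻¹ with hy
      have hyy : y * y = z • 1 := by
        rw [hy]
        rw [show Pm * pairBlock e (fun _ => !![0, z; 1, 0]) * Pm⁻¹ * (Pm * pairBlock e (fun _ => !![0, z; 1, 0]) * Pm⁻¹) =
          Pm * (pairBlock e (fun _ => !![0, z; 1, 0]) * pairBlock e (fun _ => !![0, z; 1, 0])) * Pm⁻¹ by
          simp only [mul_assoc, Matrix.nonsing_inv_mul_cancel_left _ _ hPm], pairBlock_mul]
        have h3 : (fun _ : Fin m => !![(0 : F), z; 1, 0] * !![0, z; 1, 0]) = z • (1 : Fin m → Matrix (Fin 2) (Fin 2) F) := by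
          funext i; ext r c; fin_cases r <;> fin_cases c <;> simp [Matrix.mul_apply, Fin.sum_univ_two]
        rw [h3, pairBlock, Matrix.blockDiagonal_smul, Matrix.blockDiagonal_one, Matrix.reindex_apply, Matrix.submatrix_smul,
          Pi.smul_apply, Pi.smul_apply, Matrix.submatrix_one_equiv, Matrix.mul_smul, mul_one, Matrix.smul_mul,
          Matrix.mul_nonsing_inv _ hPm]
      obtain ⟨P, hP⟩ := exists_specialLinear_conj_of_irreducible (X_pow_sub_C_irreducible_of_prime Nat.prime_two hnr)
        (x := (x : Matrix (Fin n) (Fin n) F)) (y := y) (by simp [sq, hz, Algebra.smul_def]) (by simp [sq, hyy, Algebra.smul_def])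
      exact ⟨P, mem_of_form x P y hP (-z) (neg_ne_zero.2 hz0) (hsim _ _ fun _ => by simp [Matrix.det_fin_two])⟩


end Cfsg.Agent.S5967
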