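import Cfsg.Statements.S5968
import Cfsg.Agent.Symplectic.AltStd


set_option autoImplicit false
set_option linter.style.haveILetI false
open scoped MatrixGroups
open Cfsg

namespace Cfsg.Agent.S5968

open scoped Matrix
open Polynomial

variable {F : Type*} [Field F] {n : ℕ}

/-- A nondegenerate alternating bilinear form. -/
structure IsAltForm {V : Type*} [AddCommGroup V] [Module F V] (g : LinearMap.BilinForm F V) : Prop where
  alt : ∀ v, g v v = 0
  nd : ∀ v, (∀ w, g v w = 0) → v = 0

theorem IsAltForm.swap {V : Type*} [AddCommGroup V] [Module F V] {g : LinearMap.BilinForm F V}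
    (hg : IsAltForm g) (v w : V) : g v w = - g w v := by
  have h := hg.alt (v + w)
  simp only [map_add, LinearMap.add_apply, hg.alt, zero_add, add_zero] at h
  linear_combination h

theorem IsAltForm.ndr {V : Type*} [AddCommGroup V] [Module F V] {g : LinearMap.BilinForm F V}
    (hg : IsAltForm g) (w : V) (h : ∀ v, g v w = 0) : w = 0 :=
  hg.nd w fun v => by rw [hg.swap, h, neg_zero]

/-- `x` is a similitude of a nondegenerate alternating form. -/
def IsSimil (x : Matrix (Fin n) (Fin n) F) : Prop :=
  ∃ (g : LinearMap.BilinForm F (Fin n → F)) (c : F), IsAltForm g ∧ c ≠ 0 ∧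
    ∀ a b, g (x *ᵥ a) (x *ᵥ b) = c * g a b

theorem isSimil_of_mem {f : (Fin n → F) → (Fin n → F) → F} (hf : Cfsg.Geo.IsSymplecticForm f)
    (x P : Matrix.SpecialLinearGroup (Fin n) F)
    (h : P⁻¹ * x * P ∈ ((Cfsg.Geo.similarityGroup f).comap (Matrix.SpecialLinearGroup.toGL : Matrix.SpecialLinearGroup (Fin n) F →* GL (Fin n) F))) :
    IsSimil (x : Matrix (Fin n) (Fin n) F) := by
  obtain ⟨c, hc⟩ := h
  let B : LinearMap.BilinForm F (Fin n → F) :=
    LinearMap.mk₂ F f hf.bilinear.add_left hf.bilinear.smul_left hf.bilinear.add_right hf.bilinear.smul_right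
  let Q : Matrix (Fin n) (Fin n) F := ((P⁻¹ : Matrix.SpecialLinearGroup (Fin n) F) : Matrix (Fin n) (Fin n) F)
  have hQP : Q * (P : Matrix (Fin n) (Fin n) F) = 1 := by
    show ((P⁻¹ : Matrix.SpecialLinearGroup (Fin n) F) : Matrix (Fin n) (Fin n) F) * _ = 1
    rw [← Matrix.SpecialLinearGroup.coe_mul, inv_mul_cancel, Matrix.SpecialLinearGroup.coe_one]
  have hPQ : (P : Matrix (Fin n) (Fin n) F) * Q = 1 := by
    show (P : Matrix (Fin n) (Fin n) F) * ((P⁻¹ : Matrix.SpecialLinearGroup (Fin n) F) : Matrix (Fin n) (Fin n) F) = 1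
    rw [← Matrix.SpecialLinearGroup.coe_mul, mul_inv_cancel, Matrix.SpecialLinearGroup.coe_one]
  refine ⟨B.comp (Matrix.toLin' Q) (Matrix.toLin' Q), c, ⟨fun v => hf.alternating _, fun v hv => ?_⟩,
    c.ne_zero, fun a b => ?_⟩
  · have h1 : Q *ᵥ v = 0 := by
      by_contra hne
      obtain ⟨-, u, hu⟩ := hf.nondegenerate _ hne
      apply hu
      have h2 := hv ((P : Matrix (Fin n) (Fin n) F) *ᵥ u)
      simp only [LinearMap.BilinForm.comp_apply, Matrix.toLin'_apply, Matrix.mulVec_mulVec, hQP,
        Matrix.one_mulVec] at h2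
      exact h2
    have h2 := congrArg ((P : Matrix (Fin n) (Fin n) F) *ᵥ ·) h1
    simpa [Matrix.mulVec_mulVec, hPQ] using h2
  · have h1 := hc (Q *ᵥ a) (Q *ᵥ b)
    have h2 : ∀ w, ((Matrix.SpecialLinearGroup.toGL (P⁻¹ * x * P) : GL (Fin n) F) : Matrix (Fin n) (Fin n) F) *ᵥ (Q *ᵥ w) =
        Q *ᵥ ((x : Matrix (Fin n) (Fin n) F) *ᵥ w) := by
      intro w
      show ((P⁻¹ * x * P : Matrix.SpecialLinearGroup (Fin n) F) : Matrix (Fin n) (Fin n) F) *ᵥ _ = _
      rw [Matrix.mulVec_mulVec, Matrix.mulVec_mulVec, Matrix.SpecialLinearGroup.coe_mul,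
        Matrix.SpecialLinearGroup.coe_mul, mul_assoc, hPQ, mul_one]
    rw [h2, h2] at h1
    simpa [B, Matrix.mulVec_mulVec] using h1

theorem simil_pow {x : Matrix (Fin n) (Fin n) F} {g : LinearMap.BilinForm F (Fin n → F)} {c : F}
    (h : ∀ a b, g (x *ᵥ a) (x *ᵥ b) = c * g a b) (k : ℕ) (a b : Fin n → F) :
    g ((x ^ k) *ᵥ a) ((x ^ k) *ᵥ b) = c ^ k * g a b := by
  induction k generalizing a b with
  | zero => simp
  | succ k ih =>
    rw [pow_succ, ← Matrix.mulVec_mulVec, ← Matrix.mulVec_mulVec, ih, h]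
    ring

theorem pow_factor_eq_one {x : Matrix (Fin n) (Fin n) F} {g : LinearMap.BilinForm F (Fin n → F)} {c : F}
    (hg : IsAltForm g) (hn : 0 < n) (h : ∀ a b, g (x *ᵥ a) (x *ᵥ b) = c * g a b) {r : ℕ}
    (hx : x ^ r = 1) : c ^ r = 1 := by
  haveI : NeZero n := ⟨by omega⟩
  let a : Fin n → F := Pi.single 0 1
  obtain ⟨b, hb⟩ : ∃ b, g a b ≠ 0 := by
    by_contra hno
    push Not at hno
    simpa [a] using congrFun (hg.nd a hno) 0
  have := simil_pow h r a b
  rw [hx, Matrix.one_mulVec, Matrix.one_mulVec] at this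
  exact mul_right_cancel₀ hb (by rw [one_mul]; exact this.symm)

/-- Case `r = p`: a single Jordan block of size three. -/
theorem exists_unipotent [Finite F] (p : ℕ) [Fact p.Prime] [CharP F p] (hp : p ≠ 2) (hn : 4 ≤ n) :
    ∃ x : Matrix.SpecialLinearGroup (Fin n) F, (x ^ p : Matrix.SpecialLinearGroup (Fin n) F) = 1 ∧
      (∀ z : F, (x : Matrix (Fin n) (Fin n) F) ≠ z • (1 : Matrix (Fin n) (Fin n) F)) ∧
      ¬ IsSimil (x : Matrix (Fin n) (Fin n) F) := by
  classical
  let i0 : Fin n := ⟨0, by omega⟩
  let i1 : Fin n := ⟨1, by omega⟩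
  let i2 : Fin n := ⟨2, by omega⟩
  have h01 : i0 ≠ i1 := by simp [i0, i1]
  have h02 : i0 ≠ i2 := by simp [i0, i2]
  have h12 : i1 ≠ i2 := by simp [i1, i2]
  let N : Matrix (Fin n) (Fin n) F := Matrix.single i0 i1 1 + Matrix.single i1 i2 1
  have hN3 : N ^ 3 = 0 := by
    simp [N, pow_succ, add_mul, mul_add, h01, h12, h02, h01.symm, h12.symm, h02.symm]
  let e : Fin n → (Fin n → F) := fun i => Pi.single i 1
  have hNe : ∀ i, N *ᵥ e i = (if i = i1 then e i0 else 0) + (if i = i2 then e i1 else 0) := by
    intro i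
    simp only [N, e, Matrix.add_mulVec]
    congr 1
    · by_cases hi : i = i1
      · subst hi
        funext j
        simp [Matrix.single_apply, Pi.single_apply, eq_comm]
      · funext j
        simp [Matrix.single_apply, Pi.single_apply, hi, Ne.symm hi]
    · by_cases hi : i = i2
      · subst hi
        funext j
        simp [Matrix.single_apply, Pi.single_apply, eq_comm]
      · funext j
        simp [Matrix.single_apply, Pi.single_apply, hi, Ne.symm hi]
  have hdet : (1 + N).det = 1 := by
    have h : (1 + N).BlockTriangular id := by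
      intro i j hij
      have hij' : j < i := hij
      have h1 : ¬ (i0 = i ∧ i1 = j) := fun ⟨a, b⟩ => by subst a b; simp [i0, i1, Fin.lt_def] at hij'
      have h2 : ¬ (i1 = i ∧ i2 = j) := fun ⟨a, b⟩ => by subst a b; simp [i1, i2, Fin.lt_def] at hij'
      simp [N, Matrix.single_apply, h1, h2, (ne_of_lt hij').symm]
    rw [Matrix.det_of_upperTriangular h]
    refine Finset.prod_eq_one fun i _ => ?_
    have h1 : ¬ (i0 = i ∧ i1 = i) := fun ⟨a, b⟩ => h01 (a.trans b.symm)
    have h2 : ¬ (i1 = i ∧ i2 = i) := fun ⟨a, b⟩ => h12 (a.trans b.symm)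
    simp [N, Matrix.single_apply, h1, h2]
  have hp3 : 3 ≤ p := by have := (Fact.out : p.Prime).two_le; omega
  haveI : NeZero n := ⟨by omega⟩
  haveI : Nonempty (Fin n) := ⟨i0⟩
  have hpow : (1 + N) ^ p = 1 := by
    rw [add_pow_char_of_commute (R := Matrix (Fin n) (Fin n) F) p (Commute.one_left N), one_pow,
      show N ^ p = N ^ 3 * N ^ (p - 3) by rw [← pow_add]; congr 1; omega, hN3, zero_mul, add_zero]
  let x : Matrix.SpecialLinearGroup (Fin n) F := ⟨1 + N, hdet⟩
  refine ⟨x, Subtype.ext ((Matrix.SpecialLinearGroup.coe_pow x p).trans hpow), fun z hz => ?_, ?_⟩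
  · have := congrFun (congrFun hz i0) i1
    simp [x, N, Matrix.single_apply, h01, h01.symm, h12, h12.symm] at this
  · rintro ⟨g, c, hg, hc0, h⟩
    have hc : c = 1 := by
      have h1 := pow_factor_eq_one hg (by omega) h hpow
      have h2 : (c - 1) ^ p = 0 := by rw [sub_pow_char, one_pow, h1, sub_self]
      exact sub_eq_zero.1 ((pow_eq_zero_iff (by omega)).1 h2)
    have key : ∀ a b, g (N *ᵥ a) b + g a (N *ᵥ b) + g (N *ᵥ a) (N *ᵥ b) = 0 := by
      intro a b
      have h1 : g ((1 + N) *ᵥ a) ((1 + N) *ᵥ b) = c * g a b := h a b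
      simp only [Matrix.add_mulVec, Matrix.one_mulVec, map_add, LinearMap.add_apply, hc, one_mul] at h1
      linear_combination h1
    have N0 : N *ᵥ e i0 = 0 := by rw [hNe]; simp [h01, h02]
    have N1 : N *ᵥ e i1 = e i0 := by rw [hNe]; simp [h12]
    have N2 : N *ᵥ e i2 = e i1 := by rw [hNe]; simp [h12.symm]
    have Ni : ∀ i, i ≠ i1 → i ≠ i2 → N *ᵥ e i = 0 := fun i a b => by rw [hNe]; simp [a, b]
    -- the first basis vector is orthogonal to all basis vectors
    have g01 : g (e i0) (e i1) = 0 := by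
      have := key (e i0) (e i2)
      simpa [N0, N2] using this
    have g02 : g (e i0) (e i2) = 0 := by
      have := key (e i1) (e i2)
      simpa [N1, N2, hg.alt, g01] using this
    have gall : ∀ i, g (e i0) (e i) = 0 := by
      intro i
      by_cases a : i = i1
      · rw [a, g01]
      by_cases b : i = i2
      · rw [b, g02]
      have := key (e i1) (e i)
      simpa [N1, Ni i a b] using this
    have h0 := hg.nd (e i0) fun w => by
      have : g (e i0) = 0 := (Pi.basisFun F (Fin n)).ext fun i => by simpa [e] using gall i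
      rw [this, LinearMap.zero_apply]
    simpa [e] using congrFun h0 i0

/-- Eigenvalue multiplicities of a diagonal similitude. -/
theorem count_le {d : Fin n → F} {g : LinearMap.BilinForm F (Fin n → F)} {c : F} [DecidableEq F]
    (hg : IsAltForm g) (h : ∀ a b, g (Matrix.diagonal d *ᵥ a) (Matrix.diagonal d *ᵥ b) = c * g a b)
    (μ : F) (hμ : μ ≠ 0) :
    (Finset.univ.filter fun i => d i = μ).card ≤ (Finset.univ.filter fun i => d i = c / μ).card := by
  classical
  set I := Finset.univ.filter fun i => d i = μ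
  set J := Finset.univ.filter fun i => d i = c / μ
  have hev : ∀ i, Matrix.diagonal d *ᵥ (Pi.single i 1) = d i • (Pi.single i 1 : Fin n → F) := by
    intro i
    funext j
    by_cases hj : j = i
    · subst hj; simp [Matrix.mulVec_diagonal]
    · simp [Matrix.mulVec_diagonal, hj]
  have horth : ∀ i ∈ I, ∀ j, j ∉ J → g (Pi.single i 1) (Pi.single j 1) = 0 := by
    intro i hi j hj
    have h1 := h (Pi.single i 1) (Pi.single j 1)
    rw [hev, hev, map_smul, map_smul, LinearMap.smul_apply, smul_eq_mul, smul_eq_mul,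
      (Finset.mem_filter.1 hi).2] at h1
    by_contra hne
    apply hj
    refine Finset.mem_filter.2 ⟨Finset.mem_univ _, ?_⟩
    rw [eq_div_iff hμ]
    exact mul_right_cancel₀ hne (by linear_combination h1)
  let emb : (I → F) →ₗ[F] (Fin n → F) :=
    Fintype.linearCombination F (fun i : I => (Pi.single (i : Fin n) 1 : Fin n → F))
  let res : (I → F) →ₗ[F] (J → F) :=
    LinearMap.pi fun j : J => (g.flip (Pi.single (j : Fin n) 1)).comp emb
  have hinj : Function.Injective res := by
    refine (injective_iff_map_eq_zero res).2 fun v hv => ?_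
    have h0 : emb v = 0 := hg.nd _ fun w => by
      have : g (emb v) = 0 := (Pi.basisFun F (Fin n)).ext fun j => by
        simp only [Pi.basisFun_apply, LinearMap.zero_apply]
        by_cases hj : j ∈ J
        · exact congrFun hv ⟨j, hj⟩
        · simp only [emb, Fintype.linearCombination_apply, map_sum, LinearMap.coe_sum,
            Finset.sum_apply, map_smul, LinearMap.smul_apply]
          exact Finset.sum_eq_zero fun i _ => by rw [horth i i.2 j hj, smul_zero]
      rw [this, LinearMap.zero_apply]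
    funext i
    have := congrFun h0 (i : Fin n)
    simpa [emb, Fintype.linearCombination_apply, Finset.sum_apply, Pi.single_apply,
      ← Subtype.ext_iff] using this
  simpa using LinearMap.finrank_le_finrank_of_injective hinj

/-- Case `r ∣ q - 1`. -/
theorem exists_diagonal [Fintype F] (r : ℕ) (hr : r.Prime) (hr2 : r ≠ 2) (hn : 4 ≤ n) (he : Even n)
    (hgap : ¬ (n = 6 ∧ r = 3)) (w : Fˣ) (hw : orderOf w = r) :
    ∃ x : Matrix.SpecialLinearGroup (Fin n) F, (x ^ r : Matrix.SpecialLinearGroup (Fin n) F) = 1 ∧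
      (∀ z : F, (x : Matrix (Fin n) (Fin n) F) ≠ z • (1 : Matrix (Fin n) (Fin n) F)) ∧
      ¬ IsSimil (x : Matrix (Fin n) (Fin n) F) := by
  classical
  set ω : F := (w : F) with hω
  have hw0 : ω ≠ 0 := w.ne_zero
  have hpow : ∀ k : ℕ, ω ^ k = 1 ↔ r ∣ k := fun k => by
    rw [hω, ← hw, orderOf_dvd_iff_pow_eq_one, Units.ext_iff, Units.val_pow_eq_pow_val, Units.val_one]
  have hr3 : 3 ≤ r := by have := hr.two_le; omega
  have hω1 : ω ≠ 1 := fun h => by
    have h' := (hpow 1).1 (by rw [pow_one, h])
    have := Nat.le_of_dvd one_pos h'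
    omega
  set z : F := (ω ^ 2)⁻¹ with hz
  have hz1 : z ≠ 1 := fun h => by
    have h' := (hpow 2).1 (inv_eq_one.1 h)
    have := Nat.le_of_dvd two_pos h'
    omega
  have hz0 : z ≠ 0 := inv_ne_zero (pow_ne_zero _ hw0)
  have hωz : ω = z ↔ r = 3 := by
    constructor
    · intro h
      have : ω ^ 3 = 1 := by
        rw [pow_succ]; nth_rewrite 2 [h]; rw [hz, mul_inv_cancel₀ (pow_ne_zero _ hw0)]
      exact (Nat.prime_dvd_prime_iff_eq hr Nat.prime_three).1 ((hpow 3).1 this)
    · rintro rfl
      have : ω ^ 3 = 1 := (hpow 3).2 dvd_rfl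
      rw [hz]
      field_simp
      linear_combination this
  let d : Fin n → F := fun i => if (i : ℕ) < 2 then ω else if (i : ℕ) = 2 then z else 1
  let j0 : Fin n := ⟨0, by omega⟩
  let j1 : Fin n := ⟨1, by omega⟩
  let j2 : Fin n := ⟨2, by omega⟩
  have hd3 : ∀ i : Fin n, d i ≠ 1 → i = j0 ∨ i = j1 ∨ i = j2 := by
    intro i hi
    simp only [d] at hi
    simp only [j0, j1, j2, Fin.ext_iff]
    split_ifs at hi with a b
    · omega
    · omega
    · exact absurd rfl hi
  have d0 : d j0 = ω := by simp [d, j0]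
  have d1 : d j1 = ω := by simp [d, j1]
  have d2 : d j2 = z := by simp [d, j2]
  have hdet : (Matrix.diagonal d).det = 1 := by
    rw [Matrix.det_diagonal, ← Finset.prod_subset (Finset.subset_univ {j0, j1, j2}) (fun i _ hi => by
      by_contra hne
      rcases hd3 i hne with rfl | rfl | rfl <;> simp at hi)]
    rw [Finset.prod_insert (by simp [j0, j1, j2]), Finset.prod_pair (by simp [j1, j2]), d0, d1, d2, hz]
    field_simp
  have hdr : ∀ i, d i ^ r = 1 := by
    intro i
    have hωr : ω ^ r = 1 := (hpow r).2 dvd_rfl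
    simp only [d]
    split_ifs
    · exact hωr
    · rw [hz, inv_pow, ← pow_mul, mul_comm, pow_mul, hωr, one_pow, inv_one]
    · rw [one_pow]
  refine ⟨⟨Matrix.diagonal d, hdet⟩, Subtype.ext ?_, fun t ht => ?_, ?_⟩
  · show Matrix.diagonal d ^ r = 1
    rw [Matrix.diagonal_pow, show d ^ r = 1 from funext hdr]
    exact Matrix.diagonal_one
  · have h0 := congrFun (congrFun ht j0) j0
    have h3 := congrFun (congrFun ht ⟨3, by omega⟩) ⟨3, by omega⟩
    simp [d, j0] at h0 h3
    exact hω1 (h0.trans h3.symm)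
  · rintro ⟨g, c, hg, hc0, h⟩
    set N : F → ℕ := fun μ => (Finset.univ.filter fun i => d i = μ).card with hN
    have hsym : ∀ μ, μ ≠ 0 → N μ = N (c / μ) := by
      intro μ hμ
      refine le_antisymm (count_le hg h μ hμ) ?_
      have := count_le hg h (c / μ) (div_ne_zero hc0 hμ)
      rwa [div_div_cancel₀ hc0] at this
    have hval : ∀ μ, N μ ≠ 0 → μ = ω ∨ μ = z ∨ μ = 1 := by
      intro μ hμ
      obtain ⟨i, hi⟩ := Finset.card_pos.1 (Nat.pos_of_ne_zero hμ)
      rw [← (Finset.mem_filter.1 hi).2]
      simp only [d]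
      split_ifs <;> simp
    have hN1 : N 1 = n - 3 := by
      have : (Finset.univ.filter fun i => d i = 1) = (Finset.univ : Finset (Fin n)) \ {j0, j1, j2} := by
        ext i
        simp only [Finset.mem_filter, Finset.mem_univ, true_and, Finset.mem_sdiff, Finset.mem_insert,
          Finset.mem_singleton, not_or]
        constructor
        · intro hi
          refine ⟨?_, ?_, ?_⟩ <;> rintro rfl
          · exact hω1 (d0 ▸ hi)
          · exact hω1 (d1 ▸ hi)
          · exact hz1 (d2 ▸ hi)
        · intro hi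
          by_contra hne
          have := hd3 i hne
          tauto
      simp only [hN, this]
      rw [Finset.card_sdiff_of_subset (Finset.subset_univ _), Finset.card_univ, Fintype.card_fin,
        Finset.card_eq_three.2 ⟨j0, j1, j2, by simp [j0, j1], by simp [j0, j2], by simp [j1, j2], rfl⟩]
    by_cases h3 : r = 3
    · have hzz : ω = z := hωz.2 h3
      have hNω : N ω = 3 := by
        have : (Finset.univ.filter fun i => d i = ω) = {j0, j1, j2} := by
          ext i
          simp only [Finset.mem_filter, Finset.mem_univ, true_and, Finset.mem_insert, Finset.mem_singleton]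
          refine ⟨fun hi => hd3 i (by rw [hi]; exact hω1), ?_⟩
          rintro (rfl | rfl | rfl)
          exacts [d0, d1, d2.trans hzz.symm]
        simp only [hN, this]
        exact Finset.card_eq_three.2 ⟨j0, j1, j2, by simp [j0, j1], by simp [j0, j2], by simp [j1, j2], rfl⟩
      have a := hsym ω hw0
      rw [hNω] at a
      rcases hval _ (by omega : N (c / ω) ≠ 0) with e | e | e
      · have hc : c = ω * ω := (div_eq_iff hw0).1 e
        have b := hsym 1 one_ne_zero
        rw [div_one, hN1, hc] at b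
        rcases hval _ (by omega : N (ω * ω) ≠ 0) with f | f | f
        · exact hω1 (mul_left_cancel₀ hw0 (f.trans (mul_one ω).symm))
        · rw [← hzz] at f; exact hω1 (mul_left_cancel₀ hw0 (f.trans (mul_one ω).symm))
        · have := (hpow 2).1 (by rw [sq]; exact f)
          have := Nat.le_of_dvd two_pos this
          omega
      · rw [← hzz] at e
        have hc : c = ω * ω := (div_eq_iff hw0).1 e
        have b := hsym 1 one_ne_zero
        rw [div_one, hN1, hc] at b
        rcases hval _ (by omega : N (ω * ω) ≠ 0) with f | f | f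
        · exact hω1 (mul_left_cancel₀ hw0 (f.trans (mul_one ω).symm))
        · rw [← hzz] at f; exact hω1 (mul_left_cancel₀ hw0 (f.trans (mul_one ω).symm))
        · have := (hpow 2).1 (by rw [sq]; exact f)
          have := Nat.le_of_dvd two_pos this
          omega
      · rw [e, hN1] at a
        exact hgap ⟨by omega, h3⟩
    · have hne : ω ≠ z := fun e => h3 (hωz.1 e)
      have hNω : N ω = 2 := by
        have : (Finset.univ.filter fun i => d i = ω) = {j0, j1} := by
          ext i
          simp only [Finset.mem_filter, Finset.mem_univ, true_and, Finset.mem_insert, Finset.mem_singleton]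
          constructor
          · intro hi
            rcases hd3 i (by rw [hi]; exact hω1) with rfl | rfl | rfl
            exacts [Or.inl rfl, Or.inr rfl, absurd (hi.symm.trans d2) hne]
          · rintro (rfl | rfl)
            exacts [d0, d1]
        simp only [hN, this]
        exact Finset.card_pair (by simp [j0, j1])
      have hNz : N z = 1 := by
        have : (Finset.univ.filter fun i => d i = z) = {j2} := by
          ext i
          simp only [Finset.mem_filter, Finset.mem_univ, true_and, Finset.mem_singleton]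
          refine ⟨fun hi => ?_, fun e => e ▸ d2⟩
          rcases hd3 i (by rw [hi]; exact hz1) with rfl | rfl | rfl
          exacts [absurd (d0.symm.trans hi) hne, absurd (d1.symm.trans hi) hne, rfl]
        simp only [hN, this, Finset.card_singleton]
      obtain ⟨h', hh'⟩ := he
      have a := hsym ω hw0
      rw [hNω] at a
      rcases hval _ (by omega : N (c / ω) ≠ 0) with e | e | e
      · have hc : c = ω * ω := (div_eq_iff hw0).1 e
        have b := hsym z hz0
        rw [hNz] at b
        rcases hval _ (by omega : N (c / z) ≠ 0) with f | f | f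
        · rw [f, hNω] at b; omega
        · have h4 : ω * ω = z * z := hc.symm.trans ((div_eq_iff hz0).1 f)
          have h6 : ω ^ 6 = 1 := by
            rw [hz] at h4; field_simp at h4; linear_combination h4
          have := (hpow 6).1 h6
          rcases (Nat.Prime.dvd_mul hr).1 (show r ∣ 2 * 3 from this) with h | h
          · have := (Nat.prime_dvd_prime_iff_eq hr Nat.prime_two).1 h; omega
          · exact h3 ((Nat.prime_dvd_prime_iff_eq hr Nat.prime_three).1 h)
        · have h4 : ω ^ 4 = 1 := by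
            have : c = z := by simpa using (div_eq_iff hz0).1 f
            rw [hc, hz] at this; field_simp at this; linear_combination this
          have := (hpow 4).1 h4
          rcases (Nat.Prime.dvd_mul hr).1 (show r ∣ 2 * 2 from this) with h | h <;>
            exact absurd ((Nat.prime_dvd_prime_iff_eq hr Nat.prime_two).1 h) (by omega)
      · rw [e, hNz] at a; omega
      · rw [e, hN1] at a; omega

/-- A linear endomorphism of order `r` with an eigenvalue of odd degree, written in coordinates. -/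
theorem exists_extension [Fintype F] (r : ℕ) (hr : r.Prime) (hr2 : r ≠ 2) (hn : 4 ≤ n)
    (hrF : ∀ t : F, t ^ r = 1 → t = 1) {i : ℕ} (hi : Odd i) (hin : i < n)
    (hri : r ∣ Fintype.card F ^ i - 1) (hrp : (r : F) ≠ 0) :
    ∃ x : Matrix.SpecialLinearGroup (Fin n) F, (x ^ r : Matrix.SpecialLinearGroup (Fin n) F) = 1 ∧
      (∀ z : F, (x : Matrix (Fin n) (Fin n) F) ≠ z • (1 : Matrix (Fin n) (Fin n) F)) ∧
      ¬ IsSimil (x : Matrix (Fin n) (Fin n) F) := by
  classical
  obtain ⟨ψ, hψ, hψd⟩ : ∃ ψ : F[X], Irreducible ψ ∧ ψ ∣ cyclotomic r F := by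
    obtain ⟨ψ, -, h1, h2⟩ := exists_monic_irreducible_factor (cyclotomic r F)
      (fun hu => by
        have := natDegree_eq_zero_of_isUnit hu
        rw [natDegree_cyclotomic, Nat.totient_prime hr] at this
        have := hr.two_le; omega)
    exact ⟨ψ, h1, h2⟩
  haveI : Fact (Irreducible ψ) := ⟨hψ⟩
  let L := AdjoinRoot ψ
  haveI : Module.Finite F L := (AdjoinRoot.powerBasis hψ.ne_zero).finite
  haveI : Finite L := Module.finite_of_finite F
  set ω : L := AdjoinRoot.root ψ with hω
  have hψω : aeval ω ψ = 0 := by rw [hω, AdjoinRoot.aeval_eq, AdjoinRoot.mk_self]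
  haveI : NeZero ((r : F)) := ⟨hrp⟩
  haveI : NeZero ((r : L)) := ⟨fun h => hrp ((algebraMap F L).injective (by simpa using h))⟩
  have hprim : IsPrimitiveRoot ω r := by
    rw [← isRoot_cyclotomic_iff, ← map_cyclotomic r (algebraMap F L), IsRoot.def, eval_map_algebraMap]
    obtain ⟨u, hu⟩ := hψd
    rw [hu, map_mul, hψω, zero_mul]
  have hω1 : ω ≠ 1 := hprim.ne_one (by have := hr.two_le; omega)
  have hω0 : ω ≠ 0 := hprim.ne_zero hr.ne_zero
  have hd : Module.finrank F L = ψ.natDegree := by
    rw [(AdjoinRoot.powerBasis hψ.ne_zero).finrank, AdjoinRoot.powerBasis_dim]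
  have hdi : Module.finrank F L ∣ i := by
    rw [hd]
    refine Irreducible.natDegree_dvd_of_dvd_X_pow_card_pow_sub_X hψ ?_
    rw [← AdjoinRoot.mk_eq_zero, ← AdjoinRoot.aeval_eq, map_sub, map_pow, aeval_X, sub_eq_zero,
      Nat.card_eq_fintype_card]
    obtain ⟨k, hk⟩ := hri
    have : Fintype.card F ^ i = r * k + 1 := by
      have := Nat.one_le_pow i (Fintype.card F) Fintype.card_pos
      omega
    rw [this, pow_succ, pow_mul, hprim.pow_eq_one, one_pow, one_mul]
  have hdodd : Odd (Module.finrank F L) := Odd.of_dvd_nat hi hdi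
  have hdlt : Module.finrank F L < n := lt_of_le_of_lt (Nat.le_of_dvd hi.pos hdi) hin
  set d := Module.finrank F L with hddef
  have hinv : aeval ω⁻¹ ψ ≠ 0 := by
    intro h0
    let σ : L →ₐ[F] L := AdjoinRoot.liftAlgHom ψ (Algebra.ofId F L) ω⁻¹ h0
    have hσω : σ ω = ω⁻¹ := AdjoinRoot.liftAlgHom_root ψ _ _ h0
    let τ : L ≃ₐ[F] L := AlgEquiv.ofBijective σ ⟨σ.toRingHom.injective,
      Finite.surjective_of_injective σ.toRingHom.injective⟩
    have hτω : τ ω = ω⁻¹ := hσω
    have hτ2 : τ ^ 2 = 1 := by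
      refine AlgEquiv.coe_toAlgHom_injective (AdjoinRoot.algHom_ext ?_)
      show τ (τ ω) = ω
      rw [hτω, map_inv₀, hτω, inv_inv]
    have hcard : Nat.card (L ≃ₐ[F] L) = d := IsGalois.card_aut_eq_finrank F L
    have h1 : orderOf τ ∣ 2 := orderOf_dvd_of_pow_eq_one hτ2
    have h2 : orderOf τ ∣ d := hcard ▸ orderOf_dvd_natCard τ
    have hcop : Nat.Coprime 2 d := Nat.coprime_two_left.2 hdodd
    have hτ1 : τ = 1 := orderOf_eq_one_iff.1 (Nat.dvd_one.1 (hcop ▸ Nat.dvd_gcd h1 h2))
    rw [hτ1, AlgEquiv.one_apply] at hτω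
    have : ω ^ 2 = 1 := by rw [sq]; nth_rewrite 2 [hτω]; rw [mul_inv_cancel₀ hω0]
    have := Nat.le_of_dvd two_pos (hprim.dvd_of_pow_eq_one 2 this)
    have := hr.two_le
    omega
  -- the space
  let V := L × (Fin (n - d) → F)
  have hV : Module.finrank F V = n := by
    simp only [V, Module.finrank_prod, Module.finrank_fin_fun]
    rw [← hddef]; omega
  let e : V ≃ₗ[F] (Fin n → F) := LinearEquiv.ofFinrankEq _ _ (by rw [hV, Module.finrank_fin_fun])
  let X : Module.End F V := (LinearMap.mulLeft F ω).prodMap LinearMap.id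
  have hX : ∀ l u, X (l, u) = (ω * l, u) := fun l u => rfl
  have hXk : ∀ (k : ℕ) l u, (X ^ k) (l, u) = (ω ^ k * l, u) := by
    intro k
    induction k with
    | zero => intro l u; simp
    | succ k ih => intro l u; rw [pow_succ, Module.End.mul_apply, hX, ih, pow_succ, mul_assoc]
  let M : Matrix (Fin n) (Fin n) F := LinearMap.toMatrix' (e.conj X)
  have hM : ∀ v : V, M *ᵥ e v = e (X v) := fun v => by
    simp [M, LinearMap.toMatrix'_mulVec, LinearEquiv.conj_apply]
  have hMk : ∀ (k : ℕ) (v : V), (M ^ k) *ᵥ e v = e ((X ^ k) v) := by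
    intro k
    induction k with
    | zero => intro v; simp
    | succ k ih => intro v; rw [pow_succ, ← Matrix.mulVec_mulVec, hM, ih, pow_succ, Module.End.mul_apply]
  have hMr : M ^ r = 1 := by
    refine Matrix.ext_iff_mulVec.2 fun v => ?_
    obtain ⟨⟨l, u⟩, rfl⟩ := e.surjective v
    rw [hMk, hXk, hprim.pow_eq_one, one_mul, Matrix.one_mulVec]
  have hdet : M.det = 1 := hrF _ (by rw [← Matrix.det_pow, hMr, Matrix.det_one])
  let ix : Fin (n - d) := ⟨0, by omega⟩
  let a : V := (0, Pi.single ix 1)
  have ha : X a = a := by simp [a, hX]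
  have ha0 : a ≠ 0 := fun h => by simpa [a] using congrFun (congrArg Prod.snd h) ix
  refine ⟨⟨M, hdet⟩, Subtype.ext hMr, fun z hz => ?_, ?_⟩
  · have h1 := hM a
    have h2 := hM (1, 0)
    change M = z • 1 at hz
    rw [hz, ha, Matrix.smul_mulVec, Matrix.one_mulVec, ← map_smul] at h1
    have hz1 : z = 1 := by
      have := congrFun (congrArg Prod.snd (e.injective h1)) ix
      change z * (Pi.single ix (1 : F) : Fin (n - d) → F) ix = (Pi.single ix (1 : F) : Fin (n - d) → F) ix at this
      simpa using this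
    rw [hz, hz1, one_smul, Matrix.one_mulVec, hX, mul_one] at h2
    exact hω1 (congrArg Prod.fst (e.injective h2)).symm
  · rintro ⟨g, c, hg, hc0, h⟩
    have hc : c = 1 := hrF c (pow_factor_eq_one hg (by omega) h hMr)
    let G : LinearMap.BilinForm F V := g.comp e.toLinearMap e.toLinearMap
    have hG : IsAltForm G := ⟨fun v => hg.alt _, fun v hv => e.injective (by
      rw [map_zero]
      refine hg.nd _ fun w => ?_
      obtain ⟨w, rfl⟩ := e.surjective w
      exact hv w)⟩
    have hGX : ∀ v w, G (X v) (X w) = G v w := fun v w => by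
      have := h (e v) (e w)
      rw [hM, hM, hc, one_mul] at this
      exact this
    let Y : Module.End F V := (LinearMap.mulLeft F ω⁻¹).prodMap LinearMap.id
    have hY : ∀ l u, Y (l, u) = (ω⁻¹ * l, u) := fun l u => rfl
    have hXY : ∀ w, X (Y w) = w := by
      rintro ⟨l, u⟩
      rw [hY, hX, ← mul_assoc, mul_inv_cancel₀ hω0, one_mul]
    have hadj : ∀ (P : F[X]) v w, G (aeval X P v) w = G v (aeval Y P w) := by
      intro P
      induction P using Polynomial.induction_on' with
      | add P Q hP hQ => intro v w; simp [hP, hQ]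
      | monomial k a =>
        intro v w
        rw [aeval_monomial, aeval_monomial, Module.End.mul_apply, Module.End.mul_apply,
          Module.algebraMap_end_apply, Module.algebraMap_end_apply, map_smul, LinearMap.smul_apply, map_smul]
        congr 1
        induction k generalizing v w with
        | zero => simp
        | succ k ih =>
          rw [pow_succ, pow_succ', Module.End.mul_apply, Module.End.mul_apply, ih]
          conv_lhs => rw [← hXY ((Y ^ k) w)]
          exact hGX _ _
    have hval : ∀ (Z : Module.End F V) (t : L), (∀ l u, Z (l, u) = (t * l, u)) → ∀ (P : F[X]) l u,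
        aeval Z P (l, u) = (aeval t P * l, P.eval 1 • u) := by
      intro Z t hZ P
      induction P using Polynomial.induction_on' with
      | add P Q hP hQ => intro l u; simp [hP, hQ, add_mul, add_smul]; rfl
      | monomial k a =>
        intro l u
        have : ∀ k l u, (Z ^ k) (l, u) = (t ^ k * l, u) := by
          intro k
          induction k with
          | zero => intro l u; simp
          | succ k ih => intro l u; rw [pow_succ, Module.End.mul_apply, hZ, ih, pow_succ, mul_assoc]
        rw [aeval_monomial, aeval_monomial, Module.End.mul_apply, Module.algebraMap_end_apply, this,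
          Prod.smul_mk, eval_monomial, one_pow, mul_one, Algebra.smul_def, mul_assoc]
    have hψ1 : ψ.eval 1 ≠ 0 := by
      intro h0
      have h1 : (cyclotomic r F).eval 1 = 0 := by
        obtain ⟨u, hu⟩ := hψd; rw [hu, eval_mul, h0, zero_mul]
      haveI : Fact r.Prime := ⟨hr⟩
      rw [eval_one_cyclotomic_prime] at h1
      exact hrp h1
    have hinjY : Function.Injective (aeval Y ψ) := by
      refine (injective_iff_map_eq_zero _).2 fun w hw => ?_
      obtain ⟨l, u⟩ := w
      rw [hval Y ω⁻¹ hY, Prod.mk_eq_zero, mul_eq_zero, smul_eq_zero] at hw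
      exact Prod.mk_eq_zero.2 ⟨hw.1.resolve_left hinv, hw.2.resolve_left hψ1⟩
    have hsurj := LinearMap.injective_iff_surjective.1 hinjY
    have h0 : ((1 : L), (0 : Fin (n - d) → F)) = 0 := hG.nd _ fun w => by
      obtain ⟨w, rfl⟩ := hsurj w
      rw [← hadj, hval X ω hX, hψω, zero_mul, smul_zero, Prod.mk_zero_zero, map_zero, LinearMap.zero_apply]
    simpa using congrArg Prod.fst h0

/-- The isometry group in matrices. -/
def isoGroup (B : LinearMap.BilinForm F (Fin n → F)) : Subgroup (GL (Fin n) F) where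
  carrier := {g | ∀ u v, B ((g : Matrix (Fin n) (Fin n) F) *ᵥ u) ((g : Matrix (Fin n) (Fin n) F) *ᵥ v) = B u v}
  mul_mem' {a b} ha hb := fun u v => by
    rw [Units.val_mul, ← Matrix.mulVec_mulVec, ← Matrix.mulVec_mulVec, ha, hb]
  one_mem' := fun u v => by simp
  inv_mem' {a} ha := fun u v => by
    rw [← ha ((↑a⁻¹ : Matrix (Fin n) (Fin n) F) *ᵥ u), Matrix.mulVec_mulVec, Matrix.mulVec_mulVec,
      a.mul_inv, Matrix.one_mulVec, Matrix.one_mulVec]

theorem card_isoGroup [Fintype F] (B : LinearMap.BilinForm F (Fin n → F)) :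
    Nat.card (isoGroup B) = Nat.card (Cfsg.Agent.Symplectic.Isom B) := by
  let eg : GL (Fin n) F ≃* ((Fin n → F) ≃ₗ[F] (Fin n → F)) :=
    Matrix.GeneralLinearGroup.toLin.trans (LinearMap.GeneralLinearGroup.generalLinearEquiv F (Fin n → F))
  refine Nat.card_congr (Equiv.subtypeEquiv eg.toEquiv fun g => ?_)
  rfl

theorem relIndex_dvd_index_of_normal_right {G : Type*} [Group G] [Finite G] (S N : Subgroup G) [N.Normal] :
    S.relIndex N ∣ S.index := by
  have h1 := Subgroup.relIndex_mul_index (inf_le_left : S ⊓ N ≤ S)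
  have h2 := Subgroup.relIndex_mul_index (inf_le_right : S ⊓ N ≤ N)
  rw [Subgroup.inf_relIndex_left] at h1
  rw [Subgroup.inf_relIndex_right] at h2
  obtain ⟨k, hk⟩ := Subgroup.relIndex_dvd_index_of_normal N S
  refine ⟨k, Nat.eq_of_mul_eq_mul_left (Nat.pos_of_ne_zero (Subgroup.index_ne_zero_of_finite (H := N.subgroupOf S)) : 0 < N.relIndex S) ?_⟩
  rw [h1, ← h2, hk]
  ring

theorem prod_range_two_mul (g : ℕ → ℕ) (m : ℕ) :
    ∏ j ∈ Finset.range (2 * m), g j = (∏ i ∈ Finset.range m, g (2 * i)) * ∏ i ∈ Finset.range m, g (2 * i + 1) := by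
  induction m with
  | zero => simp
  | succ m ih =>
    rw [show 2 * (m + 1) = 2 * m + 1 + 1 by ring, Finset.prod_range_succ, Finset.prod_range_succ, ih,
      Finset.prod_range_succ, Finset.prod_range_succ]
    ring

/-- A prime dividing the index divides `q ^ i - 1` for an odd `i < n`, or `q`. -/
theorem exists_odd_exponent [Fintype F] (hn : 4 ≤ n) (he : Even n)
    (f : (Fin n → F) → (Fin n → F) → F) (hf : Cfsg.Geo.IsSymplecticForm f) (r : ℕ) (hr : r.Prime)
    (hΩ : r ∣ ((Cfsg.Geo.similarityGroup f).comap (Matrix.SpecialLinearGroup.toGL : Matrix.SpecialLinearGroup (Fin n) F →* GL (Fin n) F)).index) :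
    r ∣ Fintype.card F ∨ ∃ i, Odd i ∧ i < n ∧ r ∣ Fintype.card F ^ i - 1 := by
  classical
  let B : LinearMap.BilinForm F (Fin n → F) :=
    LinearMap.mk₂ F f hf.bilinear.add_left hf.bilinear.smul_left hf.bilinear.add_right hf.bilinear.smul_right
  have hA : B.IsAlt := fun v => hf.alternating v
  have hB : B.Nondegenerate := by
    refine ⟨fun v hv => ?_, fun v hv => ?_⟩
    · by_contra hne
      obtain ⟨-, u, hu⟩ := hf.nondegenerate v hne
      exact hu (hv u)
    · by_contra hne
      obtain ⟨-, u, hu⟩ := hf.nondegenerate v hne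
      exact hu (by rw [hf.skew]; exact neg_eq_zero.2 (hv u))
  set S := isoGroup B
  have hle : S ≤ Cfsg.Geo.similarityGroup f := fun g hg => ⟨1, fun u v => by rw [Units.val_one, one_mul]; exact hg u v⟩
  have h1 : r ∣ (S.comap (Matrix.SpecialLinearGroup.toGL : Matrix.SpecialLinearGroup (Fin n) F →* GL (Fin n) F)).index :=
    hΩ.trans (Subgroup.index_dvd_of_le (Subgroup.comap_mono hle))
  rw [Subgroup.index_comap] at h1
  haveI : (Matrix.SpecialLinearGroup.toGL : Matrix.SpecialLinearGroup (Fin n) F →* GL (Fin n) F).range.Normal := by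
    have : (Matrix.SpecialLinearGroup.toGL : Matrix.SpecialLinearGroup (Fin n) F →* GL (Fin n) F).range =
        (Matrix.GeneralLinearGroup.det : GL (Fin n) F →* Fˣ).ker := by
      ext g
      refine ⟨?_, fun hg => ?_⟩
      · rintro ⟨s, rfl⟩
        exact Units.ext s.det_coe
      · refine ⟨⟨(g : Matrix (Fin n) (Fin n) F), ?_⟩, Units.ext rfl⟩
        simpa using congrArg Units.val hg
    rw [this]; infer_instance
  have h2 : r ∣ S.index := h1.trans (relIndex_dvd_index_of_normal_right S _)
  obtain ⟨m, hm⟩ := he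
  have hnm : n = 2 * m := by omega
  set q := Fintype.card F
  have hS : Nat.card S = q ^ (m ^ 2) * ∏ i ∈ Finset.range m, (q ^ (2 * (i + 1)) - 1) := by
    rw [card_isoGroup, Cfsg.Agent.Symplectic.card_isom_alt hA hB, Module.finrank_fin_fun,
      show n / 2 = m by omega]
  have hG : Nat.card (GL (Fin n) F) = (∏ j ∈ Finset.range n, q ^ j) *
      ((∏ i ∈ Finset.range m, (q ^ (2 * i + 1) - 1)) * ∏ i ∈ Finset.range m, (q ^ (2 * (i + 1)) - 1)) := by
    rw [Matrix.card_GL_field, Fin.prod_univ_eq_prod_range (fun i => q ^ n - q ^ i) n,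
      Finset.prod_congr rfl (fun i hi => show q ^ n - q ^ i = q ^ i * (q ^ (n - i) - 1) by
        rw [Nat.mul_sub, mul_one, ← pow_add, Nat.add_sub_cancel' (Finset.mem_range.1 hi).le]),
      Finset.prod_mul_distrib, ← Finset.prod_range_reflect (fun i => q ^ (n - i) - 1) n]
    congr 1
    rw [Finset.prod_congr rfl (fun i hi => show q ^ (n - (n - 1 - i)) - 1 = q ^ (i + 1) - 1 by
      congr 2; have := Finset.mem_range.1 hi; omega), hnm, prod_range_two_mul]
    rfl
  have hidx := S.card_mul_index
  rw [hS, hG] at hidx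
  have hpos : 0 < ∏ i ∈ Finset.range m, (q ^ (2 * (i + 1)) - 1) :=
    Finset.prod_pos fun i _ => Nat.sub_pos_of_lt (Nat.one_lt_pow (by omega) Fintype.one_lt_card)
  have h3 : q ^ (m ^ 2) * S.index = (∏ j ∈ Finset.range n, q ^ j) * ∏ i ∈ Finset.range m, (q ^ (2 * i + 1) - 1) :=
    Nat.eq_of_mul_eq_mul_right hpos (by linear_combination hidx)
  have h4 : r ∣ (∏ j ∈ Finset.range n, q ^ j) * ∏ i ∈ Finset.range m, (q ^ (2 * i + 1) - 1) :=
    h3 ▸ Dvd.dvd.mul_left h2 _
  rcases hr.dvd_mul.1 h4 with h5 | h5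
  · obtain ⟨j, -, hj⟩ := (Prime.dvd_finsetProd_iff hr.prime _).1 h5
    exact Or.inl (hr.dvd_of_dvd_pow hj)
  · obtain ⟨i, hi, hdiv⟩ := (Prime.dvd_finsetProd_iff hr.prime _).1 h5
    exact Or.inr ⟨2 * i + 1, by simp, by have := Finset.mem_range.1 hi; omega, hdiv⟩

/-- Derangements of odd prime order of PSL_n(q) on the cosets of a symplectic-type subgroup. Here `T = PSL_n(F)` for a field `F` with `q` elements, `n ≥ 4` even, `f` is a nondegenerate alternating form on `F^n`, and `H` is the subgroup of matrices of determinant 1 preserving `f` up to a scalar — a maximal subgroup of type Sp_n(q); Ω is the set of `T`-conjugates of `H` (cosets of `H`), so an element of `T` of prime order `r` (a matrix `x` of determinant 1 with `x^r` scalar, `x` not scalar) fixes a point of Ω when some conjugate of `x` by a matrix of determinant 1 preserves `f` up to a scalar. For every odd prime `r` dividing the index of `H`, with `(n, r) ≠ (6, 3)`, there is an element of `T` of order `r` with no conjugate in `H`. (For `n =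 6`, `r = 3` this can fail: when `(q − 1)_3 = 3` every element of order 3 is conjugate into `H`.) -/
theorem result {F : Type*} [Field F] [Fintype F] {p : ℕ} [Fact p.Prime] [CharP F p] {q : ℕ} (hq : Fintype.card F = q)
    (n : ℕ) (hn : 4 ≤ n) (he : Even n) (f : (Fin n → F) → (Fin n → F) → F) (hf : Cfsg.Geo.IsSymplecticForm f)
    (r : ℕ) [Fact r.Prime] (hr2 : r ≠ 2) (hgap : ¬ (n = 6 ∧ r = 3)) (hΩ : r ∣ ((Cfsg.Geo.similarityGroup f).comap (Matrix.SpecialLinearGroup.toGL : Matrix.SpecialLinearGroup (Fin n) F →* GL (Fin n) F)).index) :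
    ∃ x : Matrix.SpecialLinearGroup (Fin n) F,
      (∃ z : F, ((x ^ r : Matrix.SpecialLinearGroup (Fin n) F) : Matrix (Fin n) (Fin n) F) = z • (1 : Matrix (Fin n) (Fin n) F)) ∧
      (∀ z : F, (x : Matrix (Fin n) (Fin n) F) ≠ z • (1 : Matrix (Fin n) (Fin n) F)) ∧
      ∀ P : Matrix.SpecialLinearGroup (Fin n) F, P⁻¹ * x * P ∉ ((Cfsg.Geo.similarityGroup f).comap (Matrix.SpecialLinearGroup.toGL : Matrix.SpecialLinearGroup (Fin n) F →* GL (Fin n) F)) := by
  classical
  suffices h : ∃ x : Matrix.SpecialLinearGroup (Fin n) F, (x ^ r : Matrix.SpecialLinearGroup (Fin n) F) = 1 ∧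
      (∀ z : F, (x : Matrix (Fin n) (Fin n) F) ≠ z • (1 : Matrix (Fin n) (Fin n) F)) ∧
      ¬ IsSimil (x : Matrix (Fin n) (Fin n) F) by
    obtain ⟨x, h1, h2, h3⟩ := h
    exact ⟨x, ⟨1, by rw [h1, one_smul, Matrix.SpecialLinearGroup.coe_one]⟩, h2,
      fun P hP => h3 (isSimil_of_mem hf x P hP)⟩
  have hr : r.Prime := Fact.out
  have hp : p.Prime := Fact.out
  obtain ⟨e, -, he'⟩ := FiniteField.card F p
  by_cases hrp : r = p
  · subst hrp
    exact exists_unipotent r hr2 hn
  have hrF0 : (r : F) ≠ 0 := fun h => by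
    rw [CharP.cast_eq_zero_iff F p] at h
    exact hrp ((Nat.prime_dvd_prime_iff_eq hp hr).1 h).symm
  rcases exists_odd_exponent hn he f hf r hr hΩ with h | ⟨i, hi, hin, hri⟩
  · rw [he'] at h
    exact absurd ((Nat.prime_dvd_prime_iff_eq hr hp).1 (hr.dvd_of_dvd_pow h)) hrp
  by_cases hw : ∃ w : Fˣ, orderOf w = r
  · obtain ⟨w, hw⟩ := hw
    exact exists_diagonal r hr hr2 hn he hgap w hw
  · refine exists_extension r hr hr2 hn (fun t ht => ?_) hi hin hri hrF0
    by_contra h1
    have h0 : t ≠ 0 := fun e => by rw [e, zero_pow hr.ne_zero] at ht; exact zero_ne_one ht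
    exact hw ⟨Units.mk0 t h0, orderOf_eq_prime (Units.ext (by simpa using ht))
      (fun e => h1 (by simpa using congrArg Units.val e))⟩

end Cfsg.Agent.S5968
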