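import Cfsg.Statements.S5970
import Cfsg.Agent.H99.Singer
-- import your own Cfsg.Agent.* helpers here

set_option autoImplicit false
open scoped MatrixGroups
open Cfsg

namespace Cfsg.Agent.S5970

open Cfsg.Agent.H99 Cfsg.Geo Polynomial

/-- Elements of order `n` of PSL_n(q), `n` prime, and the normalizer of a Singer cycle. Here `T = PSL_n(F)` for a field `F` with `q = p^f` elements (`n ≥ 2`, `(n, q) ≠ (2, 2), (2, 3)`), `k` is a prime dividing `n`, `K` is a subalgebra of the `n × n` matrices that is a field of degree `k` over `F` (an extension-field structure F_{q^k} on `F^n`), and `H` is the subgroup of matrices of determinant 1 normalizing `K` — a subgroup of type GL_{n/k}(q^k) (maximal except in some small cases; maximality is not assumed); Ω is the set of cosets of `H` in `T`, so an element of `T` of prime order `r` (a matrix `x` of determinant 1 with `x^r` scalar, `x` not scalar) fixes a point of Ω when some conjugate of `x` by a matrix of determinant 1 normalizes `K`. Take `k = n > 3` prime with `n ≠ p` (so `H` is the normalizer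 of a Singer cycle), and suppose `n` divides the index of `H`. Then every element of `T` of order `n` is conjugate in `T` into `H` if and only if the multiplicative order of `q` modulo `n` is `n − 1`. -/
theorem result {F : Type*} [Field F] [Fintype F] {p : ℕ} [Fact p.Prime] [CharP F p] {q : ℕ} (hq : Fintype.card F = q)
    (n : ℕ) (hn : 2 ≤ n) (hT : (n, q) ≠ (2, 2) ∧ (n, q) ≠ (2, 3))
    (k : ℕ) (hk : k.Prime) (hkn : k ∣ n) (K : Subalgebra F (Matrix (Fin n) (Fin n) F)) (hK : Cfsg.Geo.IsFieldSubalgebra k K) (hkn' : k = n) (hn3 : 3 < n) (hnp : n ≠ p) (hΩ : n ∣ ((Cfsg.Geo.subalgebraNormalizer K).comap (Matrix.SpecialLinearGroup.toGL : Matrix.SpecialLinearGroup (Fin n) F →* GL (Fin n) F)).index) :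
    (∀ x : Matrix.SpecialLinearGroup (Fin n) F,
      (∃ z : F, ((x ^ n : Matrix.SpecialLinearGroup (Fin n) F) : Matrix (Fin n) (Fin n) F) = z • (1 : Matrix (Fin n) (Fin n) F)) →
      (∀ z : F, (x : Matrix (Fin n) (Fin n) F) ≠ z • (1 : Matrix (Fin n) (Fin n) F)) →
      ∃ P : Matrix.SpecialLinearGroup (Fin n) F, P⁻¹ * x * P ∈ ((Cfsg.Geo.subalgebraNormalizer K).comap (Matrix.SpecialLinearGroup.toGL : Matrix.SpecialLinearGroup (Fin n) F →* GL (Fin n) F))) ↔
    orderOf (q : ZMod n) = n - 1 := by
  classical
  subst hkn'
  have hp1 := Fact.out (p := p.Prime)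
  have hq1 : 1 < q := hq ▸ Fintype.one_lt_card
  haveI : Fact k.Prime := ⟨hk⟩
  haveI : NeZero k := ⟨hk.ne_zero⟩
  have hnF : (k : F) ≠ 0 := fun h => hnp ((Nat.prime_dvd_prime_iff_eq hp1 hk).1 ((CharP.cast_eq_zero_iff F p k).1 h)).symm
  constructor
  · intro h
    by_contra hcon
    by_cases hdvd : k ∣ q - 1
    · obtain ⟨gen, hgen⟩ := IsCyclic.exists_generator (α := Fˣ)
      have hgo : orderOf gen = q - 1 := by
        rw [orderOf_eq_card_of_forall_mem_zpowers hgen, Nat.card_eq_fintype_card, Fintype.card_units, hq]
      obtain ⟨ν, hν⟩ : ∃ ν : Fˣ, orderOf ν = k :=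
        ⟨gen ^ ((q - 1) / k), orderOf_pow_orderOf_div (by omega : orderOf gen ≠ 0) (hgo ▸ hdvd) |> fun h => by rwa [hgo] at h⟩
      set μ : F := (ν : F) with hμ
      have hμ0 : μ ≠ 0 := ν.ne_zero
      have hμk : μ ^ k = 1 := by rw [hμ, ← Units.val_pow_eq_pow_val, ← hν, pow_orderOf_eq_one, Units.val_one]
      have hμ1 : μ ≠ 1 := fun h1 => by
        rw [Units.val_eq_one] at h1
        rw [h1, orderOf_one] at hν
        omega
      let i : Fin k := ⟨0, by omega⟩
      let j : Fin k := ⟨1, by omega⟩
      have hij : i ≠ j := by simp [i, j]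
      let e : Fin k → F := Function.update (Function.update 1 i μ) j μ⁻¹
      let x : Matrix.SpecialLinearGroup (Fin k) F := ⟨Matrix.diagonal e, by
        rw [Matrix.det_diagonal]
        rw [Finset.prod_eq_mul i j hij (fun c _ hc => by simp [e, hc.1, hc.2]) (by simp) (by simp)]
        simp [e, hij, hμ0]⟩
      obtain ⟨P, hP⟩ := h x ⟨1, by
        rw [Matrix.SpecialLinearGroup.coe_pow]
        show (Matrix.diagonal e) ^ k = _
        rw [Matrix.diagonal_pow, Matrix.smul_one_eq_diagonal]
        congr 1; funext c
        by_cases hc : c = j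
        · subst hc; simp [e, hμk]
        · by_cases hc' : c = i <;> simp [e, hij, hc, hc', hμk]⟩ (fun z hz => by
          have h1 := congrFun (congrFun hz i) i
          have h2 := congrFun (congrFun hz ⟨2, by omega⟩) ⟨2, by omega⟩
          simp [x, e, i, j] at h1 h2
          exact hμ1 (h1.trans h2.symm))
      refine not_conj_of_eigen hk hK x 1 (D := k - 2) ?_ (by omega) (fun hd => by have := Nat.le_of_dvd (by omega) hd; omega) P hP
      let T : (Fin k → F) →ₗ[F] F × F := (LinearMap.proj i).prod (LinearMap.proj j)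
      have hT : Function.Surjective T := fun a => ⟨Function.update (Function.update 0 i a.1) j a.2, by simp [T, hij]⟩
      have hrk := LinearMap.finrank_range_add_finrank_ker T
      rw [LinearMap.range_eq_top.2 hT, finrank_top, Module.finrank_prod, Module.finrank_self, Module.finrank_pi,
        Fintype.card_fin] at hrk
      rw [show LinearMap.ker (Matrix.toLin' (x : Matrix (Fin k) (Fin k) F) - (1 : F) • LinearMap.id) = LinearMap.ker T from ?_]
      · omega
      have hμi : μ⁻¹ ≠ 1 := by simp [hμ1]
      ext w
      simp only [LinearMap.mem_ker, LinearMap.sub_apply, LinearMap.smul_apply, LinearMap.id_apply,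
        Matrix.toLin'_apply, sub_eq_zero, one_smul, T, LinearMap.prod_apply, Function.prod, LinearMap.proj_apply, Prod.mk_eq_zero]
      constructor
      · intro h1
        refine ⟨?_, ?_⟩
        · have h2 := congrFun h1 i
          simp [x, e, Matrix.mulVec_diagonal, hij] at h2
          by_contra hw
          exact hμ1 (mul_right_cancel₀ hw (by rw [one_mul]; exact h2))
        · have h2 := congrFun h1 j
          simp [x, e, Matrix.mulVec_diagonal] at h2
          by_contra hw
          exact hμi (mul_right_cancel₀ hw (by rw [one_mul]; exact h2))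
      · rintro ⟨h1, h2⟩
        funext c
        by_cases hc : c = j
        · subst hc; simp [x, e, Matrix.mulVec_diagonal, h2]
        · by_cases hc' : c = i
          · subst hc'; simp [x, e, Matrix.mulVec_diagonal, h1]
          · simp [x, e, Matrix.mulVec_diagonal, hc, hc']
    · obtain ⟨f, -, hf⟩ := FiniteField.card F p
      have hco : p.Coprime k := (Nat.coprime_primes hp1 hk).2 (Ne.symm hnp)
      obtain ⟨P, hPirr, hPdvd⟩ := WfDvdMonoid.exists_irreducible_factor
        (fun hu => by
          have := natDegree_eq_zero_of_isUnit hu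
          rw [natDegree_cyclotomic, Nat.totient_prime hk] at this
          omega)
        (cyclotomic_ne_zero k F)
      set d := orderOf ((q : ℕ) : ZMod k) with hd
      have hPdeg : P.natDegree = d := by
        rw [natDegree_of_dvd_cyclotomic_of_irreducible hf hco hPdvd hPirr, ← orderOf_units, ZMod.coe_unitOfCoprime, ← hf, hq, hd]
      have hq0 : ((q : ℕ) : ZMod k) ≠ 0 := by
        rw [Ne, ZMod.natCast_eq_zero_iff, ← hq, hf]
        intro h1
        exact hnp ((Nat.prime_dvd_prime_iff_eq hk hp1).1 (hk.dvd_of_dvd_pow h1))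
      have hdd : d ∣ k - 1 := ZMod.orderOf_dvd_card_sub_one hq0
      have hd1 : d ≠ 1 := by
        rw [hd, Ne, orderOf_eq_one_iff]
        intro h1
        apply hdvd
        rw [← ZMod.natCast_eq_zero_iff, Nat.cast_sub (by omega), h1, Nat.cast_one, sub_self]
      have hdk : d + 2 ≤ k := by
        obtain ⟨c, hc⟩ := hdd
        rcases (show c = 0 ∨ c = 1 ∨ 2 ≤ c by omega) with rfl | rfl | hc2
        · omega
        · exact absurd (by omega : d = k - 1) hcon
        · have : d * 2 ≤ d * c := Nat.mul_le_mul_left d hc2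
          omega
      have hd0 : 0 < d := Nat.pos_of_ne_zero fun h0 => by rw [h0, zero_dvd_iff] at hdd; omega
      haveI : Fact (Irreducible P) := ⟨hPirr⟩
      haveI : FiniteDimensional F (AdjoinRoot P) := (AdjoinRoot.powerBasis hPirr.ne_zero).finite
      have hLrank : Module.finrank F (AdjoinRoot P) = d := by
        rw [(AdjoinRoot.powerBasis hPirr.ne_zero).finrank, AdjoinRoot.powerBasis_dim, hPdeg]
      set ζ := AdjoinRoot.root P with hζ
      have hζΦ : aeval ζ (cyclotomic k F) = 0 := by
        obtain ⟨A, hA⟩ := hPdvd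
        rw [hA, map_mul, hζ, AdjoinRoot.aeval_eq, AdjoinRoot.mk_self, zero_mul]
      have hζk : ζ ^ k = 1 := by
        have h1 := congrArg (aeval ζ) (cyclotomic_prime_mul_X_sub_one F k)
        simp only [map_mul, hζΦ, zero_mul, map_sub, map_pow, aeval_X, map_one] at h1
        exact sub_eq_zero.1 h1.symm
      have hζ1 : ζ ≠ 1 := by
        intro h1
        rw [h1, ← map_one (algebraMap F (AdjoinRoot P)), aeval_algebraMap_apply, coe_aeval_eq_eval, eval_one_cyclotomic_prime,
          map_eq_zero] at hζΦ
        exact hnF hζΦ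
      let e : ((Fin (k - d) → F) × AdjoinRoot P) ≃ₗ[F] (Fin k → F) := LinearEquiv.ofFinrankEq _ _ (by
        rw [Module.finrank_prod, Module.finrank_pi, Module.finrank_pi, hLrank, Fintype.card_fin, Fintype.card_fin]
        omega)
      let T : ((Fin (k - d) → F) × AdjoinRoot P) →ₗ[F] ((Fin (k - d) → F) × AdjoinRoot P) :=
        LinearMap.id.prodMap (LinearMap.mulLeft F ζ)
      let X' : Matrix (Fin k) (Fin k) F := LinearMap.toMatrix' (e.toLinearMap ∘ₗ T ∘ₗ e.symm.toLinearMap)
      have hX : ∀ (i : ℕ) a, (X' ^ i).mulVec (e a) = e (a.1, ζ ^ i * a.2) := by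
        intro i
        induction i with
        | zero => intro a; simp
        | succ i ih =>
          intro a
          rw [pow_succ', ← Matrix.mulVec_mulVec, ih, ← Matrix.toLin'_apply, Matrix.toLin'_toMatrix']
          simp [T, pow_succ', mul_assoc]
      have hXk : X' ^ k = 1 := by
        apply Matrix.toLin'.injective
        apply LinearMap.ext
        intro v
        obtain ⟨a, rfl⟩ := e.surjective v
        rw [Matrix.toLin'_apply, Matrix.toLin'_apply, hX, hζk, one_mul, Matrix.one_mulVec]
      have hdet : X'.det = 1 := by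
        have h1 : X'.det ^ k = 1 := by rw [← Matrix.det_pow, hXk, Matrix.det_one]
        have h0 : X'.det ≠ 0 := fun h0 => by simp [h0, hk.ne_zero] at h1
        have h2 := (pow_gcd_eq_one (a := X'.det) (m := k) (n := Fintype.card F - 1)).2 ⟨h1, FiniteField.pow_card_sub_one_eq_one _ h0⟩
        rw [hq, (hk.coprime_iff_not_dvd).2 hdvd, pow_one] at h2
        exact h2
      let x : Matrix.SpecialLinearGroup (Fin k) F := ⟨X', hdet⟩
      have hker : LinearMap.ker (Matrix.toLin' (x : Matrix (Fin k) (Fin k) F) - (1 : F) • LinearMap.id) =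
          LinearMap.range (e.toLinearMap ∘ₗ LinearMap.inl F _ _) := by
        ext v
        obtain ⟨⟨a, b⟩, rfl⟩ := e.surjective v
        simp only [LinearMap.mem_ker, LinearMap.sub_apply, one_smul, LinearMap.id_apply, Matrix.toLin'_apply, sub_eq_zero,
          LinearMap.mem_range, LinearMap.comp_apply, LinearMap.inl_apply, LinearEquiv.coe_coe, e.injective.eq_iff, Prod.mk.injEq]
        rw [show (x : Matrix (Fin k) (Fin k) F) = X' ^ 1 from (pow_one X').symm, hX, e.injective.eq_iff]
        simp only [pow_one, Prod.mk.injEq, true_and]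
        constructor
        · intro h1
          refine ⟨a, rfl, ?_⟩
          have h2 : (ζ - 1) * b = 0 := by rw [sub_mul, h1, one_mul, sub_self]
          exact ((mul_eq_zero.1 h2).resolve_left (sub_ne_zero.2 hζ1)).symm
        · rintro ⟨c, -, rfl⟩
          rw [mul_zero]
      have hD : Module.finrank F (LinearMap.ker (Matrix.toLin' (x : Matrix (Fin k) (Fin k) F) - (1 : F) • LinearMap.id)) = k - d := by
        rw [hker, LinearMap.finrank_range_of_inj (f := e.toLinearMap ∘ₗ LinearMap.inl F (Fin (k - d) → F) (AdjoinRoot P)) (fun a b hab => by simpa using hab), Module.finrank_pi, Fintype.card_fin]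
      obtain ⟨Q, hQ⟩ := h x ⟨1, by rw [Matrix.SpecialLinearGroup.coe_pow, one_smul]; exact hXk⟩ (fun z hz => by
        have h1 : (X' ^ 1).mulVec (e (0, 1)) = z • e (0, 1) := by
          rw [pow_one, show X' = z • (1 : Matrix (Fin k) (Fin k) F) from hz, Matrix.smul_mulVec, Matrix.one_mulVec]
        have h2 : (X' ^ 1).mulVec (e ((fun _ => 1), 0)) = z • e ((fun _ => 1), 0) := by
          rw [pow_one, show X' = z • (1 : Matrix (Fin k) (Fin k) F) from hz, Matrix.smul_mulVec, Matrix.one_mulVec]
        rw [hX, ← map_smul, e.injective.eq_iff] at h1 h2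
        have h3 := congrFun (congrArg Prod.fst h2) ⟨0, by omega⟩
        have h4 := congrArg Prod.snd h1
        simp at h3 h4
        rw [← h3, one_smul] at h4
        exact hζ1 h4)
      exact not_conj_of_eigen hk hK x 1 hD (by omega) (fun hd' => by have := Nat.le_of_dvd (by omega) hd'; omega) Q hQ
  · intro h x hx hxs
    exact exists_conj_of_orderOf p hk (by omega) hnp (hq ▸ h) hK x hx hxs


end Cfsg.Agent.S5970
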