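import Cfsg.Statements.S5971
import Cfsg.Agent.H99.Singer
import Cfsg.Agent.H99.Diag
import Cfsg.Agent.Linear.Order
-- import your own Cfsg.Agent.* helpers here

set_option autoImplicit false
open scoped MatrixGroups
open Cfsg

namespace Cfsg.Agent.S5971

open Cfsg.Agent.H99 Cfsg.Geo Polynomial

/-- Elements of order 3 of PSL_3(q) and the normalizer of a Singer cycle. Here `T = PSL_n(F)` for a field `F` with `q = p^f` elements (`n ≥ 2`, `(n, q) ≠ (2, 2), (2, 3)`), `k` is a prime dividing `n`, `K` is a subalgebra of the `n × n` matrices that is a field of degree `k` over `F` (an extension-field structure F_{q^k} on `F^n`), and `H` is the subgroup of matrices of determinant 1 normalizing `K` — a subgroup of type GL_{n/k}(q^k) (maximal except in some small cases; maximality is not assumed); Ω is the set of cosets of `H` in `T`, so an element of `T` of prime order `r` (a matrix `x` of determinant 1 with `x^r` scalar, `x` not scalar) fixes a point of Ω when some conjugate of `x` by a matrix of determinant 1 normalizes `K`. Take `n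 = k = 3` and suppose 3 divides the index of `H`. Then every element of `T` of order 3 is conjugate in `T` into `H` if and only if `q ≡ 4, 7` or `8 (mod 9)`. -/
theorem result {F : Type*} [Field F] [Fintype F] {p : ℕ} [Fact p.Prime] [CharP F p] {q : ℕ} (hq : Fintype.card F = q)
    (n : ℕ) (hn : n = 3) (k : ℕ) (hk : k.Prime) (hkn : k ∣ n) (K : Subalgebra F (Matrix (Fin n) (Fin n) F)) (hK : Cfsg.Geo.IsFieldSubalgebra k K) (hk3 : k = 3) (hΩ : 3 ∣ ((Cfsg.Geo.subalgebraNormalizer K).comap (Matrix.SpecialLinearGroup.toGL : Matrix.SpecialLinearGroup (Fin n) F →* GL (Fin n) F)).index) :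
    (∀ x : Matrix.SpecialLinearGroup (Fin n) F,
      (∃ z : F, ((x ^ 3 : Matrix.SpecialLinearGroup (Fin n) F) : Matrix (Fin n) (Fin n) F) = z • (1 : Matrix (Fin n) (Fin n) F)) →
      (∀ z : F, (x : Matrix (Fin n) (Fin n) F) ≠ z • (1 : Matrix (Fin n) (Fin n) F)) →
      ∃ P : Matrix.SpecialLinearGroup (Fin n) F, P⁻¹ * x * P ∈ ((Cfsg.Geo.subalgebraNormalizer K).comap (Matrix.SpecialLinearGroup.toGL : Matrix.SpecialLinearGroup (Fin n) F →* GL (Fin n) F))) ↔
    (q % 9 = 4 ∨ q % 9 = 7 ∨ q % 9 = 8) := by
  classical
  subst hn hk3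
  have hp1 := Fact.out (p := p.Prime)
  have hq1 : 1 < q := hq ▸ Fintype.one_lt_card
  have hqmod : q % 9 % 3 = q % 3 := Nat.mod_mod_of_dvd q (by norm_num)
  obtain ⟨gen, hgen⟩ := IsCyclic.exists_generator (α := Fˣ)
  have hgo : orderOf gen = q - 1 := by
    rw [orderOf_eq_card_of_forall_mem_zpowers hgen, Nat.card_eq_fintype_card, Fintype.card_units, hq]
  have hroot : ∀ d : ℕ, d ∣ q - 1 → ∃ ν : Fˣ, orderOf ν = d := fun d hd =>
    ⟨gen ^ ((q - 1) / d), orderOf_pow_orderOf_div (by omega : orderOf gen ≠ 0) (hgo ▸ hd) |> fun h => by rwa [hgo] at h⟩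
  constructor
  · intro h
    by_contra hcon
    push Not at hcon
    obtain ⟨h4, h7, h8⟩ := hcon
    rcases (show q % 3 = 0 ∨ q % 9 = 1 ∨ q % 9 = 2 ∨ q % 9 = 5 by omega) with h3 | h1 | h25
    · have hchar : (3 : F) = 0 := by
        obtain ⟨f, -, hf⟩ := FiniteField.card F p
        rw [hq] at hf
        have hd : 3 ∣ p ^ (f : ℕ) := hf ▸ Nat.dvd_of_mod_eq_zero h3
        have := (Nat.prime_dvd_prime_iff_eq Nat.prime_three hp1).1 (Nat.prime_three.dvd_of_dvd_pow hd)
        subst this
        exact_mod_cast CharP.cast_eq_zero F 3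
      have hij : (0 : Fin 3) ≠ 1 := by decide
      let x : Matrix.SpecialLinearGroup (Fin 3) F := ⟨Matrix.transvection 0 1 (1 : F), Matrix.det_transvection_of_ne _ _ hij _⟩
      obtain ⟨P, hP⟩ := h x ⟨1, by
        rw [Matrix.SpecialLinearGroup.coe_pow, pow_three]
        show Matrix.transvection 0 1 (1 : F) * (Matrix.transvection 0 1 (1 : F) * Matrix.transvection 0 1 (1 : F)) = _
        rw [Matrix.transvection_mul_transvection_same _ _ hij, Matrix.transvection_mul_transvection_same _ _ hij,
          show (1 : F) + (1 + 1) = 3 by norm_num, hchar, Matrix.transvection_zero, one_smul]⟩ (fun z hz => by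
        have h1 := congrFun (congrFun hz 0) 1
        simp [x, Matrix.transvection, hij] at h1)
      refine not_conj_of_eigen hk hK x 1 ?_ le_rfl (by norm_num) P hP
      rw [show LinearMap.ker (Matrix.toLin' (x : Matrix (Fin 3) (Fin 3) F) - (1 : F) • LinearMap.id) =
        LinearMap.ker (LinearMap.proj 1 : (Fin 3 → F) →ₗ[F] F) from ?_, S5969.finrank_ker_proj]
      ext w
      simp only [LinearMap.mem_ker, LinearMap.sub_apply, LinearMap.smul_apply, LinearMap.id_apply, LinearMap.proj_apply,
        Matrix.toLin'_apply, one_smul]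
      simp [x, Matrix.transvection, Matrix.add_mulVec, Matrix.single_mulVec]
    · obtain ⟨ν, hν⟩ := hroot 9 (by omega)
      set μ : F := (ν : F) with hμ
      have hμ0 : μ ≠ 0 := ν.ne_zero
      have hμ9 : μ ^ 9 = 1 := by rw [hμ, ← Units.val_pow_eq_pow_val, ← hν, pow_orderOf_eq_one, Units.val_one]
      have hμ3 : μ ^ 3 ≠ 1 := fun h3 => by
        have h4 := orderOf_dvd_of_pow_eq_one (x := ν) (n := 3) (Units.ext (by simpa using h3))
        rw [hν] at h4
        norm_num at h4
      let c : F := (μ ^ 2)⁻¹
      have hc : c ≠ μ := fun h3 => hμ3 (by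
        simp only [c] at h3; field_simp at h3; linear_combination -h3)
      have hc3 : c ^ 3 = μ ^ 3 := by
        simp only [c]; field_simp; linear_combination -hμ9
      let x : Matrix.SpecialLinearGroup (Fin 3) F := ⟨Matrix.diagonal ![μ, μ, c], by
        rw [Matrix.det_diagonal, Fin.prod_univ_three]
        simp [c]; field_simp⟩
      obtain ⟨P, hP⟩ := h x ⟨μ ^ 3, by
        rw [Matrix.SpecialLinearGroup.coe_pow]
        show (Matrix.diagonal ![μ, μ, c]) ^ 3 = _
        rw [Matrix.diagonal_pow, Matrix.smul_one_eq_diagonal]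
        congr 1; funext i
        fin_cases i <;> simp [hc3]⟩ (fun z hz => by
          have h1 := congrFun (congrFun hz 0) 0
          have h2 := congrFun (congrFun hz 2) 2
          simp [x] at h1 h2
          exact hc (h2.trans h1.symm))
      refine not_conj_of_eigen hk hK x μ ?_ le_rfl (by norm_num) P hP
      rw [show LinearMap.ker (Matrix.toLin' (x : Matrix (Fin 3) (Fin 3) F) - μ • LinearMap.id) =
        LinearMap.ker (LinearMap.proj 2 : (Fin 3 → F) →ₗ[F] F) from ?_, S5969.finrank_ker_proj]
      ext w
      simp only [LinearMap.mem_ker, LinearMap.sub_apply, LinearMap.smul_apply, LinearMap.id_apply, LinearMap.proj_apply,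
        Matrix.toLin'_apply, sub_eq_zero]
      constructor
      · intro h1
        have h2 := congrFun h1 2
        simp [x, Matrix.mulVec_diagonal] at h2
        exact h2.resolve_left hc
      · intro h1
        funext i
        fin_cases i <;> simp [x, Matrix.mulVec_diagonal, h1]
    · set H := ((subalgebraNormalizer K).comap (Matrix.SpecialLinearGroup.toGL : Matrix.SpecialLinearGroup (Fin 3) F →* GL (Fin 3) F))
      obtain ⟨g, v, hg3, hg1, -, hgK⟩ := exists_frobenius_elt hk hK
      set d : F := (g : Matrix (Fin 3) (Fin 3) F).det with hd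
      have hd3 : d ^ 3 = 1 := by
        rw [hd, ← Matrix.det_pow, ← Units.val_pow_eq_pow_val, hg3, Units.val_one, Matrix.det_one]
      have hd0 : d ≠ 0 := fun h0 => by simp [h0] at hd3
      have hd1 : d = 1 := by
        have h2 := (pow_gcd_eq_one (a := d) (m := 3) (n := Fintype.card F - 1)).2 ⟨hd3, FiniteField.pow_card_sub_one_eq_one d hd0⟩
        rw [hq, (Nat.prime_three.coprime_iff_not_dvd (n := q - 1)).2 (by omega), pow_one] at h2
        exact h2
      let y : Matrix.SpecialLinearGroup (Fin 3) F := ⟨g, hd1⟩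
      have hyH : y ∈ H := mem_normalizer_of_conj (g := Matrix.SpecialLinearGroup.toGL y) hgK
      have hyo : orderOf (⟨y, hyH⟩ : H) = 3 := by
        rw [Subgroup.orderOf_mk]
        refine orderOf_eq_prime (Subtype.ext ?_) (fun h => hg1 (Units.ext (congrArg Subtype.val h)))
        rw [Matrix.SpecialLinearGroup.coe_pow]
        show (g : Matrix (Fin 3) (Fin 3) F) ^ 3 = 1
        rw [← Units.val_pow_eq_pow_val, hg3, Units.val_one]
      have h9 : 9 ∣ Nat.card (Matrix.SpecialLinearGroup (Fin 3) F) := by
        rw [← H.card_mul_index]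
        have h3H : 3 ∣ Nat.card H := hyo.symm.dvd.trans (orderOf_dvd_natCard (⟨y, hyH⟩ : H))
        exact Nat.mul_dvd_mul h3H hΩ
      have hcard := Cfsg.Agent.Linear.card_SL_mul (F := F) 3 (by norm_num)
      rw [hq, Fin.prod_univ_three] at hcard
      have h9' : 9 ∣ (q ^ 3 - q ^ ((0 : Fin 3) : ℕ)) * (q ^ 3 - q ^ ((1 : Fin 3) : ℕ)) * (q ^ 3 - q ^ ((2 : Fin 3) : ℕ)) :=
        hcard ▸ Dvd.dvd.mul_left h9 _
      simp only [Fin.val_zero, Fin.val_one, Fin.val_two] at h9'
      have h10 := (ZMod.natCast_eq_zero_iff _ 9).2 h9'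
      have l0 : q ^ 0 ≤ q ^ 3 := Nat.pow_le_pow_right (by omega) (by norm_num)
      have l1 : q ^ 1 ≤ q ^ 3 := Nat.pow_le_pow_right (by omega) (by norm_num)
      have l2 : q ^ 2 ≤ q ^ 3 := Nat.pow_le_pow_right (by omega) (by norm_num)
      rw [Nat.cast_mul, Nat.cast_mul, Nat.cast_sub l0, Nat.cast_sub l1, Nat.cast_sub l2] at h10
      push_cast at h10
      rw [← ZMod.natCast_mod] at h10
      rcases h25 with h2 | h5
      · rw [h2] at h10; exact absurd h10 (by decide)
      · rw [h5] at h10; exact absurd h10 (by decide)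
  · intro h x hx hxs
    have hp3 : 3 ≠ p := by
      rintro rfl
      obtain ⟨f, -, hf⟩ := FiniteField.card F 3
      have : 3 ∣ q := by rw [← hq, hf]; exact dvd_pow_self 3 f.ne_zero
      omega
    by_cases h8 : q % 9 = 8
    · refine exists_conj_of_orderOf p hk le_rfl hp3 ?_ hK x hx hxs
      rw [hq, ← ZMod.natCast_mod q 3, show q % 3 = 2 by omega]
      rw [show (3 : ℕ) - 1 = 2 from rfl]
      exact orderOf_eq_prime (by decide) (by decide)
    · have hnF : ((3 : ℕ) : F) ≠ 0 := fun h0 => hp3 ((Nat.prime_dvd_prime_iff_eq hp1 Nat.prime_three).1 ((CharP.cast_eq_zero_iff F p 3).1 h0)).symm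
      obtain ⟨z, hz⟩ := hx
      have hz3 : z ^ 3 = 1 := by
        have h1 := congrArg Matrix.det hz
        rw [(x ^ 3).det_coe, Matrix.det_smul, Matrix.det_one, mul_one, Fintype.card_fin] at h1
        exact h1.symm
      rw [Matrix.SpecialLinearGroup.coe_pow] at hz
      haveI : Nonempty (Fin 3) := ⟨0⟩
      by_cases hz1 : z = 1
      · subst hz1
        rw [one_smul] at hz
        obtain ⟨ω, hω⟩ := hroot 3 (by omega)
        have hω' : IsPrimitiveRoot (ω : F) 3 := (IsPrimitiveRoot.coe_units_iff).2 (hω ▸ IsPrimitiveRoot.orderOf ω)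
        obtain ⟨e, he, heσ⟩ := exists_specialLinear_conj_diagonal (Matrix.SpecialLinearGroup.toGL x) (nthRootsFinset 3 (1 : F)) (by
          rw [← X_pow_sub_one_eq_prod (by norm_num) hω', map_sub, map_pow, aeval_X, map_one]
          show (x : Matrix (Fin 3) (Fin 3) F) ^ 3 - 1 = 0
          rw [hz, sub_self])
        obtain ⟨Q, hQ, hQx⟩ := heσ 1
        have hQd : (Q : Matrix (Fin 3) (Fin 3) F).det = 1 := by
          rw [Cfsg.Geo.specialLinear, MonoidHom.mem_ker, ← Units.val_inj] at hQ
          simpa using hQ
        have hQx' : (x : Matrix (Fin 3) (Fin 3) F) * (Q : Matrix (Fin 3) (Fin 3) F) = (Q : Matrix (Fin 3) (Fin 3) F) * Matrix.diagonal e := by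
          have h1 : Matrix.diagonal (e ∘ (1 : Equiv.Perm (Fin 3))) = Matrix.diagonal e := rfl
          rw [← h1, ← hQx, Units.val_mul, Units.val_mul]
          show _ = (Q : Matrix (Fin 3) (Fin 3) F) * (_ * (x : Matrix (Fin 3) (Fin 3) F) * _)
          rw [← mul_assoc, ← mul_assoc, Units.mul_inv, one_mul]
        have he3 : ∀ i, e i ^ 3 = 1 := fun i => (mem_nthRootsFinset (by norm_num) _).1 (he i)
        have hprod : e 0 * e 1 * e 2 = 1 := by
          have h1 := congrArg Matrix.det hQx'
          rw [Matrix.det_mul, Matrix.det_mul, x.det_coe, hQd, one_mul, one_mul, Matrix.det_diagonal, Fin.prod_univ_three] at h1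
          exact h1.symm
        have hinj : Function.Injective e := by
          by_contra hinj
          have hall : ∀ i, e i = e 0 := by
            have h01 : e 0 = e 1 → e 2 = e 0 := fun h' => by
              rw [← h'] at hprod
              linear_combination e 0 * hprod - e 2 * he3 0
            have h02 : e 0 = e 2 → e 1 = e 0 := fun h' => by
              rw [← h'] at hprod
              linear_combination e 0 * hprod - e 1 * he3 0
            have h12 : e 1 = e 2 → e 0 = e 1 := fun h' => by
              rw [← h'] at hprod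
              linear_combination e 1 * hprod - e 0 * he3 1
            rcases (show e 0 = e 1 ∨ e 0 = e 2 ∨ e 1 = e 2 by
              by_contra hne
              push Not at hne
              apply hinj
              intro i j hij
              fin_cases i <;> fin_cases j <;> first
                | rfl
                | exact absurd hij hne.1
                | exact absurd hij.symm hne.1
                | exact absurd hij hne.2.1
                | exact absurd hij.symm hne.2.1
                | exact absurd hij hne.2.2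
                | exact absurd hij.symm hne.2.2) with h' | h' | h'
            · intro i; fin_cases i <;> simp [h'.symm, h01 h']
            · intro i; fin_cases i <;> simp [h'.symm, h02 h']
            · intro i; fin_cases i <;> simp [h'.symm, (h12 h').symm]
          apply hxs (e 0)
          have h2 : Matrix.diagonal e = e 0 • (1 : Matrix (Fin 3) (Fin 3) F) := by
            rw [Matrix.smul_one_eq_diagonal]; congr 1; funext i; exact hall i
          rw [h2, Matrix.mul_smul, mul_one] at hQx'
          have h3 := congrArg (fun M => M * ((Q⁻¹ : GL (Fin 3) F) : Matrix (Fin 3) (Fin 3) F)) hQx'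
          simpa [mul_assoc] using h3
        have hv : IsCyclicVec (x : Matrix (Fin 3) (Fin 3) F) ((Q : Matrix (Fin 3) (Fin 3) F).mulVec fun _ => 1) := by
          have hpow : ∀ i : ℕ, (x : Matrix (Fin 3) (Fin 3) F) ^ i * (Q : Matrix (Fin 3) (Fin 3) F) = (Q : Matrix (Fin 3) (Fin 3) F) * Matrix.diagonal e ^ i :=
            fun i => (SemiconjBy.pow_right (a := (Q : Matrix (Fin 3) (Fin 3) F)) hQx'.symm i).eq.symm
          have hW : IsUnit ((Q : Matrix (Fin 3) (Fin 3) F) * Matrix.vandermonde e) := by
            rw [Matrix.isUnit_iff_isUnit_det, Matrix.det_mul, hQd, one_mul]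
            exact (Matrix.det_vandermonde_ne_zero_iff.2 hinj).isUnit
          unfold IsCyclicVec
          convert Matrix.linearIndependent_cols_iff_isUnit.2 hW using 1
          funext i
          rw [Matrix.mulVec_mulVec, hpow, ← Matrix.mulVec_mulVec, Matrix.diagonal_pow]
          funext r
          simp [Matrix.mul_apply, Matrix.mulVec, dotProduct, Matrix.vandermonde, Matrix.col, Matrix.diagonal_apply]
        obtain ⟨g, w, hg3, -, hw, hgK⟩ := exists_frobenius_elt hk hK
        obtain ⟨P, hP⟩ := exists_conj_of_cyclic hnF hz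
          (show (g : Matrix (Fin 3) (Fin 3) F) ^ 3 = 1 by rw [← Units.val_pow_eq_pow_val, hg3, Units.val_one]) hv hw
        exact ⟨P, S5969.conj_mem x P _ hP hgK⟩
      · have hnc : ∀ b : F, b ^ 3 ≠ z := by
          intro b hb
          have hb0 : b ≠ 0 := fun h0 => by subst h0; subst hb; simp at hz3
          have h9 : b ^ 9 = 1 := by rw [show b ^ 9 = (b ^ 3) ^ 3 by ring, hb, hz3]
          have h2 := (pow_gcd_eq_one (a := b) (m := 9) (n := Fintype.card F - 1)).2 ⟨h9, FiniteField.pow_card_sub_one_eq_one b hb0⟩
          rw [hq] at h2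
          have h3 : Nat.gcd 9 (q - 1) ∣ 3 := by
            have hd : Nat.gcd 9 (q - 1) ∣ 3 ^ 2 := Nat.gcd_dvd_left 9 _
            obtain ⟨i, hi, hd⟩ := (Nat.dvd_prime_pow Nat.prime_three).1 hd
            rw [hd]
            have hdr : Nat.gcd 9 (q - 1) ∣ q - 1 := Nat.gcd_dvd_right 9 _
            rw [hd] at hdr
            interval_cases i
            · exact one_dvd 3
            · exact dvd_rfl
            · exfalso; norm_num at hdr; omega
          obtain ⟨m, hm⟩ := h3
          exact hz1 (by rw [← hb, hm, pow_mul, h2, one_pow])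
        obtain ⟨y, hyK, hy⟩ := exists_root_mem hK (X_pow_sub_C_irreducible_of_prime Nat.prime_three hnc) (by simp)
        obtain ⟨P, hP⟩ := exists_specialLinear_conj_of_irreducible (X_pow_sub_C_irreducible_of_prime Nat.prime_three hnc)
          (x := (x : Matrix (Fin 3) (Fin 3) F)) (by simp [hz, Algebra.smul_def]) hy
        exact ⟨P, S5969.conj_mem x P y hP fun k hk => ⟨k, hk, hK.comm y hyK k hk⟩⟩


end Cfsg.Agent.S5971
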