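import Cfsg.Statements.S5974
import Cfsg.Agent.H58.Elusive.App
import Cfsg.Agent.H58.Elusive.Quarter

set_option autoImplicit false
open scoped MatrixGroups
open Cfsg

namespace Cfsg.Agent.S5974

/-- Elements of prime order of PΩ⁺_n(q), n = 2d ≥ 8, with no fixed nondegenerate hyperbolic `m`-space. Here `T = PΩ⁺_n(q)` is realised through `Ω⁺_n(q)`, the commutator subgroup of the isometry group of `Q = Σ xᵢyᵢ` over the field `F` with `q` elements; an element of `T` of prime order `r` is an element `x` of `Ω⁺_n(q)` with `x^r` scalar and `x` not scalar. A hyperbolic `m`-space is a subspace `W` of even dimension `m` on which the polar form of `Q` is nondegenerate and which contains a totally singular subspace of dimension `m/2`. Let `m` be even with `2 ≤ m < n/2`, and let `r` be a prime dividing the number of hyperbolic `m`-spaces, with `r = 2` or `r ≠ p`. For `r ≠ p` let `i` be the multiplicative order of `q` modulo `r`, `c = i`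 for `i` even and `c = 2i` for `i` odd, and write `k = n mod c`, `ℓ' = m mod c`. Then every element of `T` of order `r` fixes some hyperbolic `m`-space if and only if one of: (i) `r = 2` and (`n ≡ 2 (mod 4)`, or `m ≡ 0 (mod 4)`, or `q ≡ 1 (mod 4)`); (ii) `r ≠ p` odd, `i` odd, `c ≤ m` and `k ≥ ℓ'`; (iii) `r ≠ p` odd, `i` even, and either `k = 0` and (`n/i` odd, or `ℓ' = 0` and `m/i` even), or `i ≤ m` and (`k > ℓ' > 0`, or `k = ℓ' > 0` and `(n + m − 2k)/i` even, or `k > ℓ' = 0` and `m/i` even). -/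
theorem result {F : Type*} [Field F] [Fintype F] {p : ℕ} [Fact p.Prime] [CharP F p] {q : ℕ} (hq : Fintype.card F = q)
    (d m : ℕ) (hd : 4 ≤ d) (hm : 2 ≤ m) (hme : Even m) (hmd : m < d)
    (r : ℕ) [Fact r.Prime] (hr : r = 2 ∨ r ≠ p)
    (hrΩ : r ∣ Nat.card {W : Submodule F (Fin d ⊕ Fin d → F) // (Module.finrank F ↥W = m ∧ (∀ u ∈ W, u ≠ 0 → ∃ v ∈ W, QuadraticMap.polar (Cfsg.quadFormPlus d F) u v ≠ 0) ∧
          ∃ U : Submodule F (Fin d ⊕ Fin d → F), U ≤ W ∧ 2 * Module.finrank F ↥U = m ∧ ∀ u ∈ U, Cfsg.quadFormPlus d F u = 0)})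
    (i c : ℕ) (hi : i = orderOf (q : ZMod r)) (hc : c = if Even i then i else 2 * i) :
    (∀ x : GL (Fin d ⊕ Fin d) F, x ∈ Cfsg.Geo.omegaGL (Cfsg.quadFormPlus d F) →
      (∃ z : F, ((x ^ r : GL (Fin d ⊕ Fin d) F) : Matrix (Fin d ⊕ Fin d) (Fin d ⊕ Fin d) F) = z • (1 : Matrix (Fin d ⊕ Fin d) (Fin d ⊕ Fin d) F)) →
      (∀ z : F, (x : Matrix (Fin d ⊕ Fin d) (Fin d ⊕ Fin d) F) ≠ z • (1 : Matrix (Fin d ⊕ Fin d) (Fin d ⊕ Fin d) F)) →
      ∃ W : Submodule F (Fin d ⊕ Fin d → F), (Module.finrank F ↥W = m ∧ (∀ u ∈ W, u ≠ 0 → ∃ v ∈ W, QuadraticMap.polar (Cfsg.quadFormPlus d F) u v ≠ 0) ∧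
          ∃ U : Submodule F (Fin d ⊕ Fin d → F), U ≤ W ∧ 2 * Module.finrank F ↥U = m ∧ ∀ u ∈ U, Cfsg.quadFormPlus d F u = 0) ∧
        W.map (Matrix.toLin' (x : Matrix (Fin d ⊕ Fin d) (Fin d ⊕ Fin d) F)) ≤ W) ↔
    ((r = 2 ∧ ((2 * d) % 4 = 2 ∨ m % 4 = 0 ∨ q % 4 = 1)) ∨
     (r ≠ p ∧ 2 < r ∧ Odd i ∧ c ≤ m ∧ m % c ≤ (2 * d) % c) ∨
     (r ≠ p ∧ 2 < r ∧ Even i ∧
       (((2 * d) % c = 0 ∧ (Odd ((2 * d) / i) ∨ (m % c = 0 ∧ Even (m / i)))) ∨
        (i ≤ m ∧ ((m % c < (2 * d) % c ∧ 0 < m % c) ∨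
                  ((2 * d) % c = m % c ∧ 0 < m % c ∧ Even ((2 * d + m - 2 * ((2 * d) % c)) / i)) ∨
                  (0 < (2 * d) % c ∧ m % c = 0 ∧ Even (m / i))))))) := by
  classical
  subst hi
  have hqn : Nat.card F = q := Nat.card_eq_fintype_card.trans hq
  have hQ : Orthogonal.Nondeg (Orthogonal.formPlus F d) := Orthogonal.formPlus_nondeg F d
  have hι : Fintype.card (Fin d ⊕ Fin d) = 2 * d := by
    simp only [Fintype.card_sum, Fintype.card_fin]; omega
  have hfr : Module.finrank F (Fin d ⊕ Fin d → F) = 2 * d := Orthogonal.finrank_formPlus F d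
  have hsQ : H58.Elusive.sg (Orthogonal.formPlus F d) = 1 := H58.Elusive.sg_formPlus d
  obtain ⟨W₀, hW₀, hW₀d, hW₀s, hP'⟩ := H58.Elusive.exists_orbit_plus hQ hm hme (by omega)
  obtain ⟨μ, hμ⟩ := hme
  have hP : ∀ W : Submodule F (Fin d ⊕ Fin d → F),
      (Module.finrank F ↥W = m ∧ (∀ u ∈ W, u ≠ 0 → ∃ v ∈ W, QuadraticMap.polar (Cfsg.quadFormPlus d F) u v ≠ 0) ∧
        ∃ U : Submodule F (Fin d ⊕ Fin d → F), U ≤ W ∧ 2 * Module.finrank F ↥U = m ∧
          ∀ u ∈ U, Cfsg.quadFormPlus d F u = 0) ↔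
      H58.Elusive.IsoOn (Orthogonal.formPlus F d) W W₀ := by
    intro W
    rw [← hP' W, H58.Elusive.geo_nondeg_iff]
    refine and_congr_right fun h1 => ?_
    have hnd : (∀ u ∈ W, u ≠ 0 → ∃ v ∈ W, QuadraticMap.polar (Cfsg.quadFormPlus d F) u v ≠ 0) ↔ _ :=
      H58.Elusive.nondegOn_iff_nondeg (Q := Orthogonal.formPlus F d) W
    rw [hnd]
    refine and_congr_right fun h2 => ?_
    rw [H58.Elusive.geo_plus_iff h2 (a := μ) (by omega), H58.Elusive.sg_restr_eq_one_iff h2 (a := μ) (by omega)]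
    exact ⟨fun ⟨U, a, b, e⟩ => ⟨U, a, e, by omega⟩, fun ⟨U, a, e, b⟩ => ⟨U, a, by omega, e⟩⟩
  by_cases hr2 : r = 2
  · subst hr2
    by_cases hp : p = 2
    · subst hp
      have h2 : (2 : F) = 0 := CharTwo.two_eq_zero
      have hqe : q % 2 = 0 := by rw [← hq]; exact FiniteField.even_card_of_char_two (ringChar.eq F 2)
      simp only [lt_irrefl, false_and, and_false, or_false, true_and, ne_eq, not_true_eq_false]
      refine ⟨fun h => ?_, fun h x hx hxr _ => ?_⟩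
      · by_contra hbad
        obtain ⟨g, hgc, hne, hgp, hW⟩ := H58.Elusive.siegel_props 2 hQ (by omega) (Orthogonal.formPlus_frame F d)
          (u := d / 2) (by omega) (by omega)
        refine H58.Elusive.not_forall_scalar g hgc hne hgp (fun W hPW hinv => ?_) h
        have hiso := (hP W).1 hPW
        have hd' := hiso.finrank_eq
        obtain ⟨t, a', b', ⟨t', ht⟩, hWd, hab, -⟩ := hW W (hiso.symm.nondeg hW₀) hinv
        omega
      · refine H58.Elusive.forall_scalar_char_two hQ (by omega) hP (fun g hgc hg => ?_) x hx hxr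
        refine H58.Elusive.invol_fixes_two hQ h2 hW₀ (by omega) (by omega) (by omega) (hW₀s.trans hsQ.symm)
          (fun h4 => Or.inl (by omega)) (fun _ => Or.inr hsQ) g hgc hg
    have hqodd := H58.Elusive.odd_char_of_card (F := F) hq hp
    have h2 : (2 : F) ≠ 0 := H58.Elusive.two_ne_zero_of_odd_card (hq.symm ▸ hqodd)
    refine (H58.Elusive.forall_scalar_two_iff hQ (by omega) h2 hP (by omega)).trans ?_
    rw [H58.Elusive.allFixTwo_iff hQ h2 hW₀ (by omega) (by omega), hW₀s, hW₀d,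
      H58.Elusive.quarter_plus hq hqodd hfr hsQ, eq_comm (a := (1 : ℤ)),
      H58.Elusive.chi_pow_one hq hqodd]
    have ho := Nat.odd_iff.1 hqodd
    simp only [lt_irrefl, false_and, and_false, or_false, true_and, Nat.even_iff]
    omega
  have hrp : r ≠ p := hr.resolve_left hr2
  have hrF : (r : F) ≠ 0 := H58.Elusive.cast_prime_ne_zero hrp
  have hdiv : r ∣ Nat.card {W // H58.Elusive.IsoOn (Orthogonal.formPlus F d) W W₀} := by
    rw [← H58.Elusive.card_orbit hP]; exact hrΩ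
  refine (H58.Elusive.forall_scalar_iff hQ (by omega) (by omega) hr2 hP).trans ?_
  rw [H58.Elusive.allFix_iff hQ hr2 hrF hW₀ (by omega) (by omega) (Or.inl ⟨d, by omega⟩) hdiv]
  obtain ⟨hbig, hbig'⟩ := H58.Elusive.big hQ hr2 hrF hW₀ hdiv
  have hcpos := H58.Elusive.cc_pos (F := F) (r := r) hrF
  dsimp only [H58.Elusive.Crit]
  rw [hfr, hW₀d] at *
  rw [hW₀s, hsQ, hqn] at *
  have hcc : H58.Elusive.cc q r = c := hc.symm
  have hii : H58.Elusive.ii q r = orderOf (q : ZMod r) := rfl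
  have hr3 : 2 < r := by have := (Fact.out : r.Prime).two_le; omega
  have hev : Even (2 * d) := even_two_mul d
  rw [hcc] at hbig hcpos hbig'
  simp only [one_mul, hev, true_and, not_and] at hbig'
  rw [eq_comm (a := (1 : ℤ)), (H58.Elusive.ee_pow_eq q r _).1, hii] at hbig'
  rw [hcc]
  simp only [one_mul, ne_eq, eq_comm (a := (1 : ℤ)),
    (H58.Elusive.ee_pow_eq q r _).1, hii, hev, true_and, hr2, hrp, not_false_eq_true, hr3, false_and, false_or]
  by_cases he : Even (orderOf (q : ZMod r))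
  · have hci : c = orderOf (q : ZMod r) := by rw [hc, if_pos he]
    simp only [he, true_implies, Nat.not_odd_iff_even.2 he, false_and, false_or, true_and, Nat.not_even_iff_odd]
    simp only [he, true_implies] at hbig'
    rw [← hci]
    constructor
    · rintro (⟨h1, h3⟩ | ⟨h1, h3⟩ | ⟨h1, h3⟩ | ⟨h1, h3, h4⟩)
      · exact Or.inl ⟨h1, Or.inl h3⟩
      · rcases Nat.eq_zero_or_pos ((2 * d) % c) with h0 | h0
        · exact Or.inl ⟨h0, Or.inr ⟨h1, h3⟩⟩
        · refine Or.inr ⟨not_lt.1 fun hlt => ?_, Or.inr (Or.inr ⟨h0, h1, h3⟩)⟩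
          rw [Nat.mod_eq_of_lt hlt] at h1
          omega
      · refine Or.inr ⟨not_lt.1 fun hlt => ?_, Or.inl ⟨h3, h1⟩⟩
        rw [Nat.mod_eq_of_lt hlt] at h3
        exact hbig h3
      · refine Or.inr ⟨not_lt.1 fun hlt => ?_,
          Or.inr (Or.inl ⟨h3.symm, by omega, by rw [H58.Elusive.add_div_eq hcpos h3, add_comm]; exact h4⟩)⟩
        rw [Nat.div_eq_of_lt hlt, zero_add] at h4
        rw [Nat.mod_eq_of_lt hlt] at h3
        exact hbig' h3 h4
    · rintro (⟨h1, h3 | ⟨h3, h4⟩⟩ | ⟨-, ⟨h3, h1⟩ | ⟨h3, h1, h4⟩ | ⟨-, h1, h4⟩⟩)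
      · exact Or.inl ⟨h1, h3⟩
      · exact Or.inr (Or.inl ⟨h3, h4⟩)
      · exact Or.inr (Or.inr (Or.inl ⟨h1, h3⟩))
      · rw [H58.Elusive.add_div_eq hcpos h3.symm, add_comm] at h4
        exact Or.inr (Or.inr (Or.inr ⟨by omega, h3.symm, h4⟩))
      · exact Or.inr (Or.inl ⟨h1, h4⟩)
  · simp only [he, false_implies, not_true_eq_false, Nat.not_even_iff_odd.1 he, false_and, and_false, false_or,
      or_false, true_and, and_true]
    refine ⟨fun h => ⟨not_lt.1 fun hlt => ?_, by omega⟩, fun h => by omega⟩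
    rw [Nat.mod_eq_of_lt hlt] at h
    by_cases hk : m = (2 * d) % c
    · exact hbig' hk (fun hh => absurd hh he)
    · omega

end Cfsg.Agent.S5974
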