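import Cfsg.Statements.S5975
import Cfsg.Agent.H48.SympField


set_option autoImplicit false
open scoped MatrixGroups
open scoped Matrix
open Cfsg

namespace Cfsg.Agent.S5975

set_option linter.style.haveILetI false

open scoped Matrix
open Polynomial Cfsg.Agent.Symplectic Cfsg.Agent.S5976 Cfsg.Agent.H48.SympField

variable {F : Type*} [Field F] {d k : ℕ}

local notation "sf" => Cfsg.sympForm d F
local notation "Mat" => Matrix (Fin d ⊕ Fin d) (Fin d ⊕ Fin d) F
local notation "Vec" => Fin d ⊕ Fin d → F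

theorem aeval_intertwine {P : Type*} [AddCommGroup P] [Module F P] (A : Mat) (j : P →ₗ[F] Vec) (X : Module.End F P)
    (h : ∀ u, A *ᵥ j u = j (X u)) (Q : F[X]) : ∀ u, aeval A Q *ᵥ j u = j (aeval X Q u) := by
  induction Q using Polynomial.induction_on' with
  | add Q Q' hQ hQ' =>
    intro u
    rw [map_add, map_add, Matrix.add_mulVec, hQ, hQ', LinearMap.add_apply, map_add]
  | monomial n c =>
    have hp : ∀ (n : ℕ) u, A ^ n *ᵥ j u = j ((X ^ n) u) := by
      intro n
      induction n with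
      | zero => intro u; simp
      | succ n ih => intro u; rw [pow_succ', ← Matrix.mulVec_mulVec, ih, h, pow_succ', Module.End.mul_apply]
    intro u
    rw [aeval_monomial, aeval_monomial, ← Algebra.smul_def, Module.End.mul_apply, Module.algebraMap_end_apply,
      Matrix.smul_mulVec, hp, map_smul]

theorem commute_aeval {A B : Mat} (h : A * B = B * A) (Q : F[X]) : A * aeval B Q = aeval B Q * A := by
  induction Q using Polynomial.induction_on' with
  | add Q Q' hQ hQ' => rw [map_add, mul_add, add_mul, hQ, hQ']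
  | monomial n c =>
    rw [aeval_monomial, ← Algebra.smul_def, Matrix.mul_smul, Matrix.smul_mul, (Commute.pow_right h n).eq]

/-- An element of the symplectic group extending a given isometry by the identity. -/
theorem exists_embedded {P : Type*} [AddCommGroup P] [Module F P] [FiniteDimensional F P]
    (B : LinearMap.BilinForm F P) (hA : B.IsAlt) (hB : B.Nondegenerate) (X : Module.End F P)
    (hX : ∀ u v, B (X u) (X v) = B u v) {r : ℕ} (hXr : X ^ r = 1) (hdim : Module.finrank F P ≤ 2 * d)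
    (ψ : F[X]) (hψ1 : ψ.eval 1 ≠ 0) :
    ∃ (x : GL (Fin d ⊕ Fin d) F) (j : P →ₗ[F] (Fin d ⊕ Fin d → F)), x ∈ Cfsg.spGL d F ∧ x ^ r = 1 ∧
      Function.Injective j ∧ (∀ u, (x : Mat) *ᵥ j u = j (X u)) ∧ (∀ u v, sf (j u) (j v) = B u v) ∧
      (∀ v, aeval (x : Mat) ψ *ᵥ v = 0 → ∃ u, aeval X ψ u = 0 ∧ v = j u) ∧
      2 * d - Module.finrank F P ≤ Module.finrank F (LinearMap.ker (Matrix.toLin' ((x : Mat) - 1))) := by
  classical
  obtain ⟨m, -, hm, -⟩ := exists_std_equiv hA hB
  let M := P × (Fin (d - m) ⊕ Fin (d - m) → F)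
  let BM : LinearMap.BilinForm F M :=
    B.comp (LinearMap.fst F P _) (LinearMap.fst F P _) +
      (spB (d - m) F).comp (LinearMap.snd F P _) (LinearMap.snd F P _)
  have hBM : ∀ u v : M, BM u v = B u.1 v.1 + spB (d - m) F u.2 v.2 := fun u v => rfl
  have hAM : BM.IsAlt := fun u => by rw [hBM, hA, spB_alt (d - m) F u.2, add_zero]
  have hND : BM.Nondegenerate := by
    refine ⟨fun u h => Prod.ext (hB.1 _ fun v => ?_) ((spB_nondeg _ F).1 _ fun v => ?_),
      fun u h => Prod.ext (hB.2 _ fun v => ?_) ((spB_nondeg _ F).2 _ fun v => ?_)⟩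
    · simpa [hBM, -spB_apply] using h (v, 0)
    · simpa [hBM, -spB_apply] using h (0, v)
    · simpa [hBM, -spB_apply] using h (v, 0)
    · simpa [hBM, -spB_apply] using h (0, v)
  obtain ⟨m', e, hm', he⟩ := exists_std_equiv hAM hND
  have hmd : m' = d := by
    simp only [M, Module.finrank_prod, Module.finrank_pi, Fintype.card_sum, Fintype.card_fin] at hm'
    omega
  subst hmd
  let XM : Module.End F M := X.prodMap LinearMap.id
  have hXM : ∀ u : M, XM u = (X u.1, u.2) := fun u => rfl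
  obtain ⟨x, hx, hxv⟩ := exists_gl_of_linear (e.conj XM) (fun u v => by
    obtain ⟨u, rfl⟩ := e.surjective u
    obtain ⟨v, rfl⟩ := e.surjective v
    simp only [LinearEquiv.conj_apply, LinearMap.coe_comp, LinearEquiv.coe_coe, Function.comp_apply,
      LinearEquiv.symm_apply_apply, he, hBM, hXM, hX])
  have hxe : ∀ u, (x : Matrix (Fin m' ⊕ Fin m') (Fin m' ⊕ Fin m') F) *ᵥ e u = e (XM u) := fun u => by
    rw [hxv]; simp [LinearEquiv.conj_apply]
  let j : P →ₗ[F] (Fin m' ⊕ Fin m' → F) := e.toLinearMap ∘ₗ LinearMap.inl F P _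
  let j' : (Fin (m' - m) ⊕ Fin (m' - m) → F) →ₗ[F] (Fin m' ⊕ Fin m' → F) := e.toLinearMap ∘ₗ LinearMap.inr F P _
  have hj : ∀ u, j u = e (u, 0) := fun u => rfl
  have hj' : ∀ u, j' u = e (0, u) := fun u => rfl
  have hxj : ∀ u, (x : Matrix (Fin m' ⊕ Fin m') (Fin m' ⊕ Fin m') F) *ᵥ j u = j (X u) := fun u => by
    rw [hj, hj, hxe]; rfl
  have hxj' : ∀ u, (x : Matrix (Fin m' ⊕ Fin m') (Fin m' ⊕ Fin m') F) *ᵥ j' u = j' u := fun u => by
    rw [hj', hxe, hXM, map_zero]
  have hsplit : ∀ v, ∃ u w, v = j u + j' w := fun v => ⟨(e.symm v).1, (e.symm v).2, by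
    rw [hj, hj', ← map_add, Prod.mk_add_mk, add_zero, zero_add, Prod.mk.eta, e.apply_symm_apply]⟩
  refine ⟨x, j, hx, Units.ext (Matrix.ext_iff_mulVec.2 fun v => ?_), fun a b h => congrArg Prod.fst (e.injective h),
    hxj, fun u v => ?_, fun v hv => ?_, ?_⟩
  · obtain ⟨u, w, rfl⟩ := hsplit v
    rw [Units.val_pow_eq_pow_val, Units.val_one, Matrix.one_mulVec, Matrix.mulVec_add]
    have h1 := aeval_intertwine _ j X hxj (Polynomial.X ^ r) u
    have h2 := aeval_intertwine _ j' 1 hxj' (Polynomial.X ^ r) w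
    rw [map_pow, map_pow, aeval_X, aeval_X] at h1 h2
    rw [h1, h2, hXr, one_pow, Module.End.one_apply, Module.End.one_apply]
  · rw [hj, hj, he, hBM]; simp [-spB_apply]
  · obtain ⟨u, w, rfl⟩ := hsplit v
    rw [Matrix.mulVec_add, aeval_intertwine _ j X hxj, aeval_intertwine _ j' 1 hxj'] at hv
    have h1 : aeval (1 : Module.End F (Fin (m' - m) ⊕ Fin (m' - m) → F)) ψ = algebraMap F _ (ψ.eval 1) := by
      rw [show (1 : Module.End F (Fin (m' - m) ⊕ Fin (m' - m) → F)) = algebraMap F _ 1 from (map_one _).symm,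
        aeval_algebraMap_apply_eq_algebraMap_eval]
    rw [h1, Module.algebraMap_end_apply, hj, hj', ← map_add] at hv
    have h3 := congrArg e.symm hv
    rw [e.symm_apply_apply, map_zero, Prod.mk_add_mk, add_zero, zero_add] at h3
    have h4 : w = 0 := (smul_eq_zero.1 (congrArg Prod.snd h3)).resolve_left hψ1
    exact ⟨u, congrArg Prod.fst h3, by rw [h4, map_zero, add_zero]⟩
  · have hle : LinearMap.range j' ≤ LinearMap.ker (Matrix.toLin' ((x : Matrix (Fin m' ⊕ Fin m') (Fin m' ⊕ Fin m') F) - 1)) := by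
      rintro - ⟨w, rfl⟩
      rw [LinearMap.mem_ker, Matrix.toLin'_apply, Matrix.sub_mulVec, hxj', Matrix.one_mulVec, sub_self]
    have h1 := Submodule.finrank_mono hle
    rw [LinearMap.finrank_range_of_inj (fun (a b : Fin (m' - m) ⊕ Fin (m' - m) → F) h => congrArg Prod.snd (e.injective h)), Module.finrank_pi,
      Fintype.card_sum, Fintype.card_fin] at h1
    omega

theorem finrank_ker_ge (A : Mat) (S : Finset (Fin d ⊕ Fin d)) (hA : ∀ v, (∀ s ∈ S, v s = 0) → A *ᵥ v = 0) :
    2 * d - S.card ≤ Module.finrank F (LinearMap.ker (Matrix.toLin' A)) := by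
  classical
  let π : Vec →ₗ[F] (S → F) := LinearMap.pi fun s => LinearMap.proj (s : Fin d ⊕ Fin d)
  have hle : LinearMap.ker π ≤ LinearMap.ker (Matrix.toLin' A) := fun v hv => by
    rw [LinearMap.mem_ker, Matrix.toLin'_apply]
    exact hA v fun s hs => congrFun (LinearMap.mem_ker.1 hv) ⟨s, hs⟩
  have h1 := Submodule.finrank_mono hle
  have h2 := π.finrank_range_add_finrank_ker
  have h3 := Submodule.finrank_le (LinearMap.range π)
  rw [Module.finrank_pi] at h2
  simp only [Module.finrank_pi, Fintype.card_sum, Fintype.card_fin, Fintype.card_coe] at h2 h3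
  omega

theorem exists_transvection (p : ℕ) [Fact p.Prime] [CharP F p] (hd : 0 < d) :
    ∃ x ∈ Cfsg.spGL d F, x ^ p = 1 ∧ (∀ z : F, (x : Mat) ≠ z • 1) ∧ Obstructed k (x : Mat) ∧
      2 * d - 1 ≤ Module.finrank F (LinearMap.ker (Matrix.toLin' ((x : Mat) - 1))) := by
  classical
  let i : Fin d := ⟨0, hd⟩
  let N : Mat := Matrix.single (.inl i) (.inr i) 1
  have hN : ∀ v, N *ᵥ v = v (.inr i) • Pi.single (.inl i) (1 : F) := by
    intro v
    funext s
    by_cases h : s = Sum.inl i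
    · subst h; simp [N, Matrix.mulVec, dotProduct, Matrix.single_apply]
    · simp [N, Matrix.mulVec, dotProduct, h, Ne.symm h]
  obtain ⟨x, hx, hxv⟩ := exists_gl_of_linear (Matrix.toLin' (1 + N)) (fun u v => by
    simp only [Matrix.toLin'_apply, Matrix.add_mulVec, Matrix.one_mulVec, hN, sympForm_eq]
    refine Finset.sum_congr rfl fun j _ => ?_
    by_cases h : j = i
    · subst h; simp; ring
    · simp [h])
  have hxN : (x : Mat) = 1 + N := Matrix.ext_iff_mulVec.2 fun v => by rw [hxv]; rfl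
  have hN2 : N ^ 2 = 0 := by simp [sq, N]
  have hp2 := (Fact.out : p.Prime).two_le
  refine ⟨x, hx, ?_, fun z hz => ?_, fun κ hcomm _ _ hne _ _ _ _ _ => ?_, ?_⟩
  · haveI : Nonempty (Fin d ⊕ Fin d) := ⟨.inl i⟩
    refine Units.ext ?_
    rw [Units.val_pow_eq_pow_val, hxN, add_pow_char_of_commute (R := Mat) p (Commute.one_left N),
      one_pow, show N ^ p = N ^ 2 * N ^ (p - 2) by rw [← pow_add]; congr 1; omega, hN2, zero_mul, add_zero, Units.val_one]
  · have := congrFun (congrFun hz (.inl i)) (.inr i)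
    simp [hxN, N] at this
  · rw [hxN, mul_add, add_mul, mul_one, one_mul, add_right_inj] at hcomm
    have h1 : κ *ᵥ (N *ᵥ Pi.single (.inr i) 1) = N *ᵥ (κ *ᵥ Pi.single (.inr i) 1) := by
      rw [Matrix.mulVec_mulVec, Matrix.mulVec_mulVec, hcomm]
    rw [hN, hN, Pi.single_eq_same, one_smul] at h1
    have h3 := congrFun (hne _ _ h1) (.inl i)
    simp at h3
  · have h1 := finrank_ker_ge ((x : Mat) - 1) {Sum.inr i} (fun v hv => by
      rw [hxN, add_sub_cancel_left, hN, hv _ (Finset.mem_singleton_self _), zero_smul])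
    simpa using h1

theorem exists_reflection (h2 : (2 : F) ≠ 0) (hd : 2 ≤ d) :
    ∃ x ∈ Cfsg.spGL d F, x ^ 2 = 1 ∧ (∀ z : F, (x : Mat) ≠ z • 1) ∧ Obstructed k (x : Mat) ∧
      2 * d - 2 ≤ Module.finrank F (LinearMap.ker (Matrix.toLin' ((x : Mat) - 1))) := by
  classical
  let i : Fin d := ⟨0, by omega⟩
  let i' : Fin d := ⟨1, by omega⟩
  have hii : i' ≠ i := by simp [i, i', Fin.ext_iff]
  let ε : Fin d → F := fun j => if j = i then -1 else 1
  have hεε : ∀ j, ε j * ε j = 1 := fun j => by simp only [ε]; split_ifs <;> ring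
  let D : Mat := Matrix.diagonal (Sum.elim ε ε)
  obtain ⟨x, hx, hxv⟩ := exists_gl_of_linear (Matrix.toLin' D) (fun u v => by
    simp only [Matrix.toLin'_apply, sympForm_eq, D, Matrix.mulVec_diagonal, Sum.elim_inl, Sum.elim_inr]
    refine Finset.sum_congr rfl fun j _ => ?_
    linear_combination (u (.inr j) * v (.inl j) - u (.inl j) * v (.inr j)) * hεε j)
  have hxD : (x : Mat) = D := Matrix.ext_iff_mulVec.2 fun v => by rw [hxv]; rfl
  refine ⟨x, hx, ?_, fun z hz => ?_, fun κ hcomm _ halt hne _ _ _ _ _ => ?_, ?_⟩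
  · refine Units.ext ?_
    rw [Units.val_pow_eq_pow_val, hxD, Matrix.diagonal_pow, Units.val_one, ← Matrix.diagonal_one]
    congr 1
    funext s
    rcases s with j | j <;> simp [sq, hεε]
  · have h1 := congrFun (congrFun hz (.inl i)) (.inl i)
    have h3 := congrFun (congrFun hz (.inl i')) (.inl i')
    simp [hxD, D, ε, hii] at h1 h3
    exact h2 (by linear_combination h3 - h1)
  · let u : Vec := Pi.single (.inl i) 1
    have hu : D *ᵥ u = -u := by
      funext s
      by_cases h : s = Sum.inl i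
      · simp [D, u, Matrix.mulVec_diagonal, h, ε]
      · simp [D, u, Matrix.mulVec_diagonal, h]
    have hw : D *ᵥ (κ *ᵥ u) = -(κ *ᵥ u) := by
      rw [Matrix.mulVec_mulVec, ← hxD, ← hcomm, hxD, ← Matrix.mulVec_mulVec, hu, Matrix.mulVec_neg]
    have hz : ∀ j, j ≠ i → (κ *ᵥ u) (.inl j) = 0 ∧ (κ *ᵥ u) (.inr j) = 0 := by
      intro j hj
      have e1 := congrFun hw (.inl j)
      have e2 := congrFun hw (.inr j)
      simp only [D, Matrix.mulVec_diagonal, Sum.elim_inl, Sum.elim_inr, ε, if_neg hj, one_mul, Pi.neg_apply] at e1 e2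
      exact ⟨(mul_eq_zero.1 (by linear_combination e1 : (2 : F) * _ = 0)).resolve_left h2,
        (mul_eq_zero.1 (by linear_combination e2 : (2 : F) * _ = 0)).resolve_left h2⟩
    have h1 := halt u
    rw [sympForm_eq, Finset.sum_eq_single i (fun j _ hj => by rw [(hz j hj).1, (hz j hj).2]; ring) (by simp)] at h1
    have h3 : (κ *ᵥ u) (.inr i) = 0 := by
      have e1 : u (.inl i) = 1 := Pi.single_eq_same _ _
      have e2 : u (.inr i) = 0 := Pi.single_eq_of_ne Sum.inr_ne_inl _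
      rw [e1, e2] at h1
      linear_combination h1
    have h4 : κ *ᵥ u = (κ *ᵥ u) (.inl i) • u := by
      funext s
      rcases s with j | j <;> by_cases hj : j = i
      · subst hj; simp [u]
      · simp [u, (hz j hj).1, hj]
      · subst hj; simp [u, h3]
      · simp [u, (hz j hj).2]
    have h5 := congrFun (hne _ _ h4) (.inl i)
    simp [u] at h5
  · have h1 := finrank_ker_ge ((x : Mat) - 1) {Sum.inl i, Sum.inr i} (fun v hv => by
      rw [hxD, Matrix.sub_mulVec, Matrix.one_mulVec]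
      funext s
      rcases s with j | j <;> by_cases hj : j = i <;> simp [D, Matrix.mulVec_diagonal, ε, hj]
      · simp [hv (.inl i) (by simp)]
      · simp [hv (.inr i) (by simp)])
    rw [Finset.card_pair (by simp)] at h1
    exact h1

theorem odd_case [Fintype F] (hk : k.Prime) (r : ℕ) (hr : r.Prime) (hr2 : r ≠ 2) (hrF : (r : F) ≠ 0) (hkd : k ≤ d)
    {j₀ : ℕ} (hj₀ : 0 < j₀) (hj₀d : j₀ ≤ d) (hq₀ : (Fintype.card F : ZMod r) ^ (2 * j₀) = 1) :
    (∃ x ∈ Cfsg.spGL d F, x ^ r = 1 ∧ (∀ z : F, (x : Mat) ≠ z • 1) ∧ Obstructed k (x : Mat) ∧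
      (r = k → d < Module.finrank F (LinearMap.ker (Matrix.toLin' ((x : Mat) - 1))))) ∨
    ∃ e₀ : ℕ, k ∣ e₀ ∧ ∀ j, (Fintype.card F : ZMod r) ^ (2 * j) = 1 → e₀ ∣ j := by
  classical
  haveI : Fact r.Prime := ⟨hr⟩
  obtain ⟨ψ, hψ, hψd⟩ : ∃ ψ : F[X], Irreducible ψ ∧ ψ ∣ cyclotomic r F := by
    obtain ⟨ψ, -, h1, h2⟩ := exists_monic_irreducible_factor (cyclotomic r F)
      (fun hu => by
        have := natDegree_eq_zero_of_isUnit hu
        rw [natDegree_cyclotomic, Nat.totient_prime hr] at this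
        have := hr.two_le; omega)
    exact ⟨ψ, h1, h2⟩
  haveI : Fact (Irreducible ψ) := ⟨hψ⟩
  let L := AdjoinRoot ψ
  haveI : Module.Finite F L := (AdjoinRoot.powerBasis hψ.ne_zero).finite
  haveI : Finite L := Module.finite_of_finite F
  set ω : L := AdjoinRoot.root ψ with hω
  have hψω : aeval ω ψ = 0 := by rw [hω, AdjoinRoot.aeval_eq, AdjoinRoot.mk_self]
  haveI : NeZero ((r : L)) := ⟨fun h => hrF ((algebraMap F L).injective (by simpa using h))⟩
  have hprim : IsPrimitiveRoot ω r := by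
    rw [← isRoot_cyclotomic_iff, ← map_cyclotomic r (algebraMap F L), IsRoot.def, eval_map_algebraMap]
    obtain ⟨u, hu⟩ := hψd
    rw [hu, map_mul, hψω, zero_mul]
  have hω0 : ω ≠ 0 := hprim.ne_zero hr.ne_zero
  have hr3 : 2 < r := lt_of_le_of_ne hr.two_le (Ne.symm hr2)
  have hωinv : ω ≠ ω⁻¹ := fun h => by
    have : ω ^ 2 = 1 := by rw [sq]; nth_rewrite 2 [h]; rw [mul_inv_cancel₀ hω0]
    have := Nat.le_of_dvd two_pos (hprim.dvd_of_pow_eq_one 2 this)
    omega
  have hψ1 : ψ.eval 1 ≠ 0 := by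
    intro h0
    have h1 : (cyclotomic r F).eval 1 = 0 := by
      obtain ⟨u, hu⟩ := hψd; rw [hu, eval_mul, h0, zero_mul]
    rw [eval_one_cyclotomic_prime] at h1
    exact hrF h1
  set e := ψ.natDegree with he
  have hfe : Module.finrank F L = e := by
    rw [(AdjoinRoot.powerBasis hψ.ne_zero).finrank, AdjoinRoot.powerBasis_dim]
  set q := Fintype.card F with hq
  have hpow : ∀ t : ℕ, (q : ZMod r) ^ t = 1 → e ∣ t := by
    intro t ht
    refine Irreducible.natDegree_dvd_of_dvd_X_pow_card_pow_sub_X hψ ?_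
    rw [← AdjoinRoot.mk_eq_zero, ← AdjoinRoot.aeval_eq, map_sub, map_pow, aeval_X, sub_eq_zero,
      Nat.card_eq_fintype_card, ← hq, ← pow_mod_orderOf, ← hprim.eq_orderOf]
    have : q ^ t % r = 1 % r := (ZMod.natCast_eq_natCast_iff' _ _ _).1 (by simpa using ht)
    rw [this, Nat.mod_eq_of_lt hr.one_lt, pow_one]
  have hqe : (q : ZMod r) ^ e = 1 := by
    have h1 : ω ^ (Nat.card L) = ω := by
      haveI := Fintype.ofFinite L
      rw [Nat.card_eq_fintype_card]; exact FiniteField.pow_card ω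
    rw [Module.natCard_eq_pow_finrank (K := F), hfe, Nat.card_eq_fintype_card, ← hq] at h1
    have h3 : q ^ e ≡ 1 [MOD r] := by
      rw [hprim.eq_orderOf]
      exact (IsOfFinOrder.pow_eq_pow_iff_modEq (hprim.isOfFinOrder hr.pos.ne')).1 (by rwa [pow_one])
    simpa using (ZMod.natCast_eq_natCast_iff _ _ _).2 h3
  have he2j := hpow _ hq₀
  have her : e ∣ r - 1 := hpow _ (ZMod.pow_card_sub_one_eq_one fun h0 => by
    have h1 := hqe
    rw [h0, zero_pow hψ.natDegree_pos.ne'] at h1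
    exact zero_ne_one h1)
  have he0 : 0 < e := hψ.natDegree_pos
  have hmulk : ∀ (Z : Module.End F L) (t : L), (∀ l, Z l = t * l) → ∀ (Q : F[X]) l, aeval Z Q l = aeval t Q * l := by
    intro Z t hZ Q
    induction Q using Polynomial.induction_on' with
    | add A A' hA hA' => intro l; simp [hA, hA', add_mul]
    | monomial j c =>
      intro l
      have : ∀ j : ℕ, (Z ^ j) l = t ^ j * l := by
        intro j
        induction j with
        | zero => simp
        | succ j ih => rw [pow_succ', Module.End.mul_apply, ih, hZ, pow_succ', mul_assoc]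
      rw [aeval_monomial, aeval_monomial, Module.End.mul_apply, Module.algebraMap_end_apply, this,
        Algebra.smul_def, mul_assoc]
  rcases Nat.even_or_odd e with ⟨t, ht⟩ | hodd
  · by_cases hkt : k ∣ t
    · refine Or.inr ⟨t, hkt, fun j hj => ?_⟩
      have h1 := hpow _ hj
      rw [ht, ← two_mul] at h1
      exact Nat.dvd_of_mul_dvd_mul_left two_pos h1
    refine Or.inl ?_
    have ht0 : 0 < t := by omega
    have hqt : (q : ZMod r) ^ t = -1 := by
      have h1 : (q : ZMod r) ^ t * (q : ZMod r) ^ t = 1 := by rw [← pow_add, ← ht, hqe]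
      refine (mul_self_eq_one_iff.1 h1).resolve_left fun h => ?_
      have := Nat.le_of_dvd ht0 (hpow t h)
      omega
    let τ : L →ₐ[F] L := FiniteField.frobeniusAlgHom F L ^ t
    have hτpow : ∀ (j : ℕ) (l : L), (FiniteField.frobeniusAlgHom F L ^ j) l = l ^ (q ^ j) := by
      intro j
      induction j with
      | zero => simp
      | succ j ih =>
        intro l
        rw [pow_succ, AlgHom.mul_apply, ih, FiniteField.coe_frobeniusAlgHom]
        show (l ^ q) ^ (q ^ j) = _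
        rw [← pow_mul, ← pow_succ']
    have hτω : τ ω = ω⁻¹ := by
      refine eq_inv_of_mul_eq_one_left ?_
      rw [hτpow, ← pow_succ, ← pow_mod_orderOf, ← hprim.eq_orderOf,
        Nat.mod_eq_zero_of_dvd ((ZMod.natCast_eq_zero_iff _ _).1 (by push_cast; rw [hqt]; ring)), pow_zero]
    have hττ : ∀ l, τ (τ l) = l := fun l => by
      haveI := Fintype.ofFinite L
      rw [hτpow, hτpow, ← pow_mul, ← pow_add, ← ht, hq, ← hfe, ← Nat.card_eq_fintype_card,
        ← Module.natCard_eq_pow_finrank, Nat.card_eq_fintype_card]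
      exact FiniteField.pow_card l
    let γ : L := ω - ω⁻¹
    have hγ : γ ≠ 0 := sub_ne_zero.2 hωinv
    have hτω' : τ ω⁻¹ = ω := by rw [← hτω, hττ]
    have hτγ : τ γ = -γ := by rw [map_sub, hτω, hτω', neg_sub]
    let B : LinearMap.BilinForm F L := LinearMap.mk₂ F (fun u v => Algebra.trace F L (γ * u * τ v))
      (fun x y v => by rw [← map_add]; congr 1; ring) (fun c x v => by rw [mul_smul_comm, smul_mul_assoc, map_smul])
      (fun x y v => by rw [← map_add, map_add τ]; congr 1; ring)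
      (fun c x v => by rw [map_smul τ, mul_smul_comm, map_smul])
    have hB : ∀ u v, B u v = Algebra.trace F L (γ * u * τ v) := fun u v => rfl
    let τe : L ≃ₐ[F] L := AlgEquiv.ofBijective τ ⟨τ.toRingHom.injective, Finite.surjective_of_injective τ.toRingHom.injective⟩
    have hswap : ∀ u v, B v u = - B u v := fun u v => by
      rw [hB, hB, ← Algebra.trace_eq_of_algEquiv τe]
      show Algebra.trace F L (τ (γ * v * τ u)) = _
      rw [map_mul τ, map_mul τ, hτγ, hττ, ← map_neg]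
      congr 1; ring
    have hnd : ∀ u, (∀ v, B u v = 0) → u = 0 := fun u h => by
      have h1 : γ * u = 0 := (traceForm_nondegenerate F L).1 _ fun v => by
        have := h (τ v)
        rw [hB, hττ] at this
        simpa [Algebra.traceForm_apply] using this
      exact (mul_eq_zero.1 h1).resolve_left hγ
    have hA : B.IsAlt := fun u => by
      have h3 : ∀ l : L, τ l = -l → Algebra.trace F L l = 0 ∨ (2 : F) = 0 := fun l hl => by
        have h1 := Algebra.trace_eq_of_algEquiv τe l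
        change Algebra.trace F L (τ l) = _ at h1
        rw [hl, map_neg] at h1
        exact (mul_eq_zero.1 (by linear_combination -h1 : (2 : F) * Algebra.trace F L l = 0)).symm
      rw [hB, mul_assoc]
      have hn : τ (u * τ u) = u * τ u := by rw [map_mul, hττ, mul_comm]
      by_cases h2 : (2 : F) = 0
      · -- `γ * n = l - τ l` with `l = ω * n`
        have e1 : γ * (u * τ u) = ω * (u * τ u) - τ (ω * (u * τ u)) := by
          rw [map_mul τ, hn, hτω]; ring
        rw [e1, map_sub]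
        have h1 := Algebra.trace_eq_of_algEquiv τe (ω * (u * τ u))
        change Algebra.trace F L (τ _) = _ at h1
        rw [h1, sub_self]
      · exact (h3 _ (by rw [map_mul τ, hn, hτγ, neg_mul])).resolve_right h2
    have hBnd : B.Nondegenerate := ⟨hnd, fun u h => hnd u fun v => by rw [hswap, h, neg_zero]⟩
    obtain ⟨x, j, hx, hxr, hji, hxj, hjB, hker, hfix⟩ := exists_embedded (d := d) B hA hBnd (LinearMap.mulLeft F ω)
      (fun u v => by
        rw [hB, hB]
        show Algebra.trace F L (γ * (ω * u) * τ (ω * v)) = _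
        rw [map_mul τ, hτω]
        congr 1
        rw [show γ * (ω * u) * (ω⁻¹ * τ v) = γ * u * τ v * (ω * ω⁻¹) by ring, mul_inv_cancel₀ hω0, mul_one])
      (r := r) (LinearMap.ext fun l => by rw [LinearMap.pow_mulLeft, hprim.pow_eq_one]; simp) (by
        rw [hfe]
        have := Nat.le_of_dvd (by omega) he2j
        omega) ψ hψ1
    refine ⟨x, hx, hxr, fun z hz => ?_, fun κ hcomm hsa _ _ m hmm hmi hmd hma => ?_, fun hrk => ?_⟩
    · have h1 : j (ω * 1) = j (z • (1 : L)) := by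
        rw [map_smul]
        exact (hxj 1).symm.trans (by rw [hz, Matrix.smul_mulVec, Matrix.one_mulVec])
      have h3 : ω = z • (1 : L) := by simpa using hji h1
      exact hωinv (by rw [← hτω, h3, map_smul, map_one])
    · have hX0 : ∀ u, aeval (LinearMap.mulLeft F ω) ψ u = 0 := fun u => by
        rw [hmulk _ ω (fun _ => rfl), hψω, zero_mul]
      have hex : ∀ u, ∃ u', κ *ᵥ j u = j u' := fun u => by
        obtain ⟨u', -, hu'⟩ := hker (κ *ᵥ j u) (by
          rw [Matrix.mulVec_mulVec, ← commute_aeval hcomm, ← Matrix.mulVec_mulVec, aeval_intertwine _ j _ hxj, hX0,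
            map_zero, Matrix.mulVec_zero])
        exact ⟨u', hu'⟩
      choose kf hkf using hex
      let kl : Module.End F L :=
        { toFun := kf
          map_add' := fun u v => hji (by rw [map_add, ← hkf, ← hkf, ← hkf, map_add, Matrix.mulVec_add])
          map_smul' := fun c u => hji (by
            rw [RingHom.id_apply, map_smul, ← hkf, ← hkf, map_smul, Matrix.mulVec_smul]) }
      have hkl : ∀ u, κ *ᵥ j u = j (kl u) := hkf
      have hkX : ∀ l, kl (ω * l) = ω * kl l := fun l => hji (by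
        have h1 : j (ω * l) = (x : Mat) *ᵥ j l := (hxj l).symm
        rw [← hkl, h1, Matrix.mulVec_mulVec, hcomm, ← Matrix.mulVec_mulVec, hkl]
        exact hxj _)
      set s := kl 1
      have hks : ∀ l, kl l = s * l := by
        intro l
        obtain ⟨Q, rfl⟩ := AdjoinRoot.mk_surjective l
        rw [← AdjoinRoot.aeval_eq]
        induction Q using Polynomial.induction_on' with
        | add A A' hA hA' => rw [map_add, map_add, hA, hA', mul_add]
        | monomial n c =>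
          rw [aeval_monomial, ← Algebra.smul_def, map_smul, mul_smul_comm]
          congr 1
          clear c
          induction n with
          | zero => rw [pow_zero, mul_one]
          | succ n ih => rw [pow_succ', hkX, ih]; ring
      have hms : aeval s m = 0 := by
        have h1 := aeval_intertwine κ j kl hkl m 1
        rw [hma, Matrix.zero_mulVec, hmulk kl s hks, mul_one] at h1
        exact hji (by rw [← h1, map_zero])
      have hτs : τ s = s := by
        have h1 : ∀ v, B (s - τ s) v = 0 := fun v => by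
          have h2 := hsa (j 1) (j v)
          rw [hkl, hkl, hjB, hjB, hks, hks, mul_one] at h2
          have h4 : B 1 (s * v) = B (τ s) v := by rw [hB, hB, map_mul τ]; congr 1; ring
          rw [map_sub, LinearMap.sub_apply, h2, h4, sub_self]
        exact (sub_eq_zero.1 (hnd _ h1)).symm
      refine hkt ?_
      rw [← hmd]
      refine Irreducible.natDegree_dvd_of_dvd_X_pow_card_pow_sub_X hmi ?_
      rw [minpoly.eq_of_irreducible_of_monic hmi hms hmm]
      refine minpoly.dvd F s ?_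
      rw [map_sub, map_pow, aeval_X, Nat.card_eq_fintype_card, ← hq, ← hτpow]
      exact sub_eq_zero.2 hτs
    · rw [hfe] at hfix
      have := Nat.le_of_dvd (by omega) her
      omega
  · by_cases hke : k ∣ e
    · exact Or.inr ⟨e, hke, fun j hj => (Nat.coprime_two_right.2 hodd).dvd_of_dvd_mul_left (hpow _ hj)⟩
    refine Or.inl ?_
    have hei : e ∣ j₀ := (Nat.coprime_two_right.2 hodd).dvd_of_dvd_mul_left he2j
    have h2e : 2 * e ∣ r - 1 :=
      Nat.Coprime.mul_dvd_of_dvd_of_dvd (Nat.coprime_two_left.2 hodd) (by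
        obtain ⟨b, hb⟩ := hr.odd_of_ne_two hr2; exact ⟨b, by omega⟩) her
    have hinv := Cfsg.Agent.H48.SimForm.inv_not_root hr3 hodd ψ dvd_rfl hprim
    let B : LinearMap.BilinForm F (L × L) := LinearMap.mk₂ F
      (fun u v => Algebra.trace F L (u.1 * v.2 - u.2 * v.1))
      (fun x y v => by rw [← map_add]; congr 1; simp; ring)
      (fun c x v => by simp only [Prod.smul_fst, Prod.smul_snd, smul_mul_assoc, ← smul_sub, map_smul])
      (fun x y v => by rw [← map_add]; congr 1; simp; ring)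
      (fun c x v => by simp only [Prod.smul_fst, Prod.smul_snd, mul_smul_comm, ← smul_sub, map_smul])
    have hB : ∀ u v, B u v = Algebra.trace F L (u.1 * v.2 - u.2 * v.1) := fun u v => rfl
    have hA : B.IsAlt := fun u => by rw [hB, mul_comm u.1, sub_self, map_zero]
    have hnd : ∀ u, (∀ v, B u v = 0) → u = 0 := fun u h => Prod.ext
      ((traceForm_nondegenerate F L).1 _ fun v => by simpa [hB, Algebra.traceForm_apply] using h (0, v))
      ((traceForm_nondegenerate F L).1 _ fun v => by simpa [hB, Algebra.traceForm_apply] using h (v, 0))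
    have hBnd : B.Nondegenerate := ⟨hnd, fun u h => hnd u fun v => by rw [← hA.neg_eq, h, neg_zero]⟩
    let X : Module.End F (L × L) := (LinearMap.mulLeft F ω).prodMap (LinearMap.mulLeft F ω⁻¹)
    have hXv : ∀ u, X u = (ω * u.1, ω⁻¹ * u.2) := fun u => rfl
    have hval : ∀ (Q : F[X]) u, aeval X Q u = (aeval ω Q * u.1, aeval ω⁻¹ Q * u.2) := by
      intro Q
      induction Q using Polynomial.induction_on' with
      | add A A' hA hA' => intro u; simp [hA, hA', add_mul]
      | monomial j c =>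
        intro u
        have : ∀ j : ℕ, (X ^ j) u = (ω ^ j * u.1, ω⁻¹ ^ j * u.2) := by
          intro j
          induction j with
          | zero => simp
          | succ j ih => rw [pow_succ', Module.End.mul_apply, ih, hXv, pow_succ', pow_succ', mul_assoc, mul_assoc]
        rw [aeval_monomial, aeval_monomial, aeval_monomial, Module.End.mul_apply, Module.algebraMap_end_apply, this,
          Prod.smul_mk, Algebra.smul_def, Algebra.smul_def, mul_assoc, mul_assoc]
    obtain ⟨x, j, hx, hxr, hji, hxj, -, hker, hfix⟩ := exists_embedded (d := d) B hA hBnd X (fun u v => by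
      rw [hB, hB, hXv, hXv]; congr 1
      show ω * u.1 * (ω⁻¹ * v.2) - ω⁻¹ * u.2 * (ω * v.1) = _
      rw [mul_mul_mul_comm ω, mul_inv_cancel₀ hω0, mul_mul_mul_comm ω⁻¹, inv_mul_cancel₀ hω0, one_mul, one_mul])
      (r := r) (LinearMap.ext fun u => by
        have h1 := hval (Polynomial.X ^ r) u
        rw [map_pow, map_pow, map_pow, aeval_X, aeval_X, aeval_X] at h1
        rw [h1, inv_pow, hprim.pow_eq_one, inv_one, one_mul, one_mul, Module.End.one_apply]) (by
        rw [Module.finrank_prod, hfe]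
        have := Nat.le_of_dvd hj₀ hei
        omega) ψ hψ1
    refine ⟨x, hx, hxr, fun z hz => ?_, fun κ hcomm _ _ _ m hmm hmi hmd hma => ?_, fun hrk => ?_⟩
    · have h1 : j (X (1, 1)) = j (z • ((1, 1) : L × L)) := by
        rw [map_smul, ← hxj, hz, Matrix.smul_mulVec, Matrix.one_mulVec]
      have h3 := hji h1
      rw [hXv, Prod.smul_mk, Prod.mk.injEq, mul_one, mul_one] at h3
      exact hωinv (h3.1.trans h3.2.symm)
    · let j1 : L →ₗ[F] Vec := j ∘ₗ LinearMap.inl F L L
      have hxj1 : ∀ l, (x : Mat) *ᵥ j1 l = j1 (ω * l) := fun l => by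
        show (x : Mat) *ᵥ j (l, 0) = j (ω * l, 0)
        rw [hxj, hXv, mul_zero]
      have hex : ∀ u, ∃ u', κ *ᵥ j1 u = j1 u' := fun u => by
        obtain ⟨⟨a, b⟩, h0, hu'⟩ := hker (κ *ᵥ j1 u) (by
          rw [Matrix.mulVec_mulVec, ← commute_aeval hcomm, ← Matrix.mulVec_mulVec,
            aeval_intertwine _ j1 (LinearMap.mulLeft F ω) hxj1, hmulk _ ω (fun _ => rfl), hψω, zero_mul, map_zero,
            Matrix.mulVec_zero])
        rw [hval] at h0
        have hb : b = 0 := (mul_eq_zero.1 (congrArg Prod.snd h0)).resolve_left hinv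
        exact ⟨a, by rw [hu', hb]; rfl⟩
      choose kf hkf using hex
      have hj1 : Function.Injective j1 := fun a b h => congrArg Prod.fst (hji h)
      let kl : Module.End F L :=
        { toFun := kf
          map_add' := fun u v => hj1 (by rw [map_add, ← hkf, ← hkf, ← hkf, map_add, Matrix.mulVec_add])
          map_smul' := fun c u => hj1 (by
            rw [RingHom.id_apply, map_smul, ← hkf, ← hkf, map_smul, Matrix.mulVec_smul]) }
      have hkl : ∀ u, κ *ᵥ j1 u = j1 (kl u) := hkf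
      have hkX : ∀ l, kl (ω * l) = ω * kl l := fun l => hj1 (by
        rw [← hkl, ← hxj1, Matrix.mulVec_mulVec, hcomm, ← Matrix.mulVec_mulVec, hkl, hxj1])
      set s := kl 1
      have hks : ∀ l, kl l = s * l := by
        intro l
        obtain ⟨Q, rfl⟩ := AdjoinRoot.mk_surjective l
        rw [← AdjoinRoot.aeval_eq]
        induction Q using Polynomial.induction_on' with
        | add A A' hA hA' => rw [map_add, map_add, hA, hA', mul_add]
        | monomial n c =>
          rw [aeval_monomial, ← Algebra.smul_def, map_smul, mul_smul_comm]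
          congr 1
          clear c
          induction n with
          | zero => rw [pow_zero, mul_one]
          | succ n ih => rw [pow_succ', hkX, ih]; ring
      have hms : aeval s m = 0 := by
        have h1 := aeval_intertwine κ j1 kl hkl m 1
        rw [hma, Matrix.zero_mulVec, hmulk kl s hks, mul_one] at h1
        exact hj1 (by rw [← h1, map_zero])
      refine hke ?_
      rw [← hmd, ← hfe, minpoly.eq_of_irreducible_of_monic hmi hms hmm]
      exact minpoly.degree_dvd (IsIntegral.of_finite F s)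
    · rw [Module.finrank_prod, hfe] at hfix
      have := Nat.le_of_dvd (by omega) h2e
      omega

theorem two_pos_case [Fintype F] (h2 : (2 : F) ≠ 0)
    (K : Subalgebra F (Matrix (Fin 2 ⊕ Fin 2) (Fin 2 ⊕ Fin 2) F)) (hK : Cfsg.Geo.IsFieldSubalgebra 2 K)
    (hKf : Cfsg.Geo.IsSelfAdjointFor (Cfsg.sympForm 2 F) K)
    (hKalt : ∀ a ∈ K, ∀ v : Fin 2 ⊕ Fin 2 → F, Cfsg.sympForm 2 F (a *ᵥ v) v = 0)
    (x : GL (Fin 2 ⊕ Fin 2) F) (hx : x ∈ Cfsg.spGL 2 F)
    (hxz : ∃ z : F, ((x ^ 2 : GL (Fin 2 ⊕ Fin 2) F) : Matrix (Fin 2 ⊕ Fin 2) (Fin 2 ⊕ Fin 2) F) = z • 1)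
    (hns : ∀ z : F, (x : Matrix (Fin 2 ⊕ Fin 2) (Fin 2 ⊕ Fin 2) F) ≠ z • 1) :
    ∃ g ∈ Cfsg.spGL 2 F, g⁻¹ * x * g ∈ Cfsg.Geo.subalgebraNormalizer K := by
  classical
  obtain ⟨κ₀, hκ₀K, -, -, -, -, -, hns₀, -⟩ := exists_gen Nat.prime_two hK
  -- spanned by `1, κ₀`
  have hli : LinearIndependent F ![(1 : K), ⟨κ₀, hκ₀K⟩] := by
    refine LinearIndependent.pair_iff.2 fun s t h => ?_
    have h' : s • (1 : Matrix (Fin 2 ⊕ Fin 2) (Fin 2 ⊕ Fin 2) F) + t • κ₀ = 0 := congrArg Subtype.val h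
    by_cases ht : t = 0
    · rw [ht, zero_smul, add_zero] at h'
      exact ⟨(smul_eq_zero.1 h').resolve_right one_ne_zero, ht⟩
    · exact absurd (by
        rw [add_eq_zero_iff_neg_eq, ← neg_smul] at h'
        rw [← inv_smul_smul₀ ht κ₀, ← h', smul_smul]) (hns₀ (t⁻¹ * -s))
  have hspan₀ : ∀ k' ∈ K, ∃ s t : F, k' = s • 1 + t • κ₀ := by
    intro k' hk'
    have htop := hli.span_eq_top_of_card_eq_finrank (by rw [Fintype.card_fin, hK.finrank_eq])
    have hmem : (⟨k', hk'⟩ : K) ∈ Submodule.span F (Set.range ![(1 : K), ⟨κ₀, hκ₀K⟩]) := by rw [htop]; trivial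
    rw [Matrix.range_cons, Matrix.range_cons, Matrix.range_empty, Set.union_empty, Set.singleton_union] at hmem
    obtain ⟨s, t, hst⟩ := Submodule.mem_span_pair.1 hmem
    exact ⟨s, t, (congrArg Subtype.val hst).symm⟩
  obtain ⟨s, t, hst⟩ := hspan₀ _ (K.mul_mem hκ₀K hκ₀K)
  set κ := κ₀ - (t / 2) • (1 : Matrix (Fin 2 ⊕ Fin 2) (Fin 2 ⊕ Fin 2) F) with hκdef
  have hκK : κ ∈ K := K.sub_mem hκ₀K (K.smul_mem K.one_mem _)
  set a := s + t ^ 2 / 4 with hadef
  have hκκ : κ * κ = a • 1 := by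
    rw [hκdef, sub_mul, mul_sub, mul_sub, hst, Matrix.smul_mul, Matrix.smul_mul, one_mul, one_mul, Matrix.mul_smul,
      mul_one, smul_smul, hadef]
    have h4 : (4 : F) ≠ 0 := by
      rw [show (4 : F) = 2 * 2 by norm_num]; exact mul_ne_zero h2 h2
    match_scalars <;> field_simp <;> ring
  have hnsc : ∀ c : F, κ ≠ c • 1 := fun c h => hns₀ (c + t / 2) (by rw [add_smul, ← h, hκdef, sub_add_cancel])
  have ha : ¬ IsSquare a := by
    rintro ⟨c, hc⟩
    have h1 : (κ - c • 1) * (κ + c • 1) = 0 := by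
      rw [sub_mul, mul_add, mul_add, hκκ, hc]; simp [smul_smul]; abel
    obtain ⟨w, -, hw⟩ := hK.inv _ (K.sub_mem hκK (K.smul_mem K.one_mem c)) (sub_ne_zero.2 (hnsc c))
    have h3 : κ + c • 1 = 0 := by
      have h4 := congrArg (w * ·) h1
      simp only [mul_zero, ← mul_assoc] at h4
      rwa [mul_eq_one_comm.1 hw, one_mul] at h4
    exact hnsc (-c) (by rw [neg_smul]; exact eq_neg_of_add_eq_zero_left h3)
  have ha0 : a ≠ 0 := fun h => ha (h ▸ IsSquare.zero)
  have hsa : ∀ u v, Cfsg.sympForm 2 F (κ *ᵥ u) v = Cfsg.sympForm 2 F u (κ *ᵥ v) := hKf κ hκK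
  have halt := hKalt κ hκK
  have hκκv : ∀ u, κ *ᵥ (κ *ᵥ u) = a • u := fun u => by
    rw [Matrix.mulVec_mulVec, hκκ, Matrix.smul_mulVec, Matrix.one_mulVec]
  -- adapted basis
  let v : Fin 2 ⊕ Fin 2 → F := Pi.single (.inr 0) 1
  obtain ⟨t', ht'⟩ : ∃ t', Cfsg.sympForm 2 F v t' ≠ 0 := by
    by_contra hno
    push Not at hno
    simpa [v] using congrFun (sf_nd hno) (.inr 0)
  set α := Cfsg.sympForm 2 F v t' with hα
  set β := Cfsg.sympForm 2 F (κ *ᵥ v) t' with hβ
  have hD : a * α ^ 2 - β ^ 2 ≠ 0 := fun h => ha ⟨β / α, by field_simp; linear_combination h⟩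
  set D := a * α ^ 2 - β ^ 2 with hDdef
  let w : Fin 2 ⊕ Fin 2 → F := (a * α / D) • t' + (-β / D) • κ *ᵥ t'
  let B := spB 2 F
  have hB : ∀ u u', Cfsg.sympForm 2 F u u' = B u u' := sf_eq_spB
  have e1 : B v (κ *ᵥ t') = β := by rw [← hB, ← hsa]
  have e2 : B (κ *ᵥ v) (κ *ᵥ t') = a * α := by
    rw [← hB, hsa, hκκv, hB, map_smul, ← hB, smul_eq_mul]
  have hvw : B v w = 1 := by
    simp only [w, map_add, map_smul, smul_eq_mul, e1, ← hB v t', ← hα]
    field_simp
    rw [hDdef]; ring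
  have hκvw : B (κ *ᵥ v) w = 0 := by
    simp only [w, map_add, map_smul, smul_eq_mul, e2, ← hB (κ *ᵥ v) t', ← hβ]
    field_simp
    ring
  have hsw : ∀ u u', B u u' = - B u' u := fun u u' => alt_swap (spB_alt 2 F) u u'
  have hv0 : B v v = 0 := spB_alt 2 F v
  have hw0 : B w w = 0 := spB_alt 2 F w
  have hκ0 : ∀ u, B (κ *ᵥ u) u = 0 := fun u => by rw [← hB]; exact halt u
  have hκ0' : ∀ u, B u (κ *ᵥ u) = 0 := fun u => by rw [hsw, hκ0, neg_zero]
  have hκ2 : ∀ u u', B (κ *ᵥ u) (κ *ᵥ u') = a * B u u' := fun u u' => by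
    rw [← hB, hsa, hκκv, hB, map_smul, smul_eq_mul]
  have hvκw : B v (κ *ᵥ w) = 0 := by rw [← hB, ← hsa, hB, hκvw]
  have hwv : B w v = -1 := by rw [hsw, hvw]
  have hwκv : B w (κ *ᵥ v) = 0 := by rw [hsw, hκvw, neg_zero]
  have hκwv : B (κ *ᵥ w) v = 0 := by rw [hsw, hvκw, neg_zero]
  let L₀ : (Fin 2 ⊕ Fin 2 → F) →ₗ[F] (Fin 2 ⊕ Fin 2 → F) :=
    { toFun := fun u => u (.inr 0) • v + u (.inl 0) • w + u (.inr 1) • κ *ᵥ v + (a⁻¹ * u (.inl 1)) • κ *ᵥ w
      map_add' := fun u u' => by simp only [Pi.add_apply, add_smul, mul_add]; abel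
      map_smul' := fun c u => by
        simp only [Pi.smul_apply, smul_eq_mul, RingHom.id_apply, smul_add, smul_smul, mul_left_comm c] }
  obtain ⟨g₂, hg₂, hg₂v⟩ := exists_gl_of_linear L₀ (fun u u' => by
    show Cfsg.sympForm 2 F (_ + _ + _ + _) (_ + _ + _ + _) = _
    rw [hB]
    simp only [map_add, map_smul, LinearMap.add_apply, LinearMap.smul_apply, smul_eq_mul, hv0, hw0, hκ0, hκ0', hκ2,
      hvw, hκvw, hvκw, hwv, hwκv, hκwv]
    rw [sympForm_eq, Fin.sum_univ_two]
    field_simp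
    ring)
  let κL : (Fin 2 ⊕ Fin 2 → F) → (Fin 2 ⊕ Fin 2 → F) := fun u =>
    Sum.elim ![u (.inl 1), a * u (.inl 0)] ![a * u (.inr 1), u (.inr 0)]
  have hκg : ∀ u, κ *ᵥ ((g₂ : Matrix _ _ F) *ᵥ u) = (g₂ : Matrix _ _ F) *ᵥ κL u := fun u => by
    rw [hg₂v, hg₂v]
    show κ *ᵥ (_ + _ + _ + _) = _ + _ + _ + _
    simp only [Matrix.mulVec_add, Matrix.mulVec_smul, hκκv, smul_smul, κL, Sum.elim_inl, Sum.elim_inr,
      Matrix.cons_val_zero, Matrix.cons_val_one]
    field_simp
    abel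
  -- membership in the normaliser
  have hmem : ∀ (y : GL (Fin 2 ⊕ Fin 2) F) (ε : F), (ε = 1 ∨ ε = -1) →
      (∀ u, (y : Matrix _ _ F) *ᵥ κL u = ε • κL ((y : Matrix _ _ F) *ᵥ u)) →
      g₂ * y * g₂⁻¹ ∈ Cfsg.Geo.subalgebraNormalizer K := by
    intro y ε hε hy
    set Y := g₂ * y * g₂⁻¹ with hY
    have hεε : ε * ε = 1 := by rcases hε with rfl | rfl <;> simp
    have hyk : (Y : Matrix (Fin 2 ⊕ Fin 2) (Fin 2 ⊕ Fin 2) F) * κ = ε • (κ * (Y : Matrix (Fin 2 ⊕ Fin 2) (Fin 2 ⊕ Fin 2) F)) := by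
      refine Matrix.ext_iff_mulVec.2 fun u => ?_
      obtain ⟨u, rfl⟩ : ∃ u', (g₂ : Matrix (Fin 2 ⊕ Fin 2) (Fin 2 ⊕ Fin 2) F) *ᵥ u' = u :=
        ⟨((g₂⁻¹ : GL (Fin 2 ⊕ Fin 2) F) : Matrix (Fin 2 ⊕ Fin 2) (Fin 2 ⊕ Fin 2) F) *ᵥ u, by rw [Matrix.mulVec_mulVec, Units.mul_inv, Matrix.one_mulVec]⟩
      have hYg : ∀ u, (Y : Matrix (Fin 2 ⊕ Fin 2) (Fin 2 ⊕ Fin 2) F) *ᵥ ((g₂ : Matrix (Fin 2 ⊕ Fin 2) (Fin 2 ⊕ Fin 2) F) *ᵥ u) =
          (g₂ : Matrix (Fin 2 ⊕ Fin 2) (Fin 2 ⊕ Fin 2) F) *ᵥ ((y : Matrix (Fin 2 ⊕ Fin 2) (Fin 2 ⊕ Fin 2) F) *ᵥ u) := fun u => by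
        rw [Matrix.mulVec_mulVec, Matrix.mulVec_mulVec, ← Units.val_mul, ← Units.val_mul, hY, inv_mul_cancel_right]
      rw [← Matrix.mulVec_mulVec, hκg, hYg, hy, Matrix.smul_mulVec, ← Matrix.mulVec_mulVec, hYg, hκg, Matrix.mulVec_smul]
    have hspan : ∀ k' ∈ K, ∃ c e : F, k' = c • 1 + e • κ := fun k' hk' => by
      obtain ⟨c, e, rfl⟩ := hspan₀ k' hk'
      exact ⟨c + e * (t / 2), e, by rw [hκdef, smul_sub, smul_smul, add_smul]; abel⟩
    have hfwd : ∀ c e : F, (Y : Matrix _ _ F) * (c • 1 + e • κ) * ((Y⁻¹ : GL (Fin 2 ⊕ Fin 2) F) : Matrix _ _ F) = c • 1 + (e * ε) • κ := by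
      intro c e
      rw [mul_add, add_mul, Matrix.mul_smul, Matrix.mul_smul, mul_one, hyk, smul_smul, Matrix.smul_mul, Matrix.smul_mul,
        Units.mul_inv, mul_assoc, Units.mul_inv, mul_one]
    have hK' : ∀ c e : F, c • 1 + e • κ ∈ K := fun c e => K.add_mem (K.smul_mem K.one_mem c) (K.smul_mem hκK e)
    refine fun k' => ⟨fun hk' => ?_, fun hk' => ?_⟩
    · obtain ⟨c, e, rfl⟩ := hspan k' hk'
      rw [hfwd]; exact hK' _ _
    · obtain ⟨c, e, he⟩ := hspan _ hk'
      have h3 : k' = c • 1 + (e * ε) • κ := by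
        have := hfwd c (e * ε)
        rw [mul_assoc e ε ε, hεε, mul_one, ← he] at this
        rw [mul_assoc, mul_assoc, Units.mul_right_inj, Units.mul_left_inj] at this
        exact this.symm
      rw [h3]; exact hK' _ _
  obtain ⟨z, hz⟩ := hxz
  rw [Units.val_pow_eq_pow_val, sq] at hz
  set X := (x : Matrix (Fin 2 ⊕ Fin 2) (Fin 2 ⊕ Fin 2) F)
  have hXX : ∀ u, X *ᵥ (X *ᵥ u) = z • u := fun u => by
    rw [Matrix.mulVec_mulVec, hz, Matrix.smul_mulVec, Matrix.one_mulVec]
  have hz2 : z * z = 1 := by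
    have h1 : Cfsg.sympForm 2 F (X *ᵥ (X *ᵥ v)) (X *ᵥ (X *ᵥ w)) = Cfsg.sympForm 2 F v w := by
      rw [mem_spGL.1 hx, mem_spGL.1 hx]
    rw [hXX, hXX, hB, hB, map_smul, LinearMap.map_smul, LinearMap.smul_apply, hvw] at h1
    simpa using h1
  have hadj : ∀ u u', Cfsg.sympForm 2 F (X *ᵥ u) u' = z * Cfsg.sympForm 2 F u (X *ᵥ u') := fun u u' => by
    have h1 : Cfsg.sympForm 2 F (X *ᵥ (X *ᵥ u)) (X *ᵥ u') = Cfsg.sympForm 2 F (X *ᵥ u) u' := mem_spGL.1 hx _ _
    rw [hXX] at h1
    rw [← h1, hB, map_smul, LinearMap.smul_apply, smul_eq_mul, ← hB]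
  rcases mul_self_eq_one_iff.1 hz2 with rfl | rfl
  · obtain ⟨g₁, hg₁, hR⟩ := exists_adapted_basis X 1 hadj
      (fun v w => ∃ ε : F, (ε = 1 ∨ ε = -1) ∧ X *ᵥ v = ε • v ∧ X *ᵥ w = ε • w)
      (fun W hTW hne hW => by
        obtain ⟨u, hu, hu0⟩ := W.exists_mem_ne_zero_of_ne_bot hne
        obtain ⟨v, hv, hv0, ε, hε, hev⟩ : ∃ v ∈ W, v ≠ 0 ∧ ∃ ε : F, (ε = 1 ∨ ε = -1) ∧ X *ᵥ v = ε • v := by
          by_cases h : u + X *ᵥ u = 0
          · exact ⟨u, hu, hu0, -1, Or.inr rfl, by rw [neg_one_smul]; exact eq_neg_of_add_eq_zero_right h⟩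
          · exact ⟨u + X *ᵥ u, W.add_mem hu (hTW u hu), h, 1, Or.inl rfl, by
              rw [Matrix.mulVec_add, hXX, one_smul, one_smul, add_comm]⟩
        have hεε : ε * ε = 1 := by rcases hε with rfl | rfl <;> simp
        obtain ⟨t, ht, htv⟩ : ∃ t ∈ W, Cfsg.sympForm 2 F v t ≠ 0 := by
          by_contra hno
          push Not at hno
          exact hv0 (hW v hv hno)
        set c : F := (2 * Cfsg.sympForm 2 F v t)⁻¹ with hc
        refine ⟨v, hv, c • (t + ε • X *ᵥ t), W.smul_mem _ (W.add_mem ht (W.smul_mem _ (hTW t ht))), ?_,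
          ⟨ε, hε, hev, ?_⟩, ?_, ?_⟩
        · have h1 := hadj v t
          rw [hev, one_mul] at h1
          simp only [sf_eq_spB, map_smul, map_add, LinearMap.smul_apply, smul_eq_mul] at h1 ⊢
          rw [← h1, hc]
          simp only [← sf_eq_spB]
          rw [← mul_assoc ε ε, hεε, one_mul, ← two_mul, inv_mul_cancel₀ (mul_ne_zero h2 htv)]
        · rw [Matrix.mulVec_smul, Matrix.mulVec_add, Matrix.mulVec_smul, hXX, one_smul, smul_comm ε c, smul_add ε,
            smul_smul ε ε, hεε, one_smul, add_comm]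
        · rw [hev]; exact Submodule.smul_mem _ _ (Submodule.subset_span (by simp))
        · rw [Matrix.mulVec_smul, Matrix.mulVec_add, Matrix.mulVec_smul, hXX, one_smul,
            show X *ᵥ t + ε • t = ε • (t + ε • X *ᵥ t) by rw [smul_add, smul_smul, hεε, one_smul, add_comm],
            smul_comm]
          exact Submodule.smul_mem _ _ (Submodule.subset_span (by simp)))
    choose ε hε hev hew using hR
    have hy : ((g₁⁻¹ * x * g₁ : GL (Fin 2 ⊕ Fin 2) F) : Matrix (Fin 2 ⊕ Fin 2) (Fin 2 ⊕ Fin 2) F) =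
        Matrix.diagonal (Sum.elim ε ε) := by
      rw [Units.val_mul, Units.val_mul, mul_assoc]
      refine Matrix.ext_of_mulVec_single fun s => ?_
      rw [← Matrix.mulVec_mulVec, ← Matrix.mulVec_mulVec]
      rcases s with i | i
      · rw [hew i, Matrix.mulVec_smul, Matrix.mulVec_mulVec, Units.inv_mul, Matrix.one_mulVec]
        funext s; by_cases h : s = Sum.inl i <;> simp [h, Matrix.mulVec_diagonal]
      · rw [hev i, Matrix.mulVec_smul, Matrix.mulVec_mulVec, Units.inv_mul, Matrix.one_mulVec]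
        funext s; by_cases h : s = Sum.inr i <;> simp [h, Matrix.mulVec_diagonal]
    have hne : ε 1 = -ε 0 := by
      rcases hε 0 with h0 | h0 <;> rcases hε 1 with h1 | h1
      all_goals first
        | (simp [h0, h1]; done)
        | (exfalso
           refine hns (ε 0) ?_
           have e : ((g₁⁻¹ * x * g₁ : GL (Fin 2 ⊕ Fin 2) F) : Matrix (Fin 2 ⊕ Fin 2) (Fin 2 ⊕ Fin 2) F) = ε 0 • 1 := by
             rw [hy, Matrix.smul_one_eq_diagonal]
             congr 1
             funext s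
             rcases s with i | i <;> fin_cases i <;> simp [h0, h1]
           have e' : x = g₁ * (g₁⁻¹ * x * g₁) * g₁⁻¹ := by group
           show (x : Matrix (Fin 2 ⊕ Fin 2) (Fin 2 ⊕ Fin 2) F) = _
           rw [e', Units.val_mul, Units.val_mul, e, Matrix.mul_smul, mul_one, Matrix.smul_mul, Units.mul_inv])
    refine ⟨g₁ * g₂⁻¹, Subgroup.mul_mem _ hg₁ (Subgroup.inv_mem _ hg₂), ?_⟩
    rw [show (g₁ * g₂⁻¹)⁻¹ * x * (g₁ * g₂⁻¹) = g₂ * (g₁⁻¹ * x * g₁) * g₂⁻¹ by group]
    refine hmem _ (-1) (Or.inr rfl) fun u => ?_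
    rw [hy]
    funext s
    rcases s with i | i <;> fin_cases i <;> simp [κL, Matrix.mulVec_diagonal, hne] <;> ring
  · let Dd : Fin 2 → F := ![1, a]
    have hDd : ∀ i, Dd i ≠ 0 := fun i => by fin_cases i <;> simp [Dd, ha0]
    let YL : (Fin 2 ⊕ Fin 2 → F) →ₗ[F] (Fin 2 ⊕ Fin 2 → F) :=
      { toFun := fun u => Sum.elim (fun i => Dd i * u (.inr i)) (fun i => -((Dd i)⁻¹ * u (.inl i)))
        map_add' := fun u u' => by funext s; rcases s with i | i <;> simp <;> ring
        map_smul' := fun c u => by funext s; rcases s with i | i <;> simp <;> ring }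
    obtain ⟨gY, hgY, hgYv⟩ := exists_gl_of_linear YL (fun u u' => by
      simp only [YL, LinearMap.coe_mk, AddHom.coe_mk, sympForm_eq, Sum.elim_inl, Sum.elim_inr]
      refine Finset.sum_congr rfl fun i _ => ?_
      have := hDd i
      field_simp
      ring)
    set Y := (gY : Matrix (Fin 2 ⊕ Fin 2) (Fin 2 ⊕ Fin 2) F) with hYdef
    have hYY : Y * Y = (-1 : F) • 1 := Matrix.ext_iff_mulVec.2 fun u => funext fun s => by
      rw [← Matrix.mulVec_mulVec, hgYv, hgYv, Matrix.smul_mulVec, Matrix.one_mulVec]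
      rcases s with i | i <;> simp [YL, hDd i]
    have hYanti : ∀ u u', Cfsg.sympForm 2 F (Y *ᵥ u) u' = - Cfsg.sympForm 2 F u (Y *ᵥ u') := fun u u' => by
      have h1 : Cfsg.sympForm 2 F (Y *ᵥ (Y *ᵥ u)) (Y *ᵥ u') = Cfsg.sympForm 2 F (Y *ᵥ u) u' := mem_spGL.1 hgY _ _
      rw [Matrix.mulVec_mulVec, hYY, Matrix.smul_mulVec, Matrix.one_mulVec, hB, map_smul, LinearMap.smul_apply,
        smul_eq_mul, neg_one_mul, ← hB] at h1
      rw [← h1]
    obtain ⟨g₁, hg₁, h₁⟩ := exists_conj_Sa h2 (neg_ne_zero.2 (one_ne_zero (α := F))) X hz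
      (fun u v => by rw [hadj, neg_one_mul])
    obtain ⟨g₃, hg₃, h₃⟩ := exists_conj_Sa h2 (neg_ne_zero.2 (one_ne_zero (α := F))) Y hYY hYanti
    have hy : (((g₁ * g₃⁻¹)⁻¹ * x * (g₁ * g₃⁻¹) : GL (Fin 2 ⊕ Fin 2) F) : Matrix (Fin 2 ⊕ Fin 2) (Fin 2 ⊕ Fin 2) F) = Y := by
      rw [show (g₁ * g₃⁻¹)⁻¹ * x * (g₁ * g₃⁻¹) = g₃ * (g₁⁻¹ * (x * g₁)) * g₃⁻¹ by group, Units.val_mul, Units.val_mul,
        Units.val_mul, Units.val_mul]
      change _ * (_ * (X * _)) * _ = Y
      rw [h₁, Units.inv_mul_cancel_left, ← h₃, Units.mul_inv_cancel_right]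
    refine ⟨g₁ * g₃⁻¹ * g₂⁻¹,
      Subgroup.mul_mem _ (Subgroup.mul_mem _ hg₁ (Subgroup.inv_mem _ hg₃)) (Subgroup.inv_mem _ hg₂), ?_⟩
    rw [show (g₁ * g₃⁻¹ * g₂⁻¹)⁻¹ * x * (g₁ * g₃⁻¹ * g₂⁻¹) = g₂ * ((g₁ * g₃⁻¹)⁻¹ * x * (g₁ * g₃⁻¹)) * g₂⁻¹ by group]
    refine hmem _ 1 (Or.inl rfl) fun u => ?_
    rw [hy, hgYv, hgYv, one_smul]
    funext s
    rcases s with i | i <;> fin_cases i <;> simp [YL, κL, Dd, ha0]

/-- Elements of prime order of PSp_n(q) and the field-extension subgroups of type Sp_{n/k}(q^k). Here `T = PSp_{2d}(F)` for a field `F` with `q` elements (`d ≥ 2`, `(d, q) ≠ (2, 2)`), realised through the matrices preserving the standard alternating form `f`; `k` is a prime and `K` is a subalgebra of the `2d × 2d` matrices that is a field of degree `k` over `F` whose elements are self-adjoint for `f` and satisfy `f(a v, v) = 0` (so `F^{2d}` becomes a vector space over `K ≅ F_{q^k}` on which `f` is the trace of a `K`-bilinear alternating form); `H`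 is the subgroup of `T` normalizing `K` — the symplectic maps that are `K`-linear or `K`-semilinear, a subgroup of type Sp_{2d/k}(q^k) (maximality is not assumed). Ω is the set of cosets of `H` in `T`, so an element of `T` of prime order `r` (`x ∈ T` with `x^r` scalar, `x` not scalar) fixes a point of Ω exactly when some `T`-conjugate of `x` normalizes `K`. Let `r` be a prime dividing the index of `H`. Then every element of `T` of order `r` fixes a point of Ω if and only if `r = 2`, `d = 2`, `k = 2` and `q` is odd. -/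
theorem result {F : Type*} [Field F] [Fintype F] {p : ℕ} [Fact p.Prime] [CharP F p] {q : ℕ} (hq : Fintype.card F = q)
    (d : ℕ) (hd : 2 ≤ d) (hT : (d, q) ≠ (2, 2)) (k : ℕ) (hk : k.Prime)
    (K : Subalgebra F (Matrix (Fin d ⊕ Fin d) (Fin d ⊕ Fin d) F)) (hK : Cfsg.Geo.IsFieldSubalgebra k K)
    (hKf : Cfsg.Geo.IsSelfAdjointFor (Cfsg.sympForm d F) K) (hKalt : ∀ a ∈ K, ∀ v : Fin d ⊕ Fin d → F, Cfsg.sympForm d F (a *ᵥ v) v = 0)
    (r : ℕ) [Fact r.Prime]
    (hΩ : r ∣ (Cfsg.Geo.subalgebraNormalizer K).relIndex (Cfsg.spGL d F)) :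
    (∀ x ∈ Cfsg.spGL d F, (∃ z : F, ((x ^ r : GL (Fin d ⊕ Fin d) F) : Matrix (Fin d ⊕ Fin d) (Fin d ⊕ Fin d) F) = z • (1 : Matrix (Fin d ⊕ Fin d) (Fin d ⊕ Fin d) F)) →
      (∀ z : F, (x : Matrix (Fin d ⊕ Fin d) (Fin d ⊕ Fin d) F) ≠ z • (1 : Matrix (Fin d ⊕ Fin d) (Fin d ⊕ Fin d) F)) →
      ∃ g ∈ Cfsg.spGL d F, g⁻¹ * x * g ∈ Cfsg.Geo.subalgebraNormalizer K) ↔
    (r = 2 ∧ d = 2 ∧ k = 2 ∧ Odd q) := by
  classical
  subst hq
  have hr : r.Prime := Fact.out
  have hkd : k ≤ d := finrank_le hk.pos (by omega) hK hKf hKalt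
  have h2 : p ≠ 2 → (2 : F) ≠ 0 := fun hp2 h => by
    have : p ∣ 2 := (CharP.cast_eq_zero_iff F p 2).1 (by exact_mod_cast h)
    exact hp2 ((Nat.prime_dvd_prime_iff_eq Fact.out Nat.prime_two).1 this)
  have hpodd : Odd (Fintype.card F) ↔ p ≠ 2 := by
    obtain ⟨n, hn, he⟩ := FiniteField.card F p
    rw [he, Nat.odd_pow_iff (PNat.ne_zero n)]
    exact ⟨fun h h' => by subst h'; exact absurd h (by decide), fun h => (Fact.out : p.Prime).odd_of_ne_two h⟩
  constructor
  · intro hall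
    by_contra hcon
    have hcontra : ∀ x : GL (Fin d ⊕ Fin d) F, x ∈ Cfsg.spGL d F → x ^ r = 1 →
        (∀ z : F, (x : Matrix (Fin d ⊕ Fin d) (Fin d ⊕ Fin d) F) ≠ z • 1) →
        Obstructed k (x : Matrix (Fin d ⊕ Fin d) (Fin d ⊕ Fin d) F) →
        (r.Coprime k ∨ d < Module.finrank F (LinearMap.ker (Matrix.toLin'
          ((x : Matrix (Fin d ⊕ Fin d) (Fin d ⊕ Fin d) F) - 1)))) → False := fun x hx hxr hns hobs hsemi => by
      obtain ⟨g, hg, hy⟩ := hall x hx ⟨1, by rw [hxr, one_smul]; rfl⟩ hns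
      exact not_conj hk hK hKf hKalt x hxr hobs hsemi hg hy
    by_cases hrp : r = p
    · subst hrp
      obtain ⟨x, hx, hxr, hns, hobs, hdim⟩ := exists_transvection (F := F) (d := d) (k := k) r (by omega)
      exact hcontra x hx hxr hns hobs (Or.inr (by omega))
    have hrF : (r : F) ≠ 0 := fun h0 => hrp ((Nat.prime_dvd_prime_iff_eq Fact.out hr).1
      ((CharP.cast_eq_zero_iff F p r).1 h0)).symm
    by_cases hr2 : r = 2
    · subst hr2
      have hp2 : p ≠ 2 := fun h => hrp h.symm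
      obtain ⟨x, hx, hxr, hns, hobs, hdim⟩ := exists_reflection (k := k) (h2 hp2) hd
      by_cases hd2 : d = 2
      · subst hd2
        exact hcon ⟨rfl, rfl, le_antisymm hkd hk.two_le, hpodd.2 hp2⟩
      · exact hcontra x hx hxr hns hobs (Or.inr (by omega))
    obtain ⟨m, C, hdm, hCS, hCN, hCcard⟩ := exists_subgroup hk hK hKf hKalt
    set q := Fintype.card F with hq
    have hq1 : 1 < q := Fintype.one_lt_card
    have hrq : ¬ r ∣ q := fun h => by
      obtain ⟨n, hn, he⟩ := FiniteField.card F p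
      rw [hq, he] at h
      exact hrp ((Nat.prime_dvd_prime_iff_eq hr Fact.out).1 (hr.dvd_of_dvd_pow h))
    have hidx : Nat.card C * C.relIndex (Cfsg.spGL d F) = Nat.card (Cfsg.spGL d F) := by
      rw [← Subgroup.relIndex_bot_left, ← Subgroup.relIndex_bot_left]
      exact Subgroup.relIndex_mul_relIndex _ _ _ bot_le hCS
    have hdvd : r ∣ C.relIndex (Cfsg.spGL d F) := hΩ.trans (Subgroup.relIndex_dvd_of_le_left _ hCN)
    let f : ℕ → ℕ := fun i => q ^ (2 * (i + 1)) - 1
    have hsplit : ∏ i ∈ Finset.range d, f i = (∏ i ∈ Finset.range m, ((q ^ k) ^ (2 * (i + 1)) - 1)) *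
        ∏ i ∈ (Finset.range d).filter (fun i => ¬ k ∣ i + 1), f i := by
      rw [← Finset.prod_filter_mul_prod_filter_not (Finset.range d) (fun i => k ∣ i + 1)]
      congr 1
      refine (Finset.prod_bij (fun i _ => k * (i + 1) - 1) (fun i hi => ?_) (fun i _ i' _ h => ?_) (fun b hb => ?_)
        (fun i hi => ?_)).symm
      · have h0 : 0 < k * (i + 1) := Nat.mul_pos hk.pos i.succ_pos
        have h3 : k * (i + 1) ≤ k * m := Nat.mul_le_mul le_rfl (Finset.mem_range.1 hi)
        refine Finset.mem_filter.2 ⟨Finset.mem_range.2 (by omega), ?_⟩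
        rw [Nat.sub_add_cancel h0]; exact dvd_mul_right _ _
      · have h0 : 0 < k * (i + 1) := Nat.mul_pos hk.pos i.succ_pos
        have h0' : 0 < k * (i' + 1) := Nat.mul_pos hk.pos i'.succ_pos
        have : k * (i + 1) = k * (i' + 1) := by omega
        have := Nat.eq_of_mul_eq_mul_left hk.pos this
        omega
      · obtain ⟨hb, c, hc⟩ := Finset.mem_filter.1 hb
        have hc0 : 0 < c := Nat.pos_of_ne_zero fun h => by rw [h, mul_zero] at hc; omega
        refine ⟨c - 1, Finset.mem_range.2 ?_, ?_⟩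
        · by_contra hno
          have h3 : k * (m + 1) ≤ k * c := Nat.mul_le_mul le_rfl (by omega)
          have := Finset.mem_range.1 hb
          rw [mul_add, mul_one] at h3
          have := hk.pos
          omega
        · rw [Nat.sub_add_cancel hc0, ← hc]; omega
      · show _ = f (k * (i + 1) - 1)
        simp only [f]
        rw [Nat.sub_add_cancel (Nat.mul_pos hk.pos i.succ_pos), ← pow_mul, mul_left_comm]
    rw [hCcard, card_spGL, ← hq, hsplit] at hidx
    have hP1 : 0 < ∏ i ∈ Finset.range m, ((q ^ k) ^ (2 * (i + 1)) - 1) := Finset.prod_pos fun i _ =>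
      Nat.sub_pos_of_lt (Nat.one_lt_pow (by omega) (Nat.one_lt_pow hk.ne_zero hq1))
    have h3 : (q ^ k) ^ (m ^ 2) * C.relIndex (Cfsg.spGL d F) =
        q ^ (d ^ 2) * ∏ i ∈ (Finset.range d).filter (fun i => ¬ k ∣ i + 1), f i :=
      Nat.eq_of_mul_eq_mul_right hP1 (by linear_combination hidx)
    obtain ⟨i, hi, hd'⟩ := (Prime.dvd_finsetProd_iff hr.prime _).1
      ((hr.dvd_mul.1 (h3 ▸ hdvd.mul_left _ : r ∣ q ^ (d ^ 2) * ∏ i ∈ (Finset.range d).filter (fun i => ¬ k ∣ i + 1), f i)).resolve_left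
        fun h => hrq (hr.dvd_of_dvd_pow h))
    obtain ⟨hid, hik⟩ := Finset.mem_filter.1 hi
    have hqj : (q : ZMod r) ^ (2 * (i + 1)) = 1 := by
      have := (ZMod.natCast_eq_zero_iff _ _).2 hd'
      rwa [Nat.cast_sub (Nat.one_le_pow _ _ (by omega)), Nat.cast_pow, Nat.cast_one, sub_eq_zero] at this
    rcases odd_case hk r hr hr2 hrF hkd (Nat.succ_pos i) (Finset.mem_range.1 hid) hqj with
      ⟨x, hx, hxr, hns, hobs, hbig⟩ | ⟨e₀, hke, he₀⟩
    · refine hcontra x hx hxr hns hobs ?_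
      by_cases hrk : r = k
      · exact Or.inr (hbig hrk)
      · exact Or.inl ((Nat.coprime_primes hr hk).2 hrk)
    · exact hik (hke.trans (he₀ _ hqj))
  · rintro ⟨rfl, rfl, rfl, hodd⟩ x hx hxz hns
    exact two_pos_case (h2 (hpodd.1 hodd)) K hK hKf hKalt x hx hxz hns

end Cfsg.Agent.S5975
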