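import Cfsg.Statements.S5979
import Cfsg.Agent.H98.PrimeElem.Elements
import Cfsg.Agent.H98.PrimeElem.Square

set_option autoImplicit false
open scoped MatrixGroups
open Cfsg

namespace Cfsg.Agent.S5979

open Matrix Module Cfsg.Agent.H98.PrimeElem
open scoped Kronecker

/-- An element of multiplicative order 2^(w+1) gives μ with μ^n = -1. -/
theorem exists_pow_eq_neg_one {F : Type*} [Field F] [Fintype F] {q n : ℕ} (hq : Fintype.card F = q) (hn : 0 < n)
    (h : padicValNat 2 n < padicValNat 2 (q - 1)) : ∃ μ : F, μ ^ n = -1 := by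
  set w := padicValNat 2 n with hw
  have hdvd : 2 ^ (w + 1) ∣ Nat.card Fˣ := by
    rw [Nat.card_units, Nat.card_eq_fintype_card, hq]
    exact (pow_dvd_pow 2 h).trans pow_padicValNat_dvd
  obtain ⟨o, ho⟩ : 2 ^ w ∣ n := hw ▸ pow_padicValNat_dvd
  have hodd : Odd o := by
    rcases Nat.even_or_odd o with ⟨s, rfl⟩ | ho'
    · exfalso
      have : 2 ^ (w + 1) ∣ n := ⟨s, by rw [ho]; ring⟩
      have := (padicValNat_dvd_iff_le (p := 2) (by omega)).1 this
      omega
    · exact ho'
  obtain ⟨g, hg⟩ := IsCyclic.exists_ofOrder_eq_natCard (α := Fˣ)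
  obtain ⟨t, ht⟩ := hdvd
  have ht0 : 0 < t := Nat.pos_of_ne_zero fun h0 => by
    have := Nat.card_pos (α := Fˣ)
    simp [ht, h0] at this
  refine ⟨((g ^ t : Fˣ) : F), ?_⟩
  have hord : orderOf (g ^ t) = 2 ^ (w + 1) := by
    rw [orderOf_pow, hg, ht, Nat.gcd_mul_left_left, Nat.mul_div_cancel _ ht0]
  have h1 : (((g ^ t : Fˣ) : F) ^ 2 ^ w) ^ 2 = 1 := by
    rw [← pow_mul, ← pow_succ, ← hord, ← Units.val_pow_eq_pow_val, pow_orderOf_eq_one, Units.val_one]
  have h2 : ((g ^ t : Fˣ) : F) ^ 2 ^ w ≠ 1 := by
    intro h2
    have := orderOf_dvd_of_pow_eq_one (x := g ^ t) (n := 2 ^ w) (Units.ext (by simpa using h2))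
    rw [hord] at this
    exact absurd (Nat.le_of_dvd (by positivity) this) (not_le.2 (Nat.pow_lt_pow_right (by norm_num) (by omega)))
  rw [ho, pow_mul, (sq_eq_one_iff.1 h1).resolve_left h2, hodd.neg_one_pow]


/-- Elements of prime order of PSL_n(q) and the stabilizers of tensor decompositions with factors of different dimensions. Here `T = PSL_n(F)` for a field `F` with `q` elements and `n = a·b` with `2 ≤ a < b`; a tensor decomposition `F^n ≅ F^a ⊗ F^b` is given by a bijection `e` of index sets and a change of basis `P`, and `H` is the subgroup of matrices of determinant 1 in its stabilizer (the conjugate by `P` of the group of Kronecker products `g₁ ⊗ g₂`) — a subgroup of type GL_a(q) ⊗ GL_b(q) (maximality is not assumed); Ω is the set of cosets of `H` in `T`, so an element of `T` of prime order `r` (a matrix `x` of determinant 1 with `x^r` scalar, `x` not scalar) fixes a point of Ω exactly when some conjugate of `x` by a matrix of determinant 1 lies in `H`. Let `r` be a prime dividing the index of `H`. Then every element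 of `T` of order `r` fixes a point of Ω if and only if `r = 2`, `a = 2`, `q` is odd and `(q − 1)_2 ≤ (n)_2` (2-parts). -/
theorem result {F : Type*} [Field F] [Fintype F] {p : ℕ} [Fact p.Prime] [CharP F p] {q : ℕ} (hq : Fintype.card F = q)
    (n a b : ℕ) (hab : n = a * b) (ha : 2 ≤ a) (hlt : a < b) (e : Fin n ≃ Fin a × Fin b) (P : GL (Fin n) F)
    (r : ℕ) [Fact r.Prime]
    (hΩ : r ∣ (Cfsg.Geo.tensorProductSubgroup a b e P).relIndex (Cfsg.Geo.specialLinear (Fin n) F)) :
    (∀ x ∈ Cfsg.Geo.specialLinear (Fin n) F, (∃ z : F, ((x ^ r : GL (Fin n) F) : Matrix (Fin n) (Fin n) F) = z • (1 : Matrix (Fin n) (Fin n) F)) →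
      (∀ z : F, (x : Matrix (Fin n) (Fin n) F) ≠ z • (1 : Matrix (Fin n) (Fin n) F)) →
      ∃ g ∈ Cfsg.Geo.specialLinear (Fin n) F, g⁻¹ * x * g ∈ Cfsg.Geo.tensorProductSubgroup a b e P) ↔
    (r = 2 ∧ a = 2 ∧ Odd q ∧ padicValNat 2 (q - 1) ≤ padicValNat 2 n) := by
  classical
  have hr := (Fact.out : r.Prime)
  have hp := (Fact.out : p.Prime)
  have hn0 : 6 ≤ n := by rw [hab]; nlinarith
  constructor
  · intro H
    -- a witness: small shift below b and one shift of rank prime to a
    have key : ∀ x ∈ Cfsg.Geo.specialLinear (Fin n) F,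
        (∃ z : F, ((x ^ r : GL (Fin n) F) : Matrix (Fin n) (Fin n) F) = z • 1) → ∀ l₀ l : F,
        ((x : Matrix (Fin n) (Fin n) F) - l₀ • 1).rank < b →
        ¬ a ∣ ((x : Matrix (Fin n) (Fin n) F) - l • 1).rank → False := by
      intro x hx hxr l₀ l h₀ hl
      have hns : ∀ z : F, (x : Matrix (Fin n) (Fin n) F) ≠ z • 1 := by
        intro z hz
        refine hl ?_
        rcases eq_or_ne z l with h | h
        · rw [hz, h, sub_self, Matrix.rank_zero]; exact dvd_zero a
        · have hu : IsUnit ((x : Matrix (Fin n) (Fin n) F) - l • 1) := by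
            rw [hz, ← sub_smul]
            exact IsUnit.smul (Units.mk0 (z - l) (sub_ne_zero.2 h)) (isUnit_one : IsUnit (1 : Matrix (Fin n) (Fin n) F))
          rw [Matrix.rank_of_isUnit _ hu, Fintype.card_fin, hab]
          exact Dvd.intro _ rfl
      obtain ⟨g, -, hg⟩ := H x hx hxr hns
      exact hl (dvd_rank_of_conj_mem hg h₀ l)
    let i0 : Fin n := ⟨0, by omega⟩
    let i1 : Fin n := ⟨1, by omega⟩
    have h01 : i0 ≠ i1 := by simp [i0, i1]
    have hrp : r ≠ p := by
      intro hrp
      let x : GL (Fin n) F := Matrix.GeneralLinearGroup.mk'' (Matrix.transvection i0 i1 (1 : F))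
        (by rw [Matrix.det_transvection_of_ne i0 i1 h01]; exact isUnit_one)
      refine key x (MonoidHom.mem_ker.2 (Units.ext ?_)) ⟨1, ?_⟩ 1 1 ?_ ?_
      · show Matrix.det (Matrix.transvection i0 i1 (1 : F)) = 1
        exact Matrix.det_transvection_of_ne i0 i1 h01 1
      · have hk : ∀ k : ℕ, (Matrix.transvection i0 i1 (1 : F)) ^ k = Matrix.transvection i0 i1 (k : F) := by
          intro k
          induction k with
          | zero => simp
          | succ k ih => rw [pow_succ, ih, Matrix.transvection_mul_transvection_same _ _ h01, Nat.cast_succ]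
        rw [Units.val_pow_eq_pow_val, one_smul]
        show (Matrix.transvection i0 i1 (1 : F)) ^ r = 1
        rw [hk, hrp, CharP.cast_eq_zero, Matrix.transvection_zero]
      · show (Matrix.transvection i0 i1 (1 : F) - (1 : F) • 1).rank < b
        rw [one_smul, rank_transvection_sub_one]; omega
      · show ¬ a ∣ (Matrix.transvection i0 i1 (1 : F) - (1 : F) • 1).rank
        rw [one_smul, rank_transvection_sub_one, Nat.dvd_one]; omega
    have hrq : ¬ r ∣ q := by
      obtain ⟨f, -, hf⟩ := FiniteField.card F p
      rw [← hq, hf]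
      exact fun hd => hrp ((Nat.prime_dvd_prime_iff_eq hr hp).1 (hr.dvd_of_dvd_pow hd))
    have hrF : (r : F) ≠ 0 := fun h => hrp ((Nat.prime_dvd_prime_iff_eq hp hr).1 ((CharP.cast_eq_zero_iff F p r).1 h)).symm
    have hord1 : orderOf (q : ZMod r) = 1 ∨ 2 ≤ orderOf (q : ZMod r) := by
      have : 0 < orderOf (q : ZMod r) :=
        (isOfFinOrder_iff_pow_eq_one.2 ⟨r - 1, by have := hr.two_le; omega,
          ZMod.pow_card_sub_one_eq_one fun h => hrq ((ZMod.natCast_eq_zero_iff q r).1 h)⟩).orderOf_pos
      omega
    rcases hord1 with h1 | h2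
    swap
    · exfalso
      have hdvd : r ∣ Nat.card (GL (Fin n) F) :=
        (hΩ.trans (Subgroup.relIndex_dvd_card _ _)).trans (Subgroup.card_subgroup_dvd_card _)
      obtain ⟨x, hx, hxr, hns, hrk⟩ := exists_small hq h2 (orderOf_le_of_dvd_card hq hrq hdvd)
      obtain ⟨g, -, hg⟩ := H x hx ⟨1, by rw [Units.val_pow_eq_pow_val, hxr, one_smul]⟩ hns
      exact not_conj_mem_of_small hq hrq hrF h2 ha hlt hxr (by simpa using hns 1) hrk hg
    have hdq : r ∣ q - 1 := by
      rw [← ZMod.natCast_eq_zero_iff, Nat.cast_sub (by rw [← hq]; exact Fintype.card_pos), orderOf_eq_one_iff.1 h1]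
      simp
    have hrank2 : ∀ (u v : F), u * v = 1 → u ≠ 1 → v ≠ 1 → u ^ r = 1 → v ^ r = 1 →
        ∃ x ∈ Cfsg.Geo.specialLinear (Fin n) F,
          (∃ z : F, ((x ^ r : GL (Fin n) F) : Matrix (Fin n) (Fin n) F) = z • 1) ∧
          ((x : Matrix (Fin n) (Fin n) F) - (1 : F) • 1).rank = 2 ∧
          (u ≠ v → ((x : Matrix (Fin n) (Fin n) F) - u • 1).rank = n - 1) := by
      intro u v huv hu hv hur hvr
      set d : Fin n → F := Function.update (Function.update 1 i1 v) i0 u with hd
      obtain ⟨x, hx, hxd⟩ := exists_diagonal d (by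
        rw [hd, Finset.prod_update_of_mem (Finset.mem_univ i0),
          Finset.prod_update_of_mem (by simp [h01.symm]), Finset.prod_eq_one (fun j _ => Pi.one_apply j), mul_one, huv])
      have hd' : ∀ j, d j = if j = i0 then u else if j = i1 then v else 1 := fun j => by
        rw [hd]; simp [Function.update_apply]
      refine ⟨x, hx, ⟨1, ?_⟩, ?_, fun huv' => ?_⟩
      · rw [Units.val_pow_eq_pow_val, hxd, Matrix.diagonal_pow, one_smul, ← Matrix.diagonal_one]
        congr 1
        funext j
        simp only [Pi.pow_apply, hd']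
        split_ifs <;> simp [hur, hvr]
      · rw [hxd, rank_diagonal_sub, Fintype.card_subtype,
          show (Finset.univ.filter fun j => d j ≠ 1) = {i0, i1} by
            ext j
            simp only [Finset.mem_filter, Finset.mem_univ, true_and, hd', Finset.mem_insert, Finset.mem_singleton]
            split_ifs <;> simp_all,
          Finset.card_pair h01]
      · rw [hxd, rank_diagonal_sub, Fintype.card_subtype,
          show (Finset.univ.filter fun j => d j ≠ u) = Finset.univ.erase i0 by
            ext j
            simp only [Finset.mem_filter, Finset.mem_univ, true_and, hd', Finset.mem_erase, and_true]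
            split_ifs <;> simp_all [eq_comm],
          Finset.card_erase_of_mem (Finset.mem_univ _), Finset.card_univ, Fintype.card_fin]
    have hr2 : r = 2 := by
      by_contra hr2
      obtain ⟨z, hz⟩ := exists_prime_orderOf_dvd_card' (G := Fˣ) r
        (by rwa [Nat.card_units, Nat.card_eq_fintype_card, hq])
      have hzr : z ^ r = 1 := hz ▸ pow_orderOf_eq_one z
      have hz1 : z ≠ 1 := fun h => by rw [h, orderOf_one] at hz; exact hr.ne_one hz.symm
      have hzz : z ≠ z⁻¹ := fun h => by
        have h2 : z ^ 2 = 1 := by rw [sq]; nth_rewrite 2 [h]; exact mul_inv_cancel z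
        have hd2 := orderOf_dvd_of_pow_eq_one h2
        rw [hz] at hd2
        exact hr2 ((Nat.prime_dvd_prime_iff_eq hr Nat.prime_two).1 hd2)
      obtain ⟨x, hx, hxr, hk1, hk2⟩ := hrank2 (z : F) ((z⁻¹ : Fˣ) : F) (Units.mul_inv z)
        (fun h => hz1 (Units.ext h)) (fun h => hz1 (inv_eq_one.1 (Units.ext h)))
        (by rw [← Units.val_pow_eq_pow_val, hzr, Units.val_one])
        (by rw [← Units.val_pow_eq_pow_val, inv_pow, hzr, inv_one, Units.val_one])
      refine key x hx hxr 1 z (by rw [hk1]; omega) ?_
      rw [hk2 (fun h => hzz (Units.ext h))]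
      intro hd
      have : a ∣ n - (n - 1) := Nat.dvd_sub ⟨b, hab⟩ hd
      rw [Nat.sub_sub_self (by omega), Nat.dvd_one] at this
      omega
    subst hr2
    have hq' : Odd q := Nat.not_even_iff_odd.1 fun h => hrq h.two_dvd
    have hm1 : (-1 : F) ≠ 1 := fun h => hrF (by push_cast; linear_combination -h)
    have ha2 : a = 2 := by
      by_contra ha2
      obtain ⟨x, hx, hxr, hk1, -⟩ := hrank2 (-1) (-1) (by ring) hm1 hm1 (by ring) (by ring)
      refine key x hx hxr 1 1 (by rw [hk1]; omega) ?_
      rw [hk1]
      exact fun hd => ha2 (le_antisymm (Nat.le_of_dvd two_pos hd) ha)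
    refine ⟨rfl, ha2, hq', le_of_not_gt fun hlt' => ?_⟩
    obtain ⟨μ, hμ⟩ := exists_pow_eq_neg_one hq (by omega) hlt'
    set d : Fin n → F := Function.update (fun _ => μ) i0 (-μ) with hd
    obtain ⟨x, hx, hxd⟩ := exists_diagonal d (by
      rw [hd, Finset.prod_update_of_mem (Finset.mem_univ i0), Finset.prod_const, Finset.card_sdiff]
      simp only [Finset.inter_univ, Finset.card_singleton, Finset.card_univ, Fintype.card_fin]
      rw [neg_mul, ← pow_succ', Nat.sub_add_cancel (by omega), hμ, neg_neg])
    have hμ0 : μ ≠ 0 := fun h => by simp [h, show n ≠ 0 by omega] at hμ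
    refine key x hx ⟨μ ^ 2, ?_⟩ μ μ ?_ ?_
    · rw [Units.val_pow_eq_pow_val, hxd, Matrix.diagonal_pow, Matrix.smul_one_eq_diagonal]
      congr 1
      funext j
      simp only [Pi.pow_apply, hd, Function.update_apply]
      split_ifs <;> simp
    all_goals
      rw [hxd, rank_diagonal_sub, Fintype.card_subtype,
        show (Finset.univ.filter fun j => d j ≠ μ) = {i0} by
          ext j
          simp only [Finset.mem_filter, Finset.mem_univ, true_and, hd, Function.update_apply, Finset.mem_singleton]
          split_ifs with h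
          · refine iff_of_true (fun he => hm1 ?_) h
            exact mul_right_cancel₀ hμ0 (by rw [neg_one_mul, one_mul]; exact he)
          · exact iff_of_false (fun hne => hne rfl) h,
        Finset.card_singleton]
    · omega
    · rw [Nat.dvd_one]; omega
  · rintro ⟨rfl, rfl, hodd, hval⟩ x hx ⟨c, hc⟩ hns
    have hn2 : n = 2 * b := hab
    have hdet : Matrix.det (x : Matrix (Fin n) (Fin n) F) = 1 := congrArg Units.val (MonoidHom.mem_ker.1 hx)
    have hF2 : (2 : F) ≠ 0 := by
      have hc2 : ringChar F ≠ 2 := by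
        intro h
        have he : Fintype.card F % 2 = 0 := FiniteField.even_card_of_char_two h
        rw [hq, Nat.odd_iff.1 hodd] at he
        omega
      exact Ring.two_ne_zero hc2
    have hsq : (x : Matrix (Fin n) (Fin n) F) * x = c • 1 := by rw [← hc, sq, Units.val_mul]
    set T : Module.End F (Fin n → F) := Matrix.toLin' (x : Matrix (Fin n) (Fin n) F) with hT
    have hTT : ∀ v, T (T v) = c • v := fun v => by
      rw [hT, Matrix.toLin'_apply, Matrix.toLin'_apply, Matrix.mulVec_mulVec, hsq, Matrix.smul_mulVec,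
        Matrix.one_mulVec]
    by_cases hcs : IsSquare c
    · obtain ⟨μ, hμ⟩ := hcs
      have hc0 : c ≠ 0 := fun h => by
        have := congrArg Matrix.det hsq
        rw [h, zero_smul, Matrix.det_mul, hdet, mul_one, @Matrix.det_zero _ _ _ _ _ ⟨⟨0, by omega⟩⟩] at this
        exact one_ne_zero this
      have hμ0 : μ ≠ 0 := fun h => hc0 (by rw [hμ, h, zero_mul])
      have hcompl : IsCompl (LinearMap.ker (T - μ • 1)) (LinearMap.ker (T + μ • 1)) := by
        refine ⟨Submodule.disjoint_def.2 fun v h1 h2 => ?_, codisjoint_iff.2 (eq_top_iff.2 fun v _ => ?_)⟩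
        · simp only [LinearMap.mem_ker, LinearMap.sub_apply, LinearMap.add_apply, LinearMap.smul_apply,
            Module.End.one_apply] at h1 h2
          have : ((2 : F) * μ) • v = 0 := by
            rw [← sub_self (0 : Fin n → F)]
            nth_rewrite 1 [← h2]
            rw [← h1]
            module
          exact (smul_eq_zero.1 this).resolve_left (mul_ne_zero hF2 hμ0)
        · have hv : v = (2 * μ)⁻¹ • (T v + μ • v) + (2 * μ)⁻¹ • -(T v - μ • v) := by
            match_scalars <;> field_simp <;> ring
          rw [hv]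
          refine Submodule.add_mem_sup (Submodule.smul_mem _ _ ?_) (Submodule.smul_mem _ _ (Submodule.neg_mem _ ?_)) <;>
            simp only [LinearMap.mem_ker, LinearMap.sub_apply, LinearMap.add_apply, LinearMap.smul_apply,
              Module.End.one_apply, map_add, map_sub, map_smul, hTT, hμ] <;> module
      set k := finrank F (LinearMap.ker (T - μ • 1)) with hk
      have hkl : k + finrank F (LinearMap.ker (T + μ • 1)) = n := by
        rw [hk, Submodule.finrank_add_eq_of_isCompl hcompl, Module.finrank_fin_fun]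
      let β := ((Module.finBasisOfFinrankEq F (LinearMap.ker (T - μ • 1)) hk.symm).prod
        (Module.finBasisOfFinrankEq F (LinearMap.ker (T + μ • 1)) (n := n - k) (by omega))).map
          (Submodule.prodEquivOfIsCompl _ _ hcompl)
      let D : Fin k ⊕ Fin (n - k) → F := Sum.elim (fun _ => μ) (fun _ => -μ)
      have hβ : ∀ u, T (β u) = D u • β u := by
        have hp' : ∀ v ∈ LinearMap.ker (T - μ • 1), T v = μ • v := fun v hv => by
          simpa [sub_eq_zero] using hv
        have hm' : ∀ v ∈ LinearMap.ker (T + μ • 1), T v = (-μ) • v := fun v hv => by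
          rw [neg_smul]; simpa [add_eq_zero_iff_eq_neg] using hv
        rintro (u | u)
        · simp only [β, D, Module.Basis.map_apply, Sum.elim_inl, Submodule.coe_prodEquivOfIsCompl',
            Module.Basis.prod_apply, Sum.elim_inl, Function.comp_apply, LinearMap.inl_apply, ZeroMemClass.coe_zero,
            add_zero]
          exact hp' _ (SetLike.coe_mem _)
        · simp only [β, D, Module.Basis.map_apply, Sum.elim_inr, Submodule.coe_prodEquivOfIsCompl',
            Module.Basis.prod_apply, Sum.elim_inr, Function.comp_apply, LinearMap.inr_apply, ZeroMemClass.coe_zero,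
            zero_add]
          exact hm' _ (SetLike.coe_mem _)
      have hkeven : Even k := by
        rw [← Nat.not_odd_iff_even]
        intro hko
        have hdetT : Matrix.det (LinearMap.toMatrix β β T) = 1 := by
          rw [LinearMap.det_toMatrix, hT, LinearMap.det_toLin', hdet]
        rw [show LinearMap.toMatrix β β T = Matrix.diagonal D by
          ext u v
          rw [LinearMap.toMatrix_apply, hβ, map_smul, Module.Basis.repr_self, Finsupp.smul_single, smul_eq_mul,
            mul_one, Finsupp.single_apply, Matrix.diagonal_apply]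
          rcases eq_or_ne u v with h | h
          · simp [h]
          · simp [h, h.symm], Matrix.det_diagonal, Fintype.prod_sum_type] at hdetT
        simp only [D, Sum.elim_inl, Sum.elim_inr, Finset.prod_const, Finset.card_univ, Fintype.card_fin] at hdetT
        have hnk : Odd (n - k) := Nat.Even.sub_odd (by omega) ⟨b, by omega⟩ hko
        rw [neg_pow, hnk.neg_one_pow, neg_one_mul, mul_neg, ← pow_add, Nat.add_sub_of_le (by omega)] at hdetT
        set w := padicValNat 2 n with hw
        obtain ⟨o, ho⟩ : 2 ^ w ∣ n := hw ▸ pow_padicValNat_dvd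
        set y : Fˣ := Units.mk0 μ hμ0 ^ o with hy
        have hy1 : y ^ 2 ^ w = -1 := by
          rw [hy, ← pow_mul, mul_comm, ← ho]
          exact Units.ext (by push_cast; exact (neg_eq_iff_eq_neg.1 hdetT))
        have hoy : orderOf y = 2 ^ (w + 1) := by
          refine orderOf_eq_prime_pow ?_ ?_
          · rw [hy1]
            intro h
            have := congrArg Units.val h
            push_cast at this
            exact hF2 (by linear_combination -this)
          · rw [pow_succ, pow_mul, hy1]; exact neg_one_sq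
        have := orderOf_dvd_natCard y
        rw [hoy, Nat.card_units, Nat.card_eq_fintype_card, hq] at this
        have hq2 : 2 ≤ q := hq ▸ Fintype.one_lt_card
        have := (padicValNat_dvd_iff_le (p := 2) (by omega)).1 this
        omega
      obtain ⟨s, hs⟩ := hkeven
      let d : Fin b → F := fun j => if (j : ℕ) < s then μ else -μ
      have hcard : Fintype.card {u : Fin n // ((e u).2 : ℕ) < s} = k := by
        rw [Fintype.card_congr ((e.subtypeEquiv (p := fun u => ((e u).2 : ℕ) < s)
          (q := fun z => (z.2 : ℕ) < s) fun u => Iff.rfl).trans (⟨fun z => (z.1.1, ⟨z.1.2, z.2⟩), fun z => ⟨(z.1, z.2.1), z.2.2⟩, fun _ => rfl, fun _ => rfl⟩ : {z : Fin 2 × Fin b // (z.2 : ℕ) < s} ≃ Fin 2 × {j : Fin b // (j : ℕ) < s}))]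
        rw [Fintype.card_prod, Fintype.card_fin, Fintype.card_subtype, Fin.card_filter_val_lt, min_eq_right (by omega)]
        omega
      let ψ : Fin k ⊕ Fin (n - k) ≃ Fin n :=
        (Equiv.sumCongr (Fintype.equivFinOfCardEq hcard).symm
          (Fintype.equivFinOfCardEq (show Fintype.card {u : Fin n // ¬ ((e u).2 : ℕ) < s} = n - k by
            rw [Fintype.card_subtype_compl, hcard, Fintype.card_fin])).symm).trans (Equiv.sumCompl _)
      have hψ : ∀ u, d (e (ψ u)).2 = D u := by
        rintro (u | u)
        · simp only [ψ, D, d, Equiv.trans_apply, Equiv.sumCongr_apply, Sum.map_inl, Equiv.sumCompl_apply_inl, Sum.elim_inl]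
          rw [if_pos (Subtype.prop ((Fintype.equivFinOfCardEq hcard).symm u))]
        · simp only [ψ, D, d, Equiv.trans_apply, Equiv.sumCongr_apply, Sum.map_inr, Equiv.sumCompl_apply_inr, Sum.elim_inr]
          exact if_neg (Subtype.prop (p := fun w : Fin n => ¬ ((e w).2 : ℕ) < s) _)
      let β' := β.reindex ψ
      have hd0 : ∀ j, d j ≠ 0 := fun j => by
        by_cases h : (j : ℕ) < s <;> simp [d, h, hμ0]
      let B : GL (Fin b) F := Matrix.GeneralLinearGroup.mk'' (Matrix.diagonal d)
        (by rw [Matrix.det_diagonal]; exact (Finset.prod_ne_zero_iff.2 fun j _ => hd0 j).isUnit)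
      let S : GL (Fin n) F := Matrix.GeneralLinearGroup.mk'' ((Pi.basisFun F (Fin n)).toMatrix β')
        (by letI := (Pi.basisFun F (Fin n)).invertibleToMatrix β'; exact Matrix.isUnit_det_of_invertible _)
      have hK : (1 : GL (Fin 2) F).val ⊗ₖ B.val = Matrix.diagonal fun z : Fin 2 × Fin b => d z.2 := by
        show (1 : Matrix (Fin 2) (Fin 2) F) ⊗ₖ Matrix.diagonal d = _
        rw [← Matrix.diagonal_one, Matrix.diagonal_kronecker_diagonal]
        simp
      refine exists_conj_mem e P x S 1 B ?_ fun δ => ⟨Matrix.diagonal (Function.update 1 (⟨0, by omega⟩, ⟨0, by omega⟩) (δ : F)), ?_, ?_⟩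
      · rw [hK]
        show (x : Matrix (Fin n) (Fin n) F) * (Pi.basisFun F (Fin n)).toMatrix β' = (Pi.basisFun F (Fin n)).toMatrix β' * Matrix.reindexAlgEquiv F F e.symm _
        rw [Matrix.coe_reindexAlgEquiv, Matrix.reindex_apply, Matrix.submatrix_diagonal_equiv]
        ext u v
        rw [Matrix.mul_diagonal, Matrix.mul_apply]
        have h1 := congrFun (hβ (ψ.symm v)) u
        rw [hT, Matrix.toLin'_apply, ← hψ, Equiv.apply_symm_apply, Pi.smul_apply, smul_eq_mul] at h1
        simpa [S, Matrix.GeneralLinearGroup.mk'', β', Module.Basis.toMatrix_apply, Matrix.mulVec, dotProduct, mul_comm] using h1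
      · rw [hK, Matrix.diagonal_mul_diagonal, Matrix.diagonal_mul_diagonal]
        congr 1; funext z; exact mul_comm _ _
      · rw [Matrix.det_diagonal, Finset.prod_update_of_mem (Finset.mem_univ _)]
        simp
    · obtain ⟨w, hw⟩ := exists_basis_nonsquare hn2 hTT hcs
      let β := (basisOfLinearIndependentOfCardEqFinrank' _ hw (by
        rw [Fintype.card_prod, Fintype.card_fin, Fintype.card_fin, Module.finrank_fin_fun]; omega)).reindex e.symm
      let S : GL (Fin n) F := Matrix.GeneralLinearGroup.mk'' ((Pi.basisFun F (Fin n)).toMatrix β)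
        (by letI := (Pi.basisFun F (Fin n)).invertibleToMatrix β; exact Matrix.isUnit_det_of_invertible _)
      have hc0 : c ≠ 0 := fun h => hcs ⟨0, by simp [h]⟩
      let A : GL (Fin 2) F := Matrix.GeneralLinearGroup.mk'' !![0, c; 1, 0]
        (by rw [Matrix.det_fin_two_of]; simpa using hc0)
      haveI : NeZero b := ⟨by omega⟩
      refine exists_conj_mem e P x S A 1 ?_ fun δ => ?_
      · show (x : Matrix (Fin n) (Fin n) F) * (Pi.basisFun F (Fin n)).toMatrix β = (Pi.basisFun F (Fin n)).toMatrix β *
          Matrix.reindexAlgEquiv F F e.symm ((!![0, c; 1, 0] : Matrix (Fin 2) (Fin 2) F) ⊗ₖ (1 : Matrix (Fin b) (Fin b) F))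
        ext u v
        obtain ⟨⟨v1, v2⟩, rfl⟩ := e.symm.surjective v
        simp only [Matrix.mul_apply, Matrix.coe_reindexAlgEquiv, Matrix.reindex_apply, Matrix.submatrix_apply,
          Equiv.symm_symm, Equiv.apply_symm_apply]
        rw [← Equiv.sum_comp e.symm (fun t => (Pi.basisFun F (Fin n)).toMatrix β u t *
          ((!![0, c; 1, 0] : Matrix (Fin 2) (Fin 2) F) ⊗ₖ (1 : Matrix (Fin b) (Fin b) F)) (e t) (v1, v2))]
        have h1 : ∀ t, (T (w t)) u = ∑ j, (x : Matrix (Fin n) (Fin n) F) u j * w t j := fun t => rfl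
        have h2 : ∀ z : Fin 2 × Fin b, β (e.symm z) = ![w z.2, T (w z.2)] z.1 := fun z => by
          simp [β]
        simp only [Module.Basis.toMatrix_apply, Pi.basisFun_repr, h2, Equiv.apply_symm_apply,
          Matrix.kroneckerMap_apply, Fintype.sum_prod_type, Matrix.one_apply, mul_ite, mul_one, mul_zero,
          Finset.sum_ite_eq', Finset.mem_univ, if_true, Fin.sum_univ_two]
        fin_cases v1
        · simpa using (h1 v2).symm
        · have h3 : ∑ j, (x : Matrix (Fin n) (Fin n) F) u j * T (w v2) j = c * w v2 u := by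
            rw [show (∑ j, (x : Matrix (Fin n) (Fin n) F) u j * T (w v2) j) = T (T (w v2)) u from rfl, hTT]
            rfl
          simpa [mul_comm] using h3
      · obtain ⟨al, be, hab'⟩ := FiniteField.exists_root_sum_quadratic
          (f := Polynomial.X ^ 2 - Polynomial.C (δ : F)) (g := Polynomial.C (-c) * Polynomial.X ^ 2)
          (Polynomial.degree_X_pow_sub_C two_pos _) (Polynomial.degree_C_mul_X_pow 2 (neg_ne_zero.2 hc0))
          (by rw [hq]; exact Nat.odd_iff.1 hodd)
        simp only [Polynomial.eval_sub, Polynomial.eval_pow, Polynomial.eval_X, Polynomial.eval_C,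
          Polynomial.eval_mul] at hab'
        set Aδ : Matrix (Fin 2) (Fin 2) F := !![al, c * be; be, al] with hAδ
        refine ⟨Matrix.blockDiagonal (fun j : Fin b => if j = 0 then Aδ else 1), ?_, ?_⟩
        · show _ * ((!![0, c; 1, 0] : Matrix (Fin 2) (Fin 2) F) ⊗ₖ (1 : Matrix (Fin b) (Fin b) F)) = ((!![0, c; 1, 0] : Matrix (Fin 2) (Fin 2) F) ⊗ₖ (1 : Matrix (Fin b) (Fin b) F)) * _
          rw [Matrix.kronecker_one, ← Matrix.blockDiagonal_mul, ← Matrix.blockDiagonal_mul]
          congr 1; funext j
          split_ifs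
          · rw [hAδ]
            ext u v
            fin_cases u <;> fin_cases v <;> simp [Matrix.mul_apply, Fin.sum_univ_two] <;> ring
          · rw [Matrix.one_mul, Matrix.mul_one]
        · rw [Matrix.det_blockDiagonal, Fintype.prod_eq_single (0 : Fin b) (fun j hj => by simp [hj]), if_pos rfl,
            hAδ, Matrix.det_fin_two_of]
          linear_combination hab'


end Cfsg.Agent.S5979
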