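import Cfsg.Statements.S5980
import Cfsg.Agent.H98.PrimeElem.SpTensorConj
import Cfsg.Agent.S5976

set_option autoImplicit false
open scoped MatrixGroups
open Cfsg

namespace Cfsg.Agent.S5980

open Matrix Module Cfsg.Agent.H98.PrimeElem Cfsg.Agent.Symplectic
open scoped Kronecker

variable {F : Type*} [Field F] {d : ℕ}

/-- An involution in Sp has a symplectic basis of eigenvectors. -/
theorem exists_sign_basis (h2 : (2 : F) ≠ 0) (X : Matrix (Fin d ⊕ Fin d) (Fin d ⊕ Fin d) F)
    (hXX : ∀ u, X *ᵥ (X *ᵥ u) = u)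
    (hadj : ∀ u v, Cfsg.sympForm d F (X *ᵥ u) v = Cfsg.sympForm d F u (X *ᵥ v)) :
    ∃ g ∈ Cfsg.spGL d F, ∀ i, ∃ ε : F, (ε = 1 ∨ ε = -1) ∧
      X *ᵥ ((g : Matrix (Fin d ⊕ Fin d) (Fin d ⊕ Fin d) F) *ᵥ Pi.single (.inr i) 1) =
        ε • ((g : Matrix (Fin d ⊕ Fin d) (Fin d ⊕ Fin d) F) *ᵥ Pi.single (.inr i) 1) ∧
      X *ᵥ ((g : Matrix (Fin d ⊕ Fin d) (Fin d ⊕ Fin d) F) *ᵥ Pi.single (.inl i) 1) =
        ε • ((g : Matrix (Fin d ⊕ Fin d) (Fin d ⊕ Fin d) F) *ᵥ Pi.single (.inl i) 1) := by
  classical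
  exact S5976.exists_adapted_basis X 1 (fun u v => by rw [hadj, one_mul])
    (fun v w => ∃ ε : F, (ε = 1 ∨ ε = -1) ∧ X *ᵥ v = ε • v ∧ X *ᵥ w = ε • w)
    (fun W hTW hne hW => by
      obtain ⟨u, hu, hu0⟩ := W.exists_mem_ne_zero_of_ne_bot hne
      obtain ⟨v, hv, hv0, ε, hε, hev⟩ : ∃ v ∈ W, v ≠ 0 ∧ ∃ ε : F, (ε = 1 ∨ ε = -1) ∧ X *ᵥ v = ε • v := by
        by_cases h : u + X *ᵥ u = 0
        · exact ⟨u, hu, hu0, -1, Or.inr rfl, by rw [neg_one_smul]; exact eq_neg_of_add_eq_zero_right h⟩
        · exact ⟨u + X *ᵥ u, W.add_mem hu (hTW u hu), h, 1, Or.inl rfl, by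
            rw [Matrix.mulVec_add, hXX, one_smul, add_comm]⟩
      have hεε : ε * ε = 1 := by rcases hε with rfl | rfl <;> simp
      obtain ⟨t, ht, htv⟩ : ∃ t ∈ W, Cfsg.sympForm d F v t ≠ 0 := by
        by_contra hno
        push Not at hno
        exact hv0 (hW v hv hno)
      set c : F := (2 * Cfsg.sympForm d F v t)⁻¹ with hc
      refine ⟨v, hv, c • (t + ε • X *ᵥ t), W.smul_mem _ (W.add_mem ht (W.smul_mem _ (hTW t ht))), ?_,
        ⟨ε, hε, hev, ?_⟩, ?_, ?_⟩
      · have h1 := hadj v t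
        rw [hev] at h1
        simp only [S5976.sf_eq_spB, map_smul, map_add, LinearMap.smul_apply, smul_eq_mul] at h1 ⊢
        rw [← h1, hc]
        simp only [← S5976.sf_eq_spB]
        rw [← mul_assoc ε ε, hεε, one_mul, ← two_mul, inv_mul_cancel₀ (mul_ne_zero h2 htv)]
      · rw [Matrix.mulVec_smul, Matrix.mulVec_add, Matrix.mulVec_smul, hXX, smul_comm ε c, smul_add ε,
          smul_smul ε ε, hεε, one_smul, add_comm]
      · rw [hev]; exact Submodule.smul_mem _ _ (Submodule.subset_span (by simp))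
      · rw [Matrix.mulVec_smul, Matrix.mulVec_add, Matrix.mulVec_smul, hXX,
          show X *ᵥ t + ε • t = ε • (t + ε • X *ᵥ t) by rw [smul_add, smul_smul, hεε, one_smul, add_comm],
          smul_comm]
        exact Submodule.smul_mem _ _ (Submodule.subset_span (by simp)))

/-- A transvection in Sp. -/
theorem exists_transvection [Fintype F] (hd : 0 < d) (p : ℕ) [CharP F p] :
    ∃ x : GL (Fin d ⊕ Fin d) F, x ∈ Cfsg.spGL d F ∧ (x : Matrix (Fin d ⊕ Fin d) (Fin d ⊕ Fin d) F) ^ p = 1 ∧
      ((x : Matrix (Fin d ⊕ Fin d) (Fin d ⊕ Fin d) F) - 1).rank = 1 := by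
  let s : Fin d ⊕ Fin d := Sum.inl ⟨0, hd⟩
  let t : Fin d ⊕ Fin d := Sum.inr ⟨0, hd⟩
  have hst : s ≠ t := by simp [s, t]
  obtain ⟨x, hx, hxv⟩ := S5976.exists_gl_of_linear (Matrix.toLin' (Matrix.transvection s t (1 : F))) fun u v => by
    simp only [Matrix.toLin'_apply, Matrix.transvection, Matrix.add_mulVec, Matrix.one_mulVec, Symplectic.sympForm_eq,
      Pi.add_apply, Matrix.single_mulVec_eq, s, t, Pi.smul_apply, smul_eq_mul, one_mul, Pi.single_apply,
      Sum.inl.injEq, reduceCtorEq, if_false, add_zero, mul_ite, mul_one, mul_zero]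
    refine Finset.sum_congr rfl fun i _ => ?_
    by_cases hi : i = ⟨0, hd⟩
    · subst hi; simp only [if_true]; ring
    · simp only [if_neg hi, add_zero]
  have hX : (x : Matrix (Fin d ⊕ Fin d) (Fin d ⊕ Fin d) F) = Matrix.transvection s t 1 :=
    Matrix.ext_iff_mulVec.2 fun v => by rw [hxv, Matrix.toLin'_apply]
  refine ⟨x, hx, ?_, ?_⟩
  · have hk : ∀ k : ℕ, (Matrix.transvection s t (1 : F)) ^ k = Matrix.transvection s t (k : F) := by
      intro k
      induction k with
      | zero => simp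
      | succ k ih => rw [pow_succ, ih, Matrix.transvection_mul_transvection_same _ _ hst, Nat.cast_succ]
    rw [hX, hk, CharP.cast_eq_zero, Matrix.transvection_zero]
  · rw [hX, Matrix.transvection, add_sub_cancel_left]
    apply le_antisymm
    · rw [show Matrix.single s t (1 : F) = Matrix.vecMulVec (Pi.single s 1) (Pi.single t 1) by
        ext u v; simp [Matrix.vecMulVec, Matrix.single_apply, Pi.single_apply, eq_comm, ← ite_and, and_comm]]
      simpa using Matrix.rank_vecMulVec_le (Pi.single s (1 : F)) (Pi.single t (1 : F))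
    · rw [Nat.one_le_iff_ne_zero, Matrix.rank]
      intro h0
      have hbot := Submodule.finrank_eq_zero.1 h0
      have hmem : (Matrix.single s t (1 : F)).mulVecLin (Pi.single t 1) ∈
          (⊥ : Submodule F (Fin d ⊕ Fin d → F)) := by rw [← hbot]; exact ⟨_, rfl⟩
      simpa [Matrix.mulVecLin_apply] using congrFun ((Submodule.mem_bot F).1 hmem) s

/-- A diagonal element diag(z, z⁻¹) on one hyperbolic pair. -/
theorem exists_pair_diagonal [Fintype F] (hd : 0 < d) {z : F} (hz : z ≠ 0) :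
    ∃ x : GL (Fin d ⊕ Fin d) F, x ∈ Cfsg.spGL d F ∧
      (x : Matrix (Fin d ⊕ Fin d) (Fin d ⊕ Fin d) F) =
        Matrix.diagonal (Function.update (Function.update 1 (Sum.inr ⟨0, hd⟩) z⁻¹) (Sum.inl ⟨0, hd⟩) z) := by
  set D := Function.update (Function.update (1 : Fin d ⊕ Fin d → F) (Sum.inr ⟨0, hd⟩) z⁻¹) (Sum.inl ⟨0, hd⟩) z with hD
  obtain ⟨x, hx, hxv⟩ := S5976.exists_gl_of_linear (Matrix.toLin' (Matrix.diagonal D)) fun u v => by
    simp only [Matrix.toLin'_apply, Symplectic.sympForm_eq, Matrix.mulVec_diagonal, hD, Function.update_apply,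
      Sum.inl.injEq, Sum.inr.injEq, reduceCtorEq, if_false, Pi.one_apply]
    refine Finset.sum_congr rfl fun i _ => ?_
    split_ifs
    · field_simp
    · ring
  exact ⟨x, hx, Matrix.ext_iff_mulVec.2 fun v => by rw [hxv, Matrix.toLin'_apply]⟩

/-- Every element squaring to a scalar is conjugate into the tensor subgroup of type Sp_2 ⊗ O_b. -/
theorem exists_conj_two [Fintype F] (h2 : (2 : F) ≠ 0) {b : ℕ} (hd : 0 < d) (hab : 2 * d = 2 * b)
    (e : (Fin d ⊕ Fin d) ≃ Fin 2 × Fin b) (P : GL (Fin d ⊕ Fin d) F)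
    (f₁ : (Fin 2 → F) → (Fin 2 → F) → F) (f₂ : (Fin b → F) → (Fin b → F) → F)
    (hf₁ : Cfsg.Geo.IsSymplecticForm f₁) (hf₂ : Cfsg.Geo.IsSymmetricForm f₂)
    (hS : Cfsg.Geo.IsTensorFormStructure id (Cfsg.sympForm d F) f₁ f₂ e P)
    {x : GL (Fin d ⊕ Fin d) F} (hx : x ∈ Cfsg.spGL d F) {z : F}
    (hz : (x : Matrix (Fin d ⊕ Fin d) (Fin d ⊕ Fin d) F) * x = z • 1) :
    ∃ g ∈ Cfsg.spGL d F, g⁻¹ * x * g ∈ Cfsg.Geo.tensorProductSubgroup 2 b e P := by
  classical
  have hdb : d = b := by omega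
  subst hdb
  set X := (x : Matrix (Fin d ⊕ Fin d) (Fin d ⊕ Fin d) F) with hXdef
  have hXX : ∀ u, X *ᵥ (X *ᵥ u) = z • u := fun u => by
    rw [Matrix.mulVec_mulVec, hz, Matrix.smul_mulVec, Matrix.one_mulVec]
  have hpres : ∀ u v, Cfsg.sympForm d F (X *ᵥ u) (X *ᵥ v) = Cfsg.sympForm d F u v := hx
  have hz2 : z * z = 1 := by
    let i : Fin d := ⟨0, hd⟩
    have h4 : Cfsg.sympForm d F (Pi.single (.inr i) 1) (Pi.single (.inl i) 1) = (1 : F) := by
      rw [S5976.sf_eq_spB, spB_single]; simp [Matrix.J]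
    have h1 := hpres (X *ᵥ Pi.single (.inr i) 1) (X *ᵥ Pi.single (.inl i) 1)
    rw [hpres (Pi.single (.inr i) 1), hXX, hXX, h4] at h1
    simp only [S5976.sf_eq_spB, map_smul, LinearMap.smul_apply, smul_eq_mul] at h1
    rw [← S5976.sf_eq_spB, h4, mul_one] at h1
    exact h1
  have hadj : ∀ u v, Cfsg.sympForm d F (X *ᵥ u) v = z * Cfsg.sympForm d F u (X *ᵥ v) := fun u v => by
    have h1 := hpres (X *ᵥ u) v
    rw [hXX] at h1
    rw [← h1, S5976.sf_eq_spB, map_smul, LinearMap.smul_apply, smul_eq_mul, ← S5976.sf_eq_spB]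
  set G1 := Cfsg.Geo.gramMatrix f₁ with hG1
  set G2 := Cfsg.Geo.gramMatrix f₂ with hG2
  have h00 : G1 0 0 = 0 := hf₁.alternating _
  have h11 : G1 1 1 = 0 := hf₁.alternating _
  have h10 : G1 1 0 = - G1 0 1 := hf₁.skew _ _
  have hmk : ∀ (A : GL (Fin 2) F) (B : GL (Fin d) F) (y : GL (Fin d ⊕ Fin d) F),
      (y : Matrix (Fin d ⊕ Fin d) (Fin d ⊕ Fin d) F) =
        P.val * Matrix.reindexAlgEquiv F F e.symm (A.val ⊗ₖ B.val) * (P⁻¹).val →
      y ∈ Cfsg.Geo.tensorProductSubgroup 2 d e P := fun A B y hy =>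
    ⟨Cfsg.Geo.glReindex e.symm (kronUnit A B), ⟨kronUnit A B, ⟨A, B, rfl⟩, rfl⟩, Units.ext hy.symm⟩
  rcases mul_self_eq_one_iff.1 hz2 with rfl | rfl
  · obtain ⟨g, hg, hε'⟩ := exists_sign_basis h2 X (fun u => by rw [hXX, one_smul])
      (fun u v => by rw [hadj, one_mul])
    choose ε hε hev hew using hε'
    -- an orthogonal basis of the symmetric factor
    let B2 : LinearMap.BilinForm F (Fin d → F) :=
      LinearMap.mk₂ F f₂ hf₂.bilinear.add_left hf₂.bilinear.smul_left hf₂.bilinear.add_right hf₂.bilinear.smul_right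
    letI : Invertible (2 : F) := invertibleOfNonzero h2
    obtain ⟨y0, hy0⟩ := LinearMap.BilinForm.exists_orthogonal_basis (B := B2) ⟨fun u v => hf₂.symm u v⟩
    let y := y0.reindex (finCongr (Module.finrank_fin_fun F))
    have hy : ∀ i j, i ≠ j → f₂ (y i) (y j) = 0 := fun i j hij => by
      simp only [y, Basis.reindex_apply]
      exact hy0 ((finCongr _).symm.injective.ne hij)
    have hyd : ∀ i, f₂ (y i) (y i) ≠ 0 := by
      intro i h0
      obtain ⟨-, w, hw⟩ := hf₂.nondegenerate (y i) (y.ne_zero i)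
      refine hw ?_
      rw [← y.sum_repr w]
      show B2 (y i) _ = 0
      rw [map_sum]
      refine Finset.sum_eq_zero fun j _ => ?_
      rw [map_smul]
      rcases eq_or_ne i j with rfl | hij
      · simp [B2, h0]
      · simp [B2, hy i j hij]
    have hG2f : ∀ u v, f₂ u v = u ⬝ᵥ (G2 *ᵥ v) := fun u v => by
      show B2 u v = _
      conv_lhs => rw [← (Pi.basisFun F (Fin d)).sum_repr u, ← (Pi.basisFun F (Fin d)).sum_repr v]
      simp [B2, hG2, Cfsg.Geo.gramMatrix, dotProduct, Matrix.mulVec, Finset.mul_sum, LinearMap.sum_apply,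
        hf₂.bilinear.smul_left, hf₂.bilinear.smul_right, mul_comm, mul_left_comm]
      rw [Finset.sum_comm]
    obtain ⟨c, hc, hf⟩ := id hS
    have hγ : G1 0 1 ≠ 0 := by
      intro h0
      have hpi : ∀ u : Fin 2 → F, u = u 0 • Pi.single 0 1 + u 1 • Pi.single 1 1 := fun u => by
        funext s; fin_cases s <;> simp
      have : (Pi.single (0 : Fin 2) (1 : F) : Fin 2 → F) ≠ 0 := by
        intro h; simpa using congrFun h 0
      obtain ⟨-, w, hw⟩ := hf₁.nondegenerate _ this
      refine hw ?_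
      rw [hpi w, hf₁.bilinear.add_right, hf₁.bilinear.smul_right, hf₁.bilinear.smul_right]
      show w 0 * G1 0 0 + w 1 * G1 0 1 = 0
      rw [h00, h0, mul_zero, mul_zero, add_zero]
    -- images of the standard basis in tensor coordinates
    let vec : Fin 2 → Fin d → Fin d ⊕ Fin d → F := fun s j => P.val *ᵥ ((fun w : Fin 2 × Fin d =>
      (Pi.single s 1 : Fin 2 → F) w.1 * y j w.2) ∘ e)
    have hvec : ∀ s t i j, Cfsg.sympForm d F (vec s i) (vec t j) = c * (G1 s t * f₂ (y i) (y j)) := by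
      intro s t i j
      rw [hf, formOfGram_eq_dot, hG2f]
      congr 1
      simp only [dotProduct, Matrix.mulVec, Matrix.kroneckerMap_apply, Fintype.sum_prod_type, Pi.single_apply,
        ite_mul, mul_ite, one_mul, zero_mul, mul_zero, Finset.sum_ite_irrel, Finset.sum_const_zero,
        Finset.sum_ite_eq', Finset.mem_univ, if_true, Finset.mul_sum]
      exact Finset.sum_congr rfl fun _ _ => Finset.sum_congr rfl fun _ _ => by ring
    let δ : Fin d → F := fun j => c * (G1 0 1 * f₂ (y j) (y j))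
    have hδ : ∀ j, δ j ≠ 0 := fun j => mul_ne_zero hc (mul_ne_zero hγ (hyd j))
    let img : Fin d ⊕ Fin d → Fin d ⊕ Fin d → F := Sum.elim (fun j => vec 1 j) (fun j => (δ j)⁻¹ • vec 0 j)
    let L := (Pi.basisFun F (Fin d ⊕ Fin d)).constr F img
    have hL : ∀ u v, Cfsg.sympForm d F (L u) (L v) = Cfsg.sympForm d F u v := by
      have : (spB d F).compl₁₂ L L = spB d F := by
        refine LinearMap.ext_basis (Pi.basisFun F _) (Pi.basisFun F _) fun s t => ?_
        rw [LinearMap.compl₁₂_apply, Basis.constr_basis, Basis.constr_basis, Pi.basisFun_apply, Pi.basisFun_apply,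
          spB_single]
        rcases s with i | i <;> rcases t with j | j <;>
          simp only [img, Sum.elim_inl, Sum.elim_inr, map_smul, LinearMap.smul_apply, spB_apply, hvec, h00, h11, h10,
            smul_eq_mul, Matrix.J, Matrix.fromBlocks_apply₁₁, Matrix.fromBlocks_apply₁₂, Matrix.fromBlocks_apply₂₁,
            Matrix.fromBlocks_apply₂₂, Matrix.zero_apply, Matrix.neg_apply, Matrix.one_apply, zero_mul, mul_zero]
        · rcases eq_or_ne i j with rfl | hij
          · rw [if_pos rfl]; have := hδ i; simp only [δ] at this ⊢; have hyi := hyd i; field_simp <;> simp [hyi]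
          · rw [if_neg hij, hy i j hij]; ring
        · rcases eq_or_ne i j with rfl | hij
          · rw [if_pos rfl]; have := hδ i; simp only [δ] at this ⊢; have hyi := hyd i; field_simp <;> simp [hyi]
          · rw [if_neg hij, hy i j hij]; ring
      intro u v
      have := LinearMap.congr_fun (LinearMap.congr_fun this u) v
      rwa [LinearMap.compl₁₂_apply, ← S5976.sf_eq_spB, ← S5976.sf_eq_spB] at this
    obtain ⟨h, hh, hhv⟩ := S5976.exists_gl_of_linear L hL
    -- the model
    let S : GL (Fin d) F := Matrix.GeneralLinearGroup.mk'' ((Pi.basisFun F (Fin d)).toMatrix y)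
      (by letI := (Pi.basisFun F (Fin d)).invertibleToMatrix y; exact Matrix.isUnit_det_of_invertible _)
    let Dε : GL (Fin d) F := Matrix.GeneralLinearGroup.mk'' (Matrix.diagonal ε)
      (by
        rw [Matrix.det_diagonal]
        exact (Finset.prod_ne_zero_iff.2 fun j _ => by rcases hε j with h | h <;> simp [h]).isUnit)
    let Bε : GL (Fin d) F := S * Dε * S⁻¹
    have hB : ∀ j, Bε.val *ᵥ y j = ε j • y j := by
      intro j
      have hcol : S.val *ᵥ Pi.single j 1 = y j := by
        rw [Matrix.mulVec_single_one]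
        funext r
        show (Pi.basisFun F (Fin d)).toMatrix y r j = y j r
        simp [Module.Basis.toMatrix_apply]
      have hinv : (S⁻¹).val *ᵥ y j = Pi.single j 1 := by
        rw [← hcol, Matrix.mulVec_mulVec, Units.inv_mul, Matrix.one_mulVec]
      rw [Units.val_mul, Units.val_mul, ← Matrix.mulVec_mulVec, ← Matrix.mulVec_mulVec, hinv,
        show (Dε.val *ᵥ Pi.single j 1 : Fin d → F) = ε j • Pi.single j 1 by
          funext r
          show (Matrix.diagonal ε *ᵥ Pi.single j 1) r = _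
          rcases eq_or_ne r j with rfl | hrj
          · simp [Matrix.mulVec_diagonal]
          · simp [Matrix.mulVec_diagonal, hrj],
        Matrix.mulVec_smul, hcol]
    set M := P.val * Matrix.reindexAlgEquiv F F e.symm ((1 : GL (Fin 2) F).val ⊗ₖ Bε.val) * (P⁻¹).val with hM
    have hMvec : ∀ s j, M *ᵥ vec s j = ε j • vec s j := by
      intro s j
      rw [hM, conjP_mulVec, ← Matrix.mulVec_smul]
      congr 1
      funext t
      simp only [Function.comp_apply, Pi.smul_apply, smul_eq_mul]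
      have := congrFun (hB j) (e t).2
      simp only [Pi.smul_apply, smul_eq_mul] at this
      rw [mul_left_comm, ← this]
      simp [Matrix.mulVec, dotProduct, Matrix.kroneckerMap_apply, Fintype.sum_prod_type, Pi.single_apply,
        Matrix.one_apply, Finset.mul_sum, ite_mul]
    refine ⟨g * h⁻¹, Subgroup.mul_mem _ hg (Subgroup.inv_mem _ hh), hmk 1 Bε _ ?_⟩
    have hbasis : ∀ s, (h : Matrix (Fin d ⊕ Fin d) (Fin d ⊕ Fin d) F) *ᵥ Pi.single s 1 = img s := fun s => by
      rw [hhv, ← Pi.basisFun_apply, Basis.constr_basis]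
    have hkey : X * ((g : Matrix (Fin d ⊕ Fin d) (Fin d ⊕ Fin d) F) * (h⁻¹).val) =
        ((g : Matrix (Fin d ⊕ Fin d) (Fin d ⊕ Fin d) F) * (h⁻¹).val) * M := by
      have h1 : X * g.val = g.val * (h⁻¹).val * M * h.val := by
        refine Matrix.ext_of_mulVec_single fun s => ?_
        simp only [← Matrix.mulVec_mulVec]
        rw [hbasis]
        have hM' : M *ᵥ img s = (Sum.elim ε ε s) • img s := by
          rcases s with j | j
          · simpa [img] using hMvec 1 j
          · simp only [img, Sum.elim_inr, Matrix.mulVec_smul, hMvec]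
            exact smul_comm _ _ _
        rw [hM', ← hbasis, Matrix.mulVec_smul, Matrix.mulVec_smul, Matrix.mulVec_mulVec _ (h⁻¹).val, Units.inv_mul,
          Matrix.one_mulVec]
        rcases s with j | j
        · exact hew j
        · exact hev j
      rw [← Matrix.mul_assoc, h1, Matrix.mul_assoc, Matrix.mul_assoc, Units.mul_inv, Matrix.mul_one, Matrix.mul_assoc]
    rw [Units.val_mul, Units.val_mul, Matrix.mul_assoc]
    show _ * (X * _) = _
    rw [Units.val_mul, hkey, _root_.mul_inv_rev, inv_inv, Units.val_mul]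
    simp only [Matrix.mul_assoc]
    rw [← Matrix.mul_assoc (g⁻¹).val g.val, Units.inv_mul, Matrix.one_mul, ← Matrix.mul_assoc h.val (h⁻¹).val,
      Units.mul_inv, Matrix.one_mul, hM]
    simp only [Matrix.mul_assoc]
  · let A : GL (Fin 2) F := Matrix.GeneralLinearGroup.mk'' !![0, 1; -1, 0]
      (by rw [Matrix.det_fin_two_of]; simp)
    set Y := P.val * Matrix.reindexAlgEquiv F F e.symm (A.val ⊗ₖ (1 : GL (Fin d) F).val) * (P⁻¹).val with hY
    have hA2 : A.val * A.val = (-1 : F) • (1 : Matrix (Fin 2) (Fin 2) F) := by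
      show (!![0, 1; -1, 0] : Matrix (Fin 2) (Fin 2) F) * !![0, 1; -1, 0] = _
      ext s t; fin_cases s <;> fin_cases t <;> simp [Matrix.mul_apply, Fin.sum_univ_two]
    have hAG : A.valᵀ * G1 * A.val = G1 := by
      show (!![0, 1; -1, 0] : Matrix (Fin 2) (Fin 2) F)ᵀ * G1 * !![0, 1; -1, 0] = _
      ext s t; fin_cases s <;> fin_cases t <;> simp [Matrix.mul_apply, Fin.sum_univ_two, h00, h11, h10]
    have hYY : Y * Y = (-1 : F) • 1 := by
      rw [hY, show ∀ R : Matrix (Fin d ⊕ Fin d) (Fin d ⊕ Fin d) F,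
          P.val * R * (P⁻¹).val * (P.val * R * (P⁻¹).val) = P.val * (R * R) * (P⁻¹).val from fun R => by
            simp only [Matrix.mul_assoc]
            rw [← Matrix.mul_assoc (P⁻¹).val P.val, Units.inv_mul, Matrix.one_mul],
        ← map_mul, ← Matrix.mul_kronecker_mul, hA2, Units.val_one, Matrix.one_mul, Matrix.smul_kronecker,
        Matrix.one_kronecker_one, map_smul, map_one, Matrix.mul_smul, Matrix.mul_one, Matrix.smul_mul, Units.mul_inv]
    have hYp : ∀ u v, Cfsg.sympForm d F (Y *ᵥ u) (Y *ᵥ v) = Cfsg.sympForm d F u v :=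
      (gram_preserved hS).2 (by
        rw [← Matrix.kroneckerMap_transpose, ← Matrix.mul_kronecker_mul, ← Matrix.mul_kronecker_mul, Units.val_one,
          Matrix.transpose_one, Matrix.one_mul, Matrix.mul_one, hAG])
    have hYanti : ∀ u v, Cfsg.sympForm d F (Y *ᵥ u) v = - Cfsg.sympForm d F u (Y *ᵥ v) := fun u v => by
      have h1 := hYp (Y *ᵥ u) v
      rw [Matrix.mulVec_mulVec, hYY, Matrix.smul_mulVec, Matrix.one_mulVec] at h1
      rw [← h1, S5976.sf_eq_spB, map_smul, LinearMap.smul_apply, smul_eq_mul, ← S5976.sf_eq_spB]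
      ring
    obtain ⟨g₁, hg₁, h₁⟩ := S5976.exists_conj_Sa h2 (neg_ne_zero.2 (one_ne_zero (α := F))) X hz
      (fun u v => by rw [hadj, neg_one_mul])
    obtain ⟨g₂, hg₂, h₂⟩ := S5976.exists_conj_Sa h2 (neg_ne_zero.2 (one_ne_zero (α := F))) Y hYY hYanti
    refine ⟨g₁ * g₂⁻¹, Subgroup.mul_mem _ hg₁ (Subgroup.inv_mem _ hg₂), hmk A 1 _ ?_⟩
    rw [← hY, show (g₁ * g₂⁻¹)⁻¹ * x * (g₁ * g₂⁻¹) = g₂ * (g₁⁻¹ * (x * g₁)) * g₂⁻¹ by group, Units.val_mul,
      Units.val_mul, Units.val_mul, Units.val_mul]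
    change _ * (_ * (X * _)) * _ = Y
    rw [h₁, Units.inv_mul_cancel_left, ← h₂, Units.mul_inv_cancel_right]

/-- Elements of prime order of PSp_n(q), q odd, and the stabilizers of tensor decompositions Sp_a(q) ⊗ O_b(q). Here `T = PSp_{2d}(F)` for a field `F` with `q` elements, `q` odd, `d ≥ 2`, realised through the matrices preserving the standard alternating form `f`; `2d = a·b` with `a` even, `b ≥ 3`, and the bijection `e` and change of basis `P` exhibit `f` as a non-zero scalar multiple of the tensor product of a non-degenerate alternating form `f₁` on `F^a` and a non-degenerate symmetric bilinear form `f₂` on `F^b`; `H` is the subgroup of `T` stabilizing this tensor decomposition (the elements of `T` in the conjugate by `P` of the group of Kronecker products) — a subgroup of type Sp_a(q) ⊗ O^ε_b(q) (maximality is not assumed). Ω is the set of cosets of `H` in `T`, so an element of `T` of prime order `r` (`x ∈ T` with `x^r` scalar, `x` not scalar) fixes a point of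 Ω exactly when some `T`-conjugate of `x` lies in `H`. Let `r` be a prime dividing the index of `H`. Then every element of `T` of order `r` fixes a point of Ω if and only if `r = 2` and `a = 2`. -/
theorem result {F : Type*} [Field F] [Fintype F] {p : ℕ} [Fact p.Prime] [CharP F p] {q : ℕ} (hq : Fintype.card F = q)
    (hodd : Odd q) (d : ℕ) (hd : 2 ≤ d) (a b : ℕ) (hab : 2 * d = a * b) (ha : Even a) (ha2 : 2 ≤ a) (hb : 3 ≤ b)
    (e : (Fin d ⊕ Fin d) ≃ Fin a × Fin b) (P : GL (Fin d ⊕ Fin d) F)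
    (f₁ : (Fin a → F) → (Fin a → F) → F) (f₂ : (Fin b → F) → (Fin b → F) → F)
    (hf₁ : Cfsg.Geo.IsSymplecticForm f₁) (hf₂ : Cfsg.Geo.IsSymmetricForm f₂)
    (hS : Cfsg.Geo.IsTensorFormStructure id (Cfsg.sympForm d F) f₁ f₂ e P)
    (r : ℕ) [Fact r.Prime]
    (hΩ : r ∣ (Cfsg.Geo.tensorProductSubgroup a b e P).relIndex (Cfsg.spGL d F)) :
    (∀ x ∈ Cfsg.spGL d F, (∃ z : F, ((x ^ r : GL (Fin d ⊕ Fin d) F) : Matrix (Fin d ⊕ Fin d) (Fin d ⊕ Fin d) F) = z • (1 : Matrix (Fin d ⊕ Fin d) (Fin d ⊕ Fin d) F)) →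
      (∀ z : F, (x : Matrix (Fin d ⊕ Fin d) (Fin d ⊕ Fin d) F) ≠ z • (1 : Matrix (Fin d ⊕ Fin d) (Fin d ⊕ Fin d) F)) →
      ∃ g ∈ Cfsg.spGL d F, g⁻¹ * x * g ∈ Cfsg.Geo.tensorProductSubgroup a b e P) ↔ (r = 2 ∧ a = 2) := by
  classical
  have hr := (Fact.out : r.Prime)
  have hp := (Fact.out : p.Prime)
  have hp2 : p ≠ 2 := by
    rintro rfl
    obtain ⟨k, -, hk⟩ := FiniteField.card F 2
    rw [← hq, hk] at hodd
    exact Nat.not_odd_iff_even.2 (even_two.pow_of_ne_zero (PNat.ne_zero k)) hodd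
  have h2 : (2 : F) ≠ 0 := by
    intro h
    have : p ∣ 2 := (CharP.cast_eq_zero_iff F p 2).1 (by exact_mod_cast h)
    exact hp2 ((Nat.prime_dvd_prime_iff_eq hp Nat.prime_two).1 this)
  have hd0 : 0 < d := by omega
  have hcardι : Fintype.card (Fin d ⊕ Fin d) = a * b := by simp; omega
  constructor
  · intro H
    have key : ∀ x ∈ Cfsg.spGL d F, (∃ z : F, ((x ^ r : GL (Fin d ⊕ Fin d) F) : Matrix (Fin d ⊕ Fin d) (Fin d ⊕ Fin d) F) = z • 1) →
        ∀ l₀ l : F, ((x : Matrix (Fin d ⊕ Fin d) (Fin d ⊕ Fin d) F) - l₀ • 1).rank < b →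
        ¬ a ∣ ((x : Matrix (Fin d ⊕ Fin d) (Fin d ⊕ Fin d) F) - l • 1).rank → False := by
      intro x hx hxr l₀ l h₀ hl
      have hns : ∀ z : F, (x : Matrix (Fin d ⊕ Fin d) (Fin d ⊕ Fin d) F) ≠ z • 1 := by
        intro z hz
        refine hl ?_
        rcases eq_or_ne z l with h | h
        · rw [hz, h, sub_self, Matrix.rank_zero]; exact dvd_zero a
        · have hu : IsUnit ((x : Matrix (Fin d ⊕ Fin d) (Fin d ⊕ Fin d) F) - l • 1) := by
            rw [hz, ← sub_smul]
            exact IsUnit.smul (Units.mk0 (z - l) (sub_ne_zero.2 h))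
              (isUnit_one : IsUnit (1 : Matrix (Fin d ⊕ Fin d) (Fin d ⊕ Fin d) F))
          rw [Matrix.rank_of_isUnit _ hu, hcardι]
          exact Dvd.intro _ rfl
      obtain ⟨g, -, hg⟩ := H x hx hxr hns
      obtain ⟨A, B, hAB⟩ := exists_kron_of_mem hg
      rw [rank_conjP P g hAB] at h₀ hl
      exact hl (dvd_rank_of_kron (Units.isUnit B) h₀ l)
    have hrp : r ≠ p := by
      intro hrp
      obtain ⟨x, hx, hxp, hrk⟩ := exists_transvection (F := F) hd0 p
      refine key x hx ⟨1, by rw [Units.val_pow_eq_pow_val, hrp, hxp, one_smul]⟩ 1 1 ?_ ?_ <;>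
        rw [one_smul, hrk]
      · omega
      · rw [Nat.dvd_one]; omega
    have hrq : ¬ r ∣ q := by
      obtain ⟨f, -, hf⟩ := FiniteField.card F p
      rw [← hq, hf]
      exact fun hd => hrp ((Nat.prime_dvd_prime_iff_eq hr hp).1 (hr.dvd_of_dvd_pow hd))
    have hrF : (r : F) ≠ 0 := fun h => hrp ((Nat.prime_dvd_prime_iff_eq hp hr).1 ((CharP.cast_eq_zero_iff F p r).1 h)).symm
    have hq0 : (q : ZMod r) ≠ 0 := fun h => hrq ((ZMod.natCast_eq_zero_iff q r).1 h)
    have hrank : ∀ z : F, z ≠ 0 → z ≠ 1 → z⁻¹ ≠ 1 →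
        ∃ x ∈ Cfsg.spGL d F, (z ^ r = 1 → ∃ c : F, ((x ^ r : GL (Fin d ⊕ Fin d) F) : Matrix (Fin d ⊕ Fin d) (Fin d ⊕ Fin d) F) = c • 1) ∧
          ((x : Matrix (Fin d ⊕ Fin d) (Fin d ⊕ Fin d) F) - (1 : F) • 1).rank = 2 ∧
          (z ≠ z⁻¹ → ((x : Matrix (Fin d ⊕ Fin d) (Fin d ⊕ Fin d) F) - z • 1).rank = 2 * d - 1) := by
      intro z hz0 hz1 hz1'
      obtain ⟨x, hx, hxd⟩ := exists_pair_diagonal hd0 hz0
      set D := Function.update (Function.update (1 : Fin d ⊕ Fin d → F) (Sum.inr ⟨0, hd0⟩) z⁻¹) (Sum.inl ⟨0, hd0⟩) z with hD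
      have hD' : ∀ j, D j = if j = Sum.inl ⟨0, hd0⟩ then z else if j = Sum.inr ⟨0, hd0⟩ then z⁻¹ else 1 := fun j => by
        rw [hD]; simp [Function.update_apply]
      refine ⟨x, hx, fun hzr => ⟨1, ?_⟩, ?_, fun hne => ?_⟩
      · rw [Units.val_pow_eq_pow_val, hxd, Matrix.diagonal_pow, one_smul, ← Matrix.diagonal_one]
        congr 1
        funext j
        simp only [Pi.pow_apply, hD']
        split_ifs <;> simp [hzr]
      · rw [hxd, rank_diagonal_sub, Fintype.card_subtype,
          show (Finset.univ.filter fun j => D j ≠ 1) = {Sum.inl ⟨0, hd0⟩, Sum.inr ⟨0, hd0⟩} by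
            ext j
            simp only [Finset.mem_filter, Finset.mem_univ, true_and, hD', Finset.mem_insert, Finset.mem_singleton]
            split_ifs with h h'
            · exact iff_of_true hz1 (Or.inl h)
            · exact iff_of_true hz1' (Or.inr h')
            · exact iff_of_false (fun hh => hh rfl) (not_or.2 ⟨h, h'⟩),
          Finset.card_pair (by simp)]
      · rw [hxd, rank_diagonal_sub, Fintype.card_subtype,
          show (Finset.univ.filter fun j => D j ≠ z) = Finset.univ.erase (Sum.inl ⟨0, hd0⟩) by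
            ext j
            simp only [Finset.mem_filter, Finset.mem_univ, true_and, hD', Finset.mem_erase, and_true]
            split_ifs with h h'
            · exact iff_of_false (fun hh => hh rfl) (fun hh => hh h)
            · exact iff_of_true hne.symm h
            · exact iff_of_true hz1.symm h,
          Finset.card_erase_of_mem (Finset.mem_univ _), Finset.card_univ, hcardι]
        omega
    have hr2 : r = 2 := by
      by_contra hr2
      have hord0 : 0 < orderOf (q : ZMod r) :=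
        (isOfFinOrder_iff_pow_eq_one.2 ⟨r - 1, by have := hr.two_le; omega, ZMod.pow_card_sub_one_eq_one hq0⟩).orderOf_pos
      rcases (show orderOf (q : ZMod r) = 1 ∨ 2 ≤ orderOf (q : ZMod r) by omega) with h1 | hi
      · have hdq : r ∣ q - 1 := by
          rw [← ZMod.natCast_eq_zero_iff, Nat.cast_sub (by rw [← hq]; exact Fintype.card_pos), orderOf_eq_one_iff.1 h1]
          simp
        obtain ⟨z, hz⟩ := exists_prime_orderOf_dvd_card' (G := Fˣ) r
          (by rwa [Nat.card_units, Nat.card_eq_fintype_card, hq])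
        have hzr : z ^ r = 1 := hz ▸ pow_orderOf_eq_one z
        have hz1 : z ≠ 1 := fun h => by rw [h, orderOf_one] at hz; exact hr.ne_one hz.symm
        have hzz : z ≠ z⁻¹ := fun h => by
          have h2' : z ^ 2 = 1 := by rw [sq]; nth_rewrite 2 [h]; exact mul_inv_cancel z
          have hd2 := orderOf_dvd_of_pow_eq_one h2'
          rw [hz] at hd2
          exact hr2 ((Nat.prime_dvd_prime_iff_eq hr Nat.prime_two).1 hd2)
        obtain ⟨x, hx, hxr, hk1, hk2⟩ := hrank (z : F) z.ne_zero (fun h => hz1 (Units.ext h))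
          (by rw [← Units.val_inv_eq_inv_val]; exact fun h => hz1 (inv_eq_one.1 (Units.ext h)))
        refine key x hx (hxr (by rw [← Units.val_pow_eq_pow_val, hzr, Units.val_one])) 1 z (by rw [hk1]; omega) ?_
        rw [hk2 (by rw [← Units.val_inv_eq_inv_val]; exact fun h => hzz (Units.ext h))]
        intro hd'
        have : a ∣ 2 * d - (2 * d - 1) := Nat.dvd_sub ⟨b, hab⟩ hd'
        rw [Nat.sub_sub_self (by omega), Nat.dvd_one] at this
        omega
      · set i := orderOf (q : ZMod r) with hidef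
        obtain ⟨k, hk, hkd⟩ : ∃ k, k < d ∧ r ∣ q ^ (2 * (k + 1)) - 1 := by
          have h := hΩ.trans (Subgroup.relIndex_dvd_card _ _)
          rw [S5976.card_spGL, hq] at h
          rcases hr.dvd_mul.1 h with h | h
          · exact absurd (hr.dvd_of_dvd_pow h) hrq
          · obtain ⟨k, hk, hk'⟩ := hr.prime.exists_mem_finset_dvd h
            exact ⟨k, Finset.mem_range.1 hk, hk'⟩
        have hpow : (q : ZMod r) ^ (2 * (k + 1)) = 1 := by
          have := (ZMod.natCast_eq_zero_iff _ _).2 hkd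
          rw [Nat.cast_sub (Nat.one_le_pow _ _ (by rw [← hq]; exact Fintype.card_pos)), Nat.cast_pow, Nat.cast_one,
            sub_eq_zero] at this
          exact this
        have hidvd : i ∣ 2 * (k + 1) := orderOf_dvd_of_pow_eq_one hpow
        obtain ⟨E, hE1, hEd, hEi, hEev, hEdvd⟩ : ∃ E, 1 ≤ E ∧ E ≤ d ∧ E ≤ i ∧ (Even i → 2 * E = i) ∧ i ∣ 2 * E := by
          rcases Nat.even_or_odd i with ⟨s, hs⟩ | hio
          · refine ⟨s, by omega, ?_, by omega, fun _ => by omega, ⟨1, by omega⟩⟩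
            have := Nat.le_of_dvd (by omega) hidvd
            omega
          · refine ⟨i, by omega, ?_, le_rfl, fun h => absurd h (Nat.not_even_iff_odd.2 hio), Dvd.intro_left _ rfl⟩
            have := Nat.le_of_dvd (by omega) ((Nat.Coprime.dvd_mul_left (Nat.coprime_two_right.2 hio)).1 hidvd)
            omega
        have hre : r ∣ q ^ (2 * E) - 1 := by
          obtain ⟨t, ht⟩ := hEdvd
          rw [← ZMod.natCast_eq_zero_iff, Nat.cast_sub (Nat.one_le_pow _ _ (by rw [← hq]; exact Fintype.card_pos)),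
            Nat.cast_pow, ht, pow_mul, hidef, pow_orderOf_eq_one, one_pow, Nat.cast_one, sub_self]
        obtain ⟨x, hx, hxr, hx1, hrk⟩ := exists_small_sp (F := F) (r := r) hq hE1 hEd hre
        have hns : ∀ z : F, (x : Matrix (Fin d ⊕ Fin d) (Fin d ⊕ Fin d) F) ≠ z • 1 := by
          intro z hz
          refine hx1 ?_
          rw [hz, eq_one_of_pow_eq_one hq (not_dvd_card_units_of_two_le hq hi) (s := z) (by
            simpa [hz, smul_pow, Matrix.one_apply] using congrFun (congrFun hxr (Sum.inl ⟨0, hd0⟩)) (Sum.inl ⟨0, hd0⟩)),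
            one_smul]
        obtain ⟨g, hgm, hg⟩ := H x hx ⟨1, by rw [Units.val_pow_eq_pow_val, hxr, one_smul]⟩ hns
        obtain ⟨A, B, hAB⟩ := exists_kron_of_mem hg
        have hy : g⁻¹ * x * g ∈ Cfsg.spGL d F :=
          Subgroup.mul_mem _ (Subgroup.mul_mem _ (Subgroup.inv_mem _ hgm) hx) hgm
        have hpres := (gram_preserved hS).1 (fun u v => by rw [← hAB]; exact hy u v)
        have hpow' : (A.val ⊗ₖ B.val) ^ r = 1 := by
          have hyr : ((g⁻¹ * x * g : GL (Fin d ⊕ Fin d) F) : Matrix (Fin d ⊕ Fin d) (Fin d ⊕ Fin d) F) ^ r = 1 := by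
            have hc : (g⁻¹ * x * g) ^ r = g⁻¹ * x ^ r * g := by simpa using conj_pow (i := r) (a := g⁻¹) (b := x)
            rw [← Units.val_pow_eq_pow_val, hc, show x ^ r = 1 from Units.ext (by rw [Units.val_pow_eq_pow_val, hxr]; rfl)]
            simp
          let φ : Matrix (Fin a × Fin b) (Fin a × Fin b) F →* Matrix (Fin d ⊕ Fin d) (Fin d ⊕ Fin d) F :=
            { toFun := fun K => P.val * Matrix.reindexAlgEquiv F F e.symm K * (P⁻¹).val
              map_one' := by rw [map_one, Matrix.mul_one, Units.mul_inv]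
              map_mul' := fun K L => by
                rw [map_mul]
                simp only [Matrix.mul_assoc]
                rw [← Matrix.mul_assoc (P⁻¹).val P.val, Units.inv_mul, Matrix.one_mul] }
          have hφ : Function.Injective φ := fun K L hKL => (Matrix.reindexAlgEquiv F F e.symm).injective
            ((Units.isUnit P).mul_left_cancel ((Units.isUnit P⁻¹).mul_right_cancel hKL))
          refine hφ ?_
          rw [map_pow, map_one, ← hyr, hAB]
          rfl
        have hne : A.val ⊗ₖ B.val ≠ 1 := by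
          intro h
          have h1 := rank_conjP P g hAB 1
          rw [h, one_smul, one_smul, sub_self, Matrix.rank_zero] at h1
          have : (x : Matrix (Fin d ⊕ Fin d) (Fin d ⊕ Fin d) F) - 1 = 0 := by
            rw [Matrix.rank, Submodule.finrank_eq_zero, LinearMap.range_eq_bot] at h1
            exact Matrix.ext_iff_mulVec.2 fun v => by
              rw [Matrix.zero_mulVec]; exact LinearMap.congr_fun h1 v
          exact hx1 (sub_eq_zero.1 this)
        have hG₁ : Cfsg.Geo.gramMatrix f₁ ≠ 0 := by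
          intro h
          obtain ⟨c, hc, hf⟩ := id hS
          have h4 := S5976.sf_eq_spB (F := F) (d := d) (Pi.single (.inr ⟨0, hd0⟩) 1) (Pi.single (.inl ⟨0, hd0⟩) 1)
          rw [spB_single] at h4
          have h5 := hf (((P⁻¹).val *ᵥ Pi.single (.inr ⟨0, hd0⟩) (1 : F)) ∘ e.symm)
            (((P⁻¹).val *ᵥ Pi.single (.inl ⟨0, hd0⟩) (1 : F)) ∘ e.symm)
          rw [show ∀ w : Fin d ⊕ Fin d → F, (w ∘ e.symm) ∘ e = w from fun w => funext fun t => by simp,
            show ∀ w : Fin d ⊕ Fin d → F, (w ∘ e.symm) ∘ e = w from fun w => funext fun t => by simp,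
            Matrix.mulVec_mulVec, Matrix.mulVec_mulVec, Units.mul_inv, Matrix.one_mulVec, Matrix.one_mulVec, h4,
            formOfGram_eq_dot, h] at h5
          simp [Matrix.J] at h5
        have hB2 : ∀ u v, f₂ u v = u ⬝ᵥ (Cfsg.Geo.gramMatrix f₂ *ᵥ v) := fun u v => by
          let B2 : LinearMap.BilinForm F (Fin b → F) := LinearMap.mk₂ F f₂ hf₂.bilinear.add_left
            hf₂.bilinear.smul_left hf₂.bilinear.add_right hf₂.bilinear.smul_right
          show B2 u v = _
          conv_lhs => rw [← (Pi.basisFun F (Fin b)).sum_repr u, ← (Pi.basisFun F (Fin b)).sum_repr v]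
          simp [B2, Cfsg.Geo.gramMatrix, dotProduct, Matrix.mulVec, Finset.mul_sum, LinearMap.sum_apply,
            hf₂.bilinear.smul_left, hf₂.bilinear.smul_right, mul_comm, mul_left_comm]
          rw [Finset.sum_comm]
        have hG₂ : IsUnit (Cfsg.Geo.gramMatrix f₂) := Matrix.mulVec_injective_iff_isUnit.1 fun u v huv => by
          by_contra hne'
          obtain ⟨⟨w, hw⟩, -⟩ := hf₂.nondegenerate (u - v) (sub_ne_zero.2 hne')
          exact hw (by rw [hB2, Matrix.mulVec_sub, huv, sub_self, dotProduct_zero])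
        have hlt := not_kron_of_small hq hrq hrF hr2 h2 hi hE1 hEi hEev ha ha2 hb A.val (Units.isUnit B) hG₁ hG₂
          (Matrix.ext fun s t => hf₂.symm _ _) hpres hpow' hne
        have h1 := rank_conjP P g hAB 1
        rw [one_smul, one_smul] at h1
        omega
    subst hr2
    refine ⟨rfl, ?_⟩
    by_contra hane
    obtain ⟨x, hx, hxr, hk1, -⟩ := hrank (-1) (neg_ne_zero.2 one_ne_zero)
      (fun h => h2 (by linear_combination -h)) (by rw [inv_neg, inv_one]; exact fun h => h2 (by linear_combination -h))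
    refine key x hx (hxr (by ring)) 1 1 (by rw [hk1]; omega) ?_
    rw [hk1]
    exact fun hd' => hane (le_antisymm (Nat.le_of_dvd two_pos hd') ha2)
  · rintro ⟨rfl, rfl⟩ x hx ⟨z, hz⟩ hns
    exact exists_conj_two h2 hd0 (by omega) e P f₁ f₂ hf₁ hf₂ hS hx (by rw [← hz, sq, Units.val_mul])


end Cfsg.Agent.S5980
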