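import Cfsg.Statements.S5981
import Cfsg.Agent.H48.SimForm
import Cfsg.Agent.H96.OmegaBridge
import Cfsg.Agent.Orthogonal.Order
import Cfsg.Agent.Orthogonal.StdForms
import Cfsg.Agent.H99.Diag
import Cfsg.Agent.H99.FieldExt


set_option autoImplicit false
open scoped MatrixGroups
open Cfsg

namespace Cfsg.Agent.S5981

set_option linter.style.haveILetI false

open scoped Matrix
open Cfsg.Agent.H48.SimForm Cfsg.Agent.Orthogonal

variable {F : Type*} [Field F] {n : ℕ} {Q : (Fin n → F) → F}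

theorem isSesq_polar (hQ : Cfsg.Geo.IsNondegenerateQuadraticForm Q) :
    IsSesq (RingEquiv.refl F) (QuadraticMap.polar Q) where
  add_left := hQ.polar_bilinear.add_left
  smul_left := hQ.polar_bilinear.smul_left
  add_right := hQ.polar_bilinear.add_right
  smul_right := hQ.polar_bilinear.smul_right
  nd v hv := by
    by_contra hne
    obtain ⟨-, u, hu⟩ := hQ.nondegenerate v hne
    exact hu (hv u)

theorem polar_of_sim {y : Matrix (Fin n) (Fin n) F} {c : F} (h : ∀ v, Q (y *ᵥ v) = c * Q v) (a b : Fin n → F) :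
    QuadraticMap.polar Q (y *ᵥ a) (y *ᵥ b) = c * QuadraticMap.polar Q a b := by
  simp only [QuadraticMap.polar, ← Matrix.mulVec_add, h]
  ring

theorem isSimil_of_mem (hQ : Cfsg.Geo.IsNondegenerateQuadraticForm Q) (x g : GL (Fin n) F)
    (h : g⁻¹ * x * g ∈ Cfsg.Geo.quadSimilarityGroup Q) :
    IsSimil (RingEquiv.refl F) (x : Matrix (Fin n) (Fin n) F) := by
  obtain ⟨c, hc⟩ := h
  exact isSimil_of_conj (isSesq_polar hQ) x g c c.ne_zero (polar_of_sim hc)

/-- Every element of prime order `r` modulo scalars has a conjugate among the similitudes. -/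
def AllFix (Q : (Fin n → F) → F) (r : ℕ) : Prop :=
  ∀ x ∈ Cfsg.Geo.specialLinear (Fin n) F,
    (∃ z : F, ((x ^ r : GL (Fin n) F) : Matrix (Fin n) (Fin n) F) = z • (1 : Matrix (Fin n) (Fin n) F)) →
    (∀ z : F, (x : Matrix (Fin n) (Fin n) F) ≠ z • (1 : Matrix (Fin n) (Fin n) F)) →
    ∃ g ∈ Cfsg.Geo.specialLinear (Fin n) F, g⁻¹ * x * g ∈ Cfsg.Geo.quadSimilarityGroup Q

theorem not_allFix_of_formless (hQ : Cfsg.Geo.IsNondegenerateQuadraticForm Q) {r : ℕ}
    (h : HasFormless (RingEquiv.refl F) n r) : ¬ AllFix Q r := by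
  obtain ⟨x, hx, hz, hns, hf⟩ := h
  intro hall
  obtain ⟨g, -, hg⟩ := hall x hx hz hns
  exact hf (isSimil_of_mem hQ x g hg)

/-! ### The negative cases -/

theorem not_allFix_char (hQ : Cfsg.Geo.IsNondegenerateQuadraticForm Q) (p : ℕ) [Fact p.Prime] [CharP F p]
    (h2 : (2 : F) ≠ 0) (hn : 3 ≤ n) : ¬ AllFix Q p := by
  intro hall
  haveI : NeZero n := ⟨by omega⟩
  let i0 : Fin n := ⟨0, by omega⟩
  let i1 : Fin n := ⟨1, by omega⟩
  have h01 : i0 ≠ i1 := by simp [i0, i1]
  let N : Matrix (Fin n) (Fin n) F := Matrix.single i0 i1 1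
  let x : GL (Fin n) F := Matrix.GeneralLinearGroup.mkOfDetNeZero (Matrix.transvection i0 i1 (1 : F))
    (by rw [Matrix.det_transvection_of_ne _ _ h01]; exact one_ne_zero)
  have hxN : (x : Matrix (Fin n) (Fin n) F) = 1 + N := rfl
  have hN2 : N ^ 2 = 0 := by
    simp [sq, N, h01.symm]
  have hpow : (1 + N) ^ p = 1 := by
    haveI : Nonempty (Fin n) := ⟨i0⟩
    have := (Fact.out : p.Prime).two_le
    rw [add_pow_char_of_commute (R := Matrix (Fin n) (Fin n) F) p (Commute.one_left N), one_pow,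
      show N ^ p = N ^ 2 * N ^ (p - 2) by rw [← pow_add]; congr 1; omega, hN2, zero_mul, add_zero]
  obtain ⟨g, -, c, hc⟩ := hall x (by
    rw [Cfsg.Geo.specialLinear, MonoidHom.mem_ker, ← Units.val_inj]
    exact Matrix.det_transvection_of_ne _ _ h01 1) ⟨1, by rw [Units.val_pow_eq_pow_val, hxN, hpow, one_smul]⟩
    (fun z hz => by
      have := congrFun (congrFun hz i0) i1
      simp [hxN, N, h01] at this)
  let e : (Fin n → F) ≃ₗ[F] (Fin n → F) :=
    LinearMap.GeneralLinearGroup.generalLinearEquiv F _ (Matrix.GeneralLinearGroup.toLin g⁻¹)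
  set B : (Fin n → F) → (Fin n → F) → F := fun a b => QuadraticMap.polar Q (e a) (e b) with hBdef
  have hB : IsSesq (RingEquiv.refl F) B := (isSesq_polar hQ).pullback e
  have hsymm : ∀ a b, B a b = B b a := fun a b => QuadraticMap.polar_comm _ _ _
  have he : ∀ v, ((g⁻¹ * x * g : GL (Fin n) F) : Matrix (Fin n) (Fin n) F) *ᵥ e v = e ((x : Matrix (Fin n) (Fin n) F) *ᵥ v) := by
    intro v
    show _ *ᵥ (((g⁻¹ : GL (Fin n) F) : Matrix (Fin n) (Fin n) F) *ᵥ v) = ((g⁻¹ : GL (Fin n) F) : Matrix (Fin n) (Fin n) F) *ᵥ _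
    rw [Matrix.mulVec_mulVec, Matrix.mulVec_mulVec, ← Units.val_mul, mul_inv_cancel_right, Units.val_mul]
  have h : ∀ a b, B ((1 + N) *ᵥ a) ((1 + N) *ᵥ b) = (c : F) * B a b := fun a b => by
    have := polar_of_sim hc (e a) (e b)
    rwa [he, he] at this
  have hc1 : (c : F) = 1 := by
    have h1 := pow_factor_eq_one hB (by omega) h hpow
    have h2 : ((c : F) - 1) ^ p = 0 := by rw [sub_pow_char, one_pow, h1, sub_self]
    exact sub_eq_zero.1 ((pow_eq_zero_iff (Fact.out : p.Prime).ne_zero).1 h2)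
  have key : ∀ a b, B (N *ᵥ a) b + B a (N *ᵥ b) + B (N *ᵥ a) (N *ᵥ b) = 0 := by
    intro a b
    have h1 := h a b
    rw [Matrix.add_mulVec, Matrix.add_mulVec, Matrix.one_mulVec, Matrix.one_mulVec, hc1, one_mul,
      hB.add_left, hB.add_right, hB.add_right] at h1
    linear_combination h1
  let u : Fin n → (Fin n → F) := fun i => Pi.single i 1
  have hNu : ∀ i, N *ᵥ u i = if i = i1 then u i0 else 0 := by
    intro i
    funext j
    by_cases hi : i = i1
    · subst hi
      simp [N, u, Matrix.single_apply, Pi.single_apply, eq_comm]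
    · simp [N, u, hi, Ne.symm hi]
  have g00 : B (u i0) (u i0) = 0 := by
    have := key (u i0) (u i1)
    simpa [hNu, h01, hB.zero_left] using this
  have g01 : B (u i0) (u i1) = 0 := by
    have h3 := key (u i1) (u i1)
    simp only [hNu, if_true, g00, add_zero] at h3
    rw [hsymm (u i1), ← two_mul] at h3
    exact (mul_eq_zero.1 h3).resolve_left h2
  have gall : ∀ i, B (u i0) (u i) = 0 := by
    intro i
    by_cases a : i = i1
    · rw [a, g01]
    have := key (u i1) (u i)
    simpa [hNu, a, hB.zero_right] using this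
  have h0 := hB.nd (u i0) fun w => by
    rw [pi_eq_sum_univ' w, hB.sum_right]
    exact Finset.sum_eq_zero fun i _ => by rw [hB.smul_right, show B (u i0) (Pi.single i 1) = 0 from gall i, mul_zero]
  simpa [u] using congrFun h0 i0

/-- An element of order `r` fixing no non-zero vector. -/
theorem exists_fixedPointFree [Fintype F] (r : ℕ) (hr : r.Prime) (hn : 0 < n)
    (hrF : ∀ t : F, t ^ r = 1 → t = 1) (hrp : (r : F) ≠ 0) (hdvd : r ∣ Fintype.card F ^ n - 1) :
    ∃ M : Matrix (Fin n) (Fin n) F, M.det = 1 ∧ M ^ r = 1 ∧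
      (∀ z : F, M ≠ z • (1 : Matrix (Fin n) (Fin n) F)) ∧ ∀ v, M *ᵥ v = v → v = 0 := by
  classical
  obtain ⟨ψ, hψ, hψd⟩ : ∃ ψ : Polynomial F, Irreducible ψ ∧ ψ ∣ Polynomial.cyclotomic r F := by
    obtain ⟨ψ, -, h1, h2⟩ := Polynomial.exists_monic_irreducible_factor (Polynomial.cyclotomic r F)
      (fun hu => by
        have := Polynomial.natDegree_eq_zero_of_isUnit hu
        rw [Polynomial.natDegree_cyclotomic, Nat.totient_prime hr] at this
        have := hr.two_le; omega)
    exact ⟨ψ, h1, h2⟩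
  haveI : Fact (Irreducible ψ) := ⟨hψ⟩
  let L := AdjoinRoot ψ
  haveI : Module.Finite F L := (AdjoinRoot.powerBasis hψ.ne_zero).finite
  set ω : L := AdjoinRoot.root ψ with hω
  haveI : NeZero ((r : L)) := ⟨fun h => hrp ((algebraMap F L).injective (by simpa using h))⟩
  have hprim : IsPrimitiveRoot ω r := by
    rw [← Polynomial.isRoot_cyclotomic_iff, ← Polynomial.map_cyclotomic r (algebraMap F L), Polynomial.IsRoot.def,
      Polynomial.eval_map_algebraMap, hω, AdjoinRoot.aeval_eq, AdjoinRoot.mk_eq_zero]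
    exact hψd
  have hω1 : ω ≠ 1 := hprim.ne_one hr.one_lt
  have hd : Module.finrank F L = ψ.natDegree := by
    rw [(AdjoinRoot.powerBasis hψ.ne_zero).finrank, AdjoinRoot.powerBasis_dim]
  obtain ⟨k, hk⟩ : Module.finrank F L ∣ n := by
    rw [hd]
    refine Irreducible.natDegree_dvd_of_dvd_X_pow_card_pow_sub_X hψ ?_
    rw [← AdjoinRoot.mk_eq_zero, ← AdjoinRoot.aeval_eq, map_sub, map_pow, Polynomial.aeval_X, sub_eq_zero,
      Nat.card_eq_fintype_card]
    obtain ⟨k, hk⟩ := hdvd
    have : Fintype.card F ^ n = r * k + 1 := by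
      have := Nat.one_le_pow n (Fintype.card F) Fintype.card_pos
      omega
    rw [this, pow_succ, pow_mul, hprim.pow_eq_one, one_pow, one_mul]
  let V := Fin k → L
  have hV : Module.finrank F V = n := by
    rw [Module.finrank_pi_fintype, Finset.sum_const, Finset.card_univ, Fintype.card_fin, smul_eq_mul, mul_comm, ← hk]
  let e : V ≃ₗ[F] (Fin n → F) := LinearEquiv.ofFinrankEq _ _ (by rw [hV, Module.finrank_fin_fun])
  let X : Module.End F V := (LinearMap.mulLeft F ω).compLeft (Fin k)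
  have hX : ∀ v i, X v i = ω * v i := fun v i => rfl
  have hXk : ∀ (j : ℕ) v i, (X ^ j) v i = ω ^ j * v i := by
    intro j
    induction j with
    | zero => intro v i; simp
    | succ j ih => intro v i; rw [pow_succ, Module.End.mul_apply, ih, hX, pow_succ, mul_assoc]
  let M : Matrix (Fin n) (Fin n) F := LinearMap.toMatrix' (e.conj X)
  have hM : ∀ v : V, M *ᵥ e v = e (X v) := fun v => by
    simp [M, LinearMap.toMatrix'_mulVec, LinearEquiv.conj_apply]
  have hMk : ∀ (j : ℕ) (v : V), (M ^ j) *ᵥ e v = e ((X ^ j) v) := by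
    intro j
    induction j with
    | zero => intro v; simp
    | succ j ih => intro v; rw [pow_succ, ← Matrix.mulVec_mulVec, hM, ih, pow_succ, Module.End.mul_apply]
  have hMr : M ^ r = 1 := by
    refine Matrix.ext_iff_mulVec.2 fun v => ?_
    obtain ⟨w, rfl⟩ := e.surjective v
    rw [hMk, Matrix.one_mulVec]
    exact congrArg e (funext fun i => by rw [hXk, hprim.pow_eq_one, one_mul])
  have hk0 : 0 < k := Nat.pos_of_ne_zero fun h => by rw [h, mul_zero] at hk; omega
  refine ⟨M, hrF _ (by rw [← Matrix.det_pow, hMr, Matrix.det_one]), hMr, fun z hz => ?_, fun v hv => ?_⟩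
  · have h2 := hM fun _ => 1
    rw [hz, Matrix.smul_mulVec, Matrix.one_mulVec, ← map_smul] at h2
    have h3 : z • (1 : L) = ω := by
      have := congrFun (e.injective h2) ⟨0, hk0⟩
      rwa [Pi.smul_apply, hX, mul_one] at this
    rw [Algebra.smul_def, mul_one] at h3
    have hz1 : z = 1 := hrF z ((algebraMap F L).injective (by rw [map_pow, h3, map_one, hprim.pow_eq_one]))
    rw [hz1, map_one] at h3
    exact hω1 h3.symm
  · obtain ⟨w, rfl⟩ := e.surjective v
    rw [hM] at hv
    rw [show w = 0 from funext fun i => ?_, map_zero]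
    have := congrFun (e.injective hv) i
    rw [hX] at this
    by_contra hne
    exact hω1 (mul_right_cancel₀ hne (this.trans (one_mul _).symm))

/-- The singular vectors fall into orbits of length `r`. -/
theorem card_zero_modEq [Finite F] (hQ : Cfsg.Geo.IsNondegenerateQuadraticForm Q) (r : ℕ) [Fact r.Prime]
    (y : GL (Fin n) F) (hy : y ^ r = 1) (hyQ : ∀ v, Q ((y : Matrix (Fin n) (Fin n) F) *ᵥ v) = Q v)
    (hfix : ∀ v, (y : Matrix (Fin n) (Fin n) F) *ᵥ v = v → v = 0) :
    ((Nat.card {v : Fin n → F // Q v = 0} : ℕ) : ZMod r) = 1 := by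
  classical
  haveI := Fintype.ofFinite F
  let φ : Equiv.Perm {v : Fin n → F // Q v = 0} :=
    { toFun := fun v => ⟨(y : Matrix (Fin n) (Fin n) F) *ᵥ v.1, by rw [hyQ, v.2]⟩
      invFun := fun v => ⟨((y⁻¹ : GL (Fin n) F) : Matrix (Fin n) (Fin n) F) *ᵥ v.1, by
        rw [← hyQ, Matrix.mulVec_mulVec, ← Units.val_mul, mul_inv_cancel, Units.val_one, Matrix.one_mulVec, v.2]⟩
      left_inv := fun v => Subtype.ext (by
        simp only
        rw [Matrix.mulVec_mulVec, ← Units.val_mul, inv_mul_cancel, Units.val_one, Matrix.one_mulVec])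
      right_inv := fun v => Subtype.ext (by
        simp only
        rw [Matrix.mulVec_mulVec, ← Units.val_mul, mul_inv_cancel, Units.val_one, Matrix.one_mulVec]) }
  have hφk : ∀ (k : ℕ) v, ((φ ^ k) v).1 = ((y ^ k : GL (Fin n) F) : Matrix (Fin n) (Fin n) F) *ᵥ v.1 := by
    intro k
    induction k with
    | zero => intro v; simp
    | succ k ih =>
      intro v
      rw [pow_succ, Equiv.Perm.mul_apply, ih, pow_succ, Units.val_mul, ← Matrix.mulVec_mulVec]
      rfl
  have hφ : φ ^ r ^ 1 = 1 := Equiv.ext fun v => Subtype.ext (by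
    rw [pow_one, hφk, hy, Units.val_one, Matrix.one_mulVec]; rfl)
  have h1 := Equiv.Perm.card_compl_support_modEq hφ
  have h0 : Q 0 = 0 := by simpa using hQ.smul 0 0
  have h2 : φ.supportᶜ = {⟨0, h0⟩} := by
    ext v
    rw [Finset.mem_compl, Equiv.Perm.mem_support, not_not, Finset.mem_singleton]
    refine ⟨fun h => Subtype.ext (hfix v.1 (congrArg Subtype.val h)), ?_⟩
    rintro rfl
    exact Subtype.ext (show (y : Matrix (Fin n) (Fin n) F) *ᵥ (0 : Fin n → F) = 0 from Matrix.mulVec_zero _)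
  rw [h2, Finset.card_singleton] at h1
  rw [Nat.card_eq_fintype_card, ← Nat.cast_one]
  exact (ZMod.natCast_eq_natCast_iff _ _ _).2 h1.symm

theorem relIndex_dvd_index {G : Type*} [Group G] [Finite G] (S N : Subgroup G) [N.Normal] :
    S.relIndex N ∣ S.index := by
  have h1 := Subgroup.relIndex_mul_index (inf_le_left : S ⊓ N ≤ S)
  have h2 := Subgroup.relIndex_mul_index (inf_le_right : S ⊓ N ≤ N)
  rw [Subgroup.inf_relIndex_left] at h1
  rw [Subgroup.inf_relIndex_right] at h2
  obtain ⟨k, hk⟩ := Subgroup.relIndex_dvd_index_of_normal N S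
  refine ⟨k, Nat.eq_of_mul_eq_mul_left (Nat.pos_of_ne_zero (Subgroup.index_ne_zero_of_finite (H := N.subgroupOf S)) : 0 < N.relIndex S) ?_⟩
  rw [h1, ← h2, hk]
  ring

theorem prod_range_two_mul (g : ℕ → ℕ) (m : ℕ) :
    ∏ j ∈ Finset.range (2 * m), g j = (∏ i ∈ Finset.range m, g (2 * i)) * ∏ i ∈ Finset.range m, g (2 * i + 1) := by
  induction m with
  | zero => simp
  | succ m ih =>
    rw [show 2 * (m + 1) = 2 * m + 1 + 1 by ring, Finset.prod_range_succ, Finset.prod_range_succ, ih,
      Finset.prod_range_succ, Finset.prod_range_succ]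
    ring

theorem card_GL [Fintype F] :
    Nat.card (GL (Fin n) F) = (∏ j ∈ Finset.range n, Fintype.card F ^ j) *
      ∏ j ∈ Finset.range n, (Fintype.card F ^ (j + 1) - 1) := by
  set q := Fintype.card F
  rw [Matrix.card_GL_field, Fin.prod_univ_eq_prod_range (fun i => q ^ n - q ^ i) n,
    Finset.prod_congr rfl (fun i hi => show q ^ n - q ^ i = q ^ i * (q ^ (n - i) - 1) by
      rw [Nat.mul_sub, mul_one, ← pow_add, Nat.add_sub_cancel' (Finset.mem_range.1 hi).le]),
    Finset.prod_mul_distrib, ← Finset.prod_range_reflect (fun i => q ^ (n - i) - 1) n]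
  congr 1
  exact Finset.prod_congr rfl (fun i hi => show q ^ (n - (n - 1 - i)) - 1 = q ^ (i + 1) - 1 by
    congr 2; have := Finset.mem_range.1 hi; omega)

theorem pow_sq_sub_one (a : ℕ) : a ^ 2 - 1 = (a - 1) * (a + 1) := by
  rw [mul_comm, ← Nat.sq_sub_sq, one_pow]

theorem dvd_alternatives {r q : ℕ} (hr : r.Prime) {m e : ℕ} {I : ℕ} {T : ℕ}
    (h : 2 * q ^ e * I = (∏ j ∈ Finset.range n, q ^ j) * (∏ i ∈ Finset.range m, (q ^ (2 * i + 1) - 1)) * T)
    (hI : r ∣ I) : r ∣ q ∨ (∃ i, i < m ∧ r ∣ q ^ (2 * i + 1) - 1) ∨ r ∣ T := by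
  have h4 : r ∣ (∏ j ∈ Finset.range n, q ^ j) * (∏ i ∈ Finset.range m, (q ^ (2 * i + 1) - 1)) * T :=
    h ▸ hI.mul_left _
  rcases hr.dvd_mul.1 h4 with h5 | h5
  · rcases hr.dvd_mul.1 h5 with h6 | h6
    · obtain ⟨j, -, hj⟩ := (Prime.dvd_finsetProd_iff hr.prime _).1 h6
      exact Or.inl (hr.dvd_of_dvd_pow hj)
    · obtain ⟨i, hi, hdiv⟩ := (Prime.dvd_finsetProd_iff hr.prime _).1 h6
      exact Or.inr (Or.inl ⟨i, Finset.mem_range.1 hi, hdiv⟩)
  · exact Or.inr (Or.inr h5)

/-- What divides the index. -/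
theorem index_cases [Fintype F] (hQ : Cfsg.Geo.IsNondegenerateQuadraticForm Q) (hn : 3 ≤ n) (r : ℕ) (hr : r.Prime)
    (hΩ : r ∣ (Cfsg.Geo.quadSimilarityGroup Q).relIndex (Cfsg.Geo.specialLinear (Fin n) F)) :
    r ∣ Fintype.card F ∨ (∃ i, Odd i ∧ i ≤ n ∧ r ∣ Fintype.card F ^ i - 1) ∨
    ∃ m N0 : ℕ, n = 2 * m ∧ 1 ≤ m ∧ Nat.card {v : Fin n → F // Q v = 0} = N0 ∧
      ((r ∣ Fintype.card F ^ m + 1 ∧
          Fintype.card F * N0 + Fintype.card F ^ m = Fintype.card F ^ (2 * m) + Fintype.card F ^ (m + 1)) ∨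
       (r ∣ Fintype.card F ^ m - 1 ∧
          Fintype.card F * N0 + Fintype.card F ^ (m + 1) = Fintype.card F ^ (2 * m) + Fintype.card F ^ m)) := by
  classical
  set q := Fintype.card F
  set Qf := Cfsg.Agent.H96.asForm hQ
  have hnd : Nondeg Qf := Cfsg.Agent.H96.asForm_nondeg hQ
  let S : Subgroup (GL (Fin n) F) :=
    { carrier := {g | ∀ v, Q ((g : Matrix (Fin n) (Fin n) F) *ᵥ v) = Q v}
      mul_mem' := fun {a b} ha hb v => by rw [Units.val_mul, ← Matrix.mulVec_mulVec, ha, hb]
      one_mem' := fun v => by simp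
      inv_mem' := fun {a} ha v => by
        rw [← ha, Matrix.mulVec_mulVec, a.mul_inv, Matrix.one_mulVec] }
  have hle : S ≤ Cfsg.Geo.quadSimilarityGroup Q := fun g hg => ⟨1, fun v => by rw [Units.val_one, one_mul]; exact hg v⟩
  haveI : (Cfsg.Geo.specialLinear (Fin n) F).Normal := by unfold Cfsg.Geo.specialLinear; infer_instance
  have h2 : r ∣ S.index :=
    (hΩ.trans (Subgroup.relIndex_dvd_of_le_left _ hle)).trans (relIndex_dvd_index S _)
  let eg : GL (Fin n) F ≃* ((Fin n → F) ≃ₗ[F] (Fin n → F)) :=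
    Matrix.GeneralLinearGroup.toLin.trans (LinearMap.GeneralLinearGroup.generalLinearEquiv F (Fin n → F))
  have hS : Nat.card S = Nat.card (O Qf) := Nat.card_congr (Equiv.subtypeEquiv eg.toEquiv fun g => Iff.rfl)
  have hidx := S.card_mul_index
  rw [hS, card_GL] at hidx
  obtain ⟨k, e, f, hf, ha⟩ := hnd.exists_frame
  have hrk := hf.finrank_kernel hnd
  have hle2 := finrank_le_two_of_aniso (hf.nondeg_kernel hnd) ha
  have hfr : Module.finrank F (Fin n → F) = n := Module.finrank_fin_fun F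
  have hz := card_zero_frame hf ha
  rw [Nat.card_eq_fintype_card (α := F)] at hz
  rw [hfr] at hrk
  have hq1 : 1 < q := Fintype.one_lt_card
  have hpos : ∀ j, 0 < Cfsg.Agent.Orthogonal.oprod q j := fun j => Finset.prod_pos fun i _ =>
    Nat.sub_pos_of_lt (Nat.one_lt_pow (by omega) hq1)
  rcases Nat.even_or_odd n with ⟨m, hm⟩ | ⟨m, hm⟩
  · have hnm : n = 2 * m := by omega
    obtain ⟨m', hm'⟩ : ∃ m', m = m' + 1 := ⟨m - 1, by omega⟩
    have hprod : ∏ j ∈ Finset.range n, (q ^ (j + 1) - 1) =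
        (∏ i ∈ Finset.range m, (q ^ (2 * i + 1) - 1)) * (oprod q m' * ((q ^ m - 1) * (q ^ m + 1))) := by
      rw [hnm, prod_range_two_mul (fun j => q ^ (j + 1) - 1) m, ← pow_sq_sub_one, ← pow_mul,
        show m * 2 = 2 * (m' + 1) by omega, ← oprod_succ, ← hm']
      rfl
    rw [hprod] at hidx
    by_cases hk : k = m
    · have hK : Module.finrank F (IsFrame.kernel Qf e f) = 0 := by omega
      rw [hK, add_zero, add_zero] at hz
      have hk' : k = m' + 1 := hk.trans hm'
      subst hk'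
      rw [card_O_plus m' Qf hnd hf ha (by rw [hfr]; omega), Nat.card_eq_fintype_card, hk] at hidx
      have hp1 : 0 < q ^ m - 1 := Nat.sub_pos_of_lt (Nat.one_lt_pow (by omega) hq1)
      have h3 := Nat.eq_of_mul_eq_mul_right (Nat.mul_pos hp1 (hpos m'))
        (show (2 * q ^ (m * m') * S.index) * ((q ^ m - 1) * oprod q m') =
          ((∏ j ∈ Finset.range n, q ^ j) * (∏ i ∈ Finset.range m, (q ^ (2 * i + 1) - 1)) * (q ^ m + 1)) *
            ((q ^ m - 1) * oprod q m') by linear_combination hidx)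
      rcases dvd_alternatives hr h3 h2 with h | ⟨i, hi, h⟩ | h
      · exact Or.inl h
      · exact Or.inr (Or.inl ⟨2 * i + 1, by simp, by omega, h⟩)
      · refine Or.inr (Or.inr ⟨m, _, hnm, by omega, rfl, Or.inl ⟨h, ?_⟩⟩)
        rw [← hk]
        exact hz
    · have hK : Module.finrank F (IsFrame.kernel Qf e f) = 2 := by omega
      rw [hK] at hz
      have hk' : k = m' := by omega
      subst hk'
      rw [card_O_minus _ Qf hnd hf ha (by rw [hfr]; omega), Nat.card_eq_fintype_card, ← hm'] at hidx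
      have h3 := Nat.eq_of_mul_eq_mul_right (Nat.mul_pos (Nat.succ_pos (q ^ m)) (hpos k))
        (show (2 * q ^ (m * k) * S.index) * ((q ^ m + 1) * oprod q k) =
          ((∏ j ∈ Finset.range n, q ^ j) * (∏ i ∈ Finset.range m, (q ^ (2 * i + 1) - 1)) * (q ^ m - 1)) *
            ((q ^ m + 1) * oprod q k) by linear_combination hidx)
      rcases dvd_alternatives hr h3 h2 with h | ⟨i, hi, h⟩ | h
      · exact Or.inl h
      · exact Or.inr (Or.inl ⟨2 * i + 1, by simp, by omega, h⟩)
      · refine Or.inr (Or.inr ⟨m, _, hnm, by omega, rfl, Or.inr ⟨h, ?_⟩⟩)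
        rw [show m + 1 = k + 2 by omega, show 2 * m = 2 * k + 2 by omega, show m = k + 1 by omega]
        exact hz
  · have hk : k = m := by omega
    subst hk
    rw [card_O_odd k Qf hnd hf ha (by rw [hfr]; omega), Nat.card_eq_fintype_card] at hidx
    have hprod : ∏ j ∈ Finset.range n, (q ^ (j + 1) - 1) =
        (∏ i ∈ Finset.range k, (q ^ (2 * i + 1) - 1)) * oprod q k * (q ^ n - 1) := by
      rw [hm, Finset.prod_range_succ, prod_range_two_mul (fun j => q ^ (j + 1) - 1) k]
      rfl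
    rw [hprod] at hidx
    have h3 := Nat.eq_of_mul_eq_mul_right (hpos k)
      (show (2 * q ^ (k ^ 2) * S.index) * oprod q k =
        ((∏ j ∈ Finset.range n, q ^ j) * (∏ i ∈ Finset.range k, (q ^ (2 * i + 1) - 1)) * (q ^ n - 1)) * oprod q k by
        linear_combination hidx)
    rcases dvd_alternatives hr h3 h2 with h | ⟨i, hi, h⟩ | h
    · exact Or.inl h
    · exact Or.inr (Or.inl ⟨2 * i + 1, by simp, by omega, h⟩)
    · exact Or.inr (Or.inl ⟨n, ⟨k, hm⟩, le_rfl, h⟩)

theorem exists_unit_order [Fintype F] {k : ℕ} (hk : k ∣ Fintype.card F - 1) : ∃ w : Fˣ, orderOf w = k := by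
  classical
  obtain ⟨g, hg⟩ := IsCyclic.exists_generator (α := Fˣ)
  have ho : orderOf g = Fintype.card F - 1 := by
    rw [orderOf_eq_card_of_forall_mem_zpowers hg, Nat.card_eq_fintype_card, Fintype.card_units]
  refine ⟨g ^ (orderOf g / k), ?_⟩
  rw [orderOf_pow_of_dvd]
  · rw [ho, Nat.div_div_self hk]
    have := Fintype.one_lt_card (α := F); omega
  · have := Fintype.one_lt_card (α := F)
    exact (Nat.div_pos (Nat.le_of_dvd (by omega) (ho ▸ hk)) (Nat.pos_of_dvd_of_pos hk (by omega))).ne'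
  · exact Nat.div_dvd_of_dvd (ho ▸ hk)

theorem eq_one_of_pow [Fintype F] {r : ℕ} (hr : r.Prime) (h : ¬ r ∣ Fintype.card F - 1) (t : F) (ht : t ^ r = 1) :
    t = 1 := by
  classical
  have ht0 : t ≠ 0 := fun h0 => by rw [h0, zero_pow hr.ne_zero] at ht; exact zero_ne_one ht
  let u : Fˣ := Units.mk0 t ht0
  have h1 : orderOf u ∣ r := orderOf_dvd_of_pow_eq_one (Units.ext (by simpa [u] using ht))
  rcases (Nat.dvd_prime hr).1 h1 with e | e
  · exact congrArg Units.val (orderOf_eq_one_iff.1 e)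
  · have h2 : orderOf u ∣ Fintype.card F - 1 := by rw [← Fintype.card_units]; exact orderOf_dvd_card
    rw [e] at h2
    exact absurd h2 h

/-! ### The positive cases -/

theorem mem_of_eq {x : GL (Fin n) F} {y : Matrix (Fin n) (Fin n) F} {g : GL (Fin n) F}
    (h : (x : Matrix (Fin n) (Fin n) F) * (g : Matrix (Fin n) (Fin n) F) = (g : Matrix (Fin n) (Fin n) F) * y)
    {c : F} (hc : c ≠ 0) (hy : ∀ v, Q (y *ᵥ v) = c * Q v) :
    g⁻¹ * x * g ∈ Cfsg.Geo.quadSimilarityGroup Q := by
  refine ⟨Units.mk0 c hc, fun v => ?_⟩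
  rw [Units.val_mul, Units.val_mul, mul_assoc, h, ← mul_assoc, ← Units.val_mul, inv_mul_cancel, Units.val_one, one_mul]
  exact hy v

/-- Matching a diagonalised element with a diagonal similitude. -/
theorem finish_diag {ι : Type} [Fintype ι] [DecidableEq ι] (hn : 0 < n) (E : (ι → F) ≃ₗ[F] (Fin n → F)) (ε : ι ≃ Fin n)
    (x P : GL (Fin n) F) (hP : P ∈ Cfsg.Geo.specialLinear (Fin n) F) (e : Fin n → F)
    (hx : ((P⁻¹ * x * P : GL (Fin n) F) : Matrix (Fin n) (Fin n) F) = Matrix.diagonal e)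
    {c : F} (hc : c ≠ 0) (hd : ∀ t : ι → F, Q (E fun s => e (ε s) * t s) = c * Q (E t)) :
    ∃ g ∈ Cfsg.Geo.specialLinear (Fin n) F, g⁻¹ * x * g ∈ Cfsg.Geo.quadSimilarityGroup Q := by
  haveI : Nonempty (Fin n) := ⟨⟨0, hn⟩⟩
  let D : (ι → F) →ₗ[F] (ι → F) := Matrix.toLin' (Matrix.diagonal fun s => e (ε s))
  have hD : ∀ t, D t = fun s => e (ε s) * t s := fun t => by funext s; simp [D, Matrix.mulVec_diagonal]
  let y : Matrix (Fin n) (Fin n) F := LinearMap.toMatrix' (E.conj D)
  have hy : ∀ t, y *ᵥ E t = E (D t) := fun t => by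
    simp [y, LinearMap.toMatrix'_mulVec, LinearEquiv.conj_apply]
  have hyQ : ∀ v, Q (y *ᵥ v) = c * Q v := fun v => by
    obtain ⟨t, rfl⟩ := E.surjective v
    rw [hy, hD, hd]
  let b : Module.Basis (Fin n) F (Fin n → F) := ((Pi.basisFun F ι).map E).reindex ε
  have hb : ∀ i, y *ᵥ b i = e i • b i := by
    intro i
    obtain ⟨s, rfl⟩ := ε.surjective i
    simp only [b, Module.Basis.reindex_apply, Equiv.symm_apply_apply, Module.Basis.map_apply, Pi.basisFun_apply]
    rw [hy, hD, ← map_smul]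
    refine congrArg E (funext fun s' => ?_)
    by_cases h : s' = s
    · subst h; simp
    · simp [h]
  obtain ⟨P', hP', hyP⟩ := Cfsg.Agent.H99.exists_det_one_diagonal_of_basis y e b hb
  have hxP : (x : Matrix (Fin n) (Fin n) F) * (P : Matrix (Fin n) (Fin n) F) =
      (P : Matrix (Fin n) (Fin n) F) * Matrix.diagonal e := by
    rw [← hx, ← Units.val_mul, ← Units.val_mul]
    congr 1
    group
  refine ⟨P * P'⁻¹, Subgroup.mul_mem _ hP (Subgroup.inv_mem _ ?_), mem_of_eq ?_ hc hyQ⟩
  · rw [Cfsg.Geo.specialLinear, MonoidHom.mem_ker, ← Units.val_inj]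
    exact hP'
  · rw [Units.val_mul, ← mul_assoc, hxP, mul_assoc, mul_assoc]
    congr 1
    calc Matrix.diagonal e * ((P'⁻¹ : GL (Fin n) F) : Matrix (Fin n) (Fin n) F)
        = ((P'⁻¹ : GL (Fin n) F) : Matrix (Fin n) (Fin n) F) * ((P' : Matrix (Fin n) (Fin n) F) * Matrix.diagonal e) *
            ((P'⁻¹ : GL (Fin n) F) : Matrix (Fin n) (Fin n) F) := by
          rw [Units.inv_mul_cancel_left]
      _ = ((P'⁻¹ : GL (Fin n) F) : Matrix (Fin n) (Fin n) F) * y := by
          rw [← hyP, ← mul_assoc, Units.mul_inv_cancel_right]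

theorem exists_diag_coords (hQ : Cfsg.Geo.IsNondegenerateQuadraticForm Q) (h2 : (2 : F) ≠ 0) :
    ∃ (E : (Fin n → F) ≃ₗ[F] (Fin n → F)) (w : Fin n → F), (∀ i, w i ≠ 0) ∧
      ∀ t, Q (E t) = ∑ i, w i * t i ^ 2 := by
  haveI : Invertible (2 : F) := invertibleOfNonzero h2
  set Qf := Cfsg.Agent.H96.asForm hQ with hQf
  obtain ⟨w, ⟨φ⟩⟩ := QuadraticForm.equivalent_weightedSumSquares_units_of_nondegenerate' Qf (fun v hv => by
    by_contra hne
    obtain ⟨-, u, hu⟩ := hQ.nondegenerate v hne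
    apply hu
    have h1 := hv u
    rw [QuadraticMap.associated_apply] at h1
    have h3 : (⅟(2 : F)) * QuadraticMap.polar Q v u = 0 := by
      rw [QuadraticMap.polar]
      simpa [hQf, Cfsg.Agent.H96.asForm_coe] using h1
    exact (mul_eq_zero.1 h3).resolve_left (Invertible.ne_zero _))
  let c : Fin (Module.finrank F (Fin n → F)) ≃ Fin n := finCongr (Module.finrank_fin_fun F)
  refine ⟨(LinearEquiv.funCongrLeft F F c).trans φ.symm.toLinearEquiv, fun i => w (c.symm i), fun i => Units.ne_zero _,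
    fun t => ?_⟩
  show Qf (φ.symm (fun j => t (c j))) = _
  rw [φ.symm.map_app, QuadraticMap.weightedSumSquares_apply, ← c.sum_comp]
  exact Finset.sum_congr rfl fun j _ => by
    show w j • _ = (w (c.symm (c j)) : F) * _
    rw [Equiv.symm_apply_apply, Units.smul_def, smul_eq_mul, sq]

theorem allFix_two [Finite F] (hQ : Cfsg.Geo.IsNondegenerateQuadraticForm Q) (h2 : (2 : F) ≠ 0) (hn : 3 ≤ n) :
    AllFix Q 2 := by
  classical
  intro x hx hxz _
  obtain ⟨z, hz⟩ := hxz
  haveI : NeZero n := ⟨by omega⟩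
  haveI : Nonempty (Fin n) := ⟨0⟩
  have hdet : (x : Matrix (Fin n) (Fin n) F).det = 1 := by
    rw [Cfsg.Geo.specialLinear, MonoidHom.mem_ker, ← Units.val_inj] at hx
    exact hx
  rw [Units.val_pow_eq_pow_val, sq] at hz
  have hzn : z ^ n = 1 := by
    have h1 := congrArg Matrix.det hz
    rw [Matrix.det_mul, hdet, Matrix.det_smul, Matrix.det_one, Fintype.card_fin, mul_one, mul_one] at h1
    exact h1.symm
  have hz0 : z ≠ 0 := fun h => by rw [h, zero_pow (NeZero.ne n)] at hzn; exact zero_ne_one hzn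
  obtain ⟨E, w, hw, hE⟩ := exists_diag_coords hQ h2
  by_cases hsq : IsSquare z
  · obtain ⟨μ, rfl⟩ := hsq
    have hμ0 : μ ≠ 0 := fun h => hz0 (by rw [h, mul_zero])
    have hμμ : μ ≠ -μ := fun h1 => by
      have h3 : (2 : F) * μ = 0 := by linear_combination h1
      exact hμ0 ((mul_eq_zero.1 h3).resolve_left h2)
    obtain ⟨ev, hev, hevσ⟩ := Cfsg.Agent.H99.exists_specialLinear_conj_diagonal x {μ, -μ} (by
      rw [Finset.prod_insert (by simpa using hμμ), Finset.prod_singleton, map_mul]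
      simp only [map_sub, map_neg, sub_neg_eq_add, map_add, Polynomial.aeval_X, Polynomial.aeval_C,
        Algebra.algebraMap_eq_smul_one]
      rw [sub_mul, mul_add, mul_add, hz]
      simp [smul_smul, add_comm])
    obtain ⟨P, hP, hPx⟩ := hevσ 1
    refine finish_diag (by omega) E (Equiv.refl _) x P hP _ hPx (mul_ne_zero hμ0 hμ0) fun t => ?_
    rw [hE, hE, Finset.mul_sum]
    refine Finset.sum_congr rfl fun i _ => ?_
    have : ev i * ev i = μ * μ := by
      have h := hev i
      simp only [Finset.mem_insert, Finset.mem_singleton] at h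
      rcases h with h | h <;> rw [h]
      ring
    simp only [Equiv.refl_apply, Function.comp_apply, Equiv.Perm.one_apply]
    linear_combination (w i * t i ^ 2) * this
  · have he : Even n := by
      by_contra h
      rw [Nat.not_even_iff_odd] at h
      obtain ⟨k, hk⟩ := h
      refine hsq ⟨(z ^ k)⁻¹, ?_⟩
      rw [← mul_inv]
      refine eq_inv_of_mul_eq_one_right ?_
      rw [← pow_add, ← pow_succ, show k + k + 1 = n by omega, hzn]
    obtain ⟨m, hm⟩ := he
    let e : Fin m × Fin 2 ≃ Fin n := finProdFinEquiv.trans (finCongr (by omega))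
    choose α γ hαγ using fun j : Fin m => exists_sq_add_sq (one_ne_zero (α := F))
      (div_ne_zero (hw (e (j, 1))) (hw (e (j, 0)))) z
    let c : Fin m → F := fun j => w (e (j, 1)) / w (e (j, 0))
    let T : (Fin n → F) →ₗ[F] (Fin n → F) :=
      { toFun := fun t i => if (e.symm i).2 = 0
          then α (e.symm i).1 * t (e ((e.symm i).1, 0)) + c (e.symm i).1 * γ (e.symm i).1 * t (e ((e.symm i).1, 1))
          else γ (e.symm i).1 * t (e ((e.symm i).1, 0)) - α (e.symm i).1 * t (e ((e.symm i).1, 1))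
        map_add' := fun a b => funext fun i => by simp only [Pi.add_apply]; split <;> ring
        map_smul' := fun a b => funext fun i => by
          simp only [Pi.smul_apply, smul_eq_mul, RingHom.id_apply]; split <;> ring }
    have hT0 : ∀ t j, T t (e (j, 0)) = α j * t (e (j, 0)) + c j * γ j * t (e (j, 1)) := fun t j => by
      simp [T]
    have hT1 : ∀ t j, T t (e (j, 1)) = γ j * t (e (j, 0)) - α j * t (e (j, 1)) := fun t j => by
      simp [T]
    have hcz : ∀ j, α j ^ 2 + c j * γ j ^ 2 = z := fun j => by have := hαγ j; rw [one_mul] at this; exact this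
    have hTT : ∀ t, T (T t) = z • t := by
      intro t
      funext i
      obtain ⟨⟨j, s⟩, rfl⟩ := e.surjective i
      fin_cases s
      · simp only [Fin.zero_eta, hT0, hT1, Pi.smul_apply, smul_eq_mul]
        linear_combination (t (e (j, 0))) * hcz j
      · simp only [Fin.mk_one, hT0, hT1, Pi.smul_apply, smul_eq_mul]
        linear_combination (t (e (j, 1))) * hcz j
    have hTQ : ∀ t, ∑ i, w i * T t i ^ 2 = z * ∑ i, w i * t i ^ 2 := by
      intro t
      rw [← e.sum_comp, ← e.sum_comp, Fintype.sum_prod_type, Fintype.sum_prod_type, Finset.mul_sum]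
      refine Finset.sum_congr rfl fun j _ => ?_
      rw [Fin.sum_univ_two, Fin.sum_univ_two, hT0, hT1]
      have hcw : c j * w (e (j, 0)) = w (e (j, 1)) := div_mul_cancel₀ _ (hw _)
      rw [← hcw, ← hcz j]
      ring
    let y : Matrix (Fin n) (Fin n) F := LinearMap.toMatrix' (E.conj T)
    have hy : ∀ t, y *ᵥ E t = E (T t) := fun t => by
      simp [y, LinearMap.toMatrix'_mulVec, LinearEquiv.conj_apply]
    have hyy : y * y = z • 1 := by
      refine Matrix.ext_iff_mulVec.2 fun v => ?_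
      obtain ⟨t, rfl⟩ := E.surjective v
      rw [← Matrix.mulVec_mulVec, hy, hy, hTT, map_smul, Matrix.smul_mulVec, Matrix.one_mulVec]
    have hnr : ∀ b : F, b ^ 2 ≠ z := fun b hb => hsq ⟨b, by rw [← hb, sq]⟩
    obtain ⟨P, hP⟩ := Cfsg.Agent.H99.exists_specialLinear_conj_of_irreducible
      (X_pow_sub_C_irreducible_of_prime Nat.prime_two hnr) (x := (x : Matrix (Fin n) (Fin n) F)) (y := y)
      (by simp [sq, hz, Algebra.algebraMap_eq_smul_one]) (by simp [sq, hyy, Algebra.algebraMap_eq_smul_one])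
    refine ⟨Matrix.SpecialLinearGroup.toGL P, ?_, mem_of_eq hP hz0 fun v => ?_⟩
    · rw [Cfsg.Geo.specialLinear, MonoidHom.mem_ker, ← Units.val_inj]
      exact P.det_coe
    · obtain ⟨t, rfl⟩ := E.surjective v
      rw [hy, hE, hE, hTQ]

/-- Symmetric arrangements of three or five exponents with sum zero. -/
def pats : List (Fin 5 → Fin 5) :=
  [![0, 1, 2, 3, 4], ![0, 2, 1, 3, 4], ![0, 3, 1, 2, 4], ![0, 1, 2, 4, 3], ![0, 2, 1, 4, 3], ![0, 4, 1, 2, 3],
   ![0, 1, 3, 4, 2], ![0, 3, 1, 4, 2], ![0, 4, 1, 3, 2], ![0, 2, 3, 4, 1], ![0, 3, 2, 4, 1], ![0, 4, 2, 3, 1],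
   ![1, 2, 3, 4, 0], ![1, 3, 2, 4, 0], ![1, 4, 2, 3, 0]]

set_option maxRecDepth 20000 in
theorem pats_good : ∀ a b c d : ZMod 5, ∃ τ ∈ pats,
    ![a, b, c, d, -(a + b + c + d)] (τ 0) + ![a, b, c, d, -(a + b + c + d)] (τ 1) = 2 * ![a, b, c, d, -(a + b + c + d)] (τ 4) ∧
    ![a, b, c, d, -(a + b + c + d)] (τ 2) + ![a, b, c, d, -(a + b + c + d)] (τ 3) = 2 * ![a, b, c, d, -(a + b + c + d)] (τ 4) := by
  decide +kernel

theorem pats_inj : ∀ τ ∈ pats, Function.Injective τ := by
  decide +kernel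

theorem exists_symmetric_order {m : ℕ} {r : ℕ} (hrm : r = 2 * m + 1) (hr : r = 3 ∨ r = 5) (hnr : n = r)
    (k : Fin n → ZMod r) (hk : ∑ i, k i = 0) :
    ∃ ε : Unit ⊕ (Fin m ⊕ Fin m) ≃ Fin n, ∀ i,
      k (ε (.inr (.inl i))) + k (ε (.inr (.inr i))) = 2 * k (ε (.inl ())) := by
  subst hnr
  rcases hr with rfl | rfl
  · obtain rfl : m = 1 := by omega
    refine ⟨Equiv.ofBijective (Sum.elim (fun _ => (2 : Fin 3)) (Sum.elim (fun _ => 0) (fun _ => 1))) (by decide), fun i => ?_⟩
    simp only [Equiv.ofBijective_apply, Sum.elim_inl, Sum.elim_inr]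
    rw [Fin.sum_univ_three] at hk
    have h3 : (3 : ZMod 3) = 0 := by decide
    linear_combination hk - k 2 * h3
  · obtain rfl : m = 2 := by omega
    obtain ⟨τ, hτ, h1, h2⟩ := pats_good (k 0) (k 1) (k 2) (k 3)
    have hk4 : ![k 0, k 1, k 2, k 3, -(k 0 + k 1 + k 2 + k 3)] = k := by
      rw [Fin.sum_univ_five] at hk
      funext i
      fin_cases i
      iterate 4 simp
      show -(k 0 + k 1 + k 2 + k 3) = k 4
      linear_combination -hk
    rw [hk4] at h1 h2
    let f : Unit ⊕ (Fin 2 ⊕ Fin 2) → Fin 5 := fun s =>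
      τ (Sum.elim (fun _ => (4 : Fin 5)) (Sum.elim ![0, 2] ![1, 3]) s)
    have hf : Function.Bijective f := by
      refine (Fintype.bijective_iff_injective_and_card f).2 ⟨(pats_inj τ hτ).comp ?_, by simp⟩
      decide
    refine ⟨Equiv.ofBijective f hf, fun i => ?_⟩
    fin_cases i
    · exact h1
    · exact h2

theorem allFix_exceptional [Fintype F] (hQ : Cfsg.Geo.IsNondegenerateQuadraticForm Q) (r : ℕ) (hr : r = 3 ∨ r = 5)
    (hnr : n = r) (hv : padicValNat r (Fintype.card F - 1) = 1) : AllFix Q r := by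
  classical
  intro x hx hxz _
  obtain ⟨z, hz⟩ := hxz
  have hrp : r.Prime := by rcases hr with rfl | rfl <;> norm_num
  haveI : Fact r.Prime := ⟨hrp⟩
  haveI : NeZero n := ⟨by omega⟩
  haveI : Nonempty (Fin n) := ⟨0⟩
  haveI : NeZero r := ⟨hrp.ne_zero⟩
  have hdet : (x : Matrix (Fin n) (Fin n) F).det = 1 := by
    rw [Cfsg.Geo.specialLinear, MonoidHom.mem_ker, ← Units.val_inj] at hx
    exact hx
  rw [Units.val_pow_eq_pow_val] at hz
  have hzr : z ^ r = 1 := by
    have h1 := congrArg Matrix.det hz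
    rw [Matrix.det_pow, hdet, one_pow, Matrix.det_smul, Matrix.det_one, Fintype.card_fin, mul_one, hnr] at h1
    exact h1.symm
  have hq1 : 0 < Fintype.card F - 1 := by have := Fintype.one_lt_card (α := F); omega
  have hdvd : r ∣ Fintype.card F - 1 := by
    have := pow_padicValNat_dvd (p := r) (n := Fintype.card F - 1)
    rwa [hv, pow_one] at this
  have hnd2 : ¬ r ^ 2 ∣ Fintype.card F - 1 := fun h => by
    have := (padicValNat_dvd_iff_le hq1.ne').1 h
    omega
  have hz1 : z = 1 := by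
    by_contra hne
    have hnroot : ∀ b : F, b ^ r ≠ z := by
      intro b hb
      have hb0 : b ≠ 0 := fun h0 => by
        rw [h0, zero_pow hrp.ne_zero] at hb
        rw [← hb, zero_pow hrp.ne_zero] at hzr
        exact zero_ne_one hzr
      let u : Fˣ := Units.mk0 b hb0
      have h1 : orderOf u ∣ r ^ 2 := orderOf_dvd_of_pow_eq_one (Units.ext (by
        simp [u, sq, pow_mul, hb, hzr]))
      have h2 : orderOf u ∣ Fintype.card F - 1 := by rw [← Fintype.card_units]; exact orderOf_dvd_card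
      obtain ⟨j, hj, hju⟩ := (Nat.dvd_prime_pow hrp).1 h1
      have h3 : orderOf u ∣ r := by
        interval_cases j
        · rw [hju, pow_zero]; exact one_dvd r
        · rw [hju, pow_one]
        · exact absurd (hju ▸ h2) hnd2
      have h4 : b ^ r = 1 := by
        simpa [u] using congrArg Units.val (orderOf_dvd_iff_pow_eq_one.1 h3)
      exact hne (hb ▸ h4)
    have hirr := X_pow_sub_C_irreducible_of_prime hrp hnroot
    have hmon : (Polynomial.X ^ r - Polynomial.C z).Monic := Polynomial.monic_X_pow_sub_C z hrp.ne_zero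
    have haev : Polynomial.aeval (x : Matrix (Fin n) (Fin n) F) (Polynomial.X ^ r - Polynomial.C z) = 0 := by
      simp [hz, Algebra.algebraMap_eq_smul_one]
    have hmin := minpoly.eq_of_irreducible_of_monic hirr haev hmon
    have hchar : (x : Matrix (Fin n) (Fin n) F).charpoly = Polynomial.X ^ r - Polynomial.C z := by
      refine (Polynomial.eq_of_monic_of_dvd_of_natDegree_le hmon (Matrix.charpoly_monic _) ?_ ?_)
      · rw [hmin]; exact Matrix.minpoly_dvd_charpoly _
      · rw [Matrix.charpoly_natDegree_eq_dim, Fintype.card_fin, Polynomial.natDegree_X_pow_sub_C, hnr]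
    have h1 := Matrix.det_eq_sign_charpoly_coeff (x : Matrix (Fin n) (Fin n) F)
    rw [hdet, hchar, Fintype.card_fin, hnr, (hrp.odd_of_ne_two (by omega)).neg_one_pow] at h1
    simp [Polynomial.coeff_X_pow, Ne.symm hrp.ne_zero] at h1
    exact hne h1.symm
  rw [hz1, one_smul] at hz
  obtain ⟨w, hw⟩ := exists_unit_order hdvd
  set ω : F := (w : F) with hω
  have hprim : IsPrimitiveRoot ω r := (IsPrimitiveRoot.coe_units_iff).2 (hw ▸ IsPrimitiveRoot.orderOf w)
  obtain ⟨ev, hev, hevσ⟩ := Cfsg.Agent.H99.exists_specialLinear_conj_diagonal x (Polynomial.nthRootsFinset r (1 : F)) (by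
    rw [← Polynomial.X_pow_sub_one_eq_prod hrp.pos hprim]
    simp [hz])
  obtain ⟨P, hP, hPx⟩ := hevσ 1
  rw [show (ev ∘ (1 : Equiv.Perm (Fin n))) = ev from rfl] at hPx
  choose k hkr hk using fun i => hprim.eq_pow_of_pow_eq_one ((Polynomial.mem_nthRootsFinset hrp.pos 1).1 (hev i))
  have hχ : ∀ a b : ℕ, ((a : ZMod r) = (b : ZMod r)) → ω ^ a = ω ^ b := fun a b h => by
    rw [← pow_mod_orderOf ω a, ← pow_mod_orderOf ω b, ← hprim.eq_orderOf,
      show a % r = b % r from (ZMod.natCast_eq_natCast_iff' a b r).1 h]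
  have hsum : ∑ i, (k i : ZMod r) = 0 := by
    rw [← Nat.cast_sum, ZMod.natCast_eq_zero_iff]
    refine hprim.dvd_of_pow_eq_one _ ?_
    rw [← Finset.prod_pow_eq_pow_sum, Finset.prod_congr rfl fun i _ => hk i, ← Matrix.det_diagonal, ← hPx,
      Units.val_mul, Units.val_mul, Matrix.det_units_conj', hdet]
  obtain ⟨m, hm⟩ := hrp.odd_of_ne_two (by omega)
  obtain ⟨ε, hε⟩ := exists_symmetric_order hm hr hnr (fun i => (k i : ZMod r)) hsum
  set Qf := Cfsg.Agent.H96.asForm hQ
  obtain ⟨-, α, E, -, hE⟩ := (Cfsg.Agent.H96.asForm_nondeg hQ).classify_odd (m := m)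
    (by rw [Module.finrank_fin_fun]; omega)
  have hpair : ∀ i, ev (ε (.inr (.inl i))) * ev (ε (.inr (.inr i))) = ev (ε (.inl ())) ^ 2 := by
    intro i
    rw [← hk, ← hk, ← hk, ← pow_add, ← pow_mul]
    refine hχ _ _ ?_
    push_cast
    rw [hε i, mul_comm]
  have hev0 : ev (ε (.inl ())) ≠ 0 := by
    rw [← hk]
    exact pow_ne_zero _ w.ne_zero
  refine finish_diag (by omega) E ε x P hP ev hPx (pow_ne_zero 2 hev0) fun t => ?_
  show Qf _ = _ * Qf _
  rw [hE, hE, formOdd_coe, Cfsg.quadFormOdd, Cfsg.quadFormOdd]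
  rw [Finset.sum_congr rfl fun i _ => show
    ev (ε (.inr (.inl i))) * t (.inr (.inl i)) * (ev (ε (.inr (.inr i))) * t (.inr (.inr i))) =
      ev (ε (.inl ())) ^ 2 * (t (.inr (.inl i)) * t (.inr (.inr i))) by rw [← hpair i]; ring, ← Finset.mul_sum]
  ring

/-- Elements of prime order of PSL_n(q), q odd, and the subgroups of orthogonal type. Here `T = PSL_n(F)` for a field `F` with `q` elements, `q` odd, `n ≥ 3`; `Q` is a non-degenerate quadratic form on `F^n` (of either type when `n` is even) and `H` is the subgroup of matrices of determinant 1 that preserve `Q` up to a scalar — a subgroup of type O^ε_n(q) (maximality is not assumed); Ω is the set of cosets of `H` in `T`, so an element of `T` of prime order `r` (a matrix `x` of determinant 1 with `x^r` scalar, `x` not scalar) fixes a point of Ω exactly when some conjugate of `x` by a matrix of determinant 1 preserves `Q` up to a scalar. Let `r` be a prime dividing the index of `H`, with `(n, r) ≠ (6, 3)`. Then every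 element of `T` of order `r` fixes a point of Ω if and only if `r = 2`, or `r ∈ {3, 5}`, `n = r` and `(q − 1)_r = r` (the `r`-part of `q − 1` is exactly `r`). The case `(n, r) = (6, 3)` is not covered by this statement. -/
theorem result {F : Type*} [Field F] [Fintype F] {p : ℕ} [Fact p.Prime] [CharP F p] {q : ℕ} (hq : Fintype.card F = q)
    (hodd : Odd q) (n : ℕ) (hn : 3 ≤ n) (Q : (Fin n → F) → F) (hQ : Cfsg.Geo.IsNondegenerateQuadraticForm Q)
    (r : ℕ) [Fact r.Prime] (hgap : ¬ (n = 6 ∧ r = 3))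
    (hΩ : r ∣ (Cfsg.Geo.quadSimilarityGroup Q).relIndex (Cfsg.Geo.specialLinear (Fin n) F)) :
    (∀ x ∈ Cfsg.Geo.specialLinear (Fin n) F, (∃ z : F, ((x ^ r : GL (Fin n) F) : Matrix (Fin n) (Fin n) F) = z • (1 : Matrix (Fin n) (Fin n) F)) →
      (∀ z : F, (x : Matrix (Fin n) (Fin n) F) ≠ z • (1 : Matrix (Fin n) (Fin n) F)) →
      ∃ g ∈ Cfsg.Geo.specialLinear (Fin n) F, g⁻¹ * x * g ∈ Cfsg.Geo.quadSimilarityGroup Q) ↔
    (r = 2 ∨ ((r = 3 ∨ r = 5) ∧ n = r ∧ padicValNat r (q - 1) = 1)) := by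
  classical
  subst hq
  have hr : r.Prime := Fact.out
  have hp2 : p ≠ 2 := by
    rintro rfl
    obtain ⟨k, hk, he⟩ := FiniteField.card F 2
    rw [he] at hodd
    exact Nat.not_odd_iff_even.2 (even_two.pow_of_ne_zero (PNat.ne_zero k)) hodd
  have h2 : (2 : F) ≠ 0 := by
    intro h
    have : p ∣ 2 := (CharP.cast_eq_zero_iff F p 2).1 (by exact_mod_cast h)
    exact hp2 ((Nat.prime_dvd_prime_iff_eq Fact.out Nat.prime_two).1 this)
  show AllFix Q r ↔ _
  constructor
  · intro hall
    by_contra hno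
    push Not at hno
    obtain ⟨hr2, hexc⟩ := hno
    by_cases hrp : r = p
    · subst hrp
      exact not_allFix_char hQ r h2 hn hall
    have hrF0 : (r : F) ≠ 0 := fun h =>
      hrp ((Nat.prime_dvd_prime_iff_eq Fact.out hr).1 ((CharP.cast_eq_zero_iff F p r).1 h)).symm
    by_cases hdvd : r ∣ Fintype.card F - 1
    · by_cases he : (r = 3 ∨ r = 5) ∧ n = r
      · have hv : padicValNat r (Fintype.card F - 1) ≠ 1 := hexc he.1 he.2
        have hq1 : Fintype.card F - 1 ≠ 0 := by have := Fintype.one_lt_card (α := F); omega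
        have h1 : 1 ≤ padicValNat r (Fintype.card F - 1) := one_le_padicValNat_of_dvd hq1 hdvd
        obtain ⟨v, hv⟩ := exists_unit_order (F := F) (k := r ^ 2) ((padicValNat_dvd_iff_le hq1).2 (by omega))
        exact not_allFix_of_formless hQ (hasFormless_diagonal_sq r hr hr2 he.2 v hv rfl) hall
      · obtain ⟨w, hw⟩ := exists_unit_order (F := F) hdvd
        exact not_allFix_of_formless hQ (hasFormless_diagonal r hr hr2 hn hgap he w hw rfl) hall
    have hrF := eq_one_of_pow hr hdvd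
    rcases index_cases hQ hn r hr hΩ with h | ⟨i, hi, hin, hri⟩ | ⟨m, N0, hnm, hm1, hN0, h⟩
    · obtain ⟨k, hk, he⟩ := FiniteField.card F p
      rw [he] at h
      exact hrp ((Nat.prime_dvd_prime_iff_eq hr Fact.out).1 (hr.dvd_of_dvd_pow h))
    · refine not_allFix_of_formless hQ (hasFormless_extension r hr (by omega) hrF hi.pos hin hri hrF0 ?_) hall
      intro ψ hψ hdi hprim
      rw [show ((RingEquiv.refl F).symm : F →+* F) = RingHom.id F from rfl, Polynomial.map_id]
      exact inv_not_root (lt_of_le_of_ne hr.two_le (Ne.symm hr2)) hi ψ hdi hprim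
    · have hq0 : 1 ≤ Fintype.card F ^ m := Nat.one_le_pow _ _ Fintype.card_pos
      have hdn : r ∣ Fintype.card F ^ n - 1 := by
        rw [hnm, mul_comm, pow_mul, pow_sq_sub_one]
        rcases h with ⟨h, -⟩ | ⟨h, -⟩
        · exact h.mul_left _
        · exact h.mul_right _
      obtain ⟨M, hdet, hMr, hns, hfix⟩ := exists_fixedPointFree r hr (by omega) hrF hrF0 hdn
      let x : GL (Fin n) F := Matrix.GeneralLinearGroup.mkOfDetNeZero M (by rw [hdet]; exact one_ne_zero)
      have hxr : x ^ r = 1 := Units.ext (by rw [Units.val_pow_eq_pow_val]; exact hMr)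
      obtain ⟨g, -, c, hc⟩ := hall x (by
        rw [Cfsg.Geo.specialLinear, MonoidHom.mem_ker, ← Units.val_inj]; exact hdet)
        ⟨1, by rw [hxr, one_smul]; rfl⟩ hns
      set y := g⁻¹ * x * g with hy
      have hyr : y ^ r = 1 := by
        have := conj_pow (i := r) (a := g⁻¹) (b := x)
        rw [inv_inv] at this
        rw [hy, this, hxr, mul_one, inv_mul_cancel]
      have hc1 : (c : F) = 1 := hrF _ (pow_factor_eq_one (isSesq_polar hQ) (by omega) (polar_of_sim hc)
        (by rw [← Units.val_pow_eq_pow_val, hyr, Units.val_one]))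
      have hyfix : ∀ v, (y : Matrix (Fin n) (Fin n) F) *ᵥ v = v → v = 0 := by
        intro v hv
        have h1 : M *ᵥ ((g : Matrix (Fin n) (Fin n) F) *ᵥ v) = (g : Matrix (Fin n) (Fin n) F) *ᵥ v := by
          conv_rhs => rw [← hv, Matrix.mulVec_mulVec, ← Units.val_mul]
          rw [Matrix.mulVec_mulVec, show g * y = x * g by rw [hy]; group, Units.val_mul]
          rfl
        have h3 := congrArg (((g⁻¹ : GL (Fin n) F) : Matrix (Fin n) (Fin n) F) *ᵥ ·) (hfix _ h1)
        simpa [Matrix.mulVec_mulVec, ← Units.val_mul] using h3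
      have hN1 := card_zero_modEq hQ r y hyr (fun v => by rw [hc, hc1, one_mul]) hyfix
      rw [hN0] at hN1
      haveI : NeZero r := ⟨hr.ne_zero⟩
      have key : 2 * ((Fintype.card F : ZMod r) - 1) = 0 ∨ 2 * (Fintype.card F : ZMod r) - 2 = 0 := by
        rcases h with ⟨h, e⟩ | ⟨h, e⟩
        · have h1 : ((Fintype.card F : ZMod r)) ^ m + 1 = 0 := by
            exact_mod_cast (ZMod.natCast_eq_zero_iff _ _).2 h
          have e' := congrArg (Nat.cast : ℕ → ZMod r) e
          push_cast at e'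
          rw [hN1, pow_succ, pow_mul', sq] at e'
          left
          linear_combination e' + ((Fintype.card F : ZMod r) ^ m + (Fintype.card F : ZMod r) - 2) * h1
        · have h1 : ((Fintype.card F : ZMod r)) ^ m - 1 = 0 := by
            have := (ZMod.natCast_eq_zero_iff _ _).2 h
            rw [Nat.cast_sub hq0] at this
            exact_mod_cast this
          have e' := congrArg (Nat.cast : ℕ → ZMod r) e
          push_cast at e'
          rw [hN1, pow_succ, pow_mul', sq] at e'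
          right
          linear_combination e' + ((Fintype.card F : ZMod r) ^ m - (Fintype.card F : ZMod r) + 2) * h1
      haveI : Fact r.Prime := ⟨hr⟩
      have h2r : (2 : ZMod r) ≠ 0 := fun h => by
        have : r ∣ 2 := (ZMod.natCast_eq_zero_iff 2 r).1 (by exact_mod_cast h)
        exact hr2 ((Nat.prime_dvd_prime_iff_eq hr Nat.prime_two).1 this)
      have hq : (Fintype.card F : ZMod r) - 1 = 0 := by
        rcases key with k | k
        · exact (mul_eq_zero.1 k).resolve_left h2r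
        · exact (mul_eq_zero.1 (show (2 : ZMod r) * ((Fintype.card F : ZMod r) - 1) = 0 by linear_combination k)).resolve_left h2r
      apply hdvd
      rw [← ZMod.natCast_eq_zero_iff, Nat.cast_sub Fintype.card_pos, Nat.cast_one]
      exact hq
  · rintro (rfl | ⟨h35, hnr, hv⟩)
    · exact allFix_two hQ h2 hn
    · exact allFix_exceptional hQ r h35 hnr hv

end Cfsg.Agent.S5981
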