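import Cfsg.Statements.S5982
import Cfsg.Agent.H99.FieldExt
import Cfsg.Agent.H48.SimForm
import Cfsg.Agent.S5981
import Cfsg.Agent.Unitary.Basis
import Cfsg.Agent.Unitary.Order
import Cfsg.Agent.H99.Diag
import Cfsg.Agent.H99.SquareScalar


set_option autoImplicit false
open scoped MatrixGroups
open Cfsg

namespace Cfsg.Agent.S5982

set_option linter.style.haveILetI false

open scoped Matrix
open Cfsg.Agent.H48.SimForm Cfsg.Agent.Unitary

variable {F : Type*} [Field F] [Fintype F] {n q₀ : ℕ} {f : (Fin n → F) → (Fin n → F) → F}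

theorem isSesq_of_unitary (hF : Fintype.card F = q₀ ^ 2) (hf : Cfsg.Geo.IsUnitaryFormPow q₀ f) :
    IsSesq (frob hF) f where
  add_left := hf.add_left
  smul_left := hf.smul_left
  add_right v x y := by rw [hf.herm, hf.add_left, add_pow_q hF, ← hf.herm, ← hf.herm]
  smul_right c v x := by rw [hf.herm, hf.smul_left, mul_pow, ← hf.herm, frob_apply]
  nd v hv := by
    by_contra hne
    obtain ⟨-, u, hu⟩ := hf.nondegenerate v hne
    exact hu (hv u)

/-- An orthonormal basis of the whole space. -/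
theorem exists_coords (hF : Fintype.card F = q₀ ^ 2) (hf : Cfsg.Geo.IsUnitaryFormPow q₀ f) :
    ∃ P : GL (Fin n) F, ∀ s t, f ((P : Matrix (Fin n) (Fin n) F) *ᵥ s) ((P : Matrix (Fin n) (Fin n) F) *ᵥ t) = Cfsg.hermForm n F q₀ s t := by
  classical
  have hg := isSesq_of_unitary hF hf
  have hswap : ∀ u v, f u v = 0 → f v u = 0 := fun u v h => by rw [hf.herm, h, zero_pow (q_ne_zero hF)]
  have key : ∀ (d : ℕ) (W : Submodule F (Fin n → F)), Module.finrank F W ≤ d →
      (∀ u ∈ W, (∀ v ∈ W, f u v = 0) → u = 0) →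
      ∃ (k : ℕ) (b : Fin k → Fin n → F), (∀ i j, f (b i) (b j) = if i = j then 1 else 0) ∧
        Submodule.span F (Set.range b) = W := by
    intro d
    induction d with
    | zero =>
      intro W hd _
      exact ⟨0, Fin.elim0, fun i => i.elim0, by simp [Submodule.finrank_eq_zero.1 (Nat.le_zero.1 hd)]⟩
    | succ d ih =>
      intro W hd hW
      by_cases hne : W = ⊥
      · exact ⟨0, Fin.elim0, fun i => i.elim0, by simp [hne]⟩
      obtain ⟨u, huW, hu0⟩ := W.exists_mem_ne_zero_of_ne_bot hne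
      obtain ⟨w, hwW, hw⟩ : ∃ w ∈ W, f w w ≠ 0 := by
        by_contra hcon
        push Not at hcon
        refine hu0 (hW u huW fun v hv => ?_)
        by_contra huv
        obtain ⟨a, ha⟩ := exists_trace_ne_zero hF
        apply ha
        have h1 := hcon _ (W.add_mem (W.smul_mem (a / f u v) huW) hv)
        rw [hg.add_left, hg.add_right, hg.add_right, hcon _ (W.smul_mem _ huW), hcon v hv, add_zero, zero_add,
          hg.smul_left, hg.smul_right, frob_apply, hf.herm v u, ← mul_pow, div_mul_cancel₀ a huv] at h1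
        exact h1
      obtain ⟨l, hl⟩ := exists_norm_eq hF (a := (f w w)⁻¹) (by rw [inv_pow, ← hf.herm])
      set v := l • w with hv
      have hvW : v ∈ W := W.smul_mem l hwW
      have hvv : f v v = 1 := by
        rw [hv, hg.smul_left, hg.smul_right, frob_apply, ← mul_assoc, hl, inv_mul_cancel₀ hw]
      let φ : (Fin n → F) →ₗ[F] F :=
        { toFun := fun x => f x v
          map_add' := fun x y => hg.add_left x y v
          map_smul' := fun a x => hg.smul_left a x v }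
      have hsplit : ∀ x ∈ W, x - f x v • v ∈ W ⊓ LinearMap.ker φ := by
        intro x hx
        refine ⟨W.sub_mem hx (W.smul_mem _ hvW), ?_⟩
        rw [SetLike.mem_coe, LinearMap.mem_ker, map_sub, map_smul, smul_eq_mul, show φ v = 1 from hvv, mul_one]
        exact sub_self _
      have hlt : Module.finrank F ↥(W ⊓ LinearMap.ker φ) < Module.finrank F W := by
        refine Submodule.finrank_lt_finrank_of_lt (lt_of_le_of_ne inf_le_left fun h => ?_)
        have : v ∈ W ⊓ LinearMap.ker φ := by rw [h]; exact hvW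
        exact one_ne_zero (hvv.symm.trans this.2)
      obtain ⟨k, b, hb, hspan⟩ := ih (W ⊓ LinearMap.ker φ) (by omega) (fun y hy h => by
        refine hW y hy.1 fun x hx => ?_
        have h1 := h _ (hsplit x hx)
        have h2 : f y v = 0 := hy.2
        rw [sub_eq_add_neg, ← neg_smul, hg.add_right, hg.smul_right, h2, mul_zero, add_zero] at h1
        exact h1)
      have hbv : ∀ i, f (b i) v = 0 := fun i => by
        have : b i ∈ W ⊓ LinearMap.ker φ := hspan ▸ Submodule.subset_span ⟨i, rfl⟩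
        exact this.2
      refine ⟨k + 1, Fin.cons v b, fun i j => ?_, ?_⟩
      · refine Fin.cases ?_ (fun i => ?_) i <;> refine Fin.cases ?_ (fun j => ?_) j
        · simpa using hvv
        · simpa [(Fin.succ_ne_zero j).symm] using hswap _ _ (hbv j)
        · simpa [Fin.succ_ne_zero i] using hbv i
        · simpa using hb i j
      · rw [Fin.range_cons, Submodule.span_insert, hspan]
        refine le_antisymm (sup_le ((Submodule.span_singleton_le_iff_mem _ _).2 hvW) inf_le_left) ?_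
        intro x hx
        rw [← add_sub_cancel (f x v • v) x]
        exact Submodule.add_mem_sup (Submodule.smul_mem _ _ (Submodule.mem_span_singleton_self v)) (hsplit x hx)
  obtain ⟨k, b, hb, hspan⟩ := key n ⊤ (by simp) (fun u _ h => hg.nd u fun v => h v trivial)
  have hli : LinearIndependent F b := by
    refine Fintype.linearIndependent_iff.2 fun c hc j => ?_
    have h1 : f (∑ i, c i • b i) (b j) = 0 := by rw [hc, hg.zero_left]
    simpa [hg.sum_left, hg.smul_left, hb] using h1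
  let B := Module.Basis.mk hli hspan.ge
  have hkn : k = n := by
    have := Module.finrank_eq_card_basis B
    simpa using this.symm
  subst hkn
  let L : (Fin k → F) ≃ₗ[F] (Fin k → F) := B.equivFun.symm
  refine ⟨Matrix.GeneralLinearGroup.toLin.symm ((LinearMap.GeneralLinearGroup.generalLinearEquiv F _).symm L), fun s t => ?_⟩
  have hP : ∀ v, ((Matrix.GeneralLinearGroup.toLin.symm ((LinearMap.GeneralLinearGroup.generalLinearEquiv F _).symm L) : GL (Fin k) F) : Matrix (Fin k) (Fin k) F) *ᵥ v = ∑ i, v i • b i := by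
    intro v
    rw [← Matrix.toLin'_apply]
    refine Eq.trans ?_ (show L v = ∑ i, v i • b i by simp [L, B, Module.Basis.equivFun_symm_apply])
    show Matrix.toLin' (LinearMap.toMatrix' (L : (Fin k → F) →ₗ[F] (Fin k → F))) v = L v
    rw [Matrix.toLin'_toMatrix']
    rfl
  rw [hP, hP, hg.sum_left, Cfsg.hermForm]
  refine Finset.sum_congr rfl fun i _ => ?_
  simp [hg.sum_right, hg.smul_left, hg.smul_right, hb, frob_apply]

/-- Every element of prime order `r` modulo scalars has a conjugate among the similitudes. -/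
def AllFix (f : (Fin n → F) → (Fin n → F) → F) (r : ℕ) : Prop :=
  ∀ x ∈ Cfsg.Geo.specialLinear (Fin n) F,
    (∃ z : F, ((x ^ r : GL (Fin n) F) : Matrix (Fin n) (Fin n) F) = z • (1 : Matrix (Fin n) (Fin n) F)) →
    (∀ z : F, (x : Matrix (Fin n) (Fin n) F) ≠ z • (1 : Matrix (Fin n) (Fin n) F)) →
    ∃ g ∈ Cfsg.Geo.specialLinear (Fin n) F, g⁻¹ * x * g ∈ Cfsg.Geo.similarityGroup f

theorem det_of_mem {x : GL (Fin n) F} (hx : x ∈ Cfsg.Geo.specialLinear (Fin n) F) :
    (x : Matrix (Fin n) (Fin n) F).det = 1 := by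
  rw [Cfsg.Geo.specialLinear, MonoidHom.mem_ker, ← Units.val_inj] at hx
  exact hx

/-- From a similarity with a similitude to a conjugacy by a matrix of determinant one. -/
theorem finish (P : GL (Fin n) F)
    (hP : ∀ s t, f ((P : Matrix (Fin n) (Fin n) F) *ᵥ s) ((P : Matrix (Fin n) (Fin n) F) *ᵥ t) = Cfsg.hermForm n F q₀ s t)
    (x g₀ : GL (Fin n) F) (y : Matrix (Fin n) (Fin n) F)
    (hxy : (x : Matrix (Fin n) (Fin n) F) * (g₀ : Matrix (Fin n) (Fin n) F) = (g₀ : Matrix (Fin n) (Fin n) F) * y)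
    {c : F} (hc : c ≠ 0) (hy : ∀ s t, Cfsg.hermForm n F q₀ (y *ᵥ s) (y *ᵥ t) = c * Cfsg.hermForm n F q₀ s t)
    (hD : ∀ t : F, t ≠ 0 → ∃ D : Matrix (Fin n) (Fin n) F, D * y = y * D ∧ D.det = t) :
    ∃ g ∈ Cfsg.Geo.specialLinear (Fin n) F, g⁻¹ * x * g ∈ Cfsg.Geo.similarityGroup f := by
  have hg0 := (g₀.isUnit.map Matrix.detMonoidHom).ne_zero
  have hP0 := (P.isUnit.map Matrix.detMonoidHom).ne_zero
  change (g₀ : Matrix (Fin n) (Fin n) F).det ≠ 0 at hg0
  change (P : Matrix (Fin n) (Fin n) F).det ≠ 0 at hP0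
  obtain ⟨D, hDy, hDd⟩ := hD ((P : Matrix (Fin n) (Fin n) F).det / (g₀ : Matrix (Fin n) (Fin n) F).det)
    (div_ne_zero hP0 hg0)
  let Du : GL (Fin n) F := Matrix.GeneralLinearGroup.mkOfDetNeZero D (by rw [hDd]; exact div_ne_zero hP0 hg0)
  have hDu : (Du : Matrix (Fin n) (Fin n) F) = D := rfl
  refine ⟨g₀ * Du * P⁻¹, ?_, Units.mk0 c hc, fun u v => ?_⟩
  · rw [Cfsg.Geo.specialLinear, MonoidHom.mem_ker, ← Units.val_inj, map_mul, map_mul, map_inv, Units.val_mul,
      Units.val_mul, Units.val_inv_eq_inv_val]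
    show (g₀ : Matrix (Fin n) (Fin n) F).det * (Du : Matrix (Fin n) (Fin n) F).det * (P : Matrix (Fin n) (Fin n) F).det⁻¹ = 1
    rw [hDu, hDd]
    field_simp
  · have hxg : x * g₀ * Du = g₀ * Du * (Du⁻¹ * (g₀⁻¹ * x * g₀) * Du) := by group
    have hy' : ((Du⁻¹ * (g₀⁻¹ * x * g₀) * Du : GL (Fin n) F) : Matrix (Fin n) (Fin n) F) = y := by
      have h1 : ((g₀⁻¹ * x * g₀ : GL (Fin n) F) : Matrix (Fin n) (Fin n) F) = y := by
        rw [Units.val_mul, Units.val_mul, mul_assoc, hxy, Units.inv_mul_cancel_left]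
      rw [Units.val_mul, Units.val_mul, h1, mul_assoc, hDu, ← hDy, ← hDu, Units.inv_mul_cancel_left]
    have hrw : (g₀ * Du * P⁻¹)⁻¹ * x * (g₀ * Du * P⁻¹) = P * (Du⁻¹ * (g₀⁻¹ * x * g₀) * Du) * P⁻¹ := by group
    rw [hrw, Units.val_mul, Units.val_mul, hy', ← Matrix.mulVec_mulVec, ← Matrix.mulVec_mulVec,
      ← Matrix.mulVec_mulVec, ← Matrix.mulVec_mulVec, hP, hy, ← hP]
    simp [Matrix.mulVec_mulVec]

/-- The multiplier of a similitude is fixed by the involution. -/
theorem factor_fixed (hF : Fintype.card F = q₀ ^ 2) (hf : Cfsg.Geo.IsUnitaryFormPow q₀ f) (hn : 0 < n)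
    {y : Matrix (Fin n) (Fin n) F} {c : F} (h : ∀ u v, f (y *ᵥ u) (y *ᵥ v) = c * f u v) : c ^ q₀ = c := by
  haveI : NeZero n := ⟨by omega⟩
  obtain ⟨P, hP⟩ := exists_coords hF hf
  set v := (P : Matrix (Fin n) (Fin n) F) *ᵥ Pi.single 0 1
  have hv : f v v = 1 := by rw [hP, herm_single_single hF, if_pos rfl]
  have h1 := h v v
  rw [hv, mul_one] at h1
  rw [← h1, ← hf.herm]

/-- Companion blocks of `X² - z`. -/
def blocks {m : ℕ} (e : Fin 2 × Fin m ≃ Fin n) (z : F) : Matrix (Fin n) (Fin n) F :=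
  Matrix.reindex e e (Matrix.blockDiagonal fun _ : Fin m => !![0, z; 1, 0])

omit [Fintype F] in
theorem blocks_spec {m : ℕ} (e : Fin 2 × Fin m ≃ Fin n) (z : F) :
    blocks e z * blocks e z = z • 1 ∧ (blocks e z).det = (-z) ^ m := by
  refine ⟨?_, ?_⟩
  · have h3 : (fun _ : Fin m => !![(0 : F), z; 1, 0] * !![0, z; 1, 0]) = z • (1 : Fin m → Matrix (Fin 2) (Fin 2) F) := by
      funext i; ext r c; fin_cases r <;> fin_cases c <;> simp [Matrix.mul_apply, Fin.sum_univ_two]
    rw [blocks, Matrix.reindex_apply, Matrix.submatrix_mul_equiv, ← Matrix.blockDiagonal_mul, h3,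
      Matrix.blockDiagonal_smul, Matrix.blockDiagonal_one, Matrix.submatrix_smul]
    simp
  · rw [blocks, Matrix.det_reindex_self, Matrix.det_blockDiagonal]
    simp [Matrix.det_fin_two]

theorem isSquare_neg_one (hF : Fintype.card F = q₀ ^ 2) (hq : Odd q₀) : IsSquare (-1 : F) := by
  rw [FiniteField.isSquare_neg_one_iff, hF]
  obtain ⟨k, hk⟩ := hq
  rw [hk, show (2 * k + 1) ^ 2 = 4 * (k * k + k) + 1 by ring]
  omega

/-- The order of a non-square carries the whole 2-part of `q - 1`. -/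
theorem two_part_le (hrc : ringChar F ≠ 2) {w : F} (hw : ¬ IsSquare w) {m : ℕ} (hm : m ≠ 0) (h : w ^ m = 1) :
    padicValNat 2 (Fintype.card F - 1) ≤ padicValNat 2 m := by
  classical
  haveI : Fact (Nat.Prime 2) := ⟨Nat.prime_two⟩
  have hw0 : w ≠ 0 := fun h0 => by rw [h0, zero_pow hm] at h; exact zero_ne_one h
  have hhalf : Fintype.card F - 1 = 2 * (Fintype.card F / 2) := by
    have := FiniteField.odd_card_of_char_ne_two hrc
    omega
  have hq1 : Fintype.card F - 1 ≠ 0 := by have := Fintype.one_lt_card (α := F); omega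
  obtain ⟨j, hj⟩ : orderOf w ∣ Fintype.card F - 1 := orderOf_dvd_of_pow_eq_one (FiniteField.pow_card_sub_one_eq_one w hw0)
  have ho : orderOf w ≠ 0 := fun h0 => hq1 (by rw [hj, h0, zero_mul])
  have hj2 : ¬ 2 ∣ j := by
    rintro ⟨i, rfl⟩
    refine hw ((FiniteField.isSquare_iff hrc hw0).2 (orderOf_dvd_iff_pow_eq_one.1 ⟨i, ?_⟩))
    rw [mul_left_comm] at hj
    omega
  have hj0 : j ≠ 0 := fun h0 => hj2 (h0 ▸ dvd_zero 2)
  rw [hj, padicValNat.mul ho hj0, padicValNat.eq_zero_of_not_dvd hj2, add_zero]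
  exact (padicValNat_dvd_iff_le hm).1 (pow_padicValNat_dvd.trans (orderOf_dvd_of_pow_eq_one h))

theorem exists_two_norm_neg_one (hF : Fintype.card F = q₀ ^ 2) :
    ∃ δ δ' : F, δ * δ ^ q₀ = -1 ∧ δ' * δ' ^ q₀ = -1 ∧ δ ≠ δ' := by
  have h := card_norm_eq hF (a := (-1 : F)) (neg_ne_zero.2 one_ne_zero) (by rw [neg_pow_q hF, one_pow])
  have := two_le_q hF
  haveI : Nontrivial {x : F // x * x ^ q₀ = -1} := Finite.one_lt_card_iff_nontrivial.1 (by omega)
  obtain ⟨a, b, hab⟩ := exists_pair_ne {x : F // x * x ^ q₀ = -1}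
  exact ⟨a, b, a.2, b.2, fun h => hab (Subtype.ext h)⟩

omit [Fintype F] in
/-- The scalar `x ^ r` is one when `n = r` and `F` has no element of order `r²`. -/
theorem eq_one_of_scalar [Fintype F] {r : ℕ} (hrp : r.Prime) (hr2 : r ≠ 2) (hnr : n = r)
    {x : Matrix (Fin n) (Fin n) F} {z : F} (hdet : x.det = 1) (hz : x ^ r = z • 1) (hzr : z ^ r = 1)
    (hnd2 : ¬ r ^ 2 ∣ Fintype.card F - 1) : z = 1 := by
  classical
  haveI : NeZero n := ⟨by rw [hnr]; exact hrp.ne_zero⟩
  haveI : Nonempty (Fin n) := ⟨0⟩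
  by_contra hne
  have hnroot : ∀ b : F, b ^ r ≠ z := by
    intro b hb
    have hb0 : b ≠ 0 := fun h0 => by
      rw [h0, zero_pow hrp.ne_zero] at hb
      rw [← hb, zero_pow hrp.ne_zero] at hzr
      exact zero_ne_one hzr
    let u : Fˣ := Units.mk0 b hb0
    have h1 : orderOf u ∣ r ^ 2 := orderOf_dvd_of_pow_eq_one (Units.ext (by
      simp [u, sq, pow_mul, hb, hzr]))
    have h2 : orderOf u ∣ Fintype.card F - 1 := by rw [← Fintype.card_units]; exact orderOf_dvd_card
    obtain ⟨j, hj, hju⟩ := (Nat.dvd_prime_pow hrp).1 h1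
    have h3 : orderOf u ∣ r := by
      interval_cases j
      · rw [hju, pow_zero]; exact one_dvd r
      · rw [hju, pow_one]
      · exact absurd (hju ▸ h2) hnd2
    have h4 : b ^ r = 1 := by
      simpa [u] using congrArg Units.val (orderOf_dvd_iff_pow_eq_one.1 h3)
    exact hne (hb ▸ h4)
  have hirr := X_pow_sub_C_irreducible_of_prime hrp hnroot
  have hmon : (Polynomial.X ^ r - Polynomial.C z).Monic := Polynomial.monic_X_pow_sub_C z hrp.ne_zero
  have haev : Polynomial.aeval x (Polynomial.X ^ r - Polynomial.C z) = 0 := by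
    simp [hz, Algebra.algebraMap_eq_smul_one]
  have hmin := minpoly.eq_of_irreducible_of_monic hirr haev hmon
  have hchar : x.charpoly = Polynomial.X ^ r - Polynomial.C z := by
    refine (Polynomial.eq_of_monic_of_dvd_of_natDegree_le hmon (Matrix.charpoly_monic _) ?_ ?_)
    · rw [hmin]; exact Matrix.minpoly_dvd_charpoly _
    · rw [Matrix.charpoly_natDegree_eq_dim, Fintype.card_fin, Polynomial.natDegree_X_pow_sub_C, hnr]
  have h1 := Matrix.det_eq_sign_charpoly_coeff x
  rw [hdet, hchar, Fintype.card_fin, hnr, (hrp.odd_of_ne_two hr2).neg_one_pow] at h1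
  simp [Polynomial.coeff_X_pow, Ne.symm hrp.ne_zero] at h1
  exact hne h1.symm

/-! ### Involutions -/

theorem allFix_two_of_square (hF : Fintype.card F = q₀ ^ 2) (P : GL (Fin n) F)
    (hP : ∀ s t, f ((P : Matrix (Fin n) (Fin n) F) *ᵥ s) ((P : Matrix (Fin n) (Fin n) F) *ᵥ t) = Cfsg.hermForm n F q₀ s t)
    (hn : 0 < n) (h2 : (2 : F) ≠ 0) (x : GL (Fin n) F) {μ : F} (hμ0 : μ ≠ 0)
    (hz : (x : Matrix (Fin n) (Fin n) F) * (x : Matrix (Fin n) (Fin n) F) = (μ * μ) • (1 : Matrix (Fin n) (Fin n) F)) :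
    ∃ g ∈ Cfsg.Geo.specialLinear (Fin n) F, g⁻¹ * x * g ∈ Cfsg.Geo.similarityGroup f := by
  classical
  haveI : NeZero n := ⟨by omega⟩
  have hμμ : μ ≠ -μ := fun h1 => by
    have h3 : (2 : F) * μ = 0 := by linear_combination h1
    exact hμ0 ((mul_eq_zero.1 h3).resolve_left h2)
  obtain ⟨ev, hev, hevσ⟩ := Cfsg.Agent.H99.exists_specialLinear_conj_diagonal x {μ, -μ} (by
    rw [Finset.prod_insert (by simpa using hμμ), Finset.prod_singleton, map_mul]
    simp only [map_sub, map_neg, sub_neg_eq_add, map_add, Polynomial.aeval_X, Polynomial.aeval_C,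
      Algebra.algebraMap_eq_smul_one]
    rw [sub_mul, mul_add, mul_add, hz]
    simp [smul_smul, add_comm])
  obtain ⟨g₀, -, hx⟩ := hevσ 1
  rw [show (ev ∘ (1 : Equiv.Perm (Fin n))) = ev from rfl] at hx
  refine finish P hP x g₀ (Matrix.diagonal ev) ?_ (mul_ne_zero hμ0 (pow_ne_zero q₀ hμ0)) (fun s t => ?_)
    fun t _ => ⟨Matrix.diagonal (Function.update 1 0 t), Matrix.commute_diagonal _ _, ?_⟩
  · rw [← hx, ← Units.val_mul, ← Units.val_mul]
    congr 1
    group
  · rw [Cfsg.hermForm, Cfsg.hermForm, Finset.mul_sum]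
    refine Finset.sum_congr rfl fun i _ => ?_
    rw [Matrix.mulVec_diagonal, Matrix.mulVec_diagonal, mul_pow]
    have : ev i * ev i ^ q₀ = μ * μ ^ q₀ := by
      have h := hev i
      simp only [Finset.mem_insert, Finset.mem_singleton] at h
      rcases h with h | h <;> rw [h]
      rw [neg_pow_q hF]; ring
    linear_combination (s i * t i ^ q₀) * this
  · rw [Matrix.det_diagonal, Finset.prod_update_of_mem (Finset.mem_univ _)]
    simp

theorem allFix_two_char_two (hF : Fintype.card F = q₀ ^ 2) [CharP F 2] (P : GL (Fin n) F)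
    (hP : ∀ s t, f ((P : Matrix (Fin n) (Fin n) F) *ᵥ s) ((P : Matrix (Fin n) (Fin n) F) *ᵥ t) = Cfsg.hermForm n F q₀ s t)
    (hn : 0 < n) (x : GL (Fin n) F) {μ : F} (hμ0 : μ ≠ 0)
    (hz : (x : Matrix (Fin n) (Fin n) F) * (x : Matrix (Fin n) (Fin n) F) = (μ * μ) • (1 : Matrix (Fin n) (Fin n) F)) :
    ∃ g ∈ Cfsg.Geo.specialLinear (Fin n) F, g⁻¹ * x * g ∈ Cfsg.Geo.similarityGroup f := by
  classical
  haveI : NeZero n := ⟨by omega⟩
  haveI : Fact (Nat.Prime 2) := ⟨Nat.prime_two⟩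
  let N : Matrix (Fin n) (Fin n) F := μ⁻¹ • (x : Matrix (Fin n) (Fin n) F) - 1
  have hxN : (x : Matrix (Fin n) (Fin n) F) = μ • (1 + N) := by
    rw [add_sub_cancel, smul_smul, mul_inv_cancel₀ hμ0, one_smul]
  have hN : N * N = 0 := by
    haveI : Nonempty (Fin n) := ⟨0⟩
    haveI : CharP (Matrix (Fin n) (Fin n) F) 2 := Matrix.charP 2
    rw [← sq, sub_pow_char_of_commute 2 (Commute.one_right _), one_pow, smul_pow, sq (x : Matrix (Fin n) (Fin n) F), hz,
      smul_smul, ← sq μ, ← mul_pow, inv_mul_cancel₀ hμ0, one_pow, one_smul, sub_self]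
  obtain ⟨k, l, b, hb1, hb2, hb3⟩ := Cfsg.Agent.H99.exists_pair_basis (Matrix.toLin' N) (0 : F) (fun v => by
    rw [Matrix.toLin'_apply, Matrix.toLin'_apply, Matrix.mulVec_mulVec, hN, Matrix.zero_mulVec, zero_smul])
  have hkl : 2 * k + l = n := by
    have := Module.finrank_eq_card_basis b
    simp [Cfsg.Agent.H99.PairIdx] at this
    omega
  have hker : ∀ j, N *ᵥ b (Sum.inr j) = 0 := by
    intro j
    obtain ⟨c, hc⟩ := hb3 j
    rw [Matrix.toLin'_apply] at hc
    have h1 : N *ᵥ (N *ᵥ b (Sum.inr j)) = 0 := by rw [Matrix.mulVec_mulVec, hN, Matrix.zero_mulVec]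
    rw [hc, Matrix.mulVec_smul, hc, smul_smul] at h1
    rw [hc, mul_self_eq_zero.1 ((smul_eq_zero.1 h1).resolve_right (b.ne_zero _)), zero_smul]
  let b' : Cfsg.Agent.H99.PairIdx k l → (Fin n → F) := Sum.elim
    (fun a => if a.2 then b (Sum.inl (a.1, false)) + b (Sum.inl (a.1, true)) else b (Sum.inl (a.1, false)))
    (fun j => b (Sum.inr j))
  have hxb : ∀ s, (x : Matrix (Fin n) (Fin n) F) *ᵥ b' s = μ • b' (Cfsg.Agent.H99.pairFlip s) := by
    intro s
    rw [hxN, Matrix.smul_mulVec, Matrix.add_mulVec, Matrix.one_mulVec]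
    congr 1
    have h1 : ∀ i, N *ᵥ b (Sum.inl (i, false)) = b (Sum.inl (i, true)) := fun i => hb1 i
    have h2 : ∀ i, N *ᵥ b (Sum.inl (i, true)) = 0 := fun i => (hb2 i).trans (zero_smul _ _)
    rcases s with ⟨i, _ | _⟩ | j
    · simp [b', Cfsg.Agent.H99.pairFlip, h1]
    · simp only [b', Cfsg.Agent.H99.pairFlip, Sum.map_inl, Bool.not_true, Sum.elim_inl, if_true, if_false,
        Bool.false_eq_true, Matrix.mulVec_add, h1, h2, add_zero]
      rw [add_assoc, ← two_smul F (b (Sum.inl (i, true))), CharTwo.two_eq_zero, zero_smul, add_zero]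
    · simp [b', Cfsg.Agent.H99.pairFlip, hker]
  let ε : Cfsg.Agent.H99.PairIdx k l ≃ Fin n := Fintype.equivFinOfCardEq (by simp [Cfsg.Agent.H99.PairIdx]; omega)
  let σ : Equiv.Perm (Fin n) := ε.symm.trans ((Function.Involutive.toPerm Cfsg.Agent.H99.pairFlip (by
    rintro (⟨i, c⟩ | j) <;> simp [Cfsg.Agent.H99.pairFlip])).trans ε)
  have hσ : ∀ s, σ (ε s) = ε (Cfsg.Agent.H99.pairFlip s) := fun s => by simp [σ]; rfl
  have hσσ : ∀ i, σ (σ i) = i := fun i => by
    obtain ⟨s, rfl⟩ := ε.surjective i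
    rw [hσ, hσ]
    rcases s with ⟨i, c⟩ | j <;> simp [Cfsg.Agent.H99.pairFlip]
  let G : Matrix (Fin n) (Fin n) F := Matrix.of fun r c => b' (ε.symm c) r
  have hG : ∀ w, G *ᵥ w = ∑ c, w c • b' (ε.symm c) := fun w => by
    funext r
    simp [G, Matrix.mulVec, dotProduct, Finset.sum_apply, mul_comm]
  have hGd : G.det ≠ 0 := by
    refine ((Matrix.isUnit_iff_isUnit_det G).1 (Matrix.mulVec_surjective_iff_isUnit.1 ?_)).ne_zero
    show Function.Surjective (Matrix.toLin' G)
    rw [← LinearMap.range_eq_top, eq_top_iff, ← b.span_eq, Submodule.span_le]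
    have hmem : ∀ s, b' s ∈ LinearMap.range (Matrix.toLin' G) := fun s =>
      ⟨Pi.single (ε s) 1, by simp [Matrix.toLin'_apply, hG, Pi.single_apply]⟩
    rintro - ⟨s, rfl⟩
    rcases s with ⟨i, _ | _⟩ | j
    · exact hmem (Sum.inl (i, false))
    · have := Submodule.sub_mem _ (hmem (Sum.inl (i, true))) (hmem (Sum.inl (i, false)))
      simpa [b'] using this
    · exact hmem (Sum.inr j)
  let y : Matrix (Fin n) (Fin n) F := μ • σ.permMatrix F
  have hy : ∀ w i, (y *ᵥ w) i = μ * w (σ i) := fun w i => by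
    simp [y, Matrix.smul_mulVec, Matrix.permMatrix_mulVec]
  have hexD : ∀ t : F, t ≠ 0 → ∃ d : Fin n → F, (∀ i, d (σ i) = d i) ∧ ∏ i, d i = t := by
    intro t _
    by_cases hk : 0 < k
    · obtain ⟨a, ha⟩ := FiniteField.isSquare_of_char_two (ringChar.eq F 2) t
      let i₀ : Fin k := ⟨0, hk⟩
      let δ : Cfsg.Agent.H99.PairIdx k l → F := Sum.elim (fun p => if p.1 = i₀ then a else 1) (fun _ => 1)
      refine ⟨fun i => δ (ε.symm i), fun i => ?_, ?_⟩
      · obtain ⟨s, rfl⟩ := ε.surjective i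
        simp only [hσ, Equiv.symm_apply_apply]
        rcases s with ⟨i, c⟩ | j <;> simp [δ, Cfsg.Agent.H99.pairFlip]
      · rw [← ε.prod_comp]
        simp only [Equiv.symm_apply_apply, δ, Fintype.prod_sum_type, Sum.elim_inl, Sum.elim_inr, Finset.prod_const_one,
          mul_one, Fintype.prod_prod_type, Fintype.prod_bool]
        rw [Finset.prod_eq_single i₀ (fun i _ hi => by simp [hi]) (by simp), if_pos rfl, ha]
    · have hl : 0 < l := by omega
      let s₀ : Cfsg.Agent.H99.PairIdx k l := Sum.inr ⟨0, hl⟩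
      refine ⟨Function.update 1 (ε s₀) t, fun i => ?_, ?_⟩
      · obtain ⟨s, rfl⟩ := ε.surjective i
        rcases s with ⟨i, c⟩ | j
        · exact absurd i.pos hk
        · rw [hσ]; rfl
      · rw [Finset.prod_update_of_mem (Finset.mem_univ _)]; simp
  refine finish P hP x (Matrix.GeneralLinearGroup.mkOfDetNeZero G hGd) y ?_
    (mul_ne_zero hμ0 (pow_ne_zero q₀ hμ0)) (fun s t => ?_) (fun t ht => ?_)
  · show (x : Matrix (Fin n) (Fin n) F) * G = G * y
    refine Matrix.ext_iff_mulVec.2 fun w => ?_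
    rw [← Matrix.mulVec_mulVec, ← Matrix.mulVec_mulVec, hG, hG, Matrix.mulVec_sum]
    conv_rhs => rw [← Equiv.sum_comp σ]
    refine Finset.sum_congr rfl fun c _ => ?_
    rw [hy, hσσ, Matrix.mulVec_smul, hxb, smul_smul, mul_comm (w c)]
    congr 2
    obtain ⟨s, rfl⟩ := ε.surjective c
    rw [hσ, Equiv.symm_apply_apply, Equiv.symm_apply_apply]
  · rw [Cfsg.hermForm, Cfsg.hermForm, Finset.mul_sum]
    conv_rhs => rw [← Equiv.sum_comp σ]
    refine Finset.sum_congr rfl fun i _ => ?_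
    rw [hy, hy, mul_pow]
    ring
  · obtain ⟨d, hd, hdd⟩ := hexD t ht
    refine ⟨Matrix.diagonal d, Matrix.ext_iff_mulVec.2 fun w => funext fun i => ?_, by rw [Matrix.det_diagonal, hdd]⟩
    rw [← Matrix.mulVec_mulVec, ← Matrix.mulVec_mulVec, Matrix.mulVec_diagonal, hy, hy, Matrix.mulVec_diagonal, hd]
    ring

theorem allFix_two (hF : Fintype.card F = q₀ ^ 2) (hf : Cfsg.Geo.IsUnitaryFormPow q₀ f) (p : ℕ) [CharP F p]
    [Fact p.Prime] (hn : 0 < n) (h : p = 2 ∨ padicValNat 2 n ≤ padicValNat 2 (Fintype.card F - 1)) : AllFix f 2 := by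
  classical
  intro x hx hxz hns
  obtain ⟨z, hz⟩ := hxz
  obtain ⟨P, hP⟩ := exists_coords hF hf
  haveI : NeZero n := ⟨by omega⟩
  haveI : Nonempty (Fin n) := ⟨0⟩
  have hdet := det_of_mem hx
  rw [Units.val_pow_eq_pow_val, sq] at hz
  have hzn : z ^ n = 1 := by
    have h1 := congrArg Matrix.det hz
    rw [Matrix.det_mul, hdet, Matrix.det_smul, Matrix.det_one, Fintype.card_fin, mul_one, mul_one] at h1
    exact h1.symm
  have hz0 : z ≠ 0 := fun h => by rw [h, zero_pow (NeZero.ne n)] at hzn; exact zero_ne_one hzn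
  by_cases hp : p = 2
  · subst hp
    obtain ⟨μ, rfl⟩ := FiniteField.isSquare_of_char_two (ringChar.eq F 2) z
    exact allFix_two_char_two hF P hP hn x (fun e => hz0 (by rw [e, mul_zero])) hz
  have hrc : ringChar F ≠ 2 := by rw [ringChar.eq F p]; exact hp
  by_cases hsq : IsSquare z
  · obtain ⟨μ, rfl⟩ := hsq
    exact allFix_two_of_square hF P hP hn (Ring.two_ne_zero hrc) x (fun e => hz0 (by rw [e, mul_zero])) hz
  · exfalso
    have hle := h.resolve_left hp
    have hne : ∀ b : F, b ^ 2 ≠ z := fun b hb => hsq ⟨b, by rw [← hb, sq]⟩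
    obtain ⟨m, hm⟩ : Even n := by
      by_contra hev
      rw [Nat.not_even_iff_odd] at hev
      obtain ⟨k, hk⟩ := hev
      refine hsq ⟨(z ^ k)⁻¹, ?_⟩
      rw [← mul_inv]
      refine eq_inv_of_mul_eq_one_right ?_
      rw [← pow_add, ← pow_succ, show k + k + 1 = n by omega, hzn]
    let e : Fin 2 × Fin m ≃ Fin n := finProdFinEquiv.trans (finCongr (by omega))
    obtain ⟨hyy, hyd⟩ := blocks_spec e z
    obtain ⟨Q, hQ⟩ := Cfsg.Agent.H99.exists_specialLinear_conj_of_irreducible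
      (X_pow_sub_C_irreducible_of_prime Nat.prime_two hne) (x := (x : Matrix (Fin n) (Fin n) F)) (y := blocks e z)
      (by simp [sq, hz, Algebra.algebraMap_eq_smul_one]) (by simp [sq, hyy, Algebra.algebraMap_eq_smul_one])
    have hone : (-z) ^ m = 1 := by
      have h1 := congrArg Matrix.det hQ
      rw [Matrix.det_mul, Matrix.det_mul, hdet, Q.det_coe, one_mul, one_mul, hyd] at h1
      exact h1.symm
    have hq0 : Odd q₀ := by
      rw [← Nat.not_even_iff_odd]
      intro hev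
      have h1 := FiniteField.odd_card_of_char_ne_two hrc
      rw [hF, ← Nat.odd_iff] at h1
      exact Nat.not_odd_iff_even.2 (Nat.even_pow.2 ⟨hev, two_ne_zero⟩) h1
    have hneg : IsSquare (-1 : F) := isSquare_neg_one hF hq0
    have hw : ¬ IsSquare (-z) := fun hw => hsq (by simpa using hw.mul hneg)
    have hm0 : 0 < m := by omega
    have h1 := two_part_le hrc hw (by omega) hone
    rw [show n = 2 * m by omega, padicValNat.mul two_ne_zero hm0.ne', padicValNat.self (by norm_num)] at hle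
    omega

/-- A matrix with non-square scalar square preserves no form up to a scalar. -/
theorem not_allFix_two (hF : Fintype.card F = q₀ ^ 2) (hf : Cfsg.Geo.IsUnitaryFormPow q₀ f) (hn : 0 < n)
    (p : ℕ) [CharP F p] (hp : p ≠ 2) (hv : padicValNat 2 (Fintype.card F - 1) < padicValNat 2 n) :
    ¬ AllFix f 2 := by
  classical
  intro hall
  have hrc : ringChar F ≠ 2 := by rw [ringChar.eq F p]; exact hp
  have hq0 : Odd q₀ := by
    rw [← Nat.not_even_iff_odd]
    intro hev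
    have h1 := FiniteField.odd_card_of_char_ne_two hrc
    rw [hF, ← Nat.odd_iff] at h1
    exact Nat.not_odd_iff_even.2 (Nat.even_pow.2 ⟨hev, two_ne_zero⟩) h1
  set v := padicValNat 2 (Fintype.card F - 1) with hvdef
  haveI : Fact (Nat.Prime 2) := ⟨Nat.prime_two⟩
  have hq1 : Fintype.card F - 1 ≠ 0 := by have := Fintype.one_lt_card (α := F); omega
  have h2n : 2 ^ (v + 1) ∣ n := (padicValNat_dvd_iff_le hn.ne').2 hv
  obtain ⟨j, hj⟩ := h2n
  obtain ⟨w, hw⟩ := Cfsg.Agent.S5981.exists_unit_order (F := F) (k := 2 ^ v) pow_padicValNat_dvd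
  have hhalf : Fintype.card F - 1 = 2 * (Fintype.card F / 2) := by
    have := FiniteField.odd_card_of_char_ne_two hrc
    omega
  have hnsw : ¬ IsSquare (w : F) := by
    intro hsq
    have h1 := (FiniteField.isSquare_iff hrc w.ne_zero).1 hsq
    rw [← Units.val_pow_eq_pow_val, Units.val_eq_one, ← orderOf_dvd_iff_pow_eq_one, hw] at h1
    have h2 : 2 ^ (v + 1) ∣ Fintype.card F - 1 := by rw [hhalf, pow_succ']; exact Nat.mul_dvd_mul_left 2 h1
    have := (padicValNat_dvd_iff_le hq1).1 h2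
    omega
  set z : F := -(w : F) with hz
  have hsq : ¬ IsSquare z := fun h => hnsw (by simpa [hz] using h.mul (isSquare_neg_one hF hq0))
  let m := 2 ^ v * j
  let e : Fin 2 × Fin m ≃ Fin n := finProdFinEquiv.trans (finCongr (by rw [hj, pow_succ']; ring))
  obtain ⟨hyy, hyd⟩ := blocks_spec e z
  have hdet : (blocks e z).det = 1 := by
    rw [hyd, hz, neg_neg, ← Units.val_pow_eq_pow_val, Units.val_eq_one, ← orderOf_dvd_iff_pow_eq_one, hw]
    exact dvd_mul_right _ _
  let x : GL (Fin n) F := Matrix.GeneralLinearGroup.mkOfDetNeZero (blocks e z) (by rw [hdet]; exact one_ne_zero)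
  have hxx : (x : Matrix (Fin n) (Fin n) F) * (x : Matrix (Fin n) (Fin n) F) = z • 1 := hyy
  haveI : NeZero n := ⟨by omega⟩
  obtain ⟨g, -, c, hc⟩ := hall x (by
    rw [Cfsg.Geo.specialLinear, MonoidHom.mem_ker, ← Units.val_inj]; exact hdet)
    ⟨z, by rw [Units.val_pow_eq_pow_val, sq]; exact hxx⟩ (fun t ht => hsq ⟨t, by
      rw [ht, Matrix.smul_mul, one_mul, smul_smul] at hxx
      simpa using (congrFun (congrFun hxx 0) 0).symm⟩)
  set y := ((g⁻¹ * x * g : GL (Fin n) F) : Matrix (Fin n) (Fin n) F) with hy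
  have hy2 : y * y = z • 1 := by
    rw [hy, ← Units.val_mul, show g⁻¹ * x * g * (g⁻¹ * x * g) = g⁻¹ * (x * x) * g by group, Units.val_mul,
      Units.val_mul, Units.val_mul, hxx, Matrix.mul_smul, mul_one, Matrix.smul_mul, Units.inv_mul]
  have hg := isSesq_of_unitary hF hf
  obtain ⟨P, hP⟩ := exists_coords hF hf
  set u := (P : Matrix (Fin n) (Fin n) F) *ᵥ Pi.single 0 1
  have hu : f u u = 1 := by rw [hP, herm_single_single hF, if_pos rfl]
  have h1 : z * z ^ q₀ = (c : F) * c := by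
    have h2 := hc (y *ᵥ u) (y *ᵥ u)
    rw [hc u u, Matrix.mulVec_mulVec, hy2, Matrix.smul_mulVec, Matrix.one_mulVec, hg.smul_left,
      hg.smul_right, frob_apply, hu, mul_one, mul_one] at h2
    exact h2
  have hcq : (c : F) ^ q₀ = c := factor_fixed hF hf hn hc
  refine hsq ((FiniteField.isSquare_iff hrc (neg_ne_zero.2 w.ne_zero)).2 ?_)
  obtain ⟨k, hk⟩ := hq0
  have hck : (c : F) ^ (2 * k) = 1 := by
    refine mul_right_cancel₀ c.ne_zero ?_
    rw [one_mul, ← pow_succ, ← hk, hcq]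
  have hdiv : Fintype.card F / 2 = (q₀ + 1) * k := by
    rw [hF, hk, show (2 * k + 1) ^ 2 = 2 * ((2 * k + 1 + 1) * k) + 1 by ring]
    omega
  rw [hdiv, pow_mul, pow_succ', h1, ← sq, ← pow_mul, hck]

/-- The isometry group has the order of the general unitary group. -/
theorem index_cases (hF : Fintype.card F = q₀ ^ 2) (hf : Cfsg.Geo.IsUnitaryFormPow q₀ f) (r : ℕ) (hr : r.Prime)
    (hΩ : r ∣ (Cfsg.Geo.similarityGroup f).relIndex (Cfsg.Geo.specialLinear (Fin n) F)) :
    r ∣ q₀ ∨ ∃ i, 0 < i ∧ i ≤ n ∧ (-(q₀ : ZMod r)) ^ i = -1 := by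
  classical
  obtain ⟨P, hP⟩ := exists_coords hF hf
  let S : Subgroup (GL (Fin n) F) := (Cfsg.GU n F q₀).map (MulAut.conj P).toMonoidHom
  have hle : S ≤ Cfsg.Geo.similarityGroup f := by
    rintro - ⟨h, hh, rfl⟩
    refine ⟨1, fun u v => ?_⟩
    rw [Units.val_one, one_mul, MulEquiv.coe_toMonoidHom, MulAut.conj_apply, Units.val_mul, Units.val_mul,
      ← Matrix.mulVec_mulVec, ← Matrix.mulVec_mulVec, ← Matrix.mulVec_mulVec, ← Matrix.mulVec_mulVec, hP,
      mem_GU_iff.1 hh, ← hP]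
    simp [Matrix.mulVec_mulVec]
  haveI : (Cfsg.Geo.specialLinear (Fin n) F).Normal := by unfold Cfsg.Geo.specialLinear; infer_instance
  have h2 : r ∣ S.index :=
    (hΩ.trans (Subgroup.relIndex_dvd_of_le_left _ hle)).trans (Cfsg.Agent.S5981.relIndex_dvd_index S _)
  have hidx := S.card_mul_index
  rw [Subgroup.card_map_of_injective (MulAut.conj P).injective, card_GU hF, Cfsg.Agent.S5981.card_GL, hF] at hidx
  let cf : ℕ → ℕ := fun i => if Even i then q₀ ^ (i + 1) - 1 else q₀ ^ (i + 1) + 1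
  have hfac : ∀ i, (q₀ ^ 2) ^ (i + 1) - 1 = cf i * guFactor q₀ i := by
    intro i
    rw [← pow_mul, mul_comm 2, pow_mul, Cfsg.Agent.S5981.pow_sq_sub_one]
    simp only [cf, guFactor]
    split_ifs <;> ring
  have hpos : 0 < ∏ i ∈ Finset.range n, guFactor q₀ i := Finset.prod_pos fun i _ => by
    have : 1 < q₀ ^ (i + 1) := Nat.one_lt_pow (by omega) (two_le_q hF)
    simp only [guFactor]
    split_ifs <;> omega
  rw [Finset.prod_congr rfl fun i _ => hfac i, Finset.prod_mul_distrib] at hidx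
  have h3 : q₀ ^ (n * (n - 1) / 2) * S.index =
      (∏ j ∈ Finset.range n, (q₀ ^ 2) ^ j) * ∏ i ∈ Finset.range n, cf i :=
    Nat.eq_of_mul_eq_mul_right hpos (by linear_combination hidx)
  rcases hr.dvd_mul.1 (h3 ▸ h2.mul_left (q₀ ^ (n * (n - 1) / 2)) :
      r ∣ (∏ j ∈ Finset.range n, (q₀ ^ 2) ^ j) * ∏ i ∈ Finset.range n, cf i) with h | h
  · obtain ⟨j, -, hj⟩ := (Prime.dvd_finsetProd_iff hr.prime _).1 h
    exact Or.inl (hr.dvd_of_dvd_pow (hr.dvd_of_dvd_pow hj))
  · obtain ⟨i, hi, hd⟩ := (Prime.dvd_finsetProd_iff hr.prime _).1 h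
    refine Or.inr ⟨i + 1, by omega, by have := Finset.mem_range.1 hi; omega, ?_⟩
    simp only [cf] at hd
    have h1 : 1 ≤ q₀ ^ (i + 1) := Nat.one_le_pow _ _ (q_pos hF)
    split_ifs at hd with he
    · have := (ZMod.natCast_eq_zero_iff _ _).2 hd
      rw [Nat.cast_sub h1, Nat.cast_pow, Nat.cast_one, sub_eq_zero] at this
      rw [he.add_one.neg_pow, this]
    · have := (ZMod.natCast_eq_zero_iff _ _).2 hd
      rw [Nat.cast_add, Nat.cast_pow, Nat.cast_one, add_eq_zero_iff_eq_neg] at this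
      rw [(Nat.not_even_iff_odd.1 he).add_one.neg_pow, this]

theorem inv_not_conj_root (hF : Fintype.card F = q₀ ^ 2) (r : ℕ) (hr : r.Prime) (hr2 : r ≠ 2) {j : ℕ}
    (hj : (-(q₀ : ZMod r)) ^ j = -1) (ψ : Polynomial F) [hψ : Fact (Irreducible ψ)]
    (hprim : IsPrimitiveRoot (AdjoinRoot.root ψ) r) :
    Polynomial.aeval (AdjoinRoot.root ψ)⁻¹ (ψ.map ((frob hF).symm : F →+* F)) ≠ 0 := by
  intro h0
  let L := AdjoinRoot ψ
  haveI : Module.Finite F L := (AdjoinRoot.powerBasis hψ.out.ne_zero).finite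
  haveI : Finite L := Module.finite_of_finite F
  haveI := Fintype.ofFinite L
  set ω : L := AdjoinRoot.root ψ with hω
  obtain ⟨p, a, hp, -, hc, rfl⟩ := exists_char_pow hF
  haveI : Fact p.Prime := ⟨hp⟩
  haveI : CharP L p := charP_of_injective_algebraMap (algebraMap F L).injective p
  let φ : L →+* L := iterateFrobenius L p a
  have hφ : ∀ t, φ t = t ^ p ^ a := fun t => iterateFrobenius_def p a t
  obtain ⟨u, hu⟩ := (Finite.injective_iff_surjective.1 φ.injective) ω⁻¹
  have hcomp : (algebraMap F L).comp ((frob hF).symm : F →+* F) = φ.comp (algebraMap F L) := by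
    ext t
    show algebraMap F L (t ^ p ^ a) = φ (algebraMap F L t)
    rw [map_pow, hφ]
  have h1 : Polynomial.aeval u ψ = 0 := by
    apply φ.injective
    rw [map_zero, ← h0, Polynomial.aeval_def, Polynomial.aeval_def, Polynomial.eval₂_map, Polynomial.hom_eval₂,
      hcomp, hu]
  let τ : L →ₐ[F] L := AdjoinRoot.liftAlgHom ψ (Algebra.ofId F L) u h1
  have hτ : τ ω = u := AdjoinRoot.liftAlgHom_root ψ _ _ h1
  obtain ⟨⟨k, hk⟩, hkτ⟩ := (FiniteField.bijective_frobeniusAlgHom_pow F L).2 τ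
  have hpowk : ∀ k : ℕ, (FiniteField.frobeniusAlgHom F L ^ k) ω = ω ^ (Fintype.card F ^ k) := by
    intro k
    induction k with
    | zero => simp
    | succ k ih =>
      rw [pow_succ', AlgHom.mul_apply, ih, map_pow, FiniteField.coe_frobeniusAlgHom]
      show (ω ^ Fintype.card F) ^ (Fintype.card F ^ k) = _
      rw [← pow_mul, ← pow_succ']
  have h2 : ω ^ (Fintype.card F ^ k * p ^ a + 1) = 1 := by
    rw [pow_succ, pow_mul, ← hpowk, ← hφ]
    simp only at hkτ
    rw [hkτ, hτ, hu, inv_mul_cancel₀ (hprim.ne_zero hr.ne_zero)]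
  have h3 := hprim.dvd_of_pow_eq_one _ h2
  have h4 := (ZMod.natCast_eq_zero_iff _ _).2 h3
  rw [hF, Nat.cast_add, Nat.cast_mul, ← pow_mul, Nat.cast_pow, Nat.cast_one, ← pow_succ] at h4
  have h5 : (-((p ^ a : ℕ) : ZMod r)) ^ (2 * k + 1) = 1 := by
    rw [Odd.neg_pow (by simp)]
    linear_combination -h4
  have h6 : ((-1 : ZMod r)) ^ (2 * k + 1) = 1 := by
    rw [← hj, ← pow_mul, mul_comm, pow_mul, h5, one_pow]
  rw [(show Odd (2 * k + 1) by simp).neg_one_pow] at h6
  haveI : Fact r.Prime := ⟨hr⟩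
  have : r ∣ 2 := (ZMod.natCast_eq_zero_iff 2 r).1 (by push_cast; linear_combination -h6)
  exact hr2 ((Nat.prime_dvd_prime_iff_eq hr Nat.prime_two).1 this)

theorem not_allFix_of_formless (hF : Fintype.card F = q₀ ^ 2) (hf : Cfsg.Geo.IsUnitaryFormPow q₀ f) {r : ℕ}
    (h : HasFormless (frob hF) n r) : ¬ AllFix f r := by
  obtain ⟨x, hx, hz, hns, hnf⟩ := h
  intro hall
  obtain ⟨g, -, c, hc⟩ := hall x hx hz hns
  exact hnf (isSimil_of_conj (isSesq_of_unitary hF hf) x g c c.ne_zero hc)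

/-- Roots of unity of order prime to `p` and dividing `q₀ - 1` are fixed. -/
theorem pow_q_of_order (hF : Fintype.card F = q₀ ^ 2) {w : Fˣ} (h : orderOf w ∣ q₀ - 1) : (w : F) ^ q₀ = w := by
  have h1 : w ^ (q₀ - 1) = 1 := orderOf_dvd_iff_pow_eq_one.1 h
  have h2 : w ^ q₀ = w := by
    conv_lhs => rw [← Nat.sub_add_cancel (q_pos hF), pow_succ, h1, one_mul]
  rw [← Units.val_pow_eq_pow_val, h2]

theorem not_allFix_odd (hF : Fintype.card F = q₀ ^ 2) (hf : Cfsg.Geo.IsUnitaryFormPow q₀ f) (hn : 3 ≤ n)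
    (p : ℕ) [CharP F p] [Fact p.Prime] (r : ℕ) (hr : r.Prime) (hr2 : r ≠ 2) (hrp : r ≠ p) (hgap : ¬ (n = 6 ∧ r = 3))
    (hexc : (r = 3 ∨ r = 5) → n = r → padicValNat r (q₀ - 1) ≠ 1)
    (hΩ : r ∣ (Cfsg.Geo.similarityGroup f).relIndex (Cfsg.Geo.specialLinear (Fin n) F)) : ¬ AllFix f r := by
  classical
  haveI : Fact r.Prime := ⟨hr⟩
  have hrF0 : (r : F) ≠ 0 := fun h =>
    hrp ((Nat.prime_dvd_prime_iff_eq Fact.out hr).1 ((CharP.cast_eq_zero_iff F p r).1 h)).symm
  rcases index_cases hF hf r hr hΩ with h | ⟨i, hi, hin, hneg⟩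
  · obtain ⟨p', a, hp', -, hc', rfl⟩ := exists_char_pow hF
    obtain rfl := CharP.eq F hc' ‹CharP F p›
    exact absurd ((Nat.prime_dvd_prime_iff_eq hr hp').1 (hr.dvd_of_dvd_pow h)) hrp
  have h2r : (2 : ZMod r) ≠ 0 := fun h => by
    have : r ∣ 2 := (ZMod.natCast_eq_zero_iff 2 r).1 (by exact_mod_cast h)
    exact hr2 ((Nat.prime_dvd_prime_iff_eq hr Nat.prime_two).1 this)
  by_cases hdvd : r ∣ Fintype.card F - 1
  · have hq01 : r ∣ q₀ - 1 := by
      rw [hF, Cfsg.Agent.S5981.pow_sq_sub_one] at hdvd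
      refine (hr.dvd_mul.1 hdvd).resolve_right fun h => h2r ?_
      have h1 := (ZMod.natCast_eq_zero_iff _ _).2 h
      push_cast at h1
      rw [neg_eq_of_add_eq_zero_left (show (1 : ZMod r) + (q₀ : ZMod r) = 0 by linear_combination h1), one_pow] at hneg
      linear_combination hneg
    by_cases he : (r = 3 ∨ r = 5) ∧ n = r
    · have hv := hexc he.1 he.2
      have hq1 : q₀ - 1 ≠ 0 := by have := two_le_q hF; omega
      have h1 : 1 ≤ padicValNat r (q₀ - 1) := one_le_padicValNat_of_dvd hq1 hq01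
      have hd2 : r ^ 2 ∣ q₀ - 1 := (padicValNat_dvd_iff_le hq1).2 (by omega)
      obtain ⟨v, hv⟩ := Cfsg.Agent.S5981.exists_unit_order (F := F) (k := r ^ 2) (by
        rw [hF, Cfsg.Agent.S5981.pow_sq_sub_one]; exact hd2.mul_right _)
      exact not_allFix_of_formless hF hf (hasFormless_diagonal_sq r hr hr2 he.2 v hv
        (by rw [frob_apply]; exact pow_q_of_order hF (hv ▸ hd2)))
    · obtain ⟨w, hw⟩ := Cfsg.Agent.S5981.exists_unit_order (F := F) hdvd
      exact not_allFix_of_formless hF hf (hasFormless_diagonal r hr hr2 hn hgap he w hw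
        (by rw [frob_apply]; exact pow_q_of_order hF (hw ▸ hq01)))
  · refine not_allFix_of_formless hF hf (hasFormless_extension r hr (by omega)
      (Cfsg.Agent.S5981.eq_one_of_pow hr hdvd) hi hin ?_ hrF0
      (fun ψ _ _ hprim => inv_not_conj_root hF r hr hr2 hneg ψ hprim))
    rw [hF, ← ZMod.natCast_eq_zero_iff, Nat.cast_sub (Nat.one_le_pow _ _ (pow_pos (q_pos hF) 2))]
    push_cast
    rw [← pow_mul, mul_comm, pow_mul, ← neg_pow_two ((q₀ : ZMod r) ^ i)]
    have h1 : ((-(q₀ : ZMod r)) ^ i) ^ 2 = 1 := by rw [hneg]; ring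
    rw [neg_pow_two, ← pow_mul]
    rw [← pow_mul] at h1
    rw [show (-(q₀ : ZMod r)) ^ (i * 2) = (q₀ : ZMod r) ^ (i * 2) from Even.neg_pow (by simp) _] at h1
    rw [h1, sub_self]

theorem allFix_exceptional (hF : Fintype.card F = q₀ ^ 2) (hf : Cfsg.Geo.IsUnitaryFormPow q₀ f) (r : ℕ)
    (hr : r = 3 ∨ r = 5) (hnr : n = r) (hv : padicValNat r (q₀ - 1) = 1) : AllFix f r := by
  classical
  intro x hx hxz _
  obtain ⟨z, hz⟩ := hxz
  have hrp : r.Prime := by rcases hr with rfl | rfl <;> norm_num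
  haveI : Fact r.Prime := ⟨hrp⟩
  haveI : NeZero n := ⟨by omega⟩
  haveI : Nonempty (Fin n) := ⟨0⟩
  haveI : NeZero r := ⟨hrp.ne_zero⟩
  have hdet := det_of_mem hx
  rw [Units.val_pow_eq_pow_val] at hz
  have hzr : z ^ r = 1 := by
    have h1 := congrArg Matrix.det hz
    rw [Matrix.det_pow, hdet, one_pow, Matrix.det_smul, Matrix.det_one, Fintype.card_fin, mul_one, hnr] at h1
    exact h1.symm
  have hq2 := two_le_q hF
  have hd0 : r ∣ q₀ - 1 := by
    have := pow_padicValNat_dvd (p := r) (n := q₀ - 1)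
    rwa [hv, pow_one] at this
  have hdvd : r ∣ Fintype.card F - 1 := by
    rw [hF, Cfsg.Agent.S5981.pow_sq_sub_one]; exact hd0.mul_right _
  have hnd2 : ¬ r ^ 2 ∣ Fintype.card F - 1 := fun h => by
    rw [hF, Cfsg.Agent.S5981.pow_sq_sub_one] at h
    have hnot : ¬ r ∣ q₀ + 1 := fun h1 => by
      have : r ∣ 2 := by
        have := Nat.dvd_sub h1 hd0
        rwa [show q₀ + 1 - (q₀ - 1) = 2 by omega] at this
      have := (Nat.prime_dvd_prime_iff_eq hrp Nat.prime_two).1 this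
      omega
    have h2 : r ^ 2 ∣ q₀ - 1 := (Nat.Coprime.pow_left 2 (hrp.coprime_iff_not_dvd.2 hnot)).dvd_of_dvd_mul_right h
    have := (padicValNat_dvd_iff_le (show q₀ - 1 ≠ 0 by omega)).1 h2
    omega
  have hz1 : z = 1 := eq_one_of_scalar hrp (by omega) hnr hdet hz hzr hnd2
  rw [hz1, one_smul] at hz
  obtain ⟨w, hw⟩ := Cfsg.Agent.S5981.exists_unit_order (F := F) hdvd
  set ω : F := (w : F) with hω
  have hprim : IsPrimitiveRoot ω r := (IsPrimitiveRoot.coe_units_iff).2 (hw ▸ IsPrimitiveRoot.orderOf w)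
  have hωq : ω ^ q₀ = ω := pow_q_of_order hF (hw ▸ hd0)
  obtain ⟨ev, hev, hevσ⟩ := Cfsg.Agent.H99.exists_specialLinear_conj_diagonal x (Polynomial.nthRootsFinset r (1 : F)) (by
    rw [← Polynomial.X_pow_sub_one_eq_prod hrp.pos hprim]
    simp [hz])
  obtain ⟨g₀, -, hPx⟩ := hevσ 1
  rw [show (ev ∘ (1 : Equiv.Perm (Fin n))) = ev from rfl] at hPx
  choose k hkr hk using fun i => hprim.eq_pow_of_pow_eq_one ((Polynomial.mem_nthRootsFinset hrp.pos 1).1 (hev i))
  have hχ : ∀ a b : ℕ, ((a : ZMod r) = (b : ZMod r)) → ω ^ a = ω ^ b := fun a b h => by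
    rw [← pow_mod_orderOf ω a, ← pow_mod_orderOf ω b, ← hprim.eq_orderOf,
      show a % r = b % r from (ZMod.natCast_eq_natCast_iff' a b r).1 h]
  have hsum : ∑ i, (k i : ZMod r) = 0 := by
    rw [← Nat.cast_sum, ZMod.natCast_eq_zero_iff]
    refine hprim.dvd_of_pow_eq_one _ ?_
    rw [← Finset.prod_pow_eq_pow_sum, Finset.prod_congr rfl fun i _ => hk i, ← Matrix.det_diagonal, ← hPx,
      Units.val_mul, Units.val_mul, Matrix.det_units_conj', hdet]
  obtain ⟨m, hm⟩ := hrp.odd_of_ne_two (by omega)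
  obtain ⟨ε, hε⟩ := Cfsg.Agent.S5981.exists_symmetric_order hm hr hnr (fun i => (k i : ZMod r)) hsum
  set ν := ev (ε (.inl ())) with hν
  have hpair : ∀ i, ev (ε (.inr (.inl i))) * ev (ε (.inr (.inr i))) = ν * ν := by
    intro i
    rw [hν, ← hk, ← hk, ← hk, ← pow_add, ← pow_add]
    refine hχ _ _ ?_
    push_cast
    rw [hε i, two_mul]
  have hfix : ∀ i, ev i ^ q₀ = ev i := fun i => by rw [← hk, ← pow_mul, mul_comm, pow_mul, hωq]
  have hν0 : ν ≠ 0 := by rw [hν, ← hk]; exact pow_ne_zero _ w.ne_zero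
  obtain ⟨δ, δ', hδ, hδ', hne⟩ := exists_two_norm_neg_one hF
  let B : (Fin n → F) →ₗ[F] (Fin n → F) :=
    { toFun := fun t i => Sum.elim (fun _ => t (ε (.inl ())))
        (Sum.elim (fun j => t (ε (.inr (.inl j))) + t (ε (.inr (.inr j))))
          (fun j => δ * t (ε (.inr (.inl j))) + δ' * t (ε (.inr (.inr j))))) (ε.symm i)
      map_add' := fun a b => funext fun i => by
        obtain ⟨s, rfl⟩ := ε.surjective i
        rcases s with u | j | j <;> simp <;> ring
      map_smul' := fun a b => funext fun i => by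
        obtain ⟨s, rfl⟩ := ε.surjective i
        rcases s with u | j | j <;> simp <;> ring }
  have hBinj : Function.Injective B := by
    refine (injective_iff_map_eq_zero B).2 fun t ht => funext fun i => ?_
    obtain ⟨s, rfl⟩ := ε.surjective i
    have h0 := fun s => congrFun ht (ε s)
    rcases s with u | j | j
    · simpa [B] using h0 (.inl u)
    all_goals
      have h1 := h0 (.inr (.inl j))
      have h2 := h0 (.inr (.inr j))
      simp [B] at h1 h2
      refine (mul_eq_zero.1 (show (δ - δ') * t (ε _) = 0 from ?_)).resolve_left (sub_ne_zero.2 hne)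
      first
        | linear_combination h2 - δ' * h1
        | linear_combination δ * h1 - h2
  let G : Matrix (Fin n) (Fin n) F := LinearMap.toMatrix' B
  have hG : ∀ t, G *ᵥ t = B t := fun t => LinearMap.toMatrix'_mulVec B t
  have hGu : IsUnit G := Matrix.mulVec_injective_iff_isUnit.1 (fun a b h => hBinj (by rw [← hG, ← hG]; exact h))
  obtain ⟨Gu, hGu⟩ := hGu
  obtain ⟨P, hP⟩ := exists_coords hF hf
  have hform : ∀ s t, Cfsg.hermForm n F q₀ (B s) (B t) = s (ε (.inl ())) * t (ε (.inl ())) ^ q₀ +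
      ∑ j, ((1 + δ * δ' ^ q₀) * (s (ε (.inr (.inl j))) * t (ε (.inr (.inr j))) ^ q₀) +
        (1 + δ' * δ ^ q₀) * (s (ε (.inr (.inr j))) * t (ε (.inr (.inl j))) ^ q₀)) := by
    intro s t
    rw [Cfsg.hermForm, ← Equiv.sum_comp ε, Fintype.sum_sum_type, Fintype.sum_sum_type, ← Finset.sum_add_distrib]
    refine congrArg₂ (· + ·) (by simp [B]) (Finset.sum_congr rfl fun j _ => ?_)
    simp only [B, LinearMap.coe_mk, AddHom.coe_mk, Equiv.symm_apply_apply, Sum.elim_inr, Sum.elim_inl]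
    rw [add_pow_q hF, add_pow_q hF, mul_pow, mul_pow]
    linear_combination (s (ε (.inr (.inl j))) * t (ε (.inr (.inl j))) ^ q₀) * hδ +
      (s (ε (.inr (.inr j))) * t (ε (.inr (.inr j))) ^ q₀) * hδ'
  let D := Matrix.diagonal ev
  have hDB : ∀ s t, Cfsg.hermForm n F q₀ (B (D *ᵥ s)) (B (D *ᵥ t)) = ν * ν * Cfsg.hermForm n F q₀ (B s) (B t) := by
    intro s t
    rw [hform, hform, mul_add, Finset.mul_sum]
    refine congrArg₂ (· + ·) ?_ (Finset.sum_congr rfl fun j _ => ?_)
    · have hν' : ν ^ q₀ = ν := hfix _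
      simp only [D, Matrix.mulVec_diagonal, mul_pow, ← hν, hν']; ring
    · simp only [D, Matrix.mulVec_diagonal, mul_pow, hfix]
      linear_combination ((1 + δ * δ' ^ q₀) * (s (ε (.inr (.inl j))) * t (ε (.inr (.inr j))) ^ q₀) +
        (1 + δ' * δ ^ q₀) * (s (ε (.inr (.inr j))) * t (ε (.inr (.inl j))) ^ q₀)) * hpair j
  have hinv : (((Gu⁻¹ : GL (Fin n) F)) : Matrix (Fin n) (Fin n) F) * G = 1 := by rw [← hGu, Units.inv_mul]
  have hinv' : G * (((Gu⁻¹ : GL (Fin n) F)) : Matrix (Fin n) (Fin n) F) = 1 := by rw [← hGu, Units.mul_inv]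
  refine finish P hP x (g₀ * Gu⁻¹) (G * D * ((Gu⁻¹ : GL (Fin n) F) : Matrix (Fin n) (Fin n) F)) ?_
    (mul_ne_zero hν0 hν0) (fun s t => ?_) (fun t _ => ?_)
  · have hxP : (x : Matrix (Fin n) (Fin n) F) * (g₀ : Matrix (Fin n) (Fin n) F) = (g₀ : Matrix (Fin n) (Fin n) F) * D := by
      show _ = _ * Matrix.diagonal ev
      rw [← hPx, ← Units.val_mul, ← Units.val_mul]
      congr 1
      group
    rw [Units.val_mul, ← mul_assoc, hxP]
    simp only [mul_assoc]
    rw [← mul_assoc _ G, hinv, one_mul]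
  · conv_rhs => rw [← Matrix.one_mulVec s, ← Matrix.one_mulVec t, ← hinv']
    simp only [← Matrix.mulVec_mulVec, hG, hDB]
  · refine ⟨G * Matrix.diagonal (Function.update 1 0 t) * ((Gu⁻¹ : GL (Fin n) F) : Matrix (Fin n) (Fin n) F), ?_, ?_⟩
    · have hcomm : Matrix.diagonal (Function.update 1 0 t) * D = D * Matrix.diagonal (Function.update 1 0 t) :=
        Matrix.commute_diagonal _ _
      simp only [mul_assoc]
      rw [← mul_assoc _ G, hinv, one_mul, ← mul_assoc _ G, hinv, one_mul, ← mul_assoc _ D, hcomm, mul_assoc]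
    · rw [← hGu, Matrix.det_units_conj, Matrix.det_diagonal, Finset.prod_update_of_mem (Finset.mem_univ _)]
      simp

/-- Elements of prime order of PSL_n(q), q = q₀², and the subgroups of unitary type. Here `T = PSL_n(F)` for a field `F` with `q = q₀²` elements (`n ≥ 3`), `f` is a non-degenerate unitary form on `F^n` for the involutory automorphism `x ↦ x^{q₀}`, and `H` is the subgroup of matrices of determinant 1 that preserve `f` up to a scalar — a subgroup of type GU_n(q₀) (maximality is not assumed); Ω is the set of cosets of `H` in `T`, so an element of `T` of prime order `r` (a matrix `x` of determinant 1 with `x^r` scalar, `x` not scalar) fixes a point of Ω exactly when some conjugate of `x` by a matrix of determinant 1 preserves `f` up to a scalar. Let `r` be a prime dividing the index of `H`, with `r = 2` or `r` different from the characteristic `p`, and with `(n, r) ≠ (6, 3)`. Then every element of `T` of order `r` fixes a point of Ω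 if and only if either `r = 2` and (`p = 2` or `(n)_2 ≤ (q − 1)_2`), or `r ∈ {3, 5}`, `n = r` and `(q₀ − 1)_r = r`. (Odd `r = p` and the case `(n, r) = (6, 3)` are not covered by this statement.) -/
theorem result {F : Type*} [Field F] [Fintype F] {p : ℕ} [Fact p.Prime] [CharP F p] {q : ℕ} (hq : Fintype.card F = q)
    (q₀ : ℕ) (hq₀ : q = q₀ ^ 2) (n : ℕ) (hn : 3 ≤ n) (f : (Fin n → F) → (Fin n → F) → F) (hf : Cfsg.Geo.IsUnitaryFormPow q₀ f)
    (r : ℕ) [Fact r.Prime] (hr : r = 2 ∨ r ≠ p) (hgap : ¬ (n = 6 ∧ r = 3))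
    (hΩ : r ∣ (Cfsg.Geo.similarityGroup f).relIndex (Cfsg.Geo.specialLinear (Fin n) F)) :
    (∀ x ∈ Cfsg.Geo.specialLinear (Fin n) F, (∃ z : F, ((x ^ r : GL (Fin n) F) : Matrix (Fin n) (Fin n) F) = z • (1 : Matrix (Fin n) (Fin n) F)) →
      (∀ z : F, (x : Matrix (Fin n) (Fin n) F) ≠ z • (1 : Matrix (Fin n) (Fin n) F)) →
      ∃ g ∈ Cfsg.Geo.specialLinear (Fin n) F, g⁻¹ * x * g ∈ Cfsg.Geo.similarityGroup f) ↔
    ((r = 2 ∧ (p = 2 ∨ padicValNat 2 n ≤ padicValNat 2 (q - 1))) ∨ ((r = 3 ∨ r = 5) ∧ n = r ∧ padicValNat r (q₀ - 1) = 1)) := by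
  classical
  subst hq₀
  have hF : Fintype.card F = q₀ ^ 2 := hq
  show AllFix f r ↔ _
  constructor
  · intro hall
    by_contra hno
    rw [not_or] at hno
    by_cases hr2 : r = 2
    · subst hr2
      simp only [true_and, not_or, not_le] at hno
      exact not_allFix_two hF hf (by omega) p hno.1.1 (by rw [hq]; exact hno.1.2) hall
    · exact not_allFix_odd hF hf hn p r Fact.out hr2 (hr.resolve_left hr2) hgap
        (fun h35 hnr hv => hno.2 ⟨h35, hnr, hv⟩) hΩ hall
  · rintro (⟨rfl, h⟩ | ⟨h35, hnr, hv⟩)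
    · exact allFix_two hF hf p (by omega) (by rw [hq]; exact h)
    · exact allFix_exceptional hF hf r h35 hnr hv

end Cfsg.Agent.S5982
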