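import Cfsg.Statements.S5983
import Cfsg.Agent.H68.SpQuadrics
import Cfsg.Agent.H96.OmegaBridge
-- import your own Cfsg.Agent.* helpers here

set_option autoImplicit false
set_option linter.style.haveILetI false
open scoped MatrixGroups
open Cfsg

namespace Cfsg.Agent.S5983

open Module QuadraticMap Matrix Cfsg.Agent.Orthogonal Cfsg.Agent.H68 Cfsg.Agent.H68.EvenOrtho

/-- Elements of prime order of PSp_n(q), q even, and the subgroups of orthogonal type. Here `T = Sp_{2d}(F)` for a field `F` of characteristic 2 with `q` elements (`d ≥ 2`, `(d, q) ≠ (2, 2)`), realised as the invertible matrices preserving the standard alternating form; `Q` is a non-degenerate quadratic form on `F^{2d}` whose polar form is that alternating form, and `H` is the subgroup of `T` preserving `Q` up to a scalar (equivalently preserving `Q`) — a subgroup of type O^±_{2d}(q) (maximality is not assumed); `Q` is of plus type when `F^{2d}` contains a `d`-dimensional subspace on which `Q` vanishes, of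 minus type otherwise. Ω is the set of cosets of `H` in `T`, so an element of `T` of prime order `r` (`x ∈ T` with `x^r` scalar, `x` not scalar) fixes a point of Ω exactly when some `T`-conjugate of `x` preserves `Q`. Let `r` be a prime dividing the index of `H`. Then every element of `T` of order `r` fixes a point of Ω if and only if `r = 2` and either `Q` is of plus type or `d` is odd. -/
theorem result {F : Type*} [Field F] [Fintype F] {p : ℕ} [Fact p.Prime] [CharP F p] {q : ℕ} (hq : Fintype.card F = q)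
    (hp : p = 2) (d : ℕ) (hd : 2 ≤ d) (hT : (d, q) ≠ (2, 2)) (Q : (Fin d ⊕ Fin d → F) → F) (hQ : Cfsg.Geo.IsNondegenerateQuadraticForm Q)
    (hQf : ∀ u v, QuadraticMap.polar Q u v = Cfsg.sympForm d F u v)
    (r : ℕ) [Fact r.Prime]
    (hΩ : r ∣ (Cfsg.Geo.quadSimilarityGroup Q).relIndex (Cfsg.spGL d F)) :
    (∀ x ∈ Cfsg.spGL d F, (∃ z : F, ((x ^ r : GL (Fin d ⊕ Fin d) F) : Matrix (Fin d ⊕ Fin d) (Fin d ⊕ Fin d) F) = z • (1 : Matrix (Fin d ⊕ Fin d) (Fin d ⊕ Fin d) F)) →
      (∀ z : F, (x : Matrix (Fin d ⊕ Fin d) (Fin d ⊕ Fin d) F) ≠ z • (1 : Matrix (Fin d ⊕ Fin d) (Fin d ⊕ Fin d) F)) →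
      ∃ g ∈ Cfsg.spGL d F, g⁻¹ * x * g ∈ Cfsg.Geo.quadSimilarityGroup Q) ↔
    (r = 2 ∧ (Cfsg.Geo.IsPlusTypeOn Q ⊤ ∨ Odd d)) := by
  classical
  subst hp
  have h2 : (2 : F) = 0 := (CharP.cast_eq_zero F 2 : ((2 : ℕ) : F) = 0)
  obtain ⟨k, rfl⟩ : ∃ k, d = k + 1 := ⟨d - 1, by omega⟩
  set Qf := H96.asForm hQ with hQfdef
  have hPol : SpQuadrics.Pol Qf := fun u v => hQf u v
  have hn : finrank F (Fin (k + 1) ⊕ Fin (k + 1) → F) = 2 * (k + 1) := finrank_formPlus F (k + 1)
  obtain ⟨ε, hε, hs⟩ : ∃ ε : ℤ, (ε = 1 ∨ ε = -1) ∧ HasSign Qf (k + 1) ε := by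
    rcases sign_or hPol.nondeg hn with h | h
    · exact ⟨1, Or.inl rfl, h⟩
    · exact ⟨-1, Or.inr rfl, h⟩
  have hplus : Cfsg.Geo.IsPlusTypeOn Q ⊤ ↔ ε = 1 := by
    constructor
    · rintro ⟨U, -, hU, hUd⟩
      rw [finrank_top, hn] at hUd
      rcases hε with h | rfl
      · exact h
      · have := EvenDerange.finrank_lt_of_minus hPol.nondeg hn hs (W := U) hU
        omega
    · rintro rfl
      obtain ⟨E, hE⟩ := exists_isometry hPol.nondeg (formPlus_nondeg F (k + 1)) hn hn hs (sign_formPlus (k + 1))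
      let L : (Fin (k + 1) → F) →ₗ[F] (Fin (k + 1) ⊕ Fin (k + 1) → F) :=
        { toFun := fun c => Sum.elim c 0
          map_add' := fun a b => by funext s; rcases s with s | s <;> simp
          map_smul' := fun a b => by funext s; rcases s with s | s <;> simp }
      refine ⟨LinearMap.range (E.toLinearMap.comp L), le_top, ?_, ?_⟩
      · rintro _ ⟨c, rfl⟩
        show Qf (E (L c)) = 0
        simp [hE, formPlus_coe, Cfsg.quadFormPlus, L]
      · have hL : Function.Injective L := fun a b h =>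
          funext fun i => by simpa [L] using congrFun h (Sum.inl i)
        rw [LinearMap.finrank_range_of_inj (f := E.toLinearMap.comp L) (E.injective.comp hL),
          finrank_top, hn, Module.finrank_fin_fun]
  have hpolmem : ∀ (g : GL (Fin (k + 1) ⊕ Fin (k + 1)) F) (Q' Q'' : QuadraticForm F (Fin (k + 1) ⊕ Fin (k + 1) → F)),
      SpQuadrics.Pol Q' → SpQuadrics.Pol Q'' →
      (∀ v, Q' ((g : Matrix _ _ F) *ᵥ v) = Q'' v) → g ∈ Cfsg.spGL (k + 1) F := by
    intro g Q' Q'' hP' hP'' hg u v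
    show Cfsg.sympForm (k + 1) F ((g : Matrix _ _ F) *ᵥ u) ((g : Matrix _ _ F) *ᵥ v) = Cfsg.sympForm (k + 1) F u v
    rw [← hP', ← hP'']
    simp only [polar, ← Matrix.mulVec_add, hg]
  have hH : ∀ g ∈ Cfsg.spGL (k + 1) F, g ∈ Cfsg.Geo.quadSimilarityGroup Q ↔
      ∀ v, Qf ((g : Matrix _ _ F) *ᵥ v) = Qf v := by
    intro g hg
    constructor
    · rintro ⟨c, hc⟩ v
      obtain ⟨w, hw⟩ := hPol.nondeg.exists_polar_eq (x := Pi.single (Sum.inl 0) 1)
        (fun h => one_ne_zero (α := F) (by simpa using congrFun h (Sum.inl 0))) 1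
      have h1 : ∀ u v, Cfsg.sympForm (k + 1) F ((g : Matrix _ _ F) *ᵥ u) ((g : Matrix _ _ F) *ᵥ v) =
          Cfsg.sympForm (k + 1) F u v := hg
      have h3 := h1 (Pi.single (Sum.inl 0) 1) w
      rw [← hPol, ← hPol, hw] at h3
      simp only [polar, ← Matrix.mulVec_add, hQfdef, H96.asForm_coe, hc] at h3 hw
      have hc1 : (c : F) = 1 := by
        rw [← mul_one (c : F)]
        conv_lhs => rw [← hw]
        linear_combination h3
      show Q _ = Q v
      rw [hc, hc1, one_mul]
    · intro h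
      exact ⟨1, fun v => by rw [Units.val_one, one_mul]; exact h v⟩
  constructor
  · intro H
    have hr2 : r = 2 := by
      by_contra hr2
      haveI : Fact (2 < r) := ⟨lt_of_le_of_ne (Fact.out : r.Prime).two_le (Ne.symm hr2)⟩
      -- the index
      let X := {a : Fin (k + 1) ⊕ Fin (k + 1) → F // HasSign (SpQuadrics.twist Qf a) (k + 1) ε}
      have hX : ∀ g : Cfsg.spGL (k + 1) F, ∃ a : X, ∀ v, SpQuadrics.twist Qf a.1 v =
          Qf (((g⁻¹ : Cfsg.spGL (k + 1) F) : GL (Fin (k + 1) ⊕ Fin (k + 1)) F).1 *ᵥ v) := by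
        intro g
        set Q' := Qf.comp (Matrix.toLin' (((g⁻¹ : Cfsg.spGL (k + 1) F) : GL (Fin (k + 1) ⊕ Fin (k + 1)) F) :
          Matrix (Fin (k + 1) ⊕ Fin (k + 1)) (Fin (k + 1) ⊕ Fin (k + 1)) F))
        have hQ' : ∀ v, Q' v = Qf (((g⁻¹ : Cfsg.spGL (k + 1) F) : GL (Fin (k + 1) ⊕ Fin (k + 1)) F).1 *ᵥ v) := fun v => by
          rw [QuadraticMap.comp_apply, Matrix.toLin'_apply]
        have hPol' : SpQuadrics.Pol Q' := fun u v => by
          have h := (g⁻¹ : Cfsg.spGL (k + 1) F).2 u v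
          rw [← h, ← hPol]
          simp only [polar, hQ', Matrix.mulVec_add]
          rfl
        obtain ⟨a, ha⟩ := SpQuadrics.exists_twist h2 hPol hPol'
        refine ⟨⟨a, ha ▸ hs.congr (glEquiv ((g⁻¹ : Cfsg.spGL (k + 1) F) : GL (Fin (k + 1) ⊕ Fin (k + 1)) F)) (fun v => by
          rw [glEquiv_apply, hQ'])⟩, fun v => (DFunLike.congr_fun ha v).symm.trans (hQ' v)⟩
      choose f hf using hX
      have hrel : ∀ g h : Cfsg.spGL (k + 1) F,
          f g = f h ↔ g⁻¹ * h ∈ (Cfsg.Geo.quadSimilarityGroup Q).subgroupOf (Cfsg.spGL (k + 1) F) := by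
        intro g h
        rw [Subgroup.mem_subgroupOf, hH _ (g⁻¹ * h).2]
        constructor
        · intro e v
          rw [Subgroup.coe_mul, Units.val_mul, ← Matrix.mulVec_mulVec, ← hf, e, hf, Matrix.mulVec_mulVec,
            ← Units.val_mul, ← Subgroup.coe_mul, inv_mul_cancel, Subgroup.coe_one, Units.val_one,
            Matrix.one_mulVec]
        · intro e
          refine Subtype.ext (SpQuadrics.twist_injective Qf h2 (QuadraticMap.ext fun v => ?_))
          rw [hf, hf, ← e (((h⁻¹ : Cfsg.spGL (k + 1) F) : GL (Fin (k + 1) ⊕ Fin (k + 1)) F).1 *ᵥ v), Matrix.mulVec_mulVec,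
            ← Units.val_mul, ← Subgroup.coe_mul, mul_inv_cancel_right]
      have hidx : Nat.card (Cfsg.spGL (k + 1) F ⧸ (Cfsg.Geo.quadSimilarityGroup Q).subgroupOf
          (Cfsg.spGL (k + 1) F)) = Nat.card X := by
        refine Nat.card_eq_of_bijective (Quotient.lift f fun g h e => (hrel g h).2
          (QuotientGroup.leftRel_apply.1 e)) ⟨?_, ?_⟩
        · rintro ⟨g⟩ ⟨h⟩ e
          exact Quotient.sound (QuotientGroup.leftRel_apply.2 ((hrel g h).1 e))
        · intro a
          obtain ⟨E, hE⟩ := exists_isometry hPol.nondeg (hPol.twist h2 a.1).nondeg hn hn hs a.2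
          have hmem : glEquiv.symm E ∈ Cfsg.spGL (k + 1) F :=
            hpolmem _ Qf _ hPol (hPol.twist h2 a.1) fun v => by
              rw [← glEquiv_apply, MulEquiv.apply_symm_apply, hE]
          refine ⟨QuotientGroup.mk (⟨_, hmem⟩⁻¹), ?_⟩
          show f _ = a
          refine Subtype.ext (SpQuadrics.twist_injective Qf h2 (QuadraticMap.ext fun v => ?_))
          rw [hf, inv_inv, ← glEquiv_apply, MulEquiv.apply_symm_apply, hE]
      have hcnt := SpQuadrics.card_sign h2 (d := k + 1) (by omega) hPol hε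
      rw [← hidx] at hcnt
      have hdvd : r ∣ Nat.card (Cfsg.spGL (k + 1) F ⧸ (Cfsg.Geo.quadSimilarityGroup Q).subgroupOf
          (Cfsg.spGL (k + 1) F)) := hΩ
      have hqc : Nat.card F = q := by rw [Nat.card_eq_fintype_card, hq]
      have hq0 : (q : ZMod r) ≠ 0 := by
        obtain ⟨f, -, hf⟩ := FiniteField.card F 2
        rw [← hq, hf, Nat.cast_pow]
        refine pow_ne_zero _ ?_
        rw [Ne, ZMod.natCast_eq_zero_iff]
        exact fun h => hr2 ((Nat.prime_dvd_prime_iff_eq Fact.out Nat.prime_two).1 h)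
      have hmod := congrArg (Int.cast : ℤ → ZMod r) hcnt
      push_cast at hmod
      rw [(ZMod.natCast_eq_zero_iff _ r).2 hdvd, mul_zero, hqc] at hmod
      have hqd : (q : ZMod r) ^ (k + 1) = ((-ε : ℤ) : ZMod r) := by
        rw [Int.cast_neg]
        exact eq_neg_of_add_eq_zero_left ((mul_eq_zero.1 hmod.symm).resolve_left (pow_ne_zero _ hq0))
      obtain ⟨a, ha⟩ : ∃ a, HasSign (SpQuadrics.twist Qf a) (k + 1) (-ε) := by
        have hneg : -ε = 1 ∨ -ε = -1 := by omega
        have hc := SpQuadrics.card_sign h2 (d := k + 1) (by omega) hPol hneg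
        by_contra hno
        push Not at hno
        haveI : IsEmpty {a // HasSign (SpQuadrics.twist Qf a) (k + 1) (-ε)} := ⟨fun a => hno a.1 a.2⟩
        rw [Nat.card_of_isEmpty, Nat.cast_zero, mul_zero, hqc] at hc
        have hq2 : 2 ≤ q := hq ▸ Fintype.one_lt_card
        have : (2 : ℤ) ≤ (q : ℤ) ^ (k + 1) :=
          le_trans (by exact_mod_cast hq2) (le_self_pow₀ (by exact_mod_cast (show 1 ≤ q by omega)) (by omega))
        rcases mul_eq_zero.1 hc.symm with h | h <;> omega
      obtain ⟨x, hx, hxr, hfree⟩ := EvenDerange.exists_free 2 hq _ (hPol.twist h2 a).nondeg (k := k)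
        (by simp; omega) (ε := -ε) (by omega) ha hr2 hr2 hqd
      have hxi := (mem_isometryGroup_iff _ _).1 hx
      have hxsp := hpolmem x _ _ (hPol.twist h2 a) (hPol.twist h2 a) hxi
      obtain ⟨g, hg, hgH⟩ := H x hxsp ⟨1, by rw [hxr, Units.val_one, one_smul]⟩ (fun z hz => by
        obtain ⟨w, hw⟩ := (hPol.twist h2 a).nondeg.exists_value (by omega) (1 : F)
        have h1 := hxi w
        rw [hz, Matrix.smul_mulVec, Matrix.one_mulVec, qmap_smul, hw, mul_one] at h1
        have h4 : (z - 1) ^ 2 = 0 := by linear_combination h1 + (1 - z) * h2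
        refine zero_ne_one (α := F) ?_
        rw [← hw, hfree w (by rw [hz, sub_eq_zero.1 ((pow_eq_zero_iff two_ne_zero).1 h4), one_smul,
          Matrix.one_mulVec]), QuadraticMap.map_zero])
      have hyi := (hH _ (mul_mem (mul_mem (inv_mem hg) hxsp) hg)).1 hgH
      have hs' := sign_of_free (F := F) (r := r) (Q := Qf) (by rw [hqc]; exact hq0)
        (Matrix.toLin' ((g⁻¹ * x * g : GL (Fin (k + 1) ⊕ Fin (k + 1)) F) : Matrix (Fin (k + 1) ⊕ Fin (k + 1)) (Fin (k + 1) ⊕ Fin (k + 1)) F))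
        (by
          rw [← Matrix.toLin'_pow, ← Units.val_pow_eq_pow_val, show (g⁻¹ * x * g) ^ r = g⁻¹ * x ^ r * g by
            simpa using conj_pow (a := g⁻¹) (b := x) (i := r), hxr, mul_one, inv_mul_cancel, Units.val_one,
            Matrix.toLin'_one]
          rfl)
        (fun v => by rw [Matrix.toLin'_apply]; exact hyi v)
        (fun v hv => by
          rw [Matrix.toLin'_apply, Units.val_mul, Units.val_mul, ← Matrix.mulVec_mulVec, ← Matrix.mulVec_mulVec] at hv
          have h1 := congrArg (fun w => (g : Matrix (Fin (k + 1) ⊕ Fin (k + 1)) (Fin (k + 1) ⊕ Fin (k + 1)) F) *ᵥ w) hv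
          simp only [Matrix.mulVec_mulVec, ← Units.val_mul, mul_inv_cancel_left] at h1
          rw [Units.val_mul, ← Matrix.mulVec_mulVec] at h1
          have h3 := hfree _ h1
          have h4 := congrArg (fun w => ((g⁻¹ : GL (Fin (k + 1) ⊕ Fin (k + 1)) F) : Matrix (Fin (k + 1) ⊕ Fin (k + 1)) (Fin (k + 1) ⊕ Fin (k + 1)) F) *ᵥ w) h3
          simp only [Matrix.mulVec_mulVec, ← Units.val_mul, inv_mul_cancel, Units.val_one, Matrix.one_mulVec,
            Matrix.mulVec_zero] at h4
          exact h4)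
        hs
      rw [hqc, hqd] at hs'
      rcases hε with rfl | rfl <;> push_cast at hs'
      · exact ZMod.neg_one_ne_one hs'
      · exact ZMod.neg_one_ne_one hs'.symm
    refine ⟨hr2, ?_⟩
    by_contra hno
    push Not at hno
    obtain ⟨hnp, hno2⟩ := hno
    obtain rfl : ε = -1 := hε.resolve_left fun h => hnp (hplus.2 h)
    obtain ⟨j, hj⟩ := Nat.not_odd_iff_even.1 hno2
    subst hr2
    have hkj : k + 1 = j + j := hj
    -- an involution all of whose invariant forms are hyperbolic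
    obtain ⟨T, hT2, hTp, hTd⟩ : ∃ T : (Fin (k + 1) ⊕ Fin (k + 1) → F) ≃ₗ[F] (Fin (k + 1) ⊕ Fin (k + 1) → F),
        (∀ x, T (T x) = x) ∧ (∀ x, formPlus F (k + 1) (T x) = formPlus F (k + 1) x) ∧
        (∀ x l, (T x - x) (Sum.inr l) = 0) ∧
        ∀ l, stdE F (k + 1) l ∈ LinearMap.range ((T : (Fin (k + 1) ⊕ Fin (k + 1) → F) →ₗ[F] _) - 1 : Module.End F (Fin (k + 1) ⊕ Fin (k + 1) → F)) := by
      rw [hkj]
      obtain ⟨g, -, hgx⟩ := EvenDerange.exists_omega_involution (formPlus_nondeg F (j + j)) (k := j)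
        (formPlus_frame F (j + j))
      set D : (Fin (j + j) ⊕ Fin (j + j) → F) → (Fin (j + j) ⊕ Fin (j + j) → F) := fun x =>
        ∑ i : Fin j, (polar (formPlus F (j + j)) (stdE F (j + j) (Fin.natAdd j i)) x • stdE F (j + j) (Fin.castAdd j i) -
          polar (formPlus F (j + j)) (stdE F (j + j) (Fin.castAdd j i)) x • stdE F (j + j) (Fin.natAdd j i)) with hD
      have hpe : ∀ (l : Fin (j + j)) (x : Fin (j + j) ⊕ Fin (j + j) → F),
          polar (formPlus F (j + j)) (stdE F (j + j) l) x = x (.inr l) := fun l x => by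
        simp [polar_formPlus, stdE, Pi.single_apply]
      have hDr : ∀ x l, D x (.inr l) = 0 := fun x l => by simp [hD, stdE]
      refine ⟨(g : (Fin (j + j) ⊕ Fin (j + j) → F) ≃ₗ[F] _), fun x => ?_, fun x => O.map_app g x, fun x l => ?_,
        fun l => ?_⟩
      · rw [hgx, hgx x]
        show x + D x + D (x + D x) = x
        have hDD : D (x + D x) = D x := by
          simp only [hD]
          refine Finset.sum_congr rfl fun i _ => ?_
          rw [hpe, hpe, hpe, hpe, Pi.add_apply, Pi.add_apply]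
          have h0 := hDr x
          simp only [hD] at h0
          rw [h0, h0, add_zero, add_zero]
        rw [hDD, add_assoc, ← two_smul F (D x), h2, zero_smul, add_zero]
      · rw [hgx, add_sub_cancel_left]
        exact hDr x l
      · refine Fin.addCases (fun i => ?_) (fun i => ?_) l
        · refine ⟨stdF F (j + j) (Fin.natAdd j i), ?_⟩
          rw [LinearMap.sub_apply, Module.End.one_apply, LinearEquiv.coe_coe, hgx, add_sub_cancel_left]
          have hne : ∀ a b : Fin j, Fin.castAdd j a ≠ b.addNat j := fun a b h => by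
            have := congrArg Fin.val h; simp at this; omega
          simp [hpe, stdF, Pi.single_apply, hne]
        · refine ⟨-stdF F (j + j) (Fin.castAdd j i), ?_⟩
          rw [LinearMap.sub_apply, Module.End.one_apply, LinearEquiv.coe_coe, hgx, add_sub_cancel_left]
          have hne : ∀ a b : Fin j, b.addNat j ≠ Fin.castAdd j a := fun a b h => by
            have := congrArg Fin.val h; simp at this; omega
          simp [hpe, stdF, Pi.single_apply, hne]
    obtain ⟨hTd1, hTd2⟩ := hTd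
    have hPp : SpQuadrics.Pol (formPlus F (k + 1)) := fun u v => by
      rw [polar_formPlus, Symplectic.sympForm_eq]
      refine Finset.sum_congr rfl fun i _ => ?_
      linear_combination (u (.inl i) * v (.inr i)) * h2
    set x := glEquiv.symm T with hxdef
    have hxT : ∀ v, (x : Matrix (Fin (k + 1) ⊕ Fin (k + 1)) (Fin (k + 1) ⊕ Fin (k + 1)) F) *ᵥ v = T v := fun v => by
      rw [← glEquiv_apply, MulEquiv.apply_symm_apply]
    have hxsp := hpolmem x _ _ hPp hPp (fun v => by rw [hxT]; exact hTp v)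
    obtain ⟨g, hg, hgH⟩ := H x hxsp
      ⟨1, by
        rw [one_smul, Units.val_pow_eq_pow_val]
        refine Matrix.toLin'.injective (LinearMap.ext fun v => ?_)
        rw [_root_.sq, Matrix.toLin'_apply, ← Matrix.mulVec_mulVec, hxT, hxT, hT2, Matrix.toLin'_one]
        rfl⟩
      (fun z hz => by
        obtain ⟨w, hw⟩ := hTd2 0
        have h1 : ∀ v, T v = z • v := fun v => by rw [← hxT, hz, Matrix.smul_mulVec, Matrix.one_mulVec]
        obtain ⟨w', hw'⟩ := (formPlus_nondeg F (k + 1)).exists_value (by omega) (1 : F)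
        have h3 := hTp w'
        rw [h1, qmap_smul, hw', mul_one] at h3
        have h4 : (z - 1) ^ 2 = 0 := by linear_combination h3 + (1 - z) * h2
        rw [LinearMap.sub_apply, Module.End.one_apply, LinearEquiv.coe_coe, h1,
          sub_eq_zero.1 ((pow_eq_zero_iff two_ne_zero).1 h4), one_smul, sub_self] at hw
        simpa [stdE] using congrFun hw (Sum.inl 0))
    have hyi := (hH _ (mul_mem (mul_mem (inv_mem hg) hxsp) hg)).1 hgH
    -- transport the form
    set Q' := Qf.comp (Matrix.toLin' (((g⁻¹ : GL (Fin (k + 1) ⊕ Fin (k + 1)) F)) :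
      Matrix (Fin (k + 1) ⊕ Fin (k + 1)) (Fin (k + 1) ⊕ Fin (k + 1)) F)) with hQ'def
    have hQ' : ∀ v, Q' v = Qf ((g⁻¹ : GL (Fin (k + 1) ⊕ Fin (k + 1)) F).1 *ᵥ v) := fun v => by
      rw [hQ'def, QuadraticMap.comp_apply, Matrix.toLin'_apply]
    have hPol' : SpQuadrics.Pol Q' := fun u v => by
      have h : Cfsg.sympForm (k + 1) F ((g⁻¹ : GL (Fin (k + 1) ⊕ Fin (k + 1)) F).1 *ᵥ u)
          ((g⁻¹ : GL (Fin (k + 1) ⊕ Fin (k + 1)) F).1 *ᵥ v) = Cfsg.sympForm (k + 1) F u v := inv_mem hg u v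
      rw [← h, ← hPol]
      simp only [polar, hQ', Matrix.mulVec_add]
    have hs' : HasSign Q' (k + 1) (-1) := hs.congr (glEquiv (g⁻¹ : GL (Fin (k + 1) ⊕ Fin (k + 1)) F))
      (fun v => by rw [glEquiv_apply, hQ'])
    have hQ'T : ∀ v, Q' (T v) = Q' v := fun v => by
      rw [hQ', hQ', ← hxT, ← hyi ((g⁻¹ : GL (Fin (k + 1) ⊕ Fin (k + 1)) F).1 *ᵥ v), Matrix.mulVec_mulVec,
        Matrix.mulVec_mulVec, ← Units.val_mul, ← Units.val_mul]
      simp [mul_assoc]
    set U := LinearMap.range ((T : (Fin (k + 1) ⊕ Fin (k + 1) → F) →ₗ[F] _) - 1 : Module.End F (Fin (k + 1) ⊕ Fin (k + 1) → F))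
    have hts : TotSing Q' U := by
      rintro _ ⟨w, rfl⟩
      rw [LinearMap.sub_apply, Module.End.one_apply, LinearEquiv.coe_coe, qmap_sub, hQ'T]
      have h1 : polar Q' (T w) w = formPlus F (k + 1) (T w) + formPlus F (k + 1) w - formPlus F (k + 1) (T w - w) := by
        rw [hPol', ← hPp, qmap_sub]; ring
      have h0 : formPlus F (k + 1) (T w - w) = 0 := by
        rw [formPlus_coe, Cfsg.quadFormPlus]
        exact Finset.sum_eq_zero fun l _ => by rw [hTd1 w l, mul_zero]
      rw [h1, hTp, h0]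
      linear_combination (Q' w - formPlus F (k + 1) w) * h2
    have hlt := EvenDerange.finrank_lt_of_minus hPol'.nondeg hn hs' hts
    have hli : LinearIndependent F (fun l => (⟨stdE F (k + 1) l, hTd2 l⟩ : U)) := by
      refine LinearIndependent.of_comp U.subtype ?_
      exact (Pi.linearIndependent_single_one (Fin (k + 1) ⊕ Fin (k + 1)) F).comp Sum.inl Sum.inl_injective
    have := hli.fintype_card_le_finrank
    rw [Fintype.card_fin] at this
    omega
  · rintro ⟨rfl, hcase⟩ x hx ⟨z, hz⟩ -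
    have hxB : ∀ u v, Cfsg.sympForm (k + 1) F ((x : Matrix _ _ F) *ᵥ u) ((x : Matrix _ _ F) *ᵥ v) =
        Cfsg.sympForm (k + 1) F u v := hx
    have hzz : ∀ v, (x : Matrix (Fin (k + 1) ⊕ Fin (k + 1)) (Fin (k + 1) ⊕ Fin (k + 1)) F) *ᵥ
        ((x : Matrix (Fin (k + 1) ⊕ Fin (k + 1)) (Fin (k + 1) ⊕ Fin (k + 1)) F) *ᵥ v) = z • v := fun v => by
      rw [Units.val_pow_eq_pow_val, _root_.sq] at hz
      rw [Matrix.mulVec_mulVec, hz, Matrix.smul_mulVec, Matrix.one_mulVec]
    have hz1 : z = 1 := by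
      obtain ⟨w, hw⟩ := hPol.nondeg.exists_polar_eq (x := Pi.single (Sum.inl 0) 1)
        (fun h => one_ne_zero (α := F) (by simpa using congrFun h (Sum.inl 0))) 1
      rw [hPol] at hw
      have h1 := (hxB _ _).trans ((hxB (Pi.single (Sum.inl 0) 1) w).trans hw)
      rw [hzz, hzz, ← Symplectic.spB_apply] at h1
      simp only [map_smul, LinearMap.smul_apply, Symplectic.spB_apply, hw, smul_eq_mul, mul_one] at h1
      have h4 : (z - 1) ^ 2 = 0 := by linear_combination h1 + (1 - z) * h2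
      exact sub_eq_zero.1 ((pow_eq_zero_iff two_ne_zero).1 h4)
    obtain ⟨Q', hP', hi', hs'⟩ := SpQuadrics.exists_invariant_sign h2 hPol
      (Matrix.toLin' (x : Matrix (Fin (k + 1) ⊕ Fin (k + 1)) (Fin (k + 1) ⊕ Fin (k + 1)) F))
      (fun v => by rw [Matrix.toLin'_apply, Matrix.toLin'_apply, hzz, hz1, one_smul])
      (fun u v => by simp only [Symplectic.spB_apply, Matrix.toLin'_apply]; exact hxB u v) hε
      (hcase.imp_left hplus.1)
    obtain ⟨E, hE⟩ := exists_isometry hP'.nondeg hPol.nondeg hn hn hs' hs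
    have hmem : glEquiv.symm E ∈ Cfsg.spGL (k + 1) F :=
      hpolmem _ Q' Qf hP' hPol fun v => by rw [← glEquiv_apply, MulEquiv.apply_symm_apply, hE]
    refine ⟨_, hmem, (hH _ (mul_mem (mul_mem (inv_mem hmem) hx) hmem)).2 fun v => ?_⟩
    rw [← hE, Units.val_mul, Units.val_mul, ← Matrix.mulVec_mulVec, ← Matrix.mulVec_mulVec, ← glEquiv_apply,
      ← glEquiv_apply (glEquiv.symm E), map_inv, MulEquiv.apply_symm_apply,
      show ∀ w, (E⁻¹ : (Fin (k + 1) ⊕ Fin (k + 1) → F) ≃ₗ[F] _) w = E.symm w from fun w => rfl,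
      LinearEquiv.apply_symm_apply, ← hE v]
    have := hi' (E v)
    rwa [Matrix.toLin'_apply] at this

end Cfsg.Agent.S5983
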