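import Cfsg.Statements.S5984
import Cfsg.Agent.H98.PrimeElem.PolarElem
import Cfsg.Agent.H98.PrimeElem.Involution

set_option autoImplicit false
open scoped MatrixGroups
open Cfsg

namespace Cfsg.Agent.S5984

open Matrix Module Cfsg.Agent.Unitary Cfsg.Agent.H98.PrimeElem

/-- Elements of prime order of PSU_n(q) and the stabilizers of pairs of complementary totally singular subspaces. Here `T = PSU_n(q)` is realised through `SU_n(q)`, the matrices of determinant 1 over the field `F` with `q²` elements preserving the hermitian form `Σ uᵢ vᵢ^q`, with `n ≥ 4` even; `D` is a pair of complementary subspaces of dimension `n/2` on each of which the form vanishes identically, and `H` is the subgroup of `SU_n(q)` fixing or interchanging the two members — a subgroup of type GL_{n/2}(q²).2 (maximality is not assumed). Ω is the set of cosets of `H`, so an element of `T` of prime order `r` (`x ∈ SU_n(q)` with `x^r` scalar, `x` not scalar) fixes a point of Ω exactly when some `SU_n(q)`-conjugate of `x` lies in `H`. Let `r` be a prime dividing the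 index of `H`. Then every element of `T` of order `r` fixes a point of Ω if and only if `r = 2`, `q` is odd and `(q + 1)_2 ≤ (n)_2` (2-parts). -/
theorem result {F : Type*} [Field F] [Fintype F] {p : ℕ} [Fact p.Prime] [CharP F p] {q : ℕ} (hq : Fintype.card F = q ^ 2)
    (n : ℕ) (hn : 4 ≤ n) (he : Even n) (D : Fin 2 → Submodule F (Fin n → F)) (hD : Cfsg.Geo.IsMDecomposition (n / 2) D)
    (hDs : ∀ i, Cfsg.Geo.IsTotallySingularFor (Cfsg.hermForm n F q) (D i))
    (r : ℕ) [Fact r.Prime]
    (hΩ : r ∣ (Cfsg.Geo.decompositionStabilizer D).relIndex (Cfsg.GU n F q ⊓ Cfsg.Geo.specialLinear (Fin n) F)) :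
    (∀ x ∈ Cfsg.GU n F q ⊓ Cfsg.Geo.specialLinear (Fin n) F, (∃ z : F, ((x ^ r : GL (Fin n) F) : Matrix (Fin n) (Fin n) F) = z • (1 : Matrix (Fin n) (Fin n) F)) →
      (∀ z : F, (x : Matrix (Fin n) (Fin n) F) ≠ z • (1 : Matrix (Fin n) (Fin n) F)) →
      ∃ g ∈ Cfsg.GU n F q ⊓ Cfsg.Geo.specialLinear (Fin n) F, g⁻¹ * x * g ∈ Cfsg.Geo.decompositionStabilizer D) ↔
    (r = 2 ∧ Odd q ∧ padicValNat 2 (q + 1) ≤ padicValNat 2 n) := by
  classical
  have hr := (Fact.out : r.Prime)
  have hp := (Fact.out : p.Prime)
  obtain ⟨m, rfl⟩ := he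
  have hm : 0 < m := by omega
  have hhalf : (m + m) / 2 = m := by omega
  rw [hhalf] at hD
  have hcompl : IsCompl (D 0) (D 1) := by
    refine ⟨hD.indep.pairwiseDisjoint (by decide : (0 : Fin 2) ≠ 1), codisjoint_iff.2 (eq_top_iff.2 ?_)⟩
    rw [← hD.iSup_eq_top]
    exact iSup_le (Fin.forall_fin_two.2 ⟨le_sup_left, le_sup_right⟩)
  have hpair : IsPolarPair q m (D 0) (D 1) := ⟨hDs 0, hDs 1, hcompl, hD.finrank_eq 0, hD.finrank_eq 1⟩
  have hqp : ∃ f : ℕ, 0 < f ∧ q = p ^ f := by
    obtain ⟨f, -, hf⟩ := FiniteField.card F p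
    have hq' : q ^ 2 = p ^ (f : ℕ) := hq ▸ hf
    obtain ⟨g, -, hg⟩ := (Nat.dvd_prime_pow hp).1 (hq' ▸ dvd_pow_self q two_ne_zero : q ∣ p ^ (f : ℕ))
    refine ⟨g, Nat.pos_of_ne_zero fun h0 => ?_, hg⟩
    have := two_le_q hq
    rw [hg, h0, pow_zero] at this
    omega
  obtain ⟨f, hf0, hqf⟩ := hqp
  constructor
  · intro H
    -- a witness: odd rank of a norm-one shift, and either r odd or the rank small
    have key : ∀ x ∈ Cfsg.GU (m + m) F q ⊓ Cfsg.Geo.specialLinear (Fin (m + m)) F,
        (∃ z : F, ((x ^ r : GL (Fin (m + m)) F) : Matrix (Fin (m + m)) (Fin (m + m)) F) = z • 1) →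
        ∀ l : F, l * l ^ q = 1 → Odd ((x : Matrix (Fin (m + m)) (Fin (m + m)) F) - l • 1).rank →
        (Odd r ∨ ((x : Matrix (Fin (m + m)) (Fin (m + m)) F) - l • 1).rank < m) → False := by
      intro x hx hxr l hl hodd hor
      have hns : ∀ z : F, (x : Matrix (Fin (m + m)) (Fin (m + m)) F) ≠ z • 1 := by
        intro z hz
        rcases eq_or_ne z l with h | h
        · rw [hz, h, sub_self, Matrix.rank_zero] at hodd
          exact Nat.not_odd_zero hodd
        · have hu : IsUnit ((x : Matrix (Fin (m + m)) (Fin (m + m)) F) - l • 1) := by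
            rw [hz, ← sub_smul]
            exact IsUnit.smul (Units.mk0 (z - l) (sub_ne_zero.2 h))
              (isUnit_one : IsUnit (1 : Matrix (Fin (m + m)) (Fin (m + m)) F))
          rw [Matrix.rank_of_isUnit _ hu, Fintype.card_fin] at hodd
          exact (Nat.not_odd_iff_even.2 ⟨m, rfl⟩) hodd
      obtain ⟨g, hg, σ, hσ⟩ := H x hx hxr hns
      set U := (D 0).map (Matrix.toLin' (g : Matrix (Fin (m + m)) (Fin (m + m)) F)) with hU
      set W := (D 1).map (Matrix.toLin' (g : Matrix (Fin (m + m)) (Fin (m + m)) F)) with hW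
      have hginj : Function.Injective (Matrix.toLin' (g : Matrix (Fin (m + m)) (Fin (m + m)) F)) := fun u v huv =>
        (Preserves.mulVec_injective hq (mem_GU_iff.1 hg.1)) (by simpa [Matrix.toLin'_apply] using huv)
      have hpair' : IsPolarPair q m U W := by
        refine ⟨?_, ?_, ⟨Submodule.disjoint_map hginj hcompl.disjoint, codisjoint_iff.2 ?_⟩, ?_, ?_⟩
        · rintro _ ⟨u, hu, rfl⟩ _ ⟨v, hv, rfl⟩
          rw [Matrix.toLin'_apply, Matrix.toLin'_apply, (mem_GU_iff.1 hg.1) u v]
          exact hDs 0 u hu v hv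
        · rintro _ ⟨u, hu, rfl⟩ _ ⟨v, hv, rfl⟩
          rw [Matrix.toLin'_apply, Matrix.toLin'_apply, (mem_GU_iff.1 hg.1) u v]
          exact hDs 1 u hu v hv
        · rw [hU, hW, ← Submodule.map_sup, hcompl.sup_eq_top, Submodule.map_top,
            LinearMap.range_eq_top.2 (LinearMap.injective_iff_surjective.1 hginj)]
        · rw [hU, ← (Submodule.equivMapOfInjective _ hginj _).finrank_eq, hpair.finrank_left]
        · rw [hW, ← (Submodule.equivMapOfInjective _ hginj _).finrank_eq, hpair.finrank_right]
      have hx' : ∀ i, ((D i).map (Matrix.toLin' (g : Matrix (Fin (m + m)) (Fin (m + m)) F))).map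
          (Matrix.toLin' (x : Matrix (Fin (m + m)) (Fin (m + m)) F)) =
          (D (σ i)).map (Matrix.toLin' (g : Matrix (Fin (m + m)) (Fin (m + m)) F)) := by
        intro i
        rw [← hσ i, ← Submodule.map_comp, ← Submodule.map_comp, ← Matrix.toLin'_mul, ← Matrix.toLin'_mul,
          ← Units.val_mul, ← Units.val_mul]
        congr 3
        group
      rcases eq_or_ne (σ 0) 0 with h0 | h0
      · have h1 : σ 1 = 1 := by
          rcases Fin.exists_fin_two.1 ⟨σ 1, rfl⟩ with h | h
          · exact absurd (σ.injective (h0.trans h.symm)) (by decide)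
          · exact h
        have := even_rank_of_fixing hq hpair' (mem_GU_iff.1 hx.1) (by simpa [hU, h0] using hx' 0)
          (by simpa [hW, h1] using hx' 1) hl
        exact Nat.not_even_iff_odd.2 hodd this
      · have h01 : σ 0 = 1 := Fin.eq_one_of_ne_zero _ h0
        have hxU : U.map (Matrix.toLin' (x : Matrix (Fin (m + m)) (Fin (m + m)) F)) = W := by
          simpa [hU, hW, h01] using hx' 0
        rcases hor with hro | hlt
        · have h10 : σ 1 = 0 := by
            rcases Fin.exists_fin_two.1 ⟨σ 1, rfl⟩ with h | h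
            · exact h
            · exact absurd (σ.injective (h01.trans h.symm)) (by decide)
          have hxW : W.map (Matrix.toLin' (x : Matrix (Fin (m + m)) (Fin (m + m)) F)) = U := by
            simpa [hU, hW, h10] using hx' 1
          obtain ⟨k, rfl⟩ := hro
          have hev : ∀ j : ℕ, U.map (Matrix.toLin' ((x : Matrix (Fin (m + m)) (Fin (m + m)) F) ^ (2 * j))) = U := by
            intro j
            induction j with
            | zero => simp
            | succ j ih => rw [Nat.mul_succ, pow_succ, pow_succ, Matrix.toLin'_mul, Matrix.toLin'_mul,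
                Submodule.map_comp, Submodule.map_comp, hxU, hxW, ih]
          obtain ⟨z, hz⟩ := hxr
          rw [Units.val_pow_eq_pow_val, pow_succ', ] at hz
          have hUW : W ≤ U := by
            rw [← hxU]
            conv_lhs => rw [← hev k, ← Submodule.map_comp, ← Matrix.toLin'_mul, hz]
            rintro _ ⟨u, hu, rfl⟩
            simpa using U.smul_mem z hu
          have := hpair'.compl.disjoint.eq_bot_of_ge hUW
          have h2 := hpair'.finrank_right
          rw [this, finrank_bot] at h2
          omega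
        · have := le_rank_of_swapping hpair' hxU (Preserves.mulVec_injective hq (mem_GU_iff.1 hx.1)) l
          omega
    let i0 : Fin (m + m) := ⟨0, by omega⟩
    let i1 : Fin (m + m) := ⟨1, by omega⟩
    have h01 : i0 ≠ i1 := by simp [i0, i1]
    have hrp : r ≠ p := by
      intro hrp
      obtain ⟨ε, hε⟩ := exists_norm_eq_neg_one (F := F) hq
      obtain ⟨la, hla0, hla⟩ := exists_skew (F := F) hq
      obtain ⟨v, hv⟩ : ∃ v : Fin (m + m) → F, v = Pi.single i0 1 + Pi.single i1 ε := ⟨_, rfl⟩
      have hvv : hermForm (m + m) F q v v = 0 := by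
        simp only [hv, herm_add_left, herm_add_right hq, herm_single_left, Pi.single_eq_same,
          Pi.single_eq_of_ne h01, Pi.single_eq_of_ne h01.symm, cj_apply, one_pow, zero_pow (q_ne_zero hq), mul_zero,
          mul_one, add_zero, zero_add, one_mul]
        linear_combination hε
      set N : Matrix (Fin (m + m)) (Fin (m + m)) F := la • Matrix.vecMulVec v (cj q v) with hN
      have hNv : ∀ w, N *ᵥ w = (la * hermForm (m + m) F q w v) • v := by
        intro w
        rw [hN, Matrix.smul_mulVec, Matrix.vecMulVec_mulVec, herm_eq_dot, dotProduct_comm, op_smul_eq_smul, smul_smul]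
      set X : Matrix (Fin (m + m)) (Fin (m + m)) F := 1 + N with hX
      have hXp : Preserves q X := by
        intro a b
        rw [hX, Matrix.add_mulVec, Matrix.add_mulVec, Matrix.one_mulVec, Matrix.one_mulVec, hNv, hNv, herm_add_left,
          herm_add_right hq, herm_add_right hq, herm_smul_left, herm_smul_left, herm_smul_right, herm_smul_right, hvv,
          mul_pow, hla, herm_swap hq]
        ring
      have hXdet : X.det = 1 := by
        rw [hX, hN, ← Matrix.smul_vecMulVec, Matrix.vecMulVec_eq Unit, Matrix.det_one_add_replicateCol_mul_replicateRow,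
          dotProduct_comm, smul_dotProduct, ← herm_eq_dot, hvv, smul_zero, add_zero]
      let x : GL (Fin (m + m)) F := Matrix.GeneralLinearGroup.mk'' X (by rw [hXdet]; exact isUnit_one)
      have hNN : N * N = 0 := by
        apply Matrix.toLin'.injective
        rw [map_zero, Matrix.toLin'_mul]
        refine LinearMap.ext fun w => ?_
        rw [LinearMap.comp_apply, LinearMap.zero_apply, Matrix.toLin'_apply, Matrix.toLin'_apply, hNv (N *ᵥ w), hNv w,
          herm_smul_left, hvv, mul_zero, mul_zero, zero_smul]
      have hpow : ∀ j : ℕ, X ^ j = 1 + (j : F) • N := by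
        intro j
        induction j with
        | zero => simp
        | succ j ih =>
          rw [pow_succ, ih, hX, add_mul, mul_add, one_mul, one_mul, Matrix.smul_mul, mul_add, mul_one, hNN, add_zero,
            Nat.cast_succ, add_smul, one_smul]
          abel
      have hrk : (X - (1 : F) • 1).rank = 1 := by
        rw [one_smul, hX, add_sub_cancel_left, hN, ← Matrix.smul_vecMulVec]
        apply le_antisymm
        · simpa using Matrix.rank_vecMulVec_le (la • v) (cj q v)
        · rw [Nat.one_le_iff_ne_zero, Matrix.rank]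
          intro h0
          have hbot := Submodule.finrank_eq_zero.1 h0
          have hmem : (Matrix.vecMulVec (la • v) (cj q v)).mulVecLin (Pi.single i0 1) ∈
              (⊥ : Submodule F (Fin (m + m) → F)) := by rw [← hbot]; exact ⟨_, rfl⟩
          rw [Matrix.mulVecLin_apply, Submodule.mem_bot, Matrix.vecMulVec_mulVec, op_smul_eq_smul] at hmem
          have := congrFun hmem i0
          simp [hv, cj_apply, h01, h01.symm, hla0] at this
      refine key x ⟨mem_GU_iff.2 hXp, MonoidHom.mem_ker.2 (Units.ext hXdet)⟩ ⟨1, ?_⟩ 1 (by simp) ?_ (Or.inr ?_)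
      · rw [Units.val_pow_eq_pow_val, one_smul]
        show X ^ r = 1
        rw [hpow, hrp, CharP.cast_eq_zero, zero_smul, add_zero]
      · show Odd (X - (1 : F) • 1).rank
        rw [hrk]; exact odd_one
      · show (X - (1 : F) • 1).rank < m
        rw [hrk]; omega
    have hrq : ¬ r ∣ q := fun hd => hrp ((Nat.prime_dvd_prime_iff_eq hr hp).1 (hr.dvd_of_dvd_pow (hqf ▸ hd)))
    have hrF : (r : F) ≠ 0 := fun h =>
      hrp ((Nat.prime_dvd_prime_iff_eq hp hr).1 ((CharP.cast_eq_zero_iff F p r).1 h)).symm
    have hr2 : r = 2 := by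
      by_contra hr2
      have hro : Odd r := hr.odd_of_ne_two hr2
      by_cases hdq : r ∣ q + 1
      · obtain ⟨z, hz⟩ := exists_prime_orderOf_dvd_card' (G := Fˣ) r
          (by rw [Cfsg.Agent.Unitary.card_units hq]; exact dvd_mul_of_dvd_left hdq _)
        have hzr : z ^ r = 1 := hz ▸ pow_orderOf_eq_one z
        have hzq : z ^ (q + 1) = 1 := orderOf_dvd_iff_pow_eq_one.1 (hz ▸ hdq)
        have hz1 : z ≠ 1 := fun h => by rw [h, orderOf_one] at hz; exact hr.ne_one hz.symm
        have hzz : z ≠ z⁻¹ := fun h => by
          have h2 : z ^ 2 = 1 := by rw [sq]; nth_rewrite 2 [h]; exact mul_inv_cancel z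
          have hd2 := orderOf_dvd_of_pow_eq_one h2
          rw [hz] at hd2
          exact hr2 ((Nat.prime_dvd_prime_iff_eq hr Nat.prime_two).1 hd2)
        set d : Fin (m + m) → F := Function.update (Function.update 1 i1 ((z⁻¹ : Fˣ) : F)) i0 (z : F) with hd
        have hd' : ∀ j, d j = if j = i0 then (z : F) else if j = i1 then ((z⁻¹ : Fˣ) : F) else 1 := fun j => by
          rw [hd]; simp [Function.update_apply]
        have hzn : ∀ w : Fˣ, w ^ (q + 1) = 1 → (w : F) * (w : F) ^ q = 1 := fun w hw => by
          rw [← pow_succ', ← Units.val_pow_eq_pow_val, hw, Units.val_one]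
        obtain ⟨x, hx, hxd⟩ := exists_diagonal d (by
          rw [hd, Finset.prod_update_of_mem (Finset.mem_univ i0), Finset.prod_update_of_mem (by simp [h01.symm]),
            Finset.prod_eq_one (fun j _ => Pi.one_apply j), mul_one, Units.mul_inv])
        refine key x ⟨mem_GU_iff.2 (hxd ▸ preserves_diagonal fun j => ?_), hx⟩ ⟨1, ?_⟩ z (hzn z hzq) ?_ (Or.inl hro)
        · rw [hd']
          split_ifs
          · exact hzn z hzq
          · exact hzn _ (by rw [inv_pow, hzq, inv_one])
          · simp
        · rw [Units.val_pow_eq_pow_val, hxd, Matrix.diagonal_pow, one_smul, ← Matrix.diagonal_one]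
          congr 1
          funext j
          simp only [Pi.pow_apply, hd', ← Units.val_one (α := F)]
          split_ifs <;> rw [← Units.val_pow_eq_pow_val] <;> simp [hzr, inv_pow]
        · rw [hxd, rank_diagonal_sub, Fintype.card_subtype,
            show (Finset.univ.filter fun j => d j ≠ (z : F)) = Finset.univ.erase i0 by
              ext j
              simp only [Finset.mem_filter, Finset.mem_univ, true_and, hd', Finset.mem_erase, and_true]
              split_ifs with h h'
              · exact iff_of_false (fun hne => hne rfl) (fun hn => hn h)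
              · exact iff_of_true (fun he => hzz (Units.ext he).symm) h
              · exact iff_of_true (fun he => hz1 (Units.ext he.symm)) h,
            Finset.card_erase_of_mem (Finset.mem_univ _), Finset.card_univ, Fintype.card_fin]
          exact ⟨m - 1, by omega⟩
      · obtain ⟨J, hJ, hJn, hJd⟩ := exists_odd_dvd hq hm hr hrq hpair hΩ
        obtain ⟨x, hx, hxr, hxo⟩ := exists_unitary_odd hq hr2 hrq hrF hdq hJ hJn hJd
        exact key x hx ⟨1, by rw [Units.val_pow_eq_pow_val, hxr, one_smul]⟩ 1 (by simp) (by rwa [one_smul]) (Or.inl hro)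
    subst hr2
    have hq' : Odd q := Nat.not_even_iff_odd.1 fun h => hrq h.two_dvd
    have hm1 : (-1 : F) ≠ 1 := fun h => hrF (by push_cast; linear_combination -h)
    refine ⟨rfl, hq', le_of_not_gt fun hlt' => ?_⟩
    obtain ⟨μ, hμq, hμ⟩ := exists_norm_one_pow_eq_neg_one hq (by omega) hlt'
    set d : Fin (m + m) → F := Function.update (fun _ => μ) i0 (-μ) with hd
    obtain ⟨x, hx, hxd⟩ := exists_diagonal d (by
      rw [hd, Finset.prod_update_of_mem (Finset.mem_univ i0), Finset.prod_const, Finset.card_sdiff]
      simp only [Finset.inter_univ, Finset.card_singleton, Finset.card_univ, Fintype.card_fin]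
      rw [neg_mul, ← pow_succ', Nat.sub_add_cancel (by omega), hμ, neg_neg])
    have hμ0 : μ ≠ 0 := fun h => by simp [h] at hμq
    have hrk : ((x : Matrix (Fin (m + m)) (Fin (m + m)) F) - μ • 1).rank = 1 := by
      rw [hxd, rank_diagonal_sub, Fintype.card_subtype,
        show (Finset.univ.filter fun j => d j ≠ μ) = {i0} by
          ext j
          simp only [Finset.mem_filter, Finset.mem_univ, true_and, hd, Function.update_apply, Finset.mem_singleton]
          split_ifs with h
          · refine iff_of_true (fun he => hm1 ?_) h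
            exact mul_right_cancel₀ hμ0 (by rw [neg_one_mul, one_mul]; exact he)
          · exact iff_of_false (fun hne => hne rfl) h,
        Finset.card_singleton]
    refine key x ⟨mem_GU_iff.2 (hxd ▸ preserves_diagonal fun j => ?_), hx⟩ ⟨μ ^ 2, ?_⟩ μ hμq
      (by rw [hrk]; exact odd_one) (Or.inr (by rw [hrk]; omega))
    · simp only [hd, Function.update_apply]
      split_ifs
      · rw [hq'.neg_pow, neg_mul_neg, hμq]
      · exact hμq
    · rw [Units.val_pow_eq_pow_val, hxd, Matrix.diagonal_pow, Matrix.smul_one_eq_diagonal]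
      congr 1
      funext j
      simp only [Pi.pow_apply, hd, Function.update_apply]
      split_ifs <;> simp
  · rintro ⟨rfl, hodd, hval⟩ x hx ⟨c, hc⟩ hns
    have hsq : (x : Matrix (Fin (m + m)) (Fin (m + m)) F) * x = c • 1 := by rw [← hc, sq, Units.val_mul]
    obtain ⟨U, W, hUW, hxU, hxW⟩ := exists_polarPair_of_sq hq hodd (two_mul m).symm hm hval (mem_GU_iff.1 hx.1)
      (congrArg Units.val (MonoidHom.mem_ker.1 hx.2)) hsq
    obtain ⟨g, hg, hgU, hgW⟩ := exists_SU_map hq hm hpair hUW
    refine ⟨g, hg, 1, Fin.forall_fin_two.2 ⟨?_, ?_⟩⟩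
    all_goals
      show Submodule.map (Matrix.toLin' ((g⁻¹ * x * g : GL (Fin (m + m)) F) : Matrix (Fin (m + m)) (Fin (m + m)) F)) _ = _
      rw [Units.val_mul, Units.val_mul, Matrix.toLin'_mul, Matrix.toLin'_mul, Submodule.map_comp, Submodule.map_comp]
    · rw [hgU, hxU, ← hgU, ← Submodule.map_comp, ← Matrix.toLin'_mul, Units.inv_mul, Matrix.toLin'_one,
        Submodule.map_id]
      rfl
    · rw [hgW, hxW, ← hgW, ← Submodule.map_comp, ← Matrix.toLin'_mul, Units.inv_mul, Matrix.toLin'_one,
        Submodule.map_id]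
      rfl


end Cfsg.Agent.S5984
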