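import Cfsg.Statements.S5985
import Cfsg.Agent.H68.EvenDerange
-- import your own Cfsg.Agent.* helpers here

set_option autoImplicit false
open scoped MatrixGroups
open Cfsg

namespace Cfsg.Agent.S5985

/-- Elements of prime order of Ω⁺_n(q), q even, with no fixed nonsingular 1-space. Here `T = PΩ⁺_n(F)`, `n = 2d ≥ 8`, realised through `Ω⁺_n(q)`, the commutator subgroup of the isometry group of `Q = Σ xᵢyᵢ` over the field `F` with `q` elements; an element of `T` of prime order `r` is an element `x` of `Ω⁺_n(q)` with `x^r` scalar and `x` not scalar; `q` is even (so the centre is trivial). Let Ω be the set of 1-dimensional subspaces spanned by a vector `v` with `Q(v) ≠ 0`, and let `r` be a prime dividing their number. Then every element of `T` of order `r` fixes some nonsingular 1-space if and only if `r = 2` and `n ≡ 2 (mod 4)` (that is, `d` is odd). -/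
theorem result {F : Type*} [Field F] [Fintype F] {p : ℕ} [Fact p.Prime] [CharP F p] {q : ℕ} (hq : Fintype.card F = q)
    (hp : p = 2) (d : ℕ) (hd : 4 ≤ d) (r : ℕ) [Fact r.Prime]
    (hrΩ : r ∣ Nat.card {W : Submodule F (Fin d ⊕ Fin d → F) // Module.finrank F ↥W = 1 ∧ ∃ v ∈ W, Cfsg.quadFormPlus d F v ≠ 0}) :
    (∀ x : GL (Fin d ⊕ Fin d) F, x ∈ Cfsg.Geo.omegaGL (Cfsg.quadFormPlus d F) →
      (∃ z : F, ((x ^ r : GL (Fin d ⊕ Fin d) F) : Matrix (Fin d ⊕ Fin d) (Fin d ⊕ Fin d) F) = z • (1 : Matrix (Fin d ⊕ Fin d) (Fin d ⊕ Fin d) F)) →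
      (∀ z : F, (x : Matrix (Fin d ⊕ Fin d) (Fin d ⊕ Fin d) F) ≠ z • (1 : Matrix (Fin d ⊕ Fin d) (Fin d ⊕ Fin d) F)) →
      ∃ W : Submodule F (Fin d ⊕ Fin d → F), (Module.finrank F ↥W = 1 ∧ ∃ v ∈ W, Cfsg.quadFormPlus d F v ≠ 0) ∧ W.map (Matrix.toLin' (x : Matrix (Fin d ⊕ Fin d) (Fin d ⊕ Fin d) F)) ≤ W) ↔ (r = 2 ∧ Odd d) := by
  subst hp
  have h2 : (2 : F) = 0 := (CharP.cast_eq_zero F 2 : ((2 : ℕ) : F) = 0)
  have hQ := Orthogonal.formPlus_nondeg F d
  have hι : Fintype.card (Fin d ⊕ Fin d) = 2 * d := by simp; omega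
  have hs := H68.EvenOrtho.sign_formPlus (F := F) d
  constructor
  · intro H
    have hr2 : r = 2 := by
      by_contra hr2
      exact H68.EvenDerange.odd_case (Q₀ := Orthogonal.formPlus F d) h2 rfl hq hQ hd hι (Or.inl rfl) hs hr2 hrΩ H
    refine ⟨hr2, ?_⟩
    by_contra hodd
    obtain ⟨k, rfl⟩ := Nat.not_odd_iff_even.1 hodd
    subst hr2
    exact H68.EvenDerange.even_case h2 (by omega) H
  · rintro ⟨rfl, hodd⟩
    rcases H68.EvenDerange.two_dichotomy (Q₀ := Orthogonal.formPlus F d) h2 hQ hι (by omega) with ⟨-, he⟩ | h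
    · exact absurd he (Nat.not_even_iff_odd.2 hodd)
    · exact h

end Cfsg.Agent.S5985
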