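import Cfsg.Statements.S5988
import Cfsg.Agent.H58.Elusive.App
import Cfsg.Agent.H58.Elusive.Quarter

set_option autoImplicit false
open scoped MatrixGroups
open Cfsg

namespace Cfsg.Agent.S5988

/-- Elements of prime order of PΩ⁺_n(q) with no fixed elliptic `m`-space. Here `T = PΩ⁺_n(F)`, `n = 2d ≥ 8`, realised through `Ω⁺_n(q)`, the commutator subgroup of the isometry group of `Q = Σ xᵢyᵢ` over the field `F` with `q` elements; an element of `T` of prime order `r` is an element `x` of `Ω⁺_n(q)` with `x^r` scalar and `x` not scalar; a nondegenerate `m`-space (even `m`) is a subspace on which the polar form of `Q` is nondegenerate; it is hyperbolic if it contains an `m/2`-dimensional subspace on which `Q` vanishes, elliptic otherwise. Let `m` be even with `2 ≤ m < n/2` and let `r` be a prime dividing the number of elliptic `m`-spaces; for `r ≠ p` let `i` be the multiplicative order of `q` modulo `r`, `c = i` for `i` even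 and `c = 2i` for `i` odd, and write `k = n mod c`, `ℓ = m mod i`, `ℓ' = m mod c`, `n' = ⌊n/i⌋`, `m' = ⌊m/i⌋`, `t = (r−1)/i`. Then every element of `T` of order `r` fixes some elliptic `m`-space if and only if one of: (i) `r = 2 ≠ p` and either `n ≡ 0 (mod 4)`, `q ≡ 3 (mod 4)` and `m ≡ 2 (mod 4)`, or `n ≡ 2 (mod 4)` and `q ≢ 1 (mod 8)`; (ii) `r ≠ p` odd, `i` odd, `c ≤ m` and `k > ℓ' > 0`; (iii) `r ≠ p` odd, `i` even, and either `k = 0` and (`n/i` odd, or `ℓ' = 0` and `m/i` odd), or `i ≤ m` and (`k > ℓ' > 0`, or `k = ℓ' > 0` and `(n + m − 2k)/i` odd, or `k > ℓ' = 0` and `m/i` odd). (For `r = p` there is always an element of order `p` fixing no elliptic `m`-space.) -/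
theorem result {F : Type*} [Field F] [Fintype F] {p : ℕ} [Fact p.Prime] [CharP F p] {q : ℕ} (hq : Fintype.card F = q)
    (d m : ℕ) (hd : 4 ≤ d) (hm : 2 ≤ m) (hme : Even m) (hmd : m < d)
    (r : ℕ) [Fact r.Prime]
    (hrΩ : r ∣ Nat.card {W : Submodule F (Fin d ⊕ Fin d → F) // Module.finrank F ↥W = m ∧ Cfsg.Geo.IsNondegenerateOn (QuadraticMap.polar (Cfsg.quadFormPlus d F)) W ∧ ¬ Cfsg.Geo.IsPlusTypeOn (Cfsg.quadFormPlus d F) W})
    (i c : ℕ) (hi : i = orderOf (q : ZMod r)) (hc : c = if Even i then i else 2 * i) :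
    (∀ x : GL (Fin d ⊕ Fin d) F, x ∈ Cfsg.Geo.omegaGL (Cfsg.quadFormPlus d F) →
      (∃ z : F, ((x ^ r : GL (Fin d ⊕ Fin d) F) : Matrix (Fin d ⊕ Fin d) (Fin d ⊕ Fin d) F) = z • (1 : Matrix (Fin d ⊕ Fin d) (Fin d ⊕ Fin d) F)) →
      (∀ z : F, (x : Matrix (Fin d ⊕ Fin d) (Fin d ⊕ Fin d) F) ≠ z • (1 : Matrix (Fin d ⊕ Fin d) (Fin d ⊕ Fin d) F)) →
      ∃ W : Submodule F (Fin d ⊕ Fin d → F), (Module.finrank F ↥W = m ∧ Cfsg.Geo.IsNondegenerateOn (QuadraticMap.polar (Cfsg.quadFormPlus d F)) W ∧ ¬ Cfsg.Geo.IsPlusTypeOn (Cfsg.quadFormPlus d F) W) ∧ W.map (Matrix.toLin' (x : Matrix (Fin d ⊕ Fin d) (Fin d ⊕ Fin d) F)) ≤ W) ↔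
    ((r = 2 ∧ p ≠ 2 ∧ ((Even d ∧ q % 4 = 3 ∧ m % 4 = 2) ∨ (Odd d ∧ q % 8 ≠ 1))) ∨
     (r ≠ p ∧ 2 < r ∧ Odd i ∧ c ≤ m ∧ 0 < m % c ∧ m % c < (2 * d) % c) ∨
     (r ≠ p ∧ 2 < r ∧ Even i ∧
       (((2 * d) % c = 0 ∧ (Odd ((2 * d) / i) ∨ (m % c = 0 ∧ Odd (m / i)))) ∨
        (i ≤ m ∧ ((0 < m % c ∧ m % c < (2 * d) % c) ∨
                  (0 < m % c ∧ m % c = (2 * d) % c ∧ Odd ((2 * d + m - 2 * ((2 * d) % c)) / i)) ∨
                  (m % c = 0 ∧ 0 < (2 * d) % c ∧ Odd (m / i))))))) := by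
  classical
  subst hi
  have hqn : Nat.card F = q := Nat.card_eq_fintype_card.trans hq
  have hQ : Orthogonal.Nondeg (Orthogonal.formPlus F d) := Orthogonal.formPlus_nondeg F d
  have hι : Fintype.card (Fin d ⊕ Fin d) = 2 * d := by
    simp only [Fintype.card_sum, Fintype.card_fin]; omega
  have hfr : Module.finrank F (Fin d ⊕ Fin d → F) = 2 * d := Orthogonal.finrank_formPlus F d
  have hsQ : H58.Elusive.sg (Orthogonal.formPlus F d) = 1 := H58.Elusive.sg_formPlus d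
  obtain ⟨W₀, hW₀, hW₀d, hW₀s, hP⟩ := H58.Elusive.exists_orbit_minus hQ hm hme (by omega)
  by_cases hrp : r = p
  · subst hrp
    refine ⟨fun h => ?_, fun h => ?_⟩
    · exfalso
      obtain ⟨g, hgc, hne, hgp, hW⟩ := H58.Elusive.siegel_props r hQ (by omega) (Orthogonal.formPlus_frame F d)
        (u := d / 2) (by omega) (by omega)
      refine H58.Elusive.not_forall_scalar g hgc hne hgp (fun W hPW hinv => ?_) h
      obtain ⟨hWm, hWn, hWp⟩ := hPW
      have hn := (H58.Elusive.geo_nondeg_iff (Q := Orthogonal.formPlus F d) W).1 hWn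
      obtain ⟨k, hk⟩ := hme
      have hns := (H58.Elusive.geo_plus_iff hn (a := k) (by omega)).not.1 hWp
      obtain ⟨t, a', b', ht, hWd, hab, ha, hb⟩ := hW W hn hinv
      rcases (show a' = 0 ∨ b' = 0 by omega) with h0 | h0
      · exact hns (ha h0)
      · have := H58.Elusive.sg_perp hQ hn ⟨k, by omega⟩ ⟨d, by omega⟩
        rw [hsQ, hb h0, mul_one] at this
        exact hns this.symm
    · rcases h with ⟨h1, h2, -⟩ | ⟨h1, -⟩ | ⟨h1, -⟩
      · exact absurd h1 h2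
      · exact absurd rfl h1
      · exact absurd rfl h1
  obtain ⟨μ, hμ⟩ := hme
  by_cases hr2 : r = 2
  · subst hr2
    have hp : p ≠ 2 := Ne.symm hrp
    have hqodd := H58.Elusive.odd_char_of_card (F := F) hq hp
    have h2 : (2 : F) ≠ 0 := H58.Elusive.two_ne_zero_of_odd_card (hq.symm ▸ hqodd)
    refine (H58.Elusive.forall_scalar_two_iff hQ (by omega) h2 hP (by omega)).trans ?_
    rw [H58.Elusive.allFixTwo_iff hQ h2 hW₀ (by omega) (by omega), hW₀s, hW₀d,
      H58.Elusive.quarter_plus hq hqodd hfr hsQ, eq_comm (a := (-1 : ℤ)),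
      H58.Elusive.chi_pow_neg hq hqodd]
    have ho := Nat.odd_iff.1 hqodd
    simp only [lt_irrefl, false_and, and_false, or_false, true_and, hp, ne_eq, not_false_eq_true, Nat.odd_iff,
      Nat.even_iff]
    omega
  have hrF : (r : F) ≠ 0 := H58.Elusive.cast_prime_ne_zero hrp
  have hdiv : r ∣ Nat.card {W // H58.Elusive.IsoOn (Orthogonal.formPlus F d) W W₀} := by
    rw [← H58.Elusive.card_orbit hP]; exact hrΩ
  refine (H58.Elusive.forall_scalar_iff hQ (by omega) (by omega) hr2 hP).trans ?_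
  rw [H58.Elusive.allFix_iff hQ hr2 hrF hW₀ (by omega) (by omega) (Or.inl ⟨d, by omega⟩) hdiv]
  obtain ⟨hbig, hbig'⟩ := H58.Elusive.big hQ hr2 hrF hW₀ hdiv
  have hcpos := H58.Elusive.cc_pos (F := F) (r := r) hrF
  dsimp only [H58.Elusive.Crit]
  rw [hfr, hW₀d] at *
  rw [hW₀s, hsQ, hqn] at *
  have hcc : H58.Elusive.cc q r = c := hc.symm
  have hii : H58.Elusive.ii q r = orderOf (q : ZMod r) := rfl
  have hr3 : 2 < r := by have := (Fact.out : r.Prime).two_le; omega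
  have hev : Even (2 * d) := even_two_mul d
  rw [hcc] at hbig hcpos hbig'
  simp only [one_mul, hev, true_and, not_and] at hbig'
  rw [eq_comm (a := (-1 : ℤ)), (H58.Elusive.ee_pow_eq q r _).2, hii] at hbig'
  rw [hcc]
  simp only [one_mul, ne_eq, eq_comm (a := (1 : ℤ)), eq_comm (a := (-1 : ℤ)),
    (H58.Elusive.ee_pow_eq q r _).1, (H58.Elusive.ee_pow_eq q r _).2, hii, hev, true_and, and_true, hr2, hrp,
    not_false_eq_true, hr3, false_and, false_or]
  by_cases he : Even (orderOf (q : ZMod r))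
  · have hci : c = orderOf (q : ZMod r) := by rw [hc, if_pos he]
    simp only [he, true_implies, Nat.not_odd_iff_even.2 he, false_and, false_or, true_and, Nat.not_even_iff_odd]
    simp only [he, true_and] at hbig'
    rw [← hci]
    have hcm : m % c ≤ (2 * d) % c ∨ m % c = 0 → m < c → m = (2 * d) % c ∧ m % c = (2 * d) % c := by
      intro h hlt
      rw [Nat.mod_eq_of_lt hlt] at h ⊢
      omega
    constructor
    · rintro (⟨h1, h3⟩ | ⟨h1, h3⟩ | ⟨h1, h3⟩ | ⟨h1, h3, h4⟩)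
      · exact Or.inl ⟨h1, Or.inl h3⟩
      · rcases Nat.eq_zero_or_pos ((2 * d) % c) with h0 | h0
        · exact Or.inl ⟨h0, Or.inr ⟨h1, h3⟩⟩
        · refine Or.inr ⟨not_lt.1 fun hlt => ?_, Or.inr (Or.inr ⟨h1, h0, h3⟩)⟩
          obtain ⟨e1, e2⟩ := hcm (Or.inr h1) hlt
          omega
      · refine Or.inr ⟨not_lt.1 fun hlt => ?_, Or.inl ⟨h1, h3⟩⟩
        obtain ⟨e1, e2⟩ := hcm (Or.inl h3.le) hlt
        omega
      · refine Or.inr ⟨not_lt.1 fun hlt => ?_,
          Or.inr (Or.inl ⟨by omega, h3, by rw [H58.Elusive.add_div_eq hcpos h3, add_comm]; exact h4⟩)⟩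
        rw [Nat.div_eq_of_lt hlt, zero_add] at h4
        rw [Nat.mod_eq_of_lt hlt] at h3
        exact hbig' h3 h4
    · rintro (⟨h1, h3 | ⟨h3, h4⟩⟩ | ⟨-, ⟨h1, h3⟩ | ⟨h1, h3, h4⟩ | ⟨h1, -, h4⟩⟩)
      · exact Or.inl ⟨h1, h3⟩
      · exact Or.inr (Or.inl ⟨h3, h4⟩)
      · exact Or.inr (Or.inr (Or.inl ⟨h1, h3⟩))
      · rw [H58.Elusive.add_div_eq hcpos h3, add_comm] at h4
        exact Or.inr (Or.inr (Or.inr ⟨by omega, h3, h4⟩))
      · exact Or.inr (Or.inl ⟨h1, h4⟩)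
  · simp only [he, false_implies, not_true_eq_false, Nat.not_even_iff_odd.1 he, false_and, and_false, false_or,
      or_false, true_and]
    refine ⟨fun ⟨h1, h3⟩ => ⟨not_lt.1 fun hlt => ?_, h1, h3⟩, fun ⟨_, h1, h3⟩ => ⟨h1, h3⟩⟩
    rw [Nat.mod_eq_of_lt hlt] at h3
    exact hbig h3

end Cfsg.Agent.S5988
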