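import Cfsg.Statements.S5989
import Cfsg.Agent.H58.Elusive.App
import Cfsg.Agent.H58.Elusive.Quarter

set_option autoImplicit false
open scoped MatrixGroups
open Cfsg

namespace Cfsg.Agent.S5989

/-- Elements of prime order of PΩ⁺_n(q), q odd, with no fixed nondegenerate `m`-space of odd dimension. Here `T = PΩ⁺_n(F)`, `n = 2d ≥ 8`, realised through `Ω⁺_n(q)`, the commutator subgroup of the isometry group of `Q = Σ xᵢyᵢ` over the field `F` with `q` elements; an element of `T` of prime order `r` is an element `x` of `Ω⁺_n(q)` with `x^r` scalar and `x` not scalar; `q` and `m` are odd, `1 ≤ m < n/2`. The nondegenerate `m`-spaces (subspaces on which the polar form is nondegenerate) fall into two isometry classes, each an orbit of `T`, and the two actions are equivalent; fix one such space `W₀` and let Ω be the set of nondegenerate `m`-spaces isometric to `W₀` (some linear isomorphism preserves `Q`). Let `r` be a prime dividing the size of Ω; for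 `r ≠ p` let `i` be the multiplicative order of `q` modulo `r`, `c = i` for `i` even and `c = 2i` for `i` odd, and write `k = n mod c`, `ℓ = m mod i`, `ℓ' = m mod c`, `n' = ⌊n/i⌋`, `m' = ⌊m/i⌋`, `t = (r−1)/i`. Then every element of `T` of order `r` fixes a member of Ω if and only if one of: (i) `r = 2`, `n ≡ 2 (mod 4)` and `q ≢ 1 (mod 8)`; (ii) `r ≠ p` odd, `i` odd, `c ≤ m` and `k > ℓ' > 0`; (iii) `r ≠ p` odd, `i` even, and either `k = 0` and `n/i` odd, or `i ≤ m` and `k > ℓ' > 0`. (For `r = p` there is always an element of order `p` fixing no member of Ω.) -/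
theorem result {F : Type*} [Field F] [Fintype F] {p : ℕ} [Fact p.Prime] [CharP F p] {q : ℕ} (hq : Fintype.card F = q)
    (hodd : Odd q) (d m : ℕ) (hd : 4 ≤ d) (hm : Odd m) (hmd : m < d)
    (W₀ : Submodule F (Fin d ⊕ Fin d → F)) (hW₀ : Module.finrank F ↥W₀ = m ∧ Cfsg.Geo.IsNondegenerateOn (QuadraticMap.polar (Cfsg.quadFormPlus d F)) W₀)
    (r : ℕ) [Fact r.Prime]
    (hrΩ : r ∣ Nat.card {W : Submodule F (Fin d ⊕ Fin d → F) // Module.finrank F ↥W = m ∧ Cfsg.Geo.IsNondegenerateOn (QuadraticMap.polar (Cfsg.quadFormPlus d F)) W ∧ Cfsg.Geo.AreIsometricFor (Cfsg.quadFormPlus d F) W W₀})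
    (i c : ℕ) (hi : i = orderOf (q : ZMod r)) (hc : c = if Even i then i else 2 * i) :
    (∀ x : GL (Fin d ⊕ Fin d) F, x ∈ Cfsg.Geo.omegaGL (Cfsg.quadFormPlus d F) →
      (∃ z : F, ((x ^ r : GL (Fin d ⊕ Fin d) F) : Matrix (Fin d ⊕ Fin d) (Fin d ⊕ Fin d) F) = z • (1 : Matrix (Fin d ⊕ Fin d) (Fin d ⊕ Fin d) F)) →
      (∀ z : F, (x : Matrix (Fin d ⊕ Fin d) (Fin d ⊕ Fin d) F) ≠ z • (1 : Matrix (Fin d ⊕ Fin d) (Fin d ⊕ Fin d) F)) →
      ∃ W : Submodule F (Fin d ⊕ Fin d → F), (Module.finrank F ↥W = m ∧ Cfsg.Geo.IsNondegenerateOn (QuadraticMap.polar (Cfsg.quadFormPlus d F)) W ∧ Cfsg.Geo.AreIsometricFor (Cfsg.quadFormPlus d F) W W₀) ∧ W.map (Matrix.toLin' (x : Matrix (Fin d ⊕ Fin d) (Fin d ⊕ Fin d) F)) ≤ W) ↔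
    ((r = 2 ∧ Odd d ∧ q % 8 ≠ 1) ∨
     (r ≠ p ∧ 2 < r ∧ Odd i ∧ c ≤ m ∧ 0 < m % c ∧ m % c < (2 * d) % c) ∨
     (r ≠ p ∧ 2 < r ∧ Even i ∧ (((2 * d) % c = 0 ∧ Odd ((2 * d) / i)) ∨ (i ≤ m ∧ 0 < m % c ∧ m % c < (2 * d) % c)))) := by
  classical
  subst hi
  have hqn : Nat.card F = q := Nat.card_eq_fintype_card.trans hq
  have hp : p ≠ 2 := H58.Elusive.char_ne_two_of_odd (F := F) hq hodd
  have h2 : (2 : F) ≠ 0 := H58.Elusive.two_ne_zero_of_odd_card (hq.symm ▸ hodd)
  have hQ : Orthogonal.Nondeg (Orthogonal.formPlus F d) := Orthogonal.formPlus_nondeg F d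
  have hι : Fintype.card (Fin d ⊕ Fin d) = 2 * d := by
    simp only [Fintype.card_sum, Fintype.card_fin]; omega
  have hfr : Module.finrank F (Fin d ⊕ Fin d → F) = 2 * d := Orthogonal.finrank_formPlus F d
  have hsQ : H58.Elusive.sg (Orthogonal.formPlus F d) = 1 := H58.Elusive.sg_formPlus d
  obtain ⟨hW₀d, hW₀g⟩ := hW₀
  have hW₀ : Orthogonal.Nondeg (Orthogonal.restr (Orthogonal.formPlus F d) W₀) :=
    (H58.Elusive.geo_nondeg_iff (Q := Orthogonal.formPlus F d) W₀).1 hW₀g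
  have hP : ∀ W : Submodule F (Fin d ⊕ Fin d → F),
      (Module.finrank F ↥W = m ∧ Cfsg.Geo.IsNondegenerateOn (QuadraticMap.polar (Cfsg.quadFormPlus d F)) W ∧
        Cfsg.Geo.AreIsometricFor (Cfsg.quadFormPlus d F) W W₀) ↔
      H58.Elusive.IsoOn (Orthogonal.formPlus F d) W W₀ := fun W =>
    ⟨fun h => h.2.2, fun h => ⟨h.finrank_eq.trans hW₀d,
      (H58.Elusive.geo_nondeg_iff (Q := Orthogonal.formPlus F d) W).2 (h.symm.nondeg hW₀), h⟩⟩
  obtain ⟨μ, hμ⟩ := id hm
  by_cases hrp : r = p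
  · subst hrp
    refine ⟨fun h => ?_, fun h => ?_⟩
    · exfalso
      rcases Nat.even_or_odd d with ⟨e, he⟩ | hdo
      · obtain ⟨g, hgc, hne, hgp, hW⟩ := H58.Elusive.siegel_props r hQ (by omega) (Orthogonal.formPlus_frame F d)
          (u := e) (by omega) (by omega)
        refine H58.Elusive.not_forall_scalar g hgc hne hgp (fun W hPW hinv => ?_) h
        have hiso := (hP W).1 hPW
        have hd' := hiso.finrank_eq
        obtain ⟨t, a', b', ⟨t', ht⟩, hWd, hab, -⟩ := hW W (hiso.symm.nondeg hW₀) hinv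
        omega
      · obtain ⟨x, hx, hxp, hns, hno⟩ := H58.Elusive.no_odd_fixed hp (Orthogonal.formPlus F d) hQ hι hdo hd hm
        obtain ⟨W, ⟨hWm, hWn, -⟩, hxW⟩ := h x hx ⟨1, by rw [hxp, one_smul, Units.val_one]⟩ hns
        exact hno W hWn hWm hxW
    · rcases h with ⟨h1, -⟩ | ⟨h1, -⟩ | ⟨h1, -⟩
      · exact absurd h1 hp
      · exact absurd rfl h1
      · exact absurd rfl h1
  by_cases hr2 : r = 2
  · subst hr2
    refine (H58.Elusive.forall_scalar_two_iff hQ (by omega) h2 hP (by omega)).trans ?_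
    rw [H58.Elusive.allFixTwo_iff hQ h2 hW₀ (by omega) (by omega), hW₀d,
      H58.Elusive.quarter_plus hq hodd hfr hsQ]
    simp only [lt_irrefl, false_and, and_false, or_false, true_and, Nat.odd_iff, Nat.even_iff,
      show ¬ m % 2 = 0 by omega]
    omega
  have hrF : (r : F) ≠ 0 := H58.Elusive.cast_prime_ne_zero hrp
  have hdiv : r ∣ Nat.card {W // H58.Elusive.IsoOn (Orthogonal.formPlus F d) W W₀} := by
    rw [← H58.Elusive.card_orbit hP]; exact hrΩ
  refine (H58.Elusive.forall_scalar_iff hQ (by omega) (by omega) hr2 hP).trans ?_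
  rw [H58.Elusive.allFix_iff hQ hr2 hrF hW₀ (by omega) (by omega) (Or.inl ⟨d, by omega⟩) hdiv]
  obtain ⟨hbig, -⟩ := H58.Elusive.big hQ hr2 hrF hW₀ hdiv
  have hcpos := H58.Elusive.cc_pos (F := F) (r := r) hrF
  dsimp only [H58.Elusive.Crit]
  rw [hfr, hW₀d] at *
  rw [hsQ, hqn] at *
  have hcc : H58.Elusive.cc q r = c := hc.symm
  have hii : H58.Elusive.ii q r = orderOf (q : ZMod r) := rfl
  have hr3 : 2 < r := by have := (Fact.out : r.Prime).two_le; omega
  have hce : Even c := hcc ▸ H58.Elusive.even_cc q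
  have hme : m % c % 2 = 1 := by
    rw [Nat.mod_mod_of_dvd _ (even_iff_two_dvd.1 hce)]; omega
  have hke : (2 * d) % c % 2 = 0 := by
    rw [Nat.mod_mod_of_dvd _ (even_iff_two_dvd.1 hce)]; omega
  rw [hcc] at hbig hcpos ⊢
  have hcm : m % c < (2 * d) % c → c ≤ m := by
    intro h
    by_contra hlt
    rw [Nat.mod_eq_of_lt (not_le.1 hlt)] at h
    exact hbig h
  simp only [ne_eq, eq_comm (a := (1 : ℤ)), (H58.Elusive.ee_pow_eq q r _).1, hii, hr2, hrp, not_false_eq_true,
    hr3, false_and, false_or, true_and, show ¬ m % c = 0 by omega, show ¬ m % c = (2 * d) % c by omega, and_false,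
    or_false]
  by_cases he : Even (orderOf (q : ZMod r))
  · have hci : c = orderOf (q : ZMod r) := by rw [hc, if_pos he]
    simp only [he, true_implies, Nat.not_odd_iff_even.2 he, false_and, false_or, true_and, Nat.not_even_iff_odd]
    rw [← hci]
    exact or_congr_right ⟨fun h => ⟨hcm h.2, h⟩, And.right⟩
  · simp only [he, false_implies, not_true_eq_false, Nat.not_even_iff_odd.1 he, false_and, and_false, false_or,
      or_false, true_and]
    exact ⟨fun h => ⟨hcm h.2, h⟩, And.right⟩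

end Cfsg.Agent.S5989
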