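import Cfsg.Statements.S5990
import Cfsg.Agent.H58.Elusive.App
import Cfsg.Agent.H58.Elusive.Quarter

set_option autoImplicit false
open scoped MatrixGroups
open Cfsg

namespace Cfsg.Agent.S5990

/-- Elements of prime order of PΩ⁻_n(q) with no fixed elliptic `m`-space. Here `T = PΩ⁻_n(F)`, `n = 2d ≥ 8`, realised through `Ω⁻_n(q)`, the commutator subgroup of the isometry group of `Q = Σ_{i<d−1} xᵢyᵢ + z₁² + a z₁z₂ + b z₂²` with `z₁² + a z₁z₂ + b z₂²` anisotropic, over the field `F` with `q` elements; an element of `T` of prime order `r` is an element `x` of `Ω⁻_n(q)` with `x^r` scalar and `x` not scalar; a nondegenerate `m`-space (even `m`) is a subspace on which the polar form of `Q` is nondegenerate; it is hyperbolic if it contains an `m/2`-dimensional subspace on which `Q` vanishes, elliptic otherwise. Let `m` be even with `2 ≤ m ≤ n − 2` (no restriction `m < n/2`: fixing an elliptic `m`-space is the same as fixing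 its hyperbolic orthogonal complement) and let `r` be a prime dividing the number of elliptic `m`-spaces, with `r = 2` or `r ≠ p`; for `r ≠ p` let `i` be the multiplicative order of `q` modulo `r`, `c = i` for `i` even and `c = 2i` for `i` odd, and write `k = n mod c`, `ℓ = m mod i`, `ℓ' = m mod c`, `n' = ⌊n/i⌋`, `m' = ⌊m/i⌋`, `t = (r−1)/i`. Then every element of `T` of order `r` fixes some elliptic `m`-space if and only if one of: (i) `r = p = 2` and (`n ≡ 0 (mod 4)` or `m ≡ 2 (mod 4)`); (ii) `r = 2 ≠ p` and (`n ≡ 0 (mod 4)`, or `q ≢ 7 (mod 8)`, or `m ≡ 2 (mod 4)`); (iii) `r ≠ p` odd, `i` odd, and `k = 0` or (`c ≤ m` and `k ≥ ℓ' > 0`); (iv) `r ≠ p` odd, `i` even, and either `k = 0` and (`n/i` even, or `ℓ' = 0` and `m/i` odd), or `k > 0`, `i ≤ m` and (`k > ℓ' > 0`, or `ℓ' = 0` and `m/i` odd, or `k = ℓ'` and `(n + m − 2k)/i` even). (Odd `r = p` is not covered by this statement.) -/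
theorem result {F : Type*} [Field F] [Fintype F] {p : ℕ} [Fact p.Prime] [CharP F p] {q : ℕ} (hq : Fintype.card F = q)
    (d m : ℕ) (hd : 4 ≤ d) (hm : 2 ≤ m) (hme : Even m) (hmn : m + 2 ≤ 2 * d) (a b : F) (hab : ∀ x y : F, x ^ 2 + a * x * y + b * y ^ 2 = 0 → x = 0 ∧ y = 0)
    (r : ℕ) [Fact r.Prime] (hr : r = 2 ∨ r ≠ p)
    (hrΩ : r ∣ Nat.card {W : Submodule F ((Fin (d - 1) ⊕ Fin (d - 1)) ⊕ Fin 2 → F) // Module.finrank F ↥W = m ∧ Cfsg.Geo.IsNondegenerateOn (QuadraticMap.polar (Cfsg.quadFormMinus (d - 1) F a b)) W ∧ ¬ Cfsg.Geo.IsPlusTypeOn (Cfsg.quadFormMinus (d - 1) F a b) W})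
    (i c : ℕ) (hi : i = orderOf (q : ZMod r)) (hc : c = if Even i then i else 2 * i) :
    (∀ x : GL ((Fin (d - 1) ⊕ Fin (d - 1)) ⊕ Fin 2) F, x ∈ Cfsg.Geo.omegaGL (Cfsg.quadFormMinus (d - 1) F a b) →
      (∃ z : F, ((x ^ r : GL ((Fin (d - 1) ⊕ Fin (d - 1)) ⊕ Fin 2) F) : Matrix ((Fin (d - 1) ⊕ Fin (d - 1)) ⊕ Fin 2) ((Fin (d - 1) ⊕ Fin (d - 1)) ⊕ Fin 2) F) = z • (1 : Matrix ((Fin (d - 1) ⊕ Fin (d - 1)) ⊕ Fin 2) ((Fin (d - 1) ⊕ Fin (d - 1)) ⊕ Fin 2) F)) →
      (∀ z : F, (x : Matrix ((Fin (d - 1) ⊕ Fin (d - 1)) ⊕ Fin 2) ((Fin (d - 1) ⊕ Fin (d - 1)) ⊕ Fin 2) F) ≠ z • (1 : Matrix ((Fin (d - 1) ⊕ Fin (d - 1)) ⊕ Fin 2) ((Fin (d - 1) ⊕ Fin (d - 1)) ⊕ Fin 2) F)) →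
      ∃ W : Submodule F ((Fin (d - 1) ⊕ Fin (d - 1)) ⊕ Fin 2 → F), (Module.finrank F ↥W = m ∧ Cfsg.Geo.IsNondegenerateOn (QuadraticMap.polar (Cfsg.quadFormMinus (d - 1) F a b)) W ∧ ¬ Cfsg.Geo.IsPlusTypeOn (Cfsg.quadFormMinus (d - 1) F a b) W) ∧ W.map (Matrix.toLin' (x : Matrix ((Fin (d - 1) ⊕ Fin (d - 1)) ⊕ Fin 2) ((Fin (d - 1) ⊕ Fin (d - 1)) ⊕ Fin 2) F)) ≤ W) ↔
    ((r = 2 ∧ p = 2 ∧ (Even d ∨ m % 4 = 2)) ∨
     (r = 2 ∧ p ≠ 2 ∧ (Even d ∨ q % 8 ≠ 7 ∨ m % 4 = 2)) ∨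
     (r ≠ p ∧ 2 < r ∧ Odd i ∧ ((2 * d) % c = 0 ∨ (c ≤ m ∧ 0 < m % c ∧ m % c ≤ (2 * d) % c))) ∨
     (r ≠ p ∧ 2 < r ∧ Even i ∧
       (((2 * d) % c = 0 ∧ (Even ((2 * d) / i) ∨ (m % c = 0 ∧ Odd (m / i)))) ∨
        (0 < (2 * d) % c ∧ i ≤ m ∧ ((0 < m % c ∧ m % c < (2 * d) % c) ∨ (m % c = 0 ∧ Odd (m / i)) ∨
                                    (m % c = (2 * d) % c ∧ Even ((2 * d + m - 2 * ((2 * d) % c)) / i))))))) := by
  classical
  subst hi
  have hqn : Nat.card F = q := Nat.card_eq_fintype_card.trans hq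
  have hQ : Orthogonal.Nondeg (Orthogonal.formMinus F (d - 1) a b) := Orthogonal.formMinus_nondeg (d - 1) hab
  have hι : Fintype.card ((Fin (d - 1) ⊕ Fin (d - 1)) ⊕ Fin 2) = 2 * d := by
    simp only [Fintype.card_sum, Fintype.card_fin]; omega
  have hfr : Module.finrank F ((Fin (d - 1) ⊕ Fin (d - 1)) ⊕ Fin 2 → F) = 2 * d := by
    rw [Module.finrank_fintype_fun_eq_card, hι]
  have hsQ : H58.Elusive.sg (Orthogonal.formMinus F (d - 1) a b) = -1 := H58.Elusive.sg_formMinus (d - 1) hab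
  obtain ⟨W₀, hW₀, hW₀d, hW₀s, hP⟩ := H58.Elusive.exists_orbit_minus hQ hm hme (by omega)
  obtain ⟨μ, hμ⟩ := hme
  by_cases hr2 : r = 2
  · subst hr2
    by_cases hp : p = 2
    · subst hp
      have h2 : (2 : F) = 0 := CharTwo.two_eq_zero
      simp only [lt_irrefl, false_and, and_false, or_false, true_and, ne_eq, not_true_eq_false]
      refine ⟨fun h => ?_, fun h x hx hxr _ => ?_⟩
      · by_contra hbad
        rw [Nat.even_iff] at hbad
        obtain ⟨g, hgc, hne, hgp, hW⟩ := H58.Elusive.siegel_props 2 hQ (by omega)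
          (Orthogonal.formMinus_frame F (d - 1) a b) (u := (d - 1) / 2) (by omega) (by omega)
        refine H58.Elusive.not_forall_scalar g hgc hne hgp (fun W hPW hinv => ?_) h
        have hiso := (hP W).1 hPW
        have hd' := hiso.finrank_eq
        have hWs := hiso.sg_eq
        rw [hW₀s] at hWs
        obtain ⟨t, a', b', ⟨t', ht⟩, hWd, hab', ha, -⟩ := hW W (hiso.symm.nondeg hW₀) hinv
        rcases Nat.eq_zero_or_pos a' with h0 | h0
        · rw [ha h0] at hWs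
          norm_num at hWs
        · omega
      · refine H58.Elusive.forall_scalar_char_two hQ (by omega) hP (fun g hgc hg => ?_) x hx hxr
        refine H58.Elusive.invol_fixes_two hQ h2 hW₀ (by omega) (by omega) (by omega) (hW₀s.trans hsQ.symm)
          (fun _ => Or.inr hsQ) (fun h4 => Or.inl ?_) g hgc hg
        rw [Nat.even_iff] at h
        omega
    have hqodd := H58.Elusive.odd_char_of_card (F := F) hq hp
    have h2 : (2 : F) ≠ 0 := H58.Elusive.two_ne_zero_of_odd_card (hq.symm ▸ hqodd)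
    refine (H58.Elusive.forall_scalar_two_iff hQ (by omega) h2 hP (by omega)).trans ?_
    rw [H58.Elusive.allFixTwo_iff hQ h2 hW₀ (by omega) (by omega), hW₀s, hW₀d,
      H58.Elusive.quarter_minus hq hqodd hfr hsQ, eq_comm (a := (-1 : ℤ)),
      H58.Elusive.chi_pow_neg hq hqodd]
    have ho := Nat.odd_iff.1 hqodd
    simp only [lt_irrefl, false_and, and_false, or_false, true_and, Nat.odd_iff, Nat.even_iff, hp, false_or, ne_eq,
      not_false_eq_true]
    omega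
  have hrp : r ≠ p := hr.resolve_left hr2
  have hrF : (r : F) ≠ 0 := H58.Elusive.cast_prime_ne_zero hrp
  have hdiv : r ∣ Nat.card {W // H58.Elusive.IsoOn (Orthogonal.formMinus F (d - 1) a b) W W₀} := by
    rw [← H58.Elusive.card_orbit hP]; exact hrΩ
  refine (H58.Elusive.forall_scalar_iff hQ (by omega) (by omega) hr2 hP).trans ?_
  rw [H58.Elusive.allFix_iff hQ hr2 hrF hW₀ (by omega) (by omega) (Or.inl ⟨d, by omega⟩) hdiv]
  obtain ⟨hbig, hbig'⟩ := H58.Elusive.big hQ hr2 hrF hW₀ hdiv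
  have hcpos := H58.Elusive.cc_pos (F := F) (r := r) hrF
  dsimp only [H58.Elusive.Crit]
  rw [hfr, hW₀d] at *
  rw [hW₀s, hsQ, hqn] at *
  have hcc : H58.Elusive.cc q r = c := hc.symm
  have hii : H58.Elusive.ii q r = orderOf (q : ZMod r) := rfl
  have hr3 : 2 < r := by have := (Fact.out : r.Prime).two_le; omega
  have hev : Even (2 * d) := even_two_mul d
  rw [hcc] at hbig hcpos hbig'
  simp only [mul_neg, mul_one, neg_neg, hev, true_and, not_and] at hbig'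
  rw [eq_comm (a := (1 : ℤ)), (H58.Elusive.ee_pow_eq q r _).1, hii] at hbig'
  rw [hcc]
  simp only [mul_neg, mul_one, neg_neg, ne_eq, eq_comm (a := (1 : ℤ)), eq_comm (a := (-1 : ℤ)),
    (H58.Elusive.ee_pow_eq q r _).1, (H58.Elusive.ee_pow_eq q r _).2, hii, hev, true_and, hr2, hrp,
    not_false_eq_true, hr3, false_and, false_or]
  by_cases he : Even (orderOf (q : ZMod r))
  · have hci : c = orderOf (q : ZMod r) := by rw [hc, if_pos he]
    simp only [he, true_implies, Nat.not_odd_iff_even, Nat.not_odd_iff_even.2 he, false_and, false_or, true_and]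
    simp only [he, true_implies] at hbig'
    rw [← hci]
    constructor
    · rintro (⟨h1, h3⟩ | ⟨h1, h3⟩ | ⟨h1, h3⟩ | ⟨h1, h3, h4⟩)
      · exact Or.inl ⟨h1, Or.inl h3⟩
      · rcases Nat.eq_zero_or_pos ((2 * d) % c) with h0 | h0
        · exact Or.inl ⟨h0, Or.inr ⟨h1, h3⟩⟩
        · refine Or.inr ⟨h0, not_lt.1 fun hlt => ?_, Or.inr (Or.inl ⟨h1, h3⟩)⟩
          rw [Nat.mod_eq_of_lt hlt] at h1
          omega
      · refine Or.inr ⟨by omega, not_lt.1 fun hlt => ?_, Or.inl ⟨h1, h3⟩⟩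
        rw [Nat.mod_eq_of_lt hlt] at h3
        exact hbig h3
      · refine Or.inr ⟨h1, not_lt.1 fun hlt => ?_,
          Or.inr (Or.inr ⟨h3, by rw [H58.Elusive.add_div_eq hcpos h3, add_comm]; exact h4⟩)⟩
        rw [Nat.div_eq_of_lt hlt, zero_add] at h4
        rw [Nat.mod_eq_of_lt hlt] at h3
        exact hbig' h3 h4
    · rintro (⟨h1, h3 | ⟨h3, h4⟩⟩ | ⟨h0, -, ⟨h1, h3⟩ | ⟨h1, h4⟩ | ⟨h3, h4⟩⟩)
      · exact Or.inl ⟨h1, h3⟩
      · exact Or.inr (Or.inl ⟨h3, h4⟩)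
      · exact Or.inr (Or.inr (Or.inl ⟨h1, h3⟩))
      · exact Or.inr (Or.inl ⟨h1, h4⟩)
      · rw [H58.Elusive.add_div_eq hcpos h3, add_comm] at h4
        exact Or.inr (Or.inr (Or.inr ⟨h0, h3, h4⟩))
  · simp only [he, false_implies, Nat.not_even_iff_odd.1 he, false_and, and_false, false_or,
      or_false, true_and, and_true, not_false_eq_true]
    refine ⟨fun h => ?_, fun h => by omega⟩
    rcases h with h | h
    · exact Or.inl h
    · refine Or.inr ⟨not_lt.1 fun hlt => ?_, by omega, by omega⟩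
      rw [Nat.mod_eq_of_lt hlt] at h
      rcases h with h | h
      · exact hbig h.2
      · exact hbig' h.2 fun hh => absurd hh he

end Cfsg.Agent.S5990
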