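import Cfsg.Statements.S5991
import Cfsg.Agent.H58.Elusive.App
import Cfsg.Agent.H58.Elusive.Quarter

set_option autoImplicit false
open scoped MatrixGroups
open Cfsg

namespace Cfsg.Agent.S5991

/-- Elements of prime order of PΩ⁻_n(q), q odd, with no fixed nondegenerate `m`-space of odd dimension. Here `T = PΩ⁻_n(F)`, `n = 2d ≥ 8`, realised through `Ω⁻_n(q)`, the commutator subgroup of the isometry group of `Q = Σ_{i<d−1} xᵢyᵢ + z₁² + a z₁z₂ + b z₂²` with `z₁² + a z₁z₂ + b z₂²` anisotropic, over the field `F` with `q` elements; an element of `T` of prime order `r` is an element `x` of `Ω⁻_n(q)` with `x^r` scalar and `x` not scalar; `q` and `m` are odd, `1 ≤ m < n/2`. The nondegenerate `m`-spaces fall into two isometry classes, each an orbit of `T`, with equivalent actions; fix one such space `W₀` and let Ω be the set of nondegenerate `m`-spaces isometric to `W₀`. Let `r` be a prime dividing the size of Ω; for `r ≠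 p` let `i` be the multiplicative order of `q` modulo `r`, `c = i` for `i` even and `c = 2i` for `i` odd, and write `k = n mod c`, `ℓ = m mod i`, `ℓ' = m mod c`, `n' = ⌊n/i⌋`, `m' = ⌊m/i⌋`, `t = (r−1)/i`. Then every element of `T` of order `r` fixes a member of Ω if and only if one of: (i) `r = 2` and (`n ≡ 0 (mod 4)` or `q ≢ 7 (mod 8)`); (ii) `r ≠ p` odd, `i` odd, and `k = 0` or (`c ≤ m` and `k > ℓ' > 0`); (iii) `r ≠ p` odd, `i` even, and either `k = 0` and `n/i` even, or `k > 0`, `i ≤ m` and `k > ℓ' > 0`. (For `r = p` there is always an element of order `p` fixing no member of Ω.) -/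
theorem result {F : Type*} [Field F] [Fintype F] {p : ℕ} [Fact p.Prime] [CharP F p] {q : ℕ} (hq : Fintype.card F = q)
    (hodd : Odd q) (d m : ℕ) (hd : 4 ≤ d) (hm : Odd m) (hmd : m < d) (a b : F) (hab : ∀ x y : F, x ^ 2 + a * x * y + b * y ^ 2 = 0 → x = 0 ∧ y = 0)
    (W₀ : Submodule F ((Fin (d - 1) ⊕ Fin (d - 1)) ⊕ Fin 2 → F)) (hW₀ : Module.finrank F ↥W₀ = m ∧ Cfsg.Geo.IsNondegenerateOn (QuadraticMap.polar (Cfsg.quadFormMinus (d - 1) F a b)) W₀)
    (r : ℕ) [Fact r.Prime]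
    (hrΩ : r ∣ Nat.card {W : Submodule F ((Fin (d - 1) ⊕ Fin (d - 1)) ⊕ Fin 2 → F) // Module.finrank F ↥W = m ∧ Cfsg.Geo.IsNondegenerateOn (QuadraticMap.polar (Cfsg.quadFormMinus (d - 1) F a b)) W ∧ Cfsg.Geo.AreIsometricFor (Cfsg.quadFormMinus (d - 1) F a b) W W₀})
    (i c : ℕ) (hi : i = orderOf (q : ZMod r)) (hc : c = if Even i then i else 2 * i) :
    (∀ x : GL ((Fin (d - 1) ⊕ Fin (d - 1)) ⊕ Fin 2) F, x ∈ Cfsg.Geo.omegaGL (Cfsg.quadFormMinus (d - 1) F a b) →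
      (∃ z : F, ((x ^ r : GL ((Fin (d - 1) ⊕ Fin (d - 1)) ⊕ Fin 2) F) : Matrix ((Fin (d - 1) ⊕ Fin (d - 1)) ⊕ Fin 2) ((Fin (d - 1) ⊕ Fin (d - 1)) ⊕ Fin 2) F) = z • (1 : Matrix ((Fin (d - 1) ⊕ Fin (d - 1)) ⊕ Fin 2) ((Fin (d - 1) ⊕ Fin (d - 1)) ⊕ Fin 2) F)) →
      (∀ z : F, (x : Matrix ((Fin (d - 1) ⊕ Fin (d - 1)) ⊕ Fin 2) ((Fin (d - 1) ⊕ Fin (d - 1)) ⊕ Fin 2) F) ≠ z • (1 : Matrix ((Fin (d - 1) ⊕ Fin (d - 1)) ⊕ Fin 2) ((Fin (d - 1) ⊕ Fin (d - 1)) ⊕ Fin 2) F)) →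
      ∃ W : Submodule F ((Fin (d - 1) ⊕ Fin (d - 1)) ⊕ Fin 2 → F), (Module.finrank F ↥W = m ∧ Cfsg.Geo.IsNondegenerateOn (QuadraticMap.polar (Cfsg.quadFormMinus (d - 1) F a b)) W ∧ Cfsg.Geo.AreIsometricFor (Cfsg.quadFormMinus (d - 1) F a b) W W₀) ∧ W.map (Matrix.toLin' (x : Matrix ((Fin (d - 1) ⊕ Fin (d - 1)) ⊕ Fin 2) ((Fin (d - 1) ⊕ Fin (d - 1)) ⊕ Fin 2) F)) ≤ W) ↔
    ((r = 2 ∧ (Even d ∨ q % 8 ≠ 7)) ∨
     (r ≠ p ∧ 2 < r ∧ Odd i ∧ ((2 * d) % c = 0 ∨ (c ≤ m ∧ 0 < m % c ∧ m % c < (2 * d) % c))) ∨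
     (r ≠ p ∧ 2 < r ∧ Even i ∧ (((2 * d) % c = 0 ∧ Even ((2 * d) / i)) ∨ (0 < (2 * d) % c ∧ i ≤ m ∧ 0 < m % c ∧ m % c < (2 * d) % c)))) := by
  classical
  subst hi
  have hqn : Nat.card F = q := Nat.card_eq_fintype_card.trans hq
  have hp : p ≠ 2 := H58.Elusive.char_ne_two_of_odd (F := F) hq hodd
  have h2 : (2 : F) ≠ 0 := H58.Elusive.two_ne_zero_of_odd_card (hq.symm ▸ hodd)
  have hQ : Orthogonal.Nondeg (Orthogonal.formMinus F (d - 1) a b) := Orthogonal.formMinus_nondeg (d - 1) hab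
  have hι : Fintype.card ((Fin (d - 1) ⊕ Fin (d - 1)) ⊕ Fin 2) = 2 * d := by
    simp only [Fintype.card_sum, Fintype.card_fin]; omega
  have hfr : Module.finrank F ((Fin (d - 1) ⊕ Fin (d - 1)) ⊕ Fin 2 → F) = 2 * d := by
    rw [Module.finrank_fintype_fun_eq_card, hι]
  have hsQ : H58.Elusive.sg (Orthogonal.formMinus F (d - 1) a b) = -1 := H58.Elusive.sg_formMinus (d - 1) hab
  obtain ⟨hW₀d, hW₀g⟩ := hW₀
  have hW₀ : Orthogonal.Nondeg (Orthogonal.restr (Orthogonal.formMinus F (d - 1) a b) W₀) :=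
    (H58.Elusive.geo_nondeg_iff (Q := Orthogonal.formMinus F (d - 1) a b) W₀).1 hW₀g
  have hP : ∀ W : Submodule F ((Fin (d - 1) ⊕ Fin (d - 1)) ⊕ Fin 2 → F),
      (Module.finrank F ↥W = m ∧ Cfsg.Geo.IsNondegenerateOn (QuadraticMap.polar (Cfsg.quadFormMinus (d - 1) F a b)) W ∧
        Cfsg.Geo.AreIsometricFor (Cfsg.quadFormMinus (d - 1) F a b) W W₀) ↔
      H58.Elusive.IsoOn (Orthogonal.formMinus F (d - 1) a b) W W₀ := fun W =>
    ⟨fun h => h.2.2, fun h => ⟨h.finrank_eq.trans hW₀d,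
      (H58.Elusive.geo_nondeg_iff (Q := Orthogonal.formMinus F (d - 1) a b) W).2 (h.symm.nondeg hW₀), h⟩⟩
  obtain ⟨μ, hμ⟩ := id hm
  by_cases hrp : r = p
  · subst hrp
    refine ⟨fun h => ?_, fun h => ?_⟩
    · exfalso
      rcases Nat.even_or_odd d with ⟨e, he⟩ | hdo
      · obtain ⟨u, hu⟩ : ∃ u, d - 1 = 2 * u + 1 := ⟨e - 1, by omega⟩
        have hWperp := hQ.finrank_add_perp W₀
        obtain ⟨α₀, h41, h43, hα₀⟩ : ∃ α₀ : F,
            (m % 4 = 1 → H58.Elusive.HasVal (Orthogonal.formMinus F (d - 1) a b) W₀ α₀) ∧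
            (m % 4 = 3 → H58.Elusive.HasVal (Orthogonal.formMinus F (d - 1) a b)
              (Orthogonal.perp (Orthogonal.formMinus F (d - 1) a b) W₀) α₀) ∧ α₀ ≠ 0 := by
          rcases (show m % 4 = 1 ∨ m % 4 = 3 by omega) with h4 | h4
          · obtain ⟨α, hα⟩ := H58.Elusive.hasVal_exists hQ h2 hW₀ (hW₀d ▸ hm)
            exact ⟨α, fun _ => hα, fun h' => by omega, hα.choose_spec.2.2.1⟩
          · obtain ⟨α, hα⟩ := H58.Elusive.hasVal_exists hQ h2 (hQ.nondeg_perp hW₀) ⟨d - μ - 1, by omega⟩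
            exact ⟨α, fun h' => by omega, fun _ => hα, hα.choose_spec.2.2.1⟩
        obtain ⟨ν, hν⟩ := FiniteField.exists_nonsquare (F := F) (fun hc => h2 (by
          haveI := ringChar.of_eq hc; exact CharTwo.two_eq_zero))
        have hν0 : ν ≠ 0 := fun h => hν (h ▸ IsSquare.zero)
        obtain ⟨ee', ff', hframe⟩ : ∃ e' f' : Fin (2 * u + 1) → ((Fin (d - 1) ⊕ Fin (d - 1)) ⊕ Fin 2 → F),
            Orthogonal.IsFrame (Orthogonal.formMinus F (d - 1) a b) e' f' := by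
          rw [← hu]
          exact ⟨_, _, Orthogonal.formMinus_frame F (d - 1) a b⟩
        obtain ⟨g, hgc, hne, hgp, hW⟩ := H58.Elusive.exists_three r hp hQ h2 (u := u) (by omega) (by omega) hframe
          (mul_ne_zero hν0 hα₀)
        refine H58.Elusive.not_forall_scalar g hgc hne hgp (fun W hPW hinv => ?_) h
        have hiso := (hP W).1 hPW
        have hd' := hiso.finrank_eq
        have hn := hiso.symm.nondeg hW₀
        rcases hW W hn (by rw [hd', hW₀d]; exact hm) hinv with ⟨h4, s, hs, hval⟩ | ⟨h4, s, hs, hval⟩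
        · exact H58.Elusive.not_isSquare_iff_mul h2 hs hν hα₀
            (H58.Elusive.hasVal_unique hQ h2 hn hiso (by rw [hd', hW₀d]; exact hm) hval (h41 (by omega)))
        · refine H58.Elusive.not_isSquare_iff_mul h2 hs hν hα₀
            (H58.Elusive.hasVal_unique hQ h2 (hQ.nondeg_perp hn) (H58.Elusive.isoOn_perp hQ hiso) ?_ hval
              (h43 (by omega)))
          have := hQ.finrank_add_perp W
          exact ⟨d - μ - 1, by omega⟩
      · obtain ⟨x, hx, hxp, hns, hno⟩ := H58.Elusive.no_odd_fixed hp (Orthogonal.formMinus F (d - 1) a b) hQ hι hdo hd hm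
        obtain ⟨W, ⟨hWm, hWn, -⟩, hxW⟩ := h x hx ⟨1, by rw [hxp, one_smul, Units.val_one]⟩ hns
        exact hno W hWn hWm hxW
    · rcases h with ⟨h1, -⟩ | ⟨h1, -⟩ | ⟨h1, -⟩
      · exact absurd h1 hp
      · exact absurd rfl h1
      · exact absurd rfl h1
  by_cases hr2 : r = 2
  · subst hr2
    refine (H58.Elusive.forall_scalar_two_iff hQ (by omega) h2 hP (by omega)).trans ?_
    rw [H58.Elusive.allFixTwo_iff hQ h2 hW₀ (by omega) (by omega), hW₀d,
      H58.Elusive.quarter_minus hq hodd hfr hsQ]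
    simp only [lt_irrefl, false_and, and_false, or_false, true_and, Nat.odd_iff, Nat.even_iff,
      show ¬ m % 2 = 0 by omega]
    omega
  have hrF : (r : F) ≠ 0 := H58.Elusive.cast_prime_ne_zero hrp
  have hdiv : r ∣ Nat.card {W // H58.Elusive.IsoOn (Orthogonal.formMinus F (d - 1) a b) W W₀} := by
    rw [← H58.Elusive.card_orbit hP]; exact hrΩ
  refine (H58.Elusive.forall_scalar_iff hQ (by omega) (by omega) hr2 hP).trans ?_
  rw [H58.Elusive.allFix_iff hQ hr2 hrF hW₀ (by omega) (by omega) (Or.inl ⟨d, by omega⟩) hdiv]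
  obtain ⟨hbig, -⟩ := H58.Elusive.big hQ hr2 hrF hW₀ hdiv
  have hcpos := H58.Elusive.cc_pos (F := F) (r := r) hrF
  dsimp only [H58.Elusive.Crit]
  rw [hfr, hW₀d] at *
  rw [hsQ, hqn] at *
  have hcc : H58.Elusive.cc q r = c := hc.symm
  have hii : H58.Elusive.ii q r = orderOf (q : ZMod r) := rfl
  have hr3 : 2 < r := by have := (Fact.out : r.Prime).two_le; omega
  have hce : Even c := hcc ▸ H58.Elusive.even_cc q
  have hme : m % c % 2 = 1 := by
    rw [Nat.mod_mod_of_dvd _ (even_iff_two_dvd.1 hce)]; omega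
  have hke : (2 * d) % c % 2 = 0 := by
    rw [Nat.mod_mod_of_dvd _ (even_iff_two_dvd.1 hce)]; omega
  rw [hcc] at hbig hcpos ⊢
  have hcm : m % c < (2 * d) % c → c ≤ m := by
    intro h
    by_contra hlt
    rw [Nat.mod_eq_of_lt (not_le.1 hlt)] at h
    exact hbig h
  simp only [ne_eq, eq_comm (a := (-1 : ℤ)), (H58.Elusive.ee_pow_eq q r _).2, hii, hr2, hrp, not_false_eq_true,
    hr3, false_and, false_or, true_and, show ¬ m % c = 0 by omega, show ¬ m % c = (2 * d) % c by omega, and_false,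
    or_false]
  by_cases he : Even (orderOf (q : ZMod r))
  · have hci : c = orderOf (q : ZMod r) := by rw [hc, if_pos he]
    simp only [he, true_implies, Nat.not_odd_iff_even.2 he, false_and, false_or, true_and, Nat.not_even_iff_odd]
    rw [← hci]
    simp only [Nat.not_odd_iff_even]
    exact or_congr_right ⟨fun h => ⟨by omega, hcm h.2, h⟩, fun h => h.2.2⟩
  · simp only [he, false_implies, not_false_eq_true, Nat.not_even_iff_odd.1 he, false_and, and_false, false_or,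
      or_false, true_and, and_true]
    exact or_congr_right ⟨fun h => ⟨hcm h.2, h⟩, And.right⟩

end Cfsg.Agent.S5991
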