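import Cfsg.Statements.S5992
import Cfsg.Agent.H58.Elusive.Translate

set_option autoImplicit false
open scoped MatrixGroups
open Cfsg

namespace Cfsg.Agent.S5992

/-- Elements of prime order r ≠ p of Ω_n(q), nq odd, with no fixed hyperbolic `m`-space. Here `T = Ω_n(F)`, `n = 2d+1 ≥ 7`, `q` odd, realised as the commutator subgroup of the isometry group of `Q = x₀² + Σ xᵢyᵢ` over the field `F` with `q` elements (trivial centre, so its elements of prime order `r` are used directly); a nondegenerate `m`-space (even `m`) is a subspace on which the polar form of `Q` is nondegenerate; it is hyperbolic if it contains an `m/2`-dimensional subspace on which `Q` vanishes, elliptic otherwise. Let `m` be even with `2 ≤ m ≤ n − 1` (no restriction `m < n/2`) and let `r ≠ p` be a prime dividing the number of hyperbolic `m`-spaces; for `r ≠ p` let `i` be the multiplicative order of `q` modulo `r`, `c = i` for `i` even and `c = 2i` for `i` odd, and write `k = n mod c`, `ℓ'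 = m mod c`. Then every element of `T` of order `r` fixes some hyperbolic `m`-space if and only if `r = 2`, or `r` is odd and one of: (i) `i` odd, `c ≤ m` and either `k > ℓ' > 0` or `ℓ' = 0`; (ii) `i` even, `i ≤ m`, `k > ℓ'`, and `m/i` even whenever `ℓ' = 0`. (`r = p` is not covered by this statement.) -/
theorem result {F : Type*} [Field F] [Fintype F] {p : ℕ} [Fact p.Prime] [CharP F p] {q : ℕ} (hq : Fintype.card F = q) (hqodd : Odd q)
    (d m : ℕ) (hd : 3 ≤ d) (hm : 2 ≤ m) (hme : Even m) (hmn : m ≤ 2 * d)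
    (r : ℕ) [Fact r.Prime] (hrp : r ≠ p)
    (hrΩ : r ∣ Nat.card {W : Submodule F (Unit ⊕ (Fin d ⊕ Fin d) → F) // Module.finrank F ↥W = m ∧ Cfsg.Geo.IsNondegenerateOn (QuadraticMap.polar (Cfsg.quadFormOdd d F)) W ∧ Cfsg.Geo.IsPlusTypeOn (Cfsg.quadFormOdd d F) W})
    (i c : ℕ) (hi : i = orderOf (q : ZMod r)) (hc : c = if Even i then i else 2 * i) :
    (∀ x : GL (Unit ⊕ (Fin d ⊕ Fin d)) F, x ∈ Cfsg.Geo.omegaGL (Cfsg.quadFormOdd d F) → orderOf x = r →
      ∃ W : Submodule F (Unit ⊕ (Fin d ⊕ Fin d) → F), (Module.finrank F ↥W = m ∧ Cfsg.Geo.IsNondegenerateOn (QuadraticMap.polar (Cfsg.quadFormOdd d F)) W ∧ Cfsg.Geo.IsPlusTypeOn (Cfsg.quadFormOdd d F) W) ∧ W.map (Matrix.toLin' (x : Matrix (Unit ⊕ (Fin d ⊕ Fin d)) (Unit ⊕ (Fin d ⊕ Fin d)) F)) ≤ W) ↔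
    (r = 2 ∨
     (2 < r ∧ Odd i ∧ c ≤ m ∧ (m % c = 0 ∨ (0 < m % c ∧ m % c < (2 * d + 1) % c))) ∨
     (2 < r ∧ Even i ∧ i ≤ m ∧ m % c < (2 * d + 1) % c ∧ (0 < m % c ∨ Even (m / i)))) := by
  classical
  subst hi
  have hqn : Nat.card F = q := Nat.card_eq_fintype_card.trans hq
  have h2 : (2 : F) ≠ 0 := H58.Elusive.two_ne_zero_of_odd_card (hq.symm ▸ hqodd)
  have hQ : Orthogonal.Nondeg (Orthogonal.formOdd F d) := Orthogonal.formOdd_nondeg F d h2
  have hι : Fintype.card (Unit ⊕ (Fin d ⊕ Fin d)) = 2 * d + 1 := by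
    simp only [Fintype.card_sum, Fintype.card_unit, Fintype.card_fin]; omega
  obtain ⟨W₀, hW₀, hW₀d, hW₀s, hP⟩ := H58.Elusive.exists_orbit_plus hQ hm hme (by omega)
  by_cases hr2 : r = 2
  · subst hr2
    refine ⟨fun _ => Or.inl rfl, fun _ x hx ho => ?_⟩
    exact H58.Elusive.forall_order_two hQ h2 hW₀ (by omega) (by omega) hP x hx ho
  have hrF : (r : F) ≠ 0 := H58.Elusive.cast_prime_ne_zero hrp
  have hdiv : r ∣ Nat.card {W // H58.Elusive.IsoOn (Orthogonal.formOdd F d) W W₀} := by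
    rw [← H58.Elusive.card_orbit hP]; exact hrΩ
  have hfr : Module.finrank F (Unit ⊕ (Fin d ⊕ Fin d) → F) = 2 * d + 1 := by
    rw [Module.finrank_fintype_fun_eq_card, hι]
  refine (H58.Elusive.forall_order_iff hQ (by omega) hr2 hP).trans ?_
  rw [H58.Elusive.allFix_iff hQ hr2 hrF hW₀ (by omega) (by omega) (Or.inr (hW₀d ▸ hme)) hdiv]
  obtain ⟨hbig, -⟩ := H58.Elusive.big hQ hr2 hrF hW₀ hdiv
  have hcpos := H58.Elusive.cc_pos (F := F) (r := r) hrF
  dsimp only [H58.Elusive.Crit]
  rw [hfr, hW₀d] at *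
  rw [hW₀s, hqn] at *
  have hcc : H58.Elusive.cc q r = c := hc.symm
  have hii : H58.Elusive.ii q r = orderOf (q : ZMod r) := rfl
  have hr3 : 2 < r := by have := (Fact.out : r.Prime).two_le; omega
  have hno : ¬ Even (2 * d + 1) := by simp
  have hce : Even c := hcc ▸ H58.Elusive.even_cc q
  have hk : 0 < (2 * d + 1) % c := by
    rcases Nat.eq_zero_or_pos ((2 * d + 1) % c) with h0 | h0
    · exact absurd ((even_iff_two_dvd.1 hce).trans (Nat.dvd_of_mod_eq_zero h0)) (by omega)
    · exact h0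
  have hcm : m % c < (2 * d + 1) % c ∨ m % c = 0 → c ≤ m := by
    intro h
    by_contra hlt
    rw [Nat.mod_eq_of_lt (not_le.1 hlt)] at h
    rw [hcc] at hbig
    omega
  rw [hcc, eq_comm (a := (1 : ℤ)), (H58.Elusive.ee_pow_eq q r _).1, hii]
  simp only [hno, false_and, and_false, or_false, hk.ne', false_or, hr2]
  by_cases he : Even (orderOf (q : ZMod r))
  · have hci : c = orderOf (q : ZMod r) := by rw [hc, if_pos he]
    simp only [he, true_implies, Nat.not_odd_iff_even.2 he, false_and, and_false, false_or, hr3, true_and]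
    rw [← hci]
    constructor
    · rintro (⟨h1, h2⟩ | ⟨h1, h2⟩)
      · exact ⟨hcm (Or.inr h1), by omega, Or.inr h2⟩
      · exact ⟨hcm (Or.inl h2), h2, Or.inl h1⟩
    · rintro ⟨-, h2, h1⟩
      rcases Nat.eq_zero_or_pos (m % c) with h0 | h0
      · exact Or.inl ⟨h0, h1.resolve_left (by omega)⟩
      · exact Or.inr ⟨h0, h2⟩
  · simp only [he, false_implies, and_true, Nat.not_even_iff_odd.1 he, true_and, false_and, and_false, or_false, hr3]
    constructor
    · intro h
      exact ⟨hcm (by omega), by omega⟩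
    · rintro ⟨-, h⟩
      omega

end Cfsg.Agent.S5992
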