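import Cfsg.Statements.S5994
import Cfsg.Agent.H72.OrthTypeFix

set_option autoImplicit false
open scoped MatrixGroups
open Cfsg

namespace Cfsg.Agent.S5994

/-- A necessary condition for every element of order p of PΩ⁻_n(q), q odd, to fix an elliptic `m`-space. Here `T = PΩ⁻_n(F)`, `n = 2d ≥ 8`, realised through `Ω⁻_n(q)`, the commutator subgroup of the isometry group of `Q = Σ_{i<d−1} xᵢyᵢ + z₁² + a z₁z₂ + b z₂²` with `z₁² + a z₁z₂ + b z₂²` anisotropic, over the field `F` with `q` elements; an element of `T` of prime order `r` is an element `x` of `Ω⁻_n(q)` with `x^r` scalar and `x` not scalar; `q` is odd; a nondegenerate `m`-space (even `m`) is a subspace on which the polar form of `Q` is nondegenerate; it is hyperbolic if it contains an `m/2`-dimensional subspace on which `Q` vanishes, elliptic otherwise. Let `m` be even with `2 ≤ m ≤ n − 2` and suppose `p` divides the number of elliptic `m`-spaces. If every element of `T` of order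 `p` fixes some elliptic `m`-space, then `n ≡ m (mod 4)` and every partition of `n` into parts of size at most `p` in which every even part has even multiplicity contains (as a sub-multiset) a partition of `m` in which every even part has even multiplicity. -/
theorem result {F : Type*} [Field F] [Fintype F] {p : ℕ} [Fact p.Prime] [CharP F p] {q : ℕ} (hq : Fintype.card F = q) (hqodd : Odd q)
    (d m : ℕ) (hd : 4 ≤ d) (hm : 2 ≤ m) (hme : Even m) (hmn : m + 2 ≤ 2 * d) (a b : F) (hab : ∀ x y : F, x ^ 2 + a * x * y + b * y ^ 2 = 0 → x = 0 ∧ y = 0)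
    (hpΩ : p ∣ Nat.card {W : Submodule F ((Fin (d - 1) ⊕ Fin (d - 1)) ⊕ Fin 2 → F) // Module.finrank F ↥W = m ∧ Cfsg.Geo.IsNondegenerateOn (QuadraticMap.polar (Cfsg.quadFormMinus (d - 1) F a b)) W ∧ ¬ Cfsg.Geo.IsPlusTypeOn (Cfsg.quadFormMinus (d - 1) F a b) W}) :
    (∀ x : GL ((Fin (d - 1) ⊕ Fin (d - 1)) ⊕ Fin 2) F, x ∈ Cfsg.Geo.omegaGL (Cfsg.quadFormMinus (d - 1) F a b) →
      (∃ z : F, ((x ^ p : GL ((Fin (d - 1) ⊕ Fin (d - 1)) ⊕ Fin 2) F) : Matrix ((Fin (d - 1) ⊕ Fin (d - 1)) ⊕ Fin 2) ((Fin (d - 1) ⊕ Fin (d - 1)) ⊕ Fin 2) F) = z • (1 : Matrix ((Fin (d - 1) ⊕ Fin (d - 1)) ⊕ Fin 2) ((Fin (d - 1) ⊕ Fin (d - 1)) ⊕ Fin 2) F)) →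
      (∀ z : F, (x : Matrix ((Fin (d - 1) ⊕ Fin (d - 1)) ⊕ Fin 2) ((Fin (d - 1) ⊕ Fin (d - 1)) ⊕ Fin 2) F) ≠ z • (1 : Matrix ((Fin (d - 1) ⊕ Fin (d - 1)) ⊕ Fin 2) ((Fin (d - 1) ⊕ Fin (d - 1)) ⊕ Fin 2) F)) →
      ∃ W : Submodule F ((Fin (d - 1) ⊕ Fin (d - 1)) ⊕ Fin 2 → F), (Module.finrank F ↥W = m ∧ Cfsg.Geo.IsNondegenerateOn (QuadraticMap.polar (Cfsg.quadFormMinus (d - 1) F a b)) W ∧ ¬ Cfsg.Geo.IsPlusTypeOn (Cfsg.quadFormMinus (d - 1) F a b) W) ∧ W.map (Matrix.toLin' (x : Matrix ((Fin (d - 1) ⊕ Fin (d - 1)) ⊕ Fin 2) ((Fin (d - 1) ⊕ Fin (d - 1)) ⊕ Fin 2) F)) ≤ W) →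
    ((2 * d) % 4 = m % 4 ∧ (∀ μ : Multiset ℕ, (∀ e ∈ μ, 0 < e ∧ e ≤ p) → (∀ e : ℕ, Even e → Even (μ.count e)) → μ.sum = 2 * d →
        ∃ ν : Multiset ℕ, ν ≤ μ ∧ ν.sum = m ∧ ∀ e : ℕ, Even e → Even (ν.count e))) := by
  intro hfix
  classical
  have hp : p ≠ 2 := by
    rintro rfl
    obtain ⟨n, -, hn⟩ := FiniteField.card F 2
    rw [← hq, hn] at hqodd
    exact Nat.not_even_iff_odd.2 hqodd (even_two.pow_of_ne_zero n.pos.ne')
  have hpo : Odd p := (Fact.out : p.Prime).odd_of_ne_two hp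
  have h2p : 2 ≤ p := (Fact.out : p.Prime).two_le
  set Q := Orthogonal.formMinus F (d - 1) a b
  have hQ : Orthogonal.Nondeg Q := Orthogonal.formMinus_nondeg (m := d - 1) hab
  have key : ∀ μ : Multiset ℕ, (∀ e ∈ μ, 0 < e ∧ e ≤ p) → (∀ e, Even e → Even (μ.count e)) → μ.sum = 2 * d →
      (∃ e ∈ μ, Odd e) → (∃ f ∈ μ, 1 < f) →
      ∃ ν : Multiset ℕ, ν ≤ μ ∧ ν.sum = m ∧ (∀ e, Even e → Even (ν.count e)) ∧ ∃ e ∈ ν, Odd e := by
    intro μ hμ hev hsum hodd hbig
    obtain ⟨x, hx, hxo, hns, hxμ⟩ := H72.OrthTypeFix.exists_element hp Q hQ hμ hev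
      (by simp; omega) hodd hbig
    have hxp : x ^ p = 1 := hxo ▸ pow_orderOf_eq_one x
    obtain ⟨W, ⟨hWm, hWn, hWp⟩, hxW⟩ := hfix x hx ⟨1, by rw [hxp, one_smul]; rfl⟩ hns
    obtain ⟨h1, h2, h3, h4⟩ := H72.OrthTypeFix.subspace_type hp Q hQ hx hxp hWn hxW
    refine ⟨_, hxμ ▸ h1, h2.trans hWm, h3, ?_⟩
    by_contra hno
    exact hWp (h4 fun e he => Nat.not_odd_iff_even.1 fun h => hno ⟨e, he, h⟩)
  refine ⟨?_, H72.OrthTypeFix.partition_of_key hpo hme (by omega) fun μ h1 h2 h3 h4 h5 =>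
    (key μ h1 h2 h3 h4 h5).imp fun ν h => ⟨h.1, h.2.1, h.2.2.1⟩⟩
  rcases Nat.even_or_odd' d with ⟨r, rfl | rfl⟩
  · obtain ⟨ν, hν, hνs, hνe⟩ := H72.OrthTypeFix.partition_of_key hpo hme (n := 2 * (2 * r)) (by omega)
      (fun μ h1 h2 h3 h4 h5 => (key μ h1 h2 h3 h4 h5).imp fun ν h => ⟨h.1, h.2.1, h.2.2.1⟩)
      (Multiset.replicate (2 * r) 2) (fun e he => by rw [Multiset.eq_of_mem_replicate he]; omega)
      (fun e _ => by rw [Multiset.count_replicate]; split_ifs <;> simp)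
      (by simp; ring)
    have hrep := Multiset.eq_replicate_card.2 fun e he => Multiset.eq_of_mem_replicate (Multiset.mem_of_le hν he)
    rw [hrep, Multiset.sum_replicate, smul_eq_mul] at hνs
    have h2c := hνe 2 even_two
    rw [hrep, Multiset.count_replicate_self] at h2c
    obtain ⟨k, hk⟩ := h2c
    omega
  · obtain ⟨ν, hν, hνs, hνe, e, he, heo⟩ := key (Multiset.replicate (2 * r) 2 + Multiset.replicate 2 1)
      (fun e he => by
        rcases Multiset.mem_add.1 he with he | he <;> rw [Multiset.eq_of_mem_replicate he] <;> omega)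
      (fun e he => by
        rw [Multiset.count_add, Multiset.count_replicate, Multiset.count_replicate]
        split_ifs with h1 h2 <;> simp [Nat.even_add])
      (by simp; ring) ⟨1, by simp, odd_one⟩ ⟨2, Multiset.mem_add.2 (Or.inl (Multiset.mem_replicate.2 ⟨by omega, rfl⟩)),
        one_lt_two⟩
    have hmem : ∀ e ∈ ν, e = 2 ∨ e = 1 := fun e he => by
      rcases Multiset.mem_add.1 (Multiset.mem_of_le hν he) with h | h
      · exact Or.inl (Multiset.eq_of_mem_replicate h)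
      · exact Or.inr (Multiset.eq_of_mem_replicate h)
    have hdec : ν = Multiset.replicate (ν.count 2) 2 + Multiset.replicate (ν.count 1) 1 := by
      ext x
      rw [Multiset.count_add, Multiset.count_replicate, Multiset.count_replicate]
      by_cases hx : x ∈ ν
      · rcases hmem x hx with rfl | rfl <;> simp
      · have := Multiset.count_eq_zero.2 hx
        split_ifs <;> subst_vars <;> omega
    have hsum := congrArg Multiset.sum hdec
    rw [Multiset.sum_add, Multiset.sum_replicate, Multiset.sum_replicate, smul_eq_mul, smul_eq_mul, hνs] at hsum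
    have h1 : ν.count 1 ≤ 2 := by
      have := Multiset.le_iff_count.1 hν 1
      rw [Multiset.count_add, Multiset.count_replicate, Multiset.count_replicate_self, if_neg (by omega)] at this
      omega
    have h1' : 0 < ν.count 1 := by
      rcases hmem e he with rfl | rfl
      · exact absurd heo (by decide)
      · exact Multiset.count_pos.2 he
    obtain ⟨k, hk⟩ := hνe 2 even_two
    obtain ⟨j, hj⟩ := hme
    omega

end Cfsg.Agent.S5994
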