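import Cfsg.Statements.S5995
import Cfsg.Agent.H72.OrthTypeFix

set_option autoImplicit false
open scoped MatrixGroups
open Cfsg

namespace Cfsg.Agent.S5995

/-- A necessary condition for every element of order p of Ω_n(q), nq odd, to fix a hyperbolic `m`-space. Here `T = Ω_n(F)`, `n = 2d+1 ≥ 7`, `q` odd, realised as the commutator subgroup of the isometry group of `Q = x₀² + Σ xᵢyᵢ` over the field `F` with `q` elements (trivial centre, so its elements of prime order `r` are used directly); a nondegenerate `m`-space (even `m`) is a subspace on which the polar form of `Q` is nondegenerate; it is hyperbolic if it contains an `m/2`-dimensional subspace on which `Q` vanishes, elliptic otherwise. Let `m` be even with `2 ≤ m ≤ n − 1` and suppose `p` divides the number of hyperbolic `m`-spaces. If every element of `T` of order `p` fixes some hyperbolic `m`-space, then `m ≡ 0 (mod 4)` and every partition of `n` into parts of size at most `p` in which every even part has even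 multiplicity contains (as a sub-multiset) a partition of `m` in which every even part has even multiplicity. -/
theorem result {F : Type*} [Field F] [Fintype F] {p : ℕ} [Fact p.Prime] [CharP F p] {q : ℕ} (hq : Fintype.card F = q) (hqodd : Odd q)
    (d m : ℕ) (hd : 3 ≤ d) (hm : 2 ≤ m) (hme : Even m) (hmn : m ≤ 2 * d)
    (hpΩ : p ∣ Nat.card {W : Submodule F (Unit ⊕ (Fin d ⊕ Fin d) → F) // Module.finrank F ↥W = m ∧ Cfsg.Geo.IsNondegenerateOn (QuadraticMap.polar (Cfsg.quadFormOdd d F)) W ∧ Cfsg.Geo.IsPlusTypeOn (Cfsg.quadFormOdd d F) W}) :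
    (∀ x : GL (Unit ⊕ (Fin d ⊕ Fin d)) F, x ∈ Cfsg.Geo.omegaGL (Cfsg.quadFormOdd d F) → orderOf x = p →
      ∃ W : Submodule F (Unit ⊕ (Fin d ⊕ Fin d) → F), (Module.finrank F ↥W = m ∧ Cfsg.Geo.IsNondegenerateOn (QuadraticMap.polar (Cfsg.quadFormOdd d F)) W ∧ Cfsg.Geo.IsPlusTypeOn (Cfsg.quadFormOdd d F) W) ∧ W.map (Matrix.toLin' (x : Matrix (Unit ⊕ (Fin d ⊕ Fin d)) (Unit ⊕ (Fin d ⊕ Fin d)) F)) ≤ W) →
    (m % 4 = 0 ∧ (∀ μ : Multiset ℕ, (∀ e ∈ μ, 0 < e ∧ e ≤ p) → (∀ e : ℕ, Even e → Even (μ.count e)) → μ.sum = 2 * d + 1 →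
        ∃ ν : Multiset ℕ, ν ≤ μ ∧ ν.sum = m ∧ ∀ e : ℕ, Even e → Even (ν.count e))) := by
  intro hfix
  classical
  have hp : p ≠ 2 := by
    rintro rfl
    obtain ⟨n, -, hn⟩ := FiniteField.card F 2
    rw [← hq, hn] at hqodd
    exact Nat.not_even_iff_odd.2 hqodd (even_two.pow_of_ne_zero n.pos.ne')
  have hpo : Odd p := (Fact.out : p.Prime).odd_of_ne_two hp
  have h3p : 3 ≤ p := by
    have := (Fact.out : p.Prime).two_le
    omega
  set Q := Orthogonal.formOdd F d
  have hQ : Orthogonal.Nondeg Q := Orthogonal.formOdd_nondeg F d (H72.OrthTypeFix.two_ne_zero' hp)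
  have key : ∀ μ : Multiset ℕ, (∀ e ∈ μ, 0 < e ∧ e ≤ p) → (∀ e, Even e → Even (μ.count e)) →
      μ.sum = 2 * d + 1 → (∃ e ∈ μ, Odd e) → (∃ f ∈ μ, 1 < f) →
      ∃ ν : Multiset ℕ, ν ≤ μ ∧ ν.sum = m ∧ ∀ e, Even e → Even (ν.count e) := by
    intro μ hμ hev hsum hodd hbig
    obtain ⟨x, hx, hxo, -, hxμ⟩ := H72.OrthTypeFix.exists_element hp Q hQ hμ hev
      (by simp; omega) hodd hbig
    obtain ⟨W, ⟨hWm, hWn, -⟩, hxW⟩ := hfix x hx hxo
    obtain ⟨h1, h2, h3, -⟩ := H72.OrthTypeFix.subspace_type hp Q hQ hx (hxo ▸ pow_orderOf_eq_one x) hWn hxW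
    exact ⟨_, hxμ ▸ h1, h2.trans hWm, h3⟩
  refine ⟨?_, H72.OrthTypeFix.partition_of_key hpo hme (by omega) key⟩
  obtain ⟨c, s, hcs, hc, hs, hdc⟩ : ∃ c s, Even c ∧ 0 < c ∧ (s = 1 ∨ s = 3) ∧ 2 * c + s = 2 * d + 1 := by
    rcases Nat.even_or_odd' d with ⟨r, rfl | rfl⟩
    · exact ⟨2 * r, 1, even_two_mul r, by omega, Or.inl rfl, rfl⟩
    · exact ⟨2 * r, 3, even_two_mul r, by omega, Or.inr rfl, by omega⟩
  obtain ⟨ν, hν, hνs, hνe⟩ := key (Multiset.replicate c 2 + Multiset.replicate 1 s)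
    (fun e he => by
      rcases Multiset.mem_add.1 he with he | he <;> rw [Multiset.eq_of_mem_replicate he] <;> omega)
    (fun e he => by
      rw [Multiset.count_add, Multiset.count_replicate, Multiset.count_replicate,
        if_neg (show ¬ s = e by rintro rfl; obtain ⟨u, hu⟩ := he; omega), add_zero]
      split_ifs
      · exact hcs
      · exact ⟨0, rfl⟩)
    (by simp; omega)
    ⟨s, by simp, by rcases hs with rfl | rfl <;> decide⟩
    ⟨2, Multiset.mem_add.2 (Or.inl (Multiset.mem_replicate.2 ⟨by omega, rfl⟩)), one_lt_two⟩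
  have hdec : ν = Multiset.replicate (ν.count 2) 2 + Multiset.replicate (ν.count s) s := by
    ext x
    rw [Multiset.count_add, Multiset.count_replicate, Multiset.count_replicate]
    by_cases hx : x ∈ ν
    · rcases Multiset.mem_add.1 (Multiset.mem_of_le hν hx) with h | h <;>
        rw [Multiset.eq_of_mem_replicate h] <;> split_ifs <;> omega
    · have := Multiset.count_eq_zero.2 hx
      split_ifs <;> subst_vars <;> omega
  have hsum := congrArg Multiset.sum hdec
  rw [Multiset.sum_add, Multiset.sum_replicate, Multiset.sum_replicate, smul_eq_mul, smul_eq_mul, hνs] at hsum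
  have h1 : ν.count s ≤ 1 := by
    have := Multiset.le_iff_count.1 hν s
    rw [Multiset.count_add, Multiset.count_replicate, Multiset.count_replicate_self, if_neg (by omega)] at this
    omega
  obtain ⟨k, hk⟩ := hνe 2 even_two
  obtain ⟨j, hj⟩ := hme
  rcases Nat.le_one_iff_eq_zero_or_eq_one.1 h1 with h | h <;> rw [h] at hsum <;> omega

end Cfsg.Agent.S5995
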