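import Cfsg.Statements.S5997
import Cfsg.Agent.H99.SLTwo

set_option autoImplicit false
open scoped MatrixGroups
open Cfsg

namespace Cfsg.Agent.S5997

open scoped MatrixGroups
open Cfsg.Agent.H99

variable {F : Type*} [Field F]

open Cfsg.Agent.H99 in
/-- The data extracted from a quaternion subgroup of GL₂. -/
theorem quaternion_gens (R : Subgroup (GL (Fin 2) F)) (hR : Nonempty (↥R ≃* QuaternionGroup 2)) :
    ∃ i j : GL (Fin 2) F, i ∈ R ∧ j ∈ R ∧ Subgroup.closure {i, j} = R ∧ Nat.card R = 8 ∧
      ((i : Matrix (Fin 2) (Fin 2) F) * i = -1) ∧ ((j : Matrix (Fin 2) (Fin 2) F) * j = -1) ∧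
      ((j : Matrix (Fin 2) (Fin 2) F) * i = -((i : Matrix (Fin 2) (Fin 2) F) * j)) ∧
      i * i ≠ 1 := by
  obtain ⟨e⟩ := hR
  let f : QuaternionGroup 2 →* GL (Fin 2) F := R.subtype.comp e.symm.toMonoidHom
  have hf : Function.Injective f := Subtype.val_injective.comp e.symm.injective
  set i := f (QuaternionGroup.a 1) with hi
  set j := f (QuaternionGroup.xa 0) with hj
  set z := f (QuaternionGroup.a 2) with hz
  have hii : i * i = z := by rw [hi, hz, ← map_mul, QuaternionGroup.a_mul_a]; congr 1
  have hjj : j * j = z := by rw [hj, hz, ← map_mul, QuaternionGroup.xa_mul_xa]; congr 1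
  have hji : j * i = z * (i * j) := by
    simp only [hi, hj, hz, ← map_mul]
    congr 1
  have hzz : z * z = 1 := by rw [hz, ← map_mul, ← map_one f]; congr 1
  have hz1 : z ≠ 1 := by
    rw [hz, ← map_one f]
    exact fun h => absurd (hf h) (by decide)
  have hzdet : (z : Matrix (Fin 2) (Fin 2) F).det = 1 := by
    have h2 := congrArg Matrix.GeneralLinearGroup.det hji
    rw [map_mul, map_mul, map_mul, mul_comm (Matrix.GeneralLinearGroup.det j)] at h2
    have := congrArg (fun u : Fˣ => (u : F)) (mul_eq_right.1 h2.symm)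
    simpa using this
  have hzval : (z : Matrix (Fin 2) (Fin 2) F) = -1 := by
    have hch := cayleyHamilton_two (z : Matrix (Fin 2) (Fin 2) F)
    rw [← Units.val_mul, hzz, hzdet, Units.val_one, one_smul, eq_sub_iff_add_eq] at hch
    rcases eq_or_ne (z : Matrix (Fin 2) (Fin 2) F).trace 0 with ht | ht
    · -- trace zero gives `1 + 1 = 0`, so `z - 1` is nilpotent and `z = -1` fails only if `z = 1`
      rw [ht, zero_smul] at hch
      have h2 : (2 : F) = 0 := by
        have := congrFun (congrFun hch 0) 0
        simpa [two_mul, ← one_add_one_eq_two] using this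
      exfalso
      -- in characteristic two a quaternion group has no faithful two-dimensional representation
      have hi4 : (i * i) * (i * i) = 1 := by rw [hii, hzz]
      set A : Matrix (Fin 2) (Fin 2) F := (i : Matrix (Fin 2) (Fin 2) F) with hA
      have hAA : A * A * (A * A) = 1 := by
        have := congrArg (fun u : GL (Fin 2) F => (u : Matrix (Fin 2) (Fin 2) F)) hi4
        simpa [hA] using this
      have hd : A.det = 1 := by
        have hd4 := congrArg Matrix.det hAA
        simp only [Matrix.det_mul, Matrix.det_one] at hd4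
        have h0 : (A.det + 1) ^ 4 = 0 := by linear_combination hd4 + (2 * A.det ^ 3 + 3 * A.det ^ 2 + 2 * A.det + 1) * h2
        have := pow_eq_zero_iff (n := 4) (by norm_num) |>.1 h0
        linear_combination this - h2
      have hch2 := cayleyHamilton_two A
      rw [hd, one_smul] at hch2
      have hzA : (z : Matrix (Fin 2) (Fin 2) F) = A.trace • A - 1 := by
        rw [← hch2, hA, ← Units.val_mul, hii]
      rcases eq_or_ne A.trace 0 with ha | ha
      · apply hz1
        apply Units.ext
        rw [hzA, ha, zero_smul, zero_sub, Units.val_one]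
        ext a b
        fin_cases a <;> fin_cases b <;> simp
        all_goals linear_combination -h2
      · have htz : (z : Matrix (Fin 2) (Fin 2) F).trace = A.trace * A.trace := by
          rw [hzA, Matrix.trace_sub, Matrix.trace_smul, Matrix.trace_one]
          simp [h2]
        rw [ht] at htz
        exact mul_ne_zero ha ha htz.symm
    · have hzc : (z : Matrix (Fin 2) (Fin 2) F) = (2 / (z : Matrix (Fin 2) (Fin 2) F).trace) • 1 := by
        set t := (z : Matrix (Fin 2) (Fin 2) F).trace
        rw [eq_comm, div_eq_mul_inv, mul_comm, ← smul_smul, inv_smul_eq_iff₀ ht, ← hch, two_smul]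
      set c := 2 / (z : Matrix (Fin 2) (Fin 2) F).trace
      have hc2 : c * c = 1 := by
        have := hzdet
        rw [hzc, Matrix.det_smul, Matrix.det_one, mul_one, Fintype.card_fin, pow_two] at this
        exact this
      rcases mul_self_eq_one_iff.1 hc2 with h | h
      · exact absurd (Units.ext (by rw [hzc, h, one_smul, Units.val_one])) hz1
      · rw [hzc, h, neg_smul, one_smul]
  refine ⟨i, j, (e.symm _).2, (e.symm _).2, ?_, ?_, ?_, ?_, ?_, hii ▸ hz1⟩
  · apply le_antisymm
    · rw [Subgroup.closure_le]
      rintro x (rfl | rfl) <;> exact (e.symm _).2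
    · intro x hx
      have hxe : x = f (e ⟨x, hx⟩) := by simp [f]
      have hiC : i ∈ Subgroup.closure {i, j} := Subgroup.subset_closure (Set.mem_insert _ _)
      have hjC : j ∈ Subgroup.closure {i, j} := Subgroup.subset_closure (Set.mem_insert_of_mem _ rfl)
      have ha : ∀ m : ZMod (2 * 2), f (QuaternionGroup.a m) ∈ Subgroup.closure {i, j} := by
        intro m
        rw [← ZMod.natCast_zmod_val m, ← QuaternionGroup.a_one_pow, map_pow]
        exact pow_mem hiC _
      rw [hxe]
      generalize e ⟨x, hx⟩ = y
      cases y with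
      | a m => exact ha m
      | xa m =>
        rw [show QuaternionGroup.xa m = QuaternionGroup.xa (0 : ZMod (2 * 2)) * QuaternionGroup.a m by simp, map_mul]
        exact mul_mem hjC (ha m)
  · rw [Nat.card_congr e.toEquiv, Nat.card_eq_fintype_card, QuaternionGroup.card]
  · rw [← Units.val_mul, hii, hzval]
  · rw [← Units.val_mul, hjj, hzval]
  · rw [← Units.val_mul, hji, Units.val_mul, hzval, neg_one_mul, Units.val_mul]

/-- An automorphism of odd prime order `≥ 5` of a group of order 8 fixes every element which is not an involution. -/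
theorem aut_fixes {G : Type*} [Group G] [Finite G] (hG : Nat.card G = 8) (r : ℕ) (hr : r.Prime) (h5 : 5 ≤ r)
    (φ : MulAut G) (hφ : φ ^ r = 1) (a : G) (ha : a * a ≠ 1) : φ a = a := by
  by_contra hne
  haveI : Fact r.Prime := ⟨hr⟩
  have hper : ∀ c : ℕ, (φ ^ c) a = a → r ∣ c := by
    intro c hc
    by_contra hd
    have hcop : Nat.gcd c r = 1 := (hr.coprime_iff_not_dvd.2 hd).symm
    obtain ⟨u, hu⟩ := Nat.exists_mul_mod_eq_one_of_coprime hcop hr.one_lt
    have h1 : φ ^ (c * u) = φ := by
      rw [← Nat.mod_add_div (c * u) r, hu.2, pow_add, pow_one, pow_mul, hφ, one_pow, mul_one]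
    have h2 : ∀ k : ℕ, ((φ ^ c) ^ k) a = a := by
      intro k
      induction k with
      | zero => simp
      | succ k ih => rw [pow_succ, MulAut.mul_apply, hc, ih]
    exact hne (by rw [← h1, pow_mul]; exact h2 u)
  have hinj : Function.Injective
      (fun x : Fin r × Bool => if x.2 then (φ ^ (x.1 : ℕ)) a else ((φ ^ (x.1 : ℕ)) a)⁻¹) := by
    have hd : ∀ c d : Fin r, (φ ^ (c : ℕ)) a = ((φ ^ (d : ℕ)) a)⁻¹ → False := by
      intro c d h
      have h1 : (φ ^ ((c : ℕ) + (r - (d : ℕ)))) a = a⁻¹ := by
        rw [add_comm, pow_add, MulAut.mul_apply, h, map_inv, ← MulAut.mul_apply, ← pow_add,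
          Nat.sub_add_cancel d.2.le, hφ, MulAut.one_apply]
      have h2 : (φ ^ (((c : ℕ) + (r - (d : ℕ))) + ((c : ℕ) + (r - (d : ℕ))))) a = a := by
        rw [pow_add, MulAut.mul_apply, h1, map_inv, h1, inv_inv]
      have h3 := hper _ h2
      rw [← two_mul] at h3
      rcases hr.dvd_mul.1 h3 with h4 | h4
      · have := Nat.le_of_dvd (by norm_num) h4; omega
      · obtain ⟨k, hk⟩ := h4
        rw [hk, pow_mul, hφ, one_pow, MulAut.one_apply] at h1
        exact ha (mul_eq_one_iff_eq_inv.2 h1)
    have heq : ∀ c d : Fin r, (φ ^ (c : ℕ)) a = (φ ^ (d : ℕ)) a → c = d := by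
      intro c d h
      have h1 : (φ ^ ((c : ℕ) + (r - (d : ℕ)))) a = a := by
        rw [add_comm, pow_add, MulAut.mul_apply, h, ← MulAut.mul_apply, ← pow_add,
          Nat.sub_add_cancel d.2.le, hφ, MulAut.one_apply]
      obtain ⟨k, hk⟩ := hper _ h1
      apply Fin.ext
      have := c.2
      have := d.2
      rcases k with _ | _ | k
      · omega
      · omega
      · exfalso; nlinarith [Nat.sub_le r (d : ℕ)]
    rintro ⟨c, b⟩ ⟨d, b'⟩ h
    cases b <;> cases b' <;> simp at h
    · rw [heq c d h]
    · exact (hd d c h.symm).elim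
    · exact (hd c d h).elim
    · rw [heq c d h]
  have := Nat.card_le_card_of_injective _ hinj
  rw [Nat.card_prod, Nat.card_fin, hG, Nat.card_eq_fintype_card, Fintype.card_bool] at this
  omega


/-- Elements of prime order of PSL_2(p) and the normalizer of a quaternion subgroup. Here `T = PSL_2(F)` for the field `F` with `p` elements, `p ≥ 5` prime; `R` is a subgroup of GL_2(F) isomorphic to the quaternion group of order 8 (an absolutely irreducible 2-group of symplectic type), and `H` is the subgroup of matrices of determinant 1 normalizing `R` — a subgroup of type 2^{1+2}.O₂⁻(2), isomorphic modulo scalars to A₄ or S₄ (maximality is not assumed). Ω is the set of cosets of `H` in `T`, so an element of `T` of prime order `r` (a matrix `x` of determinant 1 with `x^r` scalar, `x` not scalar) fixes a point of Ω exactly when some conjugate of `x` by a matrix of determinant 1 normalizes `R`. Let `r` be a prime dividing the index of `H`. Then every element of `T` of order `r` fixes a point of Ω if and only if `r = 2` or `r = 3`. -/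
theorem result {F : Type*} [Field F] [Fintype F] {p : ℕ} [Fact p.Prime] [CharP F p] (hF : Fintype.card F = p) (hp : 5 ≤ p)
    (R : Subgroup (GL (Fin 2) F)) (hR : Nonempty (↥R ≃* QuaternionGroup 2))
    (r : ℕ) [Fact r.Prime]
    (hΩ : r ∣ (Cfsg.Geo.subgroupNormalizer R).relIndex (Cfsg.Geo.specialLinear (Fin 2) F)) :
    (∀ x ∈ Cfsg.Geo.specialLinear (Fin 2) F, (∃ z : F, ((x ^ r : GL (Fin 2) F) : Matrix (Fin 2) (Fin 2) F) = z • (1 : Matrix (Fin 2) (Fin 2) F)) →
      (∀ z : F, (x : Matrix (Fin 2) (Fin 2) F) ≠ z • (1 : Matrix (Fin 2) (Fin 2) F)) →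
      ∃ g ∈ Cfsg.Geo.specialLinear (Fin 2) F, g⁻¹ * x * g ∈ Cfsg.Geo.subgroupNormalizer R) ↔ (r = 2 ∨ r = 3) := by
  classical
  obtain ⟨i, j, hiR, hjR, hgen, hcard, hii, hjj, hji, hi2⟩ := quaternion_gens R hR
  set I : Matrix (Fin 2) (Fin 2) F := (i : Matrix (Fin 2) (Fin 2) F) with hI
  set J : Matrix (Fin 2) (Fin 2) F := (j : Matrix (Fin 2) (Fin 2) F) with hJ
  have hpodd : Fintype.card F % 2 = 1 := by
    rw [hF]; exact Nat.odd_iff.1 ((Fact.out : p.Prime).odd_of_ne_two (by omega))
  have h2 : (2 : F) ≠ 0 := by
    intro h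
    have := (CharP.cast_eq_zero_iff F p 2).1 (by exact_mod_cast h)
    have := Nat.le_of_dvd (by norm_num) this
    omega
  have h3 : (3 : F) ≠ 0 := by
    intro h
    have := (CharP.cast_eq_zero_iff F p 3).1 (by exact_mod_cast h)
    have := Nat.le_of_dvd (by norm_num) this
    omega
  have hnsI : ∀ c : F, I ≠ c • 1 := by
    intro c h
    have h' := hji
    rw [h] at h'
    simp only [Matrix.mul_smul, Matrix.smul_mul, mul_one, one_mul] at h'
    have h'' : (2 * c) • J = 0 := by rw [two_mul, add_smul]; nth_rewrite 1 [h']; simp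
    rcases smul_eq_zero.1 h'' with h4 | h4
    · rcases mul_eq_zero.1 h4 with h5 | h5
      · exact h2 h5
      · exact i.ne_zero (by rw [← hI, h, h5, zero_smul])
    · exact j.ne_zero h4
  -- square root of minus one: trace zero and determinant one
  have sqneg : ∀ A : Matrix (Fin 2) (Fin 2) F, A * A = -1 → (∀ c : F, A ≠ c • 1) →
      A.trace = 0 ∧ A.det = 1 := by
    intro A hA hns
    have hch := cayleyHamilton_two A
    rw [hA] at hch
    have ht : A.trace = 0 := by
      by_contra ht
      apply hns ((A.det - 1) / A.trace)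
      rw [eq_comm, div_eq_inv_mul, ← smul_smul, inv_smul_eq_iff₀ ht, sub_smul, one_smul, eq_comm]
      rw [eq_sub_iff_add_eq] at hch
      rw [← hch]; abel
    refine ⟨ht, ?_⟩
    rw [ht, zero_smul, zero_sub, neg_inj] at hch
    have := congrFun (congrFun hch 0) 0
    simpa using this.symm
  have hN : ∀ y : GL (Fin 2) F, y * i * y⁻¹ ∈ R → y * j * y⁻¹ ∈ R → y ∈ Cfsg.Geo.subgroupNormalizer R := by
    intro y h1 h2
    have hle : R.map (MulAut.conj y).toMonoidHom ≤ R := by
      conv_lhs => rw [← hgen]
      rw [MonoidHom.map_closure, Subgroup.closure_le]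
      rintro _ ⟨x, hx, rfl⟩
      rcases hx with rfl | rfl
      · simpa using h1
      · simpa using h2
    have heq : R.map (MulAut.conj y).toMonoidHom = R :=
      Subgroup.eq_of_le_of_card_ge hle (le_of_eq (Subgroup.card_map_of_injective (MulEquiv.injective _)).symm)
    rw [Cfsg.Geo.subgroupNormalizer, Subgroup.mem_normalizer_iff]
    intro h
    constructor
    · intro hh; exact hle ⟨h, hh, by simp⟩
    · intro hh
      rw [← heq] at hh
      obtain ⟨h', hh', he⟩ := hh
      simp only [MulEquiv.toMonoidHom_eq_coe, MonoidHom.coe_coe, MulAut.conj_apply] at he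
      rwa [← mul_left_cancel (mul_right_cancel he)]
  constructor
  · intro hall
    by_contra hr
    push Not at hr
    have hrp : r.Prime := Fact.out
    have hr5 : 5 ≤ r := by
      have := hrp.two_le
      rcases eq_or_ne r 4 with rfl | h
      · norm_num at hrp
      · omega
    have hdvd : r ∣ Nat.card (Cfsg.Geo.specialLinear (Fin 2) F) :=
      hΩ.trans (Subgroup.relIndex_dvd_card _ _)
    obtain ⟨⟨x, hxS⟩, hxo⟩ := exists_prime_orderOf_dvd_card' r hdvd
    rw [← Subgroup.orderOf_coe] at hxo
    simp only at hxo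
    have hxd := (mem_specialLinear_iff x).1 hxS
    have nscal : ∀ y : GL (Fin 2) F, (y : Matrix (Fin 2) (Fin 2) F).det = 1 → orderOf y = r →
        ∀ c : F, (y : Matrix (Fin 2) (Fin 2) F) ≠ c • 1 := by
      intro y hyd hyo c hc
      rw [hc, Matrix.det_smul, Matrix.det_one, mul_one, Fintype.card_fin] at hyd
      have hy2 : y ^ 2 = 1 := by
        apply Units.ext
        rw [Units.val_pow_eq_pow_val, hc, smul_pow, one_pow, hyd, one_smul, Units.val_one]
      have := Nat.le_of_dvd (by norm_num) (hyo ▸ orderOf_dvd_of_pow_eq_one hy2)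
      omega
    obtain ⟨g, hg, hy⟩ := hall x hxS ⟨1, by rw [← hxo, pow_orderOf_eq_one, Units.val_one, one_smul]⟩ (nscal x hxd hxo)
    set y := g⁻¹ * x * g with hydef
    have hyo : orderOf y = r := by
      rw [← hxo, hydef]
      exact orderOf_injective (MulAut.conj g⁻¹).toMonoidHom (MulEquiv.injective _) x ▸ (by simp)
    have hyd : (y : Matrix (Fin 2) (Fin 2) F).det = 1 :=
      (mem_specialLinear_iff y).1 (mul_mem (mul_mem (inv_mem hg) hxS) hg)
    haveI : Finite R := Nat.finite_of_card_ne_zero (by omega)
    let φ := R.normalizerMonoidHom ⟨y, hy⟩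
    have hφ : φ ^ r = 1 := by
      rw [← map_pow]
      convert map_one R.normalizerMonoidHom
      exact Subtype.ext (by simp [← hyo, pow_orderOf_eq_one])
    have hfix : ∀ a : GL (Fin 2) F, a ∈ R → a * a ≠ 1 →
        (y : Matrix (Fin 2) (Fin 2) F) * a = (a : Matrix (Fin 2) (Fin 2) F) * y := by
      intro a ha ha2
      have := aut_fixes hcard r hrp hr5 φ hφ ⟨a, ha⟩ (fun h => ha2 (congrArg Subtype.val h))
      have h' : y * a * y⁻¹ = a := congrArg Subtype.val this
      rw [mul_inv_eq_iff_eq_mul] at h'
      rw [← Units.val_mul, h', Units.val_mul]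
    have hjj2 : j * j ≠ 1 := by
      intro h; apply hi2; apply Units.ext
      rw [Units.val_mul, ← hI, hii, ← hjj, ← Units.val_mul, h]
    have hyi := hfix i hiR hi2
    have hyj := hfix j hjR hjj2
    obtain ⟨hti, -⟩ := sqneg I hii hnsI
    set Y : Matrix (Fin 2) (Fin 2) F := (y : Matrix (Fin 2) (Fin 2) F) with hY
    set Y' := Y - (Y.trace / 2) • (1 : Matrix (Fin 2) (Fin 2) F) with hY'
    have hYi : Y' * I = I * Y' := by rw [hY', sub_mul, mul_sub, hI, hyi]; simp
    have hYj : Y' * J = J * Y' := by rw [hY', sub_mul, mul_sub, hJ, hyj]; simp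
    have htY : Y'.trace = 0 := by
      rw [hY', Matrix.trace_sub, Matrix.trace_smul, Matrix.trace_one]
      simp only [Fintype.card_fin, smul_eq_mul, Nat.cast_ofNat]
      field_simp
      ring
    have hac : Y' * I + I * Y' = (Y' * I).trace • 1 := by
      rw [Matrix.trace_fin_two] at hti htY
      have h1 : I 1 1 = -I 0 0 := by linear_combination hti
      have h2 : Y' 1 1 = -Y' 0 0 := by linear_combination htY
      ext a b
      fin_cases a <;> fin_cases b <;>
        simp [Matrix.mul_apply, Fin.sum_univ_two, Matrix.trace_fin_two, h1, h2] <;> ring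
    rw [← hYi, ← two_smul F (Y' * I)] at hac
    have hYI : Y' = (-((Y' * I).trace / 2)) • I := by
      have h5 := congrArg (fun M => M * I) hac
      simp only [smul_mul_assoc, mul_assoc, hii, one_mul, mul_neg, mul_one, smul_neg] at h5
      rw [neg_smul, div_eq_inv_mul, ← smul_smul, ← h5, smul_neg, smul_smul, inv_mul_cancel₀ h2, one_smul, neg_neg]
    have hc0 : (-((Y' * I).trace / 2)) = 0 := by
      rw [hYI, smul_mul_assoc, mul_smul_comm, hji] at hYj
      have h6 : ((-((Y' * I).trace / 2)) * 2) • (I * J) = 0 := by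
        rw [mul_comm, two_mul, add_smul]
        nth_rewrite 1 [hYj]
        simp
      rcases smul_eq_zero.1 h6 with h7 | h7
      · exact (mul_eq_zero.1 h7).resolve_right h2
      · exact absurd h7 (by rw [hI, hJ, ← Units.val_mul]; exact (i * j).ne_zero)
    rw [hc0, zero_smul, hY', sub_eq_zero] at hYI
    exact nscal y hyd hyo _ hYI
  · intro hr x hxS hxr hns
    obtain ⟨z, hz⟩ := hxr
    have hxd := (mem_specialLinear_iff x).1 hxS
    set X : Matrix (Fin 2) (Fin 2) F := (x : Matrix (Fin 2) (Fin 2) F) with hX
    rw [Units.val_pow_eq_pow_val, ← hX] at hz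
    have hch := cayleyHamilton_two X
    rw [hxd, one_smul] at hch
    obtain ⟨hti, hdi⟩ := sqneg I hii hnsI
    rcases hr with rfl | rfl
    · rw [pow_two, hch] at hz
      have ht : X.trace = 0 := by
        by_contra ht
        apply hns ((z + 1) / X.trace)
        rw [eq_comm, div_eq_inv_mul, ← smul_smul, inv_smul_eq_iff₀ ht, add_smul, one_smul, ← hz, sub_add_cancel]
      obtain ⟨g, hg, he⟩ := exists_specialLinear_conj hpodd x i hxd hdi (ht.trans hti.symm)
        (by rw [← hX, ht, zero_pow (by norm_num), zero_sub, neg_ne_zero, show (4 : F) = 2 * 2 by norm_num]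
            exact mul_ne_zero h2 h2)
      exact ⟨g, hg, he ▸ Subgroup.le_normalizer hiR⟩
    · rw [pow_succ, pow_two, hch, sub_mul, smul_mul_assoc, hch, smul_sub, smul_smul, one_mul] at hz
      have hz' : (X.trace * X.trace - 1) • X = (z + X.trace) • (1 : Matrix (Fin 2) (Fin 2) F) := by
        rw [add_smul, ← hz, sub_smul, one_smul]; abel
      have ht1 : X.trace * X.trace = 1 := by
        by_contra h
        apply hns ((z + X.trace) / (X.trace * X.trace - 1))
        rw [eq_comm, div_eq_inv_mul, ← smul_smul, inv_smul_eq_iff₀ (sub_ne_zero.2 h), hz']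
      let W : Matrix (Fin 2) (Fin 2) F := (2 : F)⁻¹ • (I + J + I * J - 1)
      have e1 : I * (I * J) = -J := by rw [← mul_assoc, hii, neg_one_mul]
      have e2 : (I * J) * J = -I := by rw [mul_assoc, hjj, mul_neg_one]
      have e3 : (I * J) * I = J := by rw [mul_assoc, hji, mul_neg, e1, neg_neg]
      have e4 : J * (I * J) = I := by rw [← mul_assoc, hji, neg_mul, e2, neg_neg]
      have e5 : (I * J) * (I * J) = -1 := by rw [mul_assoc, e4, hii]
      have hW : W * W = -W - 1 := by
        simp only [W, smul_mul_assoc, mul_smul_comm, mul_add, add_mul, sub_mul, mul_sub, one_mul, mul_one,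
          hii, hjj, hji, e1, e2, e3, e4, e5]
        match_scalars <;> field_simp <;> ring
      have hWI : W * I = (I * J) * W := by
        simp only [W, smul_mul_assoc, mul_smul_comm, mul_add, add_mul, sub_mul, mul_sub, one_mul, mul_one,
          hii, hjj, hji, e1, e2, e3, e4, e5]
        abel_nf
      have hWJ : W * J = I * W := by
        simp only [W, smul_mul_assoc, mul_smul_comm, mul_add, add_mul, sub_mul, mul_sub, one_mul, mul_one,
          hii, hjj, hji, e1, e2, e3, e4, e5]
        abel_nf
      have hWns : ∀ c : F, W ≠ c • 1 := by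
        intro c hc
        rw [hc] at hWJ
        simp only [smul_mul_assoc, one_mul, mul_smul_comm, mul_one] at hWJ
        have hc0 : c ≠ 0 := by
          rintro rfl
          rw [hc, zero_smul, zero_mul, neg_zero, zero_sub] at hW
          exact one_ne_zero (neg_eq_zero.1 hW.symm)
        have h' : J = I := smul_right_injective _ hc0 hWJ
        have h'' := hji
        rw [h', hii, neg_neg] at h''
        have h8 := congrFun (congrFun h'' 0) 0
        simp at h8
        apply h2
        linear_combination -h8
      have hchW := cayleyHamilton_two W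
      have htW : W.trace = -1 := by
        by_contra h
        apply hWns ((W.det - 1) / (W.trace + 1))
        have h' : W.trace + 1 ≠ 0 := fun h' => h (by linear_combination h')
        rw [eq_comm, div_eq_inv_mul, ← smul_smul, inv_smul_eq_iff₀ h', add_smul, one_smul, sub_smul, one_smul]
        rw [hW, eq_sub_iff_add_eq] at hchW
        rw [← hchW]; abel
      have hdW : W.det = 1 := by
        rw [htW, hW, neg_smul, one_smul] at hchW
        have := congrFun (congrFun (sub_right_injective hchW) 0) 0
        simpa using this.symm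
      let w : GL (Fin 2) F := Matrix.GeneralLinearGroup.mkOfDetNeZero W (by rw [hdW]; exact one_ne_zero)
      have hwN : w ∈ Cfsg.Geo.subgroupNormalizer R := by
        apply hN
        · have : w * i * w⁻¹ = i * j := mul_inv_eq_iff_eq_mul.2 (Units.ext hWI)
          rw [this]; exact mul_mem hiR hjR
        · have : w * j * w⁻¹ = i := mul_inv_eq_iff_eq_mul.2 (Units.ext hWJ)
          rw [this]; exact hiR
      have hD : ∀ t : F, t * t = 1 → t ^ 2 - 4 ≠ 0 := fun t ht h => h3 (by linear_combination ht - h)
      rcases mul_self_eq_one_iff.1 ht1 with ht | ht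
      · let x' : GL (Fin 2) F := (i * i) * x
        have hx' : (x' : Matrix (Fin 2) (Fin 2) F) = -X := by
          show ((i * i * x : GL (Fin 2) F) : Matrix (Fin 2) (Fin 2) F) = -X
          rw [Units.val_mul, Units.val_mul, ← hI, hii, neg_one_mul]
        have htx' : (x' : Matrix (Fin 2) (Fin 2) F).trace = -1 := by rw [hx', Matrix.trace_neg, ht]
        obtain ⟨g, hg, he⟩ := exists_specialLinear_conj hpodd x' w
          (by rw [hx', Matrix.det_neg, hxd]; simp) hdW (htx'.trans htW.symm) (hD _ (by rw [htx']; ring))
        refine ⟨g, hg, ?_⟩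
        have hc : g⁻¹ * (i * i) * g = i * i := by
          have h' : (i * i) * g = g * (i * i) := Units.ext (by
            rw [Units.val_mul, Units.val_mul (a := g), Units.val_mul, ← hI, hii, neg_one_mul, mul_neg_one])
          rw [mul_assoc, h', inv_mul_cancel_left]
        have : g⁻¹ * x * g = (i * i)⁻¹ * w := by
          rw [← he, eq_inv_mul_iff_mul_eq]
          nth_rewrite 1 [← hc]
          simp only [x']
          group
        rw [this]
        exact mul_mem (inv_mem (Subgroup.le_normalizer (mul_mem hiR hiR))) hwN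
      · obtain ⟨g, hg, he⟩ := exists_specialLinear_conj hpodd x w hxd hdW (ht.trans htW.symm) (hD _ ht1)
        exact ⟨g, hg, he ▸ hwN⟩

end Cfsg.Agent.S5997
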