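import Cfsg.Statements.S5998
import Cfsg.Agent.H99.Heis

set_option autoImplicit false
open scoped MatrixGroups
open Cfsg

namespace Cfsg.Agent.S5998

open scoped MatrixGroups
open Cfsg.Agent.H99

/-- Elements of prime order of PSL_3(p), p ≡ 1 (mod 3), and the normalizer of an extraspecial subgroup of order 27. Here `T = PSL_3(F)` for the field `F` with `p` elements, `p` a prime with `p ≡ 1 (mod 3)`; `R` is a non-abelian subgroup of GL_3(F) of order 27 and exponent 3 (an extraspecial group 3^{1+2}, acting absolutely irreducibly), and `H` is the subgroup of matrices of determinant 1 normalizing `R` — a subgroup of type 3^{1+2}.Sp₂(3) (maximality is not assumed). Ω is the set of cosets of `H` in `T`, so an element of `T` of prime order `r` (a matrix `x` of determinant 1 with `x^r` scalar, `x` not scalar) fixes a point of Ω exactly when some conjugate of `x` by a matrix of determinant 1 normalizes `R`. Let `r` be a prime dividing the index of `H`. Then every element of `T` of order `r` fixes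 a point of Ω if and only if `r = 2`, or `r = 3` and `p ≡ 1 (mod 9)`. -/
theorem result {F : Type*} [Field F] [Fintype F] {p : ℕ} [Fact p.Prime] [CharP F p] (hF : Fintype.card F = p) (hp3 : p % 3 = 1)
    (R : Subgroup (GL (Fin 3) F)) (hR : Nat.card R = 27) (hRe : Monoid.exponent R = 3) (hRna : ¬ IsMulCommutative R)
    (r : ℕ) [Fact r.Prime]
    (hΩ : r ∣ (Cfsg.Geo.subgroupNormalizer R).relIndex (Cfsg.Geo.specialLinear (Fin 3) F)) :
    (∀ x ∈ Cfsg.Geo.specialLinear (Fin 3) F, (∃ z : F, ((x ^ r : GL (Fin 3) F) : Matrix (Fin 3) (Fin 3) F) = z • (1 : Matrix (Fin 3) (Fin 3) F)) →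
      (∀ z : F, (x : Matrix (Fin 3) (Fin 3) F) ≠ z • (1 : Matrix (Fin 3) (Fin 3) F)) →
      ∃ g ∈ Cfsg.Geo.specialLinear (Fin 3) F, g⁻¹ * x * g ∈ Cfsg.Geo.subgroupNormalizer R) ↔ (r = 2 ∨ (r = 3 ∧ p % 9 = 1)) := by
  classical
  have hp3' : (3 : ℕ) ∣ Fintype.card Fˣ := by
    rw [Fintype.card_units, hF]; omega
  obtain ⟨ω₀, hω₀o⟩ := exists_prime_orderOf_dvd_card 3 hp3'
  have hω₀ : ((ω₀ : Fˣ) : F) ^ 3 = 1 := by rw [← Units.val_pow_eq_pow_val, ← hω₀o, pow_orderOf_eq_one, Units.val_one]
  have hω₀1 : ((ω₀ : Fˣ) : F) ≠ 1 := fun h => by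
    rw [Units.val_eq_one] at h
    rw [h, orderOf_one] at hω₀o
    exact absurd hω₀o (by norm_num)
  obtain ⟨d⟩ := exists_heisData R hR hRe hRna _ hω₀ hω₀1
  haveI : Finite R := Nat.finite_of_card_ne_zero (by omega)
  have hSL : ∀ g : GL (Fin 3) F, g ∈ Cfsg.Geo.specialLinear (Fin 3) F ↔ (g : Matrix (Fin 3) (Fin 3) F).det = 1 := fun g => by
    rw [Cfsg.Geo.specialLinear, MonoidHom.mem_ker, ← Units.val_inj]; simp
  have hscalN : ∀ (g : GL (Fin 3) F) (t : F), (g : Matrix (Fin 3) (Fin 3) F) = t • 1 → g ∈ Cfsg.Geo.subgroupNormalizer R := by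
    intro g t hg
    have hc : ∀ h : GL (Fin 3) F, g * h * g⁻¹ = h := fun h => mul_inv_eq_iff_eq_mul.2 (Units.ext (by
      rw [Units.val_mul, Units.val_mul, hg, Matrix.smul_mul, Matrix.mul_smul, one_mul, mul_one]))
    exact d.mem_normalizer g (by rw [hc]; exact d.ha) (by rw [hc]; exact d.hb)
  -- scalar units
  let sc : Fˣ →* GL (Fin 3) F := Units.map (Matrix.scalar (Fin 3) : F →+* Matrix (Fin 3) (Fin 3) F).toMonoidHom
  have hsc : ∀ t : Fˣ, (sc t : Matrix (Fin 3) (Fin 3) F) = (t : F) • 1 := fun t => by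
    simp [sc, Matrix.smul_one_eq_diagonal]
  have hscc : ∀ (t : Fˣ) (g : GL (Fin 3) F), g⁻¹ * sc t * g = sc t := fun t g => by
    rw [mul_assoc, inv_mul_eq_iff_eq_mul]
    apply Units.ext
    rw [Units.val_mul, Units.val_mul, hsc, Matrix.smul_mul, Matrix.mul_smul, one_mul, mul_one]
  have hzdet : ∀ (x : GL (Fin 3) F) (z : F), x ∈ Cfsg.Geo.specialLinear (Fin 3) F →
      ((x ^ r : GL (Fin 3) F) : Matrix (Fin 3) (Fin 3) F) = z • (1 : Matrix (Fin 3) (Fin 3) F) → z ^ 3 = 1 := by
    intro x z hx hz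
    have := congrArg Matrix.det hz
    rw [Units.val_pow_eq_pow_val, Matrix.det_pow, (hSL x).1 hx, one_pow, Matrix.det_smul, Matrix.det_one, mul_one, Fintype.card_fin] at this
    exact this.symm
  have h2 : (2 : F) ≠ 0 := by
    intro h
    have := (CharP.cast_eq_zero_iff F p 2).1 (by exact_mod_cast h)
    have h' := (Nat.prime_dvd_prime_iff_eq (Fact.out : p.Prime) Nat.prime_two).1 this
    omega
  constructor
  · intro hall
    by_contra hr
    push Not at hr
    obtain ⟨hr2, hr3⟩ := hr
    by_cases h3 : r = 3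
    · subst h3
      have hp9 := hr3 rfl
      have hRS : R ≤ Cfsg.Geo.specialLinear (Fin 3) F := by
        rw [← d.hgen, Subgroup.closure_le]
        have hdP : (d.P : Matrix (Fin 3) (Fin 3) F).det ≠ 0 := (Matrix.GeneralLinearGroup.det d.P).ne_zero
        rintro x (rfl | rfl)
        · rw [SetLike.mem_coe, hSL]
          have := congrArg Matrix.det d.hA
          rw [Matrix.det_mul, Matrix.det_mul, Matrix.det_diagonal, Fin.prod_univ_three, mul_comm (d.P : Matrix (Fin 3) (Fin 3) F).det] at this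
          have h' := mul_right_cancel₀ hdP this
          rw [h']
          simp
          linear_combination d.hω
        · rw [SetLike.mem_coe, hSL]
          have := congrArg Matrix.det d.hB
          rw [Matrix.det_mul, Matrix.det_mul, mul_comm (d.P : Matrix (Fin 3) (Fin 3) F).det] at this
          have h' := mul_right_cancel₀ hdP this
          rw [h', shift3, Matrix.det_fin_three]
          simp
      have h27 : 27 ∣ Nat.card ((Cfsg.Geo.subgroupNormalizer R).subgroupOf (Cfsg.Geo.specialLinear (Fin 3) F)) := by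
        rw [← hR, ← Nat.card_congr (Subgroup.subgroupOfEquivOfLe hRS).toEquiv]
        exact Subgroup.card_dvd_of_le (Subgroup.comap_mono Subgroup.le_normalizer)
      have hSLc : 81 ∣ Nat.card (Cfsg.Geo.specialLinear (Fin 3) F) := by
        rw [← Subgroup.index_mul_card ((Cfsg.Geo.subgroupNormalizer R).subgroupOf (Cfsg.Geo.specialLinear (Fin 3) F))]
        exact mul_dvd_mul (a := 3) (c := 27) hΩ h27
      have hsurj : Function.Surjective (Matrix.GeneralLinearGroup.det : GL (Fin 3) F →* Fˣ) := by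
        intro u
        refine ⟨Matrix.GeneralLinearGroup.mkOfDetNeZero (Matrix.diagonal ![(u : F), 1, 1]) ?_, ?_⟩
        · simp [Matrix.det_diagonal, Fin.prod_univ_three]
        · apply Units.ext
          simp [Matrix.det_diagonal, Fin.prod_univ_three]
      have hmul := Subgroup.index_mul_card (Matrix.GeneralLinearGroup.det : GL (Fin 3) F →* Fˣ).ker
      rw [Subgroup.index_ker, MonoidHom.range_eq_top.2 hsurj, Subgroup.card_top, Matrix.card_GL_field,
        Fin.prod_univ_three, hF, Nat.card_eq_fintype_card (α := Fˣ), Fintype.card_units, hF] at hmul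
      obtain ⟨k, hk⟩ := hSLc
      obtain ⟨u, hu⟩ : ∃ u, p = 3 * u + 1 := ⟨p / 3, by omega⟩
      rw [show Nat.card ↥(Matrix.GeneralLinearGroup.det : GL (Fin 3) F →* Fˣ).ker = 81 * k from hk] at hmul
      subst hu
      have e1 : (3 * u + 1) ^ 3 - 1 = 3 * u * (3 * (3 * u ^ 2 + 3 * u + 1)) := by
        apply Nat.sub_eq_of_eq_add; ring
      have e2 : (3 * u + 1) ^ 3 - (3 * u + 1) ^ 1 = (3 * u + 1) * (3 * u) * (3 * u + 2) := by
        apply Nat.sub_eq_of_eq_add; ring
      have e3 : (3 * u + 1) ^ 3 - (3 * u + 1) ^ 2 = (3 * u + 1) ^ 2 * (3 * u) := by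
        apply Nat.sub_eq_of_eq_add; ring
      simp only [Fin.val_zero, Fin.val_one, Fin.val_two, pow_zero, e1, e2, e3] at hmul
      rw [Nat.add_sub_cancel] at hmul
      have h4 : (3 * u * 27) * (3 * k) = (3 * u * 27) * (u ^ 2 * (3 * u + 2) * (3 * u + 1) ^ 3 * (3 * u ^ 2 + 3 * u + 1)) := by
        linear_combination hmul
      have h5 : 3 ∣ u ^ 2 * (3 * u + 2) * (3 * u + 1) ^ 3 * (3 * u ^ 2 + 3 * u + 1) := by
        have hu0 : 0 < u := by have := (Fact.out : Nat.Prime (3 * u + 1)).two_le; omega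
        exact ⟨k, (Nat.eq_of_mul_eq_mul_left (by omega) h4).symm⟩
      rcases Nat.prime_three.dvd_mul.1 h5 with h6 | h6
      · rcases Nat.prime_three.dvd_mul.1 h6 with h7 | h7
        · rcases Nat.prime_three.dvd_mul.1 h7 with h8 | h8
          · have := Nat.prime_three.dvd_of_dvd_pow h8; omega
          · omega
        · have := Nat.prime_three.dvd_of_dvd_pow h7; omega
      · rw [show 3 * u ^ 2 + 3 * u + 1 = 3 * (u ^ 2 + u) + 1 by ring] at h6; omega
    · have hrp : r.Prime := Fact.out
      have hr5 : 5 ≤ r := by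
        have := hrp.two_le
        rcases eq_or_ne r 4 with rfl | h
        · norm_num at hrp
        · omega
      obtain ⟨⟨x, hxS⟩, hxo⟩ := exists_prime_orderOf_dvd_card' r
        (hΩ.trans (Subgroup.relIndex_dvd_card (Cfsg.Geo.subgroupNormalizer R) (Cfsg.Geo.specialLinear (Fin 3) F)))
      rw [← Subgroup.orderOf_coe] at hxo
      simp only at hxo
      have hns : ∀ t : F, (x : Matrix (Fin 3) (Fin 3) F) ≠ t • 1 := by
        intro t ht
        have hd := (hSL x).1 hxS
        rw [ht, Matrix.det_smul, Matrix.det_one, mul_one, Fintype.card_fin] at hd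
        have h' : x ^ 3 = 1 := Units.ext (by rw [Units.val_pow_eq_pow_val, ht, smul_pow, one_pow, hd, one_smul, Units.val_one])
        have := Nat.le_of_dvd (by norm_num) (hxo ▸ orderOf_dvd_of_pow_eq_one h')
        omega
      obtain ⟨g, hg, hy⟩ := hall x hxS ⟨1, by rw [← hxo, pow_orderOf_eq_one, Units.val_one, one_smul]⟩ hns
      have hyr : (g⁻¹ * x * g) ^ r = 1 := by
        have := map_pow (MulAut.conj g⁻¹) x r
        simp only [MulAut.conj_apply, inv_inv] at this
        rw [← this, ← hxo, pow_orderOf_eq_one]; group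
      obtain ⟨t, ht⟩ := d.scalar_of_prime_order hR hRe r hrp hr5 _ hy hyr
      apply hns t
      have hx : x = g * (g⁻¹ * x * g) * g⁻¹ := by group
      rw [hx, Units.val_mul, Units.val_mul, ht, Matrix.mul_smul, mul_one, Matrix.smul_mul, ← Units.val_mul, mul_inv_cancel, Units.val_one]
  · intro hr x hxS hxr hns
    obtain ⟨z, hz⟩ := hxr
    have hz3 := hzdet x z hxS hz
    have hz0 : z ≠ 0 := fun h => by simp [h] at hz3
    rcases hr with rfl | ⟨rfl, hp9⟩
    · let zu : Fˣ := Units.mk0 z hz0
      let x' : GL (Fin 3) F := sc zu * x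
      have hx' : x' ^ 2 = 1 := by
        apply Units.ext
        rw [Units.val_pow_eq_pow_val, show (x' : Matrix (Fin 3) (Fin 3) F) = z • (x : Matrix (Fin 3) (Fin 3) F) by
          show ((sc zu * x : GL (Fin 3) F) : Matrix (Fin 3) (Fin 3) F) = _
          rw [Units.val_mul, hsc, Matrix.smul_mul, one_mul]; rfl]
        rw [smul_pow, ← Units.val_pow_eq_pow_val, hz, smul_smul, Units.val_one, show z ^ 2 * z = 1 by rw [← pow_succ]; exact hz3, one_smul]
      have key : ∀ w : GL (Fin 3) F, w ^ 2 = 1 → (w : Matrix (Fin 3) (Fin 3) F).det = 1 → w ≠ 1 →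
          ∃ Q ∈ Cfsg.Geo.specialLinear (Fin 3) F,
            ((Q⁻¹ * w * Q : GL (Fin 3) F) : Matrix (Fin 3) (Fin 3) F) = Matrix.diagonal ![1, -1, -1] := by
        intro w hw hwd hw1
        obtain ⟨e, he, hQ⟩ := exists_specialLinear_conj_diagonal w {1, -1} (by
          have hne : (1 : F) ≠ -1 := fun h => h2 (by linear_combination h)
          rw [Finset.prod_pair hne, map_mul, map_sub, map_sub, Polynomial.aeval_X, Polynomial.aeval_C, Polynomial.aeval_C,
            map_one, map_neg, map_one, sub_neg_eq_add, sub_mul, mul_add, mul_one, one_mul, ← Units.val_mul, ← pow_two, hw, Units.val_one]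
          abel)
        obtain ⟨Q1, hQ1, hQ1e⟩ := hQ 1
        have hdet : e 0 * e 1 * e 2 = 1 := by
          have h' := congrArg Matrix.det hQ1e
          rw [Units.val_mul, Units.val_mul, Matrix.det_mul, Matrix.det_mul, hwd, (hSL _).1 hQ1,
            (hSL _).1 (inv_mem hQ1), Matrix.det_diagonal, Fin.prod_univ_three] at h'
          simpa using h'.symm
        have hne : ¬ (e 0 = 1 ∧ e 1 = 1 ∧ e 2 = 1) := by
          rintro ⟨a0, a1, a2⟩
          apply hw1
          have : Q1⁻¹ * w * Q1 = 1 := by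
            apply Units.ext
            rw [hQ1e, Units.val_one, ← Matrix.diagonal_one]
            congr 1; funext i; fin_cases i <;> simp [a0, a1, a2]
          have h' : w = Q1 * (Q1⁻¹ * w * Q1) * Q1⁻¹ := by group
          rw [h', this]; group
        have hne' : (1 : F) ≠ -1 := fun h => h2 (by linear_combination h)
        have hval : ∀ i, e i = 1 ∨ e i = -1 := fun i => by simpa using he i
        obtain ⟨σ, hσ⟩ : ∃ σ : Equiv.Perm (Fin 3), e ∘ σ = ![1, -1, -1] := by
          rcases hval 0 with a0 | a0 <;> rcases hval 1 with a1 | a1 <;> rcases hval 2 with a2 | a2 <;>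
            rw [a0, a1, a2] at hdet <;> simp [hne'.symm] at hdet
          · exact absurd ⟨a0, a1, a2⟩ hne
          · refine ⟨1, ?_⟩; funext i; fin_cases i <;> simp [a0, a1, a2]
          · refine ⟨Equiv.swap 0 1, ?_⟩; funext i; fin_cases i <;> simp [a0, a1, a2, Equiv.swap_apply_def]
          · refine ⟨Equiv.swap 0 2, ?_⟩; funext i; fin_cases i <;> simp [a0, a1, a2, Equiv.swap_apply_def]
        obtain ⟨Q, hQ', hQe⟩ := hQ σ
        exact ⟨Q, hQ', by rw [hQe, hσ]⟩
      let N : GL (Fin 3) F := Matrix.GeneralLinearGroup.mkOfDetNeZero negFlip3 (by rw [negFlip3, Matrix.det_fin_three]; simp)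
      let y : GL (Fin 3) F := d.P * N * d.P⁻¹
      have hy : y ∈ Cfsg.Geo.subgroupNormalizer R := d.negFlip_mem_normalizer y (by
        rw [← Units.val_mul, inv_mul_cancel_right, Units.val_mul]; rfl)
      have hN2 : N ^ 2 = 1 := by
        apply Units.ext
        rw [Units.val_pow_eq_pow_val, pow_two, Units.val_one]
        show negFlip3 * negFlip3 = 1
        ext i j; fin_cases i <;> fin_cases j <;> simp [negFlip3, Matrix.mul_apply, Fin.sum_univ_three]
      have hy2 : y ^ 2 = 1 := by
        have := map_pow (MulAut.conj d.P) N 2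
        simp only [MulAut.conj_apply] at this
        rw [← this, hN2]; group
      have hyd : (y : Matrix (Fin 3) (Fin 3) F).det = 1 := by
        show ((d.P * N * d.P⁻¹ : GL (Fin 3) F) : Matrix (Fin 3) (Fin 3) F).det = 1
        rw [Units.val_mul, Units.val_mul, Matrix.det_mul, Matrix.det_mul,
          show (N : Matrix (Fin 3) (Fin 3) F).det = 1 by show negFlip3.det = 1; rw [negFlip3, Matrix.det_fin_three]; simp,
          mul_one, ← Matrix.det_mul, ← Units.val_mul, mul_inv_cancel, Units.val_one, Matrix.det_one]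
      have hy1 : y ≠ 1 := by
        intro h
        have : N = 1 := by
          have h' : N = d.P⁻¹ * y * d.P := by simp only [y]; group
          rw [h', h]; group
        have h'' := congrArg (fun w : GL (Fin 3) F => (w : Matrix (Fin 3) (Fin 3) F) 1 1) this
        simp [N, negFlip3] at h''
      obtain ⟨Q1, hQ1, hQ1e⟩ := key x' hx' (by
        show ((sc zu * x : GL (Fin 3) F) : Matrix (Fin 3) (Fin 3) F).det = 1
        rw [Units.val_mul, Matrix.det_mul, hsc, Matrix.det_smul, Matrix.det_one, mul_one, Fintype.card_fin, (hSL x).1 hxS, mul_one]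
        exact hz3) (fun h => hns (z⁻¹) (by
        have hx : x = (sc zu)⁻¹ := eq_inv_of_mul_eq_one_right h
        rw [hx, ← map_inv, hsc]; simp [zu]))
      obtain ⟨Q2, hQ2, hQ2e⟩ := key y hy2 hyd hy1
      refine ⟨Q1 * Q2⁻¹, mul_mem hQ1 (inv_mem hQ2), ?_⟩
      have h' : Q1⁻¹ * x' * Q1 = Q2⁻¹ * y * Q2 := Units.ext (hQ1e.trans hQ2e.symm)
      have : (Q1 * Q2⁻¹)⁻¹ * x * (Q1 * Q2⁻¹) = (sc zu)⁻¹ * y := by
        have h1 : (Q1 * Q2⁻¹)⁻¹ * x' * (Q1 * Q2⁻¹) = y := by
          calc _ = Q2 * (Q1⁻¹ * x' * Q1) * Q2⁻¹ := by group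
            _ = _ := by rw [h']; group
        rw [eq_inv_mul_iff_mul_eq]
        conv_lhs => rw [← hscc zu (Q1 * Q2⁻¹)]
        rw [← h1]; simp only [x']; group
      rw [this]
      exact mul_mem (inv_mem (hscalN _ _ (hsc zu))) hy
    · obtain ⟨μ, hμ⟩ : ∃ μ : Fˣ, (μ : F) ^ 3 = z := by
        have h9 : 9 ∣ Nat.card Fˣ := by
          rw [Nat.card_eq_fintype_card, Fintype.card_units, hF]; omega
        obtain ⟨g, hg⟩ := IsCyclic.exists_ofOrder_eq_natCard (α := Fˣ)
        obtain ⟨k, hk⟩ := h9
        set ζ := g ^ k with hζ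
        have hk0 : 0 < k := by
          rcases Nat.eq_zero_or_pos k with h | h
          · rw [h, Nat.mul_zero] at hk; exact absurd hk Nat.card_pos.ne'
          · exact h
        have ho : orderOf ζ = 9 := by
          rw [hζ, orderOf_pow' _ hk0.ne', hg, hk, Nat.gcd_eq_right (dvd_mul_left k 9), Nat.mul_div_cancel _ hk0]
        set w : F := ((ζ ^ 3 : Fˣ) : F) with hw
        have hw3 : w ^ 3 = 1 := by
          rw [hw, ← Units.val_pow_eq_pow_val, ← pow_mul, show 3 * 3 = orderOf ζ by rw [ho], pow_orderOf_eq_one, Units.val_one]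
        have hw1 : w ≠ 1 := fun h => by
          rw [hw, Units.val_eq_one] at h
          have := Nat.le_of_dvd (by norm_num) (orderOf_dvd_of_pow_eq_one h)
          omega
        have hq : w ^ 2 + w + 1 = 0 :=
          (mul_eq_zero.1 (show (w - 1) * (w ^ 2 + w + 1) = 0 by linear_combination hw3)).resolve_left (sub_ne_zero.2 hw1)
        have : (z - 1) * ((z - w) * (z - w ^ 2)) = 0 := by linear_combination hz3 + (z - z ^ 2) * hq + (z - 1) * hw3
        rcases mul_eq_zero.1 this with h | h
        · exact ⟨1, by rw [Units.val_one, one_pow]; exact (sub_eq_zero.1 h).symm⟩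
        rcases mul_eq_zero.1 h with h | h
        · exact ⟨ζ, by rw [← Units.val_pow_eq_pow_val]; exact (sub_eq_zero.1 h).symm⟩
        · exact ⟨ζ ^ 2, by rw [← Units.val_pow_eq_pow_val, ← pow_mul, mul_comm, pow_mul, Units.val_pow_eq_pow_val]; exact (sub_eq_zero.1 h).symm⟩
      let x' : GL (Fin 3) F := (sc μ)⁻¹ * x
      have hx' : (x' : Matrix (Fin 3) (Fin 3) F) = (μ : F)⁻¹ • (x : Matrix (Fin 3) (Fin 3) F) := by
        show (((sc μ)⁻¹ * x : GL (Fin 3) F) : Matrix (Fin 3) (Fin 3) F) = _
        rw [Units.val_mul, ← map_inv, hsc, Matrix.smul_mul, one_mul, Units.val_inv_eq_inv_val]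
      have hx3 : (x' : Matrix (Fin 3) (Fin 3) F) ^ 3 = 1 := by
        rw [hx', smul_pow, ← Units.val_pow_eq_pow_val, hz, smul_smul, inv_pow, hμ, inv_mul_cancel₀ hz0, one_smul]
      have hsq : d.ω ^ 2 ≠ 1 := fun h => d.hω1 (by
        have : d.ω ^ 3 = d.ω ^ 2 * d.ω := by ring
        rw [d.hω, h, one_mul] at this; exact this.symm)
      have hne : d.ω ≠ d.ω ^ 2 := fun h => d.hω1 (mul_left_cancel₀ (fun h0 : d.ω = 0 => by have := d.hω; simp [h0] at this)
        (by linear_combination -h))
      have hq : d.ω ^ 2 + d.ω + 1 = 0 :=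
        (mul_eq_zero.1 (show (d.ω - 1) * (d.ω ^ 2 + d.ω + 1) = 0 by linear_combination d.hω)).resolve_left (sub_ne_zero.2 d.hω1)
      obtain ⟨e, he, hQ⟩ := exists_specialLinear_conj_diagonal x' {1, d.ω, d.ω ^ 2} (by
        rw [Finset.prod_insert (by simp [d.hω1.symm, hsq.symm]), Finset.prod_pair hne]
        have hpoly : ((Polynomial.X - Polynomial.C 1) * ((Polynomial.X - Polynomial.C d.ω) * (Polynomial.X - Polynomial.C (d.ω ^ 2))) : Polynomial F) = Polynomial.X ^ 3 - Polynomial.C 1 := by
          have hq' : Polynomial.C d.ω ^ 2 + Polynomial.C d.ω + 1 = (0 : Polynomial F) := by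
            rw [← map_pow, ← map_add, ← Polynomial.C_1, ← map_add, hq, map_zero]
          have hc : Polynomial.C d.ω ^ 3 = (1 : Polynomial F) := by rw [← map_pow, d.hω, map_one]
          simp only [map_pow, map_one]
          linear_combination (-(Polynomial.X ^ 2) + Polynomial.X) * hq' + (Polynomial.X - 1) * hc
        rw [hpoly, map_sub, map_pow, Polynomial.aeval_X, Polynomial.aeval_C, map_one, hx3, sub_self])
      have he3 : ∀ i, e i ^ 3 = 1 := by
        intro i
        have h' := he i
        simp at h'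
        rcases h' with h' | h' | h' <;> rw [h']
        · ring
        · exact d.hω
        · rw [← pow_mul, mul_comm, pow_mul, d.hω, one_pow]
      obtain ⟨Q, hQ', hQe⟩ := hQ 1
      rw [Equiv.Perm.coe_one, Function.comp_id] at hQe
      set δ := (d.P : Matrix (Fin 3) (Fin 3) F).det with hδ
      have hδ0 : δ ≠ 0 := (Matrix.GeneralLinearGroup.det d.P).ne_zero
      let D : GL (Fin 3) F := Matrix.GeneralLinearGroup.mkOfDetNeZero (Matrix.diagonal ![δ⁻¹, 1, 1]) (by
        simp [Matrix.det_diagonal, Fin.prod_univ_three, hδ0])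
      let P1 : GL (Fin 3) F := d.P * D
      have hP1 : P1 ∈ Cfsg.Geo.specialLinear (Fin 3) F := by
        rw [hSL]
        show ((d.P * D : GL (Fin 3) F) : Matrix (Fin 3) (Fin 3) F).det = 1
        rw [Units.val_mul, Matrix.det_mul]
        show δ * (Matrix.diagonal ![δ⁻¹, 1, 1]).det = 1
        simp [Matrix.det_diagonal, Fin.prod_univ_three, hδ0]
      set E := Q⁻¹ * x' * Q with hE
      have hDE : D * E = E * D := by
        apply Units.ext
        rw [Units.val_mul D E, Units.val_mul E D, hQe]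
        show Matrix.diagonal _ * _ = _ * Matrix.diagonal _
        rw [Matrix.diagonal_mul_diagonal, Matrix.diagonal_mul_diagonal]
        simp [mul_comm]
      have hy : d.P * E * d.P⁻¹ ∈ Cfsg.Geo.subgroupNormalizer R := d.diagonal_mem_normalizer _ e he3 (by
        rw [← Units.val_mul, inv_mul_cancel_right, Units.val_mul, hQe])
      refine ⟨Q * P1⁻¹, mul_mem hQ' (inv_mem hP1), ?_⟩
      have : (Q * P1⁻¹)⁻¹ * x * (Q * P1⁻¹) = sc μ * (d.P * E * d.P⁻¹) := by
        have h1 : (Q * P1⁻¹)⁻¹ * x' * (Q * P1⁻¹) = d.P * E * d.P⁻¹ := by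
          calc _ = d.P * (D * E) * D⁻¹ * d.P⁻¹ := by simp only [P1, hE]; group
            _ = _ := by rw [hDE]; group
        rw [← h1]
        conv_rhs => rw [← hscc μ (Q * P1⁻¹)]
        simp only [x']; group
      rw [this]
      exact mul_mem (hscalN _ _ (hsc μ)) hy

end Cfsg.Agent.S5998
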