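import Cfsg.Statements.S6000
import Cfsg.Agent.H73.Pauli.Linear

set_option autoImplicit false
open scoped MatrixGroups
open Cfsg

namespace Cfsg.Agent.S6000

open Cfsg.Agent.H73.Pauli Polynomial

/-- Elements of prime order of PSL_4(p), p ≡ 1 (mod 4), and the normalizer of a 2-group of symplectic type of order 2⁶. Here `T = PSL_4(F)` for the field `F` with `p` elements, `p` a prime with `p ≡ 1 (mod 4)`; `R` is an absolutely irreducible subgroup of GL_4(F) of order 2⁶ that is a 2-group of symplectic type of exponent 4 with centre of order 4 (the central product of the scalars of order 4 with an extraspecial group 2^{1+4}), and `H` is the subgroup of matrices of determinant 1 normalizing `R` — a subgroup of type 2⁴.Sp₄(2) (maximality is not assumed). Ω is the set of cosets of `H` in `T`, so an element of `T` of prime order `r` (a matrix `x` of determinant 1 with `x^r` scalar, `x` not scalar) fixes a point of Ω exactly when some conjugate of `x` by a matrix of determinant 1 normalizes `R`. Let `r` be a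 prime dividing the index of `H`. Then every element of `T` of order `r` fixes a point of Ω if and only if `r = 2`, or `r = 3` and `p ≡ 2 (mod 3)`, or `r = 5` and `p ≡ ±2 (mod 5)` (`p` has multiplicative order 4 modulo 5). -/
theorem result {F : Type*} [Field F] [Fintype F] {p : ℕ} [Fact p.Prime] [CharP F p] (hF : Fintype.card F = p) (hp4 : p % 4 = 1)
    (R : Subgroup (GL (Fin 4) F)) (hR : Cfsg.Geo.IsLinearSymplecticTypeData 2 R) (hR6 : Nat.card R = 2 ^ 6)
    (r : ℕ) [Fact r.Prime]
    (hΩ : r ∣ (Cfsg.Geo.subgroupNormalizer R).relIndex (Cfsg.Geo.specialLinear (Fin 4) F)) :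
    (∀ x ∈ Cfsg.Geo.specialLinear (Fin 4) F, (∃ z : F, ((x ^ r : GL (Fin 4) F) : Matrix (Fin 4) (Fin 4) F) = z • (1 : Matrix (Fin 4) (Fin 4) F)) →
      (∀ z : F, (x : Matrix (Fin 4) (Fin 4) F) ≠ z • (1 : Matrix (Fin 4) (Fin 4) F)) →
      ∃ g ∈ Cfsg.Geo.specialLinear (Fin 4) F, g⁻¹ * x * g ∈ Cfsg.Geo.subgroupNormalizer R) ↔ (r = 2 ∨ (r = 3 ∧ p % 3 = 2) ∨ (r = 5 ∧ orderOf (p : ZMod 5) = 4)) := by
  classical
  have hr0 : r.Prime := Fact.out
  have hp0 : p.Prime := Fact.out
  obtain ⟨i, hd⟩ : ∃ i, PauliData R i := by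
    obtain ⟨p', e, -, -, hc⟩ := hR.field
    rcases hc with ⟨h, -⟩ | ⟨-, -, hZ, -⟩ | ⟨-, -, hι, -⟩
    · exact absurd h (by decide)
    · exact exists_pauliData (p := p) (by omega) R hR.symplecticType hR.absIrred hR6 hZ
    · simp at hι
  obtain ⟨P, hP⟩ := exists_frame hd
  have h2 := hd.two
  have hi := hd.i_sq
  have hdvd : r ∣ Nat.card (Cfsg.Geo.specialLinear (Fin 4) F) :=
    hΩ.trans (Subgroup.relIndex_dvd_card _ _)
  have hscal : ∀ {x : GL (Fin 4) F}, (∀ z : F, (x : Matrix (Fin 4) (Fin 4) F) ≠ z • 1) ↔ ¬ IsScalar x :=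
    fun {x} => ⟨fun h ⟨c, hc⟩ => h c hc, fun h z hz => h ⟨z, hz⟩⟩
  -- elements of Fˣ of prime order
  have hroot : ∀ q : ℕ, q.Prime → q ∣ p - 1 → ∃ w : F, w ^ q = 1 ∧ w ≠ 1 := by
    intro q hq hqp
    haveI := Fact.mk hq
    obtain ⟨u, hu⟩ := exists_prime_orderOf_dvd_card q (show q ∣ Fintype.card Fˣ by rwa [Fintype.card_units, hF])
    refine ⟨u, by rw [← Units.val_pow_eq_pow_val, ← hu, pow_orderOf_eq_one, Units.val_one], fun h => ?_⟩
    rw [Units.val_eq_one] at h
    rw [h, orderOf_one] at hu
    exact hq.one_lt.ne hu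
  constructor
  · intro hall
    have hkill : ∀ x : GL (Fin 4) F, (x : Matrix (Fin 4) (Fin 4) F).det = 1 → IsScalar (x ^ r) → ¬ IsScalar x →
        (∀ g, g⁻¹ * x * g ∉ Cfsg.Geo.subgroupNormalizer R) → False := by
      intro x hx hxr hxs hno
      obtain ⟨g, -, hg⟩ := hall x (mem_specialLinear_of_det hx) hxr (hscal.2 hxs)
      exact hno g hg
    by_contra hcon
    push Not at hcon
    obtain ⟨hr2, hr3, hr5⟩ := hcon
    have hodd : Odd r := hr0.odd_of_ne_two hr2
    by_cases h7 : 7 ≤ r
    · obtain ⟨x, hx, hx1, hxs⟩ :=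
        exists_nonscalar_of_dvd (fun x hx => det_eq_one_of_mem_specialLinear hx) hr2 hdvd
      have hxr : IsScalar (x ^ r) := ⟨1, by rw [hx1, Units.val_one, one_smul]⟩
      exact hkill x (det_eq_one_of_mem_specialLinear hx) hxr hxs (no_conj_of_seven_le hd h7 hxr hxs)
    obtain rfl | rfl : r = 3 ∨ r = 5 := by
      have := hr0.two_le
      interval_cases r <;> first | exact Or.inl rfl | exact Or.inr rfl | exact absurd rfl hr2 | (norm_num at hr0)
    · have hp3 : p % 3 = 1 := by
        have := hr3 rfl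
        have : p % 3 ≠ 0 := fun h => by
          have := (Nat.prime_dvd_prime_iff_eq Nat.prime_three hp0).1 (Nat.dvd_of_mod_eq_zero h)
          omega
        omega
      obtain ⟨w, hw, hw1⟩ := hroot 3 Nat.prime_three (by omega)
      obtain ⟨x, hx⟩ := exists_gl (M := Matrix.diagonal ![w, w, w, 1]) (N := Matrix.diagonal ![w ^ 2, w ^ 2, w ^ 2, 1]) (by
        rw [Matrix.diagonal_mul_diagonal, ← Matrix.diagonal_one]
        congr 1; funext k; fin_cases k <;> simp <;> linear_combination hw)
      have hx3 : IsScalar (x ^ 3) := ⟨1, by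
        rw [Units.val_pow_eq_pow_val, hx, Matrix.diagonal_pow, one_smul, ← Matrix.diagonal_one]
        congr 1; funext k; fin_cases k <;> simp [hw]⟩
      have hxs : ¬ IsScalar x := fun ⟨c, hc⟩ => by
        rw [hx] at hc
        have e0 := congrFun (congrFun hc 0) 0
        have e3 := congrFun (congrFun hc 3) 3
        simp at e0 e3
        exact hw1 (e0.trans e3.symm)
      refine hkill x ?_ hx3 hxs (no_conj_of_rank_one hd (by decide) hx3 hxs w ?_)
      · rw [hx, Matrix.det_diagonal, Fin.prod_univ_four]; simp; linear_combination hw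
      · rw [hx, ← Matrix.diagonal_one, ← Matrix.diagonal_smul, Matrix.diagonal_sub, Matrix.rank_diagonal,
          Fintype.card_subtype]
        refine Finset.card_le_one.2 fun a ha b hb => ?_
        fin_cases a <;> fin_cases b <;> simp at ha hb ⊢
    · have hord := hr5 rfl
      have hc : p % 5 = 0 ∨ p % 5 = 1 ∨ p % 5 = 4 := by
        by_contra hne
        refine hord ?_
        have hp5 : (p : ZMod 5) = ((p % 5 : ℕ) : ZMod 5) := (ZMod.natCast_mod p 5).symm
        have h23 : p % 5 = 2 ∨ p % 5 = 3 := by omega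
        rcases h23 with h | h <;> rw [hp5, h]
        exacts [orderOf_two_three_mod_five.1, orderOf_two_three_mod_five.2]
      rcases hc with hc | hc | hc
      · -- p = 5
        have hp5 : p = 5 := ((Nat.prime_dvd_prime_iff_eq Nat.prime_five hp0).1 (Nat.dvd_of_mod_eq_zero hc)).symm
        have h5 : (5 : F) = 0 := by
          have := CharP.cast_eq_zero F p
          rw [hp5] at this
          exact_mod_cast this
        have hEE : (Matrix.single 0 1 1 : Matrix (Fin 4) (Fin 4) F) * Matrix.single 0 1 1 = 0 :=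
          Matrix.single_mul_single_of_ne _ _ _ _ (by decide) _
        obtain ⟨x, hx⟩ := exists_gl (M := (1 : Matrix (Fin 4) (Fin 4) F) + Matrix.single 0 1 1)
          (N := 1 - Matrix.single 0 1 1) (by rw [add_mul, one_mul, mul_sub, mul_one, hEE]; abel)
        have hpow : ∀ n : ℕ, ((1 : Matrix (Fin 4) (Fin 4) F) + Matrix.single 0 1 1) ^ n =
            1 + (n : F) • Matrix.single 0 1 1 := by
          intro n
          induction n with
          | zero => simp
          | succ n ih =>
            rw [pow_succ, ih, mul_add, mul_one, add_mul, one_mul, Matrix.smul_mul, hEE, smul_zero, add_zero,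
              Nat.cast_succ, add_smul, one_smul, add_assoc]
        have hx5 : IsScalar (x ^ 5) := ⟨1, by
          rw [Units.val_pow_eq_pow_val, hx, hpow, Nat.cast_ofNat, h5, zero_smul, add_zero, one_smul]⟩
        have hxs : ¬ IsScalar x := fun ⟨c, hc⟩ => by
          rw [hx] at hc
          have := congrFun (congrFun hc 0) 1
          simp at this
        refine hkill x ?_ hx5 hxs (no_conj_of_rank_one hd (by decide) hx5 hxs 1 ?_)
        · rw [hx, Matrix.det_of_isUpperTriangular]
          · simp [Fin.prod_univ_four]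
          · intro a b hab
            fin_cases a <;> fin_cases b <;> simp at hab ⊢
        · rw [hx, one_smul, add_sub_cancel_left, Matrix.single_eq_single_vecMulVec_single]
          exact Matrix.rank_vecMulVec_le _ _
      · obtain ⟨w, hw, hw1⟩ := hroot 5 Nat.prime_five (by omega)
        obtain ⟨x, hx⟩ := exists_gl (M := Matrix.diagonal ![w, w, w, w ^ 2])
          (N := Matrix.diagonal ![w ^ 4, w ^ 4, w ^ 4, w ^ 3]) (by
          rw [Matrix.diagonal_mul_diagonal, ← Matrix.diagonal_one]
          congr 1; funext k; fin_cases k <;> simp <;> linear_combination hw)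
        have hx5 : IsScalar (x ^ 5) := ⟨1, by
          rw [Units.val_pow_eq_pow_val, hx, Matrix.diagonal_pow, one_smul, ← Matrix.diagonal_one]
          congr 1; funext k; fin_cases k <;> simp [hw, ← pow_mul, show w ^ 10 = 1 by rw [show 10 = 5 * 2 from rfl, pow_mul, hw, one_pow]]⟩
        have hxs : ¬ IsScalar x := fun ⟨c, hc⟩ => by
          rw [hx] at hc
          have e0 := congrFun (congrFun hc 0) 0
          have e3 := congrFun (congrFun hc 3) 3
          simp at e0 e3
          exact hw1 (mul_left_cancel₀ (fun h0 : w = 0 => by simp [h0] at hw) (by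
            rw [mul_one, ← pow_two]; exact e3.trans e0.symm))
        refine hkill x ?_ hx5 hxs (no_conj_of_rank_one hd (by decide) hx5 hxs w ?_)
        · rw [hx, Matrix.det_diagonal, Fin.prod_univ_four]; simp; linear_combination hw
        · rw [hx, ← Matrix.diagonal_one, ← Matrix.diagonal_smul, Matrix.diagonal_sub, Matrix.rank_diagonal,
            Fintype.card_subtype]
          refine Finset.card_le_one.2 fun a ha b hb => ?_
          fin_cases a <;> fin_cases b <;> simp at ha hb ⊢
      · -- a square root of 5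
        obtain ⟨t0, ht0⟩ : IsSquare (5 : ZMod p) := by
          haveI : Fact (Nat.Prime 5) := ⟨Nat.prime_five⟩
          have h := ZMod.exists_sq_eq_prime_iff_of_mod_four_eq_one (p := 5) (q := p) (by decide) (by omega)
          have h' := h.1 ⟨2, by rw [← ZMod.natCast_mod p 5, hc]; rfl⟩
          rwa [Nat.cast_ofNat] at h'
        obtain ⟨s, hs⟩ : ∃ s : F, s * s + s - 1 = 0 := by
          set φ := ZMod.castHom (dvd_refl p) F
          refine ⟨(φ t0 - 1) / 2, ?_⟩
          have h5 : φ t0 * φ t0 = 5 := by rw [← map_mul, ← ht0, map_ofNat]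
          field_simp
          linear_combination h5
        have h5F : (5 : F) ≠ 0 := by
          intro h
          have := (CharP.cast_eq_zero_iff F p 5).1 (by exact_mod_cast h)
          have := (Nat.prime_dvd_prime_iff_eq hp0 Nat.prime_five).1 this
          omega
        obtain ⟨x, hx⟩ := exists_gl (M := !![(0 : F), -1, 0, 0; 1, s, 0, 0; 0, 0, 1, 0; 0, 0, 0, 1])
          (N := !![s, 1, 0, 0; -1, 0, 0, 0; 0, 0, 1, 0; 0, 0, 0, 1]) (by
          ext a b; fin_cases a <;> fin_cases b <;> simp [Matrix.mul_apply, Fin.sum_univ_four])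
        have hsq : (x : Matrix (Fin 4) (Fin 4) F) ^ 2 =
            !![(-1 : F), -s, 0, 0; s, s * s - 1, 0, 0; 0, 0, 1, 0; 0, 0, 0, 1] := by
          rw [pow_two, hx]; ext a b
          fin_cases a <;> fin_cases b <;> simp [Matrix.mul_apply, Fin.sum_univ_four] <;> ring
        have hx5 : IsScalar (x ^ 5) := ⟨1, by
          rw [Units.val_pow_eq_pow_val, pow_succ, show (x : Matrix (Fin 4) (Fin 4) F) ^ 4 = (x : Matrix (Fin 4) (Fin 4) F) ^ 2 * (x : Matrix (Fin 4) (Fin 4) F) ^ 2 by rw [← pow_add],
            hsq, hx, one_smul]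
          ext a b
          fin_cases a <;> fin_cases b <;> simp [Matrix.mul_apply, Fin.sum_univ_four] <;> grind⟩
        have hxs : ¬ IsScalar x := fun ⟨c, hc⟩ => by
          rw [hx] at hc
          have := congrFun (congrFun hc 0) 1
          simp at this
        refine hkill x ?_ hx5 hxs (no_conj_of_trace hd hx5 hxs ?_)
        · rw [hx, Matrix.det_succ_row_zero]
          simp [Fin.sum_univ_succ, Matrix.det_fin_three, Fin.succAbove]
        · have e : ((x⁻¹ : GL (Fin 4) F) : Matrix (Fin 4) (Fin 4) F) =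
              !![s, 1, 0, 0; -1, 0, 0, 0; 0, 0, 1, 0; 0, 0, 0, 1] := by
            refine (left_inv_eq_right_inv (a := (x : Matrix (Fin 4) (Fin 4) F)) (Units.inv_mul x) ?_)
            rw [hx]
            ext a b; fin_cases a <;> fin_cases b <;> simp [Matrix.mul_apply, Fin.sum_univ_four]
          rw [e, hx]
          simp [Matrix.trace, Fin.sum_univ_four]
          intro h
          exact h5F (by grind)
  · rintro hr x hx ⟨z, hz⟩ hxs
    rw [hscal] at hxs
    have hxd := det_eq_one_of_mem_specialLinear hx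
    have hz4 : z ^ 4 = 1 := by
      have := congrArg Matrix.det hz
      rw [Units.val_pow_eq_pow_val, Matrix.det_pow, hxd, one_pow, Matrix.det_smul, Matrix.det_one, mul_one,
        Fintype.card_fin] at this
      exact this.symm
    have hz0 : z ≠ 0 := by rintro rfl; simp at hz4
    have hrp : (r : F) ≠ 0 := by
      intro h
      have h' := (Nat.prime_dvd_prime_iff_eq hp0 hr0).1 ((CharP.cast_eq_zero_iff F p r).1 h)
      rcases hr with rfl | ⟨rfl, h3⟩ | ⟨rfl, h5⟩
      · omega
      · omega
      · subst h'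
        rw [ZMod.natCast_self, orderOf_zero] at h5
        omega
    obtain ⟨c, hc0, hcr⟩ : ∃ c : F, c ≠ 0 ∧ c ^ r = z := by
      rcases hr with rfl | ⟨rfl, -⟩ | ⟨rfl, -⟩
      · by_cases hsq : IsSquare z
        · obtain ⟨c, hc⟩ := hsq
          exact ⟨c, fun h => hz0 (by rw [hc, h, mul_zero]), by rw [hc, pow_two]⟩
        · exfalso
          have hxz := det_of_sq_nonsquare hsq (by rw [← Units.val_pow_eq_pow_val]; exact hz)
          rw [hxd] at hxz
          rcases mul_self_eq_one_iff.1 hxz.symm with e | e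
          · exact hsq (e ▸ IsSquare.one)
          · exact hsq ⟨i, by rw [e, hi]⟩
      · exact ⟨z ^ 3, pow_ne_zero _ hz0, by
          rw [← pow_mul, show 3 * 3 = 4 + 4 + 1 from rfl, pow_add, pow_add, hz4, one_mul, one_mul, pow_one]⟩
      · exact ⟨z, hz0, by rw [show 5 = 4 + 1 from rfl, pow_succ, hz4, one_mul]⟩
    obtain ⟨t, ht⟩ := exists_scalar hc0
    have hts : IsScalar t := ⟨c, ht⟩
    set T := t⁻¹ * x with hTdef
    have hxT : x = t * T := by rw [hTdef, mul_inv_cancel_left]
    have hTr : (T : Matrix (Fin 4) (Fin 4) F) ^ r = 1 := by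
      have h1 : x ^ r = t ^ r * T ^ r := by rw [hxT, (hts.commute T).mul_pow]
      have h2 : x ^ r = t ^ r := Units.ext (by
        rw [hz, Units.val_pow_eq_pow_val, ht, _root_.smul_pow, one_pow, hcr])
      rw [h2] at h1
      rw [← Units.val_pow_eq_pow_val, mul_eq_left.1 h1.symm, Units.val_one]
    have hT1 : (T : Matrix (Fin 4) (Fin 4) F) ≠ 1 := fun h =>
      hxs ⟨c, by rw [hxT, Units.val_mul, h, mul_one, ht]⟩
    have hTm : (T : Matrix (Fin 4) (Fin 4) F) ≠ -1 := fun h =>
      hxs ⟨-c, by rw [hxT, Units.val_mul, h, mul_neg, mul_one, ht, neg_smul]⟩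
    -- the class representative
    obtain ⟨hirr, Y, hYr, hYf, hYN⟩ : Irreducible (cyclotomic r F) ∧ ∃ Y : GL (Fin 4) F,
        (Y : Matrix (Fin 4) (Fin 4) F) ^ r = 1 ∧
        fixDim (T : Matrix (Fin 4) (Fin 4) F) = fixDim (Y : Matrix (Fin 4) (Fin 4) F) ∧
        P * Y * P⁻¹ ∈ Cfsg.Geo.subgroupNormalizer R := by
      have hsum := finrank_cyclo hrp hTr
      have hf4 : fixDim (T : Matrix (Fin 4) (Fin 4) F) ≠ 4 := fun h => hT1 (fixDim_eq_four.1 h)
      rcases hr with rfl | ⟨rfl, h3⟩ | ⟨rfl, h5⟩
      · have hirr : Irreducible (cyclotomic 2 F) := by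
          rw [cyclotomic_two]
          simpa [sub_neg_eq_add] using Polynomial.irreducible_X_sub_C (-1 : F)
        refine ⟨hirr, ?_⟩
        have hf0 : fixDim (T : Matrix (Fin 4) (Fin 4) F) ≠ 0 := fun h => by
          rw [h, add_zero, finrank_ker_eq_four, cyclotomic_two, map_add, aeval_X, map_one] at hsum
          exact hTm (eq_neg_of_add_eq_zero_left hsum)
        have hfc := fixDim_cz h2
        obtain hf | hf | hf : fixDim (T : Matrix (Fin 4) (Fin 4) F) = 1 ∨ fixDim (T : Matrix (Fin 4) (Fin 4) F) = 2 ∨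
            fixDim (T : Matrix (Fin 4) (Fin 4) F) = 3 := by omega
        · obtain ⟨Y, hY⟩ := exists_gl (M := (-cz : Matrix (Fin 4) (Fin 4) F)) (N := -cz)
            (by rw [neg_mul_neg, ← pow_two, cz_pow])
          exact ⟨Y, by rw [hY, neg_sq, cz_pow], by rw [hf, hY, hfc.2], target_cz hd hP (Or.inr hY)⟩
        · obtain ⟨Y, hY⟩ := exists_gl (M := (sB2 : Matrix (Fin 4) (Fin 4) F)) (N := sB2)
            (by rw [← pow_two, sB2_pow])
          exact ⟨Y, by rw [hY, sB2_pow], by rw [hf, hY, fixDim_sB2 h2], target_sB2 hd hP hY⟩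
        · obtain ⟨Y, hY⟩ := exists_gl (M := (cz : Matrix (Fin 4) (Fin 4) F)) (N := cz)
            (by rw [← pow_two, cz_pow])
          exact ⟨Y, by rw [hY, cz_pow], by rw [hf, hY, hfc.1], target_cz hd hP (Or.inl hY)⟩
      · have hirr : Irreducible (cyclotomic 3 F) := irreducible_cyclotomic_of_orderOf hF (by
          rw [← ZMod.natCast_mod p 3, h3]
          exact orderOf_two_mod_three) (by omega)
        refine ⟨hirr, ?_⟩
        have hdeg : (cyclotomic 3 F).natDegree = 2 := by rw [natDegree_cyclotomic]; decide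
        obtain ⟨k, hk⟩ := natDegree_dvd_finrank_ker hirr (T : Matrix (Fin 4) (Fin 4) F)
        rw [hdeg] at hk
        have hcyc : ∀ M : Matrix (Fin 4) (Fin 4) F, aeval M (cyclotomic 3 F) = M ^ 2 + M + 1 := fun M => by
          rw [cyclotomic_three, map_add, map_add, map_pow, aeval_X, map_one]
        obtain hf | hf : fixDim (T : Matrix (Fin 4) (Fin 4) F) = 0 ∨ fixDim (T : Matrix (Fin 4) (Fin 4) F) = 2 := by
          omega
        · obtain ⟨hY3, hY0⟩ := y31_facts hi h2
          obtain ⟨Y, hY⟩ := exists_gl (M := y31 i) (N := y31 i ^ 2) (by rw [← pow_succ', hY3])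
          refine ⟨Y, by rw [hY, hY3], ?_, target_y31 hd hP hY⟩
          have hsumY := finrank_cyclo hrp (A := y31 i) hY3
          rw [finrank_ker_eq_four.2 (by rw [hcyc, hY0])] at hsumY
          rw [hf, hY]; omega
        · obtain ⟨hY3, hY0, hY1⟩ := y32_facts hi h2
          obtain ⟨Y, hY⟩ := exists_gl (M := y32 i) (N := y32 i ^ 2) (by rw [← pow_succ', hY3])
          refine ⟨Y, by rw [hY, hY3], ?_, target_y32 hd hP hY⟩
          have hsumY := finrank_cyclo hrp (A := y32 i) hY3
          obtain ⟨k', hk'⟩ := natDegree_dvd_finrank_ker hirr (y32 i)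
          rw [hdeg] at hk'
          have h41 : fixDim (y32 i) ≠ 4 := fun h => hY1 (fixDim_eq_four.1 h)
          have h40 : k' ≠ 2 := fun h => by
            rw [h] at hk'
            exact hY0 ((hcyc _).symm.trans (finrank_ker_eq_four.1 hk'))
          rw [hf, hY]; omega
      · have hp5 : p ≠ 5 := by
          rintro rfl
          rw [ZMod.natCast_self, orderOf_zero] at h5
          omega
        have hirr : Irreducible (cyclotomic 5 F) := irreducible_cyclotomic_of_orderOf hF (by rw [h5]) hp5
        refine ⟨hirr, ?_⟩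
        have hdeg : (cyclotomic 5 F).natDegree = 4 := by rw [natDegree_cyclotomic]; decide
        obtain ⟨hY5, hY1⟩ := y5_facts hi h2
        obtain ⟨Y, hY⟩ := exists_gl (M := y5 i) (N := y5 i ^ 4) (by rw [← pow_succ', hY5])
        refine ⟨Y, by rw [hY, hY5], ?_, target_y5 hd hP hY⟩
        have hsumY := finrank_cyclo hrp (A := y5 i) hY5
        obtain ⟨k, hk⟩ := natDegree_dvd_finrank_ker hirr (T : Matrix (Fin 4) (Fin 4) F)
        obtain ⟨k', hk'⟩ := natDegree_dvd_finrank_ker hirr (y5 i)
        rw [hdeg] at hk hk'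
        have h41 : fixDim (y5 i) ≠ 4 := fun h => hY1 (fixDim_eq_four.1 h)
        rw [hY]; omega
    obtain ⟨g, hgd, hg⟩ := exists_det_one_conj hrp hirr hTr hYr hT1 hYf P
    refine ⟨g, mem_specialLinear_of_det hgd, ?_⟩
    have e : g⁻¹ * x * g = t * (P * Y * P⁻¹) := by
      rw [← hg, hxT, ← mul_assoc g⁻¹ t T, ← (hts.commute g⁻¹).eq]
      simp only [mul_assoc]
    rw [e]
    exact scalar_mul_mem_normalizer hd hP hts hYN

end Cfsg.Agent.S6000
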