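import Cfsg.Statements.S6001
import Cfsg.Agent.H73.Pauli.Unitary

set_option autoImplicit false
open scoped MatrixGroups
open Cfsg

namespace Cfsg.Agent.S6001

open Cfsg.Agent.H73.Pauli Polynomial
open Cfsg.Agent.Unitary.Asch (hst hst_mul hst_one hst_smul)

set_option maxHeartbeats 1600000 in
/-- Elements of prime order of PSU_4(p), p ≡ 3 (mod 4), and the normalizer of a 2-group of symplectic type of order 2⁶. Here `T = PSU_4(p)` for a prime `p ≡ 3 (mod 4)`, realised through `SU_4(p)`, the matrices of determinant 1 over the field `F` with `p²` elements preserving the hermitian form `f = Σ uᵢvᵢ^p`; `R` is an absolutely irreducible subgroup of the full unitary group of `f` of order 2⁶ that is a 2-group of symplectic type of exponent 4 with centre of order 4, and `H` is the subgroup of `SU_4(p)` normalizing `R` — a subgroup of type 2⁴.Sp₄(2) (maximality is not assumed). Ω is the set of cosets of `H`, so an element of `T` of prime order `r` (`x ∈ SU_4(p)` with `x^r` scalar, `x` not scalar)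 fixes a point of Ω exactly when some `SU_4(p)`-conjugate of `x` normalizes `R`. Let `r` be a prime dividing the index of `H`. Then every element of `T` of order `r` fixes a point of Ω if and only if `r = 2`, or `r = 3` and `p ≡ 1 (mod 3)`, or `r = 5` and `p ≡ ±2 (mod 5)` (`p` has multiplicative order 4 modulo 5). -/
theorem result {F : Type*} [Field F] [Fintype F] {p : ℕ} [Fact p.Prime] [CharP F p] (hF : Fintype.card F = p ^ 2) (hp4 : p % 4 = 3)
    (R : Subgroup (GL (Fin 4) F)) (hRs : Cfsg.Geo.IsSymplecticTypeGroup 2 R) (hRi : Cfsg.Geo.ActsAbsolutelyIrreducibly (Cfsg.Geo.matrixSet R))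
    (hRU : R ≤ Cfsg.GU 4 F p) (hR6 : Nat.card R = 2 ^ 6) (hRZ : Nat.card (Subgroup.center R) = 4)
    (r : ℕ) [Fact r.Prime]
    (hΩ : r ∣ (Cfsg.Geo.subgroupNormalizer R).relIndex (Cfsg.GU 4 F p ⊓ Cfsg.Geo.specialLinear (Fin 4) F)) :
    (∀ x ∈ Cfsg.GU 4 F p ⊓ Cfsg.Geo.specialLinear (Fin 4) F, (∃ z : F, ((x ^ r : GL (Fin 4) F) : Matrix (Fin 4) (Fin 4) F) = z • (1 : Matrix (Fin 4) (Fin 4) F)) →
      (∀ z : F, (x : Matrix (Fin 4) (Fin 4) F) ≠ z • (1 : Matrix (Fin 4) (Fin 4) F)) →
      ∃ g ∈ Cfsg.GU 4 F p ⊓ Cfsg.Geo.specialLinear (Fin 4) F, g⁻¹ * x * g ∈ Cfsg.Geo.subgroupNormalizer R) ↔ (r = 2 ∨ (r = 3 ∧ p % 3 = 1) ∨ (r = 5 ∧ orderOf (p : ZMod 5) = 4)) := by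
  classical
  have hr0 : r.Prime := Fact.out
  have hp0 : p.Prime := Fact.out
  obtain ⟨i, hd⟩ := exists_pauliData (p := p) (by omega) R hRs hRi hR6 hRZ
  obtain ⟨P, hPU, hP⟩ := exists_unitary_frame hF hd hRU
  have h2 := hd.two
  have hi := hd.i_sq
  have hpow4 : ∀ z : F, z ^ 4 = 1 → z ^ (p + 1) = 1 := by
    intro z hz
    obtain ⟨k, hk⟩ : 4 ∣ p + 1 := by omega
    rw [hk, pow_mul, hz, one_pow]
  have hip : i ^ p = -i := by
    have h := hpow4 i (by linear_combination (i * i - 1) * hi)
    rw [pow_succ] at h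
    linear_combination (-i) * h + i ^ p * hi
  have hdvd : r ∣ Nat.card ↥(Cfsg.GU 4 F p ⊓ Cfsg.Geo.specialLinear (Fin 4) F) :=
    hΩ.trans (Subgroup.relIndex_dvd_card _ _)
  have hdetS : ∀ x ∈ Cfsg.GU 4 F p ⊓ Cfsg.Geo.specialLinear (Fin 4) F, (x : Matrix (Fin 4) (Fin 4) F).det = 1 :=
    fun x hx => det_eq_one_of_mem_specialLinear hx.2
  have hscal : ∀ {x : GL (Fin 4) F}, (∀ z : F, (x : Matrix (Fin 4) (Fin 4) F) ≠ z • 1) ↔ ¬ IsScalar x :=
    fun {x} => ⟨fun h ⟨c, hc⟩ => h c hc, fun h z hz => h ⟨z, hz⟩⟩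
  have hdiagU : ∀ (g : GL (Fin 4) F) (v : Fin 4 → F), (g : Matrix (Fin 4) (Fin 4) F) = Matrix.diagonal v →
      (∀ k, v k ^ (p + 1) = 1) → g ∈ Cfsg.GU 4 F p := by
    intro g v hg hv
    rw [Cfsg.Agent.Unitary.Asch.mem_GU_iff_hst hF, hg]
    have e : hst p (Matrix.diagonal v) = Matrix.diagonal fun k => v k ^ p := by
      ext a b
      rcases eq_or_ne a b with rfl | hab
      · simp [hst]
      · simp [hst, hab, hab.symm, hp0.ne_zero]
    rw [e, Matrix.diagonal_mul_diagonal, ← Matrix.diagonal_one]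
    congr 1
    funext k
    rw [← pow_succ, hv]
  -- elements of Fˣ of prime order
  have hroot : ∀ q : ℕ, q.Prime → q ∣ p + 1 → ∃ w : F, w ^ q = 1 ∧ w ≠ 1 ∧ w ^ (p + 1) = 1 := by
    intro q hq hqp
    haveI := Fact.mk hq
    obtain ⟨u, hu⟩ := exists_prime_orderOf_dvd_card q (show q ∣ Fintype.card Fˣ by
      rw [Fintype.card_units, hF, show p ^ 2 - 1 = (p + 1) * (p - 1) by simpa using Nat.sq_sub_sq p 1]
      exact dvd_mul_of_dvd_left hqp _)
    have hw : (u : F) ^ q = 1 := by rw [← Units.val_pow_eq_pow_val, ← hu, pow_orderOf_eq_one, Units.val_one]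
    refine ⟨u, hw, fun h => ?_, ?_⟩
    · rw [Units.val_eq_one] at h
      rw [h, orderOf_one] at hu
      exact hq.one_lt.ne hu
    · obtain ⟨k, hk⟩ := hqp
      rw [hk, pow_mul, hw, one_pow]
  -- 5 is a square modulo p only for p ≡ ±1 mod 5
  have hrec : p ≠ 5 → (IsSquare (5 : ZMod p) ↔ IsSquare ((p : ℕ) : ZMod 5)) := by
    intro _
    haveI : Fact (Nat.Prime 5) := ⟨Nat.prime_five⟩
    have h := ZMod.exists_sq_eq_prime_iff_of_mod_four_eq_one (p := 5) (q := p) (by decide) (by omega)
    rw [Nat.cast_ofNat] at h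
    exact h.symm
  constructor
  · intro hall
    have hkill : ∀ x : GL (Fin 4) F, x ∈ Cfsg.GU 4 F p → (x : Matrix (Fin 4) (Fin 4) F).det = 1 →
        IsScalar (x ^ r) → ¬ IsScalar x →
        (∀ g, g⁻¹ * x * g ∉ Cfsg.Geo.subgroupNormalizer R) → False := by
      intro x hxU hx hxr hxs hno
      obtain ⟨g, -, hg⟩ := hall x ⟨hxU, mem_specialLinear_of_det hx⟩ hxr (hscal.2 hxs)
      exact hno g hg
    by_contra hcon
    push Not at hcon
    obtain ⟨hr2, hr3, hr5⟩ := hcon
    by_cases h7 : 7 ≤ r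
    · obtain ⟨x, hx, hx1, hxs⟩ := exists_nonscalar_of_dvd hdetS hr2 hdvd
      have hxr : IsScalar (x ^ r) := ⟨1, by rw [hx1, Units.val_one, one_smul]⟩
      exact hkill x hx.1 (hdetS x hx) hxr hxs (no_conj_of_seven_le hd h7 hxr hxs)
    obtain rfl | rfl : r = 3 ∨ r = 5 := by
      have := hr0.two_le
      interval_cases r <;> first | exact Or.inl rfl | exact Or.inr rfl | exact absurd rfl hr2 | (norm_num at hr0)
    · have hc : p % 3 = 0 ∨ p % 3 = 2 := by
        have := hr3 rfl
        omega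
      rcases hc with hc | hc
      · -- p = 3
        have hp3 : p = 3 := ((Nat.prime_dvd_prime_iff_eq Nat.prime_three hp0).1 (Nat.dvd_of_mod_eq_zero hc)).symm
        subst hp3
        have h3 : (3 : F) = 0 := by exact_mod_cast CharP.cast_eq_zero F 3
        set E : Matrix (Fin 4) (Fin 4) F := Matrix.vecMulVec ![1, 1, 1, 0] ![1, 1, 1, 0] with hE
        have hEE : E * E = 0 := by
          ext a b
          fin_cases a <;> fin_cases b <;> simp [hE, Matrix.mul_apply, Fin.sum_univ_four, Matrix.vecMulVec_apply] <;>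
            linear_combination h3
        have hEs : hst 3 E = E := by
          ext a b
          fin_cases a <;> fin_cases b <;> simp [hE, hst, Matrix.vecMulVec_apply]
        obtain ⟨x, hx⟩ := exists_gl (M := 1 + i • E) (N := 1 - i • E) (by
          rw [add_mul, one_mul, mul_sub, mul_one, Matrix.smul_mul, Matrix.mul_smul, hEE, smul_zero, smul_zero]
          abel)
        have hxU : x ∈ Cfsg.GU 4 F 3 := by
          rw [Cfsg.Agent.Unitary.Asch.mem_GU_iff_hst hF, hx, Cfsg.Agent.Unitary.Asch.hst_add hF, hst_one hF,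
            hst_smul, hEs, hip, add_mul, one_mul, mul_add, mul_one, Matrix.smul_mul, Matrix.mul_smul, hEE]
          simp
        have hx3 : (x : Matrix (Fin 4) (Fin 4) F) ^ 3 = 1 := by
          have hM : (1 + i • E) * (1 + i • E) = 1 + (2 : F) • (i • E) := by
            rw [add_mul, one_mul, mul_add, mul_one, Matrix.smul_mul, Matrix.mul_smul, hEE, smul_zero, smul_zero,
              add_zero, two_smul, add_assoc]
          rw [hx, pow_succ, pow_two, hM, add_mul, one_mul, mul_add, mul_one, Matrix.smul_mul, Matrix.smul_mul,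
            Matrix.mul_smul, hEE]
          simp only [smul_zero, add_zero, add_assoc]
          rw [add_eq_left, smul_smul, ← add_smul, show i + 2 * i = 0 by linear_combination i * h3, zero_smul]
        have hxd : (x : Matrix (Fin 4) (Fin 4) F).det = 1 := by
          have h := congrArg Matrix.det hx3
          rw [Matrix.det_pow, Matrix.det_one] at h
          have : ((x : Matrix (Fin 4) (Fin 4) F).det - 1) ^ 3 = 0 := by
            linear_combination h - ((x : Matrix (Fin 4) (Fin 4) F).det ^ 2 - (x : Matrix (Fin 4) (Fin 4) F).det) * h3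
          exact sub_eq_zero.1 (pow_eq_zero_iff (by norm_num) |>.1 this)
        have hx3' : IsScalar (x ^ 3) := ⟨1, by rw [Units.val_pow_eq_pow_val, hx3, one_smul]⟩
        have hxs : ¬ IsScalar x := fun ⟨c, hc⟩ => by
          rw [hx] at hc
          have := congrFun (congrFun hc 0) 1
          simp [hE, Matrix.vecMulVec_apply, hd.i_ne_zero] at this
        refine hkill x hxU hxd hx3' hxs (no_conj_of_rank_one hd (by decide) hx3' hxs 1 ?_)
        rw [hx, one_smul, add_sub_cancel_left, hE, ← Matrix.smul_vecMulVec]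
        exact Matrix.rank_vecMulVec_le _ _
      · obtain ⟨w, hw, hw1, hwp⟩ := hroot 3 Nat.prime_three (by omega)
        obtain ⟨x, hx⟩ := exists_gl (M := Matrix.diagonal ![w, w, w, 1]) (N := Matrix.diagonal ![w ^ 2, w ^ 2, w ^ 2, 1]) (by
          rw [Matrix.diagonal_mul_diagonal, ← Matrix.diagonal_one]
          congr 1; funext k; fin_cases k <;> simp <;> linear_combination hw)
        have hxU : x ∈ Cfsg.GU 4 F p := hdiagU x _ hx (fun k => by fin_cases k <;> simp [hwp])
        have hx3 : IsScalar (x ^ 3) := ⟨1, by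
          rw [Units.val_pow_eq_pow_val, hx, Matrix.diagonal_pow, one_smul, ← Matrix.diagonal_one]
          congr 1; funext k; fin_cases k <;> simp [hw]⟩
        have hxs : ¬ IsScalar x := fun ⟨c, hc⟩ => by
          rw [hx] at hc
          have e0 := congrFun (congrFun hc 0) 0
          have e3 := congrFun (congrFun hc 3) 3
          simp at e0 e3
          exact hw1 (e0.trans e3.symm)
        refine hkill x hxU ?_ hx3 hxs (no_conj_of_rank_one hd (by decide) hx3 hxs w ?_)
        · rw [hx, Matrix.det_diagonal, Fin.prod_univ_four]; simp; linear_combination hw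
        · rw [hx, ← Matrix.diagonal_one, ← Matrix.diagonal_smul, Matrix.diagonal_sub, Matrix.rank_diagonal,
            Fintype.card_subtype]
          refine Finset.card_le_one.2 fun a ha b hb => ?_
          fin_cases a <;> fin_cases b <;> simp at ha hb ⊢
    · have hord := hr5 rfl
      have hp5 : p ≠ 5 := by omega
      have hc : p % 5 = 1 ∨ p % 5 = 4 := by
        by_contra hne
        refine hord ?_
        have h0 : p % 5 ≠ 0 := fun h => hp5 ((Nat.prime_dvd_prime_iff_eq Nat.prime_five hp0).1 (Nat.dvd_of_mod_eq_zero h)).symm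
        have h23 : p % 5 = 2 ∨ p % 5 = 3 := by omega
        rcases h23 with h | h <;> rw [← ZMod.natCast_mod p 5, h]
        exacts [orderOf_two_three_mod_five.1, orderOf_two_three_mod_five.2]
      rcases hc with hc | hc
      · obtain ⟨t0, ht0⟩ := (hrec hp5).2 ⟨1, by rw [← ZMod.natCast_mod p 5, hc]; rfl⟩
        set φ := ZMod.castHom (dvd_refl p) F
        have ht5 : φ t0 * φ t0 = 5 := by rw [← map_mul, ← ht0, map_ofNat]
        have htp : φ t0 ^ p = φ t0 := by rw [← map_pow, ZMod.pow_card]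
        obtain ⟨a, hae, hap⟩ : ∃ a : F, 4 * a * a + 2 * a - 1 = 0 ∧ a ^ p = a := by
          refine ⟨(φ t0 - 1) / 4, ?_, ?_⟩
          · have h4 : (4 : F) ≠ 0 := by rw [show (4 : F) = 2 * 2 by norm_num]; exact mul_ne_zero h2 h2
            field_simp
            linear_combination ht5
          · rw [div_pow, Cfsg.Agent.Unitary.sub_pow_q hF, htp, one_pow]
            congr 1
            simpa using Cfsg.Agent.Unitary.natCast_pow_q hF 4
        obtain ⟨b, hb⟩ := Cfsg.Agent.Unitary.exists_norm_eq hF (a := 1 - a * a) (by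
          rw [Cfsg.Agent.Unitary.sub_pow_q hF, one_pow, mul_pow, hap])
        have h5F : (5 : F) ≠ 0 := fun h =>
          hp5 ((Nat.prime_dvd_prime_iff_eq hp0 Nat.prime_five).1 ((CharP.cast_eq_zero_iff F p 5).1 (by exact_mod_cast h)))
        obtain ⟨x, hx⟩ := exists_gl (M := !![a, -b, 0, 0; b ^ p, a, 0, 0; 0, 0, 1, 0; 0, 0, 0, 1])
          (N := !![a, b, 0, 0; -b ^ p, a, 0, 0; 0, 0, 1, 0; 0, 0, 0, 1]) (by
          ext k l; fin_cases k <;> fin_cases l <;> simp [Matrix.mul_apply, Fin.sum_univ_four] <;> grind)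
        have hxU : x ∈ Cfsg.GU 4 F p := by
          rw [Cfsg.Agent.Unitary.Asch.mem_GU_iff_hst hF, hx]
          ext k l
          fin_cases k <;> fin_cases l <;>
            simp [Matrix.mul_apply, Fin.sum_univ_four, hst, hap, hp0.ne_zero, Cfsg.Agent.Unitary.neg_pow_q hF,
              Cfsg.Agent.Unitary.pow_q_q hF] <;> grind
        have hsq : (x : Matrix (Fin 4) (Fin 4) F) ^ 2 =
            !![2 * a * a - 1, -(2 * a * b), 0, 0; 2 * a * b ^ p, 2 * a * a - 1, 0, 0; 0, 0, 1, 0; 0, 0, 0, 1] := by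
          rw [pow_two, hx]; ext k l
          fin_cases k <;> fin_cases l <;> simp [Matrix.mul_apply, Fin.sum_univ_four] <;> grind
        have hx5 : IsScalar (x ^ 5) := ⟨1, by
          rw [Units.val_pow_eq_pow_val, pow_succ, show (x : Matrix (Fin 4) (Fin 4) F) ^ 4 = (x : Matrix (Fin 4) (Fin 4) F) ^ 2 * (x : Matrix (Fin 4) (Fin 4) F) ^ 2 by rw [← pow_add],
            hsq, hx, one_smul]
          ext k l
          fin_cases k <;> fin_cases l <;> simp [Matrix.mul_apply, Fin.sum_univ_four] <;> grind⟩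
        have ha1 : a ≠ 1 := fun h => h5F (by rw [h] at hae; linear_combination hae)
        have hxs : ¬ IsScalar x := fun ⟨c, hc⟩ => by
          rw [hx] at hc
          have e0 := congrFun (congrFun hc 0) 0
          have e2 := congrFun (congrFun hc 2) 2
          simp at e0 e2
          exact ha1 (e0.trans e2.symm)
        refine hkill x hxU ?_ hx5 hxs (no_conj_of_trace hd hx5 hxs ?_)
        · rw [hx, Matrix.det_succ_row_zero]
          simp [Fin.sum_univ_succ, Matrix.det_fin_three, Fin.succAbove]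
          linear_combination hb
        · have e : ((x⁻¹ : GL (Fin 4) F) : Matrix (Fin 4) (Fin 4) F) =
              !![a, b, 0, 0; -b ^ p, a, 0, 0; 0, 0, 1, 0; 0, 0, 0, 1] := by
            refine (left_inv_eq_right_inv (a := (x : Matrix (Fin 4) (Fin 4) F)) (Units.inv_mul x) ?_)
            rw [hx]
            ext k l; fin_cases k <;> fin_cases l <;> simp [Matrix.mul_apply, Fin.sum_univ_four] <;> grind
          rw [e, hx]
          simp [Matrix.trace, Fin.sum_univ_four]
          intro h
          exact h5F (by grind)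
      · obtain ⟨w, hw, hw1, hwp⟩ := hroot 5 Nat.prime_five (by omega)
        obtain ⟨x, hx⟩ := exists_gl (M := Matrix.diagonal ![w, w, w, w ^ 2])
          (N := Matrix.diagonal ![w ^ 4, w ^ 4, w ^ 4, w ^ 3]) (by
          rw [Matrix.diagonal_mul_diagonal, ← Matrix.diagonal_one]
          congr 1; funext k; fin_cases k <;> simp <;> linear_combination hw)
        have hwp2 : (w ^ 2) ^ (p + 1) = 1 := by rw [← pow_mul, mul_comm, pow_mul, hwp, one_pow]
        have hxU : x ∈ Cfsg.GU 4 F p := hdiagU x _ hx (fun k => by fin_cases k <;> simp [hwp, hwp2])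
        have hx5 : IsScalar (x ^ 5) := ⟨1, by
          rw [Units.val_pow_eq_pow_val, hx, Matrix.diagonal_pow, one_smul, ← Matrix.diagonal_one]
          congr 1; funext k; fin_cases k <;> simp [hw, ← pow_mul, show w ^ 10 = 1 by rw [show 10 = 5 * 2 from rfl, pow_mul, hw, one_pow]]⟩
        have hxs : ¬ IsScalar x := fun ⟨c, hc⟩ => by
          rw [hx] at hc
          have e0 := congrFun (congrFun hc 0) 0
          have e3 := congrFun (congrFun hc 3) 3
          simp at e0 e3
          exact hw1 (mul_left_cancel₀ (fun h0 : w = 0 => by simp [h0] at hw) (by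
            rw [mul_one, ← pow_two]; exact e3.trans e0.symm))
        refine hkill x hxU ?_ hx5 hxs (no_conj_of_rank_one hd (by decide) hx5 hxs w ?_)
        · rw [hx, Matrix.det_diagonal, Fin.prod_univ_four]; simp; linear_combination hw
        · rw [hx, ← Matrix.diagonal_one, ← Matrix.diagonal_smul, Matrix.diagonal_sub, Matrix.rank_diagonal,
            Fintype.card_subtype]
          refine Finset.card_le_one.2 fun a ha b hb => ?_
          fin_cases a <;> fin_cases b <;> simp at ha hb ⊢
  · rintro hr x hx ⟨z, hz⟩ hxs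
    rw [hscal] at hxs
    have hxd := hdetS x hx
    have hxU : x ∈ Cfsg.GU 4 F p := hx.1
    have hz4 : z ^ 4 = 1 := by
      have := congrArg Matrix.det hz
      rw [Units.val_pow_eq_pow_val, Matrix.det_pow, hxd, one_pow, Matrix.det_smul, Matrix.det_one, mul_one,
        Fintype.card_fin] at this
      exact this.symm
    have hz0 : z ≠ 0 := by rintro rfl; simp at hz4
    have hrp : (r : F) ≠ 0 := by
      intro h
      have h' := (Nat.prime_dvd_prime_iff_eq hp0 hr0).1 ((CharP.cast_eq_zero_iff F p r).1 h)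
      rcases hr with rfl | ⟨rfl, h3⟩ | ⟨rfl, h5⟩
      · omega
      · omega
      · subst h'
        rw [ZMod.natCast_self, orderOf_zero] at h5
        omega
    obtain ⟨c, hc0, hcr, hc4⟩ : ∃ c : F, c ≠ 0 ∧ c ^ r = z ∧ (r ≠ 2 → c ^ 4 = 1) := by
      rcases hr with rfl | ⟨rfl, -⟩ | ⟨rfl, -⟩
      · have hchar : ringChar F ≠ 2 := by rw [ringChar.eq F p]; omega
        obtain ⟨c, hc⟩ : IsSquare z := by
          rw [FiniteField.isSquare_iff hchar hz0, hF]
          obtain ⟨j, rfl⟩ : ∃ j, p = 4 * j + 3 := ⟨p / 4, by omega⟩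
          rw [show (4 * j + 3) ^ 2 / 2 = 4 * (2 * j * j + 3 * j + 1) by
            rw [show (4 * j + 3) ^ 2 = 1 + 2 * (4 * (2 * j * j + 3 * j + 1)) by ring, Nat.add_mul_div_left _ _ two_pos]
            simp, pow_mul, hz4, one_pow]
        exact ⟨c, fun h => hz0 (by rw [hc, h, mul_zero]), by rw [hc, pow_two], fun h => absurd rfl h⟩
      · exact ⟨z ^ 3, pow_ne_zero _ hz0, by
          rw [← pow_mul, show 3 * 3 = 4 + 4 + 1 from rfl, pow_add, pow_add, hz4, one_mul, one_mul, pow_one],
          fun _ => by rw [← pow_mul, mul_comm, pow_mul, hz4, one_pow]⟩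
      · exact ⟨z, hz0, by rw [show 5 = 4 + 1 from rfl, pow_succ, hz4, one_mul], fun _ => hz4⟩
    obtain ⟨t, ht⟩ := exists_scalar hc0
    have hts : IsScalar t := ⟨c, ht⟩
    set T := t⁻¹ * x with hTdef
    have hxT : x = t * T := by rw [hTdef, mul_inv_cancel_left]
    have hTr : (T : Matrix (Fin 4) (Fin 4) F) ^ r = 1 := by
      have h1 : x ^ r = t ^ r * T ^ r := by rw [hxT, (hts.commute T).mul_pow]
      have h2 : x ^ r = t ^ r := Units.ext (by
        rw [hz, Units.val_pow_eq_pow_val, ht, _root_.smul_pow, one_pow, hcr])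
      rw [h2] at h1
      rw [← Units.val_pow_eq_pow_val, mul_eq_left.1 h1.symm, Units.val_one]
    have hT1 : (T : Matrix (Fin 4) (Fin 4) F) ≠ 1 := fun h =>
      hxs ⟨c, by rw [hxT, Units.val_mul, h, mul_one, ht]⟩
    have hTm : (T : Matrix (Fin 4) (Fin 4) F) ≠ -1 := fun h =>
      hxs ⟨-c, by rw [hxT, Units.val_mul, h, mul_neg, mul_one, ht, neg_smul]⟩
    have hf4 : fixDim (T : Matrix (Fin 4) (Fin 4) F) ≠ 4 := fun h => hT1 (fixDim_eq_four.1 h)
    have hhstT : c ^ (p + 1) • (hst p (T : Matrix (Fin 4) (Fin 4) F) * (T : Matrix (Fin 4) (Fin 4) F)) = 1 := by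
      have h := hst_eq_one hF hxU
      rwa [hxT, Units.val_mul, ht, Matrix.smul_mul, one_mul, hst_smul, Matrix.smul_mul, Matrix.mul_smul, smul_smul,
        ← pow_succ] at h
    have finish : c ^ (p + 1) = 1 → ∀ Y : GL (Fin 4) F, Y ∈ Cfsg.GU 4 F p →
        Sim (Matrix.toLin' (T : Matrix (Fin 4) (Fin 4) F)) (Matrix.toLin' (Y : Matrix (Fin 4) (Fin 4) F)) →
        (∀ d : F, d ^ (p + 1) = 1 → ∃ C ∈ Cfsg.GU 4 F p, Commute C Y ∧ (C : Matrix (Fin 4) (Fin 4) F).det = d) →
        P * Y * P⁻¹ ∈ Cfsg.Geo.subgroupNormalizer R →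
        ∃ g ∈ Cfsg.GU 4 F p ⊓ Cfsg.Geo.specialLinear (Fin 4) F, g⁻¹ * x * g ∈ Cfsg.Geo.subgroupNormalizer R := by
      intro hcn Y hY hs hfull hN
      rw [hcn, one_smul] at hhstT
      obtain ⟨g, hgU, hgd, hg⟩ := exists_SU_conj hF ((Cfsg.Agent.Unitary.Asch.mem_GU_iff_hst hF).2 hhstT) hY hPU hs hfull
      refine ⟨g, ⟨hgU, mem_specialLinear_of_det hgd⟩, ?_⟩
      have e : g⁻¹ * x * g = t * (P * Y * P⁻¹) := by
        rw [← hg, hxT, ← mul_assoc g⁻¹ t T, ← (hts.commute g⁻¹).eq]
        simp only [mul_assoc]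
      rw [e]
      exact scalar_mul_mem_normalizer hd hP hts hN
    rcases hr with rfl | ⟨rfl, h3⟩ | ⟨rfl, h5⟩
    · -- involutions
      have hirr : Irreducible (cyclotomic 2 F) := by
        rw [cyclotomic_two]
        simpa [sub_neg_eq_add] using Polynomial.irreducible_X_sub_C (-1 : F)
      have hsum := finrank_cyclo hrp hTr
      have hf0 : fixDim (T : Matrix (Fin 4) (Fin 4) F) ≠ 0 := fun h => by
        rw [h, add_zero, finrank_ker_eq_four, cyclotomic_two, map_add, aeval_X, map_one] at hsum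
        exact hTm (eq_neg_of_add_eq_zero_left hsum)
      have hsimY : ∀ Y : GL (Fin 4) F, (Y : Matrix (Fin 4) (Fin 4) F) ^ 2 = 1 →
          fixDim (T : Matrix (Fin 4) (Fin 4) F) = fixDim (Y : Matrix (Fin 4) (Fin 4) F) →
          Sim (Matrix.toLin' (T : Matrix (Fin 4) (Fin 4) F)) (Matrix.toLin' (Y : Matrix (Fin 4) (Fin 4) F)) := by
        intro Y hY2 hf
        refine sim_two hirr (Polynomial.irreducible_X_sub_C (1 : F)) (cyclo_coprime hrp) _ _
          (aeval_pow_sub_one hTr) (aeval_pow_sub_one hY2) ?_ hf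
        have := finrank_cyclo hrp hY2
        omega
      obtain ⟨Y, v, hYv, hY2, hf, hYN, hYt⟩ : ∃ (Y : GL (Fin 4) F) (v : Fin 4 → F),
          (Y : Matrix (Fin 4) (Fin 4) F) = Matrix.diagonal v ∧ (Y : Matrix (Fin 4) (Fin 4) F) ^ 2 = 1 ∧
          fixDim (T : Matrix (Fin 4) (Fin 4) F) = fixDim (Y : Matrix (Fin 4) (Fin 4) F) ∧
          P * Y * P⁻¹ ∈ Cfsg.Geo.subgroupNormalizer R ∧
          ((Y : Matrix (Fin 4) (Fin 4) F) = sB2 ∨ (Y : Matrix (Fin 4) (Fin 4) F) = cz ∨
            (Y : Matrix (Fin 4) (Fin 4) F) = -cz) := by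
        have hfc := fixDim_cz h2
        have := fixDim_le (T : Matrix (Fin 4) (Fin 4) F)
        obtain hf | hf | hf : fixDim (T : Matrix (Fin 4) (Fin 4) F) = 1 ∨ fixDim (T : Matrix (Fin 4) (Fin 4) F) = 2 ∨
            fixDim (T : Matrix (Fin 4) (Fin 4) F) = 3 := by omega
        · obtain ⟨Y, hY⟩ := exists_gl (M := (-cz : Matrix (Fin 4) (Fin 4) F)) (N := -cz)
            (by rw [neg_mul_neg, ← pow_two, cz_pow])
          exact ⟨Y, ![-1, -1, -1, 1], by rw [hY]; ext a b; fin_cases a <;> fin_cases b <;> simp [cz],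
            by rw [hY, neg_sq, cz_pow], by rw [hf, hY, hfc.2], target_cz hd hP (Or.inr hY), Or.inr (Or.inr hY)⟩
        · obtain ⟨Y, hY⟩ := exists_gl (M := (sB2 : Matrix (Fin 4) (Fin 4) F)) (N := sB2)
            (by rw [← pow_two, sB2_pow])
          exact ⟨Y, ![1, 1, -1, -1], by rw [hY]; ext a b; fin_cases a <;> fin_cases b <;> simp [sB2],
            by rw [hY, sB2_pow], by rw [hf, hY, fixDim_sB2 h2], target_sB2 hd hP hY, Or.inl hY⟩
        · obtain ⟨Y, hY⟩ := exists_gl (M := (cz : Matrix (Fin 4) (Fin 4) F)) (N := cz)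
            (by rw [← pow_two, cz_pow])
          exact ⟨Y, ![1, 1, 1, -1], by rw [hY]; ext a b; fin_cases a <;> fin_cases b <;> simp [cz],
            by rw [hY, cz_pow], by rw [hf, hY, hfc.1], target_cz hd hP (Or.inl hY), Or.inr (Or.inl hY)⟩
      have hs := hsimY Y hY2 hf
      have hzn := hpow4 z hz4
      rw [← hcr, ← pow_mul, mul_comm, pow_mul, pow_two] at hzn
      rcases mul_self_eq_one_iff.1 hzn with hcn | hcn
      · refine finish hcn Y (targets_GU hF hi hip h2 (by tauto)) hs (fun d hd' => ?_) hYN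
        have hd0 : d ≠ 0 := fun h => by rw [h, zero_pow (by omega)] at hd'; exact zero_ne_one hd'
        obtain ⟨C', hC'⟩ := exists_gl (M := Matrix.diagonal ![d, 1, 1, 1]) (N := Matrix.diagonal ![d⁻¹, 1, 1, 1]) (by
          rw [Matrix.diagonal_mul_diagonal, ← Matrix.diagonal_one]
          congr 1; funext k; fin_cases k <;> simp [hd0])
        refine ⟨C', hdiagU C' _ hC' (fun k => by fin_cases k <;> simp [hd']), Units.ext ?_, ?_⟩
        · rw [Units.val_mul, Units.val_mul, hC', hYv, Matrix.diagonal_mul_diagonal, Matrix.diagonal_mul_diagonal]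
          congr 1; funext k; exact mul_comm _ _
        · rw [hC', Matrix.det_diagonal, Fin.prod_univ_four]; simp
      · exfalso
        have hne : (-1 : F) ≠ 1 := fun h => h2 (by linear_combination -h)
        have hz2 : z * z = -1 := by
          have h4 : (z * z) * (z * z) = 1 := by linear_combination hz4
          refine (mul_self_eq_one_iff.1 h4).resolve_left fun h1 => hne ?_
          rw [← hcn]
          refine hpow4 c ?_
          rw [show 4 = 2 * 2 from rfl, pow_mul, hcr, pow_two, h1]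
        rw [hcn, neg_smul, one_smul, neg_eq_iff_eq_neg] at hhstT
        have hneg : hst p (T : Matrix (Fin 4) (Fin 4) F) = -(T : Matrix (Fin 4) (Fin 4) F) := by
          have h := congrArg (fun M => M * (T : Matrix (Fin 4) (Fin 4) F)) hhstT
          rwa [mul_assoc, ← pow_two, hTr, mul_one, neg_mul, one_mul] at h
        obtain ⟨g1, hg1⟩ := exists_conj_of_sim hs
        have htrT : (Y : Matrix (Fin 4) (Fin 4) F).trace = (T : Matrix (Fin 4) (Fin 4) F).trace := by
          rw [← hg1, Units.val_mul, Units.val_mul, Matrix.trace_units_conj']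
        have hdetT : (Y : Matrix (Fin 4) (Fin 4) F).det = (T : Matrix (Fin 4) (Fin 4) F).det := by
          rw [← hg1, Units.val_mul, Units.val_mul, Matrix.det_units_conj']
        have htr : (T : Matrix (Fin 4) (Fin 4) F).trace ^ p = -(T : Matrix (Fin 4) (Fin 4) F).trace := by
          have h := congrArg Matrix.trace hneg
          rw [Matrix.trace_neg, Cfsg.Agent.Unitary.Asch.hst_eq hF, Matrix.trace_transpose] at h
          rw [← h]
          exact (AddMonoidHom.map_trace (Cfsg.Agent.Unitary.frob hF).toRingHom.toAddMonoidHom _)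
        have hdt : (T : Matrix (Fin 4) (Fin 4) F).det = -1 := by
          have h := hxd
          rw [hxT, Units.val_mul, Matrix.det_mul, ht, Matrix.det_smul, Matrix.det_one, mul_one, Fintype.card_fin,
            show c ^ 4 = (c ^ 2) ^ 2 by rw [← pow_mul], hcr, pow_two, hz2] at h
          linear_combination -h
        rw [← hdetT] at hdt
        rw [← htrT] at htr
        have h2p : (2 : F) ^ p = 2 := by simpa using Cfsg.Agent.Unitary.natCast_pow_q hF 2
        have h4 : (4 : F) ≠ 0 := by rw [show (4 : F) = 2 * 2 by norm_num]; exact mul_ne_zero h2 h2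
        rcases hYt with e | e | e <;> rw [e] at hdt htr
        · rw [Matrix.det_succ_row_zero] at hdt
          simp [sB2, Fin.sum_univ_succ, Matrix.det_fin_three, Fin.succAbove] at hdt
          exact hne hdt.symm
        · rw [show (cz : Matrix (Fin 4) (Fin 4) F).trace = 2 by simp [cz, Matrix.trace, Fin.sum_univ_four]; ring, h2p] at htr
          exact h4 (by linear_combination htr)
        · rw [show (-cz : Matrix (Fin 4) (Fin 4) F).trace = -2 by simp [cz, Matrix.trace, Fin.sum_univ_four]; ring,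
            Cfsg.Agent.Unitary.neg_pow_q hF, h2p] at htr
          exact h4 (by linear_combination -htr)
    · have hcn : c ^ (p + 1) = 1 := hpow4 c (hc4 (by norm_num))
      have hTU : T ∈ Cfsg.GU 4 F p := by
        rw [hcn, one_smul] at hhstT
        exact (Cfsg.Agent.Unitary.Asch.mem_GU_iff_hst hF).2 hhstT
      -- cube roots of unity lie in the prime field
      obtain ⟨w, hw, hw1, hwp⟩ : ∃ w : F, w ^ 3 = 1 ∧ w ≠ 1 ∧ w ^ p = w := by
        haveI : Fact (Nat.Prime 3) := ⟨Nat.prime_three⟩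
        obtain ⟨u, hu⟩ := exists_prime_orderOf_dvd_card 3 (show 3 ∣ Fintype.card Fˣ by
          rw [Fintype.card_units, hF, show p ^ 2 - 1 = (p + 1) * (p - 1) by simpa using Nat.sq_sub_sq p 1]
          exact dvd_mul_of_dvd_right (by omega) _)
        have hw : (u : F) ^ 3 = 1 := by rw [← Units.val_pow_eq_pow_val, ← hu, pow_orderOf_eq_one, Units.val_one]
        refine ⟨u, hw, fun h => ?_, ?_⟩
        · rw [Units.val_eq_one] at h
          rw [h, orderOf_one] at hu
          omega
        · obtain ⟨k, hk⟩ : ∃ k, p = 3 * k + 1 := ⟨p / 3, by omega⟩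
          rw [hk, pow_succ, pow_mul, hw, one_pow, one_mul]
      obtain ⟨S⟩ := exists_splitting_three hF hw hw1 hwp
      have hcyc : ∀ M : Matrix (Fin 4) (Fin 4) F, aeval M (cyclotomic 3 F) = M ^ 2 + M + 1 := fun M => by
        rw [cyclotomic_three, map_add, map_add, map_pow, aeval_X, map_one]
      have hdT := S.dims hF hrp hTU hTr
      obtain ⟨Y, hYU, hYr, hY1, hf, hYN⟩ : ∃ Y : GL (Fin 4) F, Y ∈ Cfsg.GU 4 F p ∧
          (Y : Matrix (Fin 4) (Fin 4) F) ^ 3 = 1 ∧ (Y : Matrix (Fin 4) (Fin 4) F) ≠ 1 ∧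
          fixDim (T : Matrix (Fin 4) (Fin 4) F) = fixDim (Y : Matrix (Fin 4) (Fin 4) F) ∧
          P * Y * P⁻¹ ∈ Cfsg.Geo.subgroupNormalizer R := by
        obtain hf | hf : fixDim (T : Matrix (Fin 4) (Fin 4) F) = 0 ∨ fixDim (T : Matrix (Fin 4) (Fin 4) F) = 2 := by
          omega
        · obtain ⟨hY3, hY0⟩ := y31_facts hi h2
          obtain ⟨Y, hY⟩ := exists_gl (M := y31 i) (N := y31 i ^ 2) (by rw [← pow_succ', hY3])
          have hsumY := finrank_cyclo hrp (A := y31 i) hY3
          rw [finrank_ker_eq_four.2 (by rw [hcyc, hY0])] at hsumY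
          have hfY : fixDim (y31 i) = 0 := by omega
          exact ⟨Y, targets_GU hF hi hip h2 (by tauto), by rw [hY, hY3], by
            rw [hY]; intro h; rw [fixDim_eq_four.2 h] at hfY; omega, by rw [hf, hY, hfY], target_y31 hd hP hY⟩
        · obtain ⟨hY3, hY0, hY1⟩ := y32_facts hi h2
          obtain ⟨Y, hY⟩ := exists_gl (M := y32 i) (N := y32 i ^ 2) (by rw [← pow_succ', hY3])
          have hYU : Y ∈ Cfsg.GU 4 F p := targets_GU hF hi hip h2 (by tauto)
          have hdY := S.dims hF hrp hYU (by rw [hY, hY3])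
          rw [hY] at hdY
          have h41 : fixDim (y32 i) ≠ 4 := fun h => hY1 (fixDim_eq_four.1 h)
          have h40 : fixDim (y32 i) ≠ 0 := fun h => by
            have hsumY := finrank_cyclo hrp (A := y32 i) hY3
            rw [h, add_zero, finrank_ker_eq_four, hcyc] at hsumY
            exact hY0 hsumY
          exact ⟨Y, hYU, by rw [hY, hY3], by rw [hY]; exact hY1, by rw [hf, hY]; omega, target_y32 hd hP hY⟩
      exact finish hcn Y hYU (S.conj hF hrp hTU hTr hYU hYr hf)
        (fun d hd' => S.full_det hF hrp hi hip hYU hYr hY1 hd') hYN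
    · have hcn : c ^ (p + 1) = 1 := hpow4 c (hc4 (by norm_num))
      have hTU : T ∈ Cfsg.GU 4 F p := by
        rw [hcn, one_smul] at hhstT
        exact (Cfsg.Agent.Unitary.Asch.mem_GU_iff_hst hF).2 hhstT
      haveI : Fact (Nat.Prime 5) := ⟨Nat.prime_five⟩
      have hp5 : p ≠ 5 := by omega
      have hp23 : p % 5 = 2 ∨ p % 5 = 3 := by
        have h0 : p % 5 ≠ 0 := fun h => hp5 ((Nat.prime_dvd_prime_iff_eq Nat.prime_five hp0).1 (Nat.dvd_of_mod_eq_zero h)).symm
        rw [← ZMod.natCast_mod p 5] at h5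
        have h4lt : p % 5 < 5 := Nat.mod_lt _ (by norm_num)
        rcases (show p % 5 = 1 ∨ p % 5 = 2 ∨ p % 5 = 3 ∨ p % 5 = 4 by omega) with h | h | h | h
        · rw [h, Nat.cast_one, orderOf_one] at h5; omega
        · exact Or.inl h
        · exact Or.inr h
        · rw [h] at h5
          have := orderOf_le_of_pow_eq_one (x := ((4 : ℕ) : ZMod 5)) (n := 2) (by norm_num) (by rfl)
          omega
      have hnsq : ¬ IsSquare (5 : ZMod p) := by
        rw [hrec hp5, ← ZMod.natCast_mod p 5]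
        rcases hp23 with h | h <;> rw [h]
        · rintro ⟨u, hu⟩; revert hu; revert u; decide
        · rintro ⟨u, hu⟩; revert hu; revert u; decide
      have hno : ∀ v : F, v ^ 5 = 1 → v = 1 := by
        intro v hv
        have hv0 : v ≠ 0 := fun h => by rw [h] at hv; simp at hv
        have h1 : v ^ (p ^ 2 - 1) = 1 := by rw [← hF]; exact FiniteField.pow_card_sub_one_eq_one v hv0
        have hg : Nat.gcd 5 (p ^ 2 - 1) = 1 := by
          refine (Nat.prime_five.coprime_iff_not_dvd).2 fun h => ?_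
          rw [show p ^ 2 - 1 = (p + 1) * (p - 1) by simpa using Nat.sq_sub_sq p 1] at h
          rcases Nat.prime_five.dvd_mul.1 h with h | h <;> omega
        rw [← pow_one v, ← hg]
        exact pow_gcd_eq_one.2 ⟨hv, h1⟩
      obtain ⟨t5, ht5⟩ : IsSquare (5 : F) := isSquare_of_fixed hF (by omega)
        (by simpa using Cfsg.Agent.Unitary.natCast_pow_q hF 5)
      have ha : (1 + t5) / 2 * ((1 + t5) / 2) - (1 + t5) / 2 - 1 = 0 := by
        field_simp
        linear_combination -ht5
      have h5F : (5 : F) ≠ 0 := fun h =>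
        hp5 ((Nat.prime_dvd_prime_iff_eq hp0 Nat.prime_five).1 ((CharP.cast_eq_zero_iff F p 5).1 (by exact_mod_cast h)))
      have hap : ((1 + t5) / 2) ^ p = 1 - (1 + t5) / 2 := by
        have htp : t5 ^ p = t5 ∨ t5 ^ p = -t5 := by
          refine mul_self_eq_mul_self_iff.1 ?_
          rw [← mul_pow, ← ht5]
          simpa using Cfsg.Agent.Unitary.natCast_pow_q hF 5
        rw [div_pow, Cfsg.Agent.Unitary.add_pow_q hF, one_pow,
          show (2 : F) ^ p = 2 by simpa using Cfsg.Agent.Unitary.natCast_pow_q hF 2]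
        rcases htp with e | e
        · exfalso
          refine hnsq ?_
          have h5z : (5 : ZMod p) ≠ 0 := fun h => h5F (by
            have := congrArg (ZMod.castHom (dvd_refl p) F) h
            rwa [map_ofNat, map_zero] at this)
          refine (ZMod.euler_criterion p h5z).2 ((ZMod.castHom (dvd_refl p) F).injective ?_)
          rw [map_pow, map_ofNat, map_one, ht5, ← pow_two, ← pow_mul]
          have ht50 : t5 ≠ 0 := fun h => h5F (by rw [ht5, h, mul_zero])
          rw [show 2 * (p / 2) = p - 1 by omega]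
          exact Cfsg.Agent.Unitary.pow_sub_one_eq_one hF ht50 e
        · rw [e]; field_simp; ring
      obtain ⟨S, hSdeg⟩ := exists_splitting_five hF ha hap h5F hno
      obtain ⟨hY5, hY1⟩ := y5_facts hi h2
      obtain ⟨Y, hY⟩ := exists_gl (M := y5 i) (N := y5 i ^ 4) (by rw [← pow_succ', hY5])
      have hYU : Y ∈ Cfsg.GU 4 F p := targets_GU hF hi hip h2 (by tauto)
      have hYr : (Y : Matrix (Fin 4) (Fin 4) F) ^ 5 = 1 := by rw [hY, hY5]
      have hY1' : (Y : Matrix (Fin 4) (Fin 4) F) ≠ 1 := by rw [hY]; exact hY1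
      have hY4 : fixDim (Y : Matrix (Fin 4) (Fin 4) F) ≠ 4 := fun h => hY1' (fixDim_eq_four.1 h)
      have hdT := S.dims hF hrp hTU hTr
      have hdY := S.dims hF hrp hYU hYr
      obtain ⟨k, hk⟩ := natDegree_dvd_finrank_ker S.irr (T : Matrix (Fin 4) (Fin 4) F)
      obtain ⟨k', hk'⟩ := natDegree_dvd_finrank_ker S.irr (Y : Matrix (Fin 4) (Fin 4) F)
      rw [hSdeg] at hk hk'
      exact finish hcn Y hYU (S.conj hF hrp hTU hTr hYU hYr (by omega))
        (fun d hd' => S.full_det hF hrp hi hip hYU hYr hY1' hd') (target_y5 hd hP hY)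

end Cfsg.Agent.S6001
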