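import Cfsg.Statements.S6002
import Cfsg.Agent.H98.Extraspecial.Build
import Cfsg.Agent.H98.Extraspecial.Five
import Cfsg.Agent.H98.PrimeElem.Basic
import Cfsg.Agent.H98.PrimeElem.Elements
import Cfsg.Agent.S5980
-- import your own Cfsg.Agent.* helpers here

set_option autoImplicit false
open scoped MatrixGroups
open Cfsg

namespace Cfsg.Agent.S6002

open Matrix Cfsg.Agent.Symplectic Cfsg.Agent.H98

variable {F : Type*} [Field F]

local notation "GL4" => GL (Fin 2 ⊕ Fin 2) F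
local notation "M4" => Matrix (Fin 2 ⊕ Fin 2) (Fin 2 ⊕ Fin 2) F

/-- Two non-scalar involutions of Sp_4 are conjugate to one diagonal matrix. -/
theorem exists_diag_two (h2 : (2 : F) ≠ 0) (X : Matrix (Fin 2 ⊕ Fin 2) (Fin 2 ⊕ Fin 2) F)
    (hXX : ∀ u, X *ᵥ (X *ᵥ u) = u)
    (hadj : ∀ u v, Cfsg.sympForm 2 F (X *ᵥ u) v = Cfsg.sympForm 2 F u (X *ᵥ v))
    (hns : ∀ z : F, X ≠ z • 1) :
    ∃ g ∈ Cfsg.spGL 2 F, X * (g : Matrix (Fin 2 ⊕ Fin 2) (Fin 2 ⊕ Fin 2) F) =
      (g : Matrix (Fin 2 ⊕ Fin 2) (Fin 2 ⊕ Fin 2) F) * Matrix.diagonal (Sum.elim ![(1 : F), -1] ![1, -1]) := by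
  classical
  obtain ⟨g, hg, hg'⟩ := S5980.exists_sign_basis h2 X hXX hadj
  choose ε hε hev hew using hg'
  have hXg : X * (g : Matrix _ _ F) = (g : Matrix _ _ F) * Matrix.diagonal (Sum.elim ε ε) := by
    refine Matrix.ext_of_mulVec_single fun s => ?_
    have hd : Matrix.diagonal (Sum.elim ε ε) *ᵥ Pi.single s 1 = (Sum.elim ε ε s) • (Pi.single s 1 : _ → F) := by
      funext t
      rcases eq_or_ne t s with rfl | h
      · simp [Matrix.mulVec_diagonal]
      · simp [Matrix.mulVec_diagonal, h]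
    rw [← Matrix.mulVec_mulVec, ← Matrix.mulVec_mulVec, hd, Matrix.mulVec_smul]
    rcases s with i | i
    · exact hew i
    · exact hev i
  have hne : ε 0 ≠ ε 1 := by
    intro h
    refine hns (ε 0) ?_
    have hd : Matrix.diagonal (Sum.elim ε ε) = ε 0 • (1 : Matrix (Fin 2 ⊕ Fin 2) (Fin 2 ⊕ Fin 2) F) := by
      rw [Matrix.smul_one_eq_diagonal]
      congr 1
      funext t
      rcases t with i | i <;> fin_cases i <;> simp [h]
    rw [hd, Matrix.mul_smul, Matrix.mul_one] at hXg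
    have := congrArg (· * ((g⁻¹ : GL (Fin 2 ⊕ Fin 2) F) : Matrix _ _ F)) hXg
    simpa [mul_assoc] using this
  by_cases h0 : ε 0 = 1
  · refine ⟨g, hg, ?_⟩
    rw [hXg]
    congr 2
    funext t
    have h1 : ε 1 = -1 := (hε 1).resolve_left fun h => hne (h0.trans h.symm)
    rcases t with i | i <;> fin_cases i <;> simp [h0, h1]
  · have h0' : ε 0 = -1 := (hε 0).resolve_left h0
    have h1 : ε 1 = 1 := (hε 1).resolve_right fun h => hne (h0'.trans h.symm)
    let π : Equiv.Perm (Fin 2) := Equiv.swap 0 1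
    let P : Matrix (Fin 2 ⊕ Fin 2) (Fin 2 ⊕ Fin 2) F := (Equiv.sumCongr π π).toPEquiv.toMatrix
    have hP : ∀ v, P *ᵥ v = v ∘ Equiv.sumCongr π π := fun v => by
      funext t
      simp [P, Matrix.mulVec, dotProduct, PEquiv.toMatrix_apply, eq_comm]
    obtain ⟨h, hh, hhv⟩ := S5976.exists_gl_of_linear (Matrix.toLin' P) fun u v => by
      rw [Matrix.toLin'_apply, Matrix.toLin'_apply, hP, hP, sympForm_eq, sympForm_eq]
      exact Fintype.sum_equiv π _ _ fun i => rfl
    refine ⟨g * h, Subgroup.mul_mem _ hg hh, ?_⟩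
    rw [Units.val_mul, ← mul_assoc, hXg, mul_assoc, mul_assoc]
    congr 1
    refine Matrix.ext_iff_mulVec.2 fun v => ?_
    rw [← Matrix.mulVec_mulVec, ← Matrix.mulVec_mulVec, hhv, hhv, Matrix.toLin'_apply, Matrix.toLin'_apply, hP, hP]
    funext t
    rcases t with i | i <;> fin_cases i <;> simp [π, Matrix.mulVec_diagonal, h0', h1]

theorem scalar_sq {x : GL4} (hx : x ∈ Cfsg.spGL 2 F) {c : F} (hc : (x : M4) = c • 1) : c * c = 1 := by
  have h5 := S5976.mem_spGL.1 hx (Pi.single (.inr 0) 1) (Pi.single (.inl 0) 1)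
  rw [hc, Matrix.smul_mulVec, Matrix.one_mulVec, Matrix.smul_mulVec, Matrix.one_mulVec, S5976.sf_eq_spB] at h5
  simp only [map_smul, LinearMap.smul_apply, smul_eq_mul] at h5
  have h4 : spB 2 F (Pi.single (.inr 0) 1) (Pi.single (.inl 0) 1) = (1 : F) := by
    rw [spB_single]; simp [Matrix.J]
  rw [← S5976.sf_eq_spB (Pi.single (.inr 0) 1), S5976.sf_eq_spB, h4, mul_one] at h5
  exact h5

theorem nonscalar {x : GL4} (hx : x ∈ Cfsg.spGL 2 F) {r : ℕ} (hr : Odd r) (hxr : x ^ r = 1) (hx1 : x ≠ 1) (c : F) :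
    (x : M4) ≠ c • 1 := by
  intro hc
  have hcc := scalar_sq hx hc
  have hcr : c ^ r = 1 := by
    have h1 := congrArg Units.val hxr
    rw [Units.val_pow_eq_pow_val, hc, smul_pow, one_pow, Units.val_one] at h1
    simpa using congrFun (congrFun h1 (.inl 0)) (.inl 0)
  rcases mul_self_eq_one_iff.1 hcc with h | h
  · exact hx1 (Units.ext (by rw [hc, h, one_smul, Units.val_one]))
  · rw [h, hr.neg_one_pow] at hcr
    exact hx1 (Units.ext (by rw [hc, h, hcr, one_smul, Units.val_one]))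

theorem trace_inv {x : GL4} (hx : x ∈ Cfsg.spGL 2 F) : ((x⁻¹ : GL4) : M4).trace = (x : M4).trace := by
  have hm : (x : M4) ∈ Matrix.symplecticGroup (Fin 2) F :=
    (mem_symplectic_iff_form _).2 (S5976.mem_spGL.1 hx)
  have hJ : (Matrix.J (Fin 2) F) * Matrix.J (Fin 2) F = -1 := Matrix.J_squared (Fin 2) F
  have h1 : (x : M4) * (Matrix.J (Fin 2) F * (x : M4)ᵀ * -Matrix.J (Fin 2) F) = 1 := by
    rw [mul_assoc (Matrix.J (Fin 2) F), ← mul_assoc, ← mul_assoc, SymplecticGroup.mem_iff.1 hm, mul_neg, hJ, neg_neg]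
  rw [Units.inv_eq_of_mul_eq_one_right h1, Matrix.trace_mul_comm, ← mul_assoc, neg_mul, hJ, neg_neg, one_mul,
    Matrix.trace_transpose]

/-- An element of order r inside Sp_2 × 1. -/
theorem exists_plane [Fintype F] {q r : ℕ} [hr : Fact r.Prime] (hq : Fintype.card F = q) (hrodd : Odd r)
    (hdvd : r ∣ q ^ 2 - 1) :
    ∃ x : GL4, x ∈ Cfsg.spGL 2 F ∧ x ^ r = 1 ∧ x ≠ 1 ∧ ∃ (μ : F) (Y : Matrix (Fin 1 ⊕ Fin 1) (Fin 1 ⊕ Fin 1) F),
      (x : M4).trace = 2 + μ ∧ Y * Y = μ • Y - 1 ∧ Y ^ r = 1 ∧ ∀ c : F, Y ≠ c • 1 := by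
  classical
  have hcard : r ∣ Nat.card (Matrix.symplecticGroup (Fin 1) F) := by
    rw [card_sp, hq]
    simpa using hdvd.mul_left q
  obtain ⟨y, hy⟩ := exists_prime_orderOf_dvd_card' r hcard
  set Y : Matrix (Fin 1 ⊕ Fin 1) (Fin 1 ⊕ Fin 1) F := (y : Matrix (Fin 1 ⊕ Fin 1) (Fin 1 ⊕ Fin 1) F) with hY
  have hYr : Y ^ r = 1 := by rw [hY, ← SubmonoidClass.coe_pow, ← hy, pow_orderOf_eq_one]; rfl
  set a := Y (.inl 0) (.inl 0)
  set b := Y (.inl 0) (.inr 0)
  set c := Y (.inr 0) (.inl 0)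
  set d := Y (.inr 0) (.inr 0)
  have hdet : a * d - b * c = 1 := by
    have h := (mem_symplectic_iff_form Y).1 y.2 (Pi.single (.inr 0) 1) (Pi.single (.inl 0) 1)
    rw [sympForm_eq, sympForm_eq] at h
    simp [a, b, c, d] at h ⊢
    linear_combination h
  let f : Matrix (Fin 1 ⊕ Fin 1) (Fin 1 ⊕ Fin 1) F → M4 := fun M => Matrix.fromBlocks
    (Matrix.diagonal ![M (.inl 0) (.inl 0), 1]) (Matrix.diagonal ![M (.inl 0) (.inr 0), 0])
    (Matrix.diagonal ![M (.inr 0) (.inl 0), 0]) (Matrix.diagonal ![M (.inr 0) (.inr 0), 1])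
  have hfmul : ∀ M N, f M * f N = f (M * N) := by
    intro M N
    simp only [f, Matrix.fromBlocks_multiply, Matrix.diagonal_mul_diagonal, Matrix.diagonal_add]
    congr 2 <;> funext i <;> fin_cases i <;> simp [Matrix.mul_apply, Fintype.sum_sum_type]
  have hf1 : f 1 = 1 := by
    have e1 : (![1, 1] : Fin 2 → F) = fun _ => 1 := by funext i; fin_cases i <;> rfl
    have e0 : (![0, 0] : Fin 2 → F) = fun _ => 0 := by funext i; fin_cases i <;> rfl
    simp [f, Matrix.one_apply, e1, e0, Matrix.diagonal_one, Matrix.diagonal_zero, Matrix.fromBlocks_one]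
  have hfp : ∀ k : ℕ, f Y ^ k = f (Y ^ k) := by
    intro k
    induction k with
    | zero => rw [pow_zero, pow_zero, hf1]
    | succ k ih => rw [pow_succ, ih, hfmul, pow_succ]
  have hXr : f Y ^ r = 1 := by rw [hfp, hYr, hf1]
  let x : GL4 := (IsUnit.of_pow_eq_one hXr hr.out.ne_zero).unit
  have hxv : (x : M4) = f Y := rfl
  have hne : ∀ s : F, Y ≠ s • 1 := by
    intro s hs
    have hss : s * s = 1 := by
      rw [← hdet]
      simp [a, b, c, d, hs]
    have hsr : s ^ r = 1 := by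
      rw [hs, smul_pow, one_pow] at hYr
      simpa using congrFun (congrFun hYr (.inl 0)) (.inl 0)
    have hs1 : s = 1 := by
      rcases mul_self_eq_one_iff.1 hss with h | h
      · exact h
      · rw [h, hrodd.neg_one_pow] at hsr; rw [h]; exact hsr
    rw [hs1, one_smul] at hs
    rw [show y = 1 from Subtype.ext hs, orderOf_one] at hy
    exact hr.out.ne_one hy.symm
  refine ⟨x, S5976.mem_spGL.2 fun u v => ?_, Units.ext (by rw [Units.val_pow_eq_pow_val, hxv, hXr, Units.val_one]), ?_,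
    a + d, Y, ?_, ?_, hYr, hne⟩
  · rw [hxv, sympForm_eq, sympForm_eq]
    simp [f, Matrix.fromBlocks_mulVec, Matrix.mulVec_diagonal, Fin.sum_univ_two]
    linear_combination (u (.inr 0) * v (.inl 0) - u (.inl 0) * v (.inr 0)) * hdet
  · intro h1
    refine hne 1 ?_
    have h2 : f Y = 1 := by rw [← hxv, h1, Units.val_one]
    have h00 := congrFun (congrFun h2 (.inl 0)) (.inl 0)
    have h01 := congrFun (congrFun h2 (.inl 0)) (.inr 0)
    have h10 := congrFun (congrFun h2 (.inr 0)) (.inl 0)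
    have h11 := congrFun (congrFun h2 (.inr 0)) (.inr 0)
    simp [f] at h00 h01 h10 h11
    ext (i | i) (j | j) <;> fin_cases i <;> fin_cases j <;> simp [h00, h01, h10, h11]
  · rw [hxv]
    simp [f, Matrix.trace, Fintype.sum_sum_type, Fin.sum_univ_two, a, d]
    ring
  · ext (i | i) (j | j) <;> fin_cases i <;> fin_cases j <;>
      simp [Matrix.mul_apply, Fintype.sum_sum_type, a, b, c, d] <;>
      first | linear_combination (-1 : F) * hdet | ring

/-- A non-trivial element of order 3 or 5 in Sp_2 satisfies its cyclotomic equation. -/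
theorem trace_eq_three {μ : F} {Y : Matrix (Fin 1 ⊕ Fin 1) (Fin 1 ⊕ Fin 1) F} (hY : Y * Y = μ • Y - 1)
    (h3 : Y ^ 3 = 1) (hns : ∀ c : F, Y ≠ c • 1) : μ + 1 = 0 := by
  by_contra hne
  have h : ((μ + 1) * (μ - 1)) • Y = (μ + 1) • 1 := by
    rw [pow_succ, pow_two, hY, sub_mul, one_mul, smul_mul_assoc, hY, smul_sub, smul_smul] at h3
    calc ((μ + 1) * (μ - 1)) • Y = (μ * μ) • Y - μ • 1 - Y + μ • 1 := by
          rw [show (μ + 1) * (μ - 1) = μ * μ - 1 by ring, sub_smul, one_smul]; abel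
      _ = (μ + 1) • 1 := by rw [h3, add_smul, one_smul, add_comm]
  by_cases h1 : μ - 1 = 0
  · rw [h1, mul_zero, zero_smul] at h
    exact hne (by simpa using (congrFun (congrFun h (.inl 0)) (.inl 0)).symm)
  · refine hns (μ - 1)⁻¹ ?_
    have := congrArg (((μ + 1) * (μ - 1))⁻¹ • ·) h
    simp only [inv_smul_smul₀ (mul_ne_zero hne h1), smul_smul] at this
    rw [this]
    congr 1
    field_simp

theorem trace_eq_five {μ : F} {Y : Matrix (Fin 1 ⊕ Fin 1) (Fin 1 ⊕ Fin 1) F} (hY : Y * Y = μ • Y - 1)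
    (h5 : Y ^ 5 = 1) (hns : ∀ c : F, Y ≠ c • 1) : μ * μ + μ - 1 = 0 := by
  by_contra hne
  have h3 : Y ^ 3 = (μ * μ - 1) • Y - μ • 1 := by
    rw [pow_succ, pow_two, hY, sub_mul, one_mul, smul_mul_assoc, hY, smul_sub, smul_smul, sub_smul, one_smul]
    abel
  have h5' : (μ ^ 4 - 3 * μ ^ 2 + 1) • Y = (1 + (μ ^ 3 - 2 * μ)) • 1 := by
    have e : Y ^ 5 = (μ ^ 4 - 3 * μ ^ 2 + 1) • Y - (μ ^ 3 - 2 * μ) • 1 := by
      rw [show Y ^ 5 = Y ^ 3 * (Y * Y) by rw [← pow_two, ← pow_add], h3, hY, sub_mul, mul_sub, mul_one, mul_sub,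
        mul_one, smul_mul_assoc, mul_smul_comm, hY, smul_sub, smul_sub, smul_smul, smul_smul, Matrix.smul_mul,
        one_mul, smul_smul]
      module
    calc (μ ^ 4 - 3 * μ ^ 2 + 1) • Y = Y ^ 5 + (μ ^ 3 - 2 * μ) • 1 := by rw [e, sub_add_cancel]
      _ = _ := by rw [h5, add_smul, one_smul]
  by_cases h1 : μ ^ 4 - 3 * μ ^ 2 + 1 = 0
  · rw [h1, zero_smul] at h5'
    have hb : 1 + (μ ^ 3 - 2 * μ) = 0 := by
      simpa using (congrFun (congrFun h5' (.inl 0)) (.inl 0)).symm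
    have h2 : μ * μ - μ - 1 = 0 :=
      (mul_eq_zero.1 (show (μ * μ + μ - 1) * (μ * μ - μ - 1) = 0 by linear_combination h1)).resolve_left hne
    exact hns 1 (absurd (show (2 : F) = 0 by linear_combination hb - (μ + 1) * h2) fun h20 => hne (by
      linear_combination h2 + μ * h20))
  · refine hns ((μ ^ 4 - 3 * μ ^ 2 + 1)⁻¹ * (1 + (μ ^ 3 - 2 * μ))) ?_
    have := congrArg ((μ ^ 4 - 3 * μ ^ 2 + 1)⁻¹ • ·) h5'
    simpa only [inv_smul_smul₀ h1, smul_smul] using this

/-- When p has order 4 modulo 5 the cyclic subgroups of order five of Sp_4(p) are conjugate. -/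
theorem conj_five [Fintype F] {q : ℕ} (hq : Fintype.card F = q) (h5q : orderOf (q : ZMod 5) = 4) (h5 : (5 : F) ≠ 0)
    {x y : GL4} (hx : x ∈ Cfsg.spGL 2 F) (hy : y ∈ Cfsg.spGL 2 F) (hx5 : x ^ 5 = 1) (hy5 : y ^ 5 = 1)
    (hx1 : x ≠ 1) (hy1 : y ≠ 1) : ∃ g ∈ Cfsg.spGL 2 F, g⁻¹ * x * g ∈ Subgroup.zpowers y := by
  classical
  haveI : Fact (Nat.Prime 5) := ⟨by norm_num⟩
  have hq5 : ¬ 5 ∣ q := fun h => by
    rw [(ZMod.natCast_eq_zero_iff q 5).2 h, orderOf_eq_iff (by norm_num)] at h5q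
    exact absurd h5q.1 (by decide)
  have hsum : ∀ z : GL4, z ^ 5 = 1 → z ≠ 1 → ∑ k ∈ Finset.range 5, (z : M4) ^ k = 0 := by
    intro z hz hz1
    have hrk := PrimeElem.le_rank_sub_one (r := 5) hq hq5 (by exact_mod_cast h5)
      (M := (z : M4)) (by rw [← Units.val_pow_eq_pow_val, hz, Units.val_one]) (fun h => hz1 (Units.ext h))
    have hu : IsUnit ((z : M4) - 1) := by
      refine Matrix.mulVec_injective_iff_isUnit.1 ?_
      have hk := LinearMap.finrank_range_add_finrank_ker ((z : M4) - 1).mulVecLin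
      rw [← Matrix.rank, Module.finrank_fintype_fun_eq_card, Fintype.card_sum, Fintype.card_fin] at hk
      have hk0 : Module.finrank F (LinearMap.ker ((z : M4) - 1).mulVecLin) = 0 := by omega
      exact LinearMap.ker_eq_bot.1 (Submodule.finrank_eq_zero.1 hk0)
    refine hu.mul_left_eq_zero.1 ?_
    rw [geom_sum_mul, ← Units.val_pow_eq_pow_val, hz, Units.val_one, sub_self]
  have hne : ∀ z w : GL4, z ^ 5 = 1 → w ^ 5 = 1 → z ≠ 1 → w ≠ 1 → Commute z w → w ∈ Subgroup.zpowers z := by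
    intro z w hz hw hz1 hw1 hc
    by_contra hnot
    have hzw : ∀ a ∈ Finset.range 5, ∑ k ∈ Finset.range 5, (z : M4) ^ k * ((w : M4) ^ k) ^ a = 0 := by
      intro a ha
      have hcp : Commute z (w ^ a) := hc.pow_right a
      have h1 : z * w ^ a ≠ 1 := by
        intro h
        have hwa : w ^ a = z⁻¹ := eq_inv_of_mul_eq_one_right h
        have ha5 : a < 5 := Finset.mem_range.1 ha
        have key : ∀ b : ℕ, a * b % 5 = 1 → False := fun b hb => hnot <| by
          have e : w = (w ^ a) ^ b := by rw [← pow_mul, pow_eq_pow_mod _ hw, hb, pow_one]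
          rw [e, hwa]
          exact Subgroup.pow_mem _ (Subgroup.inv_mem _ (Subgroup.mem_zpowers z)) b
        interval_cases a
        · exact hz1 (by simpa using h)
        · exact key 1 (by norm_num)
        · exact key 3 (by norm_num)
        · exact key 2 (by norm_num)
        · exact key 4 (by norm_num)
      have := hsum (z * w ^ a) (by rw [hcp.mul_pow, hz, ← pow_mul, mul_comm, pow_mul, hw, one_pow, one_mul]) h1
      rw [← this]
      refine Finset.sum_congr rfl fun k _ => ?_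
      rw [← pow_mul, mul_comm k a, pow_mul, ← Units.val_pow_eq_pow_val, ← Units.val_pow_eq_pow_val,
        ← Units.val_pow_eq_pow_val, ← Units.val_pow_eq_pow_val, ← Units.val_mul, ← hcp.mul_pow]
    have h0 := Finset.sum_eq_zero hzw
    rw [Finset.sum_comm, Finset.sum_eq_single 0] at h0
    · have hfive : (5 : F) = 0 := by
        have := congrFun (congrFun h0 (.inl 0)) (.inl 0)
        simpa using this
      exact h5 hfive
    · intro k hk hk0
      rw [← Finset.mul_sum, show ∑ a ∈ Finset.range 5, ((w : M4) ^ k) ^ a = 0 from ?_, mul_zero]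
      rw [← Units.val_pow_eq_pow_val]
      refine hsum (w ^ k) (by rw [← pow_mul, mul_comm, pow_mul, hw, one_pow]) fun h => ?_
      have hor : orderOf w = 5 := orderOf_eq_prime hw hw1
      have := orderOf_dvd_of_pow_eq_one h
      rw [hor] at this
      have hk5 := Finset.mem_range.1 hk
      exact hk0 (by omega)
    · exact fun h => absurd (Finset.mem_range.2 (by norm_num)) h
  let S := Cfsg.spGL 2 F
  haveI : Finite S := inferInstance
  let x' : S := ⟨x, hx⟩
  let y' : S := ⟨y, hy⟩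
  have hx' : x' ^ 5 = 1 := Subtype.ext hx5
  have hy' : y' ^ 5 = 1 := Subtype.ext hy5
  have isp : ∀ {z : S}, z ^ 5 = 1 → IsPGroup 5 (Subgroup.zpowers z) := fun {z} hz => by
    rintro ⟨w, n, rfl⟩
    refine ⟨1, Subtype.ext ?_⟩
    show (z ^ n) ^ (5 ^ 1) = 1
    rw [pow_one, ← zpow_natCast, ← _root_.zpow_mul, mul_comm, _root_.zpow_mul, zpow_natCast, hz, _root_.one_zpow]
  obtain ⟨P, hP⟩ := (isp hx').exists_le_sylow
  obtain ⟨Q, hQ⟩ := (isp hy').exists_le_sylow
  obtain ⟨h, hh⟩ := MulAction.exists_smul_eq S Q P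
  have hxP : x' ∈ (P : Subgroup S) := hP (Subgroup.mem_zpowers x')
  have hyP : h * y' * h⁻¹ ∈ (P : Subgroup S) := by
    rw [← hh, Sylow.coe_subgroup_smul]
    exact Subgroup.smul_mem_pointwise_smul _ (MulAut.conj h) _ (hQ (Subgroup.mem_zpowers y'))
  haveI : Nontrivial (P : Subgroup S) :=
    ⟨⟨x', hxP⟩, 1, fun e => hx1 (congrArg Subtype.val (congrArg Subtype.val e))⟩
  haveI := P.isPGroup'.center_nontrivial
  obtain ⟨n, hn, hcard⟩ := (P.isPGroup'.to_subgroup (Subgroup.center (P : Subgroup S))).nontrivial_iff_card.1 inferInstance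
  obtain ⟨z, hz⟩ := exists_prime_orderOf_dvd_card' (G := Subgroup.center (P : Subgroup S)) 5
    (by rw [hcard]; exact dvd_pow_self _ (by omega))
  have hz5 : ((z : (P : Subgroup S)) : S).1 ^ 5 = 1 := by
    have := congrArg (fun w : Subgroup.center (P : Subgroup S) => ((w : (P : Subgroup S)) : S).1) (hz ▸ pow_orderOf_eq_one z)
    simpa using this
  have hz1 : ((z : (P : Subgroup S)) : S).1 ≠ 1 := by
    intro e
    rw [show z = 1 from Subtype.ext (Subtype.ext (Subtype.ext e)), orderOf_one] at hz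
    norm_num at hz
  have hcom : ∀ w : S, w ∈ (P : Subgroup S) → Commute ((z : (P : Subgroup S)) : S).1 w.1 := fun w hw => by
    have := Subgroup.mem_center_iff.1 z.2 ⟨w, hw⟩
    exact (congrArg (fun a : (P : Subgroup S) => (a : S).1) this).symm
  set Z := ((z : (P : Subgroup S)) : S).1
  have hyc : (h.1 * y * h.1⁻¹) ^ 5 = 1 ∧ h.1 * y * h.1⁻¹ ≠ 1 := by
    refine ⟨by rw [conj_pow, hy5, mul_one, mul_inv_cancel], fun e => hy1 ?_⟩
    exact conj_eq_one_iff.1 e
  have hxz : x ∈ Subgroup.zpowers Z := hne Z x hz5 hx5 hz1 hx1 (hcom x' hxP)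
  have hyz : h.1 * y * h.1⁻¹ ∈ Subgroup.zpowers Z := hne Z _ hz5 hyc.1 hz1 hyc.2 (hcom _ hyP)
  have hzy : Z ∈ Subgroup.zpowers (h.1 * y * h.1⁻¹) := by
    refine hne _ Z hyc.1 hz5 hyc.2 hz1 ?_
    exact (hcom _ hyP).symm
  have hmem : x ∈ Subgroup.zpowers (h.1 * y * h.1⁻¹) := (Subgroup.zpowers_le.2 hzy) hxz
  obtain ⟨m, hm⟩ := hmem
  refine ⟨h.1, h.2, m, ?_⟩
  show y ^ m = h.1⁻¹ * x * h.1
  rw [← hm, show (fun n : ℤ => (h.1 * y * h.1⁻¹) ^ n) m = (h.1 * y * h.1⁻¹) ^ m from rfl, conj_zpow]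
  group

open Cfsg.Agent.H98.Extraspecial

/-- Elements of prime order of PSp_4(p), p odd, and the normalizer of an extraspecial 2-group of order 2⁵ of minus type. Here `T = PSp_4(F)` for the field `F` with `p` elements, `p` an odd prime, realised through the matrices preserving the standard alternating form `f`; `R` is an absolutely irreducible subgroup of `T` (it preserves `f`) that is a 2-group of symplectic type of exponent 4, order 2⁵ and centre of order 2, of minus type (no elementary abelian subgroup of order 2³), and `H` is the subgroup of `T` normalizing `R` — a subgroup of type 2^{1+4}.O₄⁻(2) (maximality is not assumed). Ω is the set of cosets of `H` in `T`, so an element of `T` of prime order `r` (`x ∈ T` with `x^r` scalar, `x` not scalar) fixes a point of Ω exactly when some `T`-conjugate of `x` normalizes `R`. Let `r` be a prime dividing the index of `H`. Then every element of `T` of order `r` fixes a point of Ω if and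 only if `r = 2`, or `r = 5` and `p` has multiplicative order 4 modulo 5. -/
theorem result {F : Type*} [Field F] [Fintype F] {p : ℕ} [Fact p.Prime] [CharP F p] (hF : Fintype.card F = p) (hodd : Odd p)
    (R : Subgroup (GL (Fin 2 ⊕ Fin 2) F)) (hRs : Cfsg.Geo.IsSymplecticTypeGroup 2 R) (hRi : Cfsg.Geo.ActsAbsolutelyIrreducibly (Cfsg.Geo.matrixSet R))
    (hRf : R ≤ Cfsg.spGL 2 F) (hR5 : Nat.card R = 2 ^ 5) (hRZ : Nat.card (Subgroup.center R) = 2) (hRm : Cfsg.Geo.IsOfMinusType 2 R)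
    (r : ℕ) [Fact r.Prime]
    (hΩ : r ∣ (Cfsg.Geo.subgroupNormalizer R).relIndex (Cfsg.spGL 2 F)) :
    (∀ x ∈ Cfsg.spGL 2 F, (∃ z : F, ((x ^ r : GL (Fin 2 ⊕ Fin 2) F) : Matrix (Fin 2 ⊕ Fin 2) (Fin 2 ⊕ Fin 2) F) = z • (1 : Matrix (Fin 2 ⊕ Fin 2) (Fin 2 ⊕ Fin 2) F)) →
      (∀ z : F, (x : Matrix (Fin 2 ⊕ Fin 2) (Fin 2 ⊕ Fin 2) F) ≠ z • (1 : Matrix (Fin 2 ⊕ Fin 2) (Fin 2 ⊕ Fin 2) F)) →
      ∃ g ∈ Cfsg.spGL 2 F, g⁻¹ * x * g ∈ Cfsg.Geo.subgroupNormalizer R) ↔ (r = 2 ∨ (r = 5 ∧ orderOf (p : ZMod 5) = 4)) := by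
  classical
  have hp := (Fact.out : p.Prime)
  have hr := (Fact.out : r.Prime)
  have h2p : p ≠ 2 := fun h => by subst h; exact absurd hodd (by decide)
  have hcast : ∀ s : ℕ, s.Prime → p ≠ s → (s : F) ≠ 0 := fun s hs hne h =>
    hne ((Nat.prime_dvd_prime_iff_eq hp hs).1 ((CharP.cast_eq_zero_iff F p s).1 h))
  have h2 : (2 : F) ≠ 0 := by exact_mod_cast hcast 2 Nat.prime_two h2p
  have hM := minus_of_data h2 hRs hRi hR5 hRZ hRm
  have hnorm : ∀ g : GL (Fin 2 ⊕ Fin 2) F,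
      g ∈ Cfsg.Geo.subgroupNormalizer R ↔ ∀ w, w ∈ R ↔ g * w * g⁻¹ ∈ R := fun g => Subgroup.mem_normalizer_iff
  have hRN : ∀ w ∈ R, w ∈ Cfsg.Geo.subgroupNormalizer R := fun w hw => Subgroup.le_normalizer hw
  constructor
  · intro H
    by_contra hcon
    have hr2 : r ≠ 2 := fun h => hcon (Or.inl h)
    have hrodd : Odd r := hr.odd_of_ne_two hr2
    -- consequences for an element of order r
    have key : ∀ x ∈ Cfsg.spGL 2 F, x ^ r = 1 → x ≠ 1 →
        ((r = 3 ∧ (8 : F) * ((x : Matrix (Fin 2 ⊕ Fin 2) (Fin 2 ⊕ Fin 2) F).trace * (x : Matrix (Fin 2 ⊕ Fin 2) (Fin 2 ⊕ Fin 2) F).trace) = 4 * 8) ∨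
          (r = 5 ∧ (8 : F) * ((x : Matrix (Fin 2 ⊕ Fin 2) (Fin 2 ⊕ Fin 2) F).trace * (x : Matrix (Fin 2 ⊕ Fin 2) (Fin 2 ⊕ Fin 2) F).trace) = 4 * 2)) ∧
          ((x : Matrix (Fin 2 ⊕ Fin 2) (Fin 2 ⊕ Fin 2) F) - 1).rank ≠ 1 := by
      intro x hx hxr hx1
      obtain ⟨g₀, hg₀, hgN⟩ := H x hx ⟨1, by rw [hxr, one_smul, Units.val_one]⟩ (nonscalar hx hrodd hxr hx1)
      set g := g₀⁻¹ * x * g₀ with hg
      have hN := (hnorm g).1 hgN
      have hgsp : g ∈ Cfsg.spGL 2 F := Subgroup.mul_mem _ (Subgroup.mul_mem _ (Subgroup.inv_mem _ hg₀) hx) hg₀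
      have hgr : g ^ r = 1 := by
        have : g ^ r = g₀⁻¹ * x ^ r * g₀ := by simpa [hg] using conj_pow (i := r) (a := g₀⁻¹) (b := x)
        rw [this, hxr]; simp
      have hg1 : g ≠ 1 := fun h => hx1 (by
        have := congrArg (fun w => g₀ * w * g₀⁻¹) h
        simpa [hg, mul_assoc] using this)
      have htr : (g : Matrix (Fin 2 ⊕ Fin 2) (Fin 2 ⊕ Fin 2) F).trace = (x : Matrix (Fin 2 ⊕ Fin 2) (Fin 2 ⊕ Fin 2) F).trace := by
        rw [hg, Units.val_mul, Units.val_mul, Matrix.trace_units_conj']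
      have hrk : ((g : Matrix (Fin 2 ⊕ Fin 2) (Fin 2 ⊕ Fin 2) F) - 1).rank = ((x : Matrix (Fin 2 ⊕ Fin 2) (Fin 2 ⊕ Fin 2) F) - 1).rank := by
        have : (g : Matrix (Fin 2 ⊕ Fin 2) (Fin 2 ⊕ Fin 2) F) - 1 =
            (g₀⁻¹).val * ((x : Matrix (Fin 2 ⊕ Fin 2) (Fin 2 ⊕ Fin 2) F) - 1) * g₀.val := by
          rw [hg, Units.val_mul, Units.val_mul, Matrix.mul_sub, Matrix.sub_mul, Matrix.mul_one, Units.inv_mul]
        rw [this, Matrix.rank_mul_eq_left_of_isUnit_det _ _ ((Matrix.isUnit_iff_isUnit_det _).1 (Units.isUnit _)),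
          Matrix.rank_mul_eq_right_of_isUnit_det _ _ ((Matrix.isUnit_iff_isUnit_det _).1 (Units.isUnit _))]
      have htm := hM.trace_mul_trace (by simp) hN hrodd hgr
      rw [trace_inv hgsp, htr] at htm
      rw [← hrk]
      rcases hM.cases hN hrodd hgr (nonscalar hgsp hrodd hgr hg1) with
        ⟨h3, hC, t, ht, s, hs, hgt, hgs, hts⟩ | ⟨h5, hC, hfix⟩
      · exact ⟨Or.inl ⟨h3, by rw [htm, hC]; norm_num⟩, hM.rank_ne_one_of_pair ht hs hgt hgs hts⟩
      · exact ⟨Or.inr ⟨h5, by rw [htm, hC]; norm_num⟩,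
          hM.rank_ne_one_of_fix hN hrodd hgr (by simp) hfix⟩
    have h35 : r = 3 ∨ r = 5 := by
      have hdvd : r ∣ Nat.card (Cfsg.spGL 2 F) := hΩ.trans (Subgroup.relIndex_dvd_card _ _)
      obtain ⟨x, hx⟩ := exists_prime_orderOf_dvd_card' r hdvd
      have hxr : (x : GL (Fin 2 ⊕ Fin 2) F) ^ r = 1 := by
        rw [← Subgroup.coe_pow, ← hx, pow_orderOf_eq_one]; rfl
      have hx1 : (x : GL (Fin 2 ⊕ Fin 2) F) ≠ 1 := fun h => hr.ne_one (by
        rw [← hx, show x = 1 from Subtype.ext h, orderOf_one])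
      rcases (key x x.2 hxr hx1).1 with h | h
      exacts [Or.inl h.1, Or.inr h.1]
    by_cases hrp : r = p
    · obtain ⟨x, hx, hxp, hrk⟩ := S5980.exists_transvection (F := F) (d := 2) (by norm_num) p
      have hx1 : x ≠ 1 := fun h => by
        rw [h, Units.val_one, sub_self, Matrix.rank_zero] at hrk
        exact zero_ne_one hrk
      exact (key x hx (Units.ext (by rw [Units.val_pow_eq_pow_val, hrp, hxp, Units.val_one])) hx1).2 hrk
    · have hp0 : (p : ZMod r) ≠ 0 := fun h =>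
        hrp ((Nat.prime_dvd_prime_iff_eq hr hp).1 ((ZMod.natCast_eq_zero_iff p r).1 h))
      have hord : (p : ZMod r) ^ 2 = 1 := by
        rcases h35 with h | h
        · subst h
          exact ZMod.pow_card_sub_one_eq_one hp0
        · subst h
          have h4 : orderOf (p : ZMod 5) ∣ 4 := orderOf_dvd_of_pow_eq_one (ZMod.pow_card_sub_one_eq_one hp0)
          have h4' : orderOf (p : ZMod 5) ≠ 4 := fun h => hcon (Or.inr ⟨rfl, h⟩)
          have : orderOf (p : ZMod 5) ∣ 2 := by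
            have hle := Nat.le_of_dvd (by norm_num) h4
            interval_cases (orderOf (p : ZMod 5)) <;> first | exact absurd rfl h4' | (norm_num at h4 ⊢; done) | omega
          exact orderOf_dvd_iff_pow_eq_one.1 this
      have hdvd : r ∣ p ^ 2 - 1 := by
        rw [← ZMod.natCast_eq_zero_iff, Nat.cast_sub (Nat.one_le_pow _ _ hp.pos), Nat.cast_pow, hord, Nat.cast_one,
          sub_self]
      obtain ⟨x, hx, hxr, hx1, μ, Y, htr, hY, hYr, hYns⟩ := exists_plane hF hrodd hdvd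
      obtain ⟨hk, -⟩ := key x hx hxr hx1
      rw [htr] at hk
      have h8 : (8 : F) ≠ 0 := by rw [show (8 : F) = 2 * 2 * 2 by norm_num]; simp [h2]
      rcases hk with ⟨h3, hk⟩ | ⟨h5, hk⟩
      · subst h3
        have hμ := trace_eq_three hY hYr hYns
        refine hcast 3 Nat.prime_three (Ne.symm hrp) ?_
        rcases mul_eq_zero.1 (show (8 : F) * 3 = 0 by linear_combination -hk + 8 * (μ + 3) * hμ) with h | h
        exacts [absurd h h8, by exact_mod_cast h]
      · subst h5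
        have hμ := trace_eq_five hY hYr hYns
        refine hcast 5 (by norm_num) (Ne.symm hrp) ?_
        have h1 : (2 + μ) * (2 + μ) = 1 := mul_left_cancel₀ h8 (by linear_combination hk)
        have h3μ : 3 * μ + 4 = 0 := by linear_combination h1 - hμ
        push_cast
        linear_combination (3 * μ - 1) * h3μ - 9 * hμ
  · intro hcase x hx ⟨z, hz⟩ hns
    have hzz := scalar_sq (Subgroup.pow_mem _ hx r) hz
    rcases hcase with rfl | ⟨rfl, h5⟩
    · -- involutions modulo scalars lie in R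
      obtain ⟨t, ht, htt, ht1, ht2⟩ := hM.exists_inv
      obtain ⟨i, j, k, u, hq⟩ := exists_quad hM
      set X := (x : Matrix (Fin 2 ⊕ Fin 2) (Fin 2 ⊕ Fin 2) F) with hXdef
      have hXX : X * X = z • 1 := by rw [← hz, sq, Units.val_mul]
      have hXv : ∀ v, X *ᵥ (X *ᵥ v) = z • v := fun v => by
        rw [Matrix.mulVec_mulVec, hXX, Matrix.smul_mulVec, Matrix.one_mulVec]
      have hadj : ∀ v w, Cfsg.sympForm 2 F (X *ᵥ v) w = z * Cfsg.sympForm 2 F v (X *ᵥ w) := fun v w => by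
        have h1 := S5976.mem_spGL.1 hx (X *ᵥ v) w
        rw [← hXdef, hXv] at h1
        rw [← h1, S5976.sf_eq_spB, map_smul, LinearMap.smul_apply, smul_eq_mul, ← S5976.sf_eq_spB]
      rcases mul_self_eq_one_iff.1 hzz with rfl | rfl
      · have hTT : (t : Matrix (Fin 2 ⊕ Fin 2) (Fin 2 ⊕ Fin 2) F) * t = 1 := by
          rw [← Units.val_mul, htt, Units.val_one]
        have hTns : ∀ c : F, (t : Matrix (Fin 2 ⊕ Fin 2) (Fin 2 ⊕ Fin 2) F) ≠ c • 1 := by
          intro c hc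
          rcases mul_self_eq_one_iff.1 (scalar_sq (hRf ht) hc) with h | h
          · exact ht1 (Units.ext (by rw [hc, h, one_smul, Units.val_one]))
          · exact ht2 (Units.ext (by rw [hc, h, neg_one_smul, Units.val_neg, Units.val_one]))
        obtain ⟨g₁, hg₁, h₁⟩ := exists_diag_two h2 X (fun v => by rw [hXv, one_smul])
          (fun v w => by rw [hadj, one_mul]) hns
        obtain ⟨g₂, hg₂, h₂⟩ := exists_diag_two h2 _
          (fun v => by rw [Matrix.mulVec_mulVec, hTT, Matrix.one_mulVec]) (fun v w => by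
            have h1 := S5976.mem_spGL.1 (hRf ht) ((t : Matrix (Fin 2 ⊕ Fin 2) (Fin 2 ⊕ Fin 2) F) *ᵥ v) w
            rw [Matrix.mulVec_mulVec, hTT, Matrix.one_mulVec] at h1
            exact h1.symm) hTns
        refine ⟨g₁ * g₂⁻¹, Subgroup.mul_mem _ hg₁ (Subgroup.inv_mem _ hg₂), ?_⟩
        convert hRN t ht using 1
        apply Units.ext
        rw [show (g₁ * g₂⁻¹)⁻¹ * x * (g₁ * g₂⁻¹) = g₂ * (g₁⁻¹ * (x * g₁)) * g₂⁻¹ by group, Units.val_mul,
          Units.val_mul, Units.val_mul, Units.val_mul]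
        change _ * (_ * (X * _)) * _ = _
        rw [h₁, Units.inv_mul_cancel_left, ← h₂, Units.mul_inv_cancel_right]
      · have hII : (i : Matrix (Fin 2 ⊕ Fin 2) (Fin 2 ⊕ Fin 2) F) * i = (-1 : F) • 1 := by
          rw [← Units.val_mul, hq.ii, neg_one_smul, Units.val_neg, Units.val_one]
        obtain ⟨g₁, hg₁, h₁⟩ := S5976.exists_conj_Sa h2 (neg_ne_zero.2 (one_ne_zero (α := F))) X hXX
          (fun v w => by rw [hadj, neg_one_mul])
        obtain ⟨g₂, hg₂, h₂⟩ := S5976.exists_conj_Sa h2 (neg_ne_zero.2 (one_ne_zero (α := F))) _ hII (fun v w => by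
          have h1 := S5976.mem_spGL.1 (hRf hq.mi) ((i : Matrix (Fin 2 ⊕ Fin 2) (Fin 2 ⊕ Fin 2) F) *ᵥ v) w
          rw [Matrix.mulVec_mulVec, hII, Matrix.smul_mulVec, Matrix.one_mulVec, S5976.sf_eq_spB, map_smul,
            LinearMap.smul_apply, smul_eq_mul, neg_one_mul, ← S5976.sf_eq_spB] at h1
          exact h1.symm)
        refine ⟨g₁ * g₂⁻¹, Subgroup.mul_mem _ hg₁ (Subgroup.inv_mem _ hg₂), ?_⟩
        convert hRN i hq.mi using 1
        apply Units.ext
        rw [show (g₁ * g₂⁻¹)⁻¹ * x * (g₁ * g₂⁻¹) = g₂ * (g₁⁻¹ * (x * g₁)) * g₂⁻¹ by group, Units.val_mul,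
          Units.val_mul, Units.val_mul, Units.val_mul]
        change _ * (_ * (X * _)) * _ = _
        rw [h₁, Units.inv_mul_cancel_left, ← h₂, Units.mul_inv_cancel_right]
    · have hp5 : p ≠ 5 := by
        rintro rfl
        rw [ZMod.natCast_self, orderOf_eq_iff (by norm_num)] at h5
        exact absurd h5.1 (by decide)
      have h5F : (5 : F) ≠ 0 := by exact_mod_cast hcast 5 (by norm_num) hp5
      obtain ⟨y, hy, hyN, hy5, hy1⟩ := exists_five hM hRf
      have hyN' : Subgroup.zpowers y ≤ Cfsg.Geo.subgroupNormalizer R :=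
        Subgroup.zpowers_le.2 ((hnorm y).2 hyN)
      have hone : ∀ w ∈ Cfsg.spGL 2 F, w ^ 5 = 1 → w ≠ 1 →
          ∃ g ∈ Cfsg.spGL 2 F, g⁻¹ * w * g ∈ Cfsg.Geo.subgroupNormalizer R := by
        intro w hw hw5 hw1
        obtain ⟨g, hg, hm⟩ := conj_five hF h5 h5F hw hy hw5 hy5 hw1 hy1
        exact ⟨g, hg, hyN' hm⟩
      rcases mul_self_eq_one_iff.1 hzz with rfl | rfl
      · refine hone x hx (Units.ext (by rw [hz, one_smul, Units.val_one])) fun h => hns 1 ?_
        rw [h, one_smul, Units.val_one]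
      · have hm1 : (-1 : GL (Fin 2 ⊕ Fin 2) F) ∈ Cfsg.spGL 2 F := hRf hM.neg_one
        obtain ⟨g, hg, hm⟩ := hone (-x) (by simpa using Subgroup.mul_mem _ hm1 hx) (by
            rw [Odd.neg_pow (by decide)]
            exact Units.ext (by rw [Units.val_neg, hz, neg_one_smul, neg_neg, Units.val_one]))
          (fun h => hns (-1) (by rw [← neg_neg x, h, Units.val_neg, Units.val_one, neg_one_smul]))
        refine ⟨g, hg, ?_⟩
        simpa using Subgroup.mul_mem _ (hRN _ hM.neg_one) hm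


end Cfsg.Agent.S6002
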